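import Groth.Agent.Lib.Helper23.FBC4

/-!
# Flat base change of quasi-coherent cohomology along a field extension
-/
set_option autoImplicit false
set_option linter.style.haveILetI false
universe u
open CategoryTheory CategoryTheory.Limits Opposite TopologicalSpace AlgebraicGeometry
open Scheme.Modules TensorProduct

noncomputable section

namespace Groth.Agent.Lib.Helper23.FBC

open Groth.Agent.Lib.Helper23.T2 Groth.Agent.Lib.Helper3 Groth.Agent.Lib.Helper3.QCSec
  Groth.Agent.Lib.Helper3.InvGen Groth.Agent.Lib.Helper13 Groth.Agent.Lib.Helper13.SerreCrit1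
  Groth.Agent.Lib.Helper17.UnitBC

/-! ### linear versions of the maps of the long exact sequence -/

section Lin

variable {X : Scheme.{u}} (A : Type u) [CommRing A] [X.Over (Spec (CommRingCat.of A))]

def HmapK {M N : X.Modules} (φ : M ⟶ N) (n : ℕ) : Coh.HH X M n →ₗ[A] Coh.HH X N n where
  toFun := Hmap φ n
  map_add' := (Hmap φ n).map_add
  map_smul' c x := (Hmap φ n).map_smul (Coh.toGlobal (X ↘ Spec (CommRingCat.of A)) c) x

@[simp] lemma HmapK_apply {M N : X.Modules} (φ : M ⟶ N) (n : ℕ) (x : Coh.HH X M n) :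
    HmapK A φ n x = Hmap φ n x := rfl

def HδK (S : ShortComplex X.Modules) (hS : S.ShortExact) (n : ℕ) :
    Coh.HH X S.X₃ n →ₗ[A] Coh.HH X S.X₁ (n + 1) where
  toFun := Hδ S hS n
  map_add' := (Hδ S hS n).map_add
  map_smul' c x := (Hδ S hS n).map_smul (Coh.toGlobal (X ↘ Spec (CommRingCat.of A)) c) x

@[simp] lemma HδK_apply (S : ShortComplex X.Modules) (hS : S.ShortExact) (n : ℕ)
    (x : Coh.HH X S.X₃ n) : HδK A S hS n x = Hδ S hS n x := rfl

/-- if `H^n` and `H^{n+1}` of the middle term vanish, the connecting map is bijective -/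
theorem bijective_Hδ (S : ShortComplex X.Modules) (hS : S.ShortExact) (n : ℕ)
    (h1 : Subsingleton (Coh.HH X S.X₂ n)) (h2 : Subsingleton (Coh.HH X S.X₂ (n + 1))) :
    Function.Bijective (Hδ S hS n) := by
  constructor
  · rw [injective_iff_map_eq_zero]
    intro y hy
    obtain ⟨w, hw⟩ := exact₃ S hS n y hy
    rw [← hw, Subsingleton.elim w 0, map_zero]
  · intro z
    exact exact₁ S hS n z (Subsingleton.elim _ _)

theorem exact_Hmap_Hδ (S : ShortComplex X.Modules) (hS : S.ShortExact) (n : ℕ) :
    Function.Exact (HmapK A S.g n) (HδK A S hS n) := by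
  intro y
  constructor
  · intro hy
    obtain ⟨w, hw⟩ := exact₃ S hS n y hy
    exact ⟨w, hw⟩
  · rintro ⟨w, rfl⟩
    exact Hδ_Hmap_g S hS n w

theorem surjective_Hδ (S : ShortComplex X.Modules) (hS : S.ShortExact) (n : ℕ)
    (h2 : Subsingleton (Coh.HH X S.X₂ (n + 1))) : Function.Surjective (HδK A S hS n) := by
  intro z
  exact exact₁ S hS n z (Subsingleton.elim _ _)

end Lin

theorem exists_finite_affine_cover (X : Scheme.{u}) [CompactSpace X] :
    ∃ (ι : Type u) (_ : Fintype ι) (U : ι → X.Opens),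
      (∀ i, IsAffineOpen (U i)) ∧ ⨆ i, U i = ⊤ := by
  classical
  obtain ⟨t, ht⟩ := isCompact_univ.elim_finite_subcover
    (fun V : X.affineOpens => ((V.1 : X.Opens) : Set X)) (fun V => V.1.2) (by
      intro x _
      obtain ⟨V, hV, hxV⟩ := QCProps.exists_affine_nbhd x
      exact Set.mem_iUnion.mpr ⟨⟨V, hV⟩, hxV⟩)
  refine ⟨{V // V ∈ t}, inferInstance, fun i => i.1.1, fun i => i.1.2, ?_⟩
  rw [eq_top_iff]
  intro x _
  obtain ⟨V, hV⟩ := Set.mem_iUnion.mp (ht (Set.mem_univ x))
  obtain ⟨hVt, hxV⟩ := Set.mem_iUnion.mp hV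
  exact Opens.mem_iSup.mpr ⟨⟨V, hVt⟩, hxV⟩

/-- the short exact sequence `0 → F → ⨁ j_* j^* F → Q → 0` -/
abbrev effSC {X : Scheme.{u}} {ι : Type u} [Fintype ι] (U : ι → X.Opens) (F : X.Modules) :
    ShortComplex X.Modules :=
  ShortComplex.mk (effMap U F) (cokernel.π (effMap U F)) (cokernel.condition _)

lemma effSC_shortExact {X : Scheme.{u}} {ι : Type u} [Fintype ι] (U : ι → X.Opens)
    (hcov : ⨆ i, U i = ⊤) (F : X.Modules) : (effSC U F).ShortExact :=
  haveI := mono_effMap U hcov F
  { exact := ShortComplex.exact_cokernel (effMap U F)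
    mono_f := inferInstanceAs (Mono (effMap U F))
    epi_g := inferInstanceAs (Epi (cokernel.π (effMap U F))) }

section Main

variable (k k' : Type u) [Field k] [Field k'] [Algebra k k'] {X X' : Scheme.{u}}
  [X.Over (Spec (CommRingCat.of k))] [X'.Over (Spec (CommRingCat.of k'))] {π : X' ⟶ X}
  (hpb : IsPullback π (X' ↘ Spec (CommRingCat.of k')) (X ↘ Spec (CommRingCat.of k))
      (Spec.map (CommRingCat.ofHom (algebraMap k k'))))
  [CompactSpace X] [QuasiSeparatedSpace X]
  (haff : ∀ V : X.Opens, IsAffineOpen V → IsAffineHom V.ι)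

include hpb haff in
/-- **Flat base change** for the cohomology of quasi-coherent modules along a field extension. -/
theorem nonempty_equiv : ∀ (p : ℕ) (F : X.Modules) [F.IsQuasicoherent],
    Nonempty (k' ⊗[k] Coh.HH X F p ≃ₗ[k'] Coh.HH X' ((Scheme.Modules.pullback π).obj F) p) := by
  haveI : Flat π := flat_of_isPullback k k' hpb
  haveI : IsAffineHom π := isAffineHom_of_isPullback k k' hpb
  obtain ⟨ι, _, U, hU, hcov⟩ := exists_finite_affine_cover X
  haveI : ∀ i, IsAffineHom (U i).ι := fun i => haff (U i) (hU i)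
  -- the step data for a quasi-coherent module
  have hstep : ∀ (F : X.Modules) [F.IsQuasicoherent],
      (cokernel (effMap U F)).IsQuasicoherent ∧
      (∀ p, Subsingleton (Coh.HH X (Eff U F) (p + 1))) ∧
      (∀ p, Subsingleton (Coh.HH X' ((Scheme.Modules.pullback π).obj (Eff U F)) (p + 1))) := by
    intro F _
    haveI := isQuasicoherent_Eff U F
    exact ⟨QCProps.isQuasicoherent_cokernel _, fun p => subsingleton_HH_Eff U hU F p,
      fun p => subsingleton_HH_pullback_Eff π U hU F p⟩
  intro p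
  induction p with
  | zero =>
    intro F _
    obtain ⟨e, -⟩ := exists_H0_equiv k k' hpb F
    exact ⟨e⟩
  | succ p ih =>
    intro F _
    obtain ⟨hQ, hG, hG'⟩ := hstep F
    haveI := hQ
    haveI := isQuasicoherent_Eff U F
    have hS := effSC_shortExact U hcov F
    have hS' := shortExact_pullback π (effSC U F) hS
    rcases p with _ | p
    · -- degree one: cokernels
      obtain ⟨eA, heA⟩ := exists_H0_equiv k k' hpb (Eff U F)
      obtain ⟨eB, heB⟩ := exists_H0_equiv k k' hpb (cokernel (effMap U F))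
      refine nonempty_baseChange_coker (R := k) (S := k')
        (HmapK k (effSC U F).g 0) (HδK k (effSC U F) hS 0)
        (exact_Hmap_Hδ k (effSC U F) hS 0) (surjective_Hδ k (effSC U F) hS 0 (hG 0))
        (HmapK k' ((effSC U F).map (Scheme.Modules.pullback π)).g 0)
        (HδK k' ((effSC U F).map (Scheme.Modules.pullback π)) hS' 0)
        (exact_Hmap_Hδ k' _ hS' 0) (surjective_Hδ k' _ hS' 0 (hG' 0)) eA eB ?_
      intro s x
      have h1 : eB (s ⊗ₜ[k] Hmap (cokernel.π (effMap U F)) 0 x) =
          s • θ π _ (Hmap (cokernel.π (effMap U F)) 0 x) := heB s _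
      have h2 : eA (s ⊗ₜ[k] x) = s • θ π (Eff U F) x := heA s x
      have h3 := θ_naturality π (cokernel.π (effMap U F)) x
      change eB (s ⊗ₜ[k] Hmap (cokernel.π (effMap U F)) 0 x) =
        HmapK k' ((Scheme.Modules.pullback π).map (cokernel.π (effMap U F))) 0 (eA (s ⊗ₜ[k] x))
      rw [h1, h2, h3]
      exact ((HmapK k' ((Scheme.Modules.pullback π).map (cokernel.π (effMap U F))) 0).map_smul s
        (θ π (Eff U F) x)).symm
    · -- higher degrees: dimension shifting
      obtain ⟨e0⟩ := ih (cokernel (effMap U F))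
      have hb := bijective_Hδ (effSC U F) hS (p + 1) (hG p) (hG (p + 1))
      have hb' := bijective_Hδ ((effSC U F).map (Scheme.Modules.pullback π)) hS' (p + 1)
        (hG' p) (hG' (p + 1))
      let e1 : k' ⊗[k] Coh.HH X (cokernel (effMap U F)) (p + 1) ≃ₗ[k']
          k' ⊗[k] Coh.HH X F (p + 1 + 1) :=
        baseChangeEquivOfBijective (HδK k (effSC U F) hS (p + 1)) hb
      let e2 : Coh.HH X' ((Scheme.Modules.pullback π).obj (cokernel (effMap U F))) (p + 1) ≃ₗ[k']
          Coh.HH X' ((Scheme.Modules.pullback π).obj F) (p + 1 + 1) :=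
        LinearEquiv.ofBijective (HδK k' ((effSC U F).map (Scheme.Modules.pullback π)) hS' (p + 1))
          hb'
      exact ⟨e1.symm ≪≫ₗ e0 ≪≫ₗ e2⟩

include hpb haff in
theorem finrank_eq (p : ℕ) (F : X.Modules) [F.IsQuasicoherent] :
    Module.finrank k' (Coh.HH X' ((Scheme.Modules.pullback π).obj F) p) =
      Module.finrank k (Coh.HH X F p) := by
  obtain ⟨e⟩ := nonempty_equiv k k' hpb haff p F
  exact finrank_eq_of_equiv e

include hpb haff in
theorem subsingleton_iff (p : ℕ) (F : X.Modules) [F.IsQuasicoherent] :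
    Subsingleton (Coh.HH X' ((Scheme.Modules.pullback π).obj F) p) ↔
      Subsingleton (Coh.HH X F p) := by
  obtain ⟨e⟩ := nonempty_equiv k k' hpb haff p F
  exact subsingleton_iff_of_equiv e

end Main

end Groth.Agent.Lib.Helper23.FBC

namespace Groth.Agent.Lib.Helper23.FBC

open AlgebraicGeometry CategoryTheory CategoryTheory.Limits TensorProduct

section Proper

variable (k k' : Type u) [Field k] [Field k'] [Algebra k k'] {X X' : Scheme.{u}}
  [X.Over (Spec (CommRingCat.of k))] [X'.Over (Spec (CommRingCat.of k'))] {π : X' ⟶ X}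
  (hpb : IsPullback π (X' ↘ Spec (CommRingCat.of k')) (X ↘ Spec (CommRingCat.of k))
      (Spec.map (CommRingCat.ofHom (algebraMap k k'))))

theorem isAffineHom_ι_of_isSeparated (A : Type u) [CommRing A] {Y : Scheme.{u}}
    [Y.Over (Spec (CommRingCat.of A))] [IsSeparated (Y ↘ Spec (CommRingCat.of A))]
    (V : Y.Opens) (hV : IsAffineOpen V) : IsAffineHom V.ι := by
  haveI : IsAffine (V : Scheme.{u}) := hV
  haveI : IsAffineHom (V.ι ≫ (Y ↘ Spec (CommRingCat.of A))) := inferInstance
  exact IsAffineHom.of_comp V.ι (Y ↘ Spec (CommRingCat.of A))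

include hpb in
/-- flat base change for a scheme proper over `k` -/
theorem nonempty_equiv_of_isProper [IsProper (X ↘ Spec (CommRingCat.of k))] (p : ℕ)
    (F : X.Modules) [F.IsQuasicoherent] :
    Nonempty (k' ⊗[k] Coh.HH X F p ≃ₗ[k'] Coh.HH X' ((Scheme.Modules.pullback π).obj F) p) := by
  haveI : CompactSpace X :=
    QuasiCompact.compactSpace_of_compactSpace (X ↘ Spec (CommRingCat.of k))
  haveI : QuasiSeparatedSpace X :=
    quasiSeparatedSpace_of_quasiSeparated (X ↘ Spec (CommRingCat.of k))
  exact nonempty_equiv k k' hpb (fun V hV => isAffineHom_ι_of_isSeparated k V hV) p F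

include hpb in
theorem finrank_eq_of_isProper [IsProper (X ↘ Spec (CommRingCat.of k))] (p : ℕ)
    (F : X.Modules) [F.IsQuasicoherent] :
    Module.finrank k' (Coh.HH X' ((Scheme.Modules.pullback π).obj F) p) =
      Module.finrank k (Coh.HH X F p) := by
  obtain ⟨e⟩ := nonempty_equiv_of_isProper k k' hpb p F
  exact finrank_eq_of_equiv e

include hpb in
theorem subsingleton_iff_of_isProper [IsProper (X ↘ Spec (CommRingCat.of k))] (p : ℕ)
    (F : X.Modules) [F.IsQuasicoherent] :
    Subsingleton (Coh.HH X' ((Scheme.Modules.pullback π).obj F) p) ↔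
      Subsingleton (Coh.HH X F p) := by
  obtain ⟨e⟩ := nonempty_equiv_of_isProper k k' hpb p F
  exact subsingleton_iff_of_equiv e

include hpb in
theorem euler_eq_of_isProper [IsProper (X ↘ Spec (CommRingCat.of k))]
    (F : X.Modules) [F.IsQuasicoherent] :
    Curv2.euler k' X' ((Scheme.Modules.pullback π).obj F) = Curv2.euler k X F := by
  unfold Curv2.euler
  refine finsum_congr fun i => ?_
  rw [finrank_eq_of_isProper k k' hpb i F]

end Proper

end Groth.Agent.Lib.Helper23.FBC

namespace Groth.Agent.Lib.Helper23.FBC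

open AlgebraicGeometry CategoryTheory CategoryTheory.Limits TensorProduct
open Groth.Agent.Lib.Helper23.T2

section Iso

variable (A : Type u) [Field A] {X : Scheme.{u}} [X.Over (Spec (CommRingCat.of A))]

/-- isomorphic modules have isomorphic cohomology, linearly over the base -/
def HmapEquivK {M N : X.Modules} (e : M ≅ N) (n : ℕ) : Coh.HH X M n ≃ₗ[A] Coh.HH X N n :=
  (HmapEquiv e n).toAddEquiv.toLinearEquiv
    (fun c x => (HmapEquiv e n).map_smul (Coh.toGlobal (X ↘ Spec (CommRingCat.of A)) c) x)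

theorem euler_eq_of_iso' {M N : X.Modules} (e : M ≅ N) :
    Curv2.euler A X M = Curv2.euler A X N := by
  unfold Curv2.euler
  refine finsum_congr fun i => ?_
  rw [(HmapEquivK A e i).finrank_eq]

end Iso

section Deg

variable (k k' : Type u) [Field k] [Field k'] [Algebra k k'] {X X' : Scheme.{u}}
  [X.Over (Spec (CommRingCat.of k))] [X'.Over (Spec (CommRingCat.of k'))] {π : X' ⟶ X}
  (hpb : IsPullback π (X' ↘ Spec (CommRingCat.of k')) (X ↘ Spec (CommRingCat.of k))
      (Spec.map (CommRingCat.ofHom (algebraMap k k'))))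

include hpb in
theorem deg_eq_of_isProper [IsProper (X ↘ Spec (CommRingCat.of k))]
    (F : X.Modules) [F.IsQuasicoherent] (n : ℕ) :
    Curv2.deg k' X' ((Scheme.Modules.pullback π).obj F) n = Curv2.deg k X F n := by
  haveI : (Coh.structureModule X).IsQuasicoherent :=
    Groth.Agent.Lib.Helper3.QCOpen.isQuasicoherent_structureModule X
  unfold Curv2.deg
  rw [euler_eq_of_isProper k k' hpb F,
    ← euler_eq_of_iso' k' (Groth.Agent.Lib.Helper3.PbBasic.pbUnit π),
    euler_eq_of_isProper k k' hpb (Coh.structureModule X)]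

end Deg

end Groth.Agent.Lib.Helper23.FBC
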