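import Groth.Agent.Lib.Helper23.AmpleCurve2
import Groth.Agent.Lib.Helper23.FBC5
import Groth.Agent.Lib.Helper3.PbTensor

/-!
# AmpleCurve3: a power of an invertible module of positive degree with a section is globally
generated
-/
set_option autoImplicit false
set_option linter.style.haveILetI false
universe u
open CategoryTheory CategoryTheory.Limits Opposite TopologicalSpace AlgebraicGeometry
open Groth.Agent.Lib.Helper3 Groth.Agent.Lib.Helper3.QCSec Groth.Agent.Lib.Helper3.InvGen
  Groth.Agent.Lib.Helper3.InvTensor Groth.Agent.Lib.Helper3.InvMonoidal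
open Groth.Agent.Lib.Helper23.T2

noncomputable section

namespace Groth.Agent.Lib.Helper23.AmpleCurve

open Groth.Agent.Lib.Helper23.Curve

variable {X : Scheme.{u}}

/-- a section generating everywhere is an isomorphism -/
theorem isIso_of_genLocus_eq_top {P : X.Modules} (s : Coh.structureModule X ⟶ P)
    (h : CohB1.genLocus P s = ⊤) : IsIso s := by
  apply PbTensor.isIso_of_isGen_cover
  intro x
  refine ⟨CohB1.genLocus P s, ofFun _ 1, by rw [h]; trivial, isGen_one _, ?_⟩
  have h1 : s.app (CohB1.genLocus P s) (ofFun _ 1) = sec s _ := by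
    rw [app_eq_smul_sec, one_smul]
  rw [h1]
  exact isGen_genLocus s

/-- a nonzero section of an invertible module on an integral scheme generates somewhere -/
theorem exists_mem_genLocus [IsIntegral X] {P : X.Modules} (hP : PicF.IsInvertible P)
    (s : Coh.structureModule X ⟶ P) (hs : s ≠ 0) : ∃ x : X, x ∈ CohB1.genLocus P s := by
  obtain ⟨x⟩ : Nonempty X := inferInstance
  obtain ⟨U, e, hxU, hg⟩ := exists_isGen hP x
  obtain ⟨f, hf⟩ := hg.self.exists_coord (sec s U)
  have hf0 : f ≠ 0 := by
    intro h0
    apply hs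
    have hsec : s.app U (ofFun U 1) = 0 := by
      rw [app_eq_smul_sec, one_smul, ← hf, h0, zero_smul]
    exact eq_zero_of_local_zero hP s U ⟨x, hxU⟩ (ofFun U 1) (isGen_one U) hsec
  have hne : X.basicOpen f ≠ ⊥ := fun h => hf0 ((basicOpen_eq_bot_iff f).1 h)
  obtain ⟨y, hy⟩ : ((X.basicOpen f : X.Opens) : Set X).Nonempty := by
    rw [Set.nonempty_iff_ne_empty]
    intro h
    apply hne
    ext z
    simp [h]
  rw [← genLocus_inf_eq_basicOpen s hg f hf.symm] at hy
  exact ⟨y, hy.1⟩

theorem exists_eq_succ_of_antitone (a : ℕ → ℕ) (ha : ∀ j, a (j + 1) ≤ a j) :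
    ∃ j, a (j + 1) = a j := by
  by_contra hcon
  push Not at hcon
  have hlt : ∀ j, a (j + 1) < a j := fun j => lt_of_le_of_ne (ha j) (hcon j)
  have hbound : ∀ j, a j + j ≤ a 0 := by
    intro j
    induction j with
    | zero => simp
    | succ j ih => have := hlt j; omega
  have := hbound (a 0 + 1)
  omega

section Main

variable (k : Type u) [Field k] [X.Over (Spec (CommRingCat.of k))]
  [IsProper (X ↘ Spec (CommRingCat.of k))] [IsIntegral X]

include k in
/-- a nonzero section of an invertible module of positive degree vanishes somewhere -/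
theorem exists_notMem_genLocus (hdim : topologicalKrullDim X ≤ 1) {P : X.Modules}
    (s : Coh.structureModule X ⟶ P) (hdeg : 0 < Curv2.deg k X P 1) :
    ∃ x : X, x ∉ CohB1.genLocus P s := by
  by_contra hcon
  push Not at hcon
  have htop : CohB1.genLocus P s = ⊤ := by
    ext x
    simp [hcon x]
  haveI := isIso_of_genLocus_eq_top s htop
  have he := FBC.euler_eq_of_iso' k (asIso s)
  unfold Curv2.deg at hdeg
  rw [← he] at hdeg
  simp at hdeg

include k in
/-- **Global generation of a power**: if `P` is invertible of positive degree on the proper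
integral curve `X` with a nonzero section `s₀`, some power `P^{j+1}` is generated by global
sections, one of which is `s₀^{j+1}`. -/
theorem exists_generating_sections (hdim : topologicalKrullDim X ≤ 1) {P : X.Modules}
    (hP : PicF.IsInvertible P) (s₀ : Coh.structureModule X ⟶ P) (hs : s₀ ≠ 0) :
    ∃ j : ℕ, ∀ x : X, x ∉ CohB1.genLocus P s₀ →
      ∃ (t : Γ(CohB1.tensorPow P (j + 1), ⊤)) (U : X.Opens), x ∈ U ∧
        IsGen (CohB1.tensorPow P (j + 1)) U (res _ le_top t) := by
  have hinv : ∀ j, PicF.IsInvertible (CohB1.tensorPow P j) := fun j => isInvertible_tensorPow hP j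
  have hfin : ∀ j, Module.Finite k (Coh.HH X (CohB1.tensorPow P j) 1) := fun j =>
    finite_HH k _ (isCoh_of_isInvertible (hinv j)) 1
  have hanti : ∀ j, Module.finrank k (Coh.HH X (CohB1.tensorPow P (j + 1)) 1) ≤
      Module.finrank k (Coh.HH X (CohB1.tensorPow P j) 1) := by
    intro j
    haveI := hfin j
    have hsurj : Function.Surjective (FBC.HmapK k (mulBy (CohB1.tensorPow P j) s₀) 1) :=
      surjective_H1_mulBy k hdim (hinv j) hP s₀ hs
    exact LinearMap.finrank_le_finrank_of_surjective hsurj
  obtain ⟨j, hj⟩ := exists_eq_succ_of_antitone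
    (fun j => Module.finrank k (Coh.HH X (CohB1.tensorPow P j) 1)) hanti
  refine ⟨j, fun x hx => ?_⟩
  obtain ⟨hmono, -, hfl, -⟩ := invertible_map k hdim (hinv j)
    (isInvertible_tensorMod (hinv j) hP) (mulBy (CohB1.tensorPow P j) s₀)
    (mulBy_ne_zero (hinv j) hP s₀ hs)
  haveI := hmono
  exact exists_section_isGen (hinv j) hP s₀ hfl
    (surjective_H0_of_finrank_eq k hdim (hinv j) hP s₀ hs hj) x hx

end Main

end Groth.Agent.Lib.Helper23.AmpleCurve
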