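import Groth.Agent.Lib.Helper23.CurveC

/-!
# CurveD: degrees of invertible modules on proper integral curves: maps between invertible modules
-/
set_option autoImplicit false
universe u
open CategoryTheory CategoryTheory.Limits Opposite TopologicalSpace AlgebraicGeometry
open Groth.Agent.Lib.Helper3 Groth.Agent.Lib.Helper3.QCSec Groth.Agent.Lib.Helper3.InvGen
open Groth.Agent.Lib.Helper23.T2

noncomputable section

namespace Groth.Agent.Lib.Helper23.Curve

variable (k : Type u) [Field k] (X : Scheme.{u}) [X.Over (Spec (CommRingCat.of k))]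
  [IsProper (X ↘ Spec (CommRingCat.of k))]

include k in
lemma isNoetherian_of_isProper : IsNoetherian X := by
  haveI : IsLocallyNoetherian X :=
    LocallyOfFiniteType.isLocallyNoetherian (X ↘ Spec (CommRingCat.of k))
  haveI : CompactSpace X := QuasiCompact.compactSpace_of_compactSpace (X ↘ Spec (CommRingCat.of k))
  exact {}

lemma isCoh_of_isInvertible {Y : Scheme.{u}} {L : Y.Modules} (hL : PicF.IsInvertible L) :
    Coh.IsCoh L :=
  ⟨InvCoh.isQuasicoherent_of_isInvertible hL, InvCoh.isFiniteType_of_isInvertible hL⟩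

include k in
/-- a module vanishing on a nonempty open of a one-dimensional integral proper scheme is
flasque. -/
theorem isFlq_of_vanishesOn [IsIntegral X] (hdim : topologicalKrullDim X ≤ 1) (K : X.Modules)
    (D : X.Opens) (hD : (D : Set X).Nonempty) (hK : VanishesOn K D) : IsFlq K := by
  haveI := isNoetherian_of_isProper k X
  haveI : NoetherianSpace X := inferInstance
  have hZ : IsClosed ((D : Set X)ᶜ) := D.isOpen.isClosed_compl
  have hne : (D : Set X)ᶜ ≠ Set.univ := by
    intro h
    obtain ⟨x, hx⟩ := hD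
    have : x ∈ (D : Set X)ᶜ := h ▸ Set.mem_univ x
    exact this hx
  obtain ⟨hfin, hcl⟩ := finite_of_isClosed_ne_univ hdim _ hZ hne
  refine @isFlq_of_vanishing_off_finite X K _ hfin hcl (fun V hV t => hK V ?_ t)
  intro x hx
  by_contra hxD
  exact Set.disjoint_left.1 hV hx hxD

variable {X}

/-- **Nonzero maps of invertible modules on a proper integral curve.** -/
theorem invertible_map [IsIntegral X] (hdim : topologicalKrullDim X ≤ 1) {N L : X.Modules}
    (hN : PicF.IsInvertible N) (hL : PicF.IsInvertible L) (φ : N ⟶ L) (hφ : φ ≠ 0) :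
    Mono φ ∧ Coh.IsCoh (cokernel φ) ∧ IsFlq (cokernel φ) ∧
      Curv2.euler k X L = Curv2.euler k X N + Curv2.euler k X (cokernel φ) := by
  haveI := isNoetherian_of_isProper k X
  have hmono := mono_of_ne_zero hN hL φ hφ
  have hcohN := isCoh_of_isInvertible hN
  have hcohL := isCoh_of_isInvertible hL
  have hcohQ := (Groth.Agent.S9514.result X hcohN hcohL φ).2
  obtain ⟨D, hD, hvan⟩ := exists_vanishesOn_cokernel hN hL φ hφ
  have hfl : IsFlq (cokernel φ) := @isFlq_of_vanishesOn k _ X _ _ _ hdim _ D hD hvan
  refine ⟨hmono, hcohQ, hfl, ?_⟩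
  let S : ShortComplex X.Modules := ShortComplex.mk φ (cokernel.π φ) (cokernel.condition φ)
  have hS : S.ShortExact :=
    { exact := ShortComplex.exact_cokernel φ
      mono_f := hmono
      epi_g := inferInstanceAs (Epi (cokernel.π φ)) }
  exact euler_additive k X S hS hcohN hcohL hcohQ

/-- `deg N ≤ deg L` and equality forces an isomorphism. -/
theorem deg_le_of_map [IsIntegral X] (hdim : topologicalKrullDim X ≤ 1) {N L : X.Modules}
    (hN : PicF.IsInvertible N) (hL : PicF.IsInvertible L) (φ : N ⟶ L) (hφ : φ ≠ 0) :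
    Curv2.deg k X N 1 ≤ Curv2.deg k X L 1 ∧
      (Curv2.deg k X N 1 = Curv2.deg k X L 1 → IsIso φ) := by
  obtain ⟨hmono, hcohQ, hfl, he⟩ := invertible_map k hdim hN hL φ hφ
  have hnn := euler_nonneg_of_isFlq k X _ hcohQ hfl
  unfold Curv2.deg
  constructor
  · linarith
  · intro h
    have h0 : Curv2.euler k X (cokernel φ) = 0 := by linarith
    have hz := isZero_of_isFlq_of_euler_eq_zero k X _ hcohQ hfl h0
    haveI : Epi φ := Preadditive.epi_of_cokernel_zero (hz.eq_of_tgt _ _)
    exact isIso_of_mono_of_epi φ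

end Groth.Agent.Lib.Helper23.Curve

namespace Groth.Agent.Lib.Helper23.Curve

variable (k : Type u) [Field k] {X : Scheme.{u}} [X.Over (Spec (CommRingCat.of k))]
  [IsProper (X ↘ Spec (CommRingCat.of k))]

lemma deg_structureModule : Curv2.deg k X (Coh.structureModule X) 1 = 0 := by
  unfold Curv2.deg
  simp

/-- a nonzero section forces nonnegative degree; degree zero forces the section to be an iso. -/
theorem deg_nonneg_of_section [IsIntegral X] (hdim : topologicalKrullDim X ≤ 1) {L : X.Modules}
    (hL : PicF.IsInvertible L) (s : Coh.structureModule X ⟶ L) (hs : s ≠ 0) :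
    0 ≤ Curv2.deg k X L 1 ∧ (Curv2.deg k X L 1 ≤ 0 → IsIso s) := by
  obtain ⟨h1, h2⟩ := deg_le_of_map k hdim (isInvertible_structureModule X) hL s hs
  rw [deg_structureModule] at h1 h2
  exact ⟨h1, fun h => h2 (le_antisymm h1 h)⟩

end Groth.Agent.Lib.Helper23.Curve
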