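import Groth.Agent.Lib.Helper23.RatDiv
import Groth.Agent.Lib.Helper23.FBC5
import Groth.Agent.Lib.Helper3.PbTensor
import Groth.Agent.Lib.Helper26.RegularSch
import Groth.Agent.Lib.Helper26.RegularNormal
import Groth.Agent.Lib.Helper11.KPts2
import Groth.Agent.Lib.Helper13.AbVarDim
import Groth.Agent.Lib.Helper7.CurveCM

/-!
# BCDiv: twisting down by pulled back point divisors on a base changed curve
-/
set_option autoImplicit false
set_option linter.style.haveILetI false
universe u
open CategoryTheory CategoryTheory.Limits Opposite TopologicalSpace AlgebraicGeometry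
open Scheme.Modules
open Groth.Agent.Lib.Helper3 Groth.Agent.Lib.Helper3.QCSec Groth.Agent.Lib.Helper3.InvGen
open Groth.Agent.Lib.Helper23.T2

noncomputable section

namespace Groth.Agent.Lib.Helper23.BCDiv

open Groth.Agent.Lib.Helper23.Curve Groth.Agent.Lib.Helper23.EffCart
  Groth.Agent.Lib.Helper23.DegTensor Groth.Agent.Lib.Helper23.Inverse
  Groth.Agent.Lib.Helper7.PtDiv Groth.Agent.Lib.Helper7.CurvePair
  Groth.Agent.Lib.Helper3.InvMonoidal Groth.Agent.Lib.Helper23.TwE Groth.Agent.Lib.Helper7.TwFun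
  Groth.Agent.Lib.Helper3.InvTensor

section Gen
variable {X : Scheme.{u}}

theorem genLocus_zero {L : X.Modules} (hL : PicF.IsInvertible L) :
    CohB1.genLocus L (0 : Coh.structureModule X ⟶ L) = ⊥ := by
  rw [eq_bot_iff]
  intro x hx
  obtain ⟨U, e, hxU, hg⟩ := exists_isGen hL x
  have h := genLocus_inf_eq_basicOpen (0 : Coh.structureModule X ⟶ L) hg 0
    (by rw [zero_smul]; rfl)
  have hx' : x ∈ CohB1.genLocus L (0 : Coh.structureModule X ⟶ L) ⊓ U := ⟨hx, hxU⟩
  rw [h, Scheme.basicOpen_zero] at hx'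
  exact hx'

end Gen


section Step
variable (K : Type u) [Field K] (Y : Scheme.{u}) [Y.Over (Spec (CommRingCat.of K))]
  [IsProper (Y ↘ Spec (CommRingCat.of K))] [IsIntegral Y]

/-- multiplication by a section `τ` of `B` -/
def mulBy {B : Y.Modules} (τ : Coh.structureModule Y ⟶ B) (M' : Y.Modules) :
    M' ⟶ CohB1.tensorMod B M' :=
  (unitorL M').inv ≫ tensorMap τ (𝟙 M')

variable {Y} in
theorem unitorL_inv_app (M' : Y.Modules) (U : Y.Opens) (n : Γ(M', U)) :
    (unitorL M').inv.app U n = tm (Coh.structureModule Y) M' U (ofFun U 1) n := by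
  have h := unitorL_hom_tm M' U n 1
  rw [one_smul] at h
  have h2 := iso_inv_hom_app (unitorL M') U (tm (Coh.structureModule Y) M' U (ofFun U 1) n)
  rw [h] at h2
  exact h2

variable {Y} in
theorem comp_mulBy {B M' : Y.Modules} (τ : Coh.structureModule Y ⟶ B)
    (s' : Coh.structureModule Y ⟶ M') :
    s' ≫ mulBy Y τ M' = SecTwist.tmulHom τ s' := by
  apply hom_ext_sec
  rw [sec_comp, InvTensor.sec_tmulHom]
  unfold mulBy
  rw [Scheme.Modules.Hom.comp_app]
  change (tensorMap τ (𝟙 M')).app ⊤ ((unitorL M').inv.app ⊤ (sec s' ⊤)) = _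
  rw [unitorL_inv_app, tensorMap_tm]
  rfl

/-- **Step**: if `M ≅ B ⊗ M'` with `deg B = 1`, `B` has a nonzero section `τ` not generating at
`y`, `H¹(M) = 0` and some section of `M` generates at `y`, then `H¹(M') = 0`. -/
theorem stepD (hdim : topologicalKrullDim Y = 1)
    (h0 : Module.finrank K (Coh.HH Y (Coh.structureModule Y) 0) = 1)
    {M M' B : Y.Modules} (hM : PicF.IsInvertible M) (hM' : PicF.IsInvertible M')
    (hB : PicF.IsInvertible B) (τ : Coh.structureModule Y ⟶ B) (hτ : τ ≠ 0)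
    (φ : CohB1.tensorMod B M' ≅ M) (hdB : Curv2.deg K Y B 1 = 1)
    (h1 : Subsingleton (Coh.HH Y M 1))
    (s : Coh.structureModule Y ⟶ M) (y : Y) (hy : y ∈ CohB1.genLocus M s)
    (hyτ : y ∉ CohB1.genLocus B τ) :
    Subsingleton (Coh.HH Y M' 1) ∧ Curv2.deg K Y M' 1 = Curv2.deg K Y M 1 - 1 := by
  haveI := isNoetherian_of_isProper K Y
  have hBM' : PicF.IsInvertible (CohB1.tensorMod B M') :=
    InvTensor.isInvertible_tensorMod hB hM'
  have hdeg : Curv2.deg K Y M' 1 = Curv2.deg K Y M 1 - 1 := by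
    have h2 := Groth.Agent.Lib.Helper23.Sat.deg_eq_of_iso K hdim.le φ
      (isFinLocFreeOfRank_one_of_isInvertible hBM')
    have h3 := deg_tw K hdim.le (isFinLocFreeOfRank_one_of_isInvertible hB) hM'
    rw [← h2, h3, hdB]
    push_cast
    ring
  refine ⟨?_, hdeg⟩
  let μ : M' ⟶ M := mulBy Y τ M' ≫ φ.hom
  haveI : Mono τ := mono_of_ne_zero (InvGen.isInvertible_structureModule Y) hB τ hτ
  haveI : Mono (tensorMap τ (𝟙 M')) :=
    mono_twE (isFinLocFreeOfRank_one_of_isInvertible hM') τ
  haveI : Mono (mulBy Y τ M') := by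
    unfold mulBy
    exact mono_comp _ _
  haveI : Mono μ := mono_comp _ _
  have hinj := HmapL_injective_of_mono K μ
  haveI : Module.Finite K (Coh.HH Y M 0) := finite_HH K M (isCoh_of_isInvertible hM) 0
  haveI : Module.Finite K (Coh.HH Y M' 0) := finite_HH K M' (isCoh_of_isInvertible hM') 0
  haveI : Module.Finite K (Coh.HH Y M' 1) := finite_HH K M' (isCoh_of_isInvertible hM') 1
  have hne : LinearMap.range (Groth.Agent.Lib.Helper7.CohFinite.HmapL K μ 0) ≠ ⊤ := by
    intro htop
    obtain ⟨n, hn⟩ := exists_section_of_mem_range_HmapL K μ (sec s ⊤)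
      (by rw [htop]; exact Submodule.mem_top)
    have hs : InvAmple.globalHom M' n ≫ μ = s := by
      apply hom_ext_sec
      rw [sec_comp, sec_globalHom_top, hn]
    have hs2 : SecTwist.tmulHom τ (InvAmple.globalHom M' n) ≫ φ.hom = s := by
      rw [← comp_mulBy, Category.assoc]
      exact hs
    rw [← hs2, genLocus_comp_iso, InvTensor.genLocus_tmulHom hB hM'] at hy
    exact hyτ hy.1
  have hlt := Submodule.finrank_lt hne
  rw [LinearMap.finrank_range_of_inj hinj] at hlt
  have hrr := riemann_roch K hdim.le h0 hM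
  have hrr' := riemann_roch K hdim.le h0 hM'
  have e1 : Module.finrank K (Coh.HH Y M 1) = 0 := Module.finrank_zero_of_subsingleton
  rw [e1] at hrr
  rw [hdeg] at hrr'
  push_cast at hrr
  have hlt' : (Module.finrank K (Coh.HH Y M' 0) : ℤ) < (Module.finrank K (Coh.HH Y M 0) : ℤ) := by
    exact_mod_cast hlt
  have hz : Module.finrank K (Coh.HH Y M' 1) = 0 := by
    have : (Module.finrank K (Coh.HH Y M' 1) : ℤ) = 0 := by
      have hnn : (0 : ℤ) ≤ (Module.finrank K (Coh.HH Y M' 1) : ℤ) := Int.natCast_nonneg _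
      linarith
    exact_mod_cast this
  exact Module.finrank_zero_iff.mp hz

end Step

section Pt
variable {X : Scheme.{u}} [IsIntegral X]

/-- the canonical section of the dual of an invertible ideal: it is nonzero and generates at no
point of the support -/
theorem exists_section_dual (Z : X.IdealSheafData) (hJ : PicF.IsInvertible (ClSub.idealMod Z)) :
    ∃ t : Coh.structureModule X ⟶ dual (ClSub.idealMod Z), t ≠ 0 ∧
      ∀ P ∈ Z.support, P ∉ CohB1.genLocus (dual (ClSub.idealMod Z)) t := by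
  have hA := isInvertible_dual hJ
  obtain ⟨e⟩ := tensor_dual_iso hJ
  let n : Γ(CohB1.tensorMod (ClSub.idealMod Z) (dual (ClSub.idealMod Z)), ⊤) :=
    e.inv.app ⊤ (ofFun ⊤ 1)
  refine ⟨InvAmple.globalHom _ ((jmap Z (dual (ClSub.idealMod Z))).app ⊤ n), ?_,
    fun P hP => notMem_genLocus_jmap Z P hP hA n⟩
  apply globalHom_ne_zero
  intro hm
  have hE := isFinLocFreeOfRank_one_of_isInvertible hA
  haveI : Mono ((twR (dual (ClSub.idealMod Z))).map (ClSub.idealModι Z)) := mono_twE hE _
  haveI : Mono (jmap Z (dual (ClSub.idealMod Z))) := by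
    show Mono ((twR (dual (ClSub.idealMod Z))).map (ClSub.idealModι Z) ≫
      (unitorL (dual (ClSub.idealMod Z))).hom)
    exact mono_comp _ _
  have hn : n = 0 :=
    QCExact.injective_sections (jmap Z (dual (ClSub.idealMod Z))) ⊤ (by rw [hm, map_zero])
  have h1 : e.hom.app ⊤ n = ofFun ⊤ 1 := iso_hom_inv_app e ⊤ _
  rw [hn, map_zero] at h1
  exact one_ne_zero (α := Γ(X, ⊤)) (congrArg (toFun ⊤) h1).symm

end Pt

section BC
variable (k : Type u) [Field k] (K : Type u) [Field K] [Algebra k K] {X XK : Scheme.{u}}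
  [X.Over (Spec (CommRingCat.of k))] [XK.Over (Spec (CommRingCat.of K))] {g : XK ⟶ X}
  (hpb : IsPullback g (XK ↘ Spec (CommRingCat.of K)) (X ↘ Spec (CommRingCat.of k))
      (Spec.map (CommRingCat.ofHom (algebraMap k K))))

include hpb

theorem isProper_bc [IsProper (X ↘ Spec (CommRingCat.of k))] :
    IsProper (XK ↘ Spec (CommRingCat.of K)) :=
  MorphismProperty.of_isPullback (P := @IsProper) hpb inferInstance

theorem smooth_bc [Smooth (X ↘ Spec (CommRingCat.of k))] :
    Smooth (XK ↘ Spec (CommRingCat.of K)) :=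
  MorphismProperty.of_isPullback (P := @Smooth) hpb inferInstance

theorem surjective_bc : Function.Surjective g := by
  have h : Surjective g :=
    MorphismProperty.of_isPullback (P := @Surjective) hpb.flip
      (Groth.Agent.Lib.Helper12.BaseChange.surjective_SpecMap_field k K)
  exact h.surj

theorem dim_bc [LocallyOfFiniteType (X ↘ Spec (CommRingCat.of k))] :
    topologicalKrullDim XK = topologicalKrullDim X := by
  rw [← Groth.Agent.Lib.Helper12.BaseChange.topologicalKrullDim_bc k X K]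
  exact IsHomeomorph.topologicalKrullDim_eq _
    (Scheme.homeoOfIso hpb.isoPullback).isHomeomorph

theorem h0_bc [IsProper (X ↘ Spec (CommRingCat.of k))] :
    Module.finrank K (Coh.HH XK (Coh.structureModule XK) 0) =
      Module.finrank k (Coh.HH X (Coh.structureModule X) 0) := by
  haveI : (Coh.structureModule X).IsQuasicoherent :=
    Groth.Agent.Lib.Helper3.QCOpen.isQuasicoherent_structureModule X
  rw [← Groth.Agent.Lib.Helper23.FBC.finrank_eq_of_isProper k K hpb 0 (Coh.structureModule X)]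
  exact (LinearEquiv.finrank_eq (Groth.Agent.Lib.Helper23.FBC.HmapEquivK K
    (Groth.Agent.Lib.Helper3.PbBasic.pbUnit g) 0)).symm

theorem genus_bc [IsProper (X ↘ Spec (CommRingCat.of k))] :
    Curv2.genus K XK = Curv2.genus k X := by
  haveI : (Coh.structureModule X).IsQuasicoherent :=
    Groth.Agent.Lib.Helper3.QCOpen.isQuasicoherent_structureModule X
  unfold Curv2.genus
  rw [← Groth.Agent.Lib.Helper23.FBC.finrank_eq_of_isProper k K hpb 1 (Coh.structureModule X)]
  exact (LinearEquiv.finrank_eq (Groth.Agent.Lib.Helper23.FBC.HmapEquivK K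
    (Groth.Agent.Lib.Helper3.PbBasic.pbUnit g) 1)).symm

end BC

section Main
variable (k : Type u) [Field k] (K : Type u) [Field K] [Algebra k K] {X XK : Scheme.{u}}
  [X.Over (Spec (CommRingCat.of k))] [XK.Over (Spec (CommRingCat.of K))] {g : XK ⟶ X}
  (hpb : IsPullback g (XK ↘ Spec (CommRingCat.of K)) (X ↘ Spec (CommRingCat.of k))
      (Spec.map (CommRingCat.ofHom (algebraMap k K))))
  [IsProper (X ↘ Spec (CommRingCat.of k))] [IsIntegral X]
  [IsProper (XK ↘ Spec (CommRingCat.of K))] [IsIntegral XK]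

include hpb in
/-- one step of the chain on the base changed curve -/
theorem step_bc (hdimX : topologicalKrullDim X = 1) (hdimK : topologicalKrullDim XK = 1)
    (h0K : Module.finrank K (Coh.HH XK (Coh.structureModule XK) 0) = 1)
    (S : Set X) (hS : ∀ U : X.Opens, (U : Set X).Nonempty → ∃ x ∈ S, x ∈ U)
    (hSc : ∀ x ∈ S, ∃ hx : IsClosed ({x} : Set X), IsIntegrallyClosed (X.presheaf.stalk x) ∧
      Module.finrank k (Coh.HH X
        (ClSub.quotMod (Scheme.IdealSheafData.vanishingIdeal ⟨{x}, hx⟩)) 0) = 1)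
    {L : XK.Modules} (hL : PicF.IsInvertible L) {L₀ : X.Modules} (hL₀ : PicF.IsInvertible L₀)
    (h1 : Subsingleton (Coh.HH XK (CohB1.tensorMod L ((Scheme.Modules.pullback g).obj L₀)) 1))
    (hd : (Curv2.genus K XK : ℤ) + 1 ≤
      Curv2.deg K XK (CohB1.tensorMod L ((Scheme.Modules.pullback g).obj L₀)) 1) :
    ∃ L₀' : X.Modules, PicF.IsInvertible L₀' ∧
      Subsingleton (Coh.HH XK (CohB1.tensorMod L ((Scheme.Modules.pullback g).obj L₀')) 1) ∧
      Curv2.deg K XK (CohB1.tensorMod L ((Scheme.Modules.pullback g).obj L₀')) 1 =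
        Curv2.deg K XK (CohB1.tensorMod L ((Scheme.Modules.pullback g).obj L₀)) 1 - 1 := by
  haveI := isNoetherian_of_isProper k X
  haveI := isNoetherian_of_isProper K XK
  have hsurj := surjective_bc k K hpb
  have hgL₀ := PbBasic.isInvertible_pullback g hL₀
  have hM : PicF.IsInvertible (CohB1.tensorMod L ((Scheme.Modules.pullback g).obj L₀)) :=
    InvTensor.isInvertible_tensorMod hL hgL₀
  -- a nonzero section of `M`
  have hrr := riemann_roch K hdimK.le h0K hM
  have e1 : Module.finrank K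
      (Coh.HH XK (CohB1.tensorMod L ((Scheme.Modules.pullback g).obj L₀)) 1) = 0 :=
    Module.finrank_zero_of_subsingleton
  rw [e1] at hrr
  push_cast at hrr
  haveI : Module.Finite K (Coh.HH XK (CohB1.tensorMod L ((Scheme.Modules.pullback g).obj L₀)) 0) :=
    finite_HH K _ (isCoh_of_isInvertible hM) 0
  have hpos : 0 < Module.finrank K
      (Coh.HH XK (CohB1.tensorMod L ((Scheme.Modules.pullback g).obj L₀)) 0) := by
    have : (0 : ℤ) < (Module.finrank K
      (Coh.HH XK (CohB1.tensorMod L ((Scheme.Modules.pullback g).obj L₀)) 0) : ℤ) := by linarith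
    exact_mod_cast this
  have hnt : Nontrivial (Coh.HH XK (CohB1.tensorMod L ((Scheme.Modules.pullback g).obj L₀)) 0) :=
    Module.nontrivial_of_finrank_pos (R := K) hpos
  obtain ⟨s, hs⟩ := exists_section_of_nontrivial _ hnt
  obtain ⟨y₀, hy₀⟩ := Groth.Agent.Lib.Helper23.AmpleCurve.exists_mem_genLocus hM s hs
  -- the zero locus of `s` is finite
  have hZcl : IsClosed ((CohB1.genLocus _ s : Set XK)ᶜ) :=
    (CohB1.genLocus _ s).isOpen.isClosed_compl
  have hZne : ((CohB1.genLocus _ s : Set XK)ᶜ) ≠ Set.univ := by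
    intro h
    have : y₀ ∈ ((CohB1.genLocus _ s : Set XK)ᶜ) := h ▸ Set.mem_univ y₀
    exact this hy₀
  obtain ⟨hZfin, -⟩ := finite_of_isClosed_ne_univ hdimK.le _ hZcl hZne
  -- the closed points of `X` under the zero locus
  let T : Set X := {x | x ∈ g '' ((CohB1.genLocus _ s : Set XK)ᶜ) ∧ IsClosed ({x} : Set X)}
  have hTfin : T.Finite := (hZfin.image g).subset (fun x hx => hx.1)
  have hTcl : IsClosed T := by
    have : T = ⋃ x ∈ T, ({x} : Set X) := by
      ext z
      simp
    rw [this]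
    exact hTfin.isClosed_biUnion (fun x hx => hx.2)
  let U : X.Opens := ⟨Tᶜ, hTcl.isOpen_compl⟩
  have hUne : (U : Set X).Nonempty := by
    refine ⟨genericPoint X, fun hmem => ?_⟩
    exact Groth.Agent.Lib.Helper23.PtDiv.ne_genericPoint_of_isClosed X hdimX _ hmem.2 rfl
  obtain ⟨x, hxS, hxU⟩ := hS U hUne
  obtain ⟨hx, hn, hrat⟩ := hSc x hxS
  obtain ⟨y, hyx⟩ := hsurj x
  have hy : y ∈ CohB1.genLocus _ s := by
    by_contra hcon
    exact hxU ⟨⟨y, hcon, hyx⟩, hx⟩
  -- the point divisor
  let Zc : Closeds X := ⟨{x}, hx⟩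
  let Z : X.IdealSheafData := Scheme.IdealSheafData.vanishingIdeal Zc
  have hsupp : (Z.support : Set X) = {x} := Scheme.IdealSheafData.coe_support_vanishingIdeal Zc
  have hxZ : x ∈ Z.support := by
    show x ∈ (Z.support : Set X)
    rw [hsupp]; rfl
  have hJ : PicF.IsInvertible (ClSub.idealMod Z) :=
    (Groth.Agent.Lib.Helper23.PtDiv.isInvertible_and_deg_idealMod_point k X hdimX x hx hn).1
  have hdJ : Curv2.deg k X (ClSub.idealMod Z) 1 = -1 := by
    rw [Groth.Agent.Lib.Helper23.PtDiv.deg_idealMod k X Z (isCoh_of_isInvertible hJ)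
      (by rw [hsupp]; exact Set.finite_singleton x)
      (by
        intro z hz
        rw [hsupp] at hz
        rw [Set.mem_singleton_iff.mp hz]
        exact hx)]
    change -(Module.finrank k (Coh.HH X
      (ClSub.quotMod (Scheme.IdealSheafData.vanishingIdeal ⟨{x}, hx⟩)) 0) : ℤ) = -1
    rw [hrat]
    rfl
  have hA : PicF.IsInvertible (dual (ClSub.idealMod Z)) := isInvertible_dual hJ
  have hdA : Curv2.deg k X (dual (ClSub.idealMod Z)) 1 = 1 := by
    rw [deg_dual k hdimX.le hJ, hdJ]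
    norm_num
  obtain ⟨t, ht, hxt⟩ := exists_section_dual Z hJ
  have hB : PicF.IsInvertible ((Scheme.Modules.pullback g).obj (dual (ClSub.idealMod Z))) :=
    PbBasic.isInvertible_pullback g hA
  have hdB : Curv2.deg K XK ((Scheme.Modules.pullback g).obj (dual (ClSub.idealMod Z))) 1 = 1 := by
    haveI : (dual (ClSub.idealMod Z)).IsQuasicoherent :=
      InvCoh.isQuasicoherent_of_isInvertible hA
    rw [Groth.Agent.Lib.Helper23.FBC.deg_eq_of_isProper k K hpb _ 1, hdA]
  have hgl := PbBasic.genLocus_pullHom g hA t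
  have hyτ : y ∉ CohB1.genLocus _ (PbBasic.pullHom g t) := by
    rw [hgl]
    intro hmem
    have : g y ∈ CohB1.genLocus _ t := hmem
    rw [hyx] at this
    exact hxt x hxZ this
  have hτ : PbBasic.pullHom g t ≠ 0 := by
    intro h0'
    obtain ⟨z, hz⟩ := Groth.Agent.Lib.Helper23.AmpleCurve.exists_mem_genLocus hA t ht
    obtain ⟨w, hw⟩ := hsurj z
    have hw' : w ∈ CohB1.genLocus _ (PbBasic.pullHom g t) := by
      rw [hgl]
      show g w ∈ CohB1.genLocus _ t
      rw [hw]
      exact hz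
    rw [h0', genLocus_zero hB] at hw'
    exact hw'
  -- the new module
  have hL₀' : PicF.IsInvertible (CohB1.tensorMod (ClSub.idealMod Z) L₀) :=
    InvTensor.isInvertible_tensorMod hJ hL₀
  have hgL₀' := PbBasic.isInvertible_pullback g hL₀'
  have hM' : PicF.IsInvertible (CohB1.tensorMod L
      ((Scheme.Modules.pullback g).obj (CohB1.tensorMod (ClSub.idealMod Z) L₀))) :=
    InvTensor.isInvertible_tensorMod hL hgL₀'
  obtain ⟨c⟩ := Groth.Agent.Lib.Helper23.PtDiv.nonempty_cancel_iso X hJ L₀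
  let φ : CohB1.tensorMod ((Scheme.Modules.pullback g).obj (dual (ClSub.idealMod Z)))
      (CohB1.tensorMod L
        ((Scheme.Modules.pullback g).obj (CohB1.tensorMod (ClSub.idealMod Z) L₀))) ≅
      CohB1.tensorMod L ((Scheme.Modules.pullback g).obj L₀) :=
    (assoc _ L _).symm ≪≫ tensorMapIso (braid _ L) (Iso.refl _) ≪≫ assoc L _ _ ≪≫
      tensorMapIso (Iso.refl L)
        ((PbTensor.pbTensorIso g _ _ hA hL₀').symm ≪≫ (Scheme.Modules.pullback g).mapIso c)
  obtain ⟨h1', hdeg'⟩ := stepD K XK hdimK h0K hM hM' hB (PbBasic.pullHom g t) hτ φ hdB h1 s y hy hyτ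
  exact ⟨_, hL₀', h1', hdeg'⟩

include hpb in
/-- the chain: from `H¹ = 0` in degree `g + n` down to `H¹ = 0` in degree `g` -/
theorem chain_bc (hdimX : topologicalKrullDim X = 1) (hdimK : topologicalKrullDim XK = 1)
    (h0K : Module.finrank K (Coh.HH XK (Coh.structureModule XK) 0) = 1)
    (S : Set X) (hS : ∀ U : X.Opens, (U : Set X).Nonempty → ∃ x ∈ S, x ∈ U)
    (hSc : ∀ x ∈ S, ∃ hx : IsClosed ({x} : Set X), IsIntegrallyClosed (X.presheaf.stalk x) ∧
      Module.finrank k (Coh.HH X
        (ClSub.quotMod (Scheme.IdealSheafData.vanishingIdeal ⟨{x}, hx⟩)) 0) = 1)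
    {L : XK.Modules} (hL : PicF.IsInvertible L) :
    ∀ (n : ℕ) (L₀ : X.Modules), PicF.IsInvertible L₀ →
      Subsingleton (Coh.HH XK (CohB1.tensorMod L ((Scheme.Modules.pullback g).obj L₀)) 1) →
      Curv2.deg K XK (CohB1.tensorMod L ((Scheme.Modules.pullback g).obj L₀)) 1 =
        (Curv2.genus K XK : ℤ) + n →
      ∃ L₀' : X.Modules, PicF.IsInvertible L₀' ∧
        Subsingleton (Coh.HH XK (CohB1.tensorMod L ((Scheme.Modules.pullback g).obj L₀')) 1) ∧
        Curv2.deg K XK (CohB1.tensorMod L ((Scheme.Modules.pullback g).obj L₀')) 1 =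
          (Curv2.genus K XK : ℤ) := by
  intro n
  induction n with
  | zero =>
    intro L₀ hL₀ h1 hd
    exact ⟨L₀, hL₀, h1, by simpa using hd⟩
  | succ n ih =>
    intro L₀ hL₀ h1 hd
    obtain ⟨L₀', hL₀', h1', hd'⟩ := step_bc k K hpb hdimX hdimK h0K S hS hSc hL hL₀ h1
      (by rw [hd]; push_cast; linarith)
    exact ih L₀' hL₀' h1' (by rw [hd', hd]; push_cast; ring)

include hpb in
/-- **Twist to `h⁰ = 1`, `h¹ = 0`** on the base change of a curve with enough rational points. -/
theorem exists_twist_bc (hdimX : topologicalKrullDim X = 1) (hdimK : topologicalKrullDim XK = 1)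
    (h0K : Module.finrank K (Coh.HH XK (Coh.structureModule XK) 0) = 1)
    (S : Set X) (hS : ∀ U : X.Opens, (U : Set X).Nonempty → ∃ x ∈ S, x ∈ U)
    (hSc : ∀ x ∈ S, ∃ hx : IsClosed ({x} : Set X), IsIntegrallyClosed (X.presheaf.stalk x) ∧
      Module.finrank k (Coh.HH X
        (ClSub.quotMod (Scheme.IdealSheafData.vanishingIdeal ⟨{x}, hx⟩)) 0) = 1)
    {L : XK.Modules} (hL : PicF.IsInvertible L) :
    ∃ L₀ : X.Modules, PicF.IsInvertible L₀ ∧
      Module.finrank K
        (Coh.HH XK (CohB1.tensorMod L ((Scheme.Modules.pullback g).obj L₀)) 0) = 1 ∧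
      Subsingleton (Coh.HH XK (CohB1.tensorMod L ((Scheme.Modules.pullback g).obj L₀)) 1) := by
  haveI := isNoetherian_of_isProper k X
  haveI := isNoetherian_of_isProper K XK
  -- a rational point and its degree one module
  obtain ⟨x, hxS, -⟩ := hS ⊤ ⟨genericPoint X, trivial⟩
  obtain ⟨hx, hn, hrat⟩ := hSc x hxS
  let Zc : Closeds X := ⟨{x}, hx⟩
  let Z : X.IdealSheafData := Scheme.IdealSheafData.vanishingIdeal Zc
  have hsupp : (Z.support : Set X) = {x} := Scheme.IdealSheafData.coe_support_vanishingIdeal Zc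
  have hJ : PicF.IsInvertible (ClSub.idealMod Z) :=
    (Groth.Agent.Lib.Helper23.PtDiv.isInvertible_and_deg_idealMod_point k X hdimX x hx hn).1
  have hdJ : Curv2.deg k X (ClSub.idealMod Z) 1 = -1 := by
    rw [Groth.Agent.Lib.Helper23.PtDiv.deg_idealMod k X Z (isCoh_of_isInvertible hJ)
      (by rw [hsupp]; exact Set.finite_singleton x)
      (by
        intro z hz
        rw [hsupp] at hz
        rw [Set.mem_singleton_iff.mp hz]
        exact hx)]
    change -(Module.finrank k (Coh.HH X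
      (ClSub.quotMod (Scheme.IdealSheafData.vanishingIdeal ⟨{x}, hx⟩)) 0) : ℤ) = -1
    rw [hrat]
    rfl
  have hA : PicF.IsInvertible (dual (ClSub.idealMod Z)) := isInvertible_dual hJ
  have hdA : Curv2.deg k X (dual (ClSub.idealMod Z)) 1 = 1 := by
    rw [deg_dual k hdimX.le hJ, hdJ]
    norm_num
  -- the starting twist
  let n : ℕ := (2 * (Curv2.genus K XK : ℤ) + 1 - Curv2.deg K XK L 1).toNat
  have hAn : PicF.IsInvertible (CohB1.tensorPow (dual (ClSub.idealMod Z)) n) :=
    InvTensor.isInvertible_tensorPow hA n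
  have hgAn := PbBasic.isInvertible_pullback g hAn
  have hdAn : Curv2.deg K XK
      ((Scheme.Modules.pullback g).obj (CohB1.tensorPow (dual (ClSub.idealMod Z)) n)) 1 = n := by
    haveI : (CohB1.tensorPow (dual (ClSub.idealMod Z)) n).IsQuasicoherent :=
      InvCoh.isQuasicoherent_of_isInvertible hAn
    rw [Groth.Agent.Lib.Helper23.FBC.deg_eq_of_isProper k K hpb _ 1,
      Groth.Agent.Lib.Helper23.AmpleCurve.deg_tensorPow k hdimX.le hA n, hdA, mul_one]
  have hM : PicF.IsInvertible (CohB1.tensorMod L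
      ((Scheme.Modules.pullback g).obj (CohB1.tensorPow (dual (ClSub.idealMod Z)) n))) :=
    InvTensor.isInvertible_tensorMod hL hgAn
  have hdM : Curv2.deg K XK (CohB1.tensorMod L
      ((Scheme.Modules.pullback g).obj (CohB1.tensorPow (dual (ClSub.idealMod Z)) n))) 1 =
      Curv2.deg K XK L 1 + n := by
    rw [deg_tw K hdimK.le (isFinLocFreeOfRank_one_of_isInvertible hL) hgAn, hdAn]
    push_cast
    ring
  have hnge : 2 * (Curv2.genus K XK : ℤ) + 1 - Curv2.deg K XK L 1 ≤ (n : ℤ) := Int.self_le_toNat _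
  have h1 : Subsingleton (Coh.HH XK (CohB1.tensorMod L
      ((Scheme.Modules.pullback g).obj (CohB1.tensorPow (dual (ClSub.idealMod Z)) n))) 1) :=
    h1_vanish_of_deg_ge' K hdimK.le h0K hM (by rw [hdM]; linarith)
  let m : ℕ := (Curv2.deg K XK L 1 + n - (Curv2.genus K XK : ℤ)).toNat
  have hm : ((m : ℕ) : ℤ) = Curv2.deg K XK L 1 + n - (Curv2.genus K XK : ℤ) := by
    apply Int.toNat_of_nonneg
    have : (0 : ℤ) ≤ (Curv2.genus K XK : ℤ) := Int.natCast_nonneg _
    linarith
  obtain ⟨L₀, hL₀, h1', hd'⟩ := chain_bc k K hpb hdimX hdimK h0K S hS hSc hL m _ hAn h1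
    (by rw [hdM, hm]; ring)
  refine ⟨L₀, hL₀, ?_, h1'⟩
  have hN := InvTensor.isInvertible_tensorMod hL (PbBasic.isInvertible_pullback g hL₀)
  have hrr := riemann_roch K hdimK.le h0K hN
  have e1 : Module.finrank K
      (Coh.HH XK (CohB1.tensorMod L ((Scheme.Modules.pullback g).obj L₀)) 1) = 0 :=
    Module.finrank_zero_of_subsingleton
  rw [e1, hd'] at hrr
  push_cast at hrr
  have : (Module.finrank K
      (Coh.HH XK (CohB1.tensorMod L ((Scheme.Modules.pullback g).obj L₀)) 0) : ℤ) = 1 := by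
    linarith
  exact_mod_cast this

end Main

section Final
variable (k : Type u) [Field k] [IsSepClosed k] (K : Type u) [Field K] [Algebra k K]
  {X XK : Scheme.{u}}
  [X.Over (Spec (CommRingCat.of k))] [XK.Over (Spec (CommRingCat.of K))] {g : XK ⟶ X}
  (hpb : IsPullback g (XK ↘ Spec (CommRingCat.of K)) (X ↘ Spec (CommRingCat.of k))
      (Spec.map (CommRingCat.ofHom (algebraMap k K))))

include hpb in
/-- **S6487**: on the base change `X_K` of a smooth proper integral curve `X` over a separably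
closed field `k`, every invertible module can be twisted by the pullback of an invertible module
on `X` to one with `h⁰ = 1` and `h¹ = 0`. -/
theorem exists_twist_sepClosed [IsProper (X ↘ Spec (CommRingCat.of k))]
    [Smooth (X ↘ Spec (CommRingCat.of k))] [IsIntegral X] (hdim : topologicalKrullDim X = 1)
    {L : XK.Modules} (hL : PicF.IsInvertible L) :
    ∃ L₀ : X.Modules, PicF.IsInvertible L₀ ∧
      Module.finrank K
        (Coh.HH XK (CohB1.tensorMod L ((Scheme.Modules.pullback g).obj L₀)) 0) = 1 ∧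
      Subsingleton (Coh.HH XK (CohB1.tensorMod L ((Scheme.Modules.pullback g).obj L₀)) 1) := by
  haveI := isNoetherian_of_isProper k X
  have hregloc : ∀ x : X, IsRegularLocalRing (X.presheaf.stalk x) := fun x =>
    Groth.Agent.Lib.Helper26.RegularSch.isRegularLocalRing_stalk_of_smooth_field k
      (X ↘ Spec (CommRingCat.of k)) x
  have hnorm : ∀ x : X, IsIntegrallyClosed (X.presheaf.stalk x) := fun x => by
    haveI := hregloc x
    exact Groth.Agent.Lib.Helper26.RegularNormal.isIntegrallyClosed_of_isRegularLocalRing _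
  -- rational points
  let S : Set X := {P | ∃ σ : Spec (CommRingCat.of k) ⟶ X,
    σ ≫ (X ↘ Spec (CommRingCat.of k)) = 𝟙 _ ∧ ∀ t, σ t = P}
  have hid : Spec.map (CommRingCat.ofHom (algebraMap k k)) = 𝟙 (Spec (CommRingCat.of k)) := by
    rw [Algebra.algebraMap_self]
    exact Spec.map_id _
  have hS : ∀ U : X.Opens, (U : Set X).Nonempty → ∃ x ∈ S, x ∈ U := by
    intro U hU
    have hd := Groth.Agent.Lib.Helper11.KPts.dense_pts_of_smooth k k
      (X ↘ Spec (CommRingCat.of k))
    obtain ⟨x, ⟨p, hp1, hp2⟩, hxU⟩ := hd.exists_mem_open U.isOpen hU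
    exact ⟨x, ⟨p, hp1.trans hid, hp2⟩, hxU⟩
  have hSc : ∀ x ∈ S, ∃ hx : IsClosed ({x} : Set X), IsIntegrallyClosed (X.presheaf.stalk x) ∧
      Module.finrank k (Coh.HH X
        (ClSub.quotMod (Scheme.IdealSheafData.vanishingIdeal ⟨{x}, hx⟩)) 0) = 1 := by
    rintro x ⟨σ, hσ, hσx⟩
    obtain ⟨P, hP, hker, hσP⟩ := Groth.Agent.Lib.Helper23.RatDiv.section_point k X σ hσ
    obtain rfl : P = x := (hσP default).symm.trans (hσx default)
    refine ⟨hP, hnorm P, ?_⟩
    rw [← hker]
    exact Groth.Agent.Lib.Helper7.PtDiv.finrank_h0_quotMod_ker_of_section k σ hσ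
  obtain ⟨x₀, ⟨σ₀, hσ₀, -⟩, -⟩ := hS ⊤ ⟨genericPoint X, trivial⟩
  have h0 : Module.finrank k (Coh.HH X (Coh.structureModule X) 0) = 1 :=
    Groth.Agent.Lib.Helper7.PtDiv.finrank_H0_eq_one_of_section k σ₀ hσ₀
  -- the base change
  haveI : IsProper (XK ↘ Spec (CommRingCat.of K)) := isProper_bc k K hpb
  haveI : Smooth (XK ↘ Spec (CommRingCat.of K)) := smooth_bc k K hpb
  have hdimK : topologicalKrullDim XK = 1 := by rw [dim_bc k K hpb, hdim]
  have h0K : Module.finrank K (Coh.HH XK (Coh.structureModule XK) 0) = 1 := by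
    rw [h0_bc k K hpb, h0]
  haveI : ConnectedSpace XK := Groth.Agent.Lib.Helper7.CurveCM.connected K XK hdimK h0K
  haveI : IsIntegral XK :=
    Groth.Agent.Lib.Helper13.AbVarDim.isIntegral_of_smooth_connected K
      (XK ↘ Spec (CommRingCat.of K))
  exact exists_twist_bc k K hpb hdim hdimK h0K S hS hSc hL

end Final

end Groth.Agent.Lib.Helper23.BCDiv
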