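import Groth.Agent.Lib.Helper23.T2K

/-!
# T2L: consequences of finiteness: `Γ(X, f⁻¹U)` is finite over `Γ(S, U)` for proper `f`
-/
set_option autoImplicit false
universe u
open CategoryTheory CategoryTheory.Limits Opposite TopologicalSpace AlgebraicGeometry

noncomputable section

namespace Groth.Agent.Lib.Helper23.T2

variable {X S : Scheme.{u}} (f : X ⟶ S)

lemma isCoh_structureModule (T : Scheme.{u}) : Coh.IsCoh (Coh.structureModule T) :=
  ⟨inferInstance, inferInstance⟩

/-- For `f` proper over a locally Noetherian base, `Γ(S,U) → Γ(X, f⁻¹U)` is finite for affine `U`. -/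
theorem finite_app_of_isProper [IsProper f] [IsLocallyNoetherian S] (U : S.Opens)
    (hU : IsAffineOpen U) : (f.app U).hom.Finite := by
  haveI : IsNoetherianRing Γ(S, U) := IsLocallyNoetherian.component_noetherian ⟨U, hU⟩
  have key := proper_cohomology_finite (A := Γ(S, U)) ((f ∣_ U) ≫ hU.isoSpec.hom)
    (Coh.structureModule _) (isCoh_structureModule _) 0
  have hρ : Coh.toGlobal (A := Γ(S, U)) ((f ∣_ U) ≫ hU.isoSpec.hom) =
      (pushRing (f ∣_ U)).comp (topRing U) := by
    rw [← toGlobal_isoSpec U hU, toGlobal_comp]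
  rw [hρ] at key
  have key2 := (finClass ((pushRing (f ∣_ U)).comp (topRing U))).of_equiv (h0equiv _) key
  letI := (f.app U).hom.toAlgebra
  change Module.Finite Γ(S, U) Γ(X, f ⁻¹ᵁ U)
  let _ : Module Γ(S, U) (Gm (Coh.structureModule ((f ⁻¹ᵁ U : X.Opens) : Scheme.{u}))) :=
    Module.compHom _ ((pushRing (f ∣_ U)).comp (topRing U))
  have hW : (f ⁻¹ᵁ U).ι ''ᵁ ⊤ = f ⁻¹ᵁ U := (f ⁻¹ᵁ U).ι_image_top
  let e : Gm (Coh.structureModule ((f ⁻¹ᵁ U : X.Opens) : Scheme.{u})) →ₗ[Γ(S, U)] Γ(X, f ⁻¹ᵁ U) :=
    { toFun := fun x => (X.presheaf.map (eqToHom hW.symm).op).hom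
        (show Γ(X, (f ⁻¹ᵁ U).ι ''ᵁ ⊤) from x)
      map_add' := fun x y => map_add _ _ _
      map_smul' := fun b x => by
        change (X.presheaf.map (eqToHom hW.symm).op).hom
          ((show Γ(X, (f ⁻¹ᵁ U).ι ''ᵁ ⊤) from (pushRing (f ∣_ U)) (topRing U b)) *
            (show Γ(X, (f ⁻¹ᵁ U).ι ''ᵁ ⊤) from x)) =
          (f.app U).hom b * (X.presheaf.map (eqToHom hW.symm).op).hom
            (show Γ(X, (f ⁻¹ᵁ U).ι ''ᵁ ⊤) from x)
        rw [map_mul]
        congr 1
        rw [pushRing_morphismRestrict, topRing_apply]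
        have : S.presheaf.map (eqToHom U.ι_image_top).op ≫ f.app (U.ι ''ᵁ ⊤) ≫
            X.presheaf.map (eqToHom (resOpens_eq f U)).op ≫
              X.presheaf.map (eqToHom hW.symm).op = f.app U := by
          rw [Scheme.Hom.naturality_assoc, ← Functor.map_comp, ← Functor.map_comp]
          convert Category.comp_id _
          exact X.presheaf.map_id _
        exact congrArg (fun φ => φ.hom b) this }
  have he : Function.Surjective e := by
    intro y
    refine ⟨(X.presheaf.map (eqToHom hW).op).hom y, ?_⟩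
    change (X.presheaf.map (eqToHom hW).op ≫ X.presheaf.map (eqToHom hW.symm).op).hom y = y
    rw [← Functor.map_comp, ← op_comp, eqToHom_trans, eqToHom_refl, op_id, X.presheaf.map_id]
    rfl
  haveI : Module.Finite Γ(S, U) (Gm (Coh.structureModule ((f ⁻¹ᵁ U : X.Opens) : Scheme.{u}))) :=
    key2
  exact Module.Finite.of_surjective e he

open AlgebraicGeometry.Scheme.Hom in
set_option backward.isDefEq.respectTransparency false in
/-- Stein factorisation: the relative normalization of a proper morphism is finite. -/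
theorem isFinite_fromNormalization [IsProper f] [IsLocallyNoetherian S] :
    IsFinite f.fromNormalization := by
  rw [IsZariskiLocalAtTarget.iff_of_iSup_eq_top (P := @IsFinite) _
    (iSup_affineOpens_eq_top _)]
  intro U
  let e := IsOpenImmersion.isoOfRangeEq (f.fromNormalization ⁻¹ᵁ U).ι (f.normalizationOpenCover.f U)
      (by simpa using congr($(f.fromNormalization_preimage U).1))
  rw [← MorphismProperty.cancel_left_of_respectsIso @IsFinite e.inv,
    ← MorphismProperty.cancel_right_of_respectsIso @IsFinite _ U.2.isoSpec.hom]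
  have : (f.normalizationDiagramMap.app (.op U)).hom.Finite := by
    let := (f.app U).hom.toAlgebra
    change (algebraMap Γ(S, U) (integralClosure Γ(S, U) Γ(X, f ⁻¹ᵁ U))).Finite
    haveI : IsNoetherianRing Γ(S, U) := IsLocallyNoetherian.component_noetherian U
    haveI : Module.Finite Γ(S, U) Γ(X, f ⁻¹ᵁ U) := finite_app_of_isProper f U U.2
    rw [RingHom.finite_algebraMap]
    haveI : IsNoetherian Γ(S, U) Γ(X, f ⁻¹ᵁ U) := isNoetherian_of_isNoetherianRing_of_finite _ _
    exact Module.IsNoetherian.finite Γ(S, U)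
      (Subalgebra.toSubmodule (integralClosure Γ(S, U) Γ(X, f ⁻¹ᵁ U)))
  convert! (IsFinite.SpecMap_iff _).mpr this
  rw [← cancel_mono U.2.fromSpec]
  simp [IsAffineOpen.isoSpec_hom, e, ι_fromNormalization]

end Groth.Agent.Lib.Helper23.T2
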