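import Groth.Agent.Lib.Helper23.T2J
import Groth.Agent.Lib.Helper17.ClImmUnit
import Groth.Agent.Lib.Helper3.QCOpen
import Groth.Agent.S0020

/-!
# T2K: finiteness of coherent cohomology on proper schemes (Noetherian induction)
-/
set_option autoImplicit false
universe u
open CategoryTheory CategoryTheory.Limits Opposite TopologicalSpace AlgebraicGeometry

noncomputable section

namespace Groth.Agent.Lib.Helper23.T2

open Groth.Agent.Lib.Helper3

variable {Y : Scheme.{u}}

/-- the scheme-theoretic support of a coherent module, with the module descended to it. -/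
theorem exists_support_subscheme (G : Y.Modules) (hG : Coh.IsCoh G) :
    ∃ (Y₁ : Scheme.{u}) (i₁ : Y₁ ⟶ Y) (_ : IsClosedImmersion i₁) (G₁ : Y₁.Modules),
      Coh.IsCoh G₁ ∧ Nonempty (G ≅ (Coh.push i₁).obj G₁) ∧ Set.range i₁ = CohB1.support G := by
  haveI := hG.1
  haveI := hG.2
  obtain ⟨J, -, hiso, -, hsupp⟩ :=
    Groth.Agent.Lib.Helper17.ClImmUnit.exists_schemeTheoreticSupport G
  haveI := hiso
  refine ⟨J.subscheme, J.subschemeι, inferInstance, (Scheme.Modules.pullback J.subschemeι).obj G,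
    isCoh_pullback _ hG,
    ⟨asIso ((Scheme.Modules.pullbackPushforwardAdjunction J.subschemeι).unit.app G)⟩, ?_⟩
  rw [Scheme.IdealSheafData.range_subschemeι, hsupp]

/-- cohomology on a closed subscheme and of the pushforward. -/
lemma push_closed_iff {A : Type u} [CommRing A] [IsNoetherianRing A] {Y₁ : Scheme.{u}}
    (i₁ : Y₁ ⟶ Y) [IsClosedImmersion i₁] (sY : Y ⟶ Spec (CommRingCat.of A)) (G₁ : Y₁.Modules)
    [G₁.IsQuasicoherent] (n : ℕ) :
    (finClass (Coh.toGlobal sY)).P (HHm ((Coh.push i₁).obj G₁) n) ↔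
      (finClass (Coh.toGlobal (i₁ ≫ sY))).P (HHm G₁ n) :=
  affine_transfer i₁ G₁ (finClass_compat' _ _ _ (toGlobal_comp i₁ sY)) n

/-- cohomology on the empty scheme. -/
lemma P_of_isEmpty [IsEmpty Y] (𝒮 : SClass (Coh.Γtop Y)) (G : Y.Modules) [G.IsQuasicoherent]
    (n : ℕ) : 𝒮.P (HHm G n) := by
  cases n with
  | zero =>
    haveI : Subsingleton (Gm G) :=
      QCOpen.subsingleton_sections_of_stalks G ⊤ (fun x _ => (IsEmpty.false x).elim)
    haveI : Subsingleton (HHm G 0) := (h0equiv G).toEquiv.subsingleton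
    exact 𝒮.zero _
  | succ n =>
    haveI : IsAffine Y := isAffine_of_isEmpty
    haveI : Subsingleton (HHm G (n + 1)) := Groth.Agent.S0007.result Y G (n + 1) (by omega)
    exact 𝒮.zero _

/-- **Finiteness of coherent cohomology**, closed-subscheme form. -/
theorem finOn {A : Type u} [CommRing A] [IsNoetherianRing A] {X : Scheme.{u}}
    (sX : X ⟶ Spec (CommRingCat.of A)) [IsProper sX] :
    ∀ (Z : Closeds X) (Y : Scheme.{u}) (i : Y ⟶ X) [IsClosedImmersion i],
      Set.range i ⊆ (Z : Set X) → ∀ (G : Y.Modules), Coh.IsCoh G → ∀ n,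
        (finClass (Coh.toGlobal (i ≫ sX))).P (HHm G n) := by
  haveI : IsLocallyNoetherian X := LocallyOfFiniteType.isLocallyNoetherian sX
  haveI : CompactSpace X := QuasiCompact.compactSpace_of_compactSpace sX
  haveI : IsNoetherian X := {}
  haveI : NoetherianSpace X := inferInstance
  haveI : WellFoundedLT (Closeds X) := inferInstance
  intro Z
  induction Z using WellFoundedLT.induction with
  | ind Z IH =>
    intro Y i _ hi G hG n
    obtain ⟨Y₁, i₁, hi₁, G₁, hG₁, ⟨e⟩, hr⟩ := exists_support_subscheme G hG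
    haveI := hi₁
    haveI := hG₁.1
    -- reduce to `Y₁`
    suffices h : (finClass (Coh.toGlobal (i₁ ≫ i ≫ sX))).P (HHm G₁ n) from
      (finClass (Coh.toGlobal (i ≫ sX))).of_equiv (hmapEquiv e.symm n)
        ((push_closed_iff i₁ (i ≫ sX) G₁ n).2 h)
    have hcl : IsClosed (Set.range (i₁ ≫ i)) := (i₁ ≫ i).isClosedEmbedding.isClosed_range
    let Z₁ : Closeds X := ⟨Set.range (i₁ ≫ i), hcl⟩
    have hZ₁ : Z₁ ≤ Z := by
      intro x hx
      obtain ⟨y, rfl⟩ := hx
      exact hi ⟨i₁ y, rfl⟩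
    by_cases hZ : Z₁ = Z
    · -- the main case
      have hass : (i₁ ≫ i) ≫ sX = i₁ ≫ i ≫ sX := Category.assoc _ _ _
      rw [← hass]
      by_cases hne : Nonempty Y₁
      · refine step ((i₁ ≫ i) ≫ sX) ?_ G₁ hG₁ n
        intro U hU N hN hsupp m
        obtain ⟨Y₂, i₂, hi₂, N₂, hN₂, ⟨e₂⟩, hr₂⟩ := exists_support_subscheme N hN
        haveI := hi₂
        haveI := hN₂.1
        refine (finClass (Coh.toGlobal ((i₁ ≫ i) ≫ sX))).of_equiv (hmapEquiv e₂.symm m)
          ((push_closed_iff i₂ ((i₁ ≫ i) ≫ sX) N₂ m).2 ?_)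
        have hcl₂ : IsClosed (Set.range (i₂ ≫ i₁ ≫ i)) :=
          (i₂ ≫ i₁ ≫ i).isClosedEmbedding.isClosed_range
        let Z₂ : Closeds X := ⟨Set.range (i₂ ≫ i₁ ≫ i), hcl₂⟩
        have hlt : Z₂ < Z := by
          rw [← hZ]
          refine lt_of_le_of_ne ?_ ?_
          · intro x hx
            obtain ⟨y, rfl⟩ := hx
            exact ⟨i₂ y, rfl⟩
          · intro heq
            obtain ⟨u, hu⟩ := hU
            have h1 : (i₁ ≫ i) u ∈ (Z₁ : Set X) := ⟨u, rfl⟩
            rw [← heq] at h1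
            obtain ⟨y, hy⟩ := h1
            have h2 : i₂ y = u := (i₁ ≫ i).isClosedEmbedding.injective hy
            have h3 : u ∈ CohB1.support N := by rw [← hr₂]; exact ⟨y, h2⟩
            exact hsupp h3 hu
        have key := IH Z₂ hlt Y₂ (i₂ ≫ i₁ ≫ i) (fun x hx => hx) N₂ hN₂ m
        have hass₂ : (i₂ ≫ i₁ ≫ i) ≫ sX = i₂ ≫ (i₁ ≫ i) ≫ sX := by
          simp only [Category.assoc]
        rw [hass₂] at key
        exact key
      · haveI : IsEmpty Y₁ := not_nonempty_iff.1 hne
        exact P_of_isEmpty _ G₁ n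
    · have hlt : Z₁ < Z := lt_of_le_of_ne hZ₁ hZ
      have key := IH Z₁ hlt Y₁ (i₁ ≫ i) (fun x hx => hx) G₁ hG₁ n
      have hass : (i₁ ≫ i) ≫ sX = i₁ ≫ i ≫ sX := Category.assoc _ _ _
      rw [hass] at key
      exact key

/-- **Finiteness of coherent cohomology** for a proper scheme over a Noetherian ring. -/
theorem proper_cohomology_finite {A : Type u} [CommRing A] [IsNoetherianRing A] {X : Scheme.{u}}
    (sX : X ⟶ Spec (CommRingCat.of A)) [IsProper sX] (M : X.Modules) (hM : Coh.IsCoh M) (n : ℕ) :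
    (finClass (Coh.toGlobal sX)).P (HHm M n) := by
  have key := finOn sX ⊤ X (𝟙 X) (fun x _ => trivial) M hM n
  rw [Category.id_comp] at key
  exact key

end Groth.Agent.Lib.Helper23.T2
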