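import Groth.Agent.Lib.Helper23.T2I
import Groth.Agent.Lib.Helper17.PbFinite
import Groth.Agent.S0025
import Groth.Agent.S0031
import Groth.Agent.S9514

/-!
# T2J: the induction step for finiteness of coherent cohomology (Chow's lemma + dimension shifting)
-/
set_option autoImplicit false
universe u
open CategoryTheory CategoryTheory.Limits Opposite TopologicalSpace AlgebraicGeometry

noncomputable section

namespace Groth.Agent.Lib.Helper23.T2

open Groth.Agent.Lib.Helper3

variable {Y : Scheme.{u}}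

section SES

variable (𝒮 : SClass (Coh.Γtop Y))

lemma P_mid_of_shortExact (S : ShortComplex Y.Modules) (hS : S.ShortExact) (n : ℕ)
    (h₁ : 𝒮.P (HHm S.X₁ n)) (h₃ : 𝒮.P (HHm S.X₃ n)) : 𝒮.P (HHm S.X₂ n) :=
  𝒮.mid (hmap S.f n) (hmap S.g n) (fun b hb => hexact₂ S hS n b hb) h₁ h₃

lemma P_left_of_shortExact (S : ShortComplex Y.Modules) (hS : S.ShortExact)
    (h₂ : ∀ n, 𝒮.P (HHm S.X₂ n)) (h₃ : ∀ n, 𝒮.P (HHm S.X₃ n)) (n : ℕ) : 𝒮.P (HHm S.X₁ n) := by
  cases n with
  | zero =>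
    haveI := hS.mono_f
    exact 𝒮.of_injective (hmap S.f 0) (hmap_injective_zero S.f) (h₂ 0)
  | succ n =>
    exact 𝒮.mid (hδ S hS n) (hmap S.f (n + 1)) (fun b hb => hexact₁ S hS n b hb) (h₃ n)
      (h₂ (n + 1))

/-- two-out-of-three through a morphism with kernel and cokernel in the class. -/
lemma P_of_ker_coker {G E : Y.Modules} (η : G ⟶ E)
    (hK : ∀ n, 𝒮.P (HHm (kernel η) n)) (hC : ∀ n, 𝒮.P (HHm (cokernel η) n))
    (hE : ∀ n, 𝒮.P (HHm E n)) (n : ℕ) : 𝒮.P (HHm G n) := by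
  -- `0 → im → E → coker → 0`
  have hS₂ : (ShortComplex.kernelSequence (cokernel.π η)).ShortExact :=
    ShortComplex.ShortExact.mk' (ShortComplex.kernelSequence_exact _) inferInstance
      (inferInstanceAs (Epi (cokernel.π η)))
  have hIm : ∀ n, 𝒮.P (HHm (kernel (cokernel.π η)) n) :=
    P_left_of_shortExact 𝒮 _ hS₂ hE hC
  -- `0 → ker → G → coim → 0`
  have hS₁ : (ShortComplex.cokernelSequence (kernel.ι η)).ShortExact :=
    ShortComplex.ShortExact.mk' (ShortComplex.cokernelSequence_exact _)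
      (inferInstanceAs (Mono (kernel.ι η))) inferInstance
  have hCoim : 𝒮.P (HHm (cokernel (kernel.ι η)) n) :=
    𝒮.of_equiv (hmapEquiv (Abelian.coimageIsoImage η).symm n) (hIm n)
  exact P_mid_of_shortExact 𝒮 _ hS₁ n (hK n) hCoim

end SES

lemma isCoh_of_iso {M N : Y.Modules} (e : M ≅ N) (hM : Coh.IsCoh M) : Coh.IsCoh N := by
  haveI := hM.1
  haveI := hM.2
  exact ⟨(SheafOfModules.isQuasicoherent Y.ringCatSheaf).prop_of_iso e hM.1,
    QCProps.isFiniteType_of_iso e⟩

lemma isCoh_pullback {Y' : Scheme.{u}} (π : Y' ⟶ Y) {G : Y.Modules} (hG : Coh.IsCoh G) :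
    Coh.IsCoh ((Scheme.Modules.pullback π).obj G) := by
  haveI := hG.1
  haveI := hG.2
  exact ⟨Groth.Agent.Lib.Helper17.PbStalk.isQuasicoherent_pullback π G,
    Groth.Agent.Lib.Helper17.PbFinite.isFiniteType_pullback π G⟩

/-- **The induction step.** -/
theorem step {A : Type u} [CommRing A] [IsNoetherianRing A]
    (sY : Y ⟶ Spec (CommRingCat.of A)) [IsProper sY] [Nonempty Y]
    (hIH : ∀ (U : Y.Opens), (U : Set Y).Nonempty → ∀ N : Y.Modules, Coh.IsCoh N →
      CohB1.support N ⊆ (U : Set Y)ᶜ → ∀ n, (finClass (Coh.toGlobal sY)).P (HHm N n))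
    (G : Y.Modules) (hG : Coh.IsCoh G) (n : ℕ) : (finClass (Coh.toGlobal sY)).P (HHm G n) := by
  haveI : IsLocallyNoetherian Y := LocallyOfFiniteType.isLocallyNoetherian sY
  haveI : CompactSpace Y := QuasiCompact.compactSpace_of_compactSpace sY
  obtain ⟨n₀, Y', π, j, hjimm, hj, hπ, -, U, hU, hiso⟩ := Groth.Agent.S0025.result sY
  haveI := hjimm
  haveI := hπ
  haveI := hiso
  have hUne : (U : Set Y).Nonempty := hU.nonempty
  haveI := hG.1
  set G' : Y'.Modules := (Scheme.Modules.pullback π).obj G with hG'def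
  have hG' : Coh.IsCoh G' := isCoh_pullback π hG
  haveI := hG'.1
  let 𝒮 := finClass (Coh.toGlobal sY)
  let 𝒮' := finClass (Coh.toGlobal (π ≫ sY))
  have hcompat : SClass.Compat (pushRing π) 𝒮 𝒮' :=
    finClass_compat' _ _ _ (toGlobal_comp π sY)
  -- coherence of the higher direct images
  have hE : ∀ q, Coh.IsCoh ((Coh.Rpush π q).obj G') := fun q =>
    isCoh_Rpush_of_local π G' q (fun W hW => local_proj_finite π sY n₀ j hj G' hG' W hW q)
  -- vanishing in large degrees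
  obtain ⟨N, hN⟩ := Groth.Agent.S0031.result π
  -- the complex
  let I : InjectiveResolution G' := injectiveResolution G'
  let K := ((Coh.push π).mapHomologicalComplex (ComplexShape.up ℕ)).obj I.cocomplex
  have hK : TermsAcyclic K :=
    termsAcyclic_of_isFlq _ (fun n => isFlq_push π (res_isFlq I n))
  have hNK : ∀ q, N < q → IsZero (K.homology q) := fun q hq =>
    IsZero.of_iso ((Groth.Agent.Lib.Helper2.RpushCompare.isZero_Rpush_iff π G' q).2
      (hN G' hG'.1 q hq.le)) (pushHomologyIso π I q)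
  have hH : ∀ q p : ℕ, 𝒮.P (HHm (K.homology (q + 1)) p) := fun q p =>
    𝒮.of_equiv (hmapEquiv (pushHomologyIso π I (q + 1)).symm p)
      (hIH U hUne _ (hE (q + 1)) (support_Rpush_succ π G' U q) p)
  have hQ : ∀ m, PQ K 𝒮 m := fun m =>
    (PQ_transfer (secIsoPush π I.cocomplex) hcompat m).2
      (PQ_of_resolution 𝒮' (res_termsAcyclic I) (res_isZero_homology I) m
        (𝒮'.of_equiv (hmapEquiv (resHomologyZeroIso I) m).symm
          (proj_finite A n₀ (π ≫ sY) j hj G' hG' m)))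
  have hK0 : ∀ p, 𝒮.P (HHm (K.homology 0) p) := homology_zero_of_PQ 𝒮 hK N hNK hH hQ
  have e0 : K.homology 0 ≅ (Coh.push π).obj G' :=
    pushHomologyIso π I 0 ≪≫ (Coh.push π).rightDerivedZeroIsoSelf.app G'
  have hE0 : ∀ p, 𝒮.P (HHm ((Coh.push π).obj G') p) := fun p =>
    𝒮.of_equiv (hmapEquiv e0 p) (hK0 p)
  have hcohE0 : Coh.IsCoh ((Coh.push π).obj G') :=
    isCoh_of_iso ((Coh.push π).rightDerivedZeroIsoSelf.app G') (hE 0)
  -- the unit
  let η : G ⟶ (Coh.push π).obj G' := (Scheme.Modules.pullbackPushforwardAdjunction π).unit.app G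
  have hkc := Groth.Agent.S9514.result Y hG hcohE0 η
  have hKer : ∀ m, 𝒮.P (HHm (kernel η) m) :=
    hIH U hUne _ hkc.1 (support_kernel_unit π G U)
  have hCoker : ∀ m, 𝒮.P (HHm (cokernel η) m) :=
    hIH U hUne _ hkc.2 (support_cokernel_unit π G U)
  exact P_of_ker_coker 𝒮 η hKer hCoker hE0 n

end Groth.Agent.Lib.Helper23.T2
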