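import Mathlib
import Groth.Prelude

/-!
# Integral closure of a base field in global functions is intrinsic

Pure algebra part: (L1) integral elements in a reduced ring with trivial idempotents are zero or
units; (L2) Chevalley-type argument: in a finite type domain over a field, an element `s` such
that every `s ^ n - 1` is zero or a unit is algebraic.
-/

set_option autoImplicit false
universe u
open Polynomial

namespace Groth.Agent.Lib.Helper23.AlgConst

/-- (L1) In a reduced `k`-algebra with only trivial idempotents, an integral element is zero or a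
unit. -/
theorem eq_zero_or_isUnit_of_isIntegral {k R : Type*} [Field k] [CommRing R] [Algebra k R]
    [IsReduced R] (hid : ∀ e : R, IsIdempotentElem e → e = 0 ∨ e = 1) (u : R)
    (hu : IsIntegral k u) : u = 0 ∨ IsUnit u := by
  obtain ⟨μ, hμm, hμ⟩ := hu
  have hμ' : aeval u μ = 0 := hμ
  have hμ0 : μ ≠ 0 := hμm.ne_zero
  obtain ⟨ν, hν, hXν⟩ := Polynomial.exists_eq_pow_rootMultiplicity_mul_and_not_dvd μ hμ0 0
  set m := rootMultiplicity 0 μ with hm
  simp only [map_zero, sub_zero] at hν hXν
  -- units from a polynomial with nonzero constant coefficient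
  have hunit_of : aeval u ν = 0 → IsUnit u := by
    intro h0
    have hc : ν.coeff 0 ≠ 0 := by
      intro hc
      exact hXν (Polynomial.X_dvd_iff.2 hc)
    have h1 : aeval u (ν.divX * X + C (ν.coeff 0)) = 0 := by
      rw [Polynomial.divX_mul_X_add]; exact h0
    simp only [map_add, map_mul, aeval_X, aeval_C] at h1
    refine IsUnit.of_mul_eq_one (-(algebraMap k R (ν.coeff 0)⁻¹) * aeval u ν.divX) ?_
    have h2 : aeval u ν.divX * u = -algebraMap k R (ν.coeff 0) := eq_neg_of_add_eq_zero_left h1
    calc u * (-(algebraMap k R (ν.coeff 0)⁻¹) * aeval u ν.divX)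
        = -(algebraMap k R (ν.coeff 0)⁻¹) * (aeval u ν.divX * u) := by ring
      _ = algebraMap k R ((ν.coeff 0)⁻¹ * ν.coeff 0) := by rw [h2, map_mul]; ring
      _ = 1 := by rw [inv_mul_cancel₀ hc, map_one]
  have hcop : IsCoprime (X ^ m : k[X]) ν := by
    apply IsCoprime.pow_left
    exact (Polynomial.irreducible_X.coprime_iff_not_dvd).2 hXν
  obtain ⟨α, β, hαβ⟩ := hcop
  have h1 : aeval u α * u ^ m + aeval u β * aeval u ν = 1 := by
    have := congrArg (aeval u) hαβ
    simpa using this
  have h0 : u ^ m * aeval u ν = 0 := by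
    have := hμ'
    rw [hν] at this
    simpa using this
  set e : R := aeval u β * aeval u ν with he
  have hide : IsIdempotentElem e := by
    change e * e = e
    have : e = 1 - aeval u α * u ^ m := by rw [← h1]; ring
    calc e * e = e * (1 - aeval u α * u ^ m) := by rw [← this]
      _ = e - aeval u α * aeval u β * (u ^ m * aeval u ν) := by rw [he]; ring
      _ = e := by rw [h0]; ring
  rcases hid e hide with h | h
  · -- a u^m = 1
    rw [h, add_zero] at h1
    by_cases hm0 : m = 0
    · right
      apply hunit_of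
      rw [hm0, pow_zero, one_mul] at h0
      exact h0
    · right
      obtain ⟨m', hm'⟩ : ∃ m', m = m' + 1 := Nat.exists_eq_succ_of_ne_zero hm0
      refine IsUnit.of_mul_eq_one (aeval u α * u ^ m') ?_
      rw [← h1, hm']; ring
  · left
    have hν1 : IsUnit (aeval u ν) := IsUnit.of_mul_eq_one (aeval u β) (by rw [mul_comm]; exact h)
    have : u ^ m = 0 := by
      have := hν1.mul_left_eq_zero.1 h0
      exact this
    exact IsNilpotent.eq_zero ⟨m, this⟩

/-- (L2) In a domain of finite type over a field, an element `s` all of whose `s ^ n - 1` are zero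
or units is integral over the field. -/
theorem isIntegral_of_pow_sub_one {k B : Type*} [Field k] [CommRing B] [IsDomain B]
    [Algebra k B] [Algebra.FiniteType k B] (s : B)
    (hs : ∀ n : ℕ, 1 ≤ n → s ^ n - 1 = 0 ∨ IsUnit (s ^ n - 1)) : IsIntegral k s := by
  by_contra hint
  have htr : Transcendental k s := by
    rwa [Transcendental, isAlgebraic_iff_isIntegral]
  have hinj : Function.Injective (Polynomial.aeval (R := k) s) :=
    transcendental_iff_injective.1 htr
  let φ : k[X] →+* B := (Polynomial.aeval (R := k) s).toRingHom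
  have hφ : ∀ p, φ p = aeval s p := fun _ => rfl
  have hft : φ.FiniteType := by
    apply RingHom.FiniteType.of_comp_finiteType (f := (Polynomial.C : k →+* k[X]))
    have : φ.comp Polynomial.C = algebraMap k B := by
      ext c; simp [hφ]
    rw [this]
    exact RingHom.finiteType_algebraMap.2 ‹Algebra.FiniteType k B›
  have hfp : φ.FinitePresentation := RingHom.FinitePresentation.of_finiteType.1 hft
  have hc := PrimeSpectrum.isConstructible_range_comap hfp
  obtain ⟨S, hS⟩ := PrimeSpectrum.exists_constructibleSetData_iff.2 hc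
  have hgen : (⟨⊥, Ideal.isPrime_bot⟩ : PrimeSpectrum k[X]) ∈
      Set.range (PrimeSpectrum.comap φ) := by
    refine ⟨⟨⊥, Ideal.isPrime_bot⟩, ?_⟩
    ext p
    change φ p ∈ (⊥ : Ideal B) ↔ p ∈ (⊥ : Ideal k[X])
    rw [Ideal.mem_bot, Ideal.mem_bot, hφ]
    exact ⟨fun h => hinj (by rw [h, map_zero]), fun h => by rw [h, map_zero]⟩
  rw [← hS] at hgen
  obtain ⟨C, hC, hgenC⟩ : ∃ C ∈ S, (⟨⊥, Ideal.isPrime_bot⟩ : PrimeSpectrum k[X]) ∈ C.toSet := by
    simpa [PrimeSpectrum.ConstructibleSetData.toSet] using hgen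
  set h := C.f with hh
  have hf0 : h ≠ 0 := by
    intro h0
    apply hgenC.2
    rw [PrimeSpectrum.mem_zeroLocus]
    intro y hy
    rw [Set.mem_singleton_iff] at hy
    rw [hy, ← hh, h0]
    exact Ideal.zero_mem _
  have hg0 : ∀ i, C.g i = 0 := by
    intro i
    have := hgenC.1
    rw [PrimeSpectrum.mem_zeroLocus] at this
    have h2 := this ⟨i, rfl⟩
    exact h2
  have hsub : ∀ q : PrimeSpectrum k[X], h ∉ q.asIdeal →
      q ∈ Set.range (PrimeSpectrum.comap φ) := by
    intro q hq
    rw [← hS]
    refine Set.mem_biUnion hC ⟨?_, ?_⟩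
    · rw [PrimeSpectrum.mem_zeroLocus]
      rintro _ ⟨i, rfl⟩
      rw [hg0 i]
      exact Ideal.zero_mem _
    · rw [PrimeSpectrum.mem_zeroLocus]
      intro hq'
      exact hq (hq' (Set.mem_singleton _))
  obtain ⟨n, hn1, hnk⟩ : ∃ n : ℕ, h.natDegree < n ∧ (n : k) ≠ 0 := by
    by_cases h1 : ((h.natDegree + 1 : ℕ) : k) = 0
    · refine ⟨h.natDegree + 2, by omega, ?_⟩
      intro h2
      have h3 : ((h.natDegree + 2 : ℕ) : k) - ((h.natDegree + 1 : ℕ) : k) = 1 := by
        push_cast; ring
      rw [h1, h2] at h3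
      simp at h3
    · exact ⟨_, Nat.lt_succ_self _, h1⟩
  set g : k[X] := X ^ n - 1 with hg
  have hgsep : g.Separable := (X_pow_sub_one_separable_iff).2 hnk
  have hgne : g ≠ 0 := hgsep.ne_zero
  have hφg : φ g = s ^ n - 1 := by simp [hφ, hg]
  have hunit : IsUnit (s ^ n - 1) := by
    refine (hs n (by omega)).resolve_left ?_
    rw [← hφg]
    intro h0
    exact hgne (hinj (by rw [← hφ, h0, map_zero]))
  have hVg : PrimeSpectrum.zeroLocus {g} ⊆ PrimeSpectrum.zeroLocus ({h} : Set k[X]) := by
    intro q hq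
    by_contra hq'
    have hq2 : h ∉ q.asIdeal := by
      intro hh2
      apply hq'
      rw [PrimeSpectrum.mem_zeroLocus]
      intro y hy
      rw [Set.mem_singleton_iff] at hy
      rw [hy]; exact hh2
    obtain ⟨P, rfl⟩ := hsub q hq2
    rw [PrimeSpectrum.mem_zeroLocus] at hq
    have h3 : φ g ∈ P.asIdeal := hq (Set.mem_singleton _)
    exact P.2.ne_top (Ideal.eq_top_of_isUnit_mem _ h3 (hφg ▸ hunit))
  have hrad : h ∈ (Ideal.span {g}).radical := by
    rw [← PrimeSpectrum.vanishingIdeal_zeroLocus_eq_radical, PrimeSpectrum.zeroLocus_span,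
      PrimeSpectrum.mem_vanishingIdeal]
    intro q hq
    have := hVg hq
    rw [PrimeSpectrum.mem_zeroLocus] at this
    exact this (Set.mem_singleton _)
  obtain ⟨N, hN⟩ := hrad
  rw [Ideal.mem_span_singleton] at hN
  have hdeg : g.natDegree = n := by
    rw [hg]; exact natDegree_X_pow_sub_C (R := k) (n := n) (r := 1)
  have hN0 : N ≠ 0 := by
    rintro rfl
    rw [pow_zero] at hN
    have := Polynomial.natDegree_eq_zero_of_isUnit (isUnit_of_dvd_one hN)
    omega
  have hdvd : g ∣ h := (hgsep.squarefree.dvd_pow_iff_dvd hN0).1 hN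
  have := Polynomial.natDegree_le_of_dvd hdvd hf0
  omega

/-- Ring-hom form of (L2). -/
theorem isIntegralElem_of_pow_sub_one {k B : Type*} [Field k] [CommRing B] [IsDomain B]
    (φ : k →+* B) (hφ : φ.FiniteType) (s : B)
    (hs : ∀ n : ℕ, 1 ≤ n → s ^ n - 1 = 0 ∨ IsUnit (s ^ n - 1)) : φ.IsIntegralElem s := by
  let _ := φ.toAlgebra
  have : Algebra.FiniteType k B := hφ
  exact isIntegral_of_pow_sub_one s hs

/-- Ring-hom form of (L1). -/
theorem eq_zero_or_isUnit_of_isIntegralElem {k R : Type*} [Field k] [CommRing R]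
    [IsReduced R] (φ : k →+* R) (hid : ∀ e : R, IsIdempotentElem e → e = 0 ∨ e = 1) (u : R)
    (hu : φ.IsIntegralElem u) : u = 0 ∨ IsUnit u := by
  let _ := φ.toAlgebra
  exact eq_zero_or_isUnit_of_isIntegral hid u hu

end Groth.Agent.Lib.Helper23.AlgConst
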