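import Mathlib
import Groth.Prelude
import Groth.Agent.Lib.Helper23.AlgConst

/-!
# Integral closure of a base field in global functions is intrinsic (scheme part)
-/

set_option autoImplicit false
universe u
open Polynomial AlgebraicGeometry CategoryTheory TopologicalSpace Opposite

namespace Groth.Agent.Lib.Helper23.AlgConst

/-- (G1) If `g` is zero or a unit modulo every minimal prime of a Noetherian ring, the basic open
`D(g)` is closed. -/
theorem isClosed_basicOpen_of_minimalPrimes {A : Type*} [CommRing A] [IsNoetherianRing A] (g : A)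
    (H : ∀ p ∈ minimalPrimes A, Ideal.Quotient.mk p g = 0 ∨ IsUnit (Ideal.Quotient.mk p g)) :
    IsClosed (PrimeSpectrum.basicOpen g : Set (PrimeSpectrum A)) := by
  have hfin : (minimalPrimes A).Finite := minimalPrimes.finite_of_isNoetherianRing A
  have heq : (PrimeSpectrum.basicOpen g : Set (PrimeSpectrum A)) =
      ⋃ p ∈ {p ∈ minimalPrimes A | g ∉ p}, PrimeSpectrum.zeroLocus (p : Set A) := by
    ext P
    simp only [Set.mem_iUnion, Set.mem_setOf_eq, PrimeSpectrum.mem_zeroLocus, exists_prop,
      SetLike.mem_coe, PrimeSpectrum.mem_basicOpen]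
    constructor
    · intro hP
      obtain ⟨p, hp, hpP⟩ := Ideal.exists_minimalPrimes_le (bot_le : ⊥ ≤ P.asIdeal)
      exact ⟨p, ⟨hp, fun hg => hP (hpP hg)⟩, hpP⟩
    · rintro ⟨p, ⟨hp, hgp⟩, hpP⟩ hgP
      rcases H p hp with h | h
      · exact hgp (Ideal.Quotient.eq_zero_iff_mem.1 h)
      · obtain ⟨v, hv⟩ := h.exists_right_inv
        obtain ⟨w, rfl⟩ := Ideal.Quotient.mk_surjective v
        have h3 : g * w - 1 ∈ p := by
          rw [← Ideal.Quotient.eq_zero_iff_mem, map_sub, map_mul, hv, map_one, sub_self]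
        have h1 : (1 : A) ∈ P.asIdeal := by
          have h2 := P.asIdeal.sub_mem (P.asIdeal.mul_mem_right w hgP) (hpP h3)
          simpa using h2
        exact P.2.ne_top ((Ideal.eq_top_iff_one _).2 h1)
  rw [heq]
  exact (hfin.subset (fun p hp => hp.1)).isClosed_biUnion
    (fun p _ => PrimeSpectrum.isClosed_zeroLocus _)

variable {X : Scheme.{u}}

/-- restriction of a global function to an open -/
noncomputable abbrev res (U : X.Opens) : Γ(X, ⊤) →+* Γ(X, U) :=
  (X.presheaf.map (homOfLE le_top).op).hom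

theorem fromSpec_mem_basicOpen_iff {U : X.Opens} (hU : IsAffineOpen U) (g : Γ(X, ⊤))
    (y : PrimeSpectrum Γ(X, U)) :
    hU.fromSpec y ∈ X.basicOpen g ↔ y ∈ PrimeSpectrum.basicOpen (res U g) := by
  have h1 : hU.fromSpec ⁻¹ᵁ X.basicOpen (res U g) = PrimeSpectrum.basicOpen (res U g) :=
    hU.fromSpec_preimage_basicOpen (res U g)
  have h2 : X.basicOpen (res U g) = U ⊓ X.basicOpen g := Scheme.basicOpen_res _ _ _
  have hyU : hU.fromSpec y ∈ U := by
    have : hU.fromSpec y ∈ Set.range hU.fromSpec := ⟨y, rfl⟩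
    rw [hU.range_fromSpec] at this
    exact this
  constructor
  · intro h
    have : y ∈ hU.fromSpec ⁻¹ᵁ X.basicOpen (res U g) := by
      change hU.fromSpec y ∈ X.basicOpen (res U g)
      rw [h2]
      exact ⟨hyU, h⟩
    rw [h1] at this
    exact this
  · intro h
    rw [← h1] at h
    have h' : hU.fromSpec y ∈ X.basicOpen (res U g) := h
    rw [h2] at h'
    exact h'.2

/-- (G2) closedness of `D(g)` can be checked on affine charts. -/
theorem isClosed_basicOpen (g : Γ(X, ⊤))
    (hcl : ∀ U : X.affineOpens,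
      IsClosed (PrimeSpectrum.basicOpen (res U.1 g) : Set (PrimeSpectrum Γ(X, U.1)))) :
    IsClosed (X.basicOpen g : Set X) := by
  rw [← isOpen_compl_iff, isOpen_iff_forall_mem_open]
  intro x hx
  obtain ⟨U, hU, hxU, -⟩ := exists_isAffineOpen_mem_and_subset (X := X) (x := x) (U := ⊤) trivial
  let ψ := hU.fromSpec
  refine ⟨ψ '' ((PrimeSpectrum.basicOpen (res U g) : Set (PrimeSpectrum Γ(X, U)))ᶜ), ?_, ?_, ?_⟩
  · rintro _ ⟨y, hy, rfl⟩ hmem
    exact hy ((fromSpec_mem_basicOpen_iff hU g y).1 hmem)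
  · exact hU.fromSpec.isOpenEmbedding.isOpenMap _ (isOpen_compl_iff.2 (hcl ⟨U, hU⟩))
  · have : x ∈ Set.range hU.fromSpec := by rw [hU.range_fromSpec]; exact hxU
    obtain ⟨y, rfl⟩ := this
    exact ⟨y, fun hy => hx ((fromSpec_mem_basicOpen_iff hU g y).2 hy), rfl⟩


/-- (G3) global functions on a connected reduced scheme have only trivial idempotents. -/
theorem idem_trivial [IsReduced X] [ConnectedSpace X] (e : Γ(X, ⊤)) (he : IsIdempotentElem e) :
    e = 0 ∨ e = 1 := by
  have h1 : X.basicOpen e ⊓ X.basicOpen (1 - e) = ⊥ := by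
    rw [← Scheme.basicOpen_mul]
    have : e * (1 - e) = 0 := by rw [mul_sub, mul_one, he.eq, sub_self]
    rw [this, Scheme.basicOpen_zero]
  have h2 : (⊤ : X.Opens) ≤ X.basicOpen e ⊔ X.basicOpen (1 - e) := by
    have := X.basicOpen_add_le e (1 - e)
    rw [add_sub_cancel, Scheme.basicOpen_one] at this
    exact this
  have hset : (X.basicOpen e : Set X) = ((X.basicOpen (1 - e) : Set X))ᶜ := by
    ext x
    constructor
    · intro hx hx'
      have : x ∈ X.basicOpen e ⊓ X.basicOpen (1 - e) := ⟨hx, hx'⟩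
      rw [h1] at this
      exact this
    · intro hx
      have : x ∈ X.basicOpen e ⊔ X.basicOpen (1 - e) := h2 trivial
      rcases this with h | h
      · exact h
      · exact absurd h hx
  have hcl : IsClopen (X.basicOpen e : Set X) := by
    refine ⟨?_, (X.basicOpen e).2⟩
    rw [hset]
    exact (X.basicOpen (1 - e)).2.isClosed_compl
  rcases isClopen_iff.1 hcl with h | h
  · left
    exact (basicOpen_eq_bot_iff e).1 (Opens.ext (by simpa using h))
  · right
    have h3 : X.basicOpen (1 - e) = ⊥ := by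
      apply Opens.ext
      rw [h] at hset
      have : ((X.basicOpen (1 - e) : Set X)) = ∅ := by
        rw [← compl_compl (X.basicOpen (1 - e) : Set X), ← hset, Set.compl_univ]
      simpa using this
    have h4 := (basicOpen_eq_bot_iff _).1 h3
    exact (sub_eq_zero.1 h4).symm

/-- integral elements of global functions are "constant-like": all `x ^ n - 1` are zero or
units. -/
theorem pow_sub_one_of_isIntegralElem [IsReduced X] [ConnectedSpace X] {k : Type*} [Field k]
    (φ : k →+* Γ(X, ⊤)) (x : Γ(X, ⊤)) (hx : φ.IsIntegralElem x) (n : ℕ) :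
    x ^ n - 1 = 0 ∨ IsUnit (x ^ n - 1) := by
  apply eq_zero_or_isUnit_of_isIntegralElem φ idem_trivial
  let _ := φ.toAlgebra
  have hx' : IsIntegral k x := hx
  exact IsIntegral.sub (IsIntegral.pow hx' n) isIntegral_one

/-- (L3) a global function which is zero or a unit modulo every minimal prime of every affine
chart, and vanishes modulo one of them, is zero. -/
theorem eq_zero_of_minimalPrimes [IsReduced X] [ConnectedSpace X]
    (hN : ∀ U : X.affineOpens, IsNoetherianRing Γ(X, U.1)) (g : Γ(X, ⊤))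
    (H : ∀ (U : X.affineOpens) (p : Ideal Γ(X, U.1)), p ∈ minimalPrimes Γ(X, U.1) →
        Ideal.Quotient.mk p (res U.1 g) = 0 ∨ IsUnit (Ideal.Quotient.mk p (res U.1 g)))
    (U₀ : X.affineOpens) (p₀ : Ideal Γ(X, U₀.1)) (hp₀ : p₀ ∈ minimalPrimes Γ(X, U₀.1))
    (h0 : res U₀.1 g ∈ p₀) : g = 0 := by
  have hcl : IsClosed (X.basicOpen g : Set X) :=
    isClosed_basicOpen g (fun U => by
      haveI := hN U
      exact isClosed_basicOpen_of_minimalPrimes _ (H U))
  have hclopen : IsClopen (X.basicOpen g : Set X) := ⟨hcl, (X.basicOpen g).2⟩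
  rcases isClopen_iff.1 hclopen with h | h
  · exact (basicOpen_eq_bot_iff g).1 (Opens.ext (by simpa using h))
  · exfalso
    haveI : p₀.IsPrime := hp₀.1.1
    let y : PrimeSpectrum Γ(X, U₀.1) := ⟨p₀, inferInstance⟩
    have hy : U₀.2.fromSpec y ∈ X.basicOpen g := by
      change _ ∈ (X.basicOpen g : Set X)
      rw [h]; trivial
    have h3 := (fromSpec_mem_basicOpen_iff U₀.2 g y).1 hy
    exact h3 h0

/-- finite type of the chart maps -/
theorem finiteType_res_comp {k : Type u} [Field k] (b : X ⟶ Spec (CommRingCat.of k))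
    [LocallyOfFiniteType b] (U : X.affineOpens) :
    ((res U.1).comp (Coh.toGlobal b)).FiniteType := by
  have h1 : (b.appLE ⊤ U.1 le_top).hom.FiniteType :=
    HasRingHomProperty.appLE (P := @LocallyOfFiniteType) b inferInstance
      ⟨⊤, isAffineOpen_top _⟩ U le_top
  have h2 : (res U.1).comp (Coh.toGlobal b) =
      (b.appLE ⊤ U.1 le_top).hom.comp (Scheme.ΓSpecIso (CommRingCat.of k)).inv.hom := by
    rfl
  rw [h2]
  refine h1.comp ?_
  apply RingHom.FiniteType.of_surjective
  exact (ConcreteCategory.bijective_of_isIso (Scheme.ΓSpecIso (CommRingCat.of k)).inv).2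


/-- polynomial expressions in an integral element are integral (ring-hom form) -/
theorem isIntegralElem_eval₂ {k B : Type*} [CommRing k] [CommRing B] (φ : k →+* B) (s : B)
    (hs : φ.IsIntegralElem s) (Q : k[X]) : φ.IsIntegralElem (Polynomial.eval₂ φ s Q) := by
  let _ := φ.toAlgebra
  have hs' : IsIntegral k s := hs
  have h1 : Polynomial.aeval s Q ∈ integralClosure k B :=
    (Algebra.adjoin_le (S := integralClosure k B) (Set.singleton_subset_iff.2 hs'))
      (Polynomial.aeval_mem_adjoin_singleton k s)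
  exact h1

/-- Main theorem: on a connected reduced scheme locally of finite type over `k₂`, a global
function integral over another field `k₁` mapping to the global functions is integral over `k₂`. -/
theorem isIntegralElem_of_isIntegralElem [IsReduced X] [ConnectedSpace X] {k₁ : Type*}
    {k₂ : Type u} [Field k₁] [Field k₂]
    (φ : k₁ →+* Γ(X, ⊤)) (b : X ⟶ Spec (CommRingCat.of k₂)) [LocallyOfFiniteType b]
    (x : Γ(X, ⊤)) (hx : φ.IsIntegralElem x) : (Coh.toGlobal b).IsIntegralElem x := by
  have hP := pow_sub_one_of_isIntegralElem φ x hx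
  set β : k₂ →+* Γ(X, ⊤) := Coh.toGlobal b with hβ
  have hchart : ∀ (U : X.affineOpens) (p : Ideal Γ(X, U.1)), p ∈ minimalPrimes Γ(X, U.1) →
      ((Ideal.Quotient.mk p).comp ((res U.1).comp β)).IsIntegralElem
        (Ideal.Quotient.mk p (res U.1 x)) := by
    intro U p hp
    haveI : p.IsPrime := hp.1.1
    apply isIntegralElem_of_pow_sub_one
    · exact (RingHom.FiniteType.of_surjective _ Ideal.Quotient.mk_surjective).comp
        (finiteType_res_comp b U)
    · intro n _
      rcases hP n with h | h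
      · left
        have := congrArg (fun t => Ideal.Quotient.mk p (res U.1 t)) h
        simpa using this
      · right
        have := (h.map (res U.1)).map (Ideal.Quotient.mk p)
        simpa using this
  have hN : ∀ U : X.affineOpens, IsNoetherianRing Γ(X, U.1) := by
    intro U
    have hft := finiteType_res_comp b U
    let _ := ((res U.1).comp β).toAlgebra
    have : Algebra.FiniteType k₂ Γ(X, U.1) := hft
    exact Algebra.FiniteType.isNoetherianRing k₂ _
  obtain ⟨x₀⟩ : Nonempty X := inferInstance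
  obtain ⟨U₀, hU₀, hx₀, -⟩ :=
    exists_isAffineOpen_mem_and_subset (X := X) (x := x₀) (U := ⊤) trivial
  haveI : Nonempty U₀ := ⟨⟨x₀, hx₀⟩⟩
  haveI : Nontrivial Γ(X, U₀) := inferInstance
  obtain ⟨m, hm⟩ := Ideal.exists_maximal Γ(X, U₀)
  haveI := hm.isPrime
  obtain ⟨p₀, hp₀, -⟩ := Ideal.exists_minimalPrimes_le (bot_le : ⊥ ≤ m)
  obtain ⟨Q, hQm, hQ⟩ := hchart ⟨U₀, hU₀⟩ p₀ hp₀
  refine ⟨Q, hQm, ?_⟩
  set g := Polynomial.eval₂ β x Q with hg
  have himg : ∀ (U : X.affineOpens) (p : Ideal Γ(X, U.1)),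
      Ideal.Quotient.mk p (res U.1 g) =
        Polynomial.eval₂ ((Ideal.Quotient.mk p).comp ((res U.1).comp β))
          (Ideal.Quotient.mk p (res U.1 x)) Q := by
    intro U p
    rw [hg, Polynomial.hom_eval₂, Polynomial.hom_eval₂]
  apply eq_zero_of_minimalPrimes hN g ?_ ⟨U₀, hU₀⟩ p₀ hp₀ ?_
  · intro U p hp
    haveI : p.IsPrime := hp.1.1
    rw [himg]
    apply eq_zero_or_isUnit_of_isIntegralElem ((Ideal.Quotient.mk p).comp ((res U.1).comp β))
    · intro e he
      exact IsIdempotentElem.iff_eq_zero_or_one.1 he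
    · exact isIntegralElem_eval₂ _ _ (hchart U p hp) Q
  · rw [← Ideal.Quotient.eq_zero_iff_mem]
    exact (himg ⟨U₀, hU₀⟩ p₀).trans hQ

end Groth.Agent.Lib.Helper23.AlgConst
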