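import Mathlib
import Groth.Prelude
import Groth.Agent.Lib.Helper7.CohFinite

/-!
# T2A: Serre classes of modules, and the `Γ(X, O_X)`-linear long exact cohomology sequence

* `SClass R`: a class of `R`-modules closed under "middle of an exact sequence" and containing `0`
  (hence closed under isomorphisms, submodules, quotients, extensions).
* `finClass ρ`: finite `A`-modules through `ρ : A →+* R` (`A` Noetherian); `zeroClass`.
* `Hmap`, `Hδ`: the maps of the long exact sequence of `Coh.HH`, linear over `Coh.Γtop X`,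
  with exactness at the three kinds of spots and injectivity of `H⁰` on monos.
* `H0equiv`: `H⁰(X, M) ≃ₗ Γ(X, M)`, natural.
-/
set_option autoImplicit false
universe u
open CategoryTheory CategoryTheory.Limits Opposite TopologicalSpace AlgebraicGeometry
  CategoryTheory.Abelian

noncomputable section

namespace Groth.Agent.Lib.Helper23.T2

open Groth.Agent.Lib.Helper13 Groth.Agent.Lib.Helper13.SerreCrit1 Groth.Agent.Lib.Helper7.CohFinite

/-! ### Serre classes -/

/-- A class of `R`-modules (in the universe of `R`) containing the zero modules and closed under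
taking the middle term of a sequence exact in the middle. -/
structure SClass (R : Type u) [Ring R] where
  P : ∀ (M : Type u) [AddCommGroup M] [Module R M], Prop
  zero : ∀ (M : Type u) [AddCommGroup M] [Module R M] [Subsingleton M], P M
  mid : ∀ {A B C : Type u} [AddCommGroup A] [Module R A] [AddCommGroup B] [Module R B]
    [AddCommGroup C] [Module R C] (f : A →ₗ[R] B) (g : B →ₗ[R] C),
    (∀ b, g b = 0 → ∃ a, f a = b) → P A → P C → P B

namespace SClass

variable {R : Type u} [Ring R] (𝒮 : SClass R)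

lemma of_injective {B C : Type u} [AddCommGroup B] [Module R B] [AddCommGroup C] [Module R C]
    (g : B →ₗ[R] C) (hg : Function.Injective g) (hC : 𝒮.P C) : 𝒮.P B := by
  refine 𝒮.mid (0 : PUnit.{u + 1} →ₗ[R] B) g (fun b hb => ⟨PUnit.unit, ?_⟩) (𝒮.zero _) hC
  have : b = 0 := hg (by rw [hb, map_zero])
  rw [this]; rfl

lemma of_surjective {A B : Type u} [AddCommGroup A] [Module R A] [AddCommGroup B] [Module R B]
    (f : A →ₗ[R] B) (hf : Function.Surjective f) (hA : 𝒮.P A) : 𝒮.P B :=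
  𝒮.mid f (0 : B →ₗ[R] PUnit.{u + 1}) (fun b _ => hf b) hA (𝒮.zero _)

lemma of_equiv {A B : Type u} [AddCommGroup A] [Module R A] [AddCommGroup B] [Module R B]
    (e : A ≃ₗ[R] B) (hA : 𝒮.P A) : 𝒮.P B :=
  𝒮.of_surjective e.toLinearMap e.surjective hA

lemma iff_of_equiv {A B : Type u} [AddCommGroup A] [Module R A] [AddCommGroup B] [Module R B]
    (e : A ≃ₗ[R] B) : 𝒮.P A ↔ 𝒮.P B :=
  ⟨𝒮.of_equiv e, 𝒮.of_equiv e.symm⟩

lemma submodule {B : Type u} [AddCommGroup B] [Module R B] (N : Submodule R B) (hB : 𝒮.P B) :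
    𝒮.P N :=
  𝒮.of_injective N.subtype N.injective_subtype hB

lemma quotient {B : Type u} [AddCommGroup B] [Module R B] (N : Submodule R B) (hB : 𝒮.P B) :
    𝒮.P (B ⧸ N) :=
  𝒮.of_surjective N.mkQ N.mkQ_surjective hB

/-- subquotient transfer: `T` is a quotient of `S`, `S` maps to `Q`, and the kernel of `S → Q` is
killed in `T`. -/
lemma of_subquotient {S Q T : Type u} [AddCommGroup S] [Module R S] [AddCommGroup Q] [Module R Q]
    [AddCommGroup T] [Module R T] (j : S →ₗ[R] Q) (s : S →ₗ[R] T) (hs : Function.Surjective s)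
    (hk : ∀ x, j x = 0 → s x = 0) (hQ : 𝒮.P Q) : 𝒮.P T := by
  have h1 : 𝒮.P (LinearMap.range j) := 𝒮.submodule _ hQ
  have h2 : 𝒮.P (S ⧸ LinearMap.ker j) := 𝒮.of_equiv j.quotKerEquivRange.symm h1
  have hle : LinearMap.ker j ≤ LinearMap.ker s := fun x hx => hk x hx
  refine 𝒮.of_surjective ((LinearMap.ker j).liftQ s hle) ?_ h2
  intro t
  obtain ⟨x, rfl⟩ := hs t
  exact ⟨Submodule.Quotient.mk x, rfl⟩

/-- extension form: `P A`, `P C`, `A → B → C` exact at `B`. -/
lemma ext {A B C : Type u} [AddCommGroup A] [Module R A] [AddCommGroup B] [Module R B]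
    [AddCommGroup C] [Module R C] (f : A →ₗ[R] B) (g : B →ₗ[R] C)
    (h : ∀ b, g b = 0 → ∃ a, f a = b) (hA : 𝒮.P A) (hC : 𝒮.P C) : 𝒮.P B :=
  𝒮.mid f g h hA hC

end SClass

/-- the class of zero modules. -/
def zeroClass (R : Type u) [Ring R] : SClass R where
  P M _ _ := Subsingleton M
  zero M _ _ h := h
  mid {A B C} _ _ _ _ _ _ f g h hA hC := by
    refine ⟨fun b b' => ?_⟩
    have key : ∀ b : B, b = 0 := fun b => by
      obtain ⟨a, rfl⟩ := h b (@Subsingleton.elim _ hC _ _)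
      rw [@Subsingleton.elim _ hA a 0, map_zero]
    rw [key b, key b']

/-- finite modules over a Noetherian ring `A` acting through `ρ : A →+* R`. -/
def finClass {A R : Type u} [CommRing A] [IsNoetherianRing A] [Ring R] (ρ : A →+* R) :
    SClass R where
  P M _ _ := @Module.Finite A M _ _ (Module.compHom M ρ)
  zero M _ _ _ := by
    letI := Module.compHom M ρ
    exact finite_of_subsingleton
  mid {A' B C} _ _ _ _ _ _ f g h hA hC := by
    letI : Module A A' := Module.compHom A' ρ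
    letI : Module A B := Module.compHom B ρ
    letI : Module A C := Module.compHom C ρ
    haveI : Module.Finite A A' := hA
    haveI : Module.Finite A C := hC
    let f' : A' →ₗ[A] B :=
      { toFun := f, map_add' := f.map_add, map_smul' := fun a x => f.map_smul (ρ a) x }
    let g' : B →ₗ[A] C :=
      { toFun := g, map_add' := g.map_add, map_smul' := fun a x => g.map_smul (ρ a) x }
    exact finite_of_exact f' g' h

lemma finClass_P {A R : Type u} [CommRing A] [IsNoetherianRing A] [Ring R] (ρ : A →+* R)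
    (M : Type u) [AddCommGroup M] [Module R M] :
    (finClass ρ).P M ↔ @Module.Finite A M _ _ (Module.compHom M ρ) := Iff.rfl

/-! ### The linear long exact sequence -/

variable {X : Scheme.{u}}

/-- `H^n(φ)` as a `Γ(X, O_X)`-linear map. -/
def Hmap {M N : X.Modules} (φ : M ⟶ N) (n : ℕ) : Coh.HH X M n →ₗ[Coh.Γtop X] Coh.HH X N n where
  toFun := Sheaf.H.map ((TT X).map φ) n
  map_add' := map_add _
  map_smul' r x := by
    change Sheaf.H.map ((TT X).map φ) n (Sheaf.H.map (Coh.smulAb M _) n x) =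
      Sheaf.H.map (Coh.smulAb N _) n (Sheaf.H.map ((TT X).map φ) n x)
    rw [← Sheaf.H.map_comp_apply, ← Sheaf.H.map_comp_apply, smulAb_comm]
    rfl

lemma Hmap_apply {M N : X.Modules} (φ : M ⟶ N) (n : ℕ) (x : Coh.HH X M n) :
    Hmap φ n x = Sheaf.H.map ((TT X).map φ) n x := rfl

lemma Hmap_id (M : X.Modules) (n : ℕ) (x : Coh.HH X M n) : Hmap (𝟙 M) n x = x := by
  rw [Hmap_apply, (TT X).map_id, Sheaf.H.map_id_apply]

lemma Hmap_comp {M N L : X.Modules} (φ : M ⟶ N) (ψ : N ⟶ L) (n : ℕ) (x : Coh.HH X M n) :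
    Hmap (φ ≫ ψ) n x = Hmap ψ n (Hmap φ n x) := by
  rw [Hmap_apply, (TT X).map_comp, Sheaf.H.map_comp_apply]; rfl

lemma Hmap_zero {M N : X.Modules} (n : ℕ) (x : Coh.HH X M n) :
    Hmap (0 : M ⟶ N) n x = 0 := by
  rw [Hmap_apply, (TT X).map_zero]
  change ((Sheaf.functorH _ n).map (0 : Coh.toAb M ⟶ Coh.toAb N)).hom x = 0
  rw [(Sheaf.functorH _ n).map_zero]; rfl

lemma Hmap_comp_eq_zero {M N L : X.Modules} (φ : M ⟶ N) (ψ : N ⟶ L) (h : φ ≫ ψ = 0) (n : ℕ)
    (x : Coh.HH X M n) : Hmap ψ n (Hmap φ n x) = 0 := by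
  rw [← Hmap_comp, h, Hmap_zero]

/-- An isomorphism of modules induces a linear equivalence on cohomology. -/
def HmapEquiv {M N : X.Modules} (e : M ≅ N) (n : ℕ) : Coh.HH X M n ≃ₗ[Coh.Γtop X] Coh.HH X N n :=
  LinearEquiv.ofLinearMap (Hmap e.hom n) (Hmap e.inv n)
    (by ext x; simp only [LinearMap.comp_apply, LinearMap.id_apply]
        rw [← Hmap_comp, e.inv_hom_id, Hmap_id])
    (by ext x; simp only [LinearMap.comp_apply, LinearMap.id_apply]
        rw [← Hmap_comp, e.hom_inv_id, Hmap_id])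

/-- the connecting homomorphism, `Γ(X, O_X)`-linear. -/
def Hδ (S : ShortComplex X.Modules) (hS : S.ShortExact) (n : ℕ) :
    Coh.HH X S.X₃ n →ₗ[Coh.Γtop X] Coh.HH X S.X₁ (n + 1) where
  toFun := ExtShift.δ (shortExact_map_toSheaf S hS) _ n (n + 1) rfl
  map_add' := map_add _
  map_smul' r x :=
    (Groth.Agent.Lib.Helper7.LerayNat.extδ_naturality (shortExact_map_toSheaf S hS)
      (shortExact_map_toSheaf S hS) (smulSC S r) _ n (n + 1) rfl x).symm

lemma exact₁ (S : ShortComplex X.Modules) (hS : S.ShortExact) (n : ℕ)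
    (x : Coh.HH X S.X₁ (n + 1)) (hx : Hmap S.f (n + 1) x = 0) : ∃ y, Hδ S hS n y = x :=
  Abelian.Ext.covariant_sequence_exact₁ _ (shortExact_map_toSheaf S hS) x hx rfl

lemma exact₂ (S : ShortComplex X.Modules) (hS : S.ShortExact) (n : ℕ)
    (x : Coh.HH X S.X₂ n) (hx : Hmap S.g n x = 0) : ∃ y, Hmap S.f n y = x :=
  Abelian.Ext.covariant_sequence_exact₂ _ (shortExact_map_toSheaf S hS) x hx

lemma exact₃ (S : ShortComplex X.Modules) (hS : S.ShortExact) (n : ℕ)
    (x : Coh.HH X S.X₃ n) (hx : Hδ S hS n x = 0) : ∃ y, Hmap S.g n y = x :=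
  Abelian.Ext.covariant_sequence_exact₃ _ (shortExact_map_toSheaf S hS) x rfl hx

lemma ext_g_comp_δ {𝒜 : Type*} [Category 𝒜] [Abelian 𝒜] [HasExt.{u} 𝒜] {S : ShortComplex 𝒜}
    (hS : S.ShortExact) (T : 𝒜) (n : ℕ) (x : Ext T S.X₂ n) :
    (x.comp (Ext.mk₀ S.g) (add_zero n)).comp hS.extClass rfl = (0 : Ext T S.X₁ (n + 1)) := by
  rw [Ext.comp_assoc_of_second_deg_zero, hS.comp_extClass, Ext.comp_zero]

lemma ext_δ_comp_f {𝒜 : Type*} [Category 𝒜] [Abelian 𝒜] [HasExt.{u} 𝒜] {S : ShortComplex 𝒜}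
    (hS : S.ShortExact) (T : 𝒜) (n : ℕ) (x : Ext T S.X₃ n) :
    (x.comp hS.extClass rfl).comp (Ext.mk₀ S.f) (add_zero (n + 1)) = (0 : Ext T S.X₂ (n + 1)) := by
  rw [Ext.comp_assoc_of_third_deg_zero, hS.extClass_comp, Ext.comp_zero]

lemma Hδ_Hmap_g (S : ShortComplex X.Modules) (hS : S.ShortExact) (n : ℕ)
    (x : Coh.HH X S.X₂ n) : Hδ S hS n (Hmap S.g n x) = 0 :=
  ext_g_comp_δ (shortExact_map_toSheaf S hS) _ n x

lemma Hmap_f_Hδ (S : ShortComplex X.Modules) (hS : S.ShortExact) (n : ℕ)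
    (x : Coh.HH X S.X₃ n) : Hmap S.f (n + 1) (Hδ S hS n x) = 0 :=
  ext_δ_comp_f (shortExact_map_toSheaf S hS) _ n x

lemma Hmap_injective_zero {M N : X.Modules} (φ : M ⟶ N) [Mono φ] :
    Function.Injective (Hmap φ 0) := by
  haveI : Mono ((TT X).map φ) := inferInstance
  exact Abelian.Ext.postcomp_mk₀_injective_of_mono _ ((TT X).map φ)

/-! ### `H⁰` and global sections -/

/-- global sections of a module, as a `Γ(X, O_X)`-module (carrier type). -/
abbrev Γm (M : X.Modules) : Type u := M.val.obj (op ⊤)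

/-- the map on global sections, linear. -/
def Γmap {M N : X.Modules} (φ : M ⟶ N) : Γm M →ₗ[Coh.Γtop X] Γm N :=
  (φ.val.app (op ⊤)).hom

lemma Γmap_id (M : X.Modules) (x : Γm M) : Γmap (𝟙 M) x = x := rfl

lemma Γmap_comp {M N L : X.Modules} (φ : M ⟶ N) (ψ : N ⟶ L) (x : Γm M) :
    Γmap (φ ≫ ψ) x = Γmap ψ (Γmap φ x) := rfl

lemma resTop_top (r : Coh.Γtop X) : Coh.resTop X (op ⊤) r = r := by
  change (X.ringCatSheaf.obj.map (homOfLE (le_top (a := (⊤ : X.Opens)))).op).hom r = r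
  have h : (homOfLE (le_top (a := (⊤ : X.Opens)))).op = 𝟙 (op (⊤ : X.Opens)) := rfl
  rw [h, X.ringCatSheaf.obj.map_id]; rfl

lemma smulAb_app_top (M : X.Modules) (r : Coh.Γtop X) (m : Γm M) :
    (Coh.smulAb M r).hom.app (op ⊤) m = r • m :=
  (Coh.smulAb_app M r (op ⊤) m).trans (congrArg (fun t : Coh.Γtop X => t • m) (resTop_top r))

/-- `H⁰(X, M) ≃ Γ(X, M)`, linear over global functions. -/
def H0equiv (M : X.Modules) : Coh.HH X M 0 ≃ₗ[Coh.Γtop X] Γm M :=
  { Sheaf.H.equiv₀ (Coh.toAb M) (isTerminalTop : IsTerminal (⊤ : X.Opens)) with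
    map_smul' := fun r x => by
      have h := Sheaf.H.equiv₀_naturality (isTerminalTop : IsTerminal (⊤ : X.Opens))
        (Coh.smulAb M r) x
      change Sheaf.H.equiv₀ (Coh.toAb M) _ (Sheaf.H.map (Coh.smulAb M r) 0 x) = _
      rw [← h]
      exact smulAb_app_top M r _ }

lemma H0equiv_naturality {M N : X.Modules} (φ : M ⟶ N) (x : Coh.HH X M 0) :
    H0equiv N (Hmap φ 0 x) = Γmap φ (H0equiv M x) :=
  (Sheaf.H.equiv₀_naturality (isTerminalTop : IsTerminal (⊤ : X.Opens)) ((TT X).map φ) x).symm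

lemma H0equiv_symm_naturality {M N : X.Modules} (φ : M ⟶ N) (x : Γm M) :
    Hmap φ 0 ((H0equiv M).symm x) = (H0equiv N).symm (Γmap φ x) := by
  apply (H0equiv N).injective
  rw [H0equiv_naturality, LinearEquiv.apply_symm_apply, LinearEquiv.apply_symm_apply]

end Groth.Agent.Lib.Helper23.T2
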