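import Mathlib
import Groth.Prelude
import Groth.Agent.S0002
import Groth.Agent.Lib.Helper23.T2A
import Groth.Agent.Lib.Helper23.T2L
import Groth.Agent.Lib.Helper23.AlgConst2
import Groth.Agent.Lib.Helper23.FBC5
import Groth.Agent.Lib.Helper3.PbBasic
import Groth.Agent.Lib.Helper3.QCOpen

/-!
# Global functions of proper geometrically reduced and connected schemes
-/

set_option autoImplicit false
universe u
open AlgebraicGeometry CategoryTheory CategoryTheory.Limits TopologicalSpace Opposite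

namespace Groth.Agent.Lib.Helper23.GeomH0

open Groth.Agent.Lib.Helper23.AlgConst

/-- `H⁰(Y, O_Y) ≃ Γ(Y, ⊤)`, linear over the base ring. -/
noncomputable def H0structEquiv (K : Type u) [CommRing K] (Y : Scheme.{u})
    [Y.Over (Spec (CommRingCat.of K))] :
    letI : Algebra K Γ(Y, ⊤) := (Coh.toGlobal (Y ↘ Spec (CommRingCat.of K))).toAlgebra
    Coh.HH Y (Coh.structureModule Y) 0 ≃ₗ[K] Γ(Y, ⊤) :=
  letI : Algebra K Γ(Y, ⊤) := (Coh.toGlobal (Y ↘ Spec (CommRingCat.of K))).toAlgebra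
  let e0 : Coh.HH Y (Coh.structureModule Y) 0 ≃+ Γ(Y, ⊤) :=
    (Groth.Agent.Lib.Helper23.T2.H0equiv (Coh.structureModule Y)).toAddEquiv
  e0.toLinearEquiv
    (fun c x => (Groth.Agent.Lib.Helper23.T2.H0equiv (Coh.structureModule Y)).map_smul
      (Coh.toGlobal (Y ↘ Spec (CommRingCat.of K)) c) x)

theorem finrank_H0_eq_one_of_isAlgClosed (K : Type u) [Field K] [IsAlgClosed K] (Y : Scheme.{u})
    [Y.Over (Spec (CommRingCat.of K))] [IsProper (Y ↘ Spec (CommRingCat.of K))]
    [IsReduced Y] [ConnectedSpace Y] :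
    Module.finrank K (Coh.HH Y (Coh.structureModule Y) 0) = 1 := by
  letI : Algebra K Γ(Y, ⊤) := (Coh.toGlobal (Y ↘ Spec (CommRingCat.of K))).toAlgebra
  let e := H0structEquiv K Y
  haveI : Module.Finite K (Coh.HH Y (Coh.structureModule Y) 0) :=
    Groth.Agent.S0002.result K Y _ (Groth.Agent.Lib.Helper23.T2.isCoh_structureModule Y) 0
  haveI : Module.Finite K Γ(Y, ⊤) := Module.Finite.equiv e
  have hunit : ∀ u : Γ(Y, ⊤), u ≠ 0 → IsUnit u := fun u hu =>
    (eq_zero_or_isUnit_of_isIntegral idem_trivial u (Algebra.IsIntegral.isIntegral (R := K) u)).resolve_left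
      hu
  haveI : Nonempty (⊤ : Y.Opens) := by
    obtain ⟨y⟩ : Nonempty Y := inferInstance
    exact ⟨⟨y, trivial⟩⟩
  haveI : Nontrivial Γ(Y, ⊤) := Scheme.component_nontrivial Y ⊤
  haveI : NoZeroDivisors Γ(Y, ⊤) := by
    refine ⟨fun {a b} hab => ?_⟩
    by_cases ha : a = 0
    · exact Or.inl ha
    · right
      exact (hunit a ha).mul_right_eq_zero.1 hab
  haveI : IsDomain Γ(Y, ⊤) := NoZeroDivisors.to_isDomain _
  have hbij : Function.Bijective (algebraMap K Γ(Y, ⊤)) :=
    IsAlgClosed.algebraMap_bijective_of_isIntegral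
  rw [e.finrank_eq, ← (LinearEquiv.ofBijective (Algebra.linearMap K Γ(Y, ⊤)) hbij).finrank_eq,
    Module.finrank_self]

end Groth.Agent.Lib.Helper23.GeomH0
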