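import Groth.Prelude.Def_MeroDiv
import Groth.Agent.Lib.Helper3.InvMonoidal
import Groth.Agent.Lib.Helper3.InvAmple
import Groth.Prelude.Def_ClSub2

/-!
# The dual of an invertible module, and existence of inverses

`dual L` is the sheaf of O_X-modules whose sections over `U` are the families
`(f_x)_{x ∈ U}` of `O_{X,x}`-linear forms `L_x → O_{X,x}` that send (germs of) sections of `L` to
(germs of) sections of `O_X`.  It is built with the prelude's generic constructor `Mero.modOf`.
For `L` invertible, `L ⊗ dual L ≅ O_X`.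
-/

set_option autoImplicit false
universe u
open CategoryTheory CategoryTheory.Limits AlgebraicGeometry TopologicalSpace Opposite
open Scheme.Modules

namespace Groth.Agent.Lib.Helper23.Inverse

open Groth.Agent.Lib.Helper3 Groth.Agent.Lib.Helper3.QCSec Groth.Agent.Lib.Helper3.InvGen
  Groth.Agent.Lib.Helper3.InvTensor

variable {X : Scheme.{u}}

/-- The dual of the stalk. -/
abbrev DStalk (L : X.Modules) (x : X) : Type u :=
  (L.presheaf.stalk x) →ₗ[X.presheaf.stalk x] (X.presheaf.stalk x)

/-- sections of the structure sheaf with the same germs are equal -/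
theorem fun_ext_germ {V : X.Opens} (a b : Γ(X, V))
    (h : ∀ x : V, X.presheaf.germ V x.1 x.2 a = X.presheaf.germ V x.1 x.2 b) : a = b :=
  TopCat.Presheaf.section_ext X.sheaf V a b (fun x hx => h ⟨x, hx⟩)

/-- The prelocal predicate: a family of linear forms on stalks sends sections to sections. -/
def dualPre (L : X.Modules) : TopCat.PrelocalPredicate (fun x : X => DStalk L x) where
  pred {U} f := ∀ (V : X.Opens) (hV : V ≤ U) (l : Γ(L, V)), ∃ a : Γ(X, V),
    ∀ x : V, X.presheaf.germ V x.1 x.2 a = f ⟨x.1, hV x.2⟩ (L.presheaf.germ V x.1 x.2 l)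
  res {V U} i f h := fun W hW l => by
    obtain ⟨a, ha⟩ := h W (hW.trans i.le) l
    exact ⟨a, fun x => ha x⟩

/-- The predicate is local. -/
def dualLoc (L : X.Modules) : TopCat.LocalPredicate (fun x : X => DStalk L x) where
  toPrelocalPredicate := dualPre L
  locality {U} f hf := by
    intro V hV l
    choose W hxW i hW using hf
    -- cover of V
    have hle : ∀ x : V, V ⊓ W ⟨x.1, hV x.2⟩ ≤ W ⟨x.1, hV x.2⟩ := fun x => inf_le_right
    have hsec : ∀ x : V, ∃ a : Γ(X, V ⊓ W ⟨x.1, hV x.2⟩), ∀ y : ↥(V ⊓ W ⟨x.1, hV x.2⟩),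
        X.presheaf.germ _ y.1 y.2 a =
          f ⟨y.1, hV y.2.1⟩ (L.presheaf.germ V y.1 y.2.1 l) := by
      intro x
      obtain ⟨a, ha⟩ := hW ⟨x.1, hV x.2⟩ (V ⊓ W ⟨x.1, hV x.2⟩) (hle x)
        (res L inf_le_left l)
      refine ⟨a, fun y => ?_⟩
      rw [ha y]
      congr 1
      exact TopCat.Presheaf.germ_res_apply L.presheaf (homOfLE inf_le_left) y.1 y.2 l
    choose a ha using hsec
    obtain ⟨b, hb⟩ := fun_glue (fun x : V => V ⊓ W ⟨x.1, hV x.2⟩) V (fun x => inf_le_left)
      (fun y hy => Opens.mem_iSup.mpr ⟨⟨y, hy⟩, hy, hxW ⟨y, hV hy⟩⟩) a (by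
        intro x x'
        apply fun_ext_germ
        intro y
        rw [TopCat.Presheaf.germ_res_apply, TopCat.Presheaf.germ_res_apply]
        rw [ha x ⟨y.1, y.2.1⟩, ha x' ⟨y.1, y.2.2⟩])
    refine ⟨b, fun y => ?_⟩
    have h1 := ha y ⟨y.1, y.2, hxW ⟨y.1, hV y.2⟩⟩
    rw [← h1, ← hb y]
    exact (TopCat.Presheaf.germ_res_apply X.presheaf (homOfLE inf_le_left) y.1
      ⟨y.2, hxW ⟨y.1, hV y.2⟩⟩ b).symm


instance isModPred_dualLoc (L : X.Modules) : Mero.IsModPred (dualLoc L) where
  zero U := fun V hV l => ⟨0, fun x => by rw [map_zero]; rfl⟩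
  add U f g hf hg := fun V hV l => by
    obtain ⟨a, ha⟩ := hf V hV l
    obtain ⟨b, hb⟩ := hg V hV l
    exact ⟨a + b, fun x => by rw [map_add, ha x, hb x]; rfl⟩
  smul U r f hf := fun V hV l => by
    obtain ⟨a, ha⟩ := hf V hV l
    refine ⟨rres X hV r * a, fun x => ?_⟩
    rw [map_mul, ha x, TopCat.Presheaf.germ_res_apply]
    rfl

/-- The dual `Hom(L, O_X)` of an O_X-module (used for invertible `L`). -/
noncomputable abbrev dual (L : X.Modules) : X.Modules := Mero.modOf (dualLoc L)

section Local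

variable {L : X.Modules}

theorem germ_res' (M : X.Modules) {A B : X.Opens} (h : A ≤ B) (x : X) (hx : x ∈ A) (s : Γ(M, B)) :
    M.presheaf.germ A x hx (res M h s) = M.presheaf.germ B x (h hx) s :=
  TopCat.Presheaf.germ_res_apply M.presheaf (homOfLE h) x hx s

theorem germ_rres' {A B : X.Opens} (h : A ≤ B) (x : X) (hx : x ∈ A) (s : Γ(X, B)) :
    X.presheaf.germ A x hx (rres X h s) = X.presheaf.germ B x (h hx) s :=
  TopCat.Presheaf.germ_res_apply X.presheaf (homOfLE h) x hx s

/-- the germ of a generator is a basis of the stalk -/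
theorem germ_gen_bijective {U : X.Opens} {e : Γ(L, U)} (hg : IsGen L U e) (y : X) (hy : y ∈ U) :
    Function.Bijective (LinearMap.toSpanSingleton (X.presheaf.stalk y) (L.presheaf.stalk y)
      (L.presheaf.germ U y hy e)) := by
  constructor
  · rw [injective_iff_map_eq_zero]
    intro c hc
    rw [LinearMap.toSpanSingleton_apply] at hc
    obtain ⟨V, hyV, a, rfl⟩ := TopCat.Presheaf.exists_germ_eq X.presheaf c
    have hyW : y ∈ V ⊓ U := ⟨hyV, hy⟩
    have h1 : L.presheaf.germ (V ⊓ U) y hyW (rres X (inf_le_left : V ⊓ U ≤ V) a •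
        res L (inf_le_right : V ⊓ U ≤ U) e) = 0 := by
      rw [Mero.germ_smul, germ_res', germ_rres']
      exact hc
    have h0 : L.presheaf.germ (V ⊓ U) y hyW (0 : Γ(L, V ⊓ U)) = 0 := map_zero _
    obtain ⟨W, hyW', iU, iV, hW⟩ := TopCat.Presheaf.germ_eq L.presheaf y hyW hyW _ _
      (h1.trans h0.symm)
    have hle : W ≤ V ⊓ U := iU.le
    have h2 : res L hle (rres X (inf_le_left : V ⊓ U ≤ V) a •
        res L (inf_le_right : V ⊓ U ≤ U) e) = 0 := by
      have : res L hle (0 : Γ(L, V ⊓ U)) = 0 := res_zero L hle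
      rw [← this]
      exact hW
    rw [res_smul, res_res, rres_rres] at h2
    have h3 := (hg W (hle.trans inf_le_right)).eq_zero h2
    rw [← germ_rres' (hle.trans inf_le_left) y hyW' a, h3, map_zero]
  · intro t
    obtain ⟨V, hyV, l, rfl⟩ := TopCat.Presheaf.exists_germ_eq L.presheaf t
    have hyW : y ∈ V ⊓ U := ⟨hyV, hy⟩
    obtain ⟨a, ha⟩ := (hg (V ⊓ U) inf_le_right).exists_coord (res L inf_le_left l)
    refine ⟨X.presheaf.germ (V ⊓ U) y hyW a, ?_⟩
    rw [LinearMap.toSpanSingleton_apply, ← germ_res' L inf_le_right y hyW e, ← Mero.germ_smul, ha,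
      germ_res']

/-- the coordinate with respect to a generator, on the stalk -/
noncomputable def coord {U : X.Opens} {e : Γ(L, U)} (hg : IsGen L U e) (y : X) (hy : y ∈ U) :
    DStalk L y :=
  (LinearEquiv.ofBijective _ (germ_gen_bijective hg y hy)).symm.toLinearMap

theorem coord_smul_germ {U : X.Opens} {e : Γ(L, U)} (hg : IsGen L U e) (y : X) (hy : y ∈ U)
    (c : X.presheaf.stalk y) : coord hg y hy (c • L.presheaf.germ U y hy e) = c := by
  have : c • L.presheaf.germ U y hy e =
      LinearEquiv.ofBijective _ (germ_gen_bijective hg y hy) c := by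
    rw [LinearEquiv.ofBijective_apply, LinearMap.toSpanSingleton_apply]
  rw [this]
  exact (LinearEquiv.ofBijective _ (germ_gen_bijective hg y hy)).symm_apply_apply c

theorem exists_eq_smul_germ {U : X.Opens} {e : Γ(L, U)} (hg : IsGen L U e) (y : X) (hy : y ∈ U)
    (t : L.presheaf.stalk y) : ∃ c : X.presheaf.stalk y, t = c • L.presheaf.germ U y hy e := by
  obtain ⟨c, hc⟩ := (germ_gen_bijective hg y hy).2 t
  exact ⟨c, by rw [← hc, LinearMap.toSpanSingleton_apply]⟩

/-- two linear forms on the stalk agreeing at the germ of a generator are equal -/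
theorem dstalk_ext {U : X.Opens} {e : Γ(L, U)} (hg : IsGen L U e) (y : X) (hy : y ∈ U)
    (φ ψ : DStalk L y) (h : φ (L.presheaf.germ U y hy e) = ψ (L.presheaf.germ U y hy e)) :
    φ = ψ := by
  apply LinearMap.ext
  intro t
  obtain ⟨c, rfl⟩ := exists_eq_smul_germ hg y hy t
  rw [LinearMap.map_smul, LinearMap.map_smul, h]

/-- the dual generator -/
noncomputable def dualGen {U : X.Opens} {e : Γ(L, U)} (hg : IsGen L U e) : Γ(dual L, U) :=
  ⟨fun y => coord hg y.1 y.2, fun V hV l => by
    obtain ⟨a, ha⟩ := (hg V hV).exists_coord l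
    refine ⟨a, fun x => ?_⟩
    rw [← ha, Mero.germ_smul, germ_res']
    exact (coord_smul_germ hg x.1 (hV x.2) _).symm⟩

theorem dualGen_apply {U : X.Opens} {e : Γ(L, U)} (hg : IsGen L U e) (y : U) :
    (dualGen hg).1 y = coord hg y.1 y.2 := rfl


theorem coord_germ {U : X.Opens} {e : Γ(L, U)} (hg : IsGen L U e) (y : X) (hy : y ∈ U) :
    coord hg y hy (L.presheaf.germ U y hy e) = 1 := by
  have h := coord_smul_germ hg y hy 1
  rwa [one_smul] at h

theorem res_dualGen {U V : X.Opens} {e : Γ(L, U)} (hg : IsGen L U e) (h : V ≤ U) :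
    res (dual L) h (dualGen hg) = dualGen (hg.mono h) := by
  apply Subtype.ext
  funext y
  change coord hg y.1 (h y.2) = coord (hg.mono h) y.1 y.2
  apply dstalk_ext (hg.mono h) y.1 y.2
  rw [coord_germ, germ_res', coord_germ]

theorem isGenAt_dualGen {U : X.Opens} {e : Γ(L, U)} (hg : IsGen L U e) :
    IsGenAt (dual L) U (dualGen hg) := by
  constructor
  · intro a b hab
    dsimp only at hab
    apply fun_ext_germ
    intro x
    have h1 : (a • dualGen hg).1 x = (b • dualGen hg).1 x := congrArg (fun f => f.1 x) hab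
    rw [Mero.modOf_smul_apply, Mero.modOf_smul_apply] at h1
    have h2 := congrArg (fun φ : DStalk L x.1 => φ (L.presheaf.germ U x.1 x.2 e)) h1
    simp only [LinearMap.smul_apply, dualGen_apply, coord_germ, smul_eq_mul, mul_one] at h2
    exact h2
  · intro f
    obtain ⟨a, ha⟩ := f.2 U le_rfl e
    refine ⟨a, ?_⟩
    apply Subtype.ext
    funext x
    change X.presheaf.germ U x.1 x.2 a • coord hg x.1 x.2 = f.1 x
    apply dstalk_ext hg x.1 x.2
    rw [LinearMap.smul_apply, coord_germ, smul_eq_mul, mul_one]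
    exact ha x

theorem isGen_dualGen {U : X.Opens} {e : Γ(L, U)} (hg : IsGen L U e) :
    IsGen (dual L) U (dualGen hg) := by
  intro V hV
  rw [res_dualGen hg hV]
  exact isGenAt_dualGen (hg.mono hV)

theorem dualGen_eq_smul {W : X.Opens} {m m' : Γ(L, W)} (hm : IsGen L W m) (hm' : IsGen L W m')
    (u : Γ(X, W)) (hu : m' = u • m) : dualGen hm = u • dualGen hm' := by
  subst hu
  apply Subtype.ext
  funext y
  change coord hm y.1 y.2 = X.presheaf.germ W y.1 y.2 u • coord hm' y.1 y.2
  apply dstalk_ext hm' y.1 y.2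
  rw [LinearMap.smul_apply, coord_germ, Mero.germ_smul, coord_smul_germ, smul_eq_mul, mul_one]

theorem tm_dualGen_eq {W : X.Opens} {m m' : Γ(L, W)} (hm : IsGen L W m) (hm' : IsGen L W m') :
    tm L (dual L) W m (dualGen hm) = tm L (dual L) W m' (dualGen hm') := by
  obtain ⟨u, hu⟩ := hm.self.exists_coord m'
  rw [dualGen_eq_smul hm hm' u hu.symm, tm_smul_right, ← tm_smul_left, hu]

end Local

theorem isInvertible_dual {L : X.Modules} (hL : PicF.IsInvertible L) :
    PicF.IsInvertible (dual L) :=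
  isInvertible_of_isGen fun x => by
    obtain ⟨U, e, hx, hg⟩ := exists_isGen hL x
    exact ⟨U, dualGen hg, hx, isGen_dualGen hg⟩

theorem exists_global {L : X.Modules} (hL : PicF.IsInvertible L) :
    ∃ σ : Γ(CohB1.tensorMod L (dual L), ⊤), IsGen (CohB1.tensorMod L (dual L)) ⊤ σ := by
  choose U e hxU hg using fun x => exists_isGen hL x
  obtain ⟨σ, hσ⟩ := sec_glue (CohB1.tensorMod L (dual L)) U ⊤ (fun _ => le_top)
    (fun y _ => Opens.mem_iSup.mpr ⟨y, hxU y⟩)
    (fun x => tm L (dual L) (U x) (e x) (dualGen (hg x))) (by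
      intro x x'
      rw [tm_res, tm_res, res_dualGen, res_dualGen]
      exact tm_dualGen_eq ((hg x).mono inf_le_left) ((hg x').mono inf_le_right))
  refine ⟨σ, isGen_of_local fun x _ => ⟨U x, le_top, hxU x, ?_⟩⟩
  rw [hσ x]
  exact isGen_tm (hg x) (isGen_dualGen (hg x))

/-- **Inverses exist**: `L ⊗ dual L ≅ O_X` for invertible `L`. -/
theorem tensor_dual_iso {L : X.Modules} (hL : PicF.IsInvertible L) :
    Nonempty (CohB1.tensorMod L (dual L) ≅ Coh.structureModule X) := by
  obtain ⟨σ, hσ⟩ := exists_global hL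
  have : IsIso (InvAmple.globalHom _ σ) := by
    rw [Scheme.Modules.Hom.isIso_iff_isIso_app]
    intro V
    have h2 : Function.Bijective ((InvAmple.globalHom _ σ).app V) := by
      rw [bijective_app_iff, InvAmple.sec_globalHom]
      exact hσ V le_top
    exact (ConcreteCategory.isIso_iff_bijective ((InvAmple.globalHom _ σ).app V)).mpr h2
  exact ⟨(asIso (InvAmple.globalHom _ σ)).symm⟩

theorem isInverseOf_dual {L : X.Modules} (hL : PicF.IsInvertible L) :
    ClSub.IsInverseOf L (dual L) := tensor_dual_iso hL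

theorem exists_isInverseOf {L : X.Modules} (hL : PicF.IsInvertible L) :
    ∃ M : X.Modules, PicF.IsInvertible M ∧ ClSub.IsInverseOf L M :=
  ⟨dual L, isInvertible_dual hL, isInverseOf_dual hL⟩

end Groth.Agent.Lib.Helper23.Inverse
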