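import Mathlib

/-!
# Additivity of alternating sums of lengths along a long exact sequence
-/
set_option autoImplicit false

namespace Groth.Agent.Lib.Helper23.EulerLES

variable {R : Type*} [Ring R]

/-- the length as a natural number (0 if infinite). -/
noncomputable def len (R : Type*) [Ring R] (M : Type*) [AddCommGroup M] [Module R M] : ℕ :=
  (Module.length R M).toNat

lemma len_of_subsingleton {M : Type*} [AddCommGroup M] [Module R M] [Subsingleton M] :
    len R M = 0 := by
  unfold len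
  rw [Module.length_eq_zero]
  rfl

lemma len_ker_add_len_range {M N : Type*} [AddCommGroup M] [Module R M] [AddCommGroup N]
    [Module R N] (φ : M →ₗ[R] N) (hM : IsFiniteLength R M) :
    len R M = len R (LinearMap.ker φ) + len R (LinearMap.range φ) := by
  have hex : Function.Exact (LinearMap.ker φ).subtype φ.rangeRestrict := by
    intro y
    constructor
    · intro hy
      refine ⟨⟨y, ?_⟩, rfl⟩
      rw [LinearMap.mem_ker]
      exact congrArg Subtype.val hy
    · rintro ⟨z, rfl⟩
      apply Subtype.ext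
      exact z.2
  have h := Module.length_eq_add_of_exact (LinearMap.ker φ).subtype φ.rangeRestrict
    Subtype.val_injective φ.surjective_rangeRestrict hex
  have hne : Module.length R M ≠ ⊤ := Module.length_ne_top_iff.2 hM
  rw [h] at hne
  have h1 : Module.length R (LinearMap.ker φ) ≠ ⊤ := fun h' => hne (by rw [h', top_add])
  have h2 : Module.length R (LinearMap.range φ) ≠ ⊤ := fun h' => hne (by rw [h', add_top])
  unfold len
  rw [h, ENat.toNat_add h1 h2]

lemma telescope (a : ℕ → ℤ) (n : ℕ) :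
    ∑ i ∈ Finset.range n, (-1 : ℤ) ^ i * (a i + a (i + 1)) = a 0 - (-1) ^ n * a n := by
  induction n with
  | zero => simp
  | succ n ih =>
    rw [Finset.sum_range_succ, ih, pow_succ]
    ring

/-- Additivity of the alternating sum of lengths along a long exact sequence
`0 → M1 0 → M2 0 → M3 0 → M1 1 → ⋯` -/
theorem alt_sum {M1 M2 M3 : ℕ → Type*}
    [∀ i, AddCommGroup (M1 i)] [∀ i, Module R (M1 i)]
    [∀ i, AddCommGroup (M2 i)] [∀ i, Module R (M2 i)]
    [∀ i, AddCommGroup (M3 i)] [∀ i, Module R (M3 i)]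
    (f : ∀ i, M1 i →ₗ[R] M2 i) (g : ∀ i, M2 i →ₗ[R] M3 i) (δ : ∀ i, M3 i →ₗ[R] M1 (i + 1))
    (hf0 : Function.Injective (f 0))
    (h1 : ∀ i, Function.Exact (f i) (g i)) (h2 : ∀ i, Function.Exact (g i) (δ i))
    (h3 : ∀ i, Function.Exact (δ i) (f (i + 1)))
    (hfin1 : ∀ i, IsFiniteLength R (M1 i)) (hfin2 : ∀ i, IsFiniteLength R (M2 i))
    (hfin3 : ∀ i, IsFiniteLength R (M3 i))
    (N : ℕ) (hN : Subsingleton (M1 (N + 1))) :
    ∑ i ∈ Finset.range (N + 1), (-1 : ℤ) ^ i * (len R (M2 i) : ℤ) =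
      ∑ i ∈ Finset.range (N + 1), (-1 : ℤ) ^ i * (len R (M1 i) : ℤ) +
      ∑ i ∈ Finset.range (N + 1), (-1 : ℤ) ^ i * (len R (M3 i) : ℤ) := by
  let a : ℕ → ℤ := fun i => (len R (LinearMap.ker (f i)) : ℤ)
  let b : ℕ → ℤ := fun i => (len R (LinearMap.range (f i)) : ℤ)
  let c : ℕ → ℤ := fun i => (len R (LinearMap.range (g i)) : ℤ)
  have e1 : ∀ i, (len R (M1 i) : ℤ) = a i + b i := fun i => by
    rw [len_ker_add_len_range (f i) (hfin1 i)]
    push_cast
    rfl
  have e2 : ∀ i, (len R (M2 i) : ℤ) = b i + c i := fun i => by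
    rw [len_ker_add_len_range (g i) (hfin2 i), (LinearMap.exact_iff.1 (h1 i))]
    push_cast
    rfl
  have e3 : ∀ i, (len R (M3 i) : ℤ) = c i + a (i + 1) := fun i => by
    rw [len_ker_add_len_range (δ i) (hfin3 i), (LinearMap.exact_iff.1 (h2 i)),
      ← (LinearMap.exact_iff.1 (h3 i))]
    push_cast
    rfl
  have a0 : a 0 = 0 := by
    have : Subsingleton (LinearMap.ker (f 0)) := by
      rw [LinearMap.ker_eq_bot.2 hf0]
      infer_instance
    change ((len R (LinearMap.ker (f 0)) : ℕ) : ℤ) = 0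
    rw [len_of_subsingleton]
    rfl
  have aN : a (N + 1) = 0 := by
    have : Subsingleton (LinearMap.ker (f (N + 1))) :=
      ⟨fun x y => Subtype.ext (Subsingleton.elim _ _)⟩
    change ((len R (LinearMap.ker (f (N + 1))) : ℕ) : ℤ) = 0
    rw [len_of_subsingleton]
    rfl
  have tel := telescope a (N + 1)
  rw [a0, aN, mul_zero, sub_zero] at tel
  simp_rw [e1, e2, e3]
  have : ∀ i, (-1 : ℤ) ^ i * (b i + c i) =
      (-1 : ℤ) ^ i * (a i + b i) + (-1 : ℤ) ^ i * (c i + a (i + 1)) -
        (-1 : ℤ) ^ i * (a i + a (i + 1)) := fun i => by ring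
  simp_rw [this]
  rw [Finset.sum_sub_distrib, Finset.sum_add_distrib, tel, sub_zero]

end Groth.Agent.Lib.Helper23.EulerLES
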