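import Groth.Agent.Lib.Helper23.T2K
import Groth.Agent.Lib.Helper23.EulerLES
import Groth.Agent.S0016

/-!
# T2N: additivity of Euler characteristics on proper schemes over Artinian rings / fields
-/
set_option autoImplicit false
universe u
open CategoryTheory CategoryTheory.Limits Opposite TopologicalSpace AlgebraicGeometry

noncomputable section

namespace Groth.Agent.Lib.Helper23.T2

open EulerLES

variable (A : Type u) [CommRing A] {X : Scheme.{u}} [X.Over (Spec (CommRingCat.of A))]

/-- `H^n(φ)` as an `A`-linear map. -/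
def HmapA {M N : X.Modules} (φ : M ⟶ N) (n : ℕ) : Coh.HH X M n →ₗ[A] Coh.HH X N n where
  toFun := Hmap φ n
  map_add' := (Hmap φ n).map_add
  map_smul' a x := (Hmap φ n).map_smul (Coh.toGlobal (X ↘ Spec (CommRingCat.of A)) a) x

/-- the connecting map as an `A`-linear map. -/
def HδA (S : ShortComplex X.Modules) (hS : S.ShortExact) (n : ℕ) :
    Coh.HH X S.X₃ n →ₗ[A] Coh.HH X S.X₁ (n + 1) where
  toFun := Hδ S hS n
  map_add' := (Hδ S hS n).map_add
  map_smul' a x := (Hδ S hS n).map_smul (Coh.toGlobal (X ↘ Spec (CommRingCat.of A)) a) x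

lemma HmapA_injective_zero {M N : X.Modules} (φ : M ⟶ N) [Mono φ] :
    Function.Injective (HmapA A φ 0) := Hmap_injective_zero φ

lemma exact_f_g (S : ShortComplex X.Modules) (hS : S.ShortExact) (n : ℕ) :
    Function.Exact (HmapA A S.f n) (HmapA A S.g n) := by
  intro y
  constructor
  · intro hy
    exact exact₂ S hS n y hy
  · rintro ⟨z, rfl⟩
    exact Hmap_comp_eq_zero S.f S.g S.zero n z

lemma exact_g_δ (S : ShortComplex X.Modules) (hS : S.ShortExact) (n : ℕ) :
    Function.Exact (HmapA A S.g n) (HδA A S hS n) := by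
  intro y
  constructor
  · intro hy
    exact exact₃ S hS n y hy
  · rintro ⟨z, rfl⟩
    exact Hδ_Hmap_g S hS n z

lemma exact_δ_f (S : ShortComplex X.Modules) (hS : S.ShortExact) (n : ℕ) :
    Function.Exact (HδA A S hS n) (HmapA A S.f (n + 1)) := by
  intro y
  constructor
  · intro hy
    exact exact₁ S hS n y hy
  · rintro ⟨z, rfl⟩
    exact Hmap_f_Hδ S hS n z

lemma isFiniteLength_of_finite {A : Type u} [CommRing A] [IsArtinianRing A] (M : Type u)
    [AddCommGroup M] [Module A M] [Module.Finite A M] : IsFiniteLength A M := by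
  rw [isFiniteLength_iff_isNoetherian_isArtinian]
  exact ⟨inferInstance, inferInstance⟩

lemma finite_HH [IsNoetherianRing A] [IsProper (X ↘ Spec (CommRingCat.of A))]
    (M : X.Modules) (hM : Coh.IsCoh M) (n : ℕ) : Module.Finite A (Coh.HH X M n) :=
  (finClass_HHm_iff A M n).1 (proper_cohomology_finite (X ↘ Spec (CommRingCat.of A)) M hM n)

/-- **Additivity of the Euler characteristic (lengths over an Artinian ring).** -/
theorem euler_additive_len [IsArtinianRing A] [IsProper (X ↘ Spec (CommRingCat.of A))]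
    (S : ShortComplex X.Modules) (hS : S.ShortExact) (h1 : Coh.IsCoh S.X₁) (h2 : Coh.IsCoh S.X₂)
    (h3 : Coh.IsCoh S.X₃) (N : ℕ) (hN : Subsingleton (Coh.HH X S.X₁ (N + 1))) :
    ∑ i ∈ Finset.range (N + 1), (-1 : ℤ) ^ i * (len A (Coh.HH X S.X₂ i) : ℤ) =
      ∑ i ∈ Finset.range (N + 1), (-1 : ℤ) ^ i * (len A (Coh.HH X S.X₁ i) : ℤ) +
      ∑ i ∈ Finset.range (N + 1), (-1 : ℤ) ^ i * (len A (Coh.HH X S.X₃ i) : ℤ) := by
  haveI := hS.mono_f
  haveI := fun i => finite_HH A S.X₁ h1 i
  haveI := fun i => finite_HH A S.X₂ h2 i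
  haveI := fun i => finite_HH A S.X₃ h3 i
  exact alt_sum (R := A) (M1 := fun i => Coh.HH X S.X₁ i) (M2 := fun i => Coh.HH X S.X₂ i)
    (M3 := fun i => Coh.HH X S.X₃ i) (fun i => HmapA A S.f i) (fun i => HmapA A S.g i)
    (fun i => HδA A S hS i) (HmapA_injective_zero A S.f)
    (exact_f_g A S hS) (exact_g_δ A S hS) (exact_δ_f A S hS)
    (fun i => isFiniteLength_of_finite _) (fun i => isFiniteLength_of_finite _)
    (fun i => isFiniteLength_of_finite _) N hN

end Groth.Agent.Lib.Helper23.T2

namespace Groth.Agent.Lib.Helper23.T2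

open EulerLES

section Field

variable (k : Type u) [Field k] (X : Scheme.{u}) [X.Over (Spec (CommRingCat.of k))]

lemma compactSpace_of_isProper [IsProper (X ↘ Spec (CommRingCat.of k))] : CompactSpace X :=
  QuasiCompact.compactSpace_of_compactSpace (X ↘ Spec (CommRingCat.of k))

lemma quasiSeparatedSpace_of_isProper [IsProper (X ↘ Spec (CommRingCat.of k))] :
    QuasiSeparatedSpace X :=
  quasiSeparatedSpace_of_quasiSeparated (X ↘ Spec (CommRingCat.of k))

/-- a uniform vanishing bound for quasi-coherent cohomology. -/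
lemma exists_vanishing_bound [IsProper (X ↘ Spec (CommRingCat.of k))] :
    ∃ d : ℕ, ∀ (M : X.Modules), Coh.IsQCoh M → ∀ p : ℕ, d ≤ p → Subsingleton (Coh.HH X M p) := by
  haveI := compactSpace_of_isProper k X
  haveI := quasiSeparatedSpace_of_isProper k X
  exact Groth.Agent.S0016.result X

lemma finrank_eq_len [IsProper (X ↘ Spec (CommRingCat.of k))] (M : X.Modules)
    (hM : Coh.IsCoh M) (n : ℕ) :
    Module.finrank k (Coh.HH X M n) = len k (Coh.HH X M n) := by
  haveI := finite_HH k M hM n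
  unfold len
  rw [Module.length_eq_finrank]
  rfl

/-- the Euler characteristic as a finite sum. -/
lemma euler_eq_sum [IsProper (X ↘ Spec (CommRingCat.of k))] (M : X.Modules) (hM : Coh.IsCoh M)
    (d : ℕ) (hd : ∀ p : ℕ, d ≤ p → Subsingleton (Coh.HH X M p)) :
    Curv2.euler k X M =
      ∑ i ∈ Finset.range (d + 1), (-1 : ℤ) ^ i * (len k (Coh.HH X M i) : ℤ) := by
  unfold Curv2.euler
  rw [finsum_eq_sum_of_support_subset]
  · refine Finset.sum_congr rfl fun i _ => ?_
    rw [finrank_eq_len k X M hM i]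
  · intro i hi
    by_contra hni
    rw [Finset.coe_range, Set.mem_Iio, not_lt] at hni
    haveI := hd i (by omega)
    apply hi
    change (-1 : ℤ) ^ i * ↑(Module.finrank k (Coh.HH X M i)) = 0
    rw [Module.finrank_zero_of_subsingleton]
    simp

/-- **Additivity of the Euler characteristic on a proper scheme over a field.** -/
theorem euler_additive [IsProper (X ↘ Spec (CommRingCat.of k))]
    (S : ShortComplex X.Modules) (hS : S.ShortExact) (h1 : Coh.IsCoh S.X₁) (h2 : Coh.IsCoh S.X₂)
    (h3 : Coh.IsCoh S.X₃) :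
    Curv2.euler k X S.X₂ = Curv2.euler k X S.X₁ + Curv2.euler k X S.X₃ := by
  obtain ⟨d, hd⟩ := exists_vanishing_bound k X
  rw [euler_eq_sum k X S.X₁ h1 d (hd _ h1.1), euler_eq_sum k X S.X₂ h2 d (hd _ h2.1),
    euler_eq_sum k X S.X₃ h3 d (hd _ h3.1)]
  exact euler_additive_len k S hS h1 h2 h3 d (hd _ h1.1 (d + 1) (Nat.le_succ d))

end Field

end Groth.Agent.Lib.Helper23.T2
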