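import Mathlib

/-!
# Helper library (helper23): polynomial functions on `ℕ^r` and finite differences
-/

set_option autoImplicit false
open MvPolynomial

namespace Groth.Agent.Lib.Helper23.Snap

/-- total degree `< d` (the zero polynomial for `d = 0`). -/
def DegLT {σ : Type*} (d : ℕ) (P : MvPolynomial σ ℚ) : Prop := P = 0 ∨ P.totalDegree + 1 ≤ d

lemma DegLT.zero {σ : Type*} (d : ℕ) : DegLT d (0 : MvPolynomial σ ℚ) := Or.inl rfl

lemma degLT_of_totalDegree {σ : Type*} {d : ℕ} {P : MvPolynomial σ ℚ} (h : P.totalDegree + 1 ≤ d) :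
    DegLT d P := Or.inr h

lemma DegLT.totalDegree_le {σ : Type*} {d : ℕ} {P : MvPolynomial σ ℚ} (h : DegLT (d + 1) P) :
    P.totalDegree ≤ d := by
  rcases h with rfl | h
  · simp
  · omega

lemma DegLT.mono {σ : Type*} {d e : ℕ} (hde : d ≤ e) {P : MvPolynomial σ ℚ} (h : DegLT d P) :
    DegLT e P := by
  rcases h with rfl | h
  · exact DegLT.zero e
  · exact Or.inr (h.trans hde)

lemma DegLT.add {σ : Type*} {d : ℕ} {P Q : MvPolynomial σ ℚ} (hP : DegLT d P) (hQ : DegLT d Q) :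
    DegLT d (P + Q) := by
  rcases hP with rfl | hP
  · rwa [zero_add]
  rcases hQ with rfl | hQ
  · rw [add_zero]; exact Or.inr hP
  · refine Or.inr ?_
    have := totalDegree_add P Q
    have h2 : max P.totalDegree Q.totalDegree + 1 ≤ d := by
      rcases max_cases P.totalDegree Q.totalDegree with ⟨h, _⟩ | ⟨h, _⟩ <;> rw [h] <;> assumption
    omega

lemma DegLT.neg {σ : Type*} {d : ℕ} {P : MvPolynomial σ ℚ} (hP : DegLT d P) : DegLT d (-P) := by
  rcases hP with rfl | hP
  · rw [neg_zero]; exact DegLT.zero d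
  · exact Or.inr (by rwa [totalDegree_neg])

lemma DegLT.sub {σ : Type*} {d : ℕ} {P Q : MvPolynomial σ ℚ} (hP : DegLT d P) (hQ : DegLT d Q) :
    DegLT d (P - Q) := by
  rw [sub_eq_add_neg]
  exact hP.add hQ.neg

lemma DegLT.sum {σ ι : Type*} {d : ℕ} (s : Finset ι) (P : ι → MvPolynomial σ ℚ)
    (h : ∀ i ∈ s, DegLT d (P i)) : DegLT d (∑ i ∈ s, P i) := by
  classical
  induction s using Finset.induction_on with
  | empty => simpa using DegLT.zero d
  | insert a s ha ih =>
    rw [Finset.sum_insert ha]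
    exact (h a (Finset.mem_insert_self a s)).add
      (ih fun i hi => h i (Finset.mem_insert_of_mem hi))

lemma DegLT.support_lt {σ : Type*} {d : ℕ} {P : MvPolynomial σ ℚ} (h : DegLT d P) :
    ∀ m ∈ P.support, (m.sum fun _ e => e) < d := by
  intro m hm
  rcases h with rfl | h
  · simp at hm
  · have := le_totalDegree hm
    omega

/-- evaluation at a point of `ℕ^r`. -/
noncomputable def evN {r : ℕ} (P : MvPolynomial (Fin r) ℚ) (n : Fin r → ℕ) : ℚ :=
  eval (fun i => (n i : ℚ)) P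

/-- polynomial functions of total degree `< d`. -/
def IsPolyLT (r d : ℕ) (f : (Fin r → ℕ) → ℚ) : Prop :=
  ∃ P : MvPolynomial (Fin r) ℚ, DegLT d P ∧ ∀ n, f n = evN P n

lemma IsPolyLT.zero (r d : ℕ) : IsPolyLT r d (fun _ => 0) :=
  ⟨0, DegLT.zero d, fun n => by simp [evN]⟩

lemma IsPolyLT.add {r d : ℕ} {f g : (Fin r → ℕ) → ℚ} (hf : IsPolyLT r d f) (hg : IsPolyLT r d g) :
    IsPolyLT r d (fun n => f n + g n) := by
  obtain ⟨P, hP, hfP⟩ := hf
  obtain ⟨Q, hQ, hgQ⟩ := hg
  exact ⟨P + Q, hP.add hQ, fun n => by simp [evN, hfP n, hgQ n]⟩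

lemma IsPolyLT.neg {r d : ℕ} {f : (Fin r → ℕ) → ℚ} (hf : IsPolyLT r d f) :
    IsPolyLT r d (fun n => - f n) := by
  obtain ⟨P, hP, hfP⟩ := hf
  exact ⟨-P, hP.neg, fun n => by simp [evN, hfP n]⟩

lemma IsPolyLT.sub {r d : ℕ} {f g : (Fin r → ℕ) → ℚ} (hf : IsPolyLT r d f) (hg : IsPolyLT r d g) :
    IsPolyLT r d (fun n => f n - g n) := by
  obtain ⟨P, hP, hfP⟩ := hf
  obtain ⟨Q, hQ, hgQ⟩ := hg
  exact ⟨P - Q, hP.sub hQ, fun n => by simp [evN, hfP n, hgQ n]⟩

lemma IsPolyLT.mono {r d e : ℕ} (hde : d ≤ e) {f : (Fin r → ℕ) → ℚ} (hf : IsPolyLT r d f) :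
    IsPolyLT r e f := by
  obtain ⟨P, hP, hfP⟩ := hf
  exact ⟨P, hP.mono hde, hfP⟩

lemma IsPolyLT.congr {r d : ℕ} {f g : (Fin r → ℕ) → ℚ} (hf : IsPolyLT r d f) (h : ∀ n, g n = f n) :
    IsPolyLT r d g := by
  obtain ⟨P, hP, hfP⟩ := hf
  exact ⟨P, hP, fun n => (h n).trans (hfP n)⟩

/-- the polynomial functions of degree `< d`, as a subgroup. -/
def polyLT (r d : ℕ) : AddSubgroup ((Fin r → ℕ) → ℚ) where
  carrier := {f | IsPolyLT r d f}
  zero_mem' := IsPolyLT.zero r d
  add_mem' := fun hf hg => hf.add hg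
  neg_mem' := fun hf => hf.neg

lemma mem_polyLT {r d : ℕ} {f : (Fin r → ℕ) → ℚ} : f ∈ polyLT r d ↔ IsPolyLT r d f := Iff.rfl

/-! ### Faulhaber -/

lemma exists_faulhaber (p : ℕ) : ∃ F : Polynomial ℚ, F.natDegree ≤ p + 1 ∧
    ∀ m : ℕ, F.eval (m : ℚ) = ∑ k ∈ Finset.range m, (k : ℚ) ^ p := by
  refine ⟨Polynomial.C ((p + 1 : ℚ)⁻¹) *
    (Polynomial.bernoulli (p + 1) - Polynomial.C (bernoulli (p + 1))), ?_, ?_⟩
  · refine (Polynomial.natDegree_C_mul_le _ _).trans ?_
    refine (Polynomial.natDegree_sub_le _ _).trans ?_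
    rw [Polynomial.natDegree_C, max_eq_left (Nat.zero_le _), Polynomial.bernoulli_def]
    refine Polynomial.natDegree_sum_le_of_forall_le _ _ fun i hi => ?_
    exact (Polynomial.natDegree_monomial_le _).trans (Finset.mem_range_succ_iff.mp hi)
  · intro m
    have h := Polynomial.sum_range_pow_eq_bernoulli_sub m p
    have hp : (p + 1 : ℚ) ≠ 0 := by positivity
    rw [Polynomial.eval_mul, Polynomial.eval_C, Polynomial.eval_sub, Polynomial.eval_C, ← h]
    field_simp

/-! ### evaluation and `finSuccEquiv` -/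

lemma cast_cons {r : ℕ} (m : ℕ) (s : Fin r → ℕ) :
    (fun i => ((Fin.cons m s : Fin (r + 1) → ℕ) i : ℚ)) =
      (Fin.cons (m : ℚ) (fun i => (s i : ℚ)) : Fin (r + 1) → ℚ) := by
  funext i
  refine Fin.cases ?_ (fun j => ?_) i <;> simp

lemma evN_cons {r : ℕ} (P : MvPolynomial (Fin (r + 1)) ℚ) (m : ℕ) (s : Fin r → ℕ) :
    evN P (Fin.cons m s) =
      ∑ j ∈ Finset.range ((finSuccEquiv ℚ r P).natDegree + 1),
        evN ((finSuccEquiv ℚ r P).coeff j) s * (m : ℚ) ^ j := by
  unfold evN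
  rw [cast_cons, eval_eq_eval_mv_eval']
  rw [Polynomial.eval_eq_sum_range' (n := (finSuccEquiv ℚ r P).natDegree + 1)
    (lt_of_le_of_lt (Polynomial.natDegree_map_le) (Nat.lt_succ_self _))]
  refine Finset.sum_congr rfl fun j _ => ?_
  rw [Polynomial.coeff_map]

lemma evN_cons_zero {r : ℕ} (P : MvPolynomial (Fin (r + 1)) ℚ) (s : Fin r → ℕ) :
    evN P (Fin.cons 0 s) = evN ((finSuccEquiv ℚ r P).coeff 0) s := by
  rw [evN_cons, Finset.sum_eq_single 0]
  · simp
  · intro j _ hj
    simp [hj]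
  · intro h
    simp at h

lemma degLT_coeff_finSuccEquiv {r d : ℕ} {P : MvPolynomial (Fin (r + 1)) ℚ} (hP : DegLT d P)
    (j : ℕ) : (finSuccEquiv ℚ r P).coeff j = 0 ∨
      ((finSuccEquiv ℚ r P).coeff j).totalDegree + j + 1 ≤ d := by
  by_cases h0 : (finSuccEquiv ℚ r P).coeff j = 0
  · exact Or.inl h0
  · right
    rcases hP with rfl | hP
    · simp at h0
    · have := totalDegree_coeff_finSuccEquiv_add_le P j h0
      omega

lemma evN_rename_succ {r : ℕ} (G : MvPolynomial (Fin r) ℚ) (m : ℕ) (s : Fin r → ℕ) :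
    evN (rename Fin.succ G) (Fin.cons m s) = evN G s := by
  unfold evN
  rw [eval_rename]
  congr 1

lemma degLT_rename {σ τ : Type*} {d : ℕ} (f : σ → τ) {G : MvPolynomial σ ℚ} (hG : DegLT d G) :
    DegLT d (rename f G) := by
  rcases hG with rfl | hG
  · simp [DegLT.zero]
  · exact Or.inr ((Nat.add_le_add_right (totalDegree_rename_le f G) 1).trans hG)

lemma totalDegree_aeval_X_le {σ : Type*} (i : σ) (F : Polynomial ℚ) :
    (Polynomial.aeval (X i : MvPolynomial σ ℚ) F).totalDegree ≤ F.natDegree := by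
  rw [Polynomial.aeval_eq_sum_range]
  refine totalDegree_finsetSum_le fun j hj => ?_
  rw [Finset.mem_range] at hj
  rw [Algebra.smul_def]
  refine (totalDegree_mul _ _).trans ?_
  rw [algebraMap_eq, totalDegree_C, zero_add]
  refine (totalDegree_pow _ _).trans ?_
  rw [totalDegree_X, mul_one]
  omega

lemma eval_aeval_X {σ : Type*} (g : σ → ℚ) (i : σ) (F : Polynomial ℚ) :
    eval g (Polynomial.aeval (X i : MvPolynomial σ ℚ) F) = F.eval (g i) := by
  rw [Polynomial.aeval_def, Polynomial.hom_eval₂, eval_X]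
  have : (eval g).comp (algebraMap ℚ (MvPolynomial σ ℚ)) = RingHom.id ℚ := by
    ext x
    simp
  rw [this, Polynomial.eval₂_id]

/-- summation in the first variable. -/
theorem exists_sumPoly {r d : ℕ} (P : MvPolynomial (Fin (r + 1)) ℚ) (hP : DegLT d P) :
    ∃ H : MvPolynomial (Fin (r + 1)) ℚ, DegLT (d + 1) H ∧ ∀ (m : ℕ) (s : Fin r → ℕ),
      evN H (Fin.cons m s) = ∑ j ∈ Finset.range m, evN P (Fin.cons j s) := by
  choose F hFdeg hFev using exists_faulhaber
  set Q := finSuccEquiv ℚ r P with hQ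
  refine ⟨∑ j ∈ Finset.range (Q.natDegree + 1),
    rename Fin.succ (Q.coeff j) * Polynomial.aeval (X 0 : MvPolynomial (Fin (r + 1)) ℚ) (F j),
    ?_, ?_⟩
  · refine DegLT.sum _ _ fun j _ => ?_
    rcases degLT_coeff_finSuccEquiv hP j with h0 | h
    · rw [← hQ] at h0
      rw [h0]
      simp [DegLT.zero]
    · refine Or.inr ?_
      have h1 := totalDegree_mul (rename Fin.succ (Q.coeff j))
        (Polynomial.aeval (X 0 : MvPolynomial (Fin (r + 1)) ℚ) (F j))
      have h2 := totalDegree_rename_le Fin.succ (Q.coeff j)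
      have h3 := totalDegree_aeval_X_le (σ := Fin (r + 1)) 0 (F j)
      have h4 := hFdeg j
      rw [← hQ] at h
      omega
  · intro m s
    have h1 : ∀ y : ℕ, evN P (Fin.cons y s) =
        ∑ j ∈ Finset.range (Q.natDegree + 1), evN (Q.coeff j) s * (y : ℚ) ^ j := fun y =>
      evN_cons P y s
    simp_rw [h1]
    rw [Finset.sum_comm]
    unfold evN
    rw [map_sum]
    refine Finset.sum_congr rfl fun j _ => ?_
    rw [map_mul, cast_cons, eval_aeval_X, Fin.cons_zero, hFev j m, Finset.mul_sum]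
    congr 1
    rw [eval_rename]
    congr 1

/-- **finite differences**: a function on `ℕ^r` all of whose first differences are polynomial of
degree `< d` is polynomial of degree `< d + 1`. -/
theorem isPolyLT_succ_of_diff : ∀ (r d : ℕ) (f : (Fin r → ℕ) → ℚ),
    (∀ i : Fin r, IsPolyLT r d (fun n => f (n + Pi.single i 1) - f n)) → IsPolyLT r (d + 1) f
  | 0, d, f, _ => by
    refine ⟨C (f 0), Or.inr (by simp), fun n => ?_⟩
    have : n = 0 := Subsingleton.elim _ _
    simp [evN, this]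
  | r + 1, d, f, h => by
    obtain ⟨P₀, hP₀, hf₀⟩ := h 0
    obtain ⟨H, hH, hHev⟩ := exists_sumPoly P₀ hP₀
    -- the restriction to the hyperplane `n 0 = 0`
    have hg : IsPolyLT r (d + 1) (fun s => f (Fin.cons 0 s)) := by
      apply isPolyLT_succ_of_diff r d
      intro i
      obtain ⟨Pj, hPj, hfi⟩ := h i.succ
      refine ⟨(finSuccEquiv ℚ r Pj).coeff 0, ?_, fun s => ?_⟩
      · rcases degLT_coeff_finSuccEquiv hPj 0 with h0 | h0
        · rw [h0]; exact DegLT.zero d
        · exact Or.inr (by omega)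
      · rw [← evN_cons_zero, ← hfi]
        have : (Fin.cons 0 (s + Pi.single i 1) : Fin (r + 1) → ℕ) =
            Fin.cons 0 s + Pi.single i.succ 1 := by
          funext j
          refine Fin.cases ?_ (fun j' => ?_) j
          · simp
          · simp [Pi.single_apply]
        show f (Fin.cons 0 (s + Pi.single i 1)) - f (Fin.cons 0 s) =
          f (Fin.cons 0 s + Pi.single i.succ 1) - f (Fin.cons 0 s)
        rw [this]
    obtain ⟨G, hG, hgG⟩ := hg
    refine ⟨rename Fin.succ G + H, (degLT_rename _ hG).add hH, fun n => ?_⟩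
    obtain ⟨m, s, rfl⟩ : ∃ (m : ℕ) (s : Fin r → ℕ), n = Fin.cons m s :=
      ⟨n 0, Fin.tail n, (Fin.cons_self_tail n).symm⟩
    have hev : evN (rename Fin.succ G + H) (Fin.cons m s) =
        evN (rename Fin.succ G) (Fin.cons m s) + evN H (Fin.cons m s) := by
      simp [evN]
    rw [hev, evN_rename_succ, ← hgG s, hHev m s]
    have htel : ∀ m : ℕ, f (Fin.cons m s) =
        f (Fin.cons 0 s) + ∑ j ∈ Finset.range m, evN P₀ (Fin.cons j s) := by
      intro m
      induction m with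
      | zero => simp
      | succ m ih =>
        rw [Finset.sum_range_succ, ← add_assoc, ← ih, ← hf₀]
        have : (Fin.cons (m + 1) s : Fin (r + 1) → ℕ) = Fin.cons m s + Pi.single 0 1 := by
          funext j
          refine Fin.cases ?_ (fun j' => ?_) j
          · simp
          · simp [Pi.single_apply]
        rw [this]
        ring
    exact htel m

end Groth.Agent.Lib.Helper23.Snap
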