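import Mathlib
import Groth.Agent.Lib.Helper22.HilbSection

/-!
# Polynomial lemmas for Hilbert polynomials: eventual sign, degree of sums and differences (helper23)
-/

set_option autoImplicit false
universe u
open Polynomial Filter

namespace Groth.Agent.Lib.Helper23.HilbP

/-- a rational polynomial with positive leading coefficient is eventually positive on `ℕ` -/
lemma eventually_pos_of_leadingCoeff_pos (P : ℚ[X]) (hP : 0 < P.leadingCoeff) :
    ∃ N : ℕ, ∀ m : ℕ, N ≤ m → 0 < P.eval (m : ℚ) := by
  by_cases hdeg : 0 < P.degree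
  · have h1 := P.tendsto_atTop_of_leadingCoeff_nonneg hdeg hP.le
    have h2 : Tendsto (fun m : ℕ => P.eval (m : ℚ)) atTop atTop :=
      h1.comp tendsto_natCast_atTop_atTop
    have h3 := h2.eventually_gt_atTop 0
    rw [Filter.eventually_atTop] at h3
    exact h3
  · have h0 : P.degree ≤ 0 := not_lt.1 hdeg
    rw [eq_C_of_degree_le_zero h0] at hP ⊢
    refine ⟨0, fun m _ => ?_⟩
    simpa using hP

/-- eventually nonnegative on `ℕ` implies nonnegative leading coefficient -/
lemma leadingCoeff_nonneg_of_eventually (P : ℚ[X]) (N : ℕ)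
    (h : ∀ m : ℕ, N ≤ m → 0 ≤ P.eval (m : ℚ)) : 0 ≤ P.leadingCoeff := by
  by_contra hneg
  rw [not_le] at hneg
  have hneg' : 0 < (-P).leadingCoeff := by rw [leadingCoeff_neg]; linarith
  obtain ⟨N', hN'⟩ := eventually_pos_of_leadingCoeff_pos (-P) hneg'
  have h1 := h (max N N') (le_max_left _ _)
  have h2 := hN' (max N N') (le_max_right _ _)
  rw [eval_neg] at h2
  linarith

/-- eventually positive on `ℕ` implies positive leading coefficient -/
lemma leadingCoeff_pos_of_eventually (P : ℚ[X]) (N : ℕ)
    (h : ∀ m : ℕ, N ≤ m → 0 < P.eval (m : ℚ)) : 0 < P.leadingCoeff := by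
  have h1 := leadingCoeff_nonneg_of_eventually P N fun m hm => (h m hm).le
  rcases h1.lt_or_eq with h2 | h2
  · exact h2
  · exfalso
    have hP : P = 0 := leadingCoeff_eq_zero.1 h2.symm
    have := h N le_rfl
    rw [hP] at this
    simp at this

/-- no cancellation of degrees for polynomials with positive leading coefficients -/
lemma natDegree_le_add_of_pos (P Q : ℚ[X]) (hP : 0 < P.leadingCoeff)
    (hQ : Q = 0 ∨ 0 < Q.leadingCoeff) : P.natDegree ≤ (P + Q).natDegree := by
  rcases hQ with rfl | hQ
  · simp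
  · by_contra hlt
    rw [not_le] at hlt
    -- the coefficient of `P + Q` in degree `natDegree P` vanishes
    have h0 : (P + Q).coeff P.natDegree = 0 := coeff_eq_zero_of_natDegree_lt hlt
    rw [coeff_add] at h0
    have hQc : Q.coeff P.natDegree = -P.leadingCoeff := by
      have : P.coeff P.natDegree = P.leadingCoeff := rfl
      linarith
    have hQne : Q.coeff P.natDegree ≠ 0 := by rw [hQc]; linarith
    have hle : P.natDegree ≤ Q.natDegree := le_natDegree_of_ne_zero hQne
    rcases hle.lt_or_eq with h1 | h1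
    · -- then `natDegree (P+Q) = natDegree Q > natDegree P`
      have := natDegree_add_eq_right_of_natDegree_lt h1
      omega
    · have : Q.leadingCoeff = Q.coeff P.natDegree := by rw [h1]; rfl
      linarith

lemma natDegree_le_add_of_pos' (P Q : ℚ[X]) (hQ : 0 < Q.leadingCoeff)
    (hP : P = 0 ∨ 0 < P.leadingCoeff) : Q.natDegree ≤ (P + Q).natDegree := by
  rw [add_comm]; exact natDegree_le_add_of_pos Q P hQ hP

/-- the forward difference with step `a ≠ 0` lowers the degree by exactly one -/
lemma natDegree_taylor_sub (Q : ℚ[X]) (a : ℚ) (ha : a ≠ 0) (hQ : 1 ≤ Q.natDegree) :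
    (taylor a Q - Q).natDegree + 1 = Q.natDegree ∧ taylor a Q - Q ≠ 0 := by
  have h := Groth.Agent.Lib.Helper22.HilbSection.natDegree_sub_taylor (taylor a Q)
    (by rw [natDegree_taylor]; exact hQ) a ha
  rw [taylor_taylor, neg_add_cancel, taylor_zero, natDegree_taylor, leadingCoeff_taylor] at h
  refine ⟨h.1, ?_⟩
  intro h0
  rw [h0, leadingCoeff_zero] at h
  have h1 : (Q.natDegree : ℚ) ≠ 0 := by exact_mod_cast (by omega : Q.natDegree ≠ 0)
  have h2 : Q.leadingCoeff ≠ 0 := by
    rw [Ne, leadingCoeff_eq_zero]; intro h3; rw [h3] at hQ; simp at hQ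
  exact (mul_ne_zero (mul_ne_zero h1 ha) h2) h.2.symm

lemma taylor_sub_eq_zero_of_natDegree_eq_zero (Q : ℚ[X]) (a : ℚ) (hQ : Q.natDegree = 0) :
    taylor a Q - Q = 0 := by
  rw [eq_C_of_natDegree_eq_zero hQ, taylor_C, sub_self]

end Groth.Agent.Lib.Helper23.HilbP
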