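import Groth.Agent.Lib.Helper23.Sat
import Groth.Agent.Lib.Helper7.TwFun
import Groth.Agent.Lib.Helper3.ModBasis

/-!
# Twisting by an invertible module (without an inverse) and `L`-twisted endomorphisms

* `wr_eq`: the Prelude-style `sheafifyMod.map (whiskerRight j.val L)` is `(twR L).map j`.
* `mono_tw`, `epi_tw`, `exact_tw`, `preservesFiniteLimits_tw`: for `L` invertible (locally trivial;
  no inverse needed) `- ⊗ L` preserves monos, epis, left exact sequences, finite limits.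
* `isFinLocFreeOfRank_tensor`: `M ⊗ L` is finite locally free of the same rank.
* `Inv L φ j`: the subobject `j : G ⟶ E` is invariant under `φ : E ⟶ E ⊗ L`;
  `inv_kernel`, `inv_coimage`, `exists_quot_field`, `inv_pullback`, `inv_comp`, `inv_saturation`,
  `sat_step`.
* `preimage_data'`, `exists_max_destab_pred`.
-/

set_option autoImplicit false
universe u
open CategoryTheory CategoryTheory.Limits AlgebraicGeometry TopologicalSpace Opposite
open Scheme.Modules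

noncomputable section

namespace Groth.Agent.Lib.Helper23.Twist

open Groth.Agent.Lib.Helper3 Groth.Agent.Lib.Helper3.QCSec Groth.Agent.Lib.Helper3.InvGen
  Groth.Agent.Lib.Helper3.InvTensor Groth.Agent.Lib.Helper3.InvMonoidal
  Groth.Agent.Lib.Helper3.FreeBasis Groth.Agent.Lib.Helper7.TwFun
open Groth.Agent.Lib.Helper23.T2 Groth.Agent.Lib.Helper23.Curve
open Groth.Agent.Lib.Helper23.VBMaps

variable {X : Scheme.{u}}

/-- the Prelude-style whiskered map is `(twR L).map j`. -/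
theorem wr_eq (L : X.Modules) {F G : X.Modules} (j : F ⟶ G) :
    (CohB1.sheafifyMod X).map (MonoidalCategoryStruct.whiskerRight (C := CohB1.PMod X) j.val
      (CohB1.toPMod L)) = (twR L).map j := by
  rw [twR_map]
  unfold tensorMap aMap
  congr 1

variable {L : X.Modules}

lemma tw_app_tm {F G : X.Modules} (j : F ⟶ G) (U : X.Opens) (t : Γ(F, U)) (l : Γ(L, U)) :
    ((twR L).map j).app U (tm F L U t l) = tm G L U (j.app U t) l :=
  tensorMap_tm j (𝟙 L) U t l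

theorem mono_tw (hL : PicF.IsInvertible L) {F G : X.Modules} (j : F ⟶ G) [Mono j] :
    Mono ((twR L).map j) := by
  apply ModBasis.mono_of_injective_on_basis
  intro W x hx
  obtain ⟨U, e, -, hxU, hUW, hg⟩ := exists_affine_isGen_le hL x W hx
  refine ⟨U, hxU, hUW, fun t ht => ?_⟩
  obtain ⟨t', ht'⟩ := tm_gen_surjective F L hg U le_rfl t
  have ht'' : tm F L U t' (res L le_rfl e) = t := ht'
  rw [← ht'', tw_app_tm] at ht
  have h2 := tm_gen_eq_zero G L hg U le_rfl _ ht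
  have h3 : t' = 0 := QCExact.injective_sections j U (h2.trans (QCExact.app_zero j U).symm)
  rw [← ht'', h3]
  exact tm_zero_left _ _ _ _

theorem epi_tw (hL : PicF.IsInvertible L) {F G : X.Modules} (p : F ⟶ G) [Epi p] :
    Epi ((twR L).map p) := by
  apply QCExact.epi_of_locally_surjective
  intro W s x hx
  obtain ⟨U, e, -, hxU, hUW, hg⟩ := exists_affine_isGen_le hL x W hx
  obtain ⟨s', hs'⟩ := tm_gen_surjective G L hg U le_rfl (res (CohB1.tensorMod G L) hUW s)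
  have hs'' : tm G L U s' (res L le_rfl e) = res (CohB1.tensorMod G L) hUW s := hs'
  obtain ⟨W', hW', hxW', t, ht⟩ := QCExact.exists_local_lift p U s' x hxU
  have ht' : p.app W' t = res G hW' s' := ht
  refine ⟨W', hW'.trans hUW, hxW', tm F L W' t (res L hW' e), ?_⟩
  rw [tw_app_tm, ht']
  show _ = res (CohB1.tensorMod G L) (hW'.trans hUW) s
  have h1 : res (CohB1.tensorMod G L) (hW'.trans hUW) s =
      res (CohB1.tensorMod G L) hW' (res (CohB1.tensorMod G L) hUW s) := (res_res _ _ _ _).symm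
  rw [h1, ← hs'', tm_res, res_res]

theorem exact_tw (hL : PicF.IsInvertible L) (S : ShortComplex X.Modules) (hS : S.Exact)
    [Mono S.f] : (S.map (twR L)).Exact := by
  apply ModBasis.exact_of_exact_on_basis
  intro W x hx
  obtain ⟨U, e, -, hxU, hUW, hg⟩ := exists_affine_isGen_le hL x W hx
  refine ⟨U, hxU, hUW, fun s hs => ?_⟩
  obtain ⟨s', hs'⟩ := tm_gen_surjective S.X₂ L hg U le_rfl s
  have hs'' : tm S.X₂ L U s' (res L le_rfl e) = s := hs'
  have hs0 : ((twR L).map S.g).app U s = 0 := hs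
  rw [← hs'', tw_app_tm] at hs0
  have h2 := tm_gen_eq_zero S.X₃ L hg U le_rfl _ hs0
  obtain ⟨t', ht'⟩ := QCExact.exact_sections S hS U s' h2
  refine ⟨tm S.X₁ L U t' (res L le_rfl e), ?_⟩
  show ((twR L).map S.f).app U _ = s
  rw [tw_app_tm, ht', ← hs'']

theorem preservesFiniteLimits_tw (hL : PicF.IsInvertible L) : PreservesFiniteLimits (twR L) := by
  rw [Functor.preservesFiniteLimits_iff_forall_exact_map_and_mono]
  intro S hS
  haveI := hS.mono_f
  exact ⟨exact_tw hL S hS.exact, mono_tw hL S.f⟩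

/-- lifting through `S.X₁ ⊗ L → S.X₂ ⊗ L` for a left exact sequence `0 → S.X₁ → S.X₂ → S.X₃`. -/
theorem exists_lift_tw (hL : PicF.IsInvertible L) (S : ShortComplex X.Modules) (hS : S.Exact)
    [Mono S.f] {T : X.Modules} (g : T ⟶ (twR L).obj S.X₂)
    (hg : g ≫ (twR L).map S.g = 0) :
    ∃ χ : T ⟶ (twR L).obj S.X₁, χ ≫ (twR L).map S.f = g := by
  have hS' := exact_tw hL S hS
  haveI : Mono (S.map (twR L)).f := mono_tw hL S.f
  exact ⟨hS'.lift g hg, hS'.lift_f g hg⟩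

theorem isFinLocFreeOfRank_tensor (hL : PicF.IsInvertible L) {M : X.Modules} {n : ℕ}
    (hM : FlatMod.IsFinLocFreeOfRank n M) :
    FlatMod.IsFinLocFreeOfRank n (CohB1.tensorMod M L) := by
  rw [isFinLocFreeOfRank_iff] at hM ⊢
  intro x
  obtain ⟨U₁, b, hx₁, hb⟩ := hM x
  obtain ⟨U, e, -, hxU, hUU₁, hg⟩ := exists_affine_isGen_le hL x U₁ hx₁
  refine ⟨U, fun i => tm M L U (res M hUU₁ (b i)) e, hxU, ?_⟩
  intro V hV
  have hbV : IsBasisAt M V (fun i => res M (hV.trans hUU₁) (b i)) := hb V (hV.trans hUU₁)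
  have hbij := tm_gen_bijective M L hg V hV
  have hfun : (fun a : Fin n → Γ(X, V) =>
        ∑ i, a i • res (CohB1.tensorMod M L) hV (tm M L U (res M hUU₁ (b i)) e)) =
      (fun t : Γ(M, V) => tm M L V t (res L hV e)) ∘
        (fun a : Fin n → Γ(X, V) => ∑ i, a i • res M (hV.trans hUU₁) (b i)) := by
    funext a
    simp only [Function.comp]
    rw [tm_sum_left]
    refine Finset.sum_congr rfl fun i _ => ?_
    rw [tm_smul_left, tm_res, res_res]
  unfold IsBasisAt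
  rw [hfun]
  exact hbij.comp hbV


theorem isFinLocFreeOfRank_tw (hL : PicF.IsInvertible L) {M : X.Modules} {n : ℕ}
    (hM : FlatMod.IsFinLocFreeOfRank n M) : FlatMod.IsFinLocFreeOfRank n ((twR L).obj M) :=
  isFinLocFreeOfRank_tensor hL hM

/-! ### invariant subobjects -/

/-- `j : G ⟶ E` is invariant under the `L`-twisted endomorphism `φ : E ⟶ E ⊗ L`. -/
def Inv (L : X.Modules) {G E : X.Modules} (φ : E ⟶ (twR L).obj E) (j : G ⟶ E) : Prop :=
  ∃ χ : G ⟶ (twR L).obj G, χ ≫ (twR L).map j = j ≫ φ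

theorem inv_iff (L : X.Modules) {G E : X.Modules} (φ : E ⟶ CohB1.tensorMod E L) (j : G ⟶ E) :
    Inv L (show E ⟶ (twR L).obj E from φ) j ↔
      ∃ χ : G ⟶ CohB1.tensorMod G L, χ ≫ (CohB1.sheafifyMod X).map
        (MonoidalCategoryStruct.whiskerRight (C := CohB1.PMod X) j.val (CohB1.toPMod L)) = j ≫ φ := by
  constructor
  · rintro ⟨χ, hχ⟩
    exact ⟨χ, (congrArg (fun m => χ ≫ m) (wr_eq L j)).trans hχ⟩
  · rintro ⟨χ, hχ⟩
    exact ⟨χ, (congrArg (fun m => χ ≫ m) (wr_eq L j)).symm.trans hχ⟩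

theorem inv_id (L : X.Modules) {E : X.Modules} (φ : E ⟶ (twR L).obj E) : Inv L φ (𝟙 E) := by
  refine ⟨φ, ?_⟩
  rw [CategoryTheory.Functor.map_id, Category.id_comp]
  exact Category.comp_id φ

theorem inv_of_exact (hL : PicF.IsInvertible L) (S : ShortComplex X.Modules) (hS : S.Exact)
    [Mono S.f] (φ : S.X₂ ⟶ (twR L).obj S.X₂) (h : S.f ≫ φ ≫ (twR L).map S.g = 0) :
    Inv L φ S.f :=
  exists_lift_tw hL S hS (S.f ≫ φ) (by rw [Category.assoc]; exact h)

theorem inv_kernel (hL : PicF.IsInvertible L) {E F : X.Modules} (φE : E ⟶ (twR L).obj E)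
    (φF : F ⟶ (twR L).obj F) (f : E ⟶ F) (hf : f ≫ φF = φE ≫ (twR L).map f) :
    Inv L φE (kernel.ι f) := by
  haveI : Mono (ShortComplex.mk (kernel.ι f) f (kernel.condition f)).f :=
    inferInstanceAs (Mono (kernel.ι f))
  refine inv_of_exact hL (ShortComplex.mk (kernel.ι f) f (kernel.condition f))
    (ShortComplex.exact_kernel f) φE ?_
  show kernel.ι f ≫ φE ≫ (twR L).map f = 0
  rw [← hf, ← Category.assoc, kernel.condition, zero_comp]

theorem inv_coimage (hL : PicF.IsInvertible L) {E F : X.Modules} (φE : E ⟶ (twR L).obj E)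
    (φF : F ⟶ (twR L).obj F) (f : E ⟶ F) (hf : f ≫ φF = φE ≫ (twR L).map f) :
    Inv L φF (Abelian.factorThruCoimage f) := by
  have hfac : Abelian.coimage.π f ≫ Abelian.factorThruCoimage f = f := Abelian.coimage.fac f
  haveI : Mono ((twR L).map (Abelian.factorThruCoimage f)) := mono_tw hL _
  have hWfac : (twR L).map (Abelian.coimage.π f) ≫ (twR L).map (Abelian.factorThruCoimage f) =
      (twR L).map f := by rw [← Functor.map_comp, hfac]
  have hk : kernel.ι f ≫ (φE ≫ (twR L).map (Abelian.coimage.π f)) = 0 := by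
    rw [← cancel_mono ((twR L).map (Abelian.factorThruCoimage f)), zero_comp, Category.assoc,
      Category.assoc, hWfac, ← hf, ← Category.assoc, kernel.condition, zero_comp]
  refine ⟨cokernel.desc (kernel.ι f) (φE ≫ (twR L).map (Abelian.coimage.π f)) hk, ?_⟩
  rw [← cancel_epi (Abelian.coimage.π f)]
  have h1 : Abelian.coimage.π f ≫
      cokernel.desc (kernel.ι f) (φE ≫ (twR L).map (Abelian.coimage.π f)) hk =
      φE ≫ (twR L).map (Abelian.coimage.π f) := cokernel.π_desc _ _ _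
  rw [← Category.assoc, h1, Category.assoc, hWfac, ← hf, ← Category.assoc, hfac]

theorem exists_quot_field (L : X.Modules) (S : ShortComplex X.Modules) (hS : S.Exact) [Epi S.g]
    (φ : S.X₂ ⟶ (twR L).obj S.X₂) (hinv : Inv L φ S.f) :
    ∃ φ' : S.X₃ ⟶ (twR L).obj S.X₃, S.g ≫ φ' = φ ≫ (twR L).map S.g := by
  obtain ⟨χ, hχ⟩ := hinv
  have hk : S.f ≫ (φ ≫ (twR L).map S.g) = 0 := by
    rw [← Category.assoc, ← hχ, Category.assoc, ← Functor.map_comp, S.zero, Functor.map_zero,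
      comp_zero]
  exact ⟨hS.desc _ hk, hS.g_desc _ hk⟩

theorem inv_pullback (hL : PicF.IsInvertible L) {E C G : X.Modules} (π : E ⟶ C) (j : G ⟶ C)
    (φ : E ⟶ (twR L).obj E) (φC : C ⟶ (twR L).obj C)
    (hπ : π ≫ φC = φ ≫ (twR L).map π) (hj : Inv L φC j) : Inv L φ (pullback.fst π j) := by
  obtain ⟨χ, hχ⟩ := hj
  haveI := preservesFiniteLimits_tw hL
  have hpb : IsPullback (pullback.fst π j) (pullback.snd π j) π j := IsPullback.of_hasPullback π j
  have hpb' := hpb.map (twR L)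
  have hcomm : (pullback.fst π j ≫ φ) ≫ (twR L).map π =
      (pullback.snd π j ≫ χ) ≫ (twR L).map j := by
    rw [Category.assoc, ← hπ, ← Category.assoc, pullback.condition, Category.assoc,
      Category.assoc, hχ]
  exact ⟨hpb'.lift _ _ hcomm, hpb'.lift_fst _ _ hcomm⟩

theorem inv_comp (L : X.Modules) {K G E : X.Modules} (φ : E ⟶ (twR L).obj E) (j : G ⟶ E)
    (χ : G ⟶ (twR L).obj G) (hχ : χ ≫ (twR L).map j = j ≫ φ) (k : K ⟶ G)
    (hk : Inv L χ k) : Inv L φ (k ≫ j) := by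
  obtain ⟨χK, hχK⟩ := hk
  refine ⟨χK, ?_⟩
  rw [Functor.map_comp, ← Category.assoc, hχK, Category.assoc, hχ, Category.assoc]

section Proper
variable (k : Type u) [Field k] [X.Over (Spec (CommRingCat.of k))]
  [IsProper (X ↘ Spec (CommRingCat.of k))]

include k in
/-- a subsheaf `G'` of `E` with locally free quotient, containing an invariant subsheaf of the
same rank, is invariant. -/
theorem inv_saturation (hL : PicF.IsInvertible L) [IsIntegral X]
    [Smooth (X ↘ Spec (CommRingCat.of k))] (hdim : topologicalKrullDim X ≤ 1)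
    {F G' E C' : X.Modules} {r' c : ℕ} (hF : FlatMod.IsFinLocFreeOfRank r' F)
    (hG' : FlatMod.IsFinLocFreeOfRank r' G') (hC' : FlatMod.IsFinLocFreeOfRank c C')
    (i' : G' ⟶ E) (p : E ⟶ C') (w : i' ≫ p = 0) (hS : (ShortComplex.mk i' p w).ShortExact)
    (u : F ⟶ G') [Mono u] (φ : E ⟶ (twR L).obj E) (hinv : Inv L φ (u ≫ i')) :
    Inv L φ i' := by
  haveI : Nonempty X := inferInstance
  have hg : i' ≫ φ ≫ (twR L).map p = 0 := by
    obtain ⟨χ, hχ⟩ := hinv
    have hug : u ≫ (i' ≫ φ ≫ (twR L).map p) = 0 := by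
      have h1 : u ≫ (i' ≫ φ ≫ (twR L).map p) = ((u ≫ i') ≫ φ) ≫ (twR L).map p := by
        simp only [Category.assoc]
      rw [h1, ← hχ, Category.assoc, ← Functor.map_comp, Category.assoc, w, comp_zero,
        Functor.map_zero, comp_zero]
    obtain ⟨a, b, hK, hI, hab, -, hb0, -, -, -⟩ := map_analysis k hdim hG'
      (isFinLocFreeOfRank_tw hL hC') (i' ≫ φ ≫ (twR L).map p)
    haveI : Mono (kernel.lift (i' ≫ φ ≫ (twR L).map p) u hug) :=
      mono_of_mono_fac (kernel.lift_ι _ _ hug)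
    have h1 : r' ≤ a := rank_le_of_mono hF hK (kernel.lift (i' ≫ φ ≫ (twR L).map p) u hug)
    exact hb0 (by omega)
  haveI : Mono (ShortComplex.mk i' p w).f := hS.mono_f
  exact inv_of_exact hL (ShortComplex.mk i' p w) hS.exact φ hg

include k in
/-- saturation of an invariant subsheaf is invariant. -/
theorem sat_step (hL : PicF.IsInvertible L) [IsIntegral X]
    [Smooth (X ↘ Spec (CommRingCat.of k))] (hdim : topologicalKrullDim X ≤ 1)
    {G E : X.Modules} {r' r : ℕ} (hG : FlatMod.IsFinLocFreeOfRank r' G)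
    (hE : FlatMod.IsFinLocFreeOfRank r E) (i : G ⟶ E) [Mono i]
    (φ : E ⟶ (twR L).obj E) (hinv : Inv L φ i) :
    ∃ (G' C' : X.Modules) (i' : G' ⟶ E) (p : E ⟶ C') (w : i' ≫ p = 0) (u : G ⟶ G') (c : ℕ),
      (ShortComplex.mk i' p w).ShortExact ∧ u ≫ i' = i ∧ FlatMod.IsFinLocFreeOfRank r' G' ∧
      FlatMod.IsFinLocFreeOfRank c C' ∧ r = r' + c ∧
      Curv2.deg k X G r' ≤ Curv2.deg k X G' r' ∧
      Curv2.deg k X E r = Curv2.deg k X G' r' + Curv2.deg k X C' c ∧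
      (Curv2.deg k X G r' = Curv2.deg k X G' r' → IsIso u) ∧ Inv L φ i' := by
  obtain ⟨G', C', i', p, w, u, c, hS, hu, hG', hC', hrc, hdle, hdE, hiso⟩ :=
    Sat.exists_saturation k hdim hG hE i
  haveI : Mono u := mono_of_mono_fac hu
  refine ⟨G', C', i', p, w, u, c, hS, hu, hG', hC', hrc, hdle, hdE, hiso, ?_⟩
  exact inv_saturation k hL hdim hG hG' hC' i' p w hS u φ (by rw [hu]; exact hinv)

include k in
theorem exists_max_destab_pred [IsIntegral X] (hdim : topologicalKrullDim X ≤ 1) {E : X.Modules}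
    {r : ℕ} (hr : 0 < r) (hE : FlatMod.IsFinLocFreeOfRank r E)
    (Q : ∀ (G : X.Modules), (G ⟶ E) → Prop) (hQE : Q E (𝟙 E)) :
    ∃ (E₁ : X.Modules) (r₁ : ℕ) (i₁ : E₁ ⟶ E), Mono i₁ ∧ 0 < r₁ ∧
      FlatMod.IsFinLocFreeOfRank r₁ E₁ ∧ Q E₁ i₁ ∧
      (∀ (G : X.Modules) (r' : ℕ) (j : G ⟶ E), Mono j → 0 < r' →
        FlatMod.IsFinLocFreeOfRank r' G → Q G j →
        Curv2.deg k X G r' * (r₁ : ℤ) ≤ Curv2.deg k X E₁ r₁ * (r' : ℤ)) ∧
      (∀ (G : X.Modules) (r' : ℕ) (j : G ⟶ E), Mono j → 0 < r' →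
        FlatMod.IsFinLocFreeOfRank r' G → Q G j →
        Curv2.deg k X G r' * (r₁ : ℤ) = Curv2.deg k X E₁ r₁ * (r' : ℤ) → r' ≤ r₁) := by
  classical
  haveI : Nonempty X := inferInstance
  have hcE := isCoh_of_isFinLocFreeOfRank hE
  -- the cofactor `r! / r'`
  have hc : ∀ r' : ℕ, 0 < r' → r' ≤ r → (((r.factorial / r' : ℕ) : ℤ) * (r' : ℤ) = (r.factorial : ℤ)) := by
    intro r' h0 hle
    have := Nat.div_mul_cancel (Nat.dvd_factorial h0 hle)
    exact_mod_cast this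
  let P : ℤ → Prop := fun z => ∃ (G : X.Modules) (r' : ℕ) (j : G ⟶ E), Mono j ∧ 0 < r' ∧
    FlatMod.IsFinLocFreeOfRank r' G ∧ Q G j ∧
    z = (Curv2.deg k X G r' * ((r.factorial / r' : ℕ) : ℤ)) * ((r : ℤ) + 1) + (r' : ℤ)
  set h0 : ℤ := (Module.finrank k (Coh.HH X E 0) : ℤ) with hh0
  set g1 : ℤ := |(Curv2.genus k X : ℤ) - 1| with hg1
  have hg1nn : 0 ≤ g1 := abs_nonneg _
  have hh0nn : 0 ≤ h0 := Int.natCast_nonneg _
  have hbdd : ∃ b : ℤ, ∀ z, P z → z ≤ b := by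
    refine ⟨(h0 + (r : ℤ) * g1) * (r.factorial : ℤ) * ((r : ℤ) + 1) + (r : ℤ), ?_⟩
    rintro z ⟨G, r', j, hj, hr', hG, -, rfl⟩
    haveI := hj
    have hle : r' ≤ r := rank_le_of_mono hG hE j
    have hd := deg_sub_le k hdim hcE hG j
    have hleZ : (r' : ℤ) ≤ (r : ℤ) := by exact_mod_cast hle
    have hr'Z : (0 : ℤ) ≤ (r' : ℤ) := Int.natCast_nonneg _
    have h1 : Curv2.deg k X G r' ≤ h0 + (r : ℤ) * g1 := by
      have : (r' : ℤ) * ((Curv2.genus k X : ℤ) - 1) ≤ (r : ℤ) * g1 := by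
        calc (r' : ℤ) * ((Curv2.genus k X : ℤ) - 1) ≤ (r' : ℤ) * g1 :=
              mul_le_mul_of_nonneg_left (le_abs_self _) hr'Z
          _ ≤ (r : ℤ) * g1 := mul_le_mul_of_nonneg_right hleZ hg1nn
      linarith
    have hcnn : (0 : ℤ) ≤ ((r.factorial / r' : ℕ) : ℤ) := Int.natCast_nonneg _
    have hcle : ((r.factorial / r' : ℕ) : ℤ) ≤ (r.factorial : ℤ) := by
      exact_mod_cast Nat.div_le_self _ _
    have hBnn : 0 ≤ h0 + (r : ℤ) * g1 := by positivity
    have h2 : Curv2.deg k X G r' * ((r.factorial / r' : ℕ) : ℤ) ≤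
        (h0 + (r : ℤ) * g1) * (r.factorial : ℤ) :=
      calc Curv2.deg k X G r' * ((r.factorial / r' : ℕ) : ℤ)
          ≤ (h0 + (r : ℤ) * g1) * ((r.factorial / r' : ℕ) : ℤ) :=
            mul_le_mul_of_nonneg_right h1 hcnn
        _ ≤ (h0 + (r : ℤ) * g1) * (r.factorial : ℤ) := mul_le_mul_of_nonneg_left hcle hBnn
    have hr1 : (0 : ℤ) ≤ (r : ℤ) + 1 := by positivity
    have h3 := mul_le_mul_of_nonneg_right h2 hr1
    linarith
  have hinh : ∃ z, P z := ⟨_, E, r, 𝟙 E, inferInstance, hr, hE, hQE, rfl⟩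
  obtain ⟨z₀, ⟨E₁, r₁, i₁, hi₁, hr₁, hE₁, hQ₁, hz₀⟩, hmax⟩ := Int.exists_greatest_of_bdd hbdd hinh
  haveI := hi₁
  have hr₁le : r₁ ≤ r := rank_le_of_mono hE₁ hE i₁
  -- comparison
  have key : ∀ (G : X.Modules) (r' : ℕ) (j : G ⟶ E), Mono j → 0 < r' →
      FlatMod.IsFinLocFreeOfRank r' G → Q G j →
      Curv2.deg k X G r' * ((r.factorial / r' : ℕ) : ℤ) ≤
        Curv2.deg k X E₁ r₁ * ((r.factorial / r₁ : ℕ) : ℤ) ∧
      (Curv2.deg k X G r' * ((r.factorial / r' : ℕ) : ℤ) =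
        Curv2.deg k X E₁ r₁ * ((r.factorial / r₁ : ℕ) : ℤ) → r' ≤ r₁) := by
    intro G r' j hj hr' hG hQ
    haveI := hj
    have hle : r' ≤ r := rank_le_of_mono hG hE j
    have hz := hmax _ ⟨G, r', j, hj, hr', hG, hQ, rfl⟩
    rw [hz₀] at hz
    have hleZ : (r' : ℤ) ≤ (r : ℤ) := by exact_mod_cast hle
    have hr'Z : (1 : ℤ) ≤ (r' : ℤ) := by exact_mod_cast hr'
    have hr₁Z : (1 : ℤ) ≤ (r₁ : ℤ) := by exact_mod_cast hr₁
    have hr₁leZ : (r₁ : ℤ) ≤ (r : ℤ) := by exact_mod_cast hr₁le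
    set n := Curv2.deg k X G r' * ((r.factorial / r' : ℕ) : ℤ)
    set n₁ := Curv2.deg k X E₁ r₁ * ((r.factorial / r₁ : ℕ) : ℤ)
    constructor
    · by_contra hcon
      push_neg at hcon
      have : n₁ + 1 ≤ n := hcon
      have hr1 : (0 : ℤ) ≤ (r : ℤ) + 1 := by positivity
      have := mul_le_mul_of_nonneg_right this hr1
      nlinarith
    · intro heq
      rw [heq] at hz
      have : (r' : ℤ) ≤ (r₁ : ℤ) := by linarith
      exact_mod_cast this
  have hfpos : (0 : ℤ) < (r.factorial : ℤ) := by exact_mod_cast Nat.factorial_pos r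
  refine ⟨E₁, r₁, i₁, hi₁, hr₁, hE₁, hQ₁, ?_, ?_⟩
  · intro G r' j hj hr' hG hQ
    haveI := hj
    have hle : r' ≤ r := rank_le_of_mono hG hE j
    have h1 := (key G r' j hj hr' hG hQ).1
    have hc1 := hc r' hr' hle
    have hc2 := hc r₁ hr₁ hr₁le
    have hr'Z : (0 : ℤ) < (r' : ℤ) := by exact_mod_cast hr'
    have hr₁Z : (0 : ℤ) < (r₁ : ℤ) := by exact_mod_cast hr₁
    have h2 : (Curv2.deg k X G r' * (r₁ : ℤ)) * (r.factorial : ℤ) ≤
        (Curv2.deg k X E₁ r₁ * (r' : ℤ)) * (r.factorial : ℤ) := by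
      have := mul_le_mul_of_nonneg_right h1 (mul_nonneg hr'Z.le hr₁Z.le)
      calc (Curv2.deg k X G r' * (r₁ : ℤ)) * (r.factorial : ℤ)
          = Curv2.deg k X G r' * (r₁ : ℤ) * (((r.factorial / r' : ℕ) : ℤ) * (r' : ℤ)) := by
            rw [hc1]
        _ = Curv2.deg k X G r' * ((r.factorial / r' : ℕ) : ℤ) * ((r' : ℤ) * (r₁ : ℤ)) := by ring
        _ ≤ Curv2.deg k X E₁ r₁ * ((r.factorial / r₁ : ℕ) : ℤ) * ((r' : ℤ) * (r₁ : ℤ)) := this
        _ = Curv2.deg k X E₁ r₁ * (r' : ℤ) * (((r.factorial / r₁ : ℕ) : ℤ) * (r₁ : ℤ)) := by ring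
        _ = (Curv2.deg k X E₁ r₁ * (r' : ℤ)) * (r.factorial : ℤ) := by rw [hc2]
    exact le_of_mul_le_mul_right h2 hfpos
  · intro G r' j hj hr' hG hQ heq
    haveI := hj
    have hle : r' ≤ r := rank_le_of_mono hG hE j
    apply (key G r' j hj hr' hG hQ).2
    have hc1 := hc r' hr' hle
    have hc2 := hc r₁ hr₁ hr₁le
    have hr'Z : (0 : ℤ) < (r' : ℤ) := by exact_mod_cast hr'
    have hr₁Z : (0 : ℤ) < (r₁ : ℤ) := by exact_mod_cast hr₁
    have hpos : (0 : ℤ) < (r' : ℤ) * (r₁ : ℤ) := mul_pos hr'Z hr₁Z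
    have h2 : Curv2.deg k X G r' * ((r.factorial / r' : ℕ) : ℤ) * ((r' : ℤ) * (r₁ : ℤ)) =
        Curv2.deg k X E₁ r₁ * ((r.factorial / r₁ : ℕ) : ℤ) * ((r' : ℤ) * (r₁ : ℤ)) := by
      calc Curv2.deg k X G r' * ((r.factorial / r' : ℕ) : ℤ) * ((r' : ℤ) * (r₁ : ℤ))
          = Curv2.deg k X G r' * (r₁ : ℤ) * (((r.factorial / r' : ℕ) : ℤ) * (r' : ℤ)) := by ring
        _ = Curv2.deg k X E₁ r₁ * (r' : ℤ) * (r.factorial : ℤ) := by rw [hc1, heq]
        _ = Curv2.deg k X E₁ r₁ * (r' : ℤ) * (((r.factorial / r₁ : ℕ) : ℤ) * (r₁ : ℤ)) := by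
            rw [hc2]
        _ = _ := by ring
    exact mul_right_cancel₀ hpos.ne' h2

include k in
theorem preimage_data' [IsIntegral X] [Smooth (X ↘ Spec (CommRingCat.of k))]
    (hdim : topologicalKrullDim X ≤ 1) (T : ShortComplex X.Modules) (hT : T.ShortExact)
    {r₁ r s : ℕ} (h₁ : FlatMod.IsFinLocFreeOfRank r₁ T.X₁)
    (h₂ : FlatMod.IsFinLocFreeOfRank r T.X₂) (hB : Coh.IsCoh T.X₃) {Q : X.Modules}
    (hQ : FlatMod.IsFinLocFreeOfRank s Q) (j : Q ⟶ T.X₃) [Mono j] :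
    Mono (pullback.fst T.g j) ∧ FlatMod.IsFinLocFreeOfRank (r₁ + s) (pullback T.g j) ∧
      Curv2.deg k X (pullback T.g j) (r₁ + s) = Curv2.deg k X T.X₁ r₁ + Curv2.deg k X Q s := by
  haveI := isNoetherian_of_isProper k X
  haveI : Nonempty X := inferInstance
  haveI := hT.mono_f
  haveI := hT.epi_g
  -- coherence of the pullback
  have hcE := isCoh_of_isFinLocFreeOfRank h₂
  have hcQ := isCoh_of_isFinLocFreeOfRank hQ
  haveI : T.X₂.IsQuasicoherent := hcE.1
  haveI : T.X₂.IsFiniteType := hcE.2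
  haveI : Q.IsQuasicoherent := hcQ.1
  haveI : Q.IsFiniteType := hcQ.2
  have hcEQ : Coh.IsCoh (T.X₂ ⊞ Q : X.Modules) :=
    ⟨Groth.Agent.Lib.Helper3.QCLim.isQuasicoherent_biprod _ _,
      Groth.Agent.Lib.Helper13.FTApprox.isFiniteType_biprod _ _⟩
  have hcK : Coh.IsCoh (kernel (biprod.desc T.g (-j))) :=
    (Groth.Agent.S9514.result X hcEQ hB (biprod.desc T.g (-j))).1
  let e : pullback T.g j ≅ kernel (biprod.desc T.g (-j)) :=
    (Abelian.PullbackToBiproductIsKernel.isLimitPullbackToBiproduct T.g j).conePointUniqueUpToIso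
      (limit.isLimit _)
  have hcP : Coh.IsCoh (pullback T.g j) := by
    obtain ⟨hq, hf⟩ := hcK
    haveI : SheafOfModules.IsFiniteType (R := X.ringCatSheaf)
      (kernel (biprod.desc T.g (-j))) := hf
    exact ⟨(SheafOfModules.isQuasicoherent X.ringCatSheaf).prop_of_iso e.symm hq,
      Groth.Agent.Lib.Helper3.QCProps.isFiniteType_of_iso e.symm⟩
  -- the short exact sequence `0 → A → P → Q → 0`
  let f' : T.X₁ ⟶ pullback T.g j := pullback.lift T.f 0 (by rw [T.zero, zero_comp])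
  have hf'1 : f' ≫ pullback.fst T.g j = T.f := pullback.lift_fst _ _ _
  have hf'2 : f' ≫ pullback.snd T.g j = 0 := pullback.lift_snd _ _ _
  let S : ShortComplex X.Modules := ShortComplex.mk f' (pullback.snd T.g j) hf'2
  have hmf' : Mono f' := mono_of_mono_fac hf'1
  have : Mono S.f := hmf'
  have : Epi S.g := Abelian.epi_pullback_of_epi_f T.g j
  have hSex : S.Exact := by
    apply ShortComplex.exact_of_f_is_kernel
    refine KernelFork.IsLimit.ofι _ _
      (fun {W} k' hk' => hT.exact.lift (k' ≫ pullback.fst T.g j) ?_) ?_ ?_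
    · have h0 : k' ≫ pullback.snd T.g j = 0 := hk'
      rw [Category.assoc, pullback.condition, ← Category.assoc, h0, zero_comp]
    · intro W k' hk'
      have h0 : k' ≫ pullback.snd T.g j = 0 := hk'
      apply pullback.hom_ext
      · show (_ ≫ f') ≫ _ = _
        rw [Category.assoc, hf'1, ShortComplex.Exact.lift_f]
      · show (_ ≫ f') ≫ _ = _
        rw [Category.assoc, hf'2, comp_zero, h0]
    · intro W k' hk' m hm
      have hm' : m ≫ f' = k' := hm
      rw [← cancel_mono T.f, ShortComplex.Exact.lift_f, ← hm', Category.assoc, hf'1]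
  have hS : S.ShortExact := ShortComplex.ShortExact.mk hSex
  obtain ⟨p, hp⟩ := Groth.Agent.Lib.Helper23.SmoothCurve.isFinLocFreeOfRank_of_mono_of_smooth k
    hdim hcP (pullback.fst T.g j) h₂
  have hrk : p = r₁ + s := rank_additive S hS h₁ hp hQ
  subst hrk
  exact ⟨inferInstance, hp, deg_additive k X S hS r₁ (r₁ + s) s h₁ hp hQ⟩


include k in
/-- If every subsheaf invariant under both `φ` and a commuting endomorphism `ψ` has slope at most
that of `E`, then so has every `φ`-invariant subsheaf: the maximal destabilising `φ`-invariant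
subsheaf is `ψ`-invariant. -/
theorem semistable_of_commuting_endo (hL : PicF.IsInvertible L) [IsIntegral X]
    [Smooth (X ↘ Spec (CommRingCat.of k))] (hdim : topologicalKrullDim X ≤ 1)
    {E : X.Modules} {r : ℕ} (hr : 0 < r) (hE : FlatMod.IsFinLocFreeOfRank r E)
    (φ : E ⟶ (twR L).obj E) (ψ : E ⟶ E) (hcomm : ψ ≫ φ = φ ≫ (twR L).map ψ)
    (h : ∀ (G : X.Modules) (n : ℕ) (j : G ⟶ E) (ψ' : G ⟶ G), Mono j → 0 < n →
      FlatMod.IsFinLocFreeOfRank n G → Inv L φ j → ψ' ≫ j = j ≫ ψ →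
      Curv2.deg k X G n * (r : ℤ) ≤ Curv2.deg k X E r * (n : ℤ)) :
    ∀ (G : X.Modules) (n : ℕ) (j : G ⟶ E), Mono j → 0 < n →
      FlatMod.IsFinLocFreeOfRank n G → Inv L φ j →
      Curv2.deg k X G n * (r : ℤ) ≤ Curv2.deg k X E r * (n : ℤ) := by
  intro G n j hj hn hG hGinv
  obtain ⟨E₁, r₁, i₁, hi₁, hr₁, hE₁, hQ₁, hmax, hmaxrk⟩ :=
    exists_max_destab_pred k hdim hr hE (fun G j => Inv L φ j) (inv_id L φ)
  haveI := hi₁
  obtain ⟨G', C', i', p, w, u, c, hS, hu, hG', hC', hrc, hdle, hdE, hiso, hinv'⟩ :=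
    sat_step k hL hdim hE₁ hE i₁ φ hQ₁
  haveI : Mono i' := hS.mono_f
  haveI : Epi p := hS.epi_g
  have hr₁Z : (0 : ℤ) < (r₁ : ℤ) := by exact_mod_cast hr₁
  have hd : Curv2.deg k X E₁ r₁ = Curv2.deg k X G' r₁ := by
    have h1 := hmax G' r₁ i' inferInstance hr₁ hG' hinv'
    exact le_antisymm hdle (le_of_mul_le_mul_right h1 hr₁Z)
  haveI : Epi (ShortComplex.mk i' p w).g := hS.epi_g
  obtain ⟨φC, hφC⟩ := exists_quot_field L (ShortComplex.mk i' p w) hS.exact φ hinv'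
  have hφC' : p ≫ φC = φ ≫ (twR L).map p := hφC
  obtain ⟨χ', hχ'⟩ := hinv'
  have hρ : (i' ≫ ψ ≫ p) ≫ φC = χ' ≫ (twR L).map (i' ≫ ψ ≫ p) :=
    calc (i' ≫ ψ ≫ p) ≫ φC = i' ≫ ψ ≫ (p ≫ φC) := by simp only [Category.assoc]
      _ = i' ≫ ψ ≫ (φ ≫ (twR L).map p) := by rw [hφC']
      _ = i' ≫ (ψ ≫ φ) ≫ (twR L).map p := by simp only [Category.assoc]
      _ = i' ≫ (φ ≫ (twR L).map ψ) ≫ (twR L).map p := by rw [hcomm]
      _ = (i' ≫ φ) ≫ (twR L).map ψ ≫ (twR L).map p := by simp only [Category.assoc]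
      _ = (χ' ≫ (twR L).map i') ≫ (twR L).map ψ ≫ (twR L).map p := by rw [hχ']
      _ = χ' ≫ (twR L).map (i' ≫ ψ ≫ p) := by
          simp only [CategoryTheory.Functor.map_comp, Category.assoc]
  have hρ0 : i' ≫ ψ ≫ p = 0 := by
    by_contra hne
    obtain ⟨a, b, hK, hI, hab, hdeg, hb0, ha0, -, hbc⟩ :=
      map_analysis k hdim hG' hC' (i' ≫ ψ ≫ p)
    have hbpos : 0 < b := Nat.pos_of_ne_zero (fun hb => hne (hb0 hb))
    have hIinv : Inv L φC (Abelian.factorThruCoimage (i' ≫ ψ ≫ p)) :=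
      inv_coimage hL χ' φC _ hρ
    obtain ⟨hmono, hP, hdP⟩ := preimage_data' k hdim (ShortComplex.mk i' p w) hS hG' hE
      (isCoh_of_isFinLocFreeOfRank hC') hI (Abelian.factorThruCoimage (i' ≫ ψ ≫ p))
    have hPinv : Inv L φ (pullback.fst p (Abelian.factorThruCoimage (i' ≫ ψ ≫ p))) :=
      inv_pullback hL p _ φ φC hφC' hIinv
    have h2 := hmax _ (r₁ + b) _ hmono (by omega) hP hPinv
    have h2eq := hmaxrk _ (r₁ + b) _ hmono (by omega) hP hPinv
    have hr1ab : (r₁ : ℤ) = (a : ℤ) + (b : ℤ) := by exact_mod_cast hab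
    have hIge : Curv2.deg k X G' r₁ * (b : ℤ) ≤
        Curv2.deg k X (Abelian.coimage (i' ≫ ψ ≫ p)) b * (r₁ : ℤ) := by
      rcases Nat.eq_zero_or_pos a with ha | ha
      · obtain ⟨-, hdK⟩ := ha0 ha
        have hdI : Curv2.deg k X G' r₁ = Curv2.deg k X (Abelian.coimage (i' ≫ ψ ≫ p)) b := by
          rw [hdeg, hdK, zero_add]
        have hr₁b : (r₁ : ℤ) = (b : ℤ) := by rw [hr1ab, ha]; simp
        rw [hdI, hr₁b]
      · have hKinv : Inv L φ (kernel.ι (i' ≫ ψ ≫ p) ≫ i') :=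
          inv_comp L φ i' χ' hχ' (kernel.ι (i' ≫ ψ ≫ p)) (inv_kernel hL χ' φC _ hρ)
        have h3 := hmax (kernel (i' ≫ ψ ≫ p)) a (kernel.ι (i' ≫ ψ ≫ p) ≫ i') (mono_comp _ _)
          ha hK hKinv
        rw [hd] at h3
        have key : Curv2.deg k X (Abelian.coimage (i' ≫ ψ ≫ p)) b * (r₁ : ℤ) -
            Curv2.deg k X G' r₁ * (b : ℤ) =
            Curv2.deg k X G' r₁ * (a : ℤ) - Curv2.deg k X (kernel (i' ≫ ψ ≫ p)) a * (r₁ : ℤ) := by
          have h4 : Curv2.deg k X (Abelian.coimage (i' ≫ ψ ≫ p)) b =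
              Curv2.deg k X G' r₁ - Curv2.deg k X (kernel (i' ≫ ψ ≫ p)) a := by linarith
          rw [h4, hr1ab]; ring
        linarith
    rw [hdP] at h2 h2eq
    rw [hd] at h2 h2eq
    have h4 : Curv2.deg k X G' r₁ * ((r₁ + b : ℕ) : ℤ) ≤
        (Curv2.deg k X G' r₁ + Curv2.deg k X (Abelian.coimage (i' ≫ ψ ≫ p)) b) * (r₁ : ℤ) := by
      push_cast
      linarith
    have h5 := h2eq (le_antisymm h2 h4)
    omega
  have hlift : ∃ ψ'' : G' ⟶ G', ψ'' ≫ i' = i' ≫ ψ := by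
    haveI : Mono (ShortComplex.mk i' p w).f := hS.mono_f
    have h0 : (i' ≫ ψ) ≫ (ShortComplex.mk i' p w).g = 0 := by
      show (i' ≫ ψ) ≫ p = 0
      rw [Category.assoc]; exact hρ0
    exact ⟨hS.exact.lift (i' ≫ ψ) h0, hS.exact.lift_f _ h0⟩
  obtain ⟨ψ'', hψ''⟩ := hlift
  have h5 := h G' r₁ i' ψ'' inferInstance hr₁ hG' ⟨χ', hχ'⟩ hψ''
  have h6 := hmax G n j hj hn hG hGinv
  rw [hd] at h6
  have hnnn : (0 : ℤ) ≤ (n : ℤ) := Int.natCast_nonneg _
  have hrnn : (0 : ℤ) ≤ (r : ℤ) := Int.natCast_nonneg _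
  have h7 : (Curv2.deg k X G n * (r : ℤ)) * (r₁ : ℤ) ≤ (Curv2.deg k X E r * (n : ℤ)) * (r₁ : ℤ) :=
    calc (Curv2.deg k X G n * (r : ℤ)) * (r₁ : ℤ)
        = (Curv2.deg k X G n * (r₁ : ℤ)) * (r : ℤ) := by ring
      _ ≤ (Curv2.deg k X G' r₁ * (n : ℤ)) * (r : ℤ) := mul_le_mul_of_nonneg_right h6 hrnn
      _ = (Curv2.deg k X G' r₁ * (r : ℤ)) * (n : ℤ) := by ring
      _ ≤ (Curv2.deg k X E r * (r₁ : ℤ)) * (n : ℤ) := mul_le_mul_of_nonneg_right h5 hnnn
      _ = (Curv2.deg k X E r * (n : ℤ)) * (r₁ : ℤ) := by ring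
  exact le_of_mul_le_mul_right h7 hr₁Z

include k in
/-- an invariant subsheaf of the same slope of a semistable twisted pair is semistable. -/
theorem sub_semistable_of_slope_eq {E : X.Modules} {r : ℕ} (hr : 0 < r)
    (φ : E ⟶ (twR L).obj E)
    (hss : ∀ (G : X.Modules) (s : ℕ) (j : G ⟶ E), Mono j → 0 < s →
      FlatMod.IsFinLocFreeOfRank s G → Inv L φ j →
      Curv2.deg k X G s * (r : ℤ) ≤ Curv2.deg k X E r * (s : ℤ))
    {F : X.Modules} {r' : ℕ} (i : F ⟶ E) [Mono i] (ψ : F ⟶ (twR L).obj F)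
    (hψ : ψ ≫ (twR L).map i = i ≫ φ)
    (hslope : Curv2.deg k X F r' * (r : ℤ) = Curv2.deg k X E r * (r' : ℤ)) :
    ∀ (G : X.Modules) (s : ℕ) (j : G ⟶ F), Mono j → 0 < s →
      FlatMod.IsFinLocFreeOfRank s G → Inv L ψ j →
      Curv2.deg k X G s * (r' : ℤ) ≤ Curv2.deg k X F r' * (s : ℤ) := by
  intro G s j hj hs hG hinv
  haveI := hj
  have h := hss G s (j ≫ i) (mono_comp _ _) hs hG (inv_comp L φ i ψ hψ j hinv)
  have hrZ : (0 : ℤ) < (r : ℤ) := by exact_mod_cast hr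
  have hr'nn : (0 : ℤ) ≤ (r' : ℤ) := Int.natCast_nonneg _
  have h7 : (Curv2.deg k X G s * (r' : ℤ)) * (r : ℤ) ≤ (Curv2.deg k X F r' * (s : ℤ)) * (r : ℤ) :=
    calc (Curv2.deg k X G s * (r' : ℤ)) * (r : ℤ)
        = (Curv2.deg k X G s * (r : ℤ)) * (r' : ℤ) := by ring
      _ ≤ (Curv2.deg k X E r * (s : ℤ)) * (r' : ℤ) := mul_le_mul_of_nonneg_right h hr'nn
      _ = (Curv2.deg k X E r * (r' : ℤ)) * (s : ℤ) := by ring
      _ = (Curv2.deg k X F r' * (r : ℤ)) * (s : ℤ) := by rw [hslope]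
      _ = (Curv2.deg k X F r' * (s : ℤ)) * (r : ℤ) := by ring
  exact le_of_mul_le_mul_right h7 hrZ

include k in
/-- the quotient of a semistable twisted pair by an invariant subsheaf of the same slope (rank
`0` allowed) is finite locally free and semistable for every induced field. -/
theorem higgs_quotient (hL : PicF.IsInvertible L) [IsIntegral X]
    [Smooth (X ↘ Spec (CommRingCat.of k))] (hdim : topologicalKrullDim X ≤ 1)
    {E : X.Modules} {r : ℕ} (hr : 0 < r) (hE : FlatMod.IsFinLocFreeOfRank r E)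
    (φ : E ⟶ (twR L).obj E)
    (hss : ∀ (G : X.Modules) (s : ℕ) (j : G ⟶ E), Mono j → 0 < s →
      FlatMod.IsFinLocFreeOfRank s G → Inv L φ j →
      Curv2.deg k X G s * (r : ℤ) ≤ Curv2.deg k X E r * (s : ℤ))
    {F : X.Modules} {r' : ℕ} (hF : FlatMod.IsFinLocFreeOfRank r' F) (i : F ⟶ E) [Mono i]
    (hFinv : Inv L φ i)
    (hslope : Curv2.deg k X F r' * (r : ℤ) = Curv2.deg k X E r * (r' : ℤ)) :
    FlatMod.IsFinLocFreeOfRank (r - r') (cokernel i) ∧
    Curv2.deg k X E r = Curv2.deg k X F r' + Curv2.deg k X (cokernel i) (r - r') ∧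
    ∀ (φ' : cokernel i ⟶ (twR L).obj (cokernel i)),
      cokernel.π i ≫ φ' = φ ≫ (twR L).map (cokernel.π i) →
      ∀ (G : X.Modules) (s : ℕ) (j : G ⟶ cokernel i), Mono j → 0 < s →
        FlatMod.IsFinLocFreeOfRank s G → Inv L φ' j →
        Curv2.deg k X G s * ((r - r' : ℕ) : ℤ) ≤
          Curv2.deg k X (cokernel i) (r - r') * (s : ℤ) := by
  obtain ⟨G', C', i', p, w, u, c, hS, hu, hG', hC', hrc, hdle, hdE, hiso, hinv'⟩ :=
    sat_step k hL hdim hF hE i φ hFinv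
  haveI : Mono i' := hS.mono_f
  have hrZ : (0 : ℤ) < (r : ℤ) := by exact_mod_cast hr
  have hdeq : Curv2.deg k X F r' = Curv2.deg k X G' r' := by
    rcases Nat.eq_zero_or_pos r' with h0 | hr'
    · subst h0
      rw [deg_zero_of_isZero k (StableEnd.isZero_of_rank_zero hF),
        deg_zero_of_isZero k (StableEnd.isZero_of_rank_zero hG')]
    · have h1 := hss G' r' i' inferInstance hr' hG' hinv'
      have h2 : Curv2.deg k X G' r' * (r : ℤ) ≤ Curv2.deg k X F r' * (r : ℤ) := by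
        rw [hslope]; exact h1
      exact le_antisymm hdle (le_of_mul_le_mul_right h2 hrZ)
  haveI : IsIso u := hiso hdeq
  obtain ⟨e, he⟩ := Sat.exists_cokernel_iso_of_epi_fac i i' p w hS u hu
  have hcr : r - r' = c := by omega
  have hC : FlatMod.IsFinLocFreeOfRank c (cokernel i) := Sat.isFinLocFreeOfRank_of_iso e.symm hC'
  have hdC : Curv2.deg k X (cokernel i) c = Curv2.deg k X C' c := Sat.deg_eq_of_iso k hdim e hC
  have e1 : Curv2.deg k X E r = Curv2.deg k X F r' + Curv2.deg k X (cokernel i) c := by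
    rw [hdE, hdeq, hdC]
  rw [hcr]
  refine ⟨hC, e1, ?_⟩
  intro φ' hφ' G s j hj hs hG hGinv
  haveI := hj
  have hT : (cokerSC i).ShortExact := cokerSC_shortExact i
  obtain ⟨hmono, hP, hdP⟩ := preimage_data' k hdim (cokerSC i) hT hF hE
    (isCoh_of_isFinLocFreeOfRank hC) hG j
  have hPinv : Inv L φ (pullback.fst (cokernel.π i) j) :=
    inv_pullback hL (cokernel.π i) j φ φ' hφ' hGinv
  have h2 := hss _ (r' + s) _ hmono (by omega) hP hPinv
  rw [hdP] at h2
  have hr3 : (r : ℤ) = (r' : ℤ) + (c : ℤ) := by exact_mod_cast hrc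
  have hcnn : (0 : ℤ) ≤ (c : ℤ) := Int.natCast_nonneg _
  push_cast at h2
  have h3 : Curv2.deg k X G s * (r : ℤ) ≤ Curv2.deg k X E r * (s : ℤ) := by
    have h2' : (Curv2.deg k X F r' + Curv2.deg k X G s) * (r : ℤ) =
        Curv2.deg k X F r' * (r : ℤ) + Curv2.deg k X G s * (r : ℤ) := by ring
    have h2'' : Curv2.deg k X E r * ((r' : ℤ) + (s : ℤ)) =
        Curv2.deg k X E r * (r' : ℤ) + Curv2.deg k X E r * (s : ℤ) := by ring
    have h2a : (Curv2.deg k X F r' + Curv2.deg k X G s) * (r : ℤ) ≤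
        Curv2.deg k X E r * ((r' : ℤ) + (s : ℤ)) := h2
    rw [h2', h2'', hslope] at h2a
    linarith
  have hdCr : Curv2.deg k X (cokernel i) c * (r : ℤ) = Curv2.deg k X E r * (c : ℤ) := by
    linear_combination (-1 : ℤ) * hslope - (r : ℤ) * e1 + Curv2.deg k X E r * hr3
  have h5 : (Curv2.deg k X G s * (c : ℤ)) * (r : ℤ) ≤
      (Curv2.deg k X (cokernel i) c * (s : ℤ)) * (r : ℤ) :=
    calc (Curv2.deg k X G s * (c : ℤ)) * (r : ℤ)
        = (Curv2.deg k X G s * (r : ℤ)) * (c : ℤ) := by ring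
      _ ≤ (Curv2.deg k X E r * (s : ℤ)) * (c : ℤ) := mul_le_mul_of_nonneg_right h3 hcnn
      _ = (Curv2.deg k X E r * (c : ℤ)) * (s : ℤ) := by ring
      _ = (Curv2.deg k X (cokernel i) c * (r : ℤ)) * (s : ℤ) := by rw [hdCr]
      _ = (Curv2.deg k X (cokernel i) c * (s : ℤ)) * (r : ℤ) := by ring
  exact le_of_mul_le_mul_right h5 hrZ

lemma isCoh_of_iso {M N : X.Modules} (e : M ≅ N) (h : Coh.IsCoh M) : Coh.IsCoh N := by
  obtain ⟨hq, hf⟩ := h
  haveI : SheafOfModules.IsFiniteType (R := X.ringCatSheaf) M := hf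
  exact ⟨(SheafOfModules.isQuasicoherent X.ringCatSheaf).prop_of_iso e hq,
    Groth.Agent.Lib.Helper3.QCProps.isFiniteType_of_iso e⟩

open scoped ZeroObject in
include k in
lemma euler_eq_of_iso {M N : X.Modules} (e : M ≅ N) (hM : Coh.IsCoh M) :
    Curv2.euler k X M = Curv2.euler k X N := by
  have hZ : IsZero (0 : X.Modules) := isZero_zero _
  let S : ShortComplex X.Modules := ShortComplex.mk e.hom (0 : N ⟶ 0) comp_zero
  have hS : S.ShortExact :=
    { exact := (S.exact_iff_epi rfl).mpr (inferInstanceAs (Epi e.hom))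
      mono_f := inferInstanceAs (Mono e.hom)
      epi_g := ⟨fun _ _ _ => hZ.eq_of_src _ _⟩ }
  have hcZ : Coh.IsCoh (0 : X.Modules) :=
    ⟨QCOpen.isQuasicoherent_of_isZero hZ, QCOpen.isFiniteType_of_isZero hZ⟩
  have h := euler_additive k X S hS hM (isCoh_of_iso e hM) hcZ
  have h' : Curv2.euler k X N = Curv2.euler k X M + Curv2.euler k X (0 : X.Modules) := h
  rw [euler_eq_zero_of_isZero k X _ hZ, add_zero] at h'
  exact h'.symm

include k in
lemma euler_cokernel [IsIntegral X] {A B : X.Modules} (f : A ⟶ B) [Mono f] (hA : Coh.IsCoh A)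
    (hB : Coh.IsCoh B) :
    Curv2.euler k X B = Curv2.euler k X A + Curv2.euler k X (cokernel f) := by
  haveI := isNoetherian_of_isProper k X
  exact euler_additive k X (cokerSC f) (cokerSC_shortExact f) hA hB
    (Groth.Agent.S9514.result X hA hB f).2

end Proper

end Groth.Agent.Lib.Helper23.Twist
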