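import Mathlib
import Groth.Prelude
import Groth.Agent.Lib.Helper7.AmpleSerre
import Groth.Agent.Lib.Helper7.AmpleH1
import Groth.Agent.Lib.Helper7.HilbFam
import Groth.Agent.Lib.Helper23.T2N
import Groth.Agent.Lib.Helper23.FBC5

/-!
# Hilbert polynomials of coherent modules: basic algebra of `ShStab.IsHilbPoly` (helper23)
-/

set_option autoImplicit false
set_option linter.unusedSectionVars false
set_option linter.style.haveILetI false
universe u
open CategoryTheory CategoryTheory.Limits AlgebraicGeometry Polynomial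
open Groth.Agent.Lib.Helper3 Groth.Agent.Lib.Helper3.InvTensor Groth.Agent.Lib.Helper3.InvMonoidal
open Groth.Agent.Lib.Helper7.TwFun

namespace Groth.Agent.Lib.Helper23.HilbP

/-- two rational polynomials agreeing at all large natural numbers are equal -/
lemma poly_ext_nat' (P Q : ℚ[X]) (N : ℕ) (h : ∀ m : ℕ, N ≤ m → P.eval (m : ℚ) = Q.eval (m : ℚ)) :
    P = Q := by
  apply Polynomial.eq_of_infinite_eval_eq
  have hinj : Function.Injective (fun m : ℕ => ((m + N : ℕ) : ℚ)) := by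
    intro a b hab
    have hab' : ((a + N : ℕ) : ℚ) = ((b + N : ℕ) : ℚ) := hab
    have : (a + N : ℕ) = b + N := by exact_mod_cast hab'
    omega
  refine (Set.infinite_range_of_injective hinj).mono ?_
  rintro _ ⟨m, rfl⟩
  exact h (m + N) (Nat.le_add_left _ _)

lemma poly_ext_nat (P Q : ℚ[X]) (h : ∀ m : ℕ, P.eval (m : ℚ) = Q.eval (m : ℚ)) : P = Q :=
  poly_ext_nat' P Q 0 fun m _ => h m

variable (k : Type u) [Field k] (X : Scheme.{u}) [X.Over (Spec (CommRingCat.of k))]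

lemma isCoh_twist {L E : X.Modules} (hL : PicF.IsInvertible L) (hE : Coh.IsCoh E) (m : ℕ) :
    Coh.IsCoh (ShStab.twist X L E m) := by
  haveI := hE.1
  haveI := hE.2
  exact ⟨InvCoh.isQuasicoherent_tensorMod E _ (isInvertible_tensorPow hL m),
    InvCoh.isFiniteType_tensorMod E _ (isInvertible_tensorPow hL m)⟩

lemma isCoh_tensor_inv {N E : X.Modules} (hN : PicF.IsInvertible N) (hE : Coh.IsCoh E) :
    Coh.IsCoh (CohB1.tensorMod E N) := by
  haveI := hE.1
  haveI := hE.2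
  exact ⟨InvCoh.isQuasicoherent_tensorMod E _ hN, InvCoh.isFiniteType_tensorMod E _ hN⟩

lemma shortExact_twist {L : X.Modules} (hL : PicF.IsInvertible L) (S : ShortComplex X.Modules)
    (hS : S.ShortExact) (m : ℕ) : (S.map (twR (CohB1.tensorPow L m))).ShortExact :=
  Groth.Agent.Lib.Helper7.AmpleH1.shortExact_tw (isInvertible_tensorPow hL m) S hS

lemma euler_twist_add [IsProper (X ↘ Spec (CommRingCat.of k))] {L : X.Modules}
    (hL : PicF.IsInvertible L) (S : ShortComplex X.Modules) (hS : S.ShortExact)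
    (h1 : Coh.IsCoh S.X₁) (h2 : Coh.IsCoh S.X₂) (h3 : Coh.IsCoh S.X₃) (m : ℕ) :
    Curv2.euler k X (ShStab.twist X L S.X₂ m) =
      Curv2.euler k X (ShStab.twist X L S.X₁ m) + Curv2.euler k X (ShStab.twist X L S.X₃ m) :=
  T2.euler_additive k X (S.map (twR (CohB1.tensorPow L m))) (shortExact_twist X hL S hS m)
    (isCoh_twist X hL h1 m) (isCoh_twist X hL h2 m) (isCoh_twist X hL h3 m)

variable {X}

lemma isHilbPoly_unique {L E : X.Modules} {P Q : ℚ[X]} (hP : ShStab.IsHilbPoly k X L E P)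
    (hQ : ShStab.IsHilbPoly k X L E Q) : P = Q :=
  poly_ext_nat P Q fun m => (hP m).symm.trans (hQ m)

lemma isHilbPoly_of_iso {L E E' : X.Modules} (e : E ≅ E') {P : ℚ[X]}
    (hP : ShStab.IsHilbPoly k X L E P) : ShStab.IsHilbPoly k X L E' P := by
  intro m
  rw [← hP m]
  have := FBC.euler_eq_of_iso' k ((twR (CohB1.tensorPow L m)).mapIso e)
  exact_mod_cast this.symm

lemma euler_of_isZero {E : X.Modules} (hE : IsZero E) : Curv2.euler k X E = 0 := by
  unfold Curv2.euler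
  have : ∀ i : ℕ, (-1 : ℤ) ^ i * (Module.finrank k (Coh.HH X E i) : ℤ) = 0 := by
    intro i
    haveI := Groth.Agent.Lib.Helper7.HilbFam.subsingleton_HH_of_isZero hE i
    rw [Module.finrank_zero_of_subsingleton]
    simp
  simp only [this]
  exact finsum_zero

lemma isHilbPoly_zero {L E : X.Modules} (hE : IsZero E) : ShStab.IsHilbPoly k X L E 0 := by
  intro m
  have hz : IsZero (ShStab.twist X L E m) :=
    (twR (CohB1.tensorPow L m)).map_isZero hE
  rw [euler_of_isZero k hz]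
  simp

lemma isHilbPoly_add [IsProper (X ↘ Spec (CommRingCat.of k))] {L : X.Modules}
    (hL : PicF.IsInvertible L) (S : ShortComplex X.Modules) (hS : S.ShortExact)
    (h1 : Coh.IsCoh S.X₁) (h2 : Coh.IsCoh S.X₂) (h3 : Coh.IsCoh S.X₃) {P₁ P₃ : ℚ[X]}
    (hP1 : ShStab.IsHilbPoly k X L S.X₁ P₁) (hP3 : ShStab.IsHilbPoly k X L S.X₃ P₃) :
    ShStab.IsHilbPoly k X L S.X₂ (P₁ + P₃) := by
  intro m
  rw [euler_twist_add k X hL S hS h1 h2 h3 m, eval_add, ← hP1 m, ← hP3 m]
  push_cast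
  rfl

lemma isHilbPoly_X₃ [IsProper (X ↘ Spec (CommRingCat.of k))] {L : X.Modules}
    (hL : PicF.IsInvertible L) (S : ShortComplex X.Modules) (hS : S.ShortExact)
    (h1 : Coh.IsCoh S.X₁) (h2 : Coh.IsCoh S.X₂) (h3 : Coh.IsCoh S.X₃) {P₁ P₂ : ℚ[X]}
    (hP1 : ShStab.IsHilbPoly k X L S.X₁ P₁) (hP2 : ShStab.IsHilbPoly k X L S.X₂ P₂) :
    ShStab.IsHilbPoly k X L S.X₃ (P₂ - P₁) := by
  intro m
  have := euler_twist_add k X hL S hS h1 h2 h3 m
  rw [eval_sub, ← hP1 m, ← hP2 m, this]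
  push_cast
  ring

lemma isHilbPoly_X₁ [IsProper (X ↘ Spec (CommRingCat.of k))] {L : X.Modules}
    (hL : PicF.IsInvertible L) (S : ShortComplex X.Modules) (hS : S.ShortExact)
    (h1 : Coh.IsCoh S.X₁) (h2 : Coh.IsCoh S.X₂) (h3 : Coh.IsCoh S.X₃) {P₂ P₃ : ℚ[X]}
    (hP2 : ShStab.IsHilbPoly k X L S.X₂ P₂) (hP3 : ShStab.IsHilbPoly k X L S.X₃ P₃) :
    ShStab.IsHilbPoly k X L S.X₁ (P₂ - P₃) := by
  intro m
  have := euler_twist_add k X hL S hS h1 h2 h3 m
  rw [eval_sub, ← hP3 m, ← hP2 m, this]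
  push_cast
  ring

/-- the Hilbert polynomial of a twist `E ⊗ L^a` is the shifted polynomial -/
lemma isHilbPoly_twist {L E : X.Modules} {P : ℚ[X]} (hP : ShStab.IsHilbPoly k X L E P) (a : ℕ) :
    ShStab.IsHilbPoly k X L (ShStab.twist X L E a) (P.comp (Polynomial.X + C (a : ℚ))) := by
  intro m
  have e : ShStab.twist X L (ShStab.twist X L E a) m ≅ ShStab.twist X L E (a + m) :=
    twistAdd E L a m
  rw [FBC.euler_eq_of_iso' k e, hP (a + m)]
  simp [eval_comp, add_comm]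

end Groth.Agent.Lib.Helper23.HilbP
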