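import Mathlib
import Groth.Agent.Lib.Helper23.HilbPA

/-!
# Gluing quasi-polynomials with two coprime periods into a polynomial (helper23)
-/

set_option autoImplicit false
universe u
open Polynomial

namespace Groth.Agent.Lib.Helper23.HilbP

/-- reparametrised polynomial: `(resc P a r)(r + a d) = P(d)` -/
noncomputable def resc (P : ℚ[X]) (a r : ℕ) : ℚ[X] :=
  P.comp (C ((a : ℚ)⁻¹) * (Polynomial.X - C (r : ℚ)))

lemma resc_eval (P : ℚ[X]) (a r d : ℕ) (ha : 0 < a) :
    (resc P a r).eval (((r + a * d : ℕ)) : ℚ) = P.eval (d : ℚ) := by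
  unfold resc
  rw [eval_comp]
  congr 1
  have : (a : ℚ) ≠ 0 := by exact_mod_cast ha.ne'
  simp only [eval_mul, eval_C, eval_sub, eval_X]
  push_cast
  field_simp
  ring

lemma exists_of_modEq (a r m : ℕ) (hrm : r ≤ m) (h : m ≡ r [MOD a]) : ∃ d, m = r + a * d := by
  have h' : a ∣ m - r := (Nat.modEq_iff_dvd' hrm).1 h.symm
  obtain ⟨d, hd⟩ := h'
  exact ⟨d, by omega⟩

theorem poly_of_two_periods (f : ℕ → ℚ) (a b : ℕ) (ha : 0 < a) (hb : 0 < b)
    (hab : Nat.Coprime a b)
    (h1 : ∀ r : ℕ, ∃ P : ℚ[X], ∀ d : ℕ, f (r + a * d) = P.eval (d : ℚ))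
    (h2 : ∀ r : ℕ, ∃ Q : ℚ[X], ∀ d : ℕ, f (r + b * d) = Q.eval (d : ℚ)) :
    ∃ P : ℚ[X], ∀ m : ℕ, f m = P.eval (m : ℚ) := by
  choose P hP using h1
  choose Q hQ using h2
  have key : ∀ r s : ℕ, resc (P r) a r = resc (Q s) b s := by
    intro r s
    apply Polynomial.eq_of_infinite_eval_eq
    let c := Nat.chineseRemainder hab r s
    let mm : ℕ → ℕ := fun j => c.1 + a * b * (r + s + j)
    have hab1 : 1 ≤ a * b := Nat.mul_pos ha hb
    have hinj : Function.Injective (fun j : ℕ => ((mm j : ℕ) : ℚ)) := by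
      intro i j hij
      have hij' : ((mm i : ℕ) : ℚ) = ((mm j : ℕ) : ℚ) := hij
      have h3 : mm i = mm j := by exact_mod_cast hij'
      have h4 : a * b * (r + s + i) = a * b * (r + s + j) := by
        simp only [mm] at h3; omega
      have h5 := Nat.eq_of_mul_eq_mul_left (by omega : 0 < a * b) h4
      omega
    refine (Set.infinite_range_of_injective hinj).mono ?_
    rintro _ ⟨j, rfl⟩
    have hge : r + s + j ≤ a * b * (r + s + j) := Nat.le_mul_of_pos_left _ (by omega)
    have hr : r ≤ mm j := by simp only [mm]; omega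
    have hs : s ≤ mm j := by simp only [mm]; omega
    have hra : mm j ≡ r [MOD a] := by
      have h0 : mm j ≡ c.1 [MOD a] := by
        have : a * b * (r + s + j) ≡ 0 [MOD a] := by
          rw [Nat.modEq_zero_iff_dvd, mul_assoc]; exact dvd_mul_right _ _
        simpa [mm] using (Nat.ModEq.refl c.1).add this
      exact h0.trans c.2.1
    have hsb : mm j ≡ s [MOD b] := by
      have h0 : mm j ≡ c.1 [MOD b] := by
        have : a * b * (r + s + j) ≡ 0 [MOD b] := by
          rw [Nat.modEq_zero_iff_dvd, mul_comm a b, mul_assoc]; exact dvd_mul_right _ _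
        simpa [mm] using (Nat.ModEq.refl c.1).add this
      exact h0.trans c.2.2
    obtain ⟨d, hd⟩ := exists_of_modEq a r (mm j) hr hra
    obtain ⟨d', hd'⟩ := exists_of_modEq b s (mm j) hs hsb
    change (resc (P r) a r).eval ((mm j : ℕ) : ℚ) = (resc (Q s) b s).eval ((mm j : ℕ) : ℚ)
    have e1 : (resc (P r) a r).eval ((mm j : ℕ) : ℚ) = f (mm j) := by
      rw [hd, resc_eval _ _ _ _ ha, ← hP]
    have e2 : (resc (Q s) b s).eval ((mm j : ℕ) : ℚ) = f (mm j) := by
      rw [hd', resc_eval _ _ _ _ hb, ← hQ]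
    rw [e1, e2]
  refine ⟨resc (Q 0) b 0, fun m => ?_⟩
  rw [← key (m % a) 0]
  have hm : m = m % a + a * (m / a) := (Nat.mod_add_div m a).symm
  have e := resc_eval (P (m % a)) a (m % a) (m / a) ha
  rw [← hm] at e
  rw [e, ← hP, ← hm]

end Groth.Agent.Lib.Helper23.HilbP
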