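import Mathlib
import Groth.Prelude
import Groth.Agent.Lib.Helper7.AmpleSerre
import Groth.Agent.Lib.Helper23.HilbPB
import Groth.Agent.S2426

/-!
# Existence of the Hilbert polynomial of a coherent module on a proper scheme with an ample
invertible module (helper23)
-/

set_option autoImplicit false
set_option linter.unusedSectionVars false
set_option linter.style.haveILetI false
universe u
open CategoryTheory CategoryTheory.Limits AlgebraicGeometry TopologicalSpace Opposite
open Scheme.Modules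

noncomputable section

namespace Groth.Agent.Lib.Helper23.HilbP

open Groth.Agent.Lib.Helper3
open QCSec InvGen InvTensor InvMonoidal TwistBasic TwistMul PbTensor PbBasic PEmb2
open Groth.Agent.Lib.Helper7 Groth.Agent.Lib.Helper7.AmpleSerre

section VA

variable (R : Type u) [CommRing R] {X : Scheme.{u}} (f : X ⟶ Spec (CommRingCat.of R))

/-- every sufficiently large power of an ample module is the pullback of `O(1)` under a closed
immersion into a projective space. -/
theorem exists_closedImmersion_iso_all [IsProper f] {L : X.Modules} (hA : CohB1.IsAmple L) :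
    ∃ n₀ : ℕ, ∀ n, n₀ ≤ n → ∃ (N : ℕ) (ι : X ⟶ CohB1.ProjSpace N R), IsClosedImmersion ι ∧
      ι ≫ CohB1.ProjSpace.toSpec N R = f ∧
      Nonempty (CohB1.tensorPow L n ≅
        (Scheme.Modules.pullback ι).obj (Twist.twistProjSpace N R 1)) := by
  obtain ⟨n₀, h⟩ := VAMain.eventually_isRelVeryAmplePn_pow f hA
  refine ⟨n₀, fun n hn => ?_⟩
  obtain ⟨N, i, hi, hcomp, ⟨τ⟩⟩ := h n hn
  have hP := IsPullback.of_hasPullback (CohB1.ProjSpace.toSpec N (ULift.{u} ℤ))
    (specULiftZIsTerminal.from (Spec (CommRingCat.of R)))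
  haveI hiso := PIso.isIso_lift N (R := R) _ _ hP
  let c : CohB1.ProjSpace N R ⟶ CohB1.ProjSpaceOver N (Spec (CommRingCat.of R)) :=
    hP.lift (gmap N R) (CohB1.ProjSpace.toSpec N R) (specULiftZIsTerminal.hom_ext _ _)
  haveI : IsIso c := hiso
  let S : Scheme.{u} := Spec (CommRingCat.of R)
  let pfst : CohB1.ProjSpaceOver N S ⟶ CohB1.ProjSpace N (ULift.{u} ℤ) :=
    pullback.fst (CohB1.ProjSpace.toSpec N (ULift.{u} ℤ)) (specULiftZIsTerminal.from S)
  let psnd : CohB1.ProjSpaceOver N S ⟶ S :=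
    pullback.snd (CohB1.ProjSpace.toSpec N (ULift.{u} ℤ)) (specULiftZIsTerminal.from S)
  let g' : CohB1.ProjSpace N R ⟶ CohB1.ProjSpace N (ULift.{u} ℤ) := gmap N R
  let tS : CohB1.ProjSpace N R ⟶ S := CohB1.ProjSpace.toSpec N R
  have hc1 : c ≫ pfst = g' := hP.lift_fst _ _ _
  have hc2 : c ≫ psnd = tS := hP.lift_snd _ _ _
  have hcomp' : i ≫ psnd = f := hcomp
  have h1 : inv c ≫ g' = pfst := (IsIso.inv_comp_eq c).2 hc1.symm
  have h2 : inv c ≫ tS = psnd := (IsIso.inv_comp_eq c).2 hc2.symm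
  have hι : (i ≫ inv c) ≫ tS = f :=
    ((Category.assoc i (inv c) tS).trans (congrArg (fun t => i ≫ t) h2)).trans hcomp'
  haveI : IsProper psnd := by
    have h0 : IsProper (CohB1.ProjSpace.toSpec N (ULift.{u} ℤ)) :=
      QProj.isProper_toSpec (ULift.{u} ℤ) N
    exact IsProper.isStableUnderBaseChange.of_isPullback hP h0
  haveI : IsProper (i ≫ psnd) := by
    rw [hcomp']; infer_instance
  haveI : IsProper i := IsProper.of_comp i psnd
  haveI : IsImmersion i := hi
  haveI : IsClosedImmersion i :=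
    IsClosedImmersion.of_isPreimmersion i i.isClosedMap.isClosed_range
  refine ⟨N, i ≫ inv c, inferInstance, hι, ?_⟩
  have hfst : i ≫ pfst = (i ≫ inv c) ≫ g' :=
    ((Category.assoc i (inv c) g').trans (congrArg (fun t => i ≫ t) h1)).symm
  obtain ⟨e0⟩ := GmapTwist.nonempty_iso N R
  let T := Twist.twistProjSpace N (ULift.{u} ℤ) 1
  let e1 : (Scheme.Modules.pullback i).obj (Twist.twistOver N S 1) ≅
      (Scheme.Modules.pullback (i ≫ pfst)).obj T :=
    (Scheme.Modules.pullbackComp i pfst).app T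
  let e2 : (Scheme.Modules.pullback (i ≫ pfst)).obj T ≅
      (Scheme.Modules.pullback ((i ≫ inv c) ≫ g')).obj T :=
    (Scheme.Modules.pullbackCongr hfst).app T
  let e3 : (Scheme.Modules.pullback ((i ≫ inv c) ≫ g')).obj T ≅
      (Scheme.Modules.pullback (i ≫ inv c)).obj ((Scheme.Modules.pullback g').obj T) :=
    ((Scheme.Modules.pullbackComp (i ≫ inv c) g').app T).symm
  exact ⟨τ ≪≫ e1 ≪≫ e2 ≪≫ e3 ≪≫ (Scheme.Modules.pullback (i ≫ inv c)).mapIso e0⟩

end VA

section Exist

open Polynomial Groth.Agent.Lib.Helper23.EulerLES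

variable (k : Type u) [Field k] (X : Scheme.{u}) [X.Over (Spec (CommRingCat.of k))]
  [IsProper (X ↘ Spec (CommRingCat.of k))]

/-- Euler characteristic as the alternating sum of lengths up to degree `N`, for a closed
subscheme of `P^N_k`. -/
lemma euler_eq_sum_of_closedImmersion (N : ℕ) (ι : X ⟶ CohB1.ProjSpace N k) [IsClosedImmersion ι]
    (hι : ι ≫ CohB1.ProjSpace.toSpec N k = X ↘ Spec (CommRingCat.of k))
    (M : X.Modules) (hM : Coh.IsCoh M) :
    (Curv2.euler k X M : ℚ) =
      (Finset.range (N + 1)).sum fun j => (-1 : ℚ) ^ j *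
        ((Module.length k (Coh.HH X M j)).toNat : ℚ) := by
  have hvan : ∀ p : ℕ, N + 1 ≤ p → Subsingleton (Coh.HH X M p) := by
    intro p hp
    have hq : ((Scheme.Modules.pushforward ι).obj M).IsQuasicoherent :=
      (ClTransferR.isCoh_pushR k ι M hM).1
    have h0 : Subsingleton (Coh.HH (CohB1.ProjSpace N k) ((Scheme.Modules.pushforward ι).obj M) p) :=
      @Mumford.hvan N k _ ((Scheme.Modules.pushforward ι).obj M) hq p (by omega)
    exact @Equiv.subsingleton _ _ (PushLinear.pushLinearEquiv ι M k hι.symm p).toEquiv h0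
  rw [T2.euler_eq_sum k X M hM (N + 1) hvan, Finset.sum_range_succ]
  haveI := hvan (N + 1) le_rfl
  rw [len_of_subsingleton]
  push_cast
  simp only [mul_zero, add_zero]
  rfl

theorem exists_poly_step {L : X.Modules} (hL : PicF.IsInvertible L) (a N : ℕ) (ι : X ⟶ CohB1.ProjSpace N k)
    [IsClosedImmersion ι]
    (hι : ι ≫ CohB1.ProjSpace.toSpec N k = X ↘ Spec (CommRingCat.of k))
    (e : CohB1.tensorPow L a ≅ (Scheme.Modules.pullback ι).obj (Twist.twistProjSpace N k 1))
    (F : X.Modules) (hF : Coh.IsCoh F) :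
    ∃ P : ℚ[X], ∀ d : ℕ,
      (Curv2.euler k X (CohB1.tensorMod F (CohB1.tensorPow L (a * d))) : ℚ) = P.eval (d : ℚ) := by
  obtain ⟨P, hP⟩ := Groth.Agent.S2426.result k N X ι hι F hF
  refine ⟨P, fun d => ?_⟩
  obtain ⟨ed⟩ := nonempty_pow_iso k ι e d
  have h1 := hP (d : ℤ)
  simp only [Int.cast_natCast] at h1
  rw [← h1]
  have hT : PicF.IsInvertible
      ((Scheme.Modules.pullback ι).obj (Twist.twistProjSpace N k (d : ℤ))) :=
    InvAmple.isInvertible_of_iso ed (isInvertible_tensorPow hL (a * d))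
  rw [FBC.euler_eq_of_iso' k (tensorMapIso (Iso.refl F) ed)]
  exact euler_eq_sum_of_closedImmersion k X N ι hι _ (isCoh_tensor_inv X hT hF)

/-- **Existence of the Hilbert polynomial**: on a scheme proper over a field with an ample
invertible module `L`, the Euler characteristic of `E ⊗ L^m` is a polynomial in `m`. -/
theorem exists_isHilbPoly {L : X.Modules} (hL : CohB1.IsAmple L) (E : X.Modules)
    (hE : Coh.IsCoh E) : ∃ P : ℚ[X], ShStab.IsHilbPoly k X L E P := by
  obtain ⟨n₀, h⟩ := exists_closedImmersion_iso_all k (X ↘ Spec (CommRingCat.of k)) hL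
  have step : ∀ a, n₀ ≤ a → ∀ r : ℕ, ∃ P : ℚ[X], ∀ d : ℕ,
      (fun m : ℕ => (Curv2.euler k X (ShStab.twist X L E m) : ℚ)) (r + a * d) =
        P.eval (d : ℚ) := by
    intro a ha r
    obtain ⟨N, ι, hcl, hι, ⟨e⟩⟩ := h a ha
    haveI := hcl
    obtain ⟨P, hP⟩ := exists_poly_step k X hL.1 a N ι hι e (ShStab.twist X L E r)
      (isCoh_twist X hL.1 hE r)
    refine ⟨P, fun d => ?_⟩
    rw [← hP d]
    have := FBC.euler_eq_of_iso' k (twistAdd E L r (a * d))
    change ((Curv2.euler k X (CohB1.tensorMod E (CohB1.tensorPow L (r + a * d))) : ℤ) : ℚ) =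
      ((Curv2.euler k X (CohB1.tensorMod (CohB1.tensorMod E (CohB1.tensorPow L r))
        (CohB1.tensorPow L (a * d))) : ℤ) : ℚ)
    rw [this]
  have hco : Nat.Coprime (n₀ + 1) (n₀ + 2) := by
    have : n₀ + 2 = 1 + (n₀ + 1) := by omega
    rw [this, Nat.coprime_add_self_right]
    exact Nat.coprime_one_right _
  obtain ⟨P, hP⟩ := poly_of_two_periods
    (fun m : ℕ => (Curv2.euler k X (ShStab.twist X L E m) : ℚ)) (n₀ + 1) (n₀ + 2)
    (Nat.succ_pos _) (Nat.succ_pos _) hco (step _ (Nat.le_succ _)) (step _ (by omega))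
  exact ⟨P, hP⟩

end Exist

end Groth.Agent.Lib.Helper23.HilbP
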