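import Mathlib
import Groth.Prelude
import Groth.Agent.Lib.Helper23.HilbPC
import Groth.Agent.Lib.Helper17.SuppTensor
import Groth.Agent.Lib.Helper17.DevBasic
import Groth.Agent.Lib.Helper3.GlobGen
import Groth.Agent.Lib.Helper23.T2A

/-!
# Eventual positivity of the Hilbert function of a nonzero coherent module (helper23)
-/

set_option autoImplicit false
set_option linter.unusedSectionVars false
set_option linter.style.haveILetI false
universe u
open CategoryTheory CategoryTheory.Limits AlgebraicGeometry TopologicalSpace Opposite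
open Scheme.Modules

noncomputable section

namespace Groth.Agent.Lib.Helper23.HilbP

open Groth.Agent.Lib.Helper3
open QCSec InvGen InvTensor InvMonoidal
open Groth.Agent.Lib.Helper7 Groth.Agent.Lib.Helper17 Groth.Agent.Lib.Helper23.EulerLES

section Supp

variable {X : Scheme.{u}}

lemma support_invertible {N : X.Modules} (hN : PicF.IsInvertible N) :
    CohB1.support N = Set.univ := by
  haveI : N.IsQuasicoherent := InvCoh.isQuasicoherent_of_isInvertible hN
  ext x
  simp only [Set.mem_univ, iff_true]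
  obtain ⟨U, e, hU, hxU, hg⟩ := exists_affine_isGen hN x
  rw [SuppTensor.mem_support_iff_affine N hU x hxU, Module.mem_support_iff_exists_annihilator]
  refine ⟨e, ?_⟩
  have h0 : (Submodule.span Γ(X, U) {e}).annihilator = ⊥ := by
    rw [eq_bot_iff]
    intro a ha
    rw [Submodule.mem_annihilator_span_singleton] at ha
    exact hg.self.eq_zero ha
  rw [h0]
  exact bot_le

lemma support_tensor_inv {N E : X.Modules} (hN : PicF.IsInvertible N) (hE : Coh.IsCoh E) :
    CohB1.support (CohB1.tensorMod E N) = CohB1.support E := by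
  haveI := hE.1
  haveI := hE.2
  haveI : N.IsQuasicoherent := InvCoh.isQuasicoherent_of_isInvertible hN
  haveI : N.IsFiniteType := InvCoh.isFiniteType_of_isInvertible hN
  rw [SuppTensor.support_tensorMod, support_invertible hN, Set.inter_univ]

lemma support_twist {L E : X.Modules} (hL : PicF.IsInvertible L) (hE : Coh.IsCoh E) (m : ℕ) :
    CohB1.support (ShStab.twist X L E m) = CohB1.support E :=
  support_tensor_inv (isInvertible_tensorPow hL m) hE

lemma not_isZero_tensor_inv {N E : X.Modules} (hN : PicF.IsInvertible N) (hE : Coh.IsCoh E)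
    (h0 : ¬ IsZero E) : ¬ IsZero (CohB1.tensorMod E N) := by
  intro h
  apply h0
  apply DevBasic.isZero_of_support_eq_empty
  rw [← support_tensor_inv hN hE]
  exact DevBasic.support_eq_empty_of_isZero h

lemma isZero_of_isSpanned_of_subsingleton (M : X.Modules) [M.IsQuasicoherent]
    (h : GlobGen.IsSpanned M) (hs : Subsingleton Γ(M, (⊤ : X.Opens))) : IsZero M := by
  apply DevBasic.isZero_of_support_eq_empty
  ext x
  simp only [Set.mem_empty_iff_false, iff_false]
  obtain ⟨I, σ, hσ⟩ := h
  obtain ⟨U, hU, hxU, hspan⟩ := hσ x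
  rw [SuppTensor.mem_support_iff_affine M hU x hxU]
  have hsub : Subsingleton Γ(M, U) := by
    have h1 : (Set.range fun i => res M (le_top : U ≤ ⊤) (σ i)) ⊆ {0} := by
      rintro _ ⟨i, rfl⟩
      have h0 : σ i = 0 := Subsingleton.elim _ _
      simp only [h0, map_zero, Set.mem_singleton_iff]
    have h2 : (⊤ : Submodule Γ(X, U) Γ(M, U)) = ⊥ := by
      rw [← hspan, eq_bot_iff]
      exact (Submodule.span_mono h1).trans (by simp)
    exact (Submodule.subsingleton_iff Γ(X, U)).1 (subsingleton_of_bot_eq_top h2.symm)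
  rw [Module.support_eq_empty]
  exact Set.notMem_empty _

end Supp

section Pos

variable (k : Type u) [Field k] (X : Scheme.{u}) [X.Over (Spec (CommRingCat.of k))]
  [IsProper (X ↘ Spec (CommRingCat.of k))]

lemma euler_eq_finrank_h0 (M : X.Modules) (hM : Coh.IsCoh M)
    (hv : ∀ p : ℕ, 0 < p → Subsingleton (Coh.HH X M p)) :
    Curv2.euler k X M = (Module.finrank k (Coh.HH X M 0) : ℤ) := by
  rw [T2.euler_eq_sum k X M hM 1 (fun p hp => hv p hp), Finset.sum_range_succ,
    Finset.sum_range_one]
  haveI := hv 1 one_pos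
  rw [len_of_subsingleton (R := k) (M := Coh.HH X M 1), T2.finrank_eq_len k X M hM 0]
  simp

theorem eventually_nonneg {L : X.Modules} (hL : CohB1.IsAmple L) (E : X.Modules)
    (hE : Coh.IsCoh E) :
    ∃ N : ℕ, ∀ m : ℕ, N ≤ m → 0 ≤ Curv2.euler k X (ShStab.twist X L E m) := by
  obtain ⟨n₀, hn₀⟩ := AmpleSerre.serre_vanishing_of_isAmple k (X ↘ Spec (CommRingCat.of k)) hL E hE
  refine ⟨n₀, fun m hm => ?_⟩
  rw [euler_eq_finrank_h0 k X _ (isCoh_twist X hL.1 hE m) (hn₀ m hm)]
  exact Int.natCast_nonneg _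

theorem eventually_pos {L : X.Modules} (hL : CohB1.IsAmple L) (E : X.Modules)
    (hE : Coh.IsCoh E) (h0 : ¬ IsZero E) :
    ∃ N : ℕ, ∀ m : ℕ, N ≤ m → 0 < Curv2.euler k X (ShStab.twist X L E m) := by
  haveI : CompactSpace X := T2.compactSpace_of_isProper k X
  haveI : QuasiSeparatedSpace X := T2.quasiSeparatedSpace_of_isProper k X
  haveI := hE.1
  haveI := hE.2
  obtain ⟨n₀, hn₀⟩ := AmpleSerre.serre_vanishing_of_isAmple k (X ↘ Spec (CommRingCat.of k)) hL E hE
  obtain ⟨n₁, hn₁⟩ := GlobGen.exists_isSpanned_twist hL E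
  refine ⟨max n₀ n₁, fun m hm => ?_⟩
  have hc := isCoh_twist X hL.1 hE m
  rw [euler_eq_finrank_h0 k X _ hc (hn₀ m (le_of_max_le_left hm))]
  haveI := hc.1
  have hnz : ¬ IsZero (ShStab.twist X L E m) :=
    not_isZero_tensor_inv (isInvertible_tensorPow hL.1 m) hE h0
  have hnt : Nontrivial Γ(ShStab.twist X L E m, (⊤ : X.Opens)) := by
    by_contra hcon
    rw [not_nontrivial_iff_subsingleton] at hcon
    exact hnz (isZero_of_isSpanned_of_subsingleton _ (hn₁ m (le_of_max_le_right hm)) hcon)
  haveI : Nontrivial (T2.Γm (ShStab.twist X L E m)) := hnt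
  haveI : Nontrivial (Coh.HH X (ShStab.twist X L E m) 0) :=
    (T2.H0equiv (ShStab.twist X L E m)).toEquiv.nontrivial
  haveI := T2.finite_HH k (ShStab.twist X L E m) hc 0
  exact_mod_cast Module.finrank_pos (R := k) (M := Coh.HH X (ShStab.twist X L E m) 0)

end Pos

end Groth.Agent.Lib.Helper23.HilbP
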