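import Mathlib
import Groth.Prelude
import Groth.Agent.Lib.Helper23.HilbPD
import Groth.Agent.Lib.Helper17.DevKey
import Groth.Agent.Lib.Helper17.StalkExact

/-!
# Multiplication by a section of an invertible module (helper23)

`mulS s E : E ⟶ E ⊗ N` for `s : O_X ⟶ N`; it is natural in `E` and bijective on stalks over the
locus `genLocus N s` where `s` generates `N`.
-/

set_option autoImplicit false
set_option linter.unusedSectionVars false
set_option linter.style.haveILetI false
universe u
open CategoryTheory CategoryTheory.Limits AlgebraicGeometry TopologicalSpace Opposite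
open Scheme.Modules

noncomputable section

namespace Groth.Agent.Lib.Helper23.HilbP

open Groth.Agent.Lib.Helper3
open QCSec InvGen InvTensor InvMonoidal
open Groth.Agent.Lib.Helper7 Groth.Agent.Lib.Helper17 Groth.Agent.Lib.Helper17.StalkExact

variable {X : Scheme.{u}}

/-- multiplication by the section `s` of `N`. -/
def mulS {N : X.Modules} (s : Coh.structureModule X ⟶ N) (E : X.Modules) :
    E ⟶ CohB1.tensorMod E N :=
  (SecTwist.unitorR E).inv ≫ tensorMap (𝟙 E) s

lemma unitorR_inv_app (E : X.Modules) (U : X.Opens) (t : Γ(E, U)) :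
    (SecTwist.unitorR E).inv.app U t = tm E (Coh.structureModule X) U t (ofFun U 1) := by
  have h := unitorR_hom_tm E U t 1
  rw [one_smul] at h
  calc (SecTwist.unitorR E).inv.app U t
      = (SecTwist.unitorR E).inv.app U ((SecTwist.unitorR E).hom.app U
          (tm E (Coh.structureModule X) U t (ofFun U 1))) := by rw [h]
    _ = _ := iso_inv_hom_app (SecTwist.unitorR E) U _

lemma mulS_app {N : X.Modules} (s : Coh.structureModule X ⟶ N) (E : X.Modules) (U : X.Opens)
    (t : Γ(E, U)) : (mulS s E).app U t = tm E N U t (sec s U) := by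
  change (tensorMap (𝟙 E) s).app U ((SecTwist.unitorR E).inv.app U t) = _
  rw [unitorR_inv_app, tensorMap_tm, app_eq_smul_sec, one_smul]
  rfl

lemma mulS_naturality {N : X.Modules} (s : Coh.structureModule X ⟶ N) {E E' : X.Modules}
    (φ : E ⟶ E') : mulS s E ≫ tensorMap φ (𝟙 N) = φ ≫ mulS s E' := by
  apply Scheme.Modules.hom_ext
  intro W
  ext t
  change (tensorMap φ (𝟙 N)).app W ((mulS s E).app W t) = (mulS s E').app W (φ.app W t)
  rw [mulS_app, mulS_app, tensorMap_tm]
  rfl

/-- over an open where `s` generates `N`, multiplication by `s` is bijective on sections -/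
lemma mulS_app_bijective {N : X.Modules} (s : Coh.structureModule X ⟶ N) (E : X.Modules)
    {W : X.Opens} (hW : IsGen N W (sec s W)) (V : X.Opens) (hV : V ≤ W) :
    Function.Bijective (fun t : Γ(E, V) => (mulS s E).app V t) := by
  have h := tm_gen_bijective E N hW V hV
  have e : (fun t : Γ(E, V) => (mulS s E).app V t) =
      fun t : Γ(E, V) => tm E N V t (res N hV (sec s W)) := by
    funext t
    rw [mulS_app, res_sec]
  rw [e]
  exact h

lemma mulS_stalk_bijective {N : X.Modules} (s : Coh.structureModule X ⟶ N) (E : X.Modules)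
    (x : X) (hx : x ∈ CohB1.genLocus N s) : Function.Bijective (stalkLin (mulS s E) x) :=
  HilbFam.loc_bij_stalk (mulS s E) x (CohB1.genLocus N s) hx
    (fun V hV => mulS_app_bijective s E (isGen_genLocus s) V hV)

lemma notMem_support_kernel_mulS {N : X.Modules} (s : Coh.structureModule X ⟶ N)
    (E : X.Modules) (x : X) (hx : x ∈ CohB1.genLocus N s) :
    x ∉ CohB1.support (kernel (mulS s E)) :=
  DevKey.notMem_support_kernel _ x (mulS_stalk_bijective s E x hx).1

lemma notMem_support_cokernel_mulS {N : X.Modules} (s : Coh.structureModule X ⟶ N)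
    (E : X.Modules) (x : X) (hx : x ∈ CohB1.genLocus N s) :
    x ∉ CohB1.support (cokernel (mulS s E)) :=
  DevKey.notMem_support_cokernel _ x (mulS_stalk_bijective s E x hx).2

end Groth.Agent.Lib.Helper23.HilbP
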