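import Mathlib

/-!
# Chains of strict specializations and the topological Krull dimension (helper23)
-/

set_option autoImplicit false
universe u
open Order

namespace Groth.Agent.Lib.Helper23.HilbP

section Top

variable {X : Type*} [TopologicalSpace X]

/-- `Ch n y`: there is a chain `y = y_n ⤳ y_{n-1} ⤳ … ⤳ y_0` of strict specializations. -/
def Ch : ℕ → X → Prop
  | 0, _ => True
  | n + 1, y => ∃ y' : X, y ⤳ y' ∧ ¬ (y' ⤳ y) ∧ Ch n y'

lemma Ch.pred : ∀ {n : ℕ} {y : X}, Ch (n + 1) y → Ch n y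
  | 0, _, _ => trivial
  | n + 1, _, ⟨y', h1, h2, h3⟩ => ⟨y', h1, h2, Ch.pred h3⟩

lemma Ch.of_le {m n : ℕ} (h : m ≤ n) {y : X} (hc : Ch n y) : Ch m y := by
  induction n, h using Nat.le_induction with
  | base => exact hc
  | succ n _ ih => exact ih hc.pred

lemma Ch.succ {n : ℕ} {y y' : X} (h1 : y ⤳ y') (h2 : ¬ (y' ⤳ y)) (h3 : Ch n y') : Ch (n + 1) y :=
  ⟨y', h1, h2, h3⟩

/-- the closure of a point as an irreducible closed subset -/
def ptClosure (y : X) : TopologicalSpace.IrreducibleCloseds X :=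
  ⟨closure {y}, isIrreducible_singleton.closure, isClosed_closure⟩

lemma ptClosure_lt {y y' : X} (h1 : y ⤳ y') (h2 : ¬ (y' ⤳ y)) : ptClosure y' < ptClosure y := by
  rw [lt_iff_le_not_ge]
  constructor
  · exact specializes_iff_closure_subset.1 h1
  · intro h
    exact h2 (specializes_iff_closure_subset.2 h)

lemma height_of_Ch : ∀ {n : ℕ} {y : X}, Ch n y → (n : ℕ∞) ≤ height (ptClosure y)
  | 0, _, _ => by simp
  | n + 1, y, ⟨y', h1, h2, h3⟩ => by
    have ih := height_of_Ch h3
    have := height_add_one_le (ptClosure_lt h1 h2)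
    calc ((n + 1 : ℕ) : ℕ∞) = (n : ℕ∞) + 1 := by push_cast; rfl
      _ ≤ height (ptClosure y') + 1 := by gcongr
      _ ≤ height (ptClosure y) := this

theorem le_dim_of_Ch {n : ℕ} {y : X} (h : Ch n y) : (n : WithBot ℕ∞) ≤ topologicalKrullDim X := by
  have h1 := height_of_Ch h
  have h2 := height_le_krullDim (ptClosure y)
  unfold topologicalKrullDim
  refine le_trans ?_ h2
  exact_mod_cast h1

theorem exists_Ch_of_le_dim [QuasiSober X] {n : ℕ} (h : (n : WithBot ℕ∞) ≤ topologicalKrullDim X) :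
    ∃ y : X, Ch n y := by
  unfold topologicalKrullDim at h
  obtain ⟨l, hl⟩ := le_krullDim_iff.1 h
  choose g hg using fun T : TopologicalSpace.IrreducibleCloseds X =>
    QuasiSober.sober T.isIrreducible T.isClosed
  have key : ∀ i : ℕ, ∀ hi : i < l.length + 1, Ch i (g (l ⟨i, hi⟩)) := by
    intro i
    induction i with
    | zero => intro _; trivial
    | succ i ih =>
      intro hi
      have hi' : i < l.length + 1 := by omega
      have hlt : l ⟨i, hi'⟩ < l ⟨i + 1, hi⟩ := l.strictMono (by simp [Fin.lt_def])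
      refine Ch.succ ?_ ?_ (ih hi')
      · apply (hg _).specializes
        exact hlt.le (hg _).mem
      · intro hsp
        have h1 : g (l ⟨i + 1, hi⟩) ∈ (l ⟨i, hi'⟩ : Set X) := by
          rw [← (hg (l ⟨i, hi'⟩)).def]
          exact specializes_iff_mem_closure.1 hsp
        have h2 : (l ⟨i + 1, hi⟩ : Set X) ⊆ (l ⟨i, hi'⟩ : Set X) := by
          rw [← (hg (l ⟨i + 1, hi⟩)).def]
          exact (l ⟨i, hi'⟩).isClosed.closure_subset_iff.2 (Set.singleton_subset_iff.2 h1)
        exact (not_le_of_gt hlt) h2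
  refine ⟨g (l ⟨n, by omega⟩), key n (by omega)⟩

end Top

section Sub

variable {X : Type*} [TopologicalSpace X]

lemma Ch_subtype {S : Set X} : ∀ {n : ℕ} (y : S), Ch n y → Ch n (y : X)
  | 0, _, _ => trivial
  | n + 1, y, ⟨y', h1, h2, h3⟩ =>
    ⟨y', (subtype_specializes_iff _ _).1 h1, fun h => h2 ((subtype_specializes_iff _ _).2 h),
      Ch_subtype y' h3⟩

lemma Ch_of_subtype {S : Set X} (hS : IsClosed S) :
    ∀ {n : ℕ} (y : X) (hy : y ∈ S), Ch n y → Ch n (⟨y, hy⟩ : S)
  | 0, _, _, _ => trivial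
  | n + 1, y, hy, ⟨y', h1, h2, h3⟩ =>
    ⟨⟨y', h1.mem_closed hS hy⟩, (subtype_specializes_iff _ _).2 h1,
      fun h => h2 ((subtype_specializes_iff _ _).1 h), Ch_of_subtype hS y' _ h3⟩

/-- a chain of strict specializations in a closed set bounds its dimension from below -/
theorem le_dim_of_Ch_mem {S : Set X} (hS : IsClosed S) {n : ℕ} {y : X} (hy : y ∈ S)
    (h : Ch n y) : (n : WithBot ℕ∞) ≤ topologicalKrullDim S :=
  le_dim_of_Ch (Ch_of_subtype hS y hy h)

/-- a closed subset of dimension at least `n` of a quasi-sober space contains a chain of strict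
specializations of length `n` -/
theorem exists_Ch_mem_of_le_dim [QuasiSober X] {S : Set X} (hS : IsClosed S) {n : ℕ}
    (h : (n : WithBot ℕ∞) ≤ topologicalKrullDim S) : ∃ y ∈ S, Ch n y := by
  haveI : QuasiSober S := hS.isClosedEmbedding_subtypeVal.quasiSober
  obtain ⟨y, hy⟩ := exists_Ch_of_le_dim h
  exact ⟨y, y.2, Ch_subtype y hy⟩

end Sub

end Groth.Agent.Lib.Helper23.HilbP
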