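import Mathlib
import Groth.Prelude
import Groth.Agent.Lib.Helper23.HilbPE
import Groth.Agent.Lib.Helper23.HilbPF
import Groth.Agent.Lib.Helper23.HilbPG
import Groth.Agent.Lib.Helper17.DevEngine
import Groth.Agent.Lib.Helper1.MaxAnnInt

/-!
# The degree of the Hilbert polynomial is at most the dimension of the support (helper23)
-/

set_option autoImplicit false
set_option linter.unusedSectionVars false
set_option linter.style.haveILetI false
universe u
open CategoryTheory CategoryTheory.Limits AlgebraicGeometry TopologicalSpace Opposite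
open Scheme.Modules Polynomial

noncomputable section

namespace Groth.Agent.Lib.Helper23.HilbP

open Groth.Agent.Lib.Helper3
open QCSec InvGen InvTensor InvMonoidal
open Groth.Agent.Lib.Helper7 Groth.Agent.Lib.Helper17 Groth.Agent.Lib.Helper17.DevBasic

lemma isNoetherian_of_isProper (k : Type u) [Field k] (X : Scheme.{u})
    [X.Over (Spec (CommRingCat.of k))] [IsProper (X ↘ Spec (CommRingCat.of k))] :
    IsNoetherian X := by
  haveI : CompactSpace X := T2.compactSpace_of_isProper k X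
  haveI : IsLocallyNoetherian X :=
    LocallyOfFiniteType.isLocallyNoetherian (X ↘ Spec (CommRingCat.of k))
  exact {}

variable (k : Type u) [Field k] {X : Scheme.{u}} [X.Over (Spec (CommRingCat.of k))]
  [IsProper (X ↘ Spec (CommRingCat.of k))]

/-- the four-term relation between Hilbert polynomials of kernel, source, target, cokernel -/
lemma isHilbPoly_four {L : X.Modules} (hL : PicF.IsInvertible L) {F G : X.Modules} (φ : F ⟶ G)
    (hF : Coh.IsCoh F) (hG : Coh.IsCoh G) {QF QG QK QC : ℚ[X]}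
    (hQF : ShStab.IsHilbPoly k X L F QF) (hQG : ShStab.IsHilbPoly k X L G QG)
    (hQK : ShStab.IsHilbPoly k X L (kernel φ) QK)
    (hQC : ShStab.IsHilbPoly k X L (cokernel φ) QC) : QG - QF = QC - QK := by
  haveI := isNoetherian_of_isProper k X
  have hK : Coh.IsCoh (kernel φ) := isCoh_kernel φ hF hG.1
  have hC : Coh.IsCoh (cokernel φ) := isCoh_cokernel φ hF.1 hG
  have hI : Coh.IsCoh (kernel (cokernel.π φ)) := isCoh_kernel _ hG hC.1
  have hI' : Coh.IsCoh (cokernel (kernel.ι φ)) := isCoh_cokernel _ hK.1 hF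
  have e1 := isHilbPoly_X₃ k hL _ (DevKey.shortExact_of_mono (kernel.ι φ)) hK hF hI' hQK hQF
  have e2 := isHilbPoly_X₁ k hL _ (DevKey.shortExact_of_epi (cokernel.π φ)) hI hG hC hQG hQC
  have e3 := isHilbPoly_of_iso k (Abelian.coimageIsoImage φ) e1
  have := isHilbPoly_unique k e3 e2
  linear_combination (-1 : ℚ[X]) * this

/-- the property: the degree of the Hilbert polynomial is realised by a chain of strict
specializations starting in the support -/
def PUp (L M : X.Modules) : Prop :=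
  ∀ Q : ℚ[X], ShStab.IsHilbPoly k X L M Q → Q = 0 ∨ ∃ y ∈ CohB1.support M, Ch Q.natDegree y

theorem pUp {L : X.Modules} (hL : CohB1.IsAmple L) (M : X.Modules) (hM : Coh.IsCoh M) :
    PUp k L M := by
  haveI := isNoetherian_of_isProper k X
  refine DevEngine.engine X (PUp k L) ?_ Set.univ ?_ ?_ ?_ M hM (Set.subset_univ _)
  · -- invariance under isomorphism
    rintro M N ⟨e⟩ hPM Q hQ
    rcases hPM Q (isHilbPoly_of_iso k e.symm hQ) with h | ⟨y, hy, hc⟩
    · exact Or.inl h
    · exact Or.inr ⟨y, by rw [← support_eq_of_iso e]; exact hy, hc⟩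
  · -- zero
    intro M hz Q hQ
    exact Or.inl (isHilbPoly_unique k hQ (isHilbPoly_zero k hz))
  · -- extensions
    intro S hS h1 h2 h3 _ hP1 hP3 Q hQ
    obtain ⟨Q1, hQ1⟩ := exists_isHilbPoly k X hL S.X₁ h1
    obtain ⟨Q3, hQ3⟩ := exists_isHilbPoly k X hL S.X₃ h3
    have hsum : Q = Q1 + Q3 :=
      isHilbPoly_unique k hQ (isHilbPoly_add k hL.1 S hS h1 h2 h3 hQ1 hQ3)
    haveI := hS.mono_f
    haveI := hS.epi_g
    by_cases hQ0 : Q = 0
    · exact Or.inl hQ0
    right
    have hdeg : Q.natDegree ≤ max Q1.natDegree Q3.natDegree := by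
      rw [hsum]; exact natDegree_add_le _ _
    rcases hP1 Q1 hQ1 with h10 | ⟨y1, hy1, hc1⟩
    · rcases hP3 Q3 hQ3 with h30 | ⟨y3, hy3, hc3⟩
      · exfalso; apply hQ0; rw [hsum, h10, h30, add_zero]
      · refine ⟨y3, support_subset_of_epi S.g hy3, hc3.of_le ?_⟩
        rw [hsum, h10, zero_add]
    · rcases hP3 Q3 hQ3 with h30 | ⟨y3, hy3, hc3⟩
      · refine ⟨y1, support_subset_of_mono S.f hy1, hc1.of_le ?_⟩
        rw [hsum, h30, add_zero]
      · rcases le_total Q1.natDegree Q3.natDegree with hle | hle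
        · exact ⟨y3, support_subset_of_epi S.g hy3,
            hc3.of_le (hdeg.trans (by rw [max_eq_right hle]))⟩
        · exact ⟨y1, support_subset_of_mono S.f hy1,
            hc1.of_le (hdeg.trans (by rw [max_eq_left hle]))⟩
  · -- the key step
    intro Z hZc hZirr _ IH F hF hFZ _ Q hQ
    by_cases hZ : CohB1.support F = Z
    swap
    · exact IH F hF hFZ hZ Q hQ
    by_cases hQ0 : Q = 0
    · exact Or.inl hQ0
    right
    obtain ⟨ξ, hξ⟩ := QuasiSober.sober hZirr hZc
    have hξF : ξ ∈ CohB1.support F := by rw [hZ]; exact hξ.mem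
    by_cases hn : Q.natDegree = 0
    · exact ⟨ξ, hξF, by rw [hn]; trivial⟩
    obtain ⟨a, hapos, s, hξs⟩ : ∃ a : ℕ, 0 < a ∧
        ∃ s : Coh.structureModule X ⟶ CohB1.tensorPow L a, ξ ∈ CohB1.genLocus _ s := by
      obtain ⟨a', s, hξs, -⟩ := hL.2.2 ξ
      exact ⟨a' + 1, Nat.succ_pos _, s, hξs⟩
    have hN : PicF.IsInvertible (CohB1.tensorPow L a) := isInvertible_tensorPow hL.1 a
    have hFa : Coh.IsCoh (CohB1.tensorMod F (CohB1.tensorPow L a)) := isCoh_tensor_inv X hN hF
    let φ : F ⟶ CohB1.tensorMod F (CohB1.tensorPow L a) := mulS s F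
    have hK : Coh.IsCoh (kernel φ) := isCoh_kernel φ hF hFa.1
    have hC : Coh.IsCoh (cokernel φ) := isCoh_cokernel φ hF.1 hFa
    obtain ⟨QK, hQK⟩ := exists_isHilbPoly k X hL _ hK
    obtain ⟨QC, hQC⟩ := exists_isHilbPoly k X hL _ hC
    have hQa : ShStab.IsHilbPoly k X L (CohB1.tensorMod F (CohB1.tensorPow L a))
        (taylor (a : ℚ) Q) := by
      rw [taylor_apply]; exact isHilbPoly_twist k hQ a
    have h4 := isHilbPoly_four k hL.1 φ hF hFa hQ hQa hQK hQC
    have ha0 : (a : ℚ) ≠ 0 := by exact_mod_cast hapos.ne'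
    obtain ⟨hd, hne⟩ := natDegree_taylor_sub Q a ha0 (Nat.one_le_iff_ne_zero.2 hn)
    have hKZ : CohB1.support (kernel φ) ⊆ Z := (support_subset_of_mono (kernel.ι φ)).trans hFZ
    have hCZ : CohB1.support (cokernel φ) ⊆ Z :=
      (support_subset_of_epi (cokernel.π φ)).trans (by rw [support_tensor_inv hN hF]; exact hFZ)
    have hξK : ξ ∉ CohB1.support (kernel φ) := notMem_support_kernel_mulS s F ξ hξs
    have hξC : ξ ∉ CohB1.support (cokernel φ) := notMem_support_cokernel_mulS s F ξ hξs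
    have main : ∀ (G : X.Modules) (hG : Coh.IsCoh G) (QG : ℚ[X]),
        ShStab.IsHilbPoly k X L G QG → CohB1.support G ⊆ Z → ξ ∉ CohB1.support G → QG ≠ 0 →
        Q.natDegree - 1 ≤ QG.natDegree → ∃ y ∈ CohB1.support F, Ch Q.natDegree y := by
      intro G hG QG hQG hGZ hξG hQG0 hle
      have hne' : CohB1.support G ≠ Z := fun h => hξG (h ▸ hξ.mem)
      rcases IH G hG hGZ hne' QG hQG with h | ⟨y', hy', hc'⟩
      · exact absurd h hQG0
      haveI := hG.1
      haveI := hG.2
      have hcl : IsClosed (CohB1.support G) := Groth.Agent.Lib.Helper1.MaxAnnInt.isClosed_support G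
      refine ⟨ξ, hξF, ?_⟩
      have h1 : ξ ⤳ y' := hξ.specializes (hGZ hy')
      have h2 : ¬ y' ⤳ ξ := fun h => hξG (h.mem_closed hcl hy')
      have := Ch.succ h1 h2 (hc'.of_le hle)
      rwa [Nat.sub_add_cancel (Nat.one_le_iff_ne_zero.2 hn)] at this
    by_cases hK0 : QK = 0
    · have hQC' : QC = taylor (a : ℚ) Q - Q := by rw [h4, hK0, sub_zero]
      exact main _ hC QC hQC hCZ hξC (by rw [hQC']; exact hne) (by rw [hQC']; omega)
    by_cases hC0 : QC = 0
    · have hQK' : QK = -(taylor (a : ℚ) Q - Q) := by rw [h4, hC0]; ring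
      exact main _ hK QK hQK hKZ hξK hK0 (by rw [hQK', natDegree_neg]; omega)
    have hmax : (taylor (a : ℚ) Q - Q).natDegree ≤ max QC.natDegree QK.natDegree := by
      rw [h4]; exact natDegree_sub_le _ _
    rcases le_total QC.natDegree QK.natDegree with hle | hle
    · exact main _ hK QK hQK hKZ hξK hK0 (by rw [max_eq_right hle] at hmax; omega)
    · exact main _ hC QC hQC hCZ hξC hC0 (by rw [max_eq_left hle] at hmax; omega)

/-- **The degree of the Hilbert polynomial is at most the dimension of the support.** -/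
theorem natDegree_le_dim {L : X.Modules} (hL : CohB1.IsAmple L) (E : X.Modules)
    (hE : Coh.IsCoh E) {Q : ℚ[X]} (hQ : ShStab.IsHilbPoly k X L E Q) (hQ0 : Q ≠ 0) :
    (Q.natDegree : WithBot ℕ∞) ≤ topologicalKrullDim (CohB1.support E) := by
  rcases pUp k hL E hE Q hQ with h | ⟨y, hy, hc⟩
  · exact absurd h hQ0
  haveI := hE.1
  haveI := hE.2
  exact le_dim_of_Ch_mem (Groth.Agent.Lib.Helper1.MaxAnnInt.isClosed_support E) hy hc

theorem coeff_eq_zero_of_dim_lt {L : X.Modules} (hL : CohB1.IsAmple L) (E : X.Modules)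
    (hE : Coh.IsCoh E) {Q : ℚ[X]} (hQ : ShStab.IsHilbPoly k X L E Q) (d : ℕ)
    (hd : topologicalKrullDim (CohB1.support E) < (d : WithBot ℕ∞)) (j : ℕ) (hj : d ≤ j) :
    Q.coeff j = 0 := by
  by_cases hQ0 : Q = 0
  · rw [hQ0, coeff_zero]
  have h1 := (natDegree_le_dim k hL E hE hQ hQ0).trans_lt hd
  have h2 : Q.natDegree < d := by exact_mod_cast h1
  exact coeff_eq_zero_of_natDegree_lt (by omega)

end Groth.Agent.Lib.Helper23.HilbP
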