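import Mathlib
import Groth.Prelude
import Groth.Agent.Lib.Helper23.HilbPH
import Groth.Agent.Lib.Helper17.DevTest

/-!
# Sections of a power of an ample module vanishing on a closed set but not at a given point (helper23)
-/

set_option autoImplicit false
set_option linter.unusedSectionVars false
set_option linter.style.haveILetI false
universe u
open CategoryTheory CategoryTheory.Limits AlgebraicGeometry TopologicalSpace Opposite
open Scheme.Modules Polynomial

noncomputable section

namespace Groth.Agent.Lib.Helper23.HilbP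

open Groth.Agent.Lib.Helper3
open QCSec InvGen InvTensor InvMonoidal
open Groth.Agent.Lib.Helper7 Groth.Agent.Lib.Helper17 Groth.Agent.Lib.Helper17.DevBasic
open Groth.Agent.Lib.Helper13

variable (k : Type u) [Field k] {X : Scheme.{u}} [X.Over (Spec (CommRingCat.of k))]
  [IsProper (X ↘ Spec (CommRingCat.of k))]

include k in
/-- for an ample `L`, a closed set `Z'` and a point `ξ ∉ Z'` there is a section of a positive power
of `L` which generates at `ξ` and generates nowhere on `Z'`. -/
theorem exists_section_avoiding {L : X.Modules} (hL : CohB1.IsAmple L) (Z' : Set X)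
    (hZ' : IsClosed Z') (ξ : X) (hξ : ξ ∉ Z') :
    ∃ a : ℕ, 0 < a ∧ ∃ s : Coh.structureModule X ⟶ CohB1.tensorPow L a,
      ξ ∈ CohB1.genLocus _ s ∧ ∀ z ∈ Z', z ∉ CohB1.genLocus _ s := by
  haveI := isNoetherian_of_isProper k X
  haveI : JacobsonSpace X := LocallyOfFiniteType.jacobsonSpace (X ↘ Spec (CommRingCat.of k))
  -- a closed point in `closure {ξ} \ Z'`
  have hlc : IsLocallyClosed (closure {ξ} ∩ Z'ᶜ) :=
    isClosed_closure.isLocallyClosed.inter hZ'.isOpen_compl.isLocallyClosed
  have hne : (closure {ξ} ∩ Z'ᶜ).Nonempty := ⟨ξ, subset_closure rfl, hξ⟩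
  obtain ⟨x, ⟨hxξ, hxZ'⟩, hxcl⟩ := nonempty_inter_closedPoints hne hlc
  have hxc : IsClosed ({x} : Set X) := mem_closedPoints_iff.1 hxcl
  have hξx : ξ ⤳ x := specializes_iff_mem_closure.2 hxξ
  -- a trivialising neighbourhood of `x` missing `Z'`
  obtain ⟨U, e, -, hxU, hUW, hg⟩ :=
    exists_affine_isGen_le hL.1 x ⟨Z'ᶜ, hZ'.isOpen_compl⟩ hxZ'
  -- the closed subscheme on `Uᶜ ∪ {x}`
  let T : Closeds X := ⟨(U : Set X)ᶜ ∪ {x}, U.2.isClosed_compl.union hxc⟩
  let J := Scheme.IdealSheafData.vanishingIdeal T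
  let i := J.subschemeι
  have hrange : Set.range i = (U : Set X)ᶜ ∪ {x} := by
    rw [Scheme.IdealSheafData.range_subschemeι, Scheme.IdealSheafData.coe_support_vanishingIdeal]
    rfl
  have hO : Coh.IsCoh (Coh.structureModule X) :=
    ⟨InvCoh.isQuasicoherent_of_isInvertible (isInvertible_structureModule X),
      InvCoh.isFiniteType_of_isInvertible (isInvertible_structureModule X)⟩
  have hPq : ((Scheme.Modules.pushforward i).obj
      (Coh.structureModule J.subscheme)).IsQuasicoherent := QCSec.isQuasicoherent_pushforward i _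
  have hI : Coh.IsCoh (kernel (SerreCrit2.toPush i)) := isCoh_kernel _ hO hPq
  obtain ⟨n₀, hn₀⟩ := AmpleSerre.serre_vanishing_of_isAmple k (X ↘ Spec (CommRingCat.of k)) hL _ hI
  have hga : IsGen (CohB1.tensorPow L (n₀ + 1)) U (lpow L e (n₀ + 1)) := isGen_lpow hg _
  obtain ⟨s, hxs, hsU⟩ := AmpleH1.exists_section (isInvertible_tensorPow hL.1 (n₀ + 1)) hga x hxc hxU
    i hrange (hn₀ (n₀ + 1) (Nat.le_succ _) 1 Nat.one_pos)
  refine ⟨n₀ + 1, Nat.succ_pos _, s, ?_, ?_⟩
  · exact hξx.mem_open (CohB1.genLocus _ s).2 hxs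
  · intro z hz hzs
    exact hUW (hsU hzs) hz

end Groth.Agent.Lib.Helper23.HilbP
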