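import Mathlib
import Groth.Prelude
import Groth.Agent.Lib.Helper23.HilbPI
import Groth.Agent.Lib.Helper3.AffExt
import Groth.Agent.Lib.Helper3.ModGlue

/-!
# The structure sheaf of an integral closed subscheme as a test module (helper23)
-/

set_option autoImplicit false
set_option linter.unusedSectionVars false
set_option linter.style.haveILetI false
universe u
open CategoryTheory CategoryTheory.Limits AlgebraicGeometry TopologicalSpace Opposite
open Scheme.Modules Polynomial

noncomputable section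

namespace Groth.Agent.Lib.Helper23.HilbP

open Groth.Agent.Lib.Helper3
open QCSec InvGen InvTensor InvMonoidal
open Groth.Agent.Lib.Helper7 Groth.Agent.Lib.Helper17 Groth.Agent.Lib.Helper17.DevBasic
open Groth.Agent.Lib.Helper17.DevTest Groth.Agent.Lib.Helper17.DevSplit

variable {X : Scheme.{u}}

/-- a morphism `O_X ⟶ M` killing the ideal `J` factors through `O_X / J`. -/
theorem descA (J : X.IdealSheafData) {M : X.Modules} (f : Coh.structureModule X ⟶ M)
    (h : ∀ (U : X.affineOpens) (a : Γ(X, U.1)), a ∈ J.ideal U → f.app U.1 (ofFun U.1 a) = 0) :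
    ∃ g : A J ⟶ M, uu J ≫ g = f := by
  have hf : kernel.ι (uu J) ≫ f = 0 := by
    apply AffExt.hom_ext_of_affine
    intro U κ
    change f.app U.1 ((kernel.ι (uu J)).app U.1 κ) = 0
    set a : Γ(X, U.1) := toFun U.1 ((kernel.ι (uu J)).app U.1 κ) with ha
    have h1 : (uu J).app U.1 (ofFun U.1 a) = 0 := by
      change (kernel.ι (uu J) ≫ uu J).app U.1 κ = 0
      rw [kernel.condition]
      rfl
    exact h ⟨U.1, U.2⟩ a ((uu_ofFun_eq_zero_iff J ⟨U.1, U.2⟩ a).1 h1)
  let hc := Abelian.epiIsCokernelOfKernel _ (kernelIsKernel (uu J))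
  exact ⟨hc.desc (CokernelCofork.ofπ f hf), hc.fac _ WalkingParallelPair.one⟩

section Generic

variable (Z : Closeds X) (ξ : X) (hξ : closure {ξ} = (Z : Set X))

local notation "JZ" => Scheme.IdealSheafData.vanishingIdeal Z

include hξ

/-- multiplication by a section generating at the generic point is injective on `O_Z`. -/
theorem mono_mulS_A [IsLocallyNoetherian X] {N : X.Modules} (hN : PicF.IsInvertible N)
    (s : Coh.structureModule X ⟶ N) (hs : ξ ∈ CohB1.genLocus N s) : Mono (mulS s (A JZ)) := by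
  have hA : Coh.IsCoh (A JZ) := isCoh_A JZ
  have hK : Coh.IsCoh (kernel (mulS s (A JZ))) :=
    isCoh_kernel _ hA (isCoh_tensor_inv X hN hA).1
  have hz : IsZero (kernel (mulS s (A JZ))) :=
    isZero_of_mono_of_notMem Z ξ hξ hK.1 (kernel.ι _) (notMem_support_kernel_mulS s _ ξ hs)
  exact Preadditive.mono_of_kernel_zero (hz.eq_of_src _ _)

/-- multiplication by a section vanishing at every point of `Z` is zero on `O_Z`. -/
theorem mulS_A_eq_zero {N : X.Modules} (hN : PicF.IsInvertible N)
    (s : Coh.structureModule X ⟶ N) (hs : ∀ z ∈ (Z : Set X), z ∉ CohB1.genLocus N s) :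
    mulS s (A JZ) = 0 := by
  refine ModGlue.hom_ext_of_small (fun V => IsAffineOpen V ∧ ∃ e : Γ(N, V), IsGen N V e) ?_ _ _ ?_
  · intro W x hxW
    obtain ⟨U, e, hU, hxU, hUW, hg⟩ := exists_affine_isGen_le hN x W hxW
    exact ⟨U, ⟨hU, e, hg⟩, hxU, hUW⟩
  · rintro V ⟨hV, e, hg⟩ m
    rw [mulS_app]
    change _ = (0 : Γ(CohB1.tensorMod (A JZ) N, V))
    by_cases hξV : ξ ∈ V
    · obtain ⟨a, rfl⟩ := exists_smul_one JZ ⟨V, hV⟩ m
      obtain ⟨f, hf⟩ := hg.self.exists_coord (sec s V)
      have hfJ : f ∈ (JZ).ideal ⟨V, hV⟩ := by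
        by_contra hcon
        have hu := (isUnit_germ_iff Z ξ hξ ⟨V, hV⟩ hξV f).2 hcon
        have h1 : ξ ∈ X.basicOpen f := (Scheme.mem_basicOpen X f ξ hξV).2 hu
        rw [← genLocus_inf_eq_basicOpen s hg f hf.symm] at h1
        exact hs ξ (mem_Z Z ξ hξ) h1.1
      rw [← hf, tm_smul_right, ← tm_smul_left, smul_smul]
      have h0 : (f * a) • one JZ V = 0 :=
        (smul_one_eq_zero_iff JZ ⟨V, hV⟩ (f * a)).2 (Ideal.mul_mem_right _ _ hfJ)
      rw [h0, tm_zero_left]
    · have hdisj : Disjoint (V : Set X) (CohB1.support (A JZ)) := by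
        rw [support_A, Scheme.IdealSheafData.coe_support_vanishingIdeal, Set.disjoint_left]
        intro z hzV hzZ
        have hsp : ξ ⤳ z := specializes_iff_mem_closure.2 (hξ.symm ▸ hzZ)
        exact hξV (hsp.mem_open V.2 hzV)
      haveI := vanOff_support (A JZ) V hdisj
      rw [Subsingleton.elim m 0, tm_zero_left]

/-- a coherent module killed by the ideal of `Z`, nonzero at the generic point and spanned by
global sections contains a copy of `O_Z`. -/
theorem exists_mono_A [IsLocallyNoetherian X] (G : X.Modules) (hG : Coh.IsCoh G)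
    (hkill : ClSub.KilledByIdeal JZ G) (hξG : ξ ∈ CohB1.support G) (hsp : GlobGen.IsSpanned G) :
    ∃ t : A JZ ⟶ G, Mono t := by
  haveI := hG.1
  obtain ⟨I, σ, hσ⟩ := hsp
  obtain ⟨U, hU, hξU, hspan⟩ := hσ ξ
  let p := hU.primeIdealOf ⟨ξ, hξU⟩
  have hp : p ∈ Module.support Γ(X, U) Γ(G, U) :=
    (SuppTensor.mem_support_iff_affine G hU ξ hξU).1 hξG
  obtain ⟨m₀, hm₀⟩ := Module.mem_support_iff_exists_annihilator.1 hp
  -- some generator has annihilator inside `p`
  have hex : ∃ i, ∀ b : Γ(X, U), b • res G (le_top : U ≤ ⊤) (σ i) = 0 → b ∈ p.asIdeal := by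
    by_contra hcon
    push_neg at hcon
    let S : Submodule Γ(X, U) Γ(G, U) :=
      { carrier := {m | ∃ b : Γ(X, U), b ∉ p.asIdeal ∧ b • m = 0}
        add_mem' := by
          rintro m m' ⟨b, hb, hbm⟩ ⟨b', hb', hbm'⟩
          refine ⟨b * b', fun h => ?_, ?_⟩
          · rcases p.2.mem_or_mem h with h | h
            · exact hb h
            · exact hb' h
          · have e1 : (b * b') • m = 0 := by rw [mul_comm, mul_smul, hbm, smul_zero]
            have e2 : (b * b') • m' = 0 := by rw [mul_smul, hbm', smul_zero]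
            rw [smul_add, e1, e2, add_zero]
        zero_mem' := ⟨1, fun h => p.2.ne_top ((Ideal.eq_top_iff_one _).2 h), smul_zero _⟩
        smul_mem' := by
          rintro c m ⟨b, hb, hbm⟩
          exact ⟨b, hb, by rw [smul_comm, hbm, smul_zero]⟩ }
    have hS : (⊤ : Submodule Γ(X, U) Γ(G, U)) ≤ S := by
      rw [← hspan, Submodule.span_le]
      rintro _ ⟨i, rfl⟩
      obtain ⟨b, hb0, hb⟩ := hcon i
      exact ⟨b, hb, hb0⟩
    obtain ⟨b, hb, hbm⟩ := hS (Submodule.mem_top : m₀ ∈ ⊤)
    apply hb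
    apply hm₀
    rw [Submodule.mem_annihilator_span_singleton]
    exact hbm
  obtain ⟨i, hi⟩ := hex
  let t : Coh.structureModule X ⟶ G := InvAmple.globalHom G (σ i)
  have htapp : ∀ (V : X.Opens) (a : Γ(X, V)),
      t.app V (ofFun V a) = a • res G (le_top : V ≤ ⊤) (σ i) := by
    intro V a
    rw [app_eq_smul_sec, InvAmple.sec_globalHom]
  obtain ⟨g, hg⟩ := descA JZ t (fun V a ha => by
    rw [htapp]
    exact hkill V a ha _)
  refine ⟨g, ?_⟩
  have hA : Coh.IsCoh (A JZ) := isCoh_A JZ
  have hK : Coh.IsCoh (kernel g) := isCoh_kernel g hA hG.1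
  haveI := hK.1
  have hsub : Subsingleton Γ(kernel g, U) := by
    refine ⟨fun κ κ' => ?_⟩
    have key : ∀ κ : Γ(kernel g, U), κ = 0 := by
      intro κ
      apply (QCProps.mono_iff_app_injective (kernel.ι g)).mp inferInstance U
      rw [map_zero]
      obtain ⟨a, ha⟩ := exists_smul_one JZ ⟨U, hU⟩ ((kernel.ι g).app U κ)
      have h1 : g.app U ((kernel.ι g).app U κ) = 0 := by
        change (kernel.ι g ≫ g).app U κ = 0
        rw [kernel.condition]
        rfl
      have h2 : g.app U (a • one JZ U) = a • res G (le_top : U ≤ ⊤) (σ i) := by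
        rw [← uu_ofFun, ← htapp, ← hg]
        rfl
      rw [ha, h2] at h1
      have h3 : a ∈ (JZ).ideal ⟨U, hU⟩ := by
        rw [vanishingIdeal_ideal_eq Z ξ hξ ⟨U, hU⟩ hξU]
        exact hi a h1
      rw [ha]
      exact (smul_one_eq_zero_iff JZ ⟨U, hU⟩ a).2 h3
    rw [key κ, key κ']
  have hξK : ξ ∉ CohB1.support (kernel g) := by
    rw [SuppTensor.mem_support_iff_affine (kernel g) hU ξ hξU, Module.support_eq_empty]
    exact Set.notMem_empty _
  have hz : IsZero (kernel g) :=
    isZero_of_mono_of_notMem Z ξ hξ hK.1 (kernel.ι g) hξK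
  exact Preadditive.mono_of_kernel_zero (hz.eq_of_src _ _)

end Generic

/-- for closed sets `Z' ⊆ Z` the module `O_{Z'}` is a quotient of `O_Z`. -/
theorem exists_epi_A_of_le (Z Z' : Closeds X) (h : Z' ≤ Z) :
    ∃ g : A (Scheme.IdealSheafData.vanishingIdeal Z) ⟶ A (Scheme.IdealSheafData.vanishingIdeal Z'),
      Epi g := by
  have hle := Scheme.IdealSheafData.vanishingIdeal_antimono h
  obtain ⟨g, hg⟩ := descA (Scheme.IdealSheafData.vanishingIdeal Z)
    (uu (Scheme.IdealSheafData.vanishingIdeal Z')) (fun U a ha =>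
      (uu_ofFun_eq_zero_iff _ U a).2 ((Scheme.IdealSheafData.le_def.1 hle) U ha))
  refine ⟨g, ?_⟩
  haveI : Epi (uu (Scheme.IdealSheafData.vanishingIdeal Z) ≫ g) := by
    rw [hg]; infer_instance
  exact epi_of_epi (uu (Scheme.IdealSheafData.vanishingIdeal Z)) g

end Groth.Agent.Lib.Helper23.HilbP
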