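import Mathlib
import Groth.Prelude
import Groth.Agent.Lib.Helper23.HilbPJ

/-!
# The degree of the Hilbert polynomial is at least the dimension of the support (helper23)
-/

set_option autoImplicit false
set_option linter.unusedSectionVars false
set_option linter.style.haveILetI false
universe u
open CategoryTheory CategoryTheory.Limits AlgebraicGeometry TopologicalSpace Opposite
open Scheme.Modules Polynomial

noncomputable section

namespace Groth.Agent.Lib.Helper23.HilbP

open Groth.Agent.Lib.Helper3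
open QCSec InvGen InvTensor InvMonoidal
open Groth.Agent.Lib.Helper7 Groth.Agent.Lib.Helper17 Groth.Agent.Lib.Helper17.DevBasic
open Groth.Agent.Lib.Helper17.DevTest Groth.Agent.Lib.Helper17.DevSplit

section Kill

variable {X : Scheme.{u}}

/-- tensoring with an invertible module preserves being killed by an ideal. -/
theorem killed_tensor_inv (J : X.IdealSheafData) {F N : X.Modules} (hN : PicF.IsInvertible N)
    (hF : ClSub.KilledByIdeal J F) : ClSub.KilledByIdeal J (CohB1.tensorMod F N) := by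
  intro U a ha m
  change a • (show Γ(CohB1.tensorMod F N, U.1) from m) = 0
  have hloc : ∀ x : U.1, ∃ V : X.Opens, ∃ hVU : V ≤ U.1, x.1 ∈ V ∧
      res (CohB1.tensorMod F N) hVU (a • (show Γ(CohB1.tensorMod F N, U.1) from m)) =
        res (CohB1.tensorMod F N) hVU 0 := by
    intro x
    obtain ⟨V, e, hV, hxV, hVU, hg⟩ := exists_affine_isGen_le hN x.1 U.1 x.2
    refine ⟨V, hVU, hxV, ?_⟩
    obtain ⟨t, ht⟩ := tm_gen_surjective F N hg V le_rfl
      (res (CohB1.tensorMod F N) hVU (show Γ(CohB1.tensorMod F N, U.1) from m))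
    simp only at ht
    have hz : res (CohB1.tensorMod F N) hVU (0 : Γ(CohB1.tensorMod F N, U.1)) = 0 := map_zero _
    rw [res_smul, ← ht, ← tm_smul_left, hz]
    have h1 : rres X hVU a ∈ J.ideal ⟨V, hV⟩ :=
      J.ideal_le_comap_ideal (U := ⟨V, hV⟩) (V := U) hVU ha
    have h2 : rres X hVU a • t = 0 := hF ⟨V, hV⟩ _ h1 t
    rw [h2, tm_zero_left]
  choose W hWU hxW hres using hloc
  exact sec_eq_of_locally_eq (CohB1.tensorMod F N) W U.1 hWU
    (fun x hx => TopologicalSpace.Opens.mem_iSup.2 ⟨⟨x, hx⟩, hxW ⟨x, hx⟩⟩) _ _ hres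

end Kill

variable (k : Type u) [Field k] {X : Scheme.{u}} [X.Over (Spec (CommRingCat.of k))]
  [IsProper (X ↘ Spec (CommRingCat.of k))]

/-- the Hilbert polynomial of a nonzero coherent module has positive leading coefficient. -/
theorem leadingCoeff_pos {L : X.Modules} (hL : CohB1.IsAmple L) (E : X.Modules)
    (hE : Coh.IsCoh E) (h0 : ¬ IsZero E) {Q : ℚ[X]} (hQ : ShStab.IsHilbPoly k X L E Q) :
    0 < Q.leadingCoeff := by
  obtain ⟨N, hN⟩ := eventually_pos k X hL E hE h0
  refine leadingCoeff_pos_of_eventually Q N fun m hm => ?_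
  rw [← hQ m]
  exact_mod_cast hN m hm

theorem eq_zero_or_leadingCoeff_pos {L : X.Modules} (hL : CohB1.IsAmple L) (E : X.Modules)
    (hE : Coh.IsCoh E) {Q : ℚ[X]} (hQ : ShStab.IsHilbPoly k X L E Q) :
    Q = 0 ∨ 0 < Q.leadingCoeff := by
  by_cases h0 : IsZero E
  · exact Or.inl (isHilbPoly_unique k hQ (isHilbPoly_zero k h0))
  · exact Or.inr (leadingCoeff_pos k hL E hE h0 hQ)

lemma not_isZero_of_mem_support {M : X.Modules} {y : X} (hy : y ∈ CohB1.support M) :
    ¬ IsZero M := fun h => by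
  rw [support_eq_empty_of_isZero h] at hy
  exact hy

lemma Ch.of_inseparable {Y : Type*} [TopologicalSpace Y] {ξ y : Y} (h1 : ξ ⤳ y) (h2 : y ⤳ ξ) :
    ∀ {n : ℕ}, Ch n y → Ch n ξ
  | 0, _ => trivial
  | _ + 1, ⟨y', h3, h4, h5⟩ => ⟨y', h1.trans h3, fun h => h4 (h.trans h1), h5⟩

/-- the property: every chain of strict specializations starting in the support is at most as long
as the degree of the Hilbert polynomial -/
def PLow (L M : X.Modules) : Prop :=
  ∀ Q : ℚ[X], ShStab.IsHilbPoly k X L M Q → ∀ y ∈ CohB1.support M, ∀ n : ℕ, Ch n y →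
    n ≤ Q.natDegree

set_option maxHeartbeats 800000 in
theorem pLow {L : X.Modules} (hL : CohB1.IsAmple L) (M : X.Modules) (hM : Coh.IsCoh M) :
    PLow k L M := by
  haveI := isNoetherian_of_isProper k X
  haveI : CompactSpace X := T2.compactSpace_of_isProper k X
  haveI : QuasiSeparatedSpace X := T2.quasiSeparatedSpace_of_isProper k X
  refine DevEngine.engine X (PLow k L) ?_ Set.univ ?_ ?_ ?_ M hM (Set.subset_univ _)
  · rintro M N ⟨e⟩ hPM Q hQ y hy n hc
    exact hPM Q (isHilbPoly_of_iso k e.symm hQ) y (by rw [support_eq_of_iso e]; exact hy) n hc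
  · intro M hz Q hQ y hy
    rw [support_eq_empty_of_isZero hz] at hy
    exact hy.elim
  · intro S hS h1 h2 h3 _ hP1 hP3 Q hQ y hy n hc
    obtain ⟨Q1, hQ1⟩ := exists_isHilbPoly k X hL S.X₁ h1
    obtain ⟨Q3, hQ3⟩ := exists_isHilbPoly k X hL S.X₃ h3
    have hsum : Q = Q1 + Q3 :=
      isHilbPoly_unique k hQ (isHilbPoly_add k hL.1 S hS h1 h2 h3 hQ1 hQ3)
    rw [hsum]
    rcases support_subset_union S hS hy with h | h
    · exact (hP1 Q1 hQ1 y h n hc).trans (natDegree_le_add_of_pos Q1 Q3
        (leadingCoeff_pos k hL S.X₁ h1 (not_isZero_of_mem_support h) hQ1)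
        (eq_zero_or_leadingCoeff_pos k hL S.X₃ h3 hQ3))
    · exact (hP3 Q3 hQ3 y h n hc).trans (natDegree_le_add_of_pos' Q1 Q3
        (leadingCoeff_pos k hL S.X₃ h3 (not_isZero_of_mem_support h) hQ3)
        (eq_zero_or_leadingCoeff_pos k hL S.X₁ h1 hQ1))
  · intro Z hZc hZirr _ IH F hF hFZ hkill Q hQ y hy n hc
    by_cases hZ : CohB1.support F = Z
    swap
    · exact IH F hF hFZ hZ Q hQ y hy n hc
    obtain ⟨ξ, hξ⟩ := QuasiSober.sober hZirr hZc
    have hξF : ξ ∈ CohB1.support F := by rw [hZ]; exact hξ.mem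
    suffices key : ∀ n : ℕ, Ch n ξ → n ≤ Q.natDegree by
      have hξy : ξ ⤳ y := hξ.specializes (hFZ hy)
      by_cases hyξ : y ⤳ ξ
      · exact key n (Ch.of_inseparable hξy hyξ hc)
      · exact (Nat.le_succ n).trans (key (n + 1) (Ch.succ hξy hyξ hc))
    intro n hcξ
    rcases n with _ | n'
    · exact Nat.zero_le _
    obtain ⟨y', hξy', hy'ξ, hc'⟩ := hcξ
    let Zc : Closeds X := ⟨Z, hZc⟩
    have hξ' : closure {ξ} = (Zc : Set X) := hξ.def
    let Z' : Closeds X := ⟨closure {y'}, isClosed_closure⟩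
    have hy'Z' : closure {y'} = (Z' : Set X) := rfl
    have hξZ' : ξ ∉ (Z' : Set X) := fun h => hy'ξ (specializes_iff_mem_closure.2 h)
    obtain ⟨a, hapos, s, hξs, hsZ'⟩ := exists_section_avoiding k hL (Z' : Set X) Z'.isClosed ξ hξZ'
    have hN : PicF.IsInvertible (CohB1.tensorPow L a) := isInvertible_tensorPow hL.1 a
    have hOZ : Coh.IsCoh (A (Scheme.IdealSheafData.vanishingIdeal Zc)) := isCoh_A _
    have hOZ' : Coh.IsCoh (A (Scheme.IdealSheafData.vanishingIdeal Z')) := isCoh_A _
    haveI hmono : Mono (mulS s (A (Scheme.IdealSheafData.vanishingIdeal Zc))) :=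
      mono_mulS_A Zc ξ hξ' hN s hξs
    have hOZa := isCoh_tensor_inv X hN hOZ
    have hC : Coh.IsCoh (cokernel (mulS s (A (Scheme.IdealSheafData.vanishingIdeal Zc)))) :=
      isCoh_cokernel _ hOZ.1 hOZa
    obtain ⟨QZ, hQZ⟩ := exists_isHilbPoly k X hL _ hOZ
    have hQZa : ShStab.IsHilbPoly k X L
        (CohB1.tensorMod (A (Scheme.IdealSheafData.vanishingIdeal Zc)) (CohB1.tensorPow L a))
        (taylor (a : ℚ) QZ) := by
      rw [taylor_apply]; exact isHilbPoly_twist k hQZ a
    have hQC := isHilbPoly_X₃ k hL.1 _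
      (DevKey.shortExact_of_mono (mulS s (A (Scheme.IdealSheafData.vanishingIdeal Zc))))
      hOZ hOZa hC hQZ hQZa
    -- `y'` lies in the support of the cokernel
    have hZ'le : Z' ≤ Zc := by
      change closure {y'} ⊆ Z
      exact hZc.closure_subset_iff.2 (Set.singleton_subset_iff.2
        (hξ.def ▸ specializes_iff_mem_closure.1 hξy'))
    obtain ⟨g, hgepi⟩ := exists_epi_A_of_le Zc Z' hZ'le
    have h0 : mulS s (A (Scheme.IdealSheafData.vanishingIdeal Zc)) ≫
        tensorMap g (𝟙 (CohB1.tensorPow L a)) = 0 := by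
      rw [mulS_naturality, mulS_A_eq_zero Z' y' hy'Z' hN s hsZ', Limits.comp_zero]
    let d := cokernel.desc (mulS s (A (Scheme.IdealSheafData.vanishingIdeal Zc)))
      (tensorMap g (𝟙 (CohB1.tensorPow L a))) h0
    haveI : Epi (tensorMap g (𝟙 (CohB1.tensorPow L a))) :=
      Groth.Agent.Lib.Helper23.Twist.epi_tw hN g
    haveI : Epi (cokernel.π (mulS s (A (Scheme.IdealSheafData.vanishingIdeal Zc))) ≫ d) := by
      rw [cokernel.π_desc]; infer_instance
    haveI : Epi d := epi_of_epi (cokernel.π (mulS s (A (Scheme.IdealSheafData.vanishingIdeal Zc)))) d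
    have hy'C : y' ∈ CohB1.support
        (cokernel (mulS s (A (Scheme.IdealSheafData.vanishingIdeal Zc)))) := by
      apply support_subset_of_epi d
      rw [support_tensor_inv hN hOZ', support_A, Scheme.IdealSheafData.coe_support_vanishingIdeal]
      exact subset_closure rfl
    have hξC : ξ ∉ CohB1.support
        (cokernel (mulS s (A (Scheme.IdealSheafData.vanishingIdeal Zc)))) :=
      notMem_support_cokernel_mulS s _ ξ hξs
    have hCZ : CohB1.support
        (cokernel (mulS s (A (Scheme.IdealSheafData.vanishingIdeal Zc)))) ⊆ Z := by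
      refine (support_subset_of_epi (cokernel.π _)).trans ?_
      rw [support_tensor_inv hN hOZ, support_A, Scheme.IdealSheafData.coe_support_vanishingIdeal]
      exact subset_rfl
    have hCne : CohB1.support
        (cokernel (mulS s (A (Scheme.IdealSheafData.vanishingIdeal Zc)))) ≠ Z :=
      fun h => hξC (h ▸ hξ.mem)
    have hIH := IH _ hC hCZ hCne _ hQC y' hy'C n' hc'
    have hCpos := leadingCoeff_pos k hL _ hC (not_isZero_of_mem_support hy'C) hQC
    have hQZdeg : 1 ≤ QZ.natDegree := by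
      by_contra hlt
      have h00 : QZ.natDegree = 0 := by omega
      rw [taylor_sub_eq_zero_of_natDegree_eq_zero QZ a h00, leadingCoeff_zero] at hCpos
      exact lt_irrefl _ hCpos
    have ha0 : (a : ℚ) ≠ 0 := by exact_mod_cast hapos.ne'
    obtain ⟨hd, -⟩ := natDegree_taylor_sub QZ a ha0 hQZdeg
    -- embed `O_Z` in a twist of `F`
    haveI := hF.1
    haveI := hF.2
    obtain ⟨m, hm⟩ := GlobGen.exists_isSpanned_twist hL F
    have hG : Coh.IsCoh (ShStab.twist X L F m) := isCoh_twist X hL.1 hF m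
    have hGk : ClSub.KilledByIdeal (Scheme.IdealSheafData.vanishingIdeal Zc)
        (ShStab.twist X L F m) := killed_tensor_inv _ (isInvertible_tensorPow hL.1 m) hkill
    have hξG : ξ ∈ CohB1.support (ShStab.twist X L F m) := by
      rw [support_twist hL.1 hF m]; exact hξF
    obtain ⟨t, ht⟩ := exists_mono_A Zc ξ hξ' _ hG hGk hξG (hm m le_rfl)
    haveI := ht
    have hGQ : ShStab.IsHilbPoly k X L (ShStab.twist X L F m) (taylor (m : ℚ) Q) := by
      rw [taylor_apply]; exact isHilbPoly_twist k hQ m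
    have hCt : Coh.IsCoh (cokernel t) := isCoh_cokernel t hOZ.1 hG
    have hQt := isHilbPoly_X₃ k hL.1 _ (DevKey.shortExact_of_mono t) hOZ hG hCt hQZ hGQ
    have hle : QZ.natDegree ≤ (taylor (m : ℚ) Q).natDegree := by
      have h1 := natDegree_le_add_of_pos QZ (taylor (m : ℚ) Q - QZ)
        (leadingCoeff_pos k hL _ hOZ (not_isZero_of_mem_support
          (by rw [support_A, Scheme.IdealSheafData.coe_support_vanishingIdeal]; exact hξ.mem :
            ξ ∈ CohB1.support (A (Scheme.IdealSheafData.vanishingIdeal Zc)))) hQZ)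
        (eq_zero_or_leadingCoeff_pos k hL _ hCt hQt)
      rwa [add_sub_cancel] at h1
    rw [natDegree_taylor] at hle
    omega

/-- **The degree of the Hilbert polynomial is at least the dimension of the support.** -/
theorem dim_le_natDegree {L : X.Modules} (hL : CohB1.IsAmple L) (E : X.Modules)
    (hE : Coh.IsCoh E) {Q : ℚ[X]} (hQ : ShStab.IsHilbPoly k X L E Q) (n : ℕ)
    (hn : (n : WithBot ℕ∞) ≤ topologicalKrullDim (CohB1.support E)) : n ≤ Q.natDegree := by
  haveI := hE.1
  haveI := hE.2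
  obtain ⟨y, hy, hc⟩ := exists_Ch_mem_of_le_dim
    (Groth.Agent.Lib.Helper1.MaxAnnInt.isClosed_support E) hn
  exact pLow k hL E hE Q hQ y hy n hc

end Groth.Agent.Lib.Helper23.HilbP
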