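import Mathlib
import Groth.Prelude
import Groth.Agent.Lib.Helper23.HilbPK

/-!
# Degree and multiplicity of the Hilbert polynomial (helper23)

For a coherent module `E` on a scheme proper over a field with an ample invertible module, with
support of dimension `d`: the Hilbert polynomial has degree exactly `d` and positive multiplicity
`alpha d`.
-/

set_option autoImplicit false
set_option linter.unusedSectionVars false
universe u
open CategoryTheory CategoryTheory.Limits AlgebraicGeometry Polynomial

namespace Groth.Agent.Lib.Helper23.HilbP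

variable (k : Type u) [Field k] {X : Scheme.{u}} [X.Over (Spec (CommRingCat.of k))]
  [IsProper (X ↘ Spec (CommRingCat.of k))]

theorem natDegree_eq_of_dim_eq {L : X.Modules} (hL : CohB1.IsAmple L) (E : X.Modules)
    (hE : Coh.IsCoh E) {Q : ℚ[X]} (hQ : ShStab.IsHilbPoly k X L E Q) (d : ℕ)
    (hd : topologicalKrullDim (CohB1.support E) = (d : WithBot ℕ∞)) :
    Q.natDegree = d ∧ 0 < Q.leadingCoeff := by
  have h0 : ¬ IsZero E := by
    intro hz
    rw [Groth.Agent.Lib.Helper17.DevBasic.support_eq_empty_of_isZero hz] at hd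
    have : topologicalKrullDim (∅ : Set X) = ⊥ := by
      unfold topologicalKrullDim
      haveI : IsEmpty (TopologicalSpace.IrreducibleCloseds (∅ : Set X)) :=
        ⟨fun T => by
          obtain ⟨x, _⟩ := T.isIrreducible.nonempty
          exact x.2.elim⟩
      exact Order.krullDim_eq_bot
    rw [this] at hd
    exact WithBot.bot_ne_coe hd
  have hpos := leadingCoeff_pos k hL E hE h0 hQ
  have hQ0 : Q ≠ 0 := fun h => by rw [h, leadingCoeff_zero] at hpos; exact lt_irrefl _ hpos
  have h1 := natDegree_le_dim k hL E hE hQ hQ0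
  rw [hd] at h1
  have h1' : Q.natDegree ≤ d := by exact_mod_cast h1
  have h2 := dim_le_natDegree k hL E hE hQ d (le_of_eq hd.symm)
  exact ⟨le_antisymm h1' h2, hpos⟩

theorem alpha_pos_of_dim_eq {L : X.Modules} (hL : CohB1.IsAmple L) (E : X.Modules)
    (hE : Coh.IsCoh E) {Q : ℚ[X]} (hQ : ShStab.IsHilbPoly k X L E Q) (d : ℕ)
    (hd : topologicalKrullDim (CohB1.support E) = (d : WithBot ℕ∞)) :
    0 < StabCat.alpha d Q := by
  obtain ⟨h1, h2⟩ := natDegree_eq_of_dim_eq k hL E hE hQ d hd
  unfold StabCat.alpha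
  have : Q.coeff d = Q.leadingCoeff := by rw [← h1]; rfl
  rw [this]
  have : (0 : ℚ) < (d.factorial : ℚ) := by exact_mod_cast Nat.factorial_pos d
  positivity

theorem natDegree_le_of_dim_eq {L : X.Modules} (hL : CohB1.IsAmple L) (E : X.Modules)
    (hE : Coh.IsCoh E) {Q : ℚ[X]} (hQ : ShStab.IsHilbPoly k X L E Q) (d : ℕ)
    (hd : topologicalKrullDim (CohB1.support E) = (d : WithBot ℕ∞)) : Q.natDegree ≤ d :=
  (natDegree_eq_of_dim_eq k hL E hE hQ d hd).1.le

end Groth.Agent.Lib.Helper23.HilbP
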