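import Mathlib
import Groth.Prelude
import Groth.Agent.Lib.Helper23.HilbPL

/-!
# Comparison of reduced Hilbert polynomials of sub- and quotient modules (helper23)
-/

set_option autoImplicit false
set_option linter.unusedSectionVars false
set_option linter.style.haveILetI false
universe u
open CategoryTheory CategoryTheory.Limits AlgebraicGeometry Polynomial

namespace Groth.Agent.Lib.Helper23.HilbP

open Groth.Agent.Lib.Helper17 Groth.Agent.Lib.Helper17.DevBasic

section Poly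

lemma alpha_sub (d : ℕ) (P Q : ℚ[X]) :
    StabCat.alpha d (P - Q) = StabCat.alpha d P - StabCat.alpha d Q := by
  unfold StabCat.alpha; rw [coeff_sub]; ring

lemma alpha_add (d : ℕ) (P Q : ℚ[X]) :
    StabCat.alpha d (P + Q) = StabCat.alpha d P + StabCat.alpha d Q := by
  unfold StabCat.alpha; rw [coeff_add]; ring

lemma alpha_zero (d : ℕ) : StabCat.alpha d (0 : ℚ[X]) = 0 := by
  unfold StabCat.alpha; simp

lemma redLE_iff (d : ℕ) (P Q : ℚ[X]) : StabCat.RedLE d P Q ↔ ∃ N : ℕ, ∀ m : ℕ, N ≤ m →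
    StabCat.alpha d Q * P.eval (m : ℚ) ≤ StabCat.alpha d P * Q.eval (m : ℚ) := by
  unfold StabCat.RedLE StabCat.PolyLE
  simp only [eval_smul, smul_eq_mul]

lemma redLT_iff (d : ℕ) (P Q : ℚ[X]) : StabCat.RedLT d P Q ↔ ∃ N : ℕ, ∀ m : ℕ, N ≤ m →
    StabCat.alpha d Q * P.eval (m : ℚ) < StabCat.alpha d P * Q.eval (m : ℚ) := by
  unfold StabCat.RedLT StabCat.PolyLT
  simp only [eval_smul, smul_eq_mul]

lemma redEq_eval {d : ℕ} {P Q : ℚ[X]} (h : StabCat.RedEq d P Q) (x : ℚ) :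
    StabCat.alpha d Q * P.eval x = StabCat.alpha d P * Q.eval x := by
  have := congrArg (fun R => R.eval x) h
  simpa [eval_smul, smul_eq_mul] using this

lemma redLE_refl (d : ℕ) (P : ℚ[X]) : StabCat.RedLE d P P :=
  (redLE_iff d P P).2 ⟨0, fun _ _ => le_rfl⟩

lemma RedLT.redLE {d : ℕ} {P Q : ℚ[X]} (h : StabCat.RedLT d P Q) : StabCat.RedLE d P Q := by
  obtain ⟨N, hN⟩ := (redLT_iff d P Q).1 h
  exact (redLE_iff d P Q).2 ⟨N, fun m hm => (hN m hm).le⟩

end Poly

variable (k : Type u) [Field k] {X : Scheme.{u}} [X.Over (Spec (CommRingCat.of k))]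
  [IsProper (X ↘ Spec (CommRingCat.of k))]

/-- a nonzero coherent submodule of a pure module of dimension `d` has positive multiplicity. -/
theorem alpha_pos_of_pure {L : X.Modules} (hL : CohB1.IsAmple L) {E : X.Modules} {d : ℕ}
    (hp : ShStab.IsPure X E d) {F : X.Modules} (ι : F ⟶ E) [Mono ι] (hF : Coh.IsCoh F)
    (h0 : ¬ IsZero F) {Q : ℚ[X]} (hQ : ShStab.IsHilbPoly k X L F Q) : 0 < StabCat.alpha d Q :=
  alpha_pos_of_dim_eq k hL F hF hQ d (hp F ι inferInstance hF h0)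

theorem natDegree_le_of_pure {L : X.Modules} (hL : CohB1.IsAmple L) {E : X.Modules} {d : ℕ}
    (hp : ShStab.IsPure X E d) {F : X.Modules} (ι : F ⟶ E) [Mono ι] (hF : Coh.IsCoh F)
    (h0 : ¬ IsZero F) {Q : ℚ[X]} (hQ : ShStab.IsHilbPoly k X L F Q) : Q.natDegree ≤ d :=
  natDegree_le_of_dim_eq k hL F hF hQ d (hp F ι inferInstance hF h0)

lemma isPure_of_mono {E : X.Modules} {d : ℕ} (hp : ShStab.IsPure X E d) {F : X.Modules}
    (ι : F ⟶ E) [Mono ι] : ShStab.IsPure X F d := by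
  intro F' ι' hι' hF' h0
  haveI := hι'
  exact hp F' (ι' ≫ ι) (mono_comp ι' ι) hF' h0

/-- `p(F) ≤ p(E)` for a nonzero coherent submodule of a semistable module (isomorphisms allowed). -/
theorem redLE_of_sub {L : X.Modules} {E : X.Modules} {d : ℕ}
    (hE : ShStab.IsSemistable k X L E d) {F : X.Modules} (ι : F ⟶ E) [Mono ι]
    (hF : Coh.IsCoh F) (h0 : ¬ IsZero F) {pF pE : ℚ[X]} (hpF : ShStab.IsHilbPoly k X L F pF)
    (hpE : ShStab.IsHilbPoly k X L E pE) : StabCat.RedLE d pF pE := by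
  by_cases hiso : IsIso ι
  · have : pF = pE := isHilbPoly_unique k (isHilbPoly_of_iso k (asIso ι) hpF) hpE
    rw [this]; exact redLE_refl d pE
  · exact hE.2.2.2 F ι inferInstance hF h0 hiso pF pE hpF hpE

/-- `p(F) ≤ p(I)` for a coherent quotient `F ↠ I` of a semistable module. -/
theorem redLE_of_quot {L : X.Modules} (hL : CohB1.IsAmple L) {F : X.Modules} {d : ℕ}
    (hF : ShStab.IsSemistable k X L F d) {I : X.Modules} (π : F ⟶ I) [Epi π]
    (hI : Coh.IsCoh I) {pF pI : ℚ[X]} (hpF : ShStab.IsHilbPoly k X L F pF)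
    (hpI : ShStab.IsHilbPoly k X L I pI) : StabCat.RedLE d pF pI := by
  haveI := isNoetherian_of_isProper k X
  have hK : Coh.IsCoh (kernel π) := isCoh_kernel π hF.1 hI.1
  have hpK : ShStab.IsHilbPoly k X L (kernel π) (pF - pI) :=
    isHilbPoly_X₁ k hL.1 _ (DevKey.shortExact_of_epi π) hK hF.1 hI hpF hpI
  by_cases hKz : IsZero (kernel π)
  · haveI : Mono π := Preadditive.mono_of_kernel_zero (hKz.eq_of_src _ _)
    haveI : IsIso π := isIso_of_mono_of_epi π
    have : pF = pI := isHilbPoly_unique k (isHilbPoly_of_iso k (asIso π) hpF) hpI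
    rw [this]; exact redLE_refl d pI
  by_cases hiso : IsIso (kernel.ι π)
  · have hπ : π = 0 := by
      have := kernel.condition π
      rwa [← cancel_epi (kernel.ι π), Limits.comp_zero]
    have hIz : IsZero I := IsZero.of_epi_eq_zero π hπ
    have : pI = 0 := isHilbPoly_unique k hpI (isHilbPoly_zero k hIz)
    rw [this, redLE_iff]
    exact ⟨0, fun m _ => by simp [alpha_zero]⟩
  have h := hF.2.2.2 (kernel π) (kernel.ι π) inferInstance hK hKz hiso (pF - pI) pF hpK hpF
  obtain ⟨N, hN⟩ := (redLE_iff _ _ _).1 h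
  rw [redLE_iff]
  refine ⟨N, fun m hm => ?_⟩
  have := hN m hm
  rw [alpha_sub, eval_sub] at this
  linarith

/-- `p(F) < p(I)` for a proper nonzero coherent quotient `F ↠ I` of a stable module. -/
theorem redLT_of_quot {L : X.Modules} (hL : CohB1.IsAmple L) {F : X.Modules} {d : ℕ}
    (hF : ShStab.IsStable k X L F d) {I : X.Modules} (π : F ⟶ I) [Epi π]
    (hI : Coh.IsCoh I) (hI0 : ¬ IsZero I) (hK0 : ¬ IsZero (kernel π)) {pF pI : ℚ[X]}
    (hpF : ShStab.IsHilbPoly k X L F pF) (hpI : ShStab.IsHilbPoly k X L I pI) :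
    StabCat.RedLT d pF pI := by
  haveI := isNoetherian_of_isProper k X
  have hK : Coh.IsCoh (kernel π) := isCoh_kernel π hF.1 hI.1
  have hpK : ShStab.IsHilbPoly k X L (kernel π) (pF - pI) :=
    isHilbPoly_X₁ k hL.1 _ (DevKey.shortExact_of_epi π) hK hF.1 hI hpF hpI
  have hiso : ¬ IsIso (kernel.ι π) := by
    intro hiso
    have hπ : π = 0 := by
      have := kernel.condition π
      rwa [← cancel_epi (kernel.ι π), Limits.comp_zero]
    exact hI0 (IsZero.of_epi_eq_zero π hπ)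
  have h := hF.2.2.2 (kernel π) (kernel.ι π) inferInstance hK hK0 hiso (pF - pI) pF hpK hpF
  obtain ⟨N, hN⟩ := (redLT_iff _ _ _).1 h
  rw [redLT_iff]
  refine ⟨N, fun m hm => ?_⟩
  have := hN m hm
  rw [alpha_sub, eval_sub] at this
  linarith

lemma IsStable.isSemistable {L E : X.Modules} {d : ℕ} (h : ShStab.IsStable k X L E d) :
    ShStab.IsSemistable k X L E d :=
  ⟨h.1, h.2.1, h.2.2.1, fun F ι hι hF h0 hiso pF pE hpF hpE =>
    RedLT.redLE (h.2.2.2 F ι hι hF h0 hiso pF pE hpF hpE)⟩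

/-- the multiplicity of a semistable (hence pure, nonzero) module is positive. -/
theorem alpha_pos_of_isSemistable {L : X.Modules} (hL : CohB1.IsAmple L) {E : X.Modules} {d : ℕ}
    (hE : ShStab.IsSemistable k X L E d) {Q : ℚ[X]} (hQ : ShStab.IsHilbPoly k X L E Q) :
    0 < StabCat.alpha d Q :=
  alpha_pos_of_pure k hL hE.2.2.1 (𝟙 E) hE.1 hE.2.1 hQ

end Groth.Agent.Lib.Helper23.HilbP
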