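import Mathlib
import Groth.Prelude
import Groth.Agent.Lib.Helper23.HilbPM

/-!
# Truncations of Hilbert polynomials and dimension monotonicity (helper23)
-/

set_option autoImplicit false
set_option linter.unusedSectionVars false
set_option linter.style.haveILetI false
universe u
open CategoryTheory CategoryTheory.Limits AlgebraicGeometry Polynomial

namespace Groth.Agent.Lib.Helper23.HilbP

open Groth.Agent.Lib.Helper17 Groth.Agent.Lib.Helper17.DevBasic

section Top

lemma topologicalKrullDim_mono {Y : Type*} [TopologicalSpace Y] {S T : Set Y} (h : S ⊆ T) :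
    topologicalKrullDim S ≤ topologicalKrullDim T :=
  (Topology.IsEmbedding.inclusion h).isInducing.topologicalKrullDim_le

lemma topologicalKrullDim_empty {Y : Type*} [TopologicalSpace Y] :
    topologicalKrullDim (∅ : Set Y) = ⊥ := by
  unfold topologicalKrullDim
  haveI : IsEmpty (TopologicalSpace.IrreducibleCloseds (∅ : Set Y)) :=
    ⟨fun T => by
      obtain ⟨x, _⟩ := T.isIrreducible.nonempty
      exact x.2.elim⟩
  exact Order.krullDim_eq_bot

end Top

section Poly

lemma coeff_topPart (ℓ d : ℕ) (P : ℚ[X]) (i : ℕ) :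
    (StabCat.topPart ℓ d P).coeff i = if d - ℓ ≤ i ∧ i ≤ d then P.coeff i else 0 := by
  unfold StabCat.topPart
  rw [finset_sum_coeff]
  simp only [coeff_monomial]
  by_cases h : d - ℓ ≤ i ∧ i ≤ d
  · rw [if_pos h, Finset.sum_eq_single i]
    · simp
    · intro j _ hji; rw [if_neg hji]
    · intro hi; exact absurd (Finset.mem_Icc.2 h) hi
  · rw [if_neg h]
    apply Finset.sum_eq_zero
    intro j hj
    rw [if_neg]
    rintro rfl
    exact h (Finset.mem_Icc.1 hj)

lemma alpha_topPart (ℓ d : ℕ) (P : ℚ[X]) :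
    StabCat.alpha d (StabCat.topPart ℓ d P) = StabCat.alpha d P := by
  unfold StabCat.alpha
  rw [coeff_topPart, if_pos ⟨Nat.sub_le _ _, le_rfl⟩]

lemma topPart_self (d : ℕ) (P : ℚ[X]) (hP : P.natDegree ≤ d) : StabCat.topPart d d P = P := by
  ext i
  rw [coeff_topPart]
  by_cases h : i ≤ d
  · rw [if_pos ⟨by omega, h⟩]
  · rw [if_neg (fun h' => h h'.2), coeff_eq_zero_of_natDegree_lt (by omega)]

lemma topPart_sub (ℓ d : ℕ) (P Q : ℚ[X]) :
    StabCat.topPart ℓ d (P - Q) = StabCat.topPart ℓ d P - StabCat.topPart ℓ d Q := by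
  ext i
  rw [coeff_sub, coeff_topPart, coeff_topPart, coeff_topPart, coeff_sub]
  split_ifs <;> simp

lemma topPart_smul (ℓ d : ℕ) (c : ℚ) (P : ℚ[X]) :
    StabCat.topPart ℓ d (c • P) = c • StabCat.topPart ℓ d P := by
  ext i
  rw [coeff_smul, coeff_topPart, coeff_topPart, coeff_smul]
  split_ifs <;> simp

/-- nonnegativity of a coefficient at or above the degree of an eventually nonnegative polynomial -/
lemma coeff_nonneg_of_eventually (D : ℚ[X]) (n N : ℕ) (hD : D.natDegree ≤ n)
    (h : ∀ m : ℕ, N ≤ m → 0 ≤ D.eval (m : ℚ)) : 0 ≤ D.coeff n := by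
  rcases hD.lt_or_eq with h1 | h1
  · rw [coeff_eq_zero_of_natDegree_lt h1]
  · rw [← h1]
    exact leadingCoeff_nonneg_of_eventually D N h

/-- truncation preserves eventual nonnegativity for polynomials of degree at most `d` -/
lemma topPart_eventually_nonneg (ℓ d : ℕ) (D : ℚ[X]) (hD : D.natDegree ≤ d) (N : ℕ)
    (h : ∀ m : ℕ, N ≤ m → 0 ≤ D.eval (m : ℚ)) :
    ∃ N' : ℕ, ∀ m : ℕ, N' ≤ m → 0 ≤ (StabCat.topPart ℓ d D).eval (m : ℚ) := by
  set T := StabCat.topPart ℓ d D with hT
  by_cases hT0 : T = 0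
  · exact ⟨0, fun m _ => by rw [hT0, eval_zero]⟩
  -- the leading coefficient of `T` is that of `D`
  have hlcT : T.coeff T.natDegree ≠ 0 := by
    rw [coeff_natDegree]; exact leadingCoeff_ne_zero.2 hT0
  have hrange : d - ℓ ≤ T.natDegree ∧ T.natDegree ≤ d := by
    by_contra hcon
    apply hlcT
    rw [hT, coeff_topPart, if_neg hcon]
  have hcoeffD : D.coeff T.natDegree = T.coeff T.natDegree := by
    rw [hT, coeff_topPart, if_pos hrange]
  have hDle : D.natDegree ≤ T.natDegree := by
    rw [natDegree_le_iff_coeff_eq_zero]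
    intro i hi
    by_cases hid : i ≤ d
    · have : T.coeff i = 0 := coeff_eq_zero_of_natDegree_lt hi
      rw [hT, coeff_topPart, if_pos ⟨by omega, hid⟩] at this
      exact this
    · exact coeff_eq_zero_of_natDegree_lt (by omega)
  have hDeq : D.natDegree = T.natDegree :=
    le_antisymm hDle (le_natDegree_of_ne_zero (by rw [hcoeffD]; exact hlcT))
  have hlc : T.leadingCoeff = D.leadingCoeff := by
    unfold leadingCoeff
    rw [hDeq, hcoeffD]
  have hpos : 0 < T.leadingCoeff := by
    rw [hlc]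
    have h1 := leadingCoeff_nonneg_of_eventually D N h
    rcases h1.lt_or_eq with h2 | h2
    · exact h2
    · exfalso
      have : D = 0 := leadingCoeff_eq_zero.1 h2.symm
      rw [this] at hcoeffD
      simp at hcoeffD
      exact hlcT hcoeffD.symm
  obtain ⟨N', hN'⟩ := eventually_pos_of_leadingCoeff_pos T hpos
  exact ⟨N', fun m hm => (hN' m hm).le⟩

end Poly

variable (k : Type u) [Field k] {X : Scheme.{u}} [X.Over (Spec (CommRingCat.of k))]
  [IsProper (X ↘ Spec (CommRingCat.of k))]

/-- degree bound from a bound on the dimension of the support -/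
theorem natDegree_le_of_dim_le {L : X.Modules} (hL : CohB1.IsAmple L) (M : X.Modules)
    (hM : Coh.IsCoh M) {Q : ℚ[X]} (hQ : ShStab.IsHilbPoly k X L M Q) (d : ℕ)
    (hd : topologicalKrullDim (CohB1.support M) ≤ (d : WithBot ℕ∞)) : Q.natDegree ≤ d := by
  by_cases hQ0 : Q = 0
  · rw [hQ0]; simp
  have h1 := (natDegree_le_dim k hL M hM hQ hQ0).trans hd
  exact_mod_cast h1

/-- the multiplicity in dimension `d` of a module with support of dimension at most `d` is
nonnegative -/
theorem alpha_nonneg_of_dim_le {L : X.Modules} (hL : CohB1.IsAmple L) (M : X.Modules)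
    (hM : Coh.IsCoh M) {Q : ℚ[X]} (hQ : ShStab.IsHilbPoly k X L M Q) (d : ℕ)
    (hd : topologicalKrullDim (CohB1.support M) ≤ (d : WithBot ℕ∞)) :
    0 ≤ StabCat.alpha d Q := by
  have h1 := natDegree_le_of_dim_le k hL M hM hQ d hd
  obtain ⟨N, hN⟩ := eventually_nonneg k X hL M hM
  have h2 := coeff_nonneg_of_eventually Q d N h1 (fun m hm => by
    rw [← hQ m]; exact_mod_cast hN m hm)
  unfold StabCat.alpha
  positivity

end Groth.Agent.Lib.Helper23.HilbP
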