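import Groth.Agent.Lib.Helper23.HilbPM

set_option autoImplicit false
open CategoryTheory CategoryTheory.Limits AlgebraicGeometry Polynomial
universe v u

namespace Groth.Agent.Lib.Helper23.HilbP

section Poly

/-- transitivity `≤ < ≤` for the reduced comparison, all multiplicities positive. -/
lemma redLT_of_le_lt_le {d : ℕ} {P Q R S : ℚ[X]} (aP : 0 < StabCat.alpha d P)
    (aQ : 0 < StabCat.alpha d Q) (aR : 0 < StabCat.alpha d R) (aS : 0 < StabCat.alpha d S)
    (h1 : StabCat.RedLE d P Q) (h2 : StabCat.RedLT d Q R) (h3 : StabCat.RedLE d R S) :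
    StabCat.RedLT d P S := by
  obtain ⟨N1, hN1⟩ := (redLE_iff _ _ _).1 h1
  obtain ⟨N2, hN2⟩ := (redLT_iff _ _ _).1 h2
  obtain ⟨N3, hN3⟩ := (redLE_iff _ _ _).1 h3
  refine (redLT_iff _ _ _).2 ⟨max N1 (max N2 N3), fun m hm => ?_⟩
  have e1 := hN1 m ((le_max_left _ _).trans hm)
  have e2 := hN2 m (((le_max_left _ _).trans (le_max_right _ _)).trans hm)
  have e3 := hN3 m (((le_max_right _ _).trans (le_max_right _ _)).trans hm)
  -- compare P/αP ≤ Q/αQ < R/αR ≤ S/αS
  have f1 : P.eval (m : ℚ) / StabCat.alpha d P ≤ Q.eval (m : ℚ) / StabCat.alpha d Q := by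
    rw [div_le_div_iff₀ aP aQ]; linarith [mul_comm (StabCat.alpha d Q) (P.eval (m : ℚ)),
      mul_comm (StabCat.alpha d P) (Q.eval (m : ℚ))]
  have f2 : Q.eval (m : ℚ) / StabCat.alpha d Q < R.eval (m : ℚ) / StabCat.alpha d R := by
    rw [div_lt_div_iff₀ aQ aR]; linarith [mul_comm (StabCat.alpha d R) (Q.eval (m : ℚ)),
      mul_comm (StabCat.alpha d Q) (R.eval (m : ℚ))]
  have f3 : R.eval (m : ℚ) / StabCat.alpha d R ≤ S.eval (m : ℚ) / StabCat.alpha d S := by
    rw [div_le_div_iff₀ aR aS]; linarith [mul_comm (StabCat.alpha d S) (R.eval (m : ℚ)),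
      mul_comm (StabCat.alpha d R) (S.eval (m : ℚ))]
  have f4 := (f1.trans_lt f2).trans_le f3
  rw [div_lt_div_iff₀ aP aS] at f4
  linarith [mul_comm (StabCat.alpha d S) (P.eval (m : ℚ)),
    mul_comm (StabCat.alpha d P) (S.eval (m : ℚ))]

lemma redLE_trans {d : ℕ} {P Q R : ℚ[X]} (aP : 0 < StabCat.alpha d P)
    (aQ : 0 < StabCat.alpha d Q) (aR : 0 < StabCat.alpha d R)
    (h1 : StabCat.RedLE d P Q) (h2 : StabCat.RedLE d Q R) : StabCat.RedLE d P R := by
  obtain ⟨N1, hN1⟩ := (redLE_iff _ _ _).1 h1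
  obtain ⟨N2, hN2⟩ := (redLE_iff _ _ _).1 h2
  refine (redLE_iff _ _ _).2 ⟨max N1 N2, fun m hm => ?_⟩
  have e1 := hN1 m ((le_max_left _ _).trans hm)
  have e2 := hN2 m ((le_max_right _ _).trans hm)
  have f1 : P.eval (m : ℚ) / StabCat.alpha d P ≤ Q.eval (m : ℚ) / StabCat.alpha d Q := by
    rw [div_le_div_iff₀ aP aQ]; linarith [mul_comm (StabCat.alpha d Q) (P.eval (m : ℚ)),
      mul_comm (StabCat.alpha d P) (Q.eval (m : ℚ))]
  have f2 : Q.eval (m : ℚ) / StabCat.alpha d Q ≤ R.eval (m : ℚ) / StabCat.alpha d R := by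
    rw [div_le_div_iff₀ aQ aR]; linarith [mul_comm (StabCat.alpha d R) (Q.eval (m : ℚ)),
      mul_comm (StabCat.alpha d Q) (R.eval (m : ℚ))]
  have f4 := f1.trans f2
  rw [div_le_div_iff₀ aP aR] at f4
  linarith [mul_comm (StabCat.alpha d R) (P.eval (m : ℚ)),
    mul_comm (StabCat.alpha d P) (R.eval (m : ℚ))]

/-- a chain of polynomials with positive multiplicities, consecutive ones strictly decreasing:
later ones are `≤` earlier ones. -/
lemma redLE_of_chain {d n : ℕ} (p : Fin n → ℚ[X]) (ha : ∀ i, 0 < StabCat.alpha d (p i))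
    (hstep : ∀ i j : Fin n, i.val + 1 = j.val → StabCat.RedLT d (p j) (p i))
    (i j : Fin n) (hij : i ≤ j) : StabCat.RedLE d (p j) (p i) := by
  have key : ∀ (m : ℕ) (i j : Fin n), j.val = i.val + m → StabCat.RedLE d (p j) (p i) := by
    intro m
    induction m with
    | zero =>
      intro i j h
      have : i = j := Fin.ext (by omega)
      subst this
      exact redLE_refl _ _
    | succ m ih =>
      intro i j h
      let j' : Fin n := ⟨i.val + m, by have := j.isLt; omega⟩
      have h1 := ih i j' rfl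
      have h2 := hstep j' j (by simp only [j']; omega)
      exact redLE_trans (ha j) (ha j') (ha i) (RedLT.redLE h2) h1
  exact key (j.val - i.val) i j (by have : i.val ≤ j.val := hij; omega)

end Poly

section Cat

variable {C : Type u} [Category.{v} C] [Abelian C]

/-- If every morphism from `E` to every factor of a filtration of `G` (from `⊥` to `⊤`) vanishes, then
every morphism `E ⟶ G` vanishes. -/
lemma hom_eq_zero_of_target_filtration {E G : C} (t : LTSeries (Subobject G))
    (h0 : t.head = ⊥) (h1 : t.last = ⊤)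
    (hfac : ∀ (j : Fin t.length) (ψ : E ⟶ StabCat.factor t j), ψ = 0) (φ : E ⟶ G) : φ = 0 := by
  have key : ∀ j : Fin (t.length + 1), (t j).Factors φ := by
    intro j
    induction j using Fin.reverseInduction with
    | last =>
      have : t (Fin.last _) = ⊤ := h1
      rw [this]
      exact Subobject.top_factors _
    | cast j ih =>
      let ψ := (t j.succ).factorThru φ ih
      have hψ : ψ ≫ (t j.succ).arrow = φ := Subobject.factorThru_arrow _ _ _
      let ι := Subobject.ofLE (t j.castSucc) (t j.succ) (le_of_lt (t.step j))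
      have hz : ψ ≫ cokernel.π ι = 0 := hfac j _
      have hlim := Abelian.monoIsKernelOfCokernel (f := ι) _ (cokernelIsCokernel ι)
      let χ := hlim.lift (KernelFork.ofι ψ hz)
      have hχ : χ ≫ ι = ψ := hlim.fac (KernelFork.ofι ψ hz) WalkingParallelPair.zero
      have : χ ≫ (t j.castSucc).arrow = φ := by
        have e1 : χ ≫ (t j.castSucc).arrow = (χ ≫ ι) ≫ (t j.succ).arrow := by
          rw [Category.assoc, Subobject.ofLE_arrow]
        rw [e1, hχ, hψ]
      rw [← this]
      exact Subobject.factors_comp_arrow _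
  have hb : (⊥ : Subobject G).Factors φ := by
    have : t 0 = ⊥ := h0
    rw [← this]; exact key 0
  exact (Subobject.bot_factors_iff_zero _).1 hb

/-- If every morphism from every factor of a filtration of `F` (from `⊥` to `⊤`) to `G` vanishes, then
every morphism `F ⟶ G` vanishes. -/
lemma hom_eq_zero_of_source_filtration {F G : C} (s : LTSeries (Subobject F))
    (h0 : s.head = ⊥) (h1 : s.last = ⊤)
    (hfac : ∀ (i : Fin s.length) (ψ : StabCat.factor s i ⟶ G), ψ = 0) (φ : F ⟶ G) : φ = 0 := by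
  have hbot : ∀ S : Subobject F, S = ⊥ → S.arrow ≫ φ = 0 := by
    intro S hS; subst hS; rw [Subobject.bot_arrow, Limits.zero_comp]
  have htop : ∀ S : Subobject F, S = ⊤ → S.arrow ≫ φ = 0 → φ = 0 := by
    intro S hS h; subst hS
    exact (cancel_epi (⊤ : Subobject F).arrow).1 (by rw [h, Limits.comp_zero])
  have key : ∀ i : Fin (s.length + 1), (s i).arrow ≫ φ = 0 := by
    intro i
    induction i using Fin.induction with
    | zero => exact hbot _ h0
    | succ i ih =>
      let ι := Subobject.ofLE (s i.castSucc) (s i.succ) (le_of_lt (s.step i))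
      have hz : ι ≫ ((s i.succ).arrow ≫ φ) = 0 := by
        rw [← Category.assoc, Subobject.ofLE_arrow]; exact ih
      have : (s i.succ).arrow ≫ φ = cokernel.π ι ≫ cokernel.desc ι _ hz :=
        (cokernel.π_desc ι _ hz).symm
      rw [this]
      have h0' : cokernel.desc ι _ hz = 0 := hfac i (cokernel.desc ι _ hz)
      rw [h0', Limits.comp_zero]
  exact htop _ h1 (key (Fin.last _))

end Cat

end Groth.Agent.Lib.Helper23.HilbP
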