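import Mathlib
import Groth.Prelude
import Groth.Agent.Lib.Helper23.HilbPO
import Groth.Agent.Lib.Helper23.HilbPN

/-!
# Slope comparisons for submodules of slope-semistable pure modules (helper23)
-/

set_option autoImplicit false
set_option linter.unusedSectionVars false
set_option linter.style.haveILetI false
universe u
open CategoryTheory CategoryTheory.Limits AlgebraicGeometry Polynomial

namespace Groth.Agent.Lib.Helper23.HilbP

open Groth.Agent.Lib.Helper17 Groth.Agent.Lib.Helper17.DevBasic

variable (k : Type u) [Field k] {X : Scheme.{u}} [X.Over (Spec (CommRingCat.of k))]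
  [IsProper (X ↘ Spec (CommRingCat.of k))]

/-- if the support has dimension `≤ n` and the multiplicity `α_n` vanishes, then `α_{n-1} ≥ 0`. -/
theorem alpha_pred_nonneg {L : X.Modules} (hL : CohB1.IsAmple L) (M : X.Modules)
    (hM : Coh.IsCoh M) {Q : ℚ[X]} (hQ : ShStab.IsHilbPoly k X L M Q) (n : ℕ)
    (hd : topologicalKrullDim (CohB1.support M) ≤ (n : WithBot ℕ∞))
    (h0 : StabCat.alpha n Q = 0) : 0 ≤ StabCat.alpha (n - 1) Q := by
  have hdeg : Q.natDegree ≤ n := natDegree_le_of_dim_le k hL M hM hQ n hd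
  have hc : Q.coeff n = 0 := by
    unfold StabCat.alpha at h0
    rcases mul_eq_zero.1 h0 with h | h
    · exact absurd h (by exact_mod_cast (Nat.factorial_pos n).ne')
    · exact h
  have hdeg' : Q.natDegree ≤ n - 1 := natDegree_le_pred hdeg hc
  obtain ⟨N, hN⟩ := eventually_nonneg k X hL M hM
  have hc' : 0 ≤ Q.coeff (n - 1) := coeff_nonneg_of_eventually Q (n - 1) N hdeg' (fun m hm => by
    rw [← hQ m]; exact_mod_cast hN m hm)
  unfold StabCat.alpha
  exact mul_nonneg (by positivity) hc'

/-- the slope inequality `α_{n-1}(I) ≤ μ(G) α_n(I)` for every coherent submodule `I` of a pure,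
slope-semistable module `G`. -/
theorem muSS_sub {L : X.Modules} (hL : CohB1.IsAmple L) {G : X.Modules} {n : ℕ}
    (hG : ShStab.IsMuSemistable k X L G n) (hGp : ShStab.IsPure X G n) {I : X.Modules}
    (ι : I ⟶ G) [Mono ι] (hI : Coh.IsCoh I) {pI pG : ℚ[X]}
    (hpI : ShStab.IsHilbPoly k X L I pI) (hpG : ShStab.IsHilbPoly k X L G pG) :
    StabCat.alpha (n - 1) pI ≤ StabCat.hatSlope n pG * StabCat.alpha n pI := by
  by_cases hz : IsZero I
  · have : pI = 0 := isHilbPoly_unique k hpI (isHilbPoly_zero k hz)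
    rw [this, alpha_zero, alpha_zero, mul_zero]
  have aI : 0 < StabCat.alpha n pI := alpha_pos_of_pure k hL hGp ι hI hz hpI
  have aG : 0 < StabCat.alpha n pG := alpha_pos_of_pure k hL hGp (𝟙 G) hG.1 hG.2.1 hpG
  have hC : Coh.IsCoh (cokernel ι) := isCoh_cokernel ι hI.1 hG.1
  have hpC : ShStab.IsHilbPoly k X L (cokernel ι) (pG - pI) :=
    isHilbPoly_X₃ k hL.1 _ (DevKey.shortExact_of_mono ι) hI hG.1 hC hpI hpG
  have hdC : topologicalKrullDim (CohB1.support (cokernel ι)) ≤ (n : WithBot ℕ∞) := by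
    rw [← hG.2.2.1]
    exact topologicalKrullDim_mono (support_subset_of_epi (cokernel.π ι))
  have aC : 0 ≤ StabCat.alpha n (pG - pI) := alpha_nonneg_of_dim_le k hL _ hC hpC n hdC
  rw [alpha_sub] at aC
  rcases aC.lt_or_eq with hlt | heq
  · have h := hG.2.2.2.2 I ι inferInstance hI pI pG hpI hpG aI (by linarith)
    unfold StabCat.hatSlope at h ⊢
    rw [div_le_iff₀ aI] at h
    exact h
  · have h0 : StabCat.alpha n (pG - pI) = 0 := by rw [alpha_sub]; linarith
    have h1 := alpha_pred_nonneg k hL _ hC hpC n hdC h0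
    rw [alpha_sub] at h1
    unfold StabCat.hatSlope
    have : StabCat.alpha n pI = StabCat.alpha n pG := by linarith
    rw [this, div_mul_cancel₀ _ aG.ne']
    linarith

end Groth.Agent.Lib.Helper23.HilbP
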