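import Mathlib
import Groth.Prelude
import Groth.Agent.Lib.Helper23.HilbPQ
import Groth.Agent.Lib.Helper1.PushCoh

/-!
# Submodules of an extension; purity of extensions (helper23)
-/

set_option autoImplicit false
set_option linter.unusedSectionVars false
set_option linter.style.haveILetI false
universe u
open CategoryTheory CategoryTheory.Limits AlgebraicGeometry Polynomial

namespace Groth.Agent.Lib.Helper23.HilbP

open Groth.Agent.Lib.Helper17 Groth.Agent.Lib.Helper17.DevBasic

variable (k : Type u) [Field k] {X : Scheme.{u}} [X.Over (Spec (CommRingCat.of k))]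
  [IsProper (X ↘ Spec (CommRingCat.of k))]

/-- the dimension of the support of a nonzero coherent module is the degree of its Hilbert
polynomial. -/
theorem dim_eq_natDegree {L : X.Modules} (hL : CohB1.IsAmple L) (E : X.Modules)
    (hE : Coh.IsCoh E) (h0 : ¬ IsZero E) {Q : ℚ[X]} (hQ : ShStab.IsHilbPoly k X L E Q) :
    topologicalKrullDim (CohB1.support E) = (Q.natDegree : WithBot ℕ∞) := by
  have hQ0 : Q ≠ 0 := by
    intro h
    have := leadingCoeff_pos k hL E hE h0 hQ
    rw [h, leadingCoeff_zero] at this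
    exact lt_irrefl _ this
  obtain h | h := le_or_gt (topologicalKrullDim (CohB1.support E)) (Q.natDegree : WithBot ℕ∞)
  · exact le_antisymm h (natDegree_le_dim k hL E hE hQ hQ0)
  · exfalso
    have h1 : ((Q.natDegree + 1 : ℕ) : WithBot ℕ∞) ≤ topologicalKrullDim (CohB1.support E) := by
      generalize topologicalKrullDim (CohB1.support E) = x at h
      induction x using WithBot.recBotCoe with
      | bot => simp at h
      | coe a =>
        induction a using ENat.recTopCoe with
        | top => exact_mod_cast le_top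
        | coe m =>
          have : Q.natDegree < m := by exact_mod_cast h
          exact_mod_cast this
    have := dim_le_natDegree k hL E hE hQ (Q.natDegree + 1) h1
    omega

omit [IsProper (X ↘ Spec (CommRingCat.of k))] in
/-- a coherent submodule `S` of the middle term of a short exact sequence of coherent modules is an
extension of a coherent submodule of the right term by a coherent submodule of the left term. -/
theorem sub_of_shortExact [IsLocallyNoetherian X] (T : ShortComplex X.Modules) (hT : T.ShortExact)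
    (hF : Coh.IsCoh T.X₁) (hG : Coh.IsCoh T.X₃) {S : X.Modules} (ι : S ⟶ T.X₂) [Mono ι]
    (hS : Coh.IsCoh S) :
    ∃ (S' S'' : X.Modules) (i' : S' ⟶ T.X₁) (i'' : S'' ⟶ T.X₃) (a : S' ⟶ S) (b : S ⟶ S'')
      (w : a ≫ b = 0), Mono i' ∧ Mono i'' ∧ Coh.IsCoh S' ∧ Coh.IsCoh S'' ∧
        (ShortComplex.mk a b w).ShortExact := by
  let ψ : S ⟶ T.X₃ := ι ≫ T.g
  have hIcoh : Coh.IsCoh (Abelian.image ψ) :=
    isCoh_kernel (cokernel.π ψ) hG (isCoh_cokernel ψ hS.1 hG).1
  have hK : Coh.IsCoh (kernel (Abelian.factorThruImage ψ)) := isCoh_kernel _ hS hIcoh.1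
  have hz : (kernel.ι (Abelian.factorThruImage ψ) ≫ ι) ≫ T.g = 0 := by
    rw [Category.assoc]
    show kernel.ι (Abelian.factorThruImage ψ) ≫ ψ = 0
    have e : kernel.ι (Abelian.factorThruImage ψ) ≫ ψ =
        (kernel.ι (Abelian.factorThruImage ψ) ≫ Abelian.factorThruImage ψ) ≫ Abelian.image.ι ψ := by
      rw [Category.assoc, Abelian.image.fac]
    rw [e, kernel.condition, Limits.zero_comp]
  haveI := hT.mono_f
  let lam : kernel (Abelian.factorThruImage ψ) ⟶ T.X₁ := hT.fIsKernel.lift (KernelFork.ofι _ hz)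
  have hlam : lam ≫ T.f = kernel.ι (Abelian.factorThruImage ψ) ≫ ι :=
    hT.fIsKernel.fac (KernelFork.ofι _ hz) WalkingParallelPair.zero
  haveI : Mono (lam ≫ T.f) := by rw [hlam]; infer_instance
  haveI : Mono lam := mono_of_mono lam T.f
  exact ⟨_, _, lam, Abelian.image.ι ψ, kernel.ι (Abelian.factorThruImage ψ),
    Abelian.factorThruImage ψ, kernel.condition _, inferInstance, inferInstance, hK, hIcoh,
    DevKey.shortExact_of_epi _⟩

/-- the Hilbert polynomial of a coherent submodule of a pure module: zero, or of degree `n` with positive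
leading coefficient. -/
theorem poly_of_sub_pure {L : X.Modules} (hL : CohB1.IsAmple L) {E : X.Modules} {n : ℕ}
    (hp : ShStab.IsPure X E n) {F : X.Modules} (ι : F ⟶ E) [Mono ι] (hF : Coh.IsCoh F)
    {Q : ℚ[X]} (hQ : ShStab.IsHilbPoly k X L F Q) :
    (IsZero F ∧ Q = 0) ∨ (¬ IsZero F ∧ Q.natDegree = n ∧ 0 < Q.leadingCoeff) := by
  by_cases hz : IsZero F
  · exact Or.inl ⟨hz, isHilbPoly_unique k hQ (isHilbPoly_zero k hz)⟩
  · exact Or.inr ⟨hz, natDegree_eq_of_dim_eq k hL F hF hQ n (hp F ι inferInstance hF hz)⟩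

include k in
/-- an extension of pure modules of dimension `n` is pure of dimension `n`. -/
theorem isPure_of_shortExact {L : X.Modules} (hL : CohB1.IsAmple L) (T : ShortComplex X.Modules)
    (hT : T.ShortExact) {n : ℕ} (hF : Coh.IsCoh T.X₁) (hG : Coh.IsCoh T.X₃)
    (hFp : ShStab.IsPure X T.X₁ n) (hGp : ShStab.IsPure X T.X₃ n) : ShStab.IsPure X T.X₂ n := by
  haveI := isNoetherian_of_isProper k X
  intro S ι hι hS hS0
  haveI := hι
  obtain ⟨S', S'', i', i'', a, b, w, hi', hi'', hS', hS'', hex⟩ :=
    sub_of_shortExact T hT hF hG ι hS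
  haveI := hi'
  haveI := hi''
  obtain ⟨p', hp'⟩ := exists_isHilbPoly k X hL _ hS'
  obtain ⟨p'', hp''⟩ := exists_isHilbPoly k X hL _ hS''
  have hpS : ShStab.IsHilbPoly k X L S (p' + p'') :=
    isHilbPoly_add k hL.1 _ hex hS' hS hS'' hp' hp''
  rw [dim_eq_natDegree k hL S hS hS0 hpS]
  have h1 := poly_of_sub_pure k hL hFp i' hS' hp'
  have h2 := poly_of_sub_pure k hL hGp i'' hS'' hp''
  congr 1
  rcases h1 with ⟨z1, e1⟩ | ⟨_, d1, l1⟩
  · rcases h2 with ⟨z2, e2⟩ | ⟨_, d2, l2⟩
    · exfalso
      apply hS0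
      apply isZero_of_support_eq_empty
      have := support_subset_union _ hex
      rw [support_eq_empty_of_isZero z1, support_eq_empty_of_isZero z2] at this
      simpa using this
    · rw [e1, zero_add]; exact_mod_cast d2
  · rcases h2 with ⟨z2, e2⟩ | ⟨_, d2, l2⟩
    · rw [e2, add_zero]; exact_mod_cast d1
    · have h3 := natDegree_le_add_of_pos p' p'' l1 (Or.inr l2)
      have h4 := natDegree_add_le p' p''
      have : (p' + p'').natDegree = n := by
        rw [d1, d2, max_self] at h4
        rw [d1] at h3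
        omega
      exact_mod_cast this

end Groth.Agent.Lib.Helper23.HilbP
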