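import Mathlib
import Groth.Prelude
import Groth.Agent.Lib.Helper23.HilbPR
import Groth.Agent.Lib.Helper23.T2N
import Groth.Agent.Lib.Helper23.FBC5
import Groth.Agent.Lib.Helper7.AmpleH1

/-!
# Helper library (helper23): the iterated twist `F ↦ F ⊗ L_0^{n_0} ⊗ ⋯ ⊗ L_{r-1}^{n_{r-1}}`
-/

set_option autoImplicit false
set_option linter.unusedSectionVars false
set_option linter.style.haveILetI false
universe u
open CategoryTheory CategoryTheory.Limits AlgebraicGeometry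

namespace Groth.Agent.Lib.Helper23.Snap

open Groth.Agent.Lib.Helper3 Groth.Agent.Lib.Helper3.InvMonoidal Groth.Agent.Lib.Helper3.InvGen
open Groth.Agent.Lib.Helper3.InvTensor
open Groth.Agent.Lib.Helper7.TwFun Groth.Agent.Lib.Helper23.HilbP

section Obj

variable {X : Scheme.{u}}

/-- abbreviation for the iterated twist -/
noncomputable abbrev tp (r : ℕ) (L : Fin r → X.Modules) (n : Fin r → ℕ) (F : X.Modules) :
    X.Modules := Curv2.tensorPows F r L n

theorem tp_succ (r : ℕ) (L : Fin (r + 1) → X.Modules) (n : Fin (r + 1) → ℕ) (F : X.Modules) :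
    tp (r + 1) L n F = CohB1.tensorMod (tp r (fun i => L i.castSucc) (fun i => n i.castSucc) F)
      (CohB1.tensorPow (L (Fin.last r)) (n (Fin.last r))) := rfl

theorem isCoh_tp : ∀ (r : ℕ) (L : Fin r → X.Modules) (_ : ∀ i, PicF.IsInvertible (L i))
    (n : Fin r → ℕ) (F : X.Modules), Coh.IsCoh F → Coh.IsCoh (tp r L n F)
  | 0, _, _, _, _, hF => hF
  | r + 1, L, hL, n, F, hF =>
    isCoh_tensor_inv X (isInvertible_tensorPow (hL (Fin.last r)) (n (Fin.last r)))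
      (isCoh_tp r (fun i => L i.castSucc) (fun i => hL i.castSucc) (fun i => n i.castSucc) F hF)

theorem isZero_tp : ∀ (r : ℕ) (L : Fin r → X.Modules) (n : Fin r → ℕ) (F : X.Modules),
    IsZero F → IsZero (tp r L n F)
  | 0, _, _, _, hF => hF
  | r + 1, L, n, F, hF =>
    Functor.map_isZero (twR (CohB1.tensorPow (L (Fin.last r)) (n (Fin.last r))))
      (isZero_tp r (fun i => L i.castSucc) (fun i => n i.castSucc) F hF)

theorem nonempty_tp_iso : ∀ (r : ℕ) (L : Fin r → X.Modules) (n : Fin r → ℕ) {F G : X.Modules},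
    (F ≅ G) → Nonempty (tp r L n F ≅ tp r L n G)
  | 0, _, _, _, _, e => ⟨e⟩
  | r + 1, L, n, F, G, e => by
    obtain ⟨e'⟩ := nonempty_tp_iso r (fun i => L i.castSucc) (fun i => n i.castSucc) e
    exact ⟨tensorMapIso e' (Iso.refl _)⟩

/-- twisting a short exact sequence. -/
theorem exists_ses_tp : ∀ (r : ℕ) (L : Fin r → X.Modules) (_ : ∀ i, PicF.IsInvertible (L i))
    (n : Fin r → ℕ) (S : ShortComplex X.Modules), S.ShortExact →
    ∃ S' : ShortComplex X.Modules, S'.ShortExact ∧ Nonempty (S'.X₁ ≅ tp r L n S.X₁) ∧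
      Nonempty (S'.X₂ ≅ tp r L n S.X₂) ∧ Nonempty (S'.X₃ ≅ tp r L n S.X₃)
  | 0, _, _, _, S, hS => ⟨S, hS, ⟨Iso.refl _⟩, ⟨Iso.refl _⟩, ⟨Iso.refl _⟩⟩
  | r + 1, L, hL, n, S, hS => by
    obtain ⟨S', hS', ⟨e1⟩, ⟨e2⟩, ⟨e3⟩⟩ := exists_ses_tp r (fun i => L i.castSucc)
      (fun i => hL i.castSucc) (fun i => n i.castSucc) S hS
    refine ⟨S'.map (twR (CohB1.tensorPow (L (Fin.last r)) (n (Fin.last r)))),
      Groth.Agent.Lib.Helper7.AmpleH1.shortExact_tw
        (isInvertible_tensorPow (hL (Fin.last r)) (n (Fin.last r))) S' hS',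
      ⟨tensorMapIso e1 (Iso.refl _)⟩, ⟨tensorMapIso e2 (Iso.refl _)⟩,
      ⟨tensorMapIso e3 (Iso.refl _)⟩⟩

/-- `(A ⊗ N) ⊗ P ≅ (A ⊗ P) ⊗ N`. -/
noncomputable def swapR (A N P : X.Modules) :
    CohB1.tensorMod (CohB1.tensorMod A N) P ≅ CohB1.tensorMod (CohB1.tensorMod A P) N :=
  assoc A N P ≪≫ tensorMapIso (Iso.refl A) (braid N P) ≪≫ (assoc A P N).symm

/-- `T_n(F ⊗ N) ≅ T_n(F) ⊗ N`. -/
theorem nonempty_tp_tensor : ∀ (r : ℕ) (L : Fin r → X.Modules) (n : Fin r → ℕ) (F N : X.Modules),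
    Nonempty (tp r L n (CohB1.tensorMod F N) ≅ CohB1.tensorMod (tp r L n F) N)
  | 0, _, _, _, _ => ⟨Iso.refl _⟩
  | r + 1, L, n, F, N => by
    obtain ⟨e⟩ := nonempty_tp_tensor r (fun i => L i.castSucc) (fun i => n i.castSucc) F N
    exact ⟨tensorMapIso e (Iso.refl _) ≪≫ swapR _ _ _⟩

theorem nonempty_tp_congr (r : ℕ) (L : Fin r → X.Modules) (n n' : Fin r → ℕ) (F : X.Modules)
    (h : ∀ j, n' j = n j) : Nonempty (tp r L n' F ≅ tp r L n F) := by
  have : n' = n := funext h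
  subst this
  exact ⟨Iso.refl _⟩

/-- `T_{n + e_i}(F) ≅ T_n(F) ⊗ L_i`. -/
theorem nonempty_tp_succ : ∀ (r : ℕ) (L : Fin r → X.Modules) (n n' : Fin r → ℕ) (i : Fin r)
    (F : X.Modules), n' i = n i + 1 → (∀ j, j ≠ i → n' j = n j) →
    Nonempty (tp r L n' F ≅ CohB1.tensorMod (tp r L n F) (L i))
  | 0, _, _, _, i, _, _, _ => i.elim0
  | r + 1, L, n, n', i, F, hi, hj => by
    refine Fin.lastCases ?_ (fun i' => ?_) i (motive := fun i => n' i = n i + 1 →
      (∀ j, j ≠ i → n' j = n j) → Nonempty (tp (r + 1) L n' F ≅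
        CohB1.tensorMod (tp (r + 1) L n F) (L i))) hi hj
    · intro hi hj
      obtain ⟨e⟩ := nonempty_tp_congr r (fun i => L i.castSucc) (fun i => n i.castSucc)
        (fun i => n' i.castSucc) F (fun j => hj j.castSucc (Fin.castSucc_lt_last j).ne)
      rw [tp_succ, tp_succ, hi]
      exact ⟨tensorMapIso e (Iso.refl _) ≪≫ (assoc _ _ _).symm⟩
    · intro hi hj
      obtain ⟨e⟩ := nonempty_tp_succ r (fun i => L i.castSucc) (fun i => n i.castSucc)
        (fun i => n' i.castSucc) i' F hi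
        (fun j hne => hj j.castSucc (fun h => hne (Fin.castSucc_injective _ h)))
      have hl : n' (Fin.last r) = n (Fin.last r) :=
        hj (Fin.last r) (Fin.castSucc_lt_last i').ne'
      rw [tp_succ, tp_succ, hl]
      exact ⟨tensorMapIso e (Iso.refl _) ≪≫ swapR _ _ _⟩

/-- `T_n(L_i ⊗ F) ≅ T_{n + e_i}(F)`. -/
theorem nonempty_tp_shift (r : ℕ) (L : Fin r → X.Modules) (n : Fin r → ℕ) (i : Fin r)
    (F : X.Modules) :
    Nonempty (tp r L n (CohB1.tensorMod (L i) F) ≅ tp r L (n + Pi.single i 1) F) := by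
  obtain ⟨e0⟩ := nonempty_tp_iso r L n (braid (L i) F)
  obtain ⟨e1⟩ := nonempty_tp_tensor r L n F (L i)
  obtain ⟨e2⟩ := nonempty_tp_succ r L n (n + Pi.single i 1) i F (by simp)
    (fun j hj => by simp [hj])
  exact ⟨e0 ≪≫ e1 ≪≫ e2.symm⟩

end Obj

section Euler

variable (k : Type u) [Field k] (X : Scheme.{u}) [X.Over (Spec (CommRingCat.of k))]
  [IsProper (X ↘ Spec (CommRingCat.of k))]

/-- the Euler characteristic of the iterated twists, as a function of the exponents. -/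
noncomputable def chiT (r : ℕ) (L : Fin r → X.Modules) (F : X.Modules) : (Fin r → ℕ) → ℚ :=
  fun n => (Curv2.euler k X (Curv2.tensorPows F r L n) : ℚ)

theorem chiT_add (r : ℕ) (L : Fin r → X.Modules) (hL : ∀ i, PicF.IsInvertible (L i))
    (S : ShortComplex X.Modules) (hS : S.ShortExact) (h1 : Coh.IsCoh S.X₁)
    (h2 : Coh.IsCoh S.X₂) (h3 : Coh.IsCoh S.X₃) :
    chiT k X r L S.X₂ = chiT k X r L S.X₁ + chiT k X r L S.X₃ := by
  funext n
  obtain ⟨S', hS', ⟨e1⟩, ⟨e2⟩, ⟨e3⟩⟩ := exists_ses_tp r L hL n S hS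
  have c1 := isCoh_tp r L hL n _ h1
  have c2 := isCoh_tp r L hL n _ h2
  have c3 := isCoh_tp r L hL n _ h3
  have := T2.euler_additive k X S' hS'
    (Groth.Agent.Lib.Helper17.DevBasic.isCoh_of_iso e1.symm c1)
    (Groth.Agent.Lib.Helper17.DevBasic.isCoh_of_iso e2.symm c2)
    (Groth.Agent.Lib.Helper17.DevBasic.isCoh_of_iso e3.symm c3)
  rw [FBC.euler_eq_of_iso' k e1, FBC.euler_eq_of_iso' k e2, FBC.euler_eq_of_iso' k e3] at this
  change ((Curv2.euler k X (tp r L n S.X₂) : ℤ) : ℚ) =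
    ((Curv2.euler k X (tp r L n S.X₁) : ℤ) : ℚ) + ((Curv2.euler k X (tp r L n S.X₃) : ℤ) : ℚ)
  rw [this]
  push_cast
  rfl

theorem chiT_iso (r : ℕ) (L : Fin r → X.Modules) {F G : X.Modules} (e : F ≅ G) :
    chiT k X r L F = chiT k X r L G := by
  funext n
  obtain ⟨e'⟩ := nonempty_tp_iso r L n e
  unfold chiT
  rw [FBC.euler_eq_of_iso' k e']

theorem chiT_shift (r : ℕ) (L : Fin r → X.Modules) (i : Fin r) (F : X.Modules)
    (n : Fin r → ℕ) :
    chiT k X r L (CohB1.tensorMod (L i) F) n = chiT k X r L F (n + Pi.single i 1) := by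
  obtain ⟨e⟩ := nonempty_tp_shift r L n i F
  unfold chiT
  rw [FBC.euler_eq_of_iso' k e]

theorem chiT_of_isZero (r : ℕ) (L : Fin r → X.Modules) {F : X.Modules} (hF : IsZero F) :
    chiT k X r L F = 0 := by
  funext n
  unfold chiT
  rw [euler_of_isZero k (isZero_tp r L n F hF)]
  simp

end Euler

end Groth.Agent.Lib.Helper23.Snap
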