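import Mathlib
import Groth.Prelude
import Groth.Agent.Lib.Helper23.SnapA
import Groth.Agent.Lib.Helper23.SnapB
import Groth.Agent.Lib.Helper7.TorsFree
import Groth.Agent.Lib.Helper1.MaxAnnInt
import Groth.Agent.S7763

/-!
# Helper library (helper23): Snapper's theorem (polynomiality of the Euler characteristic of twists)
-/

set_option autoImplicit false
set_option linter.unusedSectionVars false
set_option linter.style.haveILetI false
universe u v
open CategoryTheory CategoryTheory.Limits AlgebraicGeometry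

namespace Groth.Agent.Lib.Helper23.Snap

open Groth.Agent.Lib.Helper23.HilbP

/-- universal property of `K0sub`. -/
theorem exists_lift {A : Type u} [Category.{v} A] [Abelian A] (P : ObjectProperty A)
    {G : Type*} [AddCommGroup G] (φ : A → G)
    (hadd : ∀ S : ShortComplex A, S.ShortExact → P S.X₁ → P S.X₂ → P S.X₃ →
      φ S.X₂ = φ S.X₁ + φ S.X₃) :
    ∃ Φ : KZero.K0sub P →+ G, ∀ M, P M → Φ (KZero.clSub P M) = φ M := by
  let ψ : FreeAbelianGroup (Subtype P) →+ G := FreeAbelianGroup.lift (fun M => φ M.1)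
  have hle : KZero.relSub P ≤ ψ.ker := by
    unfold KZero.relSub
    rw [AddSubgroup.closure_le]
    rintro x ⟨S, h1, h2, h3, hS, rfl⟩
    simp only [SetLike.mem_coe, AddMonoidHom.mem_ker, map_sub, ψ, FreeAbelianGroup.lift_apply_of]
    rw [hadd S hS h1 h2 h3]
    abel
  refine ⟨QuotientAddGroup.lift _ ψ hle, fun M hM => ?_⟩
  unfold KZero.clSub
  rw [dif_pos hM, QuotientAddGroup.lift_mk]
  simp [ψ]

lemma le_of_lt_succ_dim {x : WithBot ℕ∞} {d : ℕ} (h : x < ((d + 1 : ℕ) : WithBot ℕ∞)) :
    x ≤ (d : WithBot ℕ∞) := by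
  induction x using WithBot.recBotCoe with
  | bot => exact bot_le
  | coe a =>
    induction a using ENat.recTopCoe with
    | top =>
      exfalso
      have : ((⊤ : ℕ∞) : WithBot ℕ∞) < ((d + 1 : ℕ) : ℕ∞) := by exact_mod_cast h
      rw [WithBot.coe_lt_coe] at this
      exact absurd this (by simp)
    | coe m =>
      have : m < d + 1 := by exact_mod_cast h
      have : m ≤ d := by omega
      exact_mod_cast this

lemma lt_succ_dim_of_le {x : WithBot ℕ∞} {d : ℕ} (h : x ≤ (d : WithBot ℕ∞)) :
    x < ((d + 1 : ℕ) : WithBot ℕ∞) := by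
  refine lt_of_le_of_lt h ?_
  exact_mod_cast Nat.lt_succ_self d

lemma isCoh_tensor_inv' (X : Scheme.{u}) {N E : X.Modules} (hN : PicF.IsInvertible N)
    (hE : Coh.IsCoh E) : Coh.IsCoh (CohB1.tensorMod N E) :=
  Groth.Agent.Lib.Helper17.DevBasic.isCoh_of_iso
    (Groth.Agent.Lib.Helper3.InvMonoidal.braid E N) (isCoh_tensor_inv X hN hE)

section Main

variable (k : Type u) [Field k] (X : Scheme.{u}) [X.Over (Spec (CommRingCat.of k))]
  [IsProper (X ↘ Spec (CommRingCat.of k))]

/-- **Snapper's theorem**. -/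
theorem snapper (r : ℕ) (L : Fin r → X.Modules) (hL : ∀ i, PicF.IsInvertible (L i)) :
    ∀ (d : ℕ) (F : X.Modules), Coh.IsCoh F →
      topologicalKrullDim (CohB1.support F) < (d : WithBot ℕ∞) → IsPolyLT r d (chiT k X r L F) := by
  haveI : IsNoetherian X := isNoetherian_of_isProper k X
  obtain ⟨Φ, hΦ⟩ := exists_lift (fun M : X.Modules => Coh.IsCoh M) (chiT k X r L)
    (fun S hS h1 h2 h3 => chiT_add k X r L hL S hS h1 h2 h3)
  intro d
  induction d with
  | zero =>
    intro F hF hdim
    have hz : IsZero F := by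
      by_contra hnz
      haveI := hF.1
      haveI := hF.2
      obtain ⟨x, hx⟩ := Groth.Agent.Lib.Helper1.MaxAnnInt.support_nonempty F hnz
      haveI : Nonempty ↥(CohB1.support F) := ⟨⟨x, hx⟩⟩
      have h0 : (0 : WithBot ℕ∞) ≤ topologicalKrullDim ↥(CohB1.support F) := by
        unfold topologicalKrullDim
        haveI : Nonempty (TopologicalSpace.IrreducibleCloseds ↥(CohB1.support F)) :=
          ⟨⟨closure {⟨x, hx⟩}, isIrreducible_singleton.closure, isClosed_closure⟩⟩
        exact Order.krullDim_nonneg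
      exact absurd (lt_of_le_of_lt h0 hdim) (by simp)
    rw [chiT_of_isZero k X r L hz]
    exact IsPolyLT.zero r 0
  | succ d ih =>
    intro F hF hdim
    apply isPolyLT_succ_of_diff
    intro i
    have hmem := Groth.Agent.S7763.result X (L i) 1 le_rfl
      (Groth.Agent.Lib.Helper7.TorsFree.isFinLocFreeOfRank_one_of_isInvertible' (hL i)) F hF d
      (le_of_lt_succ_dim hdim)
    have hsub : AddSubgroup.closure {x : KZero.K0sub (fun M : X.Modules => Coh.IsCoh M) |
        ∃ G : X.Modules, Coh.IsCoh G ∧ topologicalKrullDim (CohB1.support G) < (d : WithBot ℕ∞) ∧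
          x = KZero.clSub (fun M : X.Modules => Coh.IsCoh M) G} ≤ (polyLT r d).comap Φ := by
      rw [AddSubgroup.closure_le]
      rintro x ⟨G, hG, hGd, rfl⟩
      change Φ _ ∈ polyLT r d
      rw [hΦ G hG]
      exact ih G hG hGd
    have h1 := hsub hmem
    change Φ _ ∈ polyLT r d at h1
    rw [map_sub, one_smul, hΦ _ (isCoh_tensor_inv' X (hL i) hF), hΦ F hF] at h1
    refine IsPolyLT.congr (mem_polyLT.mp h1) fun n => ?_
    rw [← chiT_shift k X r L i F n]
    rfl

end Main

end Groth.Agent.Lib.Helper23.Snap
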