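import Mathlib
import Groth.Prelude
import Groth.Agent.Lib.Helper23.SnapC
import Groth.Agent.Lib.Helper1.K0Dim3

/-!
# Helper library (helper23): the Euler characteristic of twists modulo lower degree is the sum over
the top-dimensional components
-/

set_option autoImplicit false
set_option linter.unusedSectionVars false
set_option linter.style.haveILetI false
universe u
open CategoryTheory CategoryTheory.Limits AlgebraicGeometry

namespace Groth.Agent.Lib.Helper23.Snap

open Groth.Agent.Lib.Helper23.HilbP Groth.Agent.Lib.Helper1 Groth.Agent.Lib.Helper1.K0Dim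

section Main

variable (k : Type u) [Field k] (X : Scheme.{u}) [X.Over (Spec (CommRingCat.of k))]
  [IsProper (X ↘ Spec (CommRingCat.of k))]

/-- the multiplicity of `F` along the closure of `ξ`, counted only in dimension `d`. -/
noncomputable def mult (d : ℕ) (F : X.Modules) (ξ : X) : ℚ :=
  if topologicalKrullDim ↥(closure ({ξ} : Set X)) = (d : WithBot ℕ∞) then
    ((Module.length (X.presheaf.stalk ξ) (F.presheaf.stalk ξ)).toNat : ℚ) else 0

include k in
theorem finite_mult_support (d : ℕ) (F : X.Modules) (hF : Coh.IsCoh F)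
    (hdim : topologicalKrullDim (CohB1.support F) ≤ (d : WithBot ℕ∞)) :
    {ξ : X | mult X d F ξ ≠ 0}.Finite := by
  haveI : IsNoetherian X := isNoetherian_of_isProper k X
  haveI := hF.1
  haveI := hF.2
  have hcl : IsClosed (CohB1.support F) := MaxAnnInt.isClosed_support F
  refine (TopDim.finite_maximal hcl).subset ?_
  intro ξ hξ
  have h1 : topologicalKrullDim ↥(closure ({ξ} : Set X)) = (d : WithBot ℕ∞) := by
    by_contra h
    exact hξ (by unfold mult; rw [if_neg h])
  have h2 : ξ ∈ CohB1.support F := by
    by_contra h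
    apply hξ
    unfold mult
    rw [if_pos h1, Groth.Agent.Lib.Helper17.DevKey.length_eq_zero_of_notMem h]
    simp
  exact ⟨h2, fun x' hx' h => TopDim.eq_of_specializes_of_dim hcl d hdim hx' h h1⟩

/-- **the Euler characteristic modulo lower degree**. -/
theorem chiT_sub_components (r : ℕ) (L : Fin r → X.Modules) (hL : ∀ i, PicF.IsInvertible (L i))
    (d : ℕ) (F : X.Modules) (hF : Coh.IsCoh F)
    (hdim : topologicalKrullDim (CohB1.support F) ≤ (d : WithBot ℕ∞)) :
    IsPolyLT r d (fun n => chiT k X r L F n -
      ∑ᶠ ξ : X, mult X d F ξ * chiT k X r L (Cyc.closureStructureSheaf ξ) n) := by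
  haveI : IsNoetherian X := isNoetherian_of_isProper k X
  haveI := hF.1
  haveI := hF.2
  have hcl : IsClosed (CohB1.support F) := MaxAnnInt.isClosed_support F
  obtain ⟨Φ, hΦ⟩ := exists_lift (fun M : X.Modules => Coh.IsCoh M) (chiT k X r L)
    (fun S hS h1 h2 h3 => chiT_add k X r L hL S hS h1 h2 h3)
  have key := key5642 X d F hF hdim
  have hsub : AddSubgroup.closure {x : KZero.K0sub (fun M : X.Modules => Coh.IsCoh M) |
      ∃ G : X.Modules, Coh.IsCoh G ∧ topologicalKrullDim (CohB1.support G) < (d : WithBot ℕ∞) ∧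
        x = KZero.clSub (fun M : X.Modules => Coh.IsCoh M) G} ≤ (polyLT r d).comap Φ := by
    rw [AddSubgroup.closure_le]
    rintro x ⟨G, hG, hGd, rfl⟩
    change Φ _ ∈ polyLT r d
    rw [hΦ G hG]
    exact snapper k X r L hL d G hG hGd
  have h1 := hsub key
  change Φ _ ∈ polyLT r d at h1
  have hfin := finite_support_term d hcl hdim F le_rfl
  rw [map_sub, hΦ F hF, AddMonoidHom.map_finsum _ hfin] at h1
  refine IsPolyLT.congr (mem_polyLT.mp h1) fun n => ?_
  have hterm : ∀ ξ : X, Φ (term d F ξ) =
      fun n => mult X d F ξ * chiT k X r L (Cyc.closureStructureSheaf ξ) n := by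
    intro ξ
    unfold term mult
    split_ifs with h
    · rw [map_nsmul, hΦ _ (isCoh_closureStructureSheaf ξ)]
      funext n
      simp [nsmul_eq_mul]
    · rw [map_zero]
      funext n
      simp
  have hfin' : (Function.support fun ξ : X => Φ (term d F ξ)).Finite := by
    refine hfin.subset fun ξ hξ => ?_
    intro h0
    apply hξ
    show Φ (term d F ξ) = 0
    rw [h0, map_zero]
  change chiT k X r L F n - _ = (chiT k X r L F - ∑ᶠ ξ, Φ (term d F ξ)) n
  rw [Pi.sub_apply, finsum_apply hfin']
  congr 1
  exact finsum_congr fun ξ => (congrFun (hterm ξ) n).symm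

end Main

end Groth.Agent.Lib.Helper23.Snap
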