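import Mathlib

/-!
# CurveA: proper closed subsets of irreducible one-dimensional Noetherian T0 spaces are finite
sets of closed points
-/
set_option autoImplicit false
open TopologicalSpace Set Order

namespace Groth.Agent.Lib.Helper23.Curve

variable {X : Type*} [TopologicalSpace X]

/-- an irreducible closed proper subset of an irreducible space of dimension `≤ 1` is the closure
of each of its points. -/
lemma closure_singleton_eq_of_irreducible [IrreducibleSpace X]
    (hdim : topologicalKrullDim X ≤ 1) (t : Set X) (ht : IsIrreducible t) (htc : IsClosed t)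
    (hne : t ≠ univ) (z : X) (hz : z ∈ t) : closure ({z} : Set X) = t := by
  by_contra hcon
  have hsub : closure ({z} : Set X) ⊆ t := htc.closure_subset_iff.2 (singleton_subset_iff.2 hz)
  let a : IrreducibleCloseds X := ⟨closure {z}, isIrreducible_singleton.closure, isClosed_closure⟩
  let b : IrreducibleCloseds X := ⟨t, ht, htc⟩
  let c : IrreducibleCloseds X := ⟨univ, IrreducibleSpace.isIrreducible_univ X, isClosed_univ⟩
  have hab : a < b := by
    refine lt_of_le_of_ne (show (a : Set X) ⊆ b from hsub) ?_
    intro h
    exact hcon (congrArg (fun s : IrreducibleCloseds X => (s : Set X)) h)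
  have hbc : b < c := by
    refine lt_of_le_of_ne (show (b : Set X) ⊆ c from subset_univ _) ?_
    intro h
    exact hne (congrArg (fun s : IrreducibleCloseds X => (s : Set X)) h)
  let p : LTSeries (IrreducibleCloseds X) :=
    { length := 2
      toFun := ![a, b, c]
      step := by
        intro i
        fin_cases i
        · exact hab
        · exact hbc }
  have h2 : (2 : WithBot ℕ∞) ≤ topologicalKrullDim X := by
    have := LTSeries.length_le_krullDim p
    exact this
  have : (2 : WithBot ℕ∞) ≤ 1 := h2.trans hdim
  exact absurd this (by decide)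

/-- In an irreducible Noetherian T0 space of dimension `≤ 1`, every proper closed subset is a
finite set of closed points. -/
theorem finite_of_isClosed_ne_univ [IrreducibleSpace X] [NoetherianSpace X] [T0Space X]
    (hdim : topologicalKrullDim X ≤ 1) (Z : Set X) (hZ : IsClosed Z) (hne : Z ≠ univ) :
    Z.Finite ∧ ∀ z ∈ Z, IsClosed ({z} : Set X) := by
  obtain ⟨S, hSfin, hSirr, hS⟩ :=
    NoetherianSpace.exists_finite_set_closeds_irreducible (⟨Z, hZ⟩ : Closeds X)
  have hZeq : Z = ⋃ t ∈ S, (t : Set X) := by
    have := congrArg (fun c : Closeds X => (c : Set X)) hS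
    have hcl : IsClosed (⋃ a ∈ S, (a : Set X)) := hSfin.isClosed_biUnion (fun t _ => t.isClosed)
    simpa [Closeds.coe_sSup, hcl.closure_eq] using this
  have hsingle : ∀ t ∈ S, ∀ z ∈ (t : Set X), (t : Set X) = {z} := by
    intro t ht z hz
    have htne : (t : Set X) ≠ univ := by
      intro h
      apply hne
      apply eq_univ_of_univ_subset
      rw [hZeq, ← h]
      exact subset_biUnion_of_mem ht
    have h1 := closure_singleton_eq_of_irreducible hdim t (hSirr t ht) t.isClosed htne z hz
    apply Subset.antisymm
    · intro y hy
      have h2 := closure_singleton_eq_of_irreducible hdim t (hSirr t ht) t.isClosed htne y hy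
      have : Inseparable y z := by
        rw [inseparable_iff_closure_eq]
        exact h2.trans h1.symm
      exact this.eq
    · exact singleton_subset_iff.2 hz
  constructor
  · rw [hZeq]
    refine hSfin.biUnion (fun t ht => ?_)
    by_cases hne' : (t : Set X).Nonempty
    · obtain ⟨z, hz⟩ := hne'
      rw [hsingle t ht z hz]
      exact finite_singleton z
    · rw [not_nonempty_iff_eq_empty.1 hne']
      exact finite_empty
  · intro z hz
    rw [hZeq] at hz
    obtain ⟨t, ht, hzt⟩ := mem_iUnion₂.1 hz
    rw [← hsingle t ht z hzt]
    exact t.isClosed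

end Groth.Agent.Lib.Helper23.Curve
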