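import Groth.Agent.Lib.Helper23.AmpleCurve3
import Groth.Agent.Lib.Helper23.CurveA

/-!
# AmpleCurve4: a non-constant morphism from a proper integral curve to a separated scheme of
finite type is finite
-/
set_option autoImplicit false
set_option linter.style.haveILetI false
universe u
open CategoryTheory CategoryTheory.Limits Opposite TopologicalSpace AlgebraicGeometry

noncomputable section

namespace Groth.Agent.Lib.Helper23.AmpleCurve

open Groth.Agent.Lib.Helper23.Curve

variable {X Y : Scheme.{u}}

/-- points other than the generic point of an integral scheme of dimension `≤ 1` are closed -/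
theorem isClosed_singleton_of_ne_genericPoint [IsIntegral X] [IsNoetherian X]
    (hdim : topologicalKrullDim X ≤ 1) (z : X) (hz : z ≠ genericPoint X) :
    IsClosed ({z} : Set X) := by
  have hne : closure ({z} : Set X) ≠ Set.univ := by
    intro h
    apply hz
    have h1 : IsGenericPoint z (Set.univ : Set X) := h
    exact h1.eq (genericPoint_spec X)
  exact (finite_of_isClosed_ne_univ hdim _ isClosed_closure hne).2 z (subset_closure rfl)

theorem isFinite_of_nonconstant (k : Type u) [Field k] [X.Over (Spec (CommRingCat.of k))]
    [IsProper (X ↘ Spec (CommRingCat.of k))] [IsIntegral X]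
    (hdim : topologicalKrullDim X ≤ 1) (r : X ⟶ Y) (g : Y ⟶ Spec (CommRingCat.of k))
    [IsSeparated g] (hr : r ≫ g = X ↘ Spec (CommRingCat.of k))
    (x₁ x₂ : X) (hne : r x₁ ≠ r x₂) : IsFinite r := by
  haveI := isNoetherian_of_isProper k X
  haveI : IsProper (r ≫ g) := by rw [hr]; infer_instance
  haveI : IsProper r := IsProper.of_comp r g
  haveI : LocallyQuasiFinite r := by
    apply LocallyQuasiFinite.of_finite_preimage_singleton
    intro y
    by_cases hex : ∃ z ∈ r ⁻¹' {y}, z ≠ genericPoint X
    · obtain ⟨z, hzy, hzg⟩ := hex
      have hzcl := isClosed_singleton_of_ne_genericPoint hdim z hzg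
      have hycl : IsClosed ({y} : Set Y) := by
        have h1 := r.isClosedMap _ hzcl
        have h2 : r '' {z} = {y} := by
          rw [Set.image_singleton]
          exact congrArg _ hzy
        rwa [h2] at h1
      have hZcl : IsClosed (r ⁻¹' {y}) := hycl.preimage r.continuous
      have hZne : r ⁻¹' {y} ≠ Set.univ := by
        intro h
        have h1 : x₁ ∈ r ⁻¹' {y} := h ▸ Set.mem_univ _
        have h2 : x₂ ∈ r ⁻¹' {y} := h ▸ Set.mem_univ _
        exact hne (h1.trans h2.symm)
      exact (finite_of_isClosed_ne_univ hdim _ hZcl hZne).1
    · push Not at hex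
      exact (Set.finite_singleton (genericPoint X)).subset (fun z hz => hex z hz)
  exact IsFinite.of_isProper_of_locallyQuasiFinite r

end Groth.Agent.Lib.Helper23.AmpleCurve
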