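import Mathlib

/-!
# Nowhere dense closed subsets of Noetherian spaces of dimension `≤ 1` consist of closed points
-/
set_option autoImplicit false
open TopologicalSpace Set Order

namespace Groth.Agent.Lib.Helper23.DenseOpen

variable {X : Type*} [TopologicalSpace X]

/-- an irreducible component of a Noetherian space is not contained in a closed set with dense
complement -/
lemma not_subset_of_dense_compl [NoetherianSpace X] {T : Set X} (hd : Dense Tᶜ)
    {c : Set X} (hc : c ∈ irreducibleComponents X) : ¬ c ⊆ T := by
  intro hcT
  have hfin : (irreducibleComponents X \ {c}).Finite :=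
    (NoetherianSpace.finite_irreducibleComponents (α := X)).subset diff_subset
  have hcl : IsClosed (⋃₀ (irreducibleComponents X \ {c})) := by
    rw [sUnion_eq_biUnion]
    exact hfin.isClosed_biUnion (fun s hs => isClosed_of_mem_irreducibleComponents s hs.1)
  have hsub : Tᶜ ⊆ ⋃₀ (irreducibleComponents X \ {c}) := by
    intro x hx
    refine mem_sUnion.mpr ⟨irreducibleComponent x,
      ⟨irreducibleComponent_mem_irreducibleComponents x, ?_⟩, mem_irreducibleComponent⟩
    intro h
    rw [mem_singleton_iff] at h
    exact hx (hcT (h ▸ mem_irreducibleComponent))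
  have huniv : (univ : Set X) ⊆ ⋃₀ (irreducibleComponents X \ {c}) := by
    rw [← hd.closure_eq]
    exact hcl.closure_subset_iff.mpr hsub
  have hcirr : IsIrreducible c := hc.1
  obtain ⟨z, hz, hcz⟩ := (isIrreducible_iff_sUnion_isClosed.mp hcirr) hfin.toFinset
    (fun s hs => isClosed_of_mem_irreducibleComponents s (hfin.mem_toFinset.mp hs).1)
    (by
      rw [hfin.coe_toFinset]
      exact (subset_univ c).trans huniv)
  rw [hfin.mem_toFinset] at hz
  have : z = c := (hc.eq_of_subset hz.1.1 hcz).symm
  exact hz.2 (mem_singleton_iff.mpr this)

/-- points of a closed set with dense complement are closed, in dimension `≤ 1` -/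
theorem isClosed_singleton_of_dense_compl [NoetherianSpace X] [T0Space X]
    (hdim : topologicalKrullDim X ≤ 1) {T : Set X} (hT : IsClosed T) (hd : Dense Tᶜ) (z : X)
    (hz : z ∈ T) : IsClosed ({z} : Set X) := by
  by_contra hcon
  have hne : closure ({z} : Set X) ≠ {z} := fun h => hcon (h ▸ isClosed_closure)
  obtain ⟨y, hy, hyz⟩ : ∃ y ∈ closure ({z} : Set X), y ≠ z := by
    by_contra h
    push_neg at h
    apply hne
    apply Subset.antisymm
    · intro y hy
      exact mem_singleton_iff.mpr (h y hy)
    · exact subset_closure
  let a : IrreducibleCloseds X := ⟨closure {y}, isIrreducible_singleton.closure, isClosed_closure⟩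
  let b : IrreducibleCloseds X := ⟨closure {z}, isIrreducible_singleton.closure, isClosed_closure⟩
  let c : IrreducibleCloseds X := ⟨irreducibleComponent z, isIrreducible_irreducibleComponent,
    isClosed_irreducibleComponent⟩
  have hab : a < b := by
    refine lt_of_le_of_ne (show (a : Set X) ⊆ b from
      isClosed_closure.closure_subset_iff.mpr (singleton_subset_iff.mpr hy)) ?_
    intro h
    have h1 : closure ({y} : Set X) = closure {z} :=
      congrArg (fun s : IrreducibleCloseds X => (s : Set X)) h
    exact hyz ((inseparable_iff_closure_eq.mpr h1).eq)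
  have hbc : b < c := by
    refine lt_of_le_of_ne (show (b : Set X) ⊆ c from
      isClosed_irreducibleComponent.closure_subset_iff.mpr
        (singleton_subset_iff.mpr mem_irreducibleComponent)) ?_
    intro h
    have h1 : closure ({z} : Set X) = irreducibleComponent z :=
      congrArg (fun s : IrreducibleCloseds X => (s : Set X)) h
    apply not_subset_of_dense_compl hd (irreducibleComponent_mem_irreducibleComponents z)
    rw [← h1]
    exact hT.closure_subset_iff.mpr (singleton_subset_iff.mpr hz)
  let p : LTSeries (IrreducibleCloseds X) :=
    { length := 2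
      toFun := ![a, b, c]
      step := by
        intro i
        fin_cases i
        · exact hab
        · exact hbc }
  have h2 : (2 : WithBot ℕ∞) ≤ topologicalKrullDim X := LTSeries.length_le_krullDim p
  have : (2 : WithBot ℕ∞) ≤ 1 := h2.trans hdim
  exact absurd this (by decide)

end Groth.Agent.Lib.Helper23.DenseOpen
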