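import Groth.Agent.Lib.Helper23.Devissage
import Groth.Agent.Lib.Helper23.DenseOpen
import Groth.Agent.Lib.Helper13.ZeroDimSupp
import Groth.Agent.Lib.Helper3.SecLoc

/-!
# `χ(V ⊗ E) - n χ(V) = m · deg E` for locally free `V` of rank `m` on any proper scheme of
dimension `≤ 1` (possibly reducible and non-reduced)
-/

set_option autoImplicit false
universe u
open CategoryTheory CategoryTheory.Limits AlgebraicGeometry TopologicalSpace Opposite
open Scheme.Modules

noncomputable section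

namespace Groth.Agent.Lib.Helper23.DegTensorGen

open Groth.Agent.Lib.Helper3 Groth.Agent.Lib.Helper3.QCSec Groth.Agent.Lib.Helper3.InvGen
  Groth.Agent.Lib.Helper3.InvMonoidal Groth.Agent.Lib.Helper3.FreeBasis
  Groth.Agent.Lib.Helper3.SecLoc
  Groth.Agent.Lib.Helper7.TwFun
open Groth.Agent.Lib.Helper23.T2 Groth.Agent.Lib.Helper23.Curve Groth.Agent.Lib.Helper23.Twist
  Groth.Agent.Lib.Helper23.TwE Groth.Agent.Lib.Helper23.TensorPts
  Groth.Agent.Lib.Helper23.EffCart Groth.Agent.Lib.Helper23.Dev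

variable {X : Scheme.{u}}

/-! ### sections over the empty open -/

theorem sec_eq_of_le_bot (M : X.Modules) {V : X.Opens} (hV : V ≤ ⊥) (a b : Γ(M, V)) : a = b := by
  apply sec_eq_of_locally_eq M (fun i : PEmpty.{u + 1} => i.elim) V (fun i => i.elim) ?_ a b
    (fun i => i.elim)
  refine hV.trans bot_le

theorem fun_eq_of_le_bot {V : X.Opens} (hV : V ≤ ⊥) (a b : Γ(X, V)) : a = b := by
  apply fun_eq_of_locally_eq (fun i : PEmpty.{u + 1} => i.elim) V (fun i => i.elim) ?_ a b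
    (fun i => i.elim)
  refine hV.trans bot_le

theorem isBasis_bot (M : X.Modules) {n : ℕ} (e : Fin n → Γ(M, (⊥ : X.Opens))) :
    IsBasis M ⊥ e := by
  intro V hV
  constructor
  · intro a b _
    funext i
    exact fun_eq_of_le_bot hV _ _
  · intro t
    exact ⟨0, sec_eq_of_le_bot M hV _ _⟩

/-! ### gluing bases over disjoint opens -/

/-- the two-element cover -/
def W2 (U₁ U₂ : X.Opens) : ULift.{u} Bool → X.Opens
  | ⟨true⟩ => U₁
  | ⟨false⟩ => U₂

/-- a pair of sections as a family -/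
def a2 (M : X.Modules) {U₁ U₂ : X.Opens} (s₁ : Γ(M, U₁)) (s₂ : Γ(M, U₂)) :
    ∀ b : ULift.{u} Bool, Γ(M, W2 U₁ U₂ b)
  | ⟨true⟩ => s₁
  | ⟨false⟩ => s₂

theorem exists_glue_disjoint (M : X.Modules) {U₁ U₂ : X.Opens} (hd : U₁ ⊓ U₂ = ⊥)
    (s₁ : Γ(M, U₁)) (s₂ : Γ(M, U₂)) :
    ∃ s : Γ(M, U₁ ⊔ U₂), res M (le_sup_left : U₁ ≤ U₁ ⊔ U₂) s = s₁ ∧
      res M (le_sup_right : U₂ ≤ U₁ ⊔ U₂) s = s₂ := by
  have hW : ∀ b, W2 U₁ U₂ b ≤ U₁ ⊔ U₂ := by
    rintro ⟨_ | _⟩
    · exact le_sup_right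
    · exact le_sup_left
  have hcov : U₁ ⊔ U₂ ≤ ⨆ b, W2 U₁ U₂ b := by
    apply sup_le
    · exact le_iSup (W2 U₁ U₂) ⟨true⟩
    · exact le_iSup (W2 U₁ U₂) ⟨false⟩
  obtain ⟨s, hs⟩ := sec_glue M (W2 U₁ U₂) (U₁ ⊔ U₂) hW hcov (a2 M s₁ s₂) (by
    rintro ⟨_ | _⟩ ⟨_ | _⟩
    · rfl
    · apply sec_eq_of_le_bot M
      change U₂ ⊓ U₁ ≤ ⊥
      rw [inf_comm, hd]
    · apply sec_eq_of_le_bot M
      change U₁ ⊓ U₂ ≤ ⊥
      rw [hd]
    · rfl)
  exact ⟨s, hs ⟨true⟩, hs ⟨false⟩⟩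

theorem exists_isBasis_sup {M : X.Modules} {U₁ U₂ : X.Opens} (hd : U₁ ⊓ U₂ = ⊥) {n : ℕ}
    {e₁ : Fin n → Γ(M, U₁)} {e₂ : Fin n → Γ(M, U₂)} (h₁ : IsBasis M U₁ e₁)
    (h₂ : IsBasis M U₂ e₂) :
    ∃ e : Fin n → Γ(M, U₁ ⊔ U₂), IsBasis M (U₁ ⊔ U₂) e := by
  choose e he₁ he₂ using fun i => exists_glue_disjoint M hd (e₁ i) (e₂ i)
  refine ⟨e, ?_⟩
  apply isBasis_of_local_basisAt
  intro W hW x hx
  rcases (hW hx : x ∈ U₁ ⊔ U₂) with hx1 | hx2
  · refine ⟨W ⊓ U₁, inf_le_left, ⟨hx, hx1⟩, ?_⟩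
    have h := h₁ (W ⊓ U₁) inf_le_right
    have heq : (fun i => res M ((inf_le_left : W ⊓ U₁ ≤ W).trans hW) (e i)) =
        fun i => res M (inf_le_right : W ⊓ U₁ ≤ U₁) (e₁ i) := by
      funext i
      rw [← he₁ i, res_res]
    rw [heq]
    exact h
  · refine ⟨W ⊓ U₂, inf_le_left, ⟨hx, hx2⟩, ?_⟩
    have h := h₂ (W ⊓ U₂) inf_le_right
    have heq : (fun i => res M ((inf_le_left : W ⊓ U₂ ≤ W).trans hW) (e i)) =
        fun i => res M (inf_le_right : W ⊓ U₂ ≤ U₂) (e₂ i) := by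
      funext i
      rw [← he₂ i, res_res]
    rw [heq]
    exact h

/-! ### a dense open over which a locally free module is free -/

theorem exists_dense_isBasis [NoetherianSpace X] {M : X.Modules} {n : ℕ}
    (hM : FlatMod.IsFinLocFreeOfRank n M) :
    ∃ (U : X.Opens) (e : Fin n → Γ(M, U)), Dense (U : Set X) ∧ IsBasis M U e := by
  let S : Set X.Opens := {U | ∃ e : Fin n → Γ(M, U), IsBasis M U e}
  have hne : S.Nonempty := ⟨⊥, fun _ => 0, isBasis_bot M _⟩
  obtain ⟨U, ⟨e, he⟩, hmax⟩ := (wellFounded_gt (α := X.Opens)).has_min S hne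
  refine ⟨U, e, ?_, he⟩
  by_contra hnd
  rw [dense_iff_closure_eq] at hnd
  obtain ⟨x, hx⟩ : ∃ x, x ∉ closure (U : Set X) := by
    by_contra h
    push_neg at h
    exact hnd (Set.eq_univ_of_forall h)
  obtain ⟨W, f, hxW, hf⟩ := isFinLocFreeOfRank_iff.mp hM x
  let C : X.Opens := ⟨(closure (U : Set X))ᶜ, isClosed_closure.isOpen_compl⟩
  have hxW' : x ∈ W ⊓ C := ⟨hxW, hx⟩
  have hdisj : U ⊓ (W ⊓ C) = ⊥ := by
    rw [eq_bot_iff]
    intro y hy
    exact (hy.2.2 (subset_closure hy.1)).elim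
  obtain ⟨e', he'⟩ := exists_isBasis_sup hdisj he (hf.mono (inf_le_left : W ⊓ C ≤ W))
  have hlt : U ⊔ (W ⊓ C) > U := by
    refine lt_of_le_of_ne le_sup_left ?_
    intro h
    have : x ∈ U := by
      rw [h]
      exact Or.inr hxW'
    exact hx (subset_closure this)
  exact hmax (U ⊔ (W ⊓ C)) ⟨e', he'⟩ hlt

/-! ### `δ` and dense opens -/

theorem finite_compl_of_dense [NoetherianSpace X] (hdim : topologicalKrullDim X ≤ 1) {U : X.Opens}
    (hU : Dense (U : Set X)) :
    ((U : Set X)ᶜ).Finite ∧ ∀ z ∈ (U : Set X)ᶜ, IsClosed ({z} : Set X) := by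
  have hZ : IsClosed ((U : Set X)ᶜ) := U.isOpen.isClosed_compl
  have hd : Dense ((U : Set X)ᶜ)ᶜ := by rwa [compl_compl]
  have hcl : ∀ z ∈ (U : Set X)ᶜ, IsClosed ({z} : Set X) := fun z hz =>
    Groth.Agent.Lib.Helper23.DenseOpen.isClosed_singleton_of_dense_compl hdim hZ hd z hz
  exact ⟨Groth.Agent.Lib.Helper13.ZeroDimSupp.finite_of_isClosed_of_points_closed hZ hcl, hcl⟩

/-- the short exact sequence of a monomorphism and its cokernel. -/
abbrev cokerSC' {N E : X.Modules} (j : N ⟶ E) : ShortComplex X.Modules :=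
  ShortComplex.mk j (cokernel.π j) (cokernel.condition j)

lemma cokerSC_shortExact' {N E : X.Modules} (j : N ⟶ E) [Mono j] : (cokerSC' j).ShortExact :=
  { exact := ShortComplex.exact_cokernel j
    mono_f := inferInstanceAs (Mono j)
    epi_g := inferInstanceAs (Epi (cokernel.π j)) }


section Euler

variable (k : Type u) [Field k] [X.Over (Spec (CommRingCat.of k))]
  [IsProper (X ↘ Spec (CommRingCat.of k))]

variable {n : ℕ} {E : X.Modules} (hE : FlatMod.IsFinLocFreeOfRank n E)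

include hE in
theorem delta_zero_of_vanishesOn' (hdim : topologicalKrullDim X ≤ 1)
    {F : X.Modules} (hF : Coh.IsCoh F) {U : X.Opens} (hU : Dense (U : Set X))
    (hv : VanishesOn F U) : delta k n E F = 0 := by
  have hZ : IsClosed ((U : Set X)ᶜ) := U.isOpen.isClosed_compl
  haveI := isNoetherian_of_isProper k X
  obtain ⟨hfin, hcl⟩ := finite_compl_of_dense hdim hU
  have hvan : ∀ V : X.Opens, Disjoint (V : Set X) ((U : Set X)ᶜ) → ∀ t : Γ(F, V), t = 0 := by
    intro V hV t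
    apply hv V _ t
    intro x hx
    by_contra hxU
    exact Set.disjoint_left.1 hV hx hxU
  have h := euler_tensor_of_vanishing k X F hF _ hZ hfin hcl hvan n E hE
  unfold delta
  rw [h]
  ring

include hE in
theorem delta_eq_of_isoOn' (hdim : topologicalKrullDim X ≤ 1)
    {H F : X.Modules} (hH : Coh.IsCoh H) (hF : Coh.IsCoh F) (u : H ⟶ F) {U : X.Opens}
    (hU : Dense (U : Set X)) (hu : IsoOn u U) : delta k n E H = delta k n E F := by
  haveI := isNoetherian_of_isProper k X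
  have hK : Coh.IsCoh (kernel u) := (Groth.Agent.S9514.result X hH hF u).1
  have hCo : Coh.IsCoh (Abelian.coimage u) :=
    (Groth.Agent.S9514.result X hK hH (kernel.ι u)).2
  have hCk : Coh.IsCoh (cokernel (Abelian.factorThruCoimage u)) :=
    (Groth.Agent.S9514.result X hCo hF (Abelian.factorThruCoimage u)).2
  have h1 := delta_additive k hE (cokerSC' (kernel.ι u)) (cokerSC_shortExact' (kernel.ι u))
    hK hH hCo
  have h2 := delta_additive k hE (cokerSC' (Abelian.factorThruCoimage u))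
    (cokerSC_shortExact' (Abelian.factorThruCoimage u)) hCo hF hCk
  have h1' : delta k n E H = delta k n E (kernel u) + delta k n E (Abelian.coimage u) := h1
  have h2' : delta k n E F = delta k n E (Abelian.coimage u) +
      delta k n E (cokernel (Abelian.factorThruCoimage u)) := h2
  have z1 := delta_zero_of_vanishesOn' k hE hdim hK hU (vanishesOn_kernel u hu)
  have z2 := delta_zero_of_vanishesOn' k hE hdim hCk hU
    (vanishesOn_cokernel_of_comp u (Abelian.factorThruCoimage u) (Abelian.coimage.π u)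
      (Abelian.coimage.fac u) hu)
  rw [h1', h2', z1, z2]
  ring

/-- comparison of a module free over `U` with a free module -/
theorem exists_common' [IsLocallyNoetherian X] {F : X.Modules} (hF : Coh.IsCoh F) {r : ℕ}
    {U : X.Opens} {e : Fin r → Γ(F, U)} (he : IsBasis F U e) :
    ∃ (H : X.Modules) (u : H ⟶ F) (v : H ⟶ FlatMod.freeMod X r),
      Coh.IsCoh H ∧ IsoOn u U ∧ IsoOn v U := by
  haveI : F.IsQuasicoherent := hF.1
  haveI : F.IsFiniteType := hF.2
  obtain ⟨φ⟩ := nonempty_iso_of_isBasis he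
  obtain ⟨ψ⟩ := nonempty_iso_of_isBasis (isBasis_bsec (X := X) r U)
  have hfree : FlatMod.IsFinLocFreeOfRank r (FlatMod.freeMod X r) :=
    isFinLocFreeOfRank_iff.mpr (fun x => ⟨⊤, _, trivial, isBasis_bsec r ⊤⟩)
  have hOc := isCoh_of_isFinLocFreeOfRank hfree
  haveI : (FlatMod.freeMod X r).IsQuasicoherent := hOc.1
  haveI : (FlatMod.freeMod X r).IsFiniteType := hOc.2
  let a := Groth.Agent.Lib.Helper17.Hartogs.unit F U
  let b := Groth.Agent.Lib.Helper17.Hartogs.unit (FlatMod.freeMod X r) U ≫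
    (Scheme.Modules.pushforward U.ι).map (ψ.hom ≫ φ.inv)
  have ha : IsoOn a U := isoOn_unit F U
  have hb : IsoOn b U := (isoOn_unit _ U).comp (isoOn_of_isIso _ U)
  haveI : (F ⊞ FlatMod.freeMod X r : X.Modules).IsQuasicoherent :=
    QCLim.isQuasicoherent_biprod _ _
  haveI : (F ⊞ FlatMod.freeMod X r : X.Modules).IsFiniteType :=
    Groth.Agent.Lib.Helper13.FTApprox.isFiniteType_biprod _ _
  haveI : (kernel (biprod.desc a b)).IsQuasicoherent := QCProps.isQuasicoherent_kernel _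
  refine ⟨kernel (biprod.desc a b), kernel.ι _ ≫ biprod.fst, kernel.ι _ ≫ biprod.snd,
    ⟨inferInstance, QCProps.isFiniteType_of_mono (kernel.ι (biprod.desc a b))⟩,
    isoOn_fst a b hb, isoOn_snd a b ha⟩

include hE in
/-- **`χ(V ⊗ E) - n χ(V) = m · deg E`** for locally free `V` of rank `m`. -/
theorem delta_locFree (hdim : topologicalKrullDim X ≤ 1) {m : ℕ} {V : X.Modules}
    (hV : FlatMod.IsFinLocFreeOfRank m V) :
    delta k n E V = m * Curv2.deg k X E n := by
  haveI := isNoetherian_of_isProper k X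
  have hVc := isCoh_of_isFinLocFreeOfRank hV
  obtain ⟨U, e, hU, he⟩ := exists_dense_isBasis hV
  obtain ⟨H, u, v, hH, hu, hv⟩ := exists_common' hVc he
  have h1 := delta_eq_of_isoOn' k hE hdim hH hVc u hU hu
  have h2 := delta_eq_of_isoOn' k hE hdim hH (isCoh_freeMod X _) v hU hv
  rw [← h1, h2, delta_freeMod k hE, delta_structureModule k hE]

include hE in
/-- **`deg (E ⊗ V) = n · deg V + m · deg E`** on a proper scheme of dimension `≤ 1`. -/
theorem deg_tensor_gen (hdim : topologicalKrullDim X ≤ 1) {m : ℕ} {V : X.Modules}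
    (hV : FlatMod.IsFinLocFreeOfRank m V) :
    Curv2.deg k X (CohB1.tensorMod E V) (n * m) =
      n * Curv2.deg k X V m + m * Curv2.deg k X E n := by
  have hEc := isCoh_of_isFinLocFreeOfRank hE
  have hVc := isCoh_of_isFinLocFreeOfRank hV
  have h := delta_locFree k hE hdim hV
  have h5 : Curv2.euler k X (CohB1.tensorMod E V) = Curv2.euler k X (CohB1.tensorMod V E) :=
    euler_eq_of_iso k (braid E V) (isCoh_tensor X hEc hVc)
  unfold delta at h
  unfold Curv2.deg at h ⊢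
  rw [h5]
  push_cast
  linarith

end Euler

end Groth.Agent.Lib.Helper23.DegTensorGen
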