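import Groth.Agent.Lib.Helper23.CurveG
import Groth.Agent.Lib.Helper23.DegTensorGen
import Groth.Agent.Lib.Helper14.SmoothInsepSch

/-!
# CurveGen: cohomology of quasi-coherent modules on a proper scheme of dimension `≤ 1` over a
field vanishes above degree 1 (no integrality assumption)
-/
set_option autoImplicit false
universe u
open CategoryTheory CategoryTheory.Limits Opposite TopologicalSpace AlgebraicGeometry
open Groth.Agent.Lib.Helper3 Groth.Agent.Lib.Helper3.QCSec Groth.Agent.Lib.Helper3.InvGen
open Groth.Agent.Lib.Helper23.T2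

noncomputable section

namespace Groth.Agent.Lib.Helper23.CurveGen

open Groth.Agent.Lib.Helper23.Curve

variable (k : Type u) [Field k] (X : Scheme.{u}) [X.Over (Spec (CommRingCat.of k))]
  [IsProper (X ↘ Spec (CommRingCat.of k))]

include k in
/-- a module vanishing on a dense open of a proper scheme of dimension `≤ 1` is flasque. -/
theorem isFlq_of_vanishesOn_dense (hdim : topologicalKrullDim X ≤ 1) (K : X.Modules)
    (D : X.Opens) (hD : Dense (D : Set X)) (hK : VanishesOn K D) : IsFlq K := by
  haveI := isNoetherian_of_isProper k X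
  haveI : NoetherianSpace X := inferInstance
  obtain ⟨hfin, hcl⟩ := Groth.Agent.Lib.Helper23.DegTensorGen.finite_compl_of_dense hdim hD
  refine @isFlq_of_vanishing_off_finite X K _ hfin hcl (fun V hV t => hK V ?_ t)
  intro x hx
  by_contra hxD
  exact Set.disjoint_left.1 hV hx hxD

include k in
/-- **Cohomology of a quasi-coherent module on a proper scheme of dimension `≤ 1` over a field
vanishes in degrees `≥ 2`.** -/
theorem subsingleton_HH_of_dim_le_one (hdim : topologicalKrullDim X ≤ 1) (F : X.Modules)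
    [F.IsQuasicoherent] (n : ℕ) : Subsingleton (Coh.HH X F (n + 2)) := by
  haveI := isNoetherian_of_isProper k X
  obtain ⟨U, hU, hUd⟩ := Groth.Agent.Lib.Helper14.SmoothInsepSch.exists_dense_isAffineOpen X
  haveI : IsAffine (U : Scheme.{u}) := hU
  haveI : IsAffineHom (U.ι ≫ (X ↘ Spec (CommRingCat.of k))) := inferInstance
  haveI : IsAffineHom U.ι := IsAffineHom.of_comp U.ι (X ↘ Spec (CommRingCat.of k))
  let 𝒮 := zeroClass (Coh.Γtop X)
  set F' : (U : Scheme.{u}).Modules := (Scheme.Modules.pullback U.ι).obj F with hF'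
  haveI : F'.IsQuasicoherent := Groth.Agent.Lib.Helper17.PbStalk.isQuasicoherent_pullback U.ι F
  let η : F ⟶ (Coh.push U.ι).obj F' :=
    (Scheme.Modules.pullbackPushforwardAdjunction U.ι).unit.app F
  have hKfl : IsFlq (kernel η) := isFlq_of_vanishesOn_dense k X hdim _ U hUd
    (vanishesOn_of_support_subset _ _ (support_kernel_unit U.ι F U))
  have hQfl : IsFlq (cokernel η) := isFlq_of_vanishesOn_dense k X hdim _ U hUd
    (vanishesOn_of_support_subset _ _ (support_cokernel_unit U.ι F U))
  have hE : ∀ m, 𝒮.P (HHm ((Coh.push U.ι).obj F') (m + 1)) := fun m =>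
    (affine_transfer U.ι F' (zeroClass_compat (pushRing U.ι)) (m + 1)).2
      (Groth.Agent.S0007.result _ F' (m + 1) (by omega))
  -- `0 → im → E → coker → 0`
  have hS₂ : (ShortComplex.kernelSequence (cokernel.π η)).ShortExact :=
    ShortComplex.ShortExact.mk' (ShortComplex.kernelSequence_exact _) inferInstance
      (inferInstanceAs (Epi (cokernel.π η)))
  have hIm : ∀ m, 𝒮.P (HHm (kernel (cokernel.π η)) (m + 2)) := fun m =>
    𝒮.mid (hδ _ hS₂ (m + 1)) (hmap (ShortComplex.kernelSequence (cokernel.π η)).f (m + 1 + 1))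
      (fun b hb => hexact₁ _ hS₂ (m + 1) b hb) (acyclic_of_isFlq hQfl m) (hE (m + 1))
  -- `0 → ker → F → coim → 0`
  have hS₁ : (ShortComplex.cokernelSequence (kernel.ι η)).ShortExact :=
    ShortComplex.ShortExact.mk' (ShortComplex.cokernelSequence_exact _)
      (inferInstanceAs (Mono (kernel.ι η))) inferInstance
  have hCoim : 𝒮.P (HHm (cokernel (kernel.ι η)) (n + 2)) :=
    𝒮.of_equiv (hmapEquiv (Abelian.coimageIsoImage η).symm (n + 2)) (hIm n)
  exact P_mid_of_shortExact 𝒮 _ hS₁ (n + 2) (acyclic_of_isFlq hKfl (n + 1)) hCoim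

end Groth.Agent.Lib.Helper23.CurveGen
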