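import Groth.Agent.Lib.Helper23.PushIso
import Groth.Agent.Lib.Helper23.CurveGen
import Groth.Agent.Lib.Helper3.InvAmple

/-!
# StructPush: the canonical map `O_X ⟶ f_* O_Y`, and the comparison of `H¹` of structure sheaves
along finite morphisms which are closed immersions over a dense open (dimension `≤ 1`).
-/
set_option autoImplicit false
set_option linter.style.haveILetI false
universe u
open CategoryTheory CategoryTheory.Limits Opposite TopologicalSpace AlgebraicGeometry
open Groth.Agent.Lib.Helper3 Groth.Agent.Lib.Helper3.QCSec Groth.Agent.Lib.Helper3.InvGen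
open Groth.Agent.Lib.Helper23.T2

noncomputable section

namespace Groth.Agent.Lib.Helper23.StructPush

open Groth.Agent.Lib.Helper23.Curve Groth.Agent.Lib.Helper23.FBC

variable {X Y : Scheme.{u}} (f : Y ⟶ X)

/-- the unit section of `f_* O_Y` -/
def oneSec : Γ((Scheme.Modules.pushforward f).obj (Coh.structureModule Y), ⊤) :=
  (ofFun (f ⁻¹ᵁ ⊤) 1 : Γ(Coh.structureModule Y, f ⁻¹ᵁ ⊤))

/-- the canonical map `O_X ⟶ f_* O_Y` -/
def structMap :
    Coh.structureModule X ⟶ (Scheme.Modules.pushforward f).obj (Coh.structureModule Y) :=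
  InvAmple.globalHom _ (oneSec f)

theorem structMap_app (W : X.Opens) (r : Γ(X, W)) :
    (structMap f).app W (ofFun W r) =
      (ofFun (f ⁻¹ᵁ W) ((f.app W).hom r) : Γ(Coh.structureModule Y, f ⁻¹ᵁ W)) := by
  rw [app_eq_smul_sec]
  unfold structMap
  rw [InvAmple.sec_globalHom]
  change (ofFun (f ⁻¹ᵁ W) ((f.app W).hom r * (Y.presheaf.map (homOfLE le_top).op).hom 1) :
    Γ(Coh.structureModule Y, f ⁻¹ᵁ W)) = _
  rw [map_one]
  exact congrArg (ofFun (f ⁻¹ᵁ W)) (mul_one ((f.app W).hom r))

/-- if `f` restricted over `U` is a closed immersion then `f^♯` is surjective on affine opens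
inside `U` -/
theorem app_surjective_of_le (U : X.Opens) (hfU : IsClosedImmersion (f ∣_ U)) (W : X.Opens)
    (hW : IsAffineOpen W) (hWU : W ≤ U) : Function.Surjective (f.app W).hom := by
  have hW' : U.ι ''ᵁ (U.ι ⁻¹ᵁ W) = W := ι_image_preimage_of_le hWU
  have haff : IsAffineOpen (U.ι ⁻¹ᵁ W) := by
    rw [← Scheme.Hom.isAffineOpen_iff_of_isOpenImmersion U.ι, hW']
    exact hW
  have h1 : Function.Surjective ((f ∣_ U).app (U.ι ⁻¹ᵁ W)).hom :=
    Scheme.Hom.app_surjective (f ∣_ U) _ haff
  rw [morphismRestrict_app] at h1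
  have h2 : Function.Surjective (f.app (U.ι ''ᵁ (U.ι ⁻¹ᵁ W))).hom := by
    intro y
    obtain ⟨x, hx⟩ := h1 ((Y.presheaf.map (eqToHom
      (image_morphismRestrict_preimage f U (U.ι ⁻¹ᵁ W))).op).hom y)
    refine ⟨x, ?_⟩
    have hinj : Function.Injective (Y.presheaf.map (eqToHom
        (image_morphismRestrict_preimage f U (U.ι ⁻¹ᵁ W))).op).hom :=
      ((ConcreteCategory.bijective_of_isIso _).1)
    exact hinj hx
  revert h2
  generalize U.ι ''ᵁ (U.ι ⁻¹ᵁ W) = W'' at hW'
  subst hW'
  exact id

variable [IsAffineHom f]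

instance isQuasicoherent_push_structure :
    ((Scheme.Modules.pushforward f).obj (Coh.structureModule Y)).IsQuasicoherent :=
  QCSec.isQuasicoherent_pushforward f _

/-- the cokernel of `O_X ⟶ f_* O_Y` vanishes on an open over which `f` is a closed immersion -/
theorem vanishesOn_cokernel (U : X.Opens) (hfU : IsClosedImmersion (f ∣_ U)) :
    VanishesOn (cokernel (structMap f)) U := by
  intro V hVU t
  haveI : (cokernel (structMap f)).IsQuasicoherent := QCProps.isQuasicoherent_cokernel _
  have hepi : ∀ (W : X.Opens), IsAffineOpen W →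
      Function.Surjective ((cokernel.π (structMap f)).app W) :=
    (QCExact.epi_iff_surjective_on_affines (cokernel.π (structMap f))).1 inferInstance
  apply ModBasis.eq_zero_of_locally_zero
  intro x hxV
  obtain ⟨W, hW, hxW, hWV⟩ := (Opens.isBasis_iff_nbhd.1 X.isBasis_affineOpens) hxV
  refine ⟨W, hWV, hxW, ?_⟩
  obtain ⟨b, hb⟩ := hepi W hW (res _ hWV t)
  obtain ⟨a, ha⟩ := app_surjective_of_le f U hfU W hW (hWV.trans hVU)
    (toFun (f ⁻¹ᵁ W) (b : Γ(Coh.structureModule Y, f ⁻¹ᵁ W)))
  have h1 : (structMap f).app W (ofFun W a) = b := by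
    rw [structMap_app, ha]
    rfl
  rw [← hb, ← h1]
  have h2 : (structMap f ≫ cokernel.π (structMap f)).app W (ofFun W a) = 0 := by
    rw [cokernel.condition]
    rfl
  exact h2

section Main

variable (k : Type u) [Field k] [X.Over (Spec (CommRingCat.of k))]
  [IsProper (X ↘ Spec (CommRingCat.of k))]

include k in
/-- if `f` is a closed immersion over a dense open of the proper scheme `X` of dimension `≤ 1`,
then `H¹(X, O_X) ⟶ H¹(X, f_* O_Y)` is surjective -/
theorem surjective_Hmap_structMap (hdim : topologicalKrullDim X ≤ 1) (U : X.Opens)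
    (hU : Dense (U : Set X)) (hfU : IsClosedImmersion (f ∣_ U)) :
    Function.Surjective (Hmap (structMap f) 1) := by
  set φ := structMap f with hφ
  haveI : (cokernel φ).IsQuasicoherent := QCProps.isQuasicoherent_cokernel _
  haveI : (Abelian.image φ).IsQuasicoherent := QCProps.isQuasicoherent_kernel _
  haveI : (kernel (Abelian.factorThruImage φ)).IsQuasicoherent :=
    QCProps.isQuasicoherent_kernel _
  have hQfl : IsFlq (cokernel φ) :=
    CurveGen.isFlq_of_vanishesOn_dense k X hdim _ U hU (vanishesOn_cokernel f U hfU)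
  have hQ : Subsingleton (Coh.HH X (cokernel φ) 1) := acyclic_of_isFlq hQfl 0
  have hK : Subsingleton (Coh.HH X (kernel (Abelian.factorThruImage φ)) 2) :=
    CurveGen.subsingleton_HH_of_dim_le_one k X hdim _ 0
  have hS₂ : (ShortComplex.kernelSequence (cokernel.π φ)).ShortExact :=
    ShortComplex.ShortExact.mk' (ShortComplex.kernelSequence_exact _) inferInstance
      (inferInstanceAs (Epi (cokernel.π φ)))
  have hS₁ : (ShortComplex.kernelSequence (Abelian.factorThruImage φ)).ShortExact :=
    ShortComplex.ShortExact.mk' (ShortComplex.kernelSequence_exact _) inferInstance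
      (inferInstanceAs (Epi (Abelian.factorThruImage φ)))
  intro y
  obtain ⟨x, hx⟩ := exact₂ _ hS₂ 1 y (hQ.elim _ _)
  obtain ⟨w, hw⟩ := exact₃ _ hS₁ 1 x (hK.elim _ _)
  refine ⟨w, ?_⟩
  have hfac : φ = Abelian.factorThruImage φ ≫ Abelian.image.ι φ := (Abelian.image.fac φ).symm
  rw [hfac, Hmap_comp]
  change Hmap (Abelian.image.ι φ) 1 (Hmap (Abelian.factorThruImage φ) 1 w) = y
  have hw' : Hmap (Abelian.factorThruImage φ) 1 w = x := hw
  rw [hw']
  exact hx

variable [Y.Over (Spec (CommRingCat.of k))]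

include k in
/-- **`h¹(Y, O_Y) ≤ h¹(X, O_X)`** for a finite morphism `f : Y ⟶ X` which is a closed immersion
over a dense open of the proper scheme `X` of dimension `≤ 1`. -/
theorem finrank_H1_le (hf : f ≫ (X ↘ Spec (CommRingCat.of k)) = Y ↘ Spec (CommRingCat.of k))
    (hdim : topologicalKrullDim X ≤ 1) (U : X.Opens)
    (hU : Dense (U : Set X)) (hfU : IsClosedImmersion (f ∣_ U)) :
    Module.finrank k (Coh.HH Y (Coh.structureModule Y) 1) ≤
      Module.finrank k (Coh.HH X (Coh.structureModule X) 1) := by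
  haveI : CompactSpace X :=
    QuasiCompact.compactSpace_of_compactSpace (X ↘ Spec (CommRingCat.of k))
  obtain ⟨e⟩ := PushIso.nonempty_equiv f k hf
    (fun V hV => isAffineHom_ι_of_isSeparated k V hV) 1 (Coh.structureModule Y)
  rw [e.finrank_eq]
  haveI : Module.Finite k (Coh.HH X (Coh.structureModule X) 1) :=
    finite_HH k (Coh.structureModule X) (isCoh_structureModule X) 1
  have hs : Function.Surjective (HmapK k (structMap f) 1) :=
    surjective_Hmap_structMap f k hdim U hU hfU
  exact LinearMap.finrank_le_finrank_of_surjective hs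

end Main

end Groth.Agent.Lib.Helper23.StructPush
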