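import Mathlib
import Groth.Prelude
import Groth.Agent.Lib.Helper23.SnapE
import Groth.Agent.Lib.Helper2.Mon.ProjClosed
import Groth.Agent.Lib.Helper3.PbTensor
import Groth.Agent.Lib.Helper7.DegPull

/-!
# Helper library (helper23): Euler characteristics of iterated twists on a closed subscheme
-/

set_option autoImplicit false
set_option linter.unusedSectionVars false
set_option linter.style.haveILetI false
universe u
open CategoryTheory CategoryTheory.Limits AlgebraicGeometry

namespace Groth.Agent.Lib.Helper23.Snap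

open Groth.Agent.Lib.Helper3 Groth.Agent.Lib.Helper3.InvMonoidal Groth.Agent.Lib.Helper3.InvGen
open Groth.Agent.Lib.Helper3.InvTensor Groth.Agent.Lib.Helper3.PbTensor
open Groth.Agent.Lib.Helper3.PbBasic
open Groth.Agent.Lib.Helper23.HilbP

section Iso

variable {X Z : Scheme.{u}} (ι : Z ⟶ X) [IsClosedImmersion ι]

/-- iterated projection formula. -/
theorem nonempty_push_tp : ∀ (r : ℕ) (L : Fin r → X.Modules) (_ : ∀ i, PicF.IsInvertible (L i))
    (n : Fin r → ℕ) (G : Z.Modules),
    Nonempty ((Scheme.Modules.pushforward ι).obj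
        (tp r (fun i => (Scheme.Modules.pullback ι).obj (L i)) n G) ≅
      tp r L n ((Scheme.Modules.pushforward ι).obj G))
  | 0, _, _, _, _ => ⟨Iso.refl _⟩
  | r + 1, L, hL, n, G => by
    obtain ⟨e⟩ := nonempty_push_tp r (fun i => L i.castSucc) (fun i => hL i.castSucc)
      (fun i => n i.castSucc) G
    rw [tp_succ, tp_succ]
    refine ⟨(Scheme.Modules.pushforward ι).mapIso (tensorMapIso (Iso.refl _)
      (pbPowIso ι (L (Fin.last r)) (hL (Fin.last r)) (n (Fin.last r))).symm) ≪≫
      (Groth.Agent.Lib.Helper2.Mon.projIso ι _ _).symm ≪≫ tensorMapIso e (Iso.refl _)⟩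

end Iso

section Euler

variable (k : Type u) [Field k] (X : Scheme.{u}) [X.Over (Spec (CommRingCat.of k))]
  [IsProper (X ↘ Spec (CommRingCat.of k))]

theorem euler_tp_closedImmersion {Z : Scheme.{u}} (ι : Z ⟶ X) [IsClosedImmersion ι] (r : ℕ)
    (L : Fin r → X.Modules) (hL : ∀ i, PicF.IsInvertible (L i)) (n : Fin r → ℕ)
    (G : Z.Modules) (hG : Coh.IsCoh G) :
    @Curv2.euler k _ Z ⟨ι ≫ (X ↘ Spec (CommRingCat.of k))⟩
        (Curv2.tensorPows G r (fun i => (Scheme.Modules.pullback ι).obj (L i)) n) =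
      Curv2.euler k X (Curv2.tensorPows ((Scheme.Modules.pushforward ι).obj G) r L n) := by
  letI : Z.Over (Spec (CommRingCat.of k)) := ⟨ι ≫ (X ↘ Spec (CommRingCat.of k))⟩
  have hc := isCoh_tp r (fun i => (Scheme.Modules.pullback ι).obj (L i))
    (fun i => isInvertible_pullback ι (hL i)) n G hG
  haveI := hc.1
  obtain ⟨e⟩ := nonempty_push_tp ι r L hL n G
  rw [Groth.Agent.Lib.Helper7.DegPull.euler_push k ι rfl
    (Curv2.tensorPows G r (fun i => (Scheme.Modules.pullback ι).obj (L i)) n)]
  exact FBC.euler_eq_of_iso' k e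

end Euler

end Groth.Agent.Lib.Helper23.Snap
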