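import Mathlib
import Groth.Prelude
import Groth.Agent.Lib.Helper23.SnapE
import Groth.Agent.Lib.Helper23.SnapG
import Groth.Agent.Lib.Helper13.ProjFormulaLF
import Groth.Agent.Lib.Helper1.TensorRank3
import Groth.Agent.Lib.Helper17.LocFreeRank

/-!
# Helper library (helper23): the degree of a locally free module on a proper scheme of dimension
at most one is the sum over the one-dimensional points (dévissage in `K₀`)
-/

set_option autoImplicit false
set_option linter.unusedSectionVars false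
set_option linter.style.haveILetI false
universe u
open CategoryTheory CategoryTheory.Limits AlgebraicGeometry

namespace Groth.Agent.Lib.Helper23.DegComp

open Groth.Agent.Lib.Helper23.HilbP Groth.Agent.Lib.Helper23.Snap
open Groth.Agent.Lib.Helper1 Groth.Agent.Lib.Helper1.K0Dim
open Groth.Agent.Lib.Helper13 Groth.Agent.Lib.Helper17 Groth.Agent.Lib.Helper3 H10K0

theorem isFinLocFree_of_rank {X : Scheme.{u}} {E : X.Modules} {n : ℕ}
    (hE : FlatMod.IsFinLocFreeOfRank n E) : FlatMod.IsFinLocFree E := fun x => by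
  obtain ⟨U, hx, e⟩ := hE x
  exact ⟨U, n, hx, e⟩

theorem isCoh_tensor_lf {X : Scheme.{u}} {E : X.Modules} {n : ℕ}
    (hE : FlatMod.IsFinLocFreeOfRank n E) {F : X.Modules} (hF : Coh.IsCoh F) :
    Coh.IsCoh (CohB1.tensorMod E F) := by
  have hEc := Groth.Agent.Lib.Helper7.TorsFree.isCoh_of_isFinLocFreeOfRank' hE
  haveI := hEc.1
  haveI := hEc.2
  haveI := hF.1
  haveI := hF.2
  have hT : Coh.IsCoh (CohB1.tensorMod F E) :=
    ⟨TensorSec.isQuasicoherent_tensorMod F E, TensorSec.isFiniteType_tensorMod F E⟩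
  exact DevBasic.isCoh_of_iso (InvMonoidal.braid E F).symm hT

section Main

variable (k : Type u) [Field k] (X : Scheme.{u}) [X.Over (Spec (CommRingCat.of k))]
  [IsProper (X ↘ Spec (CommRingCat.of k))]

/-- `ψ_E(F) = χ(E ⊗ F) - n χ(F)`. -/
noncomputable def psi (E : X.Modules) (n : ℕ) (F : X.Modules) : ℤ :=
  Curv2.euler k X (CohB1.tensorMod E F) - n * Curv2.euler k X F

theorem psi_add (E : X.Modules) (n : ℕ) (hE : FlatMod.IsFinLocFreeOfRank n E)
    (S : ShortComplex X.Modules) (hS : S.ShortExact) (h1 : Coh.IsCoh S.X₁)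
    (h2 : Coh.IsCoh S.X₂) (h3 : Coh.IsCoh S.X₃) :
    psi k X E n S.X₂ = psi k X E n S.X₁ + psi k X E n S.X₃ := by
  haveI := ProjFormulaLF.pfl_TL E (isFinLocFree_of_rank hE)
  have hS' : (S.map (ProjFormulaLF.TL E)).ShortExact := hS.map_of_exact _
  have a1 := T2.euler_additive k X _ hS' (isCoh_tensor_lf hE h1) (isCoh_tensor_lf hE h2)
    (isCoh_tensor_lf hE h3)
  have a2 := T2.euler_additive k X S hS h1 h2 h3
  unfold psi
  change Curv2.euler k X (CohB1.tensorMod E S.X₂) =
    Curv2.euler k X (CohB1.tensorMod E S.X₁) + Curv2.euler k X (CohB1.tensorMod E S.X₃) at a1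
  rw [a1, a2]
  ring

theorem psi_eq_zero_of_dim_lt (E : X.Modules) (n : ℕ) (hE : FlatMod.IsFinLocFreeOfRank n E)
    (G : X.Modules) (hG : Coh.IsCoh G)
    (hdim : topologicalKrullDim (CohB1.support G) < ((1 : ℕ) : WithBot ℕ∞)) :
    psi k X E n G = 0 := by
  haveI : IsNoetherian X := isNoetherian_of_isProper k X
  obtain ⟨Χ, hΧ⟩ := exists_lift (fun M : X.Modules => Coh.IsCoh M) (Curv2.euler k X)
    (fun S hS h1 h2 h3 => T2.euler_additive k X S hS h1 h2 h3)
  have hmem := TensorRank.key7763 X E n hE G hG 0 (le_of_lt_succ_dim hdim)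
  have hbot : AddSubgroup.closure {x : KZero.K0sub (fun M : X.Modules => Coh.IsCoh M) |
      ∃ G' : X.Modules, Coh.IsCoh G' ∧
        topologicalKrullDim (CohB1.support G') < ((0 : ℕ) : WithBot ℕ∞) ∧
        x = KZero.clSub (fun M : X.Modules => Coh.IsCoh M) G'} ≤ ⊥ := by
    rw [AddSubgroup.closure_le]
    rintro x ⟨G', hG', hd', rfl⟩
    have hz : IsZero G' := by
      by_contra hnz
      haveI := hG'.1
      haveI := hG'.2
      obtain ⟨x, hx⟩ := Groth.Agent.Lib.Helper1.MaxAnnInt.support_nonempty G' hnz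
      haveI : Nonempty ↥(CohB1.support G') := ⟨⟨x, hx⟩⟩
      have h0 : (0 : WithBot ℕ∞) ≤ topologicalKrullDim ↥(CohB1.support G') := by
        unfold topologicalKrullDim
        haveI : Nonempty (TopologicalSpace.IrreducibleCloseds ↥(CohB1.support G')) :=
          ⟨⟨closure {⟨x, hx⟩}, isIrreducible_singleton.closure, isClosed_closure⟩⟩
        exact Order.krullDim_nonneg
      exact absurd (lt_of_le_of_lt h0 hd') (by simp)
    change _ = (0 : KZero.K0sub (fun M : X.Modules => Coh.IsCoh M))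
    exact clSub_isZero _ hz hG'
  have h0 := hbot hmem
  rw [AddSubgroup.mem_bot] at h0
  have h1 := congrArg Χ h0
  rw [map_sub, map_nsmul, hΧ _ (isCoh_tensor_lf hE hG), hΧ _ hG, map_zero] at h1
  unfold psi
  rw [← h1]
  simp [nsmul_eq_mul]

/-- the multiplicity of `F` at a point whose closure has dimension one, as an integer. -/
noncomputable def multZ (F : X.Modules) (ξ : X) : ℤ :=
  if topologicalKrullDim ↥(closure ({ξ} : Set X)) = ((1 : ℕ) : WithBot ℕ∞) then
    ((Module.length (X.presheaf.stalk ξ) (F.presheaf.stalk ξ)).toNat : ℤ) else 0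

/-- **dévissage of `χ(E ⊗ F) - n χ(F)`** over the one-dimensional points. -/
theorem psi_eq_finsum (E : X.Modules) (n : ℕ) (hE : FlatMod.IsFinLocFreeOfRank n E)
    (F : X.Modules) (hF : Coh.IsCoh F)
    (hdim : topologicalKrullDim (CohB1.support F) ≤ ((1 : ℕ) : WithBot ℕ∞)) :
    psi k X E n F = ∑ᶠ ξ : X, multZ X F ξ * psi k X E n (Cyc.closureStructureSheaf ξ) := by
  haveI : IsNoetherian X := isNoetherian_of_isProper k X
  haveI := hF.1
  haveI := hF.2
  have hcl : IsClosed (CohB1.support F) := MaxAnnInt.isClosed_support F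
  obtain ⟨Ψ, hΨ⟩ := exists_lift (fun M : X.Modules => Coh.IsCoh M) (psi k X E n)
    (fun S hS h1 h2 h3 => psi_add k X E n hE S hS h1 h2 h3)
  have key := key5642 X 1 F hF hdim
  have hsub : AddSubgroup.closure {x : KZero.K0sub (fun M : X.Modules => Coh.IsCoh M) |
      ∃ G : X.Modules, Coh.IsCoh G ∧
        topologicalKrullDim (CohB1.support G) < ((1 : ℕ) : WithBot ℕ∞) ∧
        x = KZero.clSub (fun M : X.Modules => Coh.IsCoh M) G} ≤ Ψ.ker := by
    rw [AddSubgroup.closure_le]
    rintro x ⟨G, hG, hGd, rfl⟩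
    change Ψ _ = 0
    rw [hΨ G hG]
    exact psi_eq_zero_of_dim_lt k X E n hE G hG hGd
  have h1 := hsub key
  rw [AddMonoidHom.mem_ker] at h1
  have hfin := finite_support_term 1 hcl hdim F le_rfl
  rw [map_sub, hΨ F hF, AddMonoidHom.map_finsum _ hfin, sub_eq_zero] at h1
  rw [h1]
  refine finsum_congr fun ξ => ?_
  unfold term multZ
  split_ifs with h
  · rw [map_nsmul, hΨ _ (isCoh_closureStructureSheaf ξ)]
    simp [nsmul_eq_mul]
  · rw [map_zero]
    simp

end Main

end Groth.Agent.Lib.Helper23.DegComp
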