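import Mathlib
import Groth.Prelude
import Groth.Agent.Lib.Helper23.DegCompA
import Groth.Agent.Lib.Helper23.T2L

/-!
# Helper library (helper23): `χ(E ⊗ O_Z) - n χ(O_Z)` is the degree of `E|_Z`
-/

set_option autoImplicit false
set_option linter.unusedSectionVars false
set_option linter.style.haveILetI false
universe u
open CategoryTheory CategoryTheory.Limits AlgebraicGeometry

namespace Groth.Agent.Lib.Helper23.DegComp

open Groth.Agent.Lib.Helper23.HilbP Groth.Agent.Lib.Helper23.Snap
open Groth.Agent.Lib.Helper1 Groth.Agent.Lib.Helper1.K0Dim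
open Groth.Agent.Lib.Helper13 Groth.Agent.Lib.Helper17 Groth.Agent.Lib.Helper3 H10K0

section Main

variable (k : Type u) [Field k] (X : Scheme.{u}) [X.Over (Spec (CommRingCat.of k))]
  [IsProper (X ↘ Spec (CommRingCat.of k))]

theorem psi_push {Z : Scheme.{u}} (ι : Z ⟶ X) [IsClosedImmersion ι] (E : X.Modules) (n : ℕ)
    (hE : FlatMod.IsFinLocFreeOfRank n E) :
    psi k X E n ((Scheme.Modules.pushforward ι).obj (Coh.structureModule Z)) =
      @Curv2.deg k _ Z ⟨ι ≫ (X ↘ Spec (CommRingCat.of k))⟩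
        ((Scheme.Modules.pullback ι).obj E) n := by
  letI : Z.Over (Spec (CommRingCat.of k)) := ⟨ι ≫ (X ↘ Spec (CommRingCat.of k))⟩
  have hpb := Groth.Agent.Lib.Helper7.TorsFree.isCoh_of_isFinLocFreeOfRank'
    (LocFreeRank.isFinLocFreeOfRank_pullback ι E n hE)
  haveI := hpb.1
  haveI := (T2.isCoh_structureModule Z).1
  let e : CohB1.tensorMod E ((Scheme.Modules.pushforward ι).obj (Coh.structureModule Z)) ≅
      (Scheme.Modules.pushforward ι).obj ((Scheme.Modules.pullback ι).obj E) :=
    InvMonoidal.braid E _ ≪≫ Groth.Agent.Lib.Helper2.Mon.projIso ι (Coh.structureModule Z) E ≪≫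
      (Scheme.Modules.pushforward ι).mapIso (InvMonoidal.unitorL _)
  unfold psi Curv2.deg
  rw [FBC.euler_eq_of_iso' k e,
    ← Groth.Agent.Lib.Helper7.DegPull.euler_push k ι rfl ((Scheme.Modules.pullback ι).obj E),
    ← Groth.Agent.Lib.Helper7.DegPull.euler_push k ι rfl (Coh.structureModule Z)]

theorem psi_closure (E : X.Modules) (n : ℕ) (hE : FlatMod.IsFinLocFreeOfRank n E) (ξ : X)
    (J : X.IdealSheafData)
    (hJ : J = Scheme.IdealSheafData.vanishingIdeal
      (⟨closure ({ξ} : Set X), isClosed_closure⟩ : TopologicalSpace.Closeds X)) :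
    psi k X E n (Cyc.closureStructureSheaf ξ) =
      @Curv2.deg k _ J.subscheme ⟨J.subschemeι ≫ (X ↘ Spec (CommRingCat.of k))⟩
        ((Scheme.Modules.pullback J.subschemeι).obj E) n := by
  subst hJ
  exact psi_push k X _ E n hE

end Main

end Groth.Agent.Lib.Helper23.DegComp
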