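import Mathlib
import Groth.Prelude
import Groth.Agent.Lib.Helper23.DegCompB
import Groth.Agent.Lib.Helper9.StalkUnit

/-!
# Helper library (helper23): the degree on a proper scheme of dimension at most one as a sum over
irreducible components
-/

set_option autoImplicit false
set_option linter.unusedSectionVars false
set_option linter.style.haveILetI false
universe u
open CategoryTheory CategoryTheory.Limits AlgebraicGeometry

namespace Groth.Agent.Lib.Helper23.DegComp

open Groth.Agent.Lib.Helper23.HilbP Groth.Agent.Lib.Helper23.Snap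
open Groth.Agent.Lib.Helper1 Groth.Agent.Lib.Helper1.K0Dim
open Groth.Agent.Lib.Helper13 Groth.Agent.Lib.Helper17 Groth.Agent.Lib.Helper3 H10K0

/-- the stalk of the structure module is the local ring. -/
noncomputable def unitStalkLinearEquiv' {X : Scheme.{u}} (x : X) :
    (Coh.structureModule X).presheaf.stalk x ≃ₗ[X.presheaf.stalk x] X.presheaf.stalk x :=
  LinearEquiv.ofBijective
    { toFun := Groth.Agent.Lib.Helper9.StalkUnit.unitStalkHom x
      map_add' := map_add _
      map_smul' := fun r a => Groth.Agent.Lib.Helper9.StalkUnit.unitStalkHom_smul x r a }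
    ⟨Groth.Agent.Lib.Helper9.StalkUnit.unitStalkHom_injective x,
      Groth.Agent.Lib.Helper9.StalkUnit.unitStalkHom_surjective x⟩

theorem length_structureModule_stalk {X : Scheme.{u}} (x : X) :
    Module.length (X.presheaf.stalk x) ((Coh.structureModule X).presheaf.stalk x) =
      Module.length (X.presheaf.stalk x) (X.presheaf.stalk x) :=
  (unitStalkLinearEquiv' x).length_eq

theorem dim_univ_eq (T : Type*) [TopologicalSpace T] :
    topologicalKrullDim ↥(Set.univ : Set T) = topologicalKrullDim T :=
  (Homeomorph.Set.univ T).isHomeomorph.topologicalKrullDim_eq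

section Main

variable (k : Type u) [Field k] (X : Scheme.{u}) [X.Over (Spec (CommRingCat.of k))]
  [IsProper (X ↘ Spec (CommRingCat.of k))]

/-- **`χ(E ⊗ F) - n χ(F)` as a sum over the one-dimensional irreducible components.** -/
theorem psi_eq_finsum_components [IsNoetherian X]
    (hdimX : topologicalKrullDim X ≤ ((1 : ℕ) : WithBot ℕ∞))
    (E : X.Modules) (n : ℕ) (hE : FlatMod.IsFinLocFreeOfRank n E)
    (F : X.Modules) (hF : Coh.IsCoh F) :
    psi k X E n F = ∑ᶠ Z : irreducibleComponents (X : Type u),
      (if topologicalKrullDim (Z.1 : Set X) = ((1 : ℕ) : WithBot ℕ∞) then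
        ((Module.length (X.presheaf.stalk Z.2.1.genericPoint)
            (F.presheaf.stalk Z.2.1.genericPoint)).toNat : ℤ) *
          @Curv2.deg k _ (X.irreducibleComponentIdeal Z.1 Z.2).radical.subscheme
            ⟨(X.irreducibleComponentIdeal Z.1 Z.2).radical.subschemeι ≫
              (X ↘ (Spec (CommRingCat.of k)))⟩
            ((Scheme.Modules.pullback
              (X.irreducibleComponentIdeal Z.1 Z.2).radical.subschemeι).obj E) n
      else 0) := by
  have hU : topologicalKrullDim ↥(Set.univ : Set X) ≤ ((1 : ℕ) : WithBot ℕ∞) := by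
    rw [dim_univ_eq]; exact hdimX
  have hdimF : topologicalKrullDim (CohB1.support F) ≤ ((1 : ℕ) : WithBot ℕ∞) :=
    (K0Dim.dim_le_of_subset (Set.subset_univ _)).trans hU
  rw [psi_eq_finsum k X E n hE F hF hdimF]
  set e : irreducibleComponents (X : Type u) → X := fun Z => Z.2.1.genericPoint with he
  have hcl : ∀ Z : irreducibleComponents (X : Type u), closure ({e Z} : Set X) = Z.1 := fun Z =>
    Z.2.1.closure_genericPoint (isClosed_of_mem_irreducibleComponents Z.1 Z.2)
  have hinj : Function.Injective e := by
    intro Z Z' h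
    apply Subtype.ext
    rw [← hcl Z, ← hcl Z', h]
  set h : X → ℤ := fun ξ => multZ X F ξ * psi k X E n (Cyc.closureStructureSheaf ξ) with hh
  have hsupp : ∀ ξ ∈ Function.support h, ξ ∈ (Set.univ : Set X) ↔ ξ ∈ Set.range e := by
    intro ξ hξ
    refine ⟨fun _ => ?_, fun _ => Set.mem_univ _⟩
    have h1 : topologicalKrullDim ↥(closure ({ξ} : Set X)) = ((1 : ℕ) : WithBot ℕ∞) := by
      by_contra hne
      apply hξ
      simp only [hh, multZ, if_neg hne, zero_mul]
    obtain ⟨Z, hZ, hsub⟩ := exists_mem_irreducibleComponents_subset_of_isIrreducible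
      (closure ({ξ} : Set X)) isIrreducible_singleton.closure
    refine ⟨⟨Z, hZ⟩, ?_⟩
    have hmem : ξ ∈ closure ({e ⟨Z, hZ⟩} : Set X) := by
      rw [hcl ⟨Z, hZ⟩]
      exact hsub (subset_closure rfl)
    exact TopDim.eq_of_specializes_of_dim isClosed_univ 1 hU (Set.mem_univ _)
      (specializes_iff_mem_closure.mpr hmem) h1
  rw [← finsum_mem_univ, finsum_mem_inter_support_eq' h _ _ hsupp, finsum_mem_range hinj]
  refine finsum_congr fun Z => ?_
  simp only [hh, multZ]
  rw [hcl Z]
  split_ifs with hd
  · congr 1
    refine psi_closure k X E n hE (e Z) _ ?_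
    rw [← Scheme.IdealSheafData.vanishingIdeal_support]
    congr 1
    apply TopologicalSpace.Closeds.ext
    exact (hcl Z).symm
  · rw [zero_mul]

end Main

end Groth.Agent.Lib.Helper23.DegComp
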