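import Groth.Agent.Lib.Helper23.LocFreeSub
import Groth.Agent.Lib.Helper14.NormalSmoothAsc

/-!
# SmoothCurve: local rings of smooth (or normal) integral curves are PIDs; subsheaves of locally
free sheaves are locally free

* `isPrincipalIdealRing_stalk`: integral locally Noetherian of dimension `≤ 1`, normal stalk ⇒ PID.
* `stalk_normal_of_smooth`: stalks of a scheme smooth over a normal domain are normal domains
  (copied from Helper11.Birat10 to keep imports light).
* `isPrincipalIdealRing_stalk_of_smooth`.
* `isFinLocFreeOfRank_of_mono_of_smooth`: coherent submodules of finite locally free modules on a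
  smooth integral curve over a field are finite locally free.
-/
set_option autoImplicit false
set_option linter.style.haveILetI false
universe u
open CategoryTheory CategoryTheory.Limits AlgebraicGeometry TopologicalSpace Opposite
open Groth.Agent.Lib.Helper23.Curve

noncomputable section

namespace Groth.Agent.Lib.Helper23.SmoothCurve

/-- On an integral locally Noetherian scheme of dimension `≤ 1`, a normal local ring is a PID. -/
theorem isPrincipalIdealRing_stalk {X : Scheme.{u}} [IsIntegral X] [IsLocallyNoetherian X]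
    (hdim : topologicalKrullDim X ≤ 1) (x : X) [IsIntegrallyClosed (X.presheaf.stalk x)] :
    IsPrincipalIdealRing (X.presheaf.stalk x) := by
  set R := X.presheaf.stalk x with hR
  have hinj : Function.Injective (X.fromSpecStalk x) :=
    (X.fromSpecStalk x).isEmbedding.injective
  have hbot : (⊥ : Ideal R).IsPrime := Ideal.isPrime_bot
  have hdimle : Ring.DimensionLEOne R := by
    constructor
    intro q hq hqp
    let q' : PrimeSpectrum R := ⟨q, hqp⟩
    let b' : PrimeSpectrum R := ⟨⊥, hbot⟩
    set y := X.fromSpecStalk x q' with hy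
    have hyx : y ⤳ x := by
      have : y ∈ Set.range (X.fromSpecStalk x) := ⟨q', rfl⟩
      rw [Scheme.range_fromSpecStalk] at this
      exact this
    by_cases hcl : closure ({y} : Set X) = Set.univ
    · exfalso
      set y₀ := X.fromSpecStalk x b' with hy₀
      have h1 : b' ⤳ q' := by
        rw [← PrimeSpectrum.le_iff_specializes]
        exact (bot_le : (⊥ : Ideal R) ≤ q)
      have h2 : y₀ ⤳ y := h1.map (X.fromSpecStalk x).continuous
      have h3 : y ⤳ y₀ := by
        rw [specializes_iff_mem_closure, hcl]; trivial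
      have h4 : y₀ = y := (h2.antisymm h3).eq
      have h5 : b' = q' := hinj h4
      exact hq (congrArg PrimeSpectrum.asIdeal h5).symm
    · have h1 : closure ({x} : Set X) = closure ({y} : Set X) :=
        closure_singleton_eq_of_irreducible hdim (closure {y}) isIrreducible_singleton.closure
          isClosed_closure hcl x (specializes_iff_mem_closure.mp hyx)
      have h2 : x = y := ((inseparable_iff_closure_eq).mpr h1).eq
      have h3 : X.fromSpecStalk x (IsLocalRing.closedPoint R) = y := by
        rw [Scheme.fromSpecStalk_closedPoint]; exact h2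
      have h4 : IsLocalRing.closedPoint R = q' := hinj h3
      have h5 : IsLocalRing.maximalIdeal R = q := congrArg PrimeSpectrum.asIdeal h4
      rw [← h5]
      exact IsLocalRing.maximalIdeal.isMaximal R
  haveI : IsDedekindDomain R := { hdimle with }
  apply IsPrincipalIdealRing.of_finite_maximals
  have : {I : Ideal R | I.IsMaximal} = {IsLocalRing.maximalIdeal R} := by
    ext I
    constructor
    · intro hI; exact IsLocalRing.eq_maximalIdeal hI
    · rintro rfl; exact IsLocalRing.maximalIdeal.isMaximal R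
  rw [this]
  exact Set.finite_singleton _

/-- stalks of a scheme smooth over a normal domain are normal domains (helper11's proof). -/
theorem stalk_normal_of_smooth (R : Type u) [CommRing R] [IsDomain R] [IsIntegrallyClosed R]
    (Y : Scheme.{u}) (s : Y ⟶ Spec (CommRingCat.of R)) [Smooth s] (y : Y) :
    IsDomain (Y.presheaf.stalk y) ∧ IsIntegrallyClosed (Y.presheaf.stalk y) := by
  obtain ⟨V, hV, hyV⟩ : ∃ V : Y.Opens, IsAffineOpen V ∧ y ∈ V := by
    obtain ⟨_, ⟨V, hV, rfl⟩, hyV, -⟩ :=
      Y.isBasis_affineOpens.exists_subset_of_mem_open (Set.mem_univ y) isOpen_univ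
    exact ⟨V, hV, hyV⟩
  have e : V ≤ s ⁻¹ᵁ ⊤ := fun x _ => Set.mem_univ (s.base x)
  have hsm : RingHom.Smooth (s.appLE ⊤ V e).hom :=
    HasRingHomProperty.appLE @Smooth s inferInstance ⟨⊤, isAffineOpen_top _⟩ ⟨V, hV⟩ e
  let eΓ : Γ(Spec (CommRingCat.of R), ⊤) ≃+* R :=
    (Scheme.ΓSpecIso (CommRingCat.of R)).commRingCatIsoToRingEquiv
  haveI : IsDomain Γ(Spec (CommRingCat.of R), ⊤) := MulEquiv.isDomain R eΓ.toMulEquiv
  haveI : IsIntegrallyClosed Γ(Spec (CommRingCat.of R), ⊤) :=
    IsIntegrallyClosed.of_equiv eΓ.symm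
  letI alg : Algebra Γ(Spec (CommRingCat.of R), ⊤) Γ(Y, V) := (s.appLE ⊤ V e).hom.toAlgebra
  haveI : Algebra.Smooth Γ(Spec (CommRingCat.of R), ⊤) Γ(Y, V) := hsm
  have hnorm : EGA4.IsNormalRing Γ(Y, V) :=
    Groth.Agent.Lib.Helper14.NormalSmoothAsc.isNormalRing_of_smooth_of_isIntegrallyClosed
      Γ(Spec (CommRingCat.of R), ⊤) Γ(Y, V)
  haveI hpp : (hV.primeIdealOf ⟨y, hyV⟩).asIdeal.IsPrime := (hV.primeIdealOf ⟨y, hyV⟩).isPrime
  obtain ⟨hd, hic⟩ := hnorm (hV.primeIdealOf ⟨y, hyV⟩).asIdeal
  letI := Y.presheaf.algebra_section_stalk (⟨y, hyV⟩ : V)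
  haveI := hV.isLocalization_stalk ⟨y, hyV⟩
  let eloc : Localization.AtPrime (hV.primeIdealOf ⟨y, hyV⟩).asIdeal ≃ₐ[Γ(Y, V)]
      Y.presheaf.stalk y :=
    IsLocalization.algEquiv (hV.primeIdealOf ⟨y, hyV⟩).asIdeal.primeCompl _ _
  exact ⟨MulEquiv.isDomain (Localization.AtPrime (hV.primeIdealOf ⟨y, hyV⟩).asIdeal)
    eloc.symm.toRingEquiv.toMulEquiv, IsIntegrallyClosed.of_equiv eloc.toRingEquiv⟩

section
variable (k : Type u) [Field k] {X : Scheme.{u}} [X.Over (Spec (CommRingCat.of k))]

include k in
theorem isPrincipalIdealRing_stalk_of_smooth [IsIntegral X] [IsLocallyNoetherian X]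
    [Smooth (X ↘ Spec (CommRingCat.of k))] (hdim : topologicalKrullDim X ≤ 1) (x : X) :
    IsPrincipalIdealRing (X.presheaf.stalk x) := by
  haveI := (stalk_normal_of_smooth k X (X ↘ Spec (CommRingCat.of k)) x).2
  exact isPrincipalIdealRing_stalk hdim x

include k in
/-- **Coherent submodules of finite locally free modules on a smooth integral curve are finite
locally free.** -/
theorem isFinLocFreeOfRank_of_mono_of_smooth [IsIntegral X] [IsLocallyNoetherian X]
    [Smooth (X ↘ Spec (CommRingCat.of k))] (hdim : topologicalKrullDim X ≤ 1)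
    {G E : X.Modules} (hG : Coh.IsCoh G) (ι : G ⟶ E) [Mono ι] {r : ℕ}
    (hE : FlatMod.IsFinLocFreeOfRank r E) : ∃ s : ℕ, FlatMod.IsFinLocFreeOfRank s G :=
  LocFreeSub.isFinLocFreeOfRank_of_mono
    (fun x => isPrincipalIdealRing_stalk_of_smooth k hdim x) hG ι hE

end

end Groth.Agent.Lib.Helper23.SmoothCurve
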