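import Groth.Agent.Lib.Helper23.CurveB
import Groth.Agent.Lib.Helper22.InvField
import Groth.Agent.Lib.Helper3.InvCoh
import Groth.Agent.S9514

/-!
# CurveC: nonzero maps between invertible modules on an integral scheme
-/
set_option autoImplicit false
universe u
open CategoryTheory CategoryTheory.Limits Opposite TopologicalSpace AlgebraicGeometry
open Groth.Agent.Lib.Helper3 Groth.Agent.Lib.Helper3.QCSec Groth.Agent.Lib.Helper3.InvGen
open Groth.Agent.Lib.Helper23.T2

noncomputable section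

namespace Groth.Agent.Lib.Helper23.Curve

variable {X : Scheme.{u}} {N L : X.Modules}

/-- local coordinates for a map of invertible modules. -/
theorem exists_local_coord (hN : PicF.IsInvertible N) (hL : PicF.IsInvertible L) (φ : N ⟶ L)
    (x : X) (W : X.Opens) (hxW : x ∈ W) :
    ∃ (U : X.Opens) (eN : Γ(N, U)) (eL : Γ(L, U)) (f : Γ(X, U)), IsAffineOpen U ∧ x ∈ U ∧ U ≤ W ∧
      IsGen N U eN ∧ IsGen L U eL ∧ φ.app U eN = f • eL := by
  obtain ⟨U₁, e₁, -, hxU₁, hU₁W, hg₁⟩ := exists_affine_isGen_le hN x W hxW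
  obtain ⟨U, eL, hUaff, hxU, hUU₁, hgL⟩ := exists_affine_isGen_le hL x U₁ hxU₁
  obtain ⟨f, hf⟩ := hgL.self.exists_coord (φ.app U (res N hUU₁ e₁))
  exact ⟨U, res N hUU₁ e₁, eL, f, hUaff, hxU, hUU₁.trans hU₁W, hg₁.mono hUU₁, hgL, hf.symm⟩

lemma sections_bot_eq_zero (M : X.Modules) (V : X.Opens) (hV : ¬ (V : Set X).Nonempty)
    (t : Γ(M, V)) : t = 0 := by
  apply ModBasis.eq_zero_of_locally_zero
  intro x hx
  exact absurd ⟨x, hx⟩ hV

variable [IsIntegral X]

/-- a map of invertible modules vanishing on a generator over a nonempty open is zero. -/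
theorem eq_zero_of_local_zero (hL : PicF.IsInvertible L) (φ : N ⟶ L) (U : X.Opens)
    (hUne : (U : Set X).Nonempty) (eN : Γ(N, U)) (hgN : IsGen N U eN) (h0 : φ.app U eN = 0) :
    φ = 0 := by
  apply Scheme.Modules.hom_ext
  intro V
  ext t
  rw [Scheme.Modules.Hom.zero_app]
  change φ.app V t = 0
  by_cases hV : (V : Set X).Nonempty
  · have hne : ((V ⊓ U : X.Opens) : Set X).Nonempty :=
      Groth.Agent.Lib.Helper22.InvField.inter_nonempty hV hUne
    apply Groth.Agent.Lib.Helper22.InvField.res_injective_of_isInvertible hL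
      (inf_le_left : V ⊓ U ≤ V) hne
    rw [← QCExact.app_res', res_zero]
    obtain ⟨a, ha⟩ := (hgN (V ⊓ U) inf_le_right).2 (res N (inf_le_left : V ⊓ U ≤ V) t)
    dsimp only at ha
    rw [← ha, Scheme.Modules.Hom.app_smul, QCExact.app_res', h0, res_zero, smul_zero]
  · exact sections_bot_eq_zero L V hV _

/-- A nonzero map between invertible modules on an integral scheme is a monomorphism. -/
theorem mono_of_ne_zero (hN : PicF.IsInvertible N) (hL : PicF.IsInvertible L) (φ : N ⟶ L)
    (hφ : φ ≠ 0) : Mono φ := by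
  apply ModBasis.mono_of_injective_on_basis
  intro W x hxW
  obtain ⟨U, eN, eL, f, -, hxU, hUW, hgN, hgL, hf⟩ := exists_local_coord hN hL φ x W hxW
  refine ⟨U, hxU, hUW, fun t ht => ?_⟩
  haveI : Nonempty U := ⟨⟨x, hxU⟩⟩
  have hf0 : f ≠ 0 := by
    rintro rfl
    rw [zero_smul] at hf
    exact hφ (eq_zero_of_local_zero hL φ U ⟨x, hxU⟩ eN hgN hf)
  obtain ⟨a, ha⟩ := hgN.self.exists_coord t
  rw [← ha, Scheme.Modules.Hom.app_smul, hf, ← mul_smul] at ht
  have h1 := hgL.self.eq_zero ht
  have h2 : a = 0 := (mul_eq_zero.1 h1).resolve_right hf0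
  rw [← ha, h2, zero_smul]

/-- The cokernel of a nonzero map between invertible modules on an integral scheme vanishes on a
nonempty open. -/
theorem exists_vanishesOn_cokernel (hN : PicF.IsInvertible N) (hL : PicF.IsInvertible L)
    (φ : N ⟶ L) (hφ : φ ≠ 0) :
    ∃ D : X.Opens, (D : Set X).Nonempty ∧ VanishesOn (cokernel φ) D := by
  obtain ⟨x⟩ : Nonempty X := inferInstance
  obtain ⟨U, eN, eL, f, -, hxU, -, hgN, hgL, hf⟩ := exists_local_coord hN hL φ x ⊤ trivial
  haveI : Nonempty U := ⟨⟨x, hxU⟩⟩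
  have hf0 : f ≠ 0 := by
    rintro rfl
    rw [zero_smul] at hf
    exact hφ (eq_zero_of_local_zero hL φ U ⟨x, hxU⟩ eN hgN hf)
  refine ⟨X.basicOpen f, ?_, ?_⟩
  · rw [Set.nonempty_iff_ne_empty]
    intro hemp
    apply hf0
    rw [← AlgebraicGeometry.basicOpen_eq_bot_iff]
    exact SetLike.coe_injective (hemp.trans Opens.coe_bot.symm)
  · intro V hVD t
    have hDU : X.basicOpen f ≤ U := X.basicOpen_le f
    apply ModBasis.eq_zero_of_locally_zero
    intro y hy
    obtain ⟨V', hV'V, hyV', l, hl⟩ := QCExact.exists_local_lift (cokernel.π φ) V t y hy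
    refine ⟨V', hV'V, hyV', ?_⟩
    change res (cokernel φ) hV'V t = 0
    have hV'U : V' ≤ U := (hV'V.trans hVD).trans hDU
    -- `f` is a unit on `V'`
    have hunit : IsUnit (rres X hV'U f) := by
      have h1 := RingedSpace.isUnit_res_basicOpen X.toRingedSpace f
      have h2 : rres X hV'U f = rres X (hV'V.trans hVD) (rres X hDU f) := (rres_rres _ _ f).symm
      rw [h2]
      exact h1.map _
    obtain ⟨g, hg⟩ := hunit.exists_left_inv
    obtain ⟨b, hb⟩ := (hgL V' hV'U).exists_coord l
    have hl2 : l = φ.app V' ((b * g) • res N hV'U eN) := by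
      rw [Scheme.Modules.Hom.app_smul, QCExact.app_res', hf, res_smul, ← mul_smul, mul_assoc, hg,
        mul_one, hb]
    have hzero : (cokernel.π φ).app V' (φ.app V' ((b * g) • res N hV'U eN)) = 0 := by
      have h3 : (φ ≫ cokernel.π φ).app V' ((b * g) • res N hV'U eN) = 0 := by
        rw [cokernel.condition φ, Scheme.Modules.Hom.zero_app]
        rfl
      exact h3
    rw [← hl2] at hzero
    exact hl.symm.trans hzero

end Groth.Agent.Lib.Helper23.Curve
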