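import Groth.Agent.Lib.Helper23.GlobFun

/-!
# GammaField: global functions of a proper reduced connected scheme form a field

* `isField_of_artinian_reduced`: an Artinian reduced ring with only trivial idempotents is a field.
* `idem_trivial`: on a reduced connected scheme the only idempotent global functions are 0 and 1.
* `gammaAlgebra`, `gammaModule`, `gamma_isScalarTower`: `k → Γ(X, O_X) → H^n(X, F)` is a tower.
* `finite_gamma`: `Γ(X, O_X)` is finite over `k` for proper `X`.
* `isField_gamma`.
* `finrank_dvd_of_isField`: tower law divisibility.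
-/
set_option autoImplicit false
set_option linter.style.haveILetI false
universe u
open CategoryTheory CategoryTheory.Limits AlgebraicGeometry TopologicalSpace Opposite
open Groth.Agent.Lib.Helper3 Groth.Agent.Lib.Helper3.QCSec Groth.Agent.Lib.Helper3.InvGen
open Groth.Agent.Lib.Helper23.T2 Groth.Agent.Lib.Helper23.Curve

noncomputable section

namespace Groth.Agent.Lib.Helper23.GammaField

lemma isField_of_artinian_reduced {R : Type*} [CommRing R] [IsArtinianRing R] [IsReduced R]
    [Nontrivial R] (hidem : ∀ e : R, IsIdempotentElem e → e = 0 ∨ e = 1) : IsField R := by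
  refine ⟨exists_pair_ne R, mul_comm, ?_⟩
  intro r hr
  obtain ⟨n, y, hy⟩ := IsArtinian.exists_pow_succ_smul_dvd r (1 : R)
  simp only [smul_eq_mul, mul_one, Nat.succ_eq_add_one] at hy
  have hk : ∀ k : ℕ, r ^ (n + k) * y ^ k = r ^ n := by
    intro k
    induction k with
    | zero => simp
    | succ k ih =>
      calc r ^ (n + (k + 1)) * y ^ (k + 1) = r ^ k * (r ^ (n + 1) * y) * y ^ k := by ring
        _ = r ^ (n + k) * y ^ k := by rw [hy]; ring
        _ = r ^ n := ih
  have hidem' : IsIdempotentElem (r ^ n * y ^ n) := by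
    change r ^ n * y ^ n * (r ^ n * y ^ n) = r ^ n * y ^ n
    calc r ^ n * y ^ n * (r ^ n * y ^ n) = (r ^ (n + n) * y ^ n) * y ^ n := by ring
      _ = r ^ n * y ^ n := by rw [hk n]
  rcases hidem _ hidem' with h0 | h1
  · exfalso
    apply hr
    have : r ^ n = 0 := by
      calc r ^ n = r ^ (n + n) * y ^ n := (hk n).symm
        _ = r ^ n * (r ^ n * y ^ n) := by ring
        _ = 0 := by rw [h0, mul_zero]
    exact IsReduced.eq_zero r ⟨n, this⟩
  · refine ⟨r ^ n * y ^ (n + 1), ?_⟩
    calc r * (r ^ n * y ^ (n + 1)) = (r ^ (n + 1) * y) * y ^ n := by ring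
      _ = 1 := by rw [hy, h1]

lemma idem_trivial (X : Scheme.{u}) [IsReduced X] [ConnectedSpace X] (e : Γ(X, ⊤))
    (he : IsIdempotentElem e) : e = 0 ∨ e = 1 := by
  have hinf : X.basicOpen e ⊓ X.basicOpen (1 - e) = ⊥ := by
    rw [← Scheme.basicOpen_mul]
    have : e * (1 - e) = 0 := by rw [mul_sub, mul_one, he.eq, sub_self]
    rw [this, Scheme.basicOpen_zero]
  have hsup : (⊤ : X.Opens) ≤ X.basicOpen e ⊔ X.basicOpen (1 - e) := by
    have h1 := Scheme.basicOpen_add_le (X := X) (f := e) (g := 1 - e)
    rwa [add_sub_cancel, Scheme.basicOpen_one] at h1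
  have hclopen : IsClopen (X.basicOpen e : Set X) := by
    refine ⟨?_, (X.basicOpen e).2⟩
    have : (X.basicOpen e : Set X)ᶜ = (X.basicOpen (1 - e) : Set X) := by
      ext x
      constructor
      · intro hx
        have := hsup (show x ∈ (⊤ : X.Opens) from trivial)
        rcases this with h | h
        · exact absurd h hx
        · exact h
      · intro hx hx'
        have : x ∈ X.basicOpen e ⊓ X.basicOpen (1 - e) := ⟨hx', hx⟩
        rw [hinf] at this
        exact this
    rw [← isOpen_compl_iff, this]
    exact (X.basicOpen (1 - e)).2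
  rcases isClopen_iff.mp hclopen with h | h
  · left
    have : X.basicOpen e = ⊥ := Opens.ext h
    exact (basicOpen_eq_bot_iff e).mp this
  · right
    have h2 : X.basicOpen (1 - e) = ⊥ := by
      have h3 : X.basicOpen e = ⊤ := Opens.ext h
      rw [h3, top_inf_eq] at hinf
      exact hinf
    have := (basicOpen_eq_bot_iff (1 - e)).mp h2
    exact (sub_eq_zero.mp this).symm

lemma finrank_dvd_of_isField (k κ V : Type*) [Field k] [CommRing κ] [Algebra k κ] (h : IsField κ)
    [AddCommGroup V] [Module κ V] [Module k V] [IsScalarTower k κ V] :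
    Module.finrank k κ ∣ Module.finrank k V := by
  letI := h.toField
  exact ⟨_, (Module.finrank_mul_finrank k κ V).symm⟩

section
variable (k : Type u) [Field k] (X : Scheme.{u}) [X.Over (Spec (CommRingCat.of k))]

/-- the `k`-algebra structure on global functions -/
abbrev gammaAlgebra : Algebra k Γ(X, ⊤) := (Coh.toGlobal (X ↘ Spec (CommRingCat.of k))).toAlgebra

attribute [local instance] gammaAlgebra

/-- `H^n(X, F)` as a module over global functions -/
abbrev gammaModule (F : X.Modules) (n : ℕ) : Module Γ(X, ⊤) (Coh.HH X F n) := Coh.moduleΓtop F n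

attribute [local instance] gammaModule

lemma gamma_isScalarTower (F : X.Modules) (n : ℕ) : IsScalarTower k Γ(X, ⊤) (Coh.HH X F n) := by
  constructor
  intro c r v
  exact mul_smul (Coh.toGlobal (X ↘ Spec (CommRingCat.of k)) c : Γ(X, ⊤)) r v

theorem finite_gamma [IsProper (X ↘ Spec (CommRingCat.of k))] : Module.Finite k Γ(X, ⊤) := by
  haveI := finite_HH k (Coh.structureModule X) (isCoh_structureModule X) 0
  let f : Coh.HH X (Coh.structureModule X) 0 →ₗ[k] Γ(X, ⊤) :=
    { toFun := fun x => toFun ⊤ (h0equiv (Coh.structureModule X) x)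
      map_add' := fun x y => by
        have := (h0equiv (Coh.structureModule X)).map_add x y
        exact congrArg (toFun ⊤) this
      map_smul' := fun c x => by
        have := (h0equiv (Coh.structureModule X)).map_smul
          (Coh.toGlobal (X ↘ Spec (CommRingCat.of k)) c) x
        exact congrArg (toFun ⊤) this }
  refine Module.Finite.of_surjective f
    (fun a => ⟨(h0equiv (Coh.structureModule X)).symm (ofFun ⊤ a), ?_⟩)
  have := (h0equiv (Coh.structureModule X)).apply_symm_apply (ofFun ⊤ a)
  exact congrArg (toFun ⊤) this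

theorem isField_gamma [IsProper (X ↘ Spec (CommRingCat.of k))] [IsReduced X] [ConnectedSpace X] :
    IsField Γ(X, ⊤) := by
  haveI := finite_gamma k X
  haveI : IsArtinianRing Γ(X, ⊤) := IsArtinianRing.of_finite k _
  haveI : Nonempty (⊤ : X.Opens) := ⟨⟨Classical.arbitrary X, trivial⟩⟩
  haveI : Nontrivial Γ(X, ⊤) := Scheme.component_nontrivial X ⊤
  exact isField_of_artinian_reduced (idem_trivial X)

/-- the finrank of any cohomology group is divisible by `[Γ(X, O_X) : k]` -/
theorem finrank_gamma_dvd_HH (hf : IsField Γ(X, ⊤)) (F : X.Modules) (n : ℕ) :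
    Module.finrank k Γ(X, ⊤) ∣ Module.finrank k (Coh.HH X F n) := by
  haveI := gamma_isScalarTower k X F n
  exact finrank_dvd_of_isField k Γ(X, ⊤) (Coh.HH X F n) hf

theorem finrank_gamma_dvd_euler (hf : IsField Γ(X, ⊤)) (F : X.Modules) :
    (Module.finrank k Γ(X, ⊤) : ℤ) ∣ Curv2.euler k X F := by
  unfold Curv2.euler
  refine finsum_induction (fun z : ℤ => (Module.finrank k Γ(X, ⊤) : ℤ) ∣ z) (dvd_zero _)
    (fun a b ha hb => dvd_add ha hb) (fun i => ?_)
  exact Dvd.dvd.mul_left (Int.natCast_dvd_natCast.mpr (finrank_gamma_dvd_HH k X hf F i)) _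

theorem finrank_gamma_dvd_deg (hf : IsField Γ(X, ⊤)) (E : X.Modules) (n : ℕ) :
    (Module.finrank k Γ(X, ⊤) : ℤ) ∣ Curv2.deg k X E n := by
  unfold Curv2.deg
  exact dvd_sub (finrank_gamma_dvd_euler k X hf E)
    (Dvd.dvd.mul_left (finrank_gamma_dvd_euler k X hf _) _)

attribute [local instance] Curv2.resAlgebra

theorem finrank_gamma_dvd_residueField (hf : IsField Γ(X, ⊤)) (x : X) :
    Module.finrank k Γ(X, ⊤) ∣ Module.finrank k (X.residueField x) := by
  letI : Algebra Γ(X, ⊤) (X.residueField x) :=
    ((X.residue x).hom.comp (X.presheaf.germ ⊤ x trivial).hom).toAlgebra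
  haveI : IsScalarTower k Γ(X, ⊤) (X.residueField x) := by
    constructor
    intro c r v
    change ((X.residue x).hom.comp (X.presheaf.germ ⊤ x trivial).hom)
        (algebraMap k Γ(X, ⊤) c * r) * v =
      (Curv2.resMap k X x c) * (((X.residue x).hom.comp (X.presheaf.germ ⊤ x trivial).hom) r * v)
    rw [map_mul, mul_assoc]
    rfl
  exact finrank_dvd_of_isField k Γ(X, ⊤) (X.residueField x) hf

end

end Groth.Agent.Lib.Helper23.GammaField
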