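import Mathlib

/-!
# Helper library (helper23): algebra for the asymptotic Riemann–Roch statement
-/

set_option autoImplicit false
open Polynomial

namespace Groth.Agent.Lib.Helper23.Asymp

/-- the all-ones exponent -/
noncomputable abbrev ones (d : ℕ) : Fin d →₀ ℕ := Finsupp.equivFunOnFinite.symm fun _ : Fin d => 1

lemma ones_sum (d : ℕ) : (ones d).sum (fun _ m => m) = d := by
  rw [Finsupp.sum_fintype _ _ (fun _ => rfl)]
  simp [ones]

lemma ones_multinomial (d : ℕ) : (ones d).multinomial = d.factorial := by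
  have h1 : ((ones d).sum fun _ => id) = d := ones_sum d
  have h2 : ((ones d).prod fun _ n => n.factorial) = 1 := by
    rw [Finsupp.prod_fintype _ _ (fun _ => rfl)]
    simp [ones]
  unfold Finsupp.multinomial
  rw [h1, h2, Nat.div_one]

/-- the polynomial `Q(X_1 + ⋯ + X_d)` -/
noncomputable def comp (d : ℕ) (Q : ℚ[X]) : MvPolynomial (Fin d) ℚ :=
  ∑ j ∈ Finset.range (Q.natDegree + 1), MvPolynomial.C (Q.coeff j) * (∑ i, MvPolynomial.X i) ^ j

lemma eval_comp (d : ℕ) (Q : ℚ[X]) (x : Fin d → ℚ) :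
    MvPolynomial.eval x (comp d Q) = Q.eval (∑ i, x i) := by
  unfold comp
  rw [Polynomial.eval_eq_sum_range]
  simp

lemma coeff_comp (d : ℕ) (Q : ℚ[X]) :
    MvPolynomial.coeff (ones d) (comp d Q) = Q.coeff d * (d.factorial : ℚ) := by
  unfold comp
  rw [MvPolynomial.coeff_sum]
  simp_rw [MvPolynomial.coeff_C_mul, MvPolynomial.coeff_sum_X_pow_of_fintype, ones_sum,
    ones_multinomial]
  by_cases hd : d ∈ Finset.range (Q.natDegree + 1)
  · rw [Finset.sum_eq_single_of_mem d hd]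
    · simp
    · intro j _ hj
      rw [if_neg (Ne.symm hj)]
      simp
  · have h0 : Q.coeff d = 0 := by
      apply Polynomial.coeff_eq_zero_of_natDegree_lt
      simp only [Finset.mem_range, not_lt] at hd
      omega
    rw [h0, zero_mul]
    apply Finset.sum_eq_zero
    intro j hj
    rw [if_neg]
    · simp
    · rintro rfl
      exact hd hj

theorem eq_comp (d : ℕ) (P : MvPolynomial (Fin d) ℚ) (Q : ℚ[X])
    (h : ∀ n : Fin d → ℕ,
      MvPolynomial.eval (fun i => (n i : ℚ)) P = Q.eval ((∑ i, n i : ℕ) : ℚ)) :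
    P = comp d Q := by
  refine MvPolynomial.funext_set (fun _ => Set.range (Nat.cast : ℕ → ℚ))
    (fun _ => Set.infinite_range_of_injective Nat.cast_injective) ?_
  intro x hx
  have hx' : ∀ i, ∃ n : ℕ, (n : ℚ) = x i := fun i => hx i (Set.mem_univ i)
  choose n hn using hx'
  have hxn : x = fun i => (n i : ℚ) := funext fun i => (hn i).symm
  rw [eval_comp, hxn, h n]
  push_cast
  rfl

theorem coeff_ones_of_eval (d : ℕ) (P : MvPolynomial (Fin d) ℚ) (Q : ℚ[X])
    (h : ∀ n : Fin d → ℕ,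
      MvPolynomial.eval (fun i => (n i : ℚ)) P = Q.eval ((∑ i, n i : ℕ) : ℚ)) :
    MvPolynomial.coeff (ones d) P = Q.coeff d * (d.factorial : ℚ) := by
  rw [eq_comp d P Q h, coeff_comp]

/-- a polynomial of degree `d` differs from its leading term by `O((n+1)^(d-1))`. -/
theorem exists_bound (Q : ℚ[X]) (d : ℕ) (hd : Q.natDegree = d) :
    ∃ C : ℚ, 0 ≤ C ∧ ∀ n : ℕ, |Q.eval (n : ℚ) - Q.coeff d * (n : ℚ) ^ d| ≤
      C * ((n : ℚ) + 1) ^ (d - 1) := by
  refine ⟨∑ j ∈ Finset.range d, |Q.coeff j|, Finset.sum_nonneg fun _ _ => abs_nonneg _, ?_⟩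
  intro n
  rw [Polynomial.eval_eq_sum_range, hd, Finset.sum_range_succ, add_sub_cancel_right,
    Finset.sum_mul]
  refine (Finset.abs_sum_le_sum_abs _ _).trans (Finset.sum_le_sum fun j hj => ?_)
  rw [abs_mul]
  refine mul_le_mul_of_nonneg_left ?_ (abs_nonneg _)
  have hn0 : (0 : ℚ) ≤ (n : ℚ) := Nat.cast_nonneg n
  rw [abs_of_nonneg (pow_nonneg hn0 j)]
  have hj' : j ≤ d - 1 := by
    have := Finset.mem_range.mp hj
    omega
  calc (n : ℚ) ^ j ≤ ((n : ℚ) + 1) ^ j := pow_le_pow_left₀ hn0 (by linarith) j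
    _ ≤ ((n : ℚ) + 1) ^ (d - 1) := pow_le_pow_right₀ (by linarith) hj'

/-- the final numerical statement: a function agreeing with a polynomial of degree `d` for large
arguments differs from the leading term by `O((n+1)^(d-1))`. -/
theorem exists_bound_of_eventually (f : ℕ → ℚ) (Q : ℚ[X]) (d : ℕ) (hd : Q.natDegree = d) (N : ℕ)
    (hf : ∀ n : ℕ, N ≤ n → f n = Q.eval (n : ℚ)) :
    ∃ C : ℚ, ∀ n : ℕ, |f n - Q.coeff d * (n : ℚ) ^ d| ≤ C * ((n : ℚ) + 1) ^ (d - 1) := by
  obtain ⟨C₁, hC₁, hb⟩ := exists_bound Q d hd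
  refine ⟨C₁ + ∑ m ∈ Finset.range N, |f m - Q.coeff d * (m : ℚ) ^ d|, fun n => ?_⟩
  have hone : (1 : ℚ) ≤ ((n : ℚ) + 1) ^ (d - 1) :=
    one_le_pow₀ (by have : (0 : ℚ) ≤ (n : ℚ) := Nat.cast_nonneg n; linarith)
  have hS : 0 ≤ ∑ m ∈ Finset.range N, |f m - Q.coeff d * (m : ℚ) ^ d| :=
    Finset.sum_nonneg fun _ _ => abs_nonneg _
  by_cases hn : N ≤ n
  · rw [hf n hn]
    refine (hb n).trans ?_
    exact mul_le_mul_of_nonneg_right (by linarith) (by linarith)
  · have hmem : n ∈ Finset.range N := Finset.mem_range.mpr (not_le.mp hn)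
    have h1 : |f n - Q.coeff d * (n : ℚ) ^ d| ≤
        ∑ m ∈ Finset.range N, |f m - Q.coeff d * (m : ℚ) ^ d| :=
      Finset.single_le_sum (f := fun m => |f m - Q.coeff d * (m : ℚ) ^ d|)
        (fun _ _ => abs_nonneg _) hmem
    calc |f n - Q.coeff d * (n : ℚ) ^ d|
        ≤ (∑ m ∈ Finset.range N, |f m - Q.coeff d * (m : ℚ) ^ d|) * 1 := by rw [mul_one]; exact h1
      _ ≤ (C₁ + ∑ m ∈ Finset.range N, |f m - Q.coeff d * (m : ℚ) ^ d|) *
          ((n : ℚ) + 1) ^ (d - 1) :=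
        mul_le_mul (by linarith) hone zero_le_one (by linarith)

end Groth.Agent.Lib.Helper23.Asymp
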