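import Mathlib
import Groth.Prelude
import Groth.Agent.Lib.Helper23.AsympA
import Groth.Agent.Lib.Helper23.HilbPR
import Groth.Agent.Lib.Helper23.T2L
import Groth.Agent.Lib.Helper23.FBC5
import Groth.Agent.Lib.Helper7.Gaeta1

/-!
# Helper library (helper23): asymptotic Riemann–Roch
-/

set_option autoImplicit false
set_option linter.unusedSectionVars false
set_option linter.style.haveILetI false
universe u
open CategoryTheory CategoryTheory.Limits AlgebraicGeometry Polynomial

namespace Groth.Agent.Lib.Helper23.Asymp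

open Groth.Agent.Lib.Helper3 Groth.Agent.Lib.Helper3.InvMonoidal Groth.Agent.Lib.Helper3.InvGen
open Groth.Agent.Lib.Helper23.HilbP

section Iso

variable {X : Scheme.{u}}

/-- `F ⊗ L^{n_0} ⊗ ⋯ ⊗ L^{n_{d-1}} ≅ F ⊗ L^{n_0 + ⋯ + n_{d-1}}`. -/
theorem nonempty_tensorPows_iso (F L : X.Modules) : ∀ (d : ℕ) (n : Fin d → ℕ),
    Nonempty (Curv2.tensorPows F d (fun _ => L) n ≅
      CohB1.tensorMod F (CohB1.tensorPow L (∑ i, n i)))
  | 0, n => by
    have h : (∑ i, n i) = 0 := Fin.sum_univ_zero n
    rw [h]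
    exact ⟨(SecTwist.unitorR F).symm⟩
  | d + 1, n => by
    obtain ⟨e⟩ := nonempty_tensorPows_iso F L d (fun i => n i.castSucc)
    have h : (∑ i, n i) = (∑ i : Fin d, n i.castSucc) + n (Fin.last d) :=
      Fin.sum_univ_castSucc n
    rw [h]
    exact ⟨tensorMapIso e (Iso.refl _) ≪≫ twistAdd F L _ _⟩

end Iso

section Main

variable (k : Type u) [Field k] (X : Scheme.{u}) [X.Over (Spec (CommRingCat.of k))]
  [IsProper (X ↘ Spec (CommRingCat.of k))]

theorem main (d : ℕ) (hX : topologicalKrullDim X = d) (L : X.Modules) (hL : CohB1.IsAmple L)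
    (P : MvPolynomial (Fin d) ℚ)
    (hP : ∀ n : Fin d → ℕ, (Curv2.euler k X (Curv2.tensorPows (Coh.structureModule X) d
      (fun _ => L) n) : ℚ) = MvPolynomial.eval (fun i => (n i : ℚ)) P) :
    0 < MvPolynomial.coeff (Finsupp.equivFunOnFinite.symm fun _ : Fin d => 1) P ∧
      ∃ C : ℚ, ∀ n : ℕ,
        |(Module.finrank k (Coh.HH X (CohB1.tensorPow L n) 0) : ℚ) -
            MvPolynomial.coeff (Finsupp.equivFunOnFinite.symm fun _ : Fin d => 1) P /
              (d.factorial : ℚ) * (n : ℚ) ^ d| ≤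
          C * ((n : ℚ) + 1) ^ (d - 1) := by
  have hO := T2.isCoh_structureModule X
  obtain ⟨Q, hQ⟩ := exists_isHilbPoly k X hL (Coh.structureModule X) hO
  have hsupp : CohB1.support (Coh.structureModule X) = Set.univ :=
    support_invertible (isInvertible_structureModule X)
  haveI : Nonempty X := by
    by_contra hne
    rw [not_nonempty_iff] at hne
    have : topologicalKrullDim X = ⊥ := by
      unfold topologicalKrullDim
      haveI : IsEmpty (TopologicalSpace.IrreducibleCloseds X) :=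
        ⟨fun Z => by
          obtain ⟨x, _⟩ := Z.isIrreducible'.nonempty
          exact hne.false x⟩
      exact Order.krullDim_eq_bot
    rw [this] at hX
    exact absurd hX (by simp)
  have h0 : ¬ IsZero (Coh.structureModule X) := by
    obtain ⟨x⟩ := ‹Nonempty X›
    exact not_isZero_of_mem_support (y := x) (by rw [hsupp]; exact Set.mem_univ x)
  have hdeg : Q.natDegree = d := by
    have h1 := dim_eq_natDegree k hL (Coh.structureModule X) hO h0 hQ
    rw [hsupp] at h1
    have h2 : topologicalKrullDim ↥(Set.univ : Set X) = topologicalKrullDim X :=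
      (Homeomorph.Set.univ X).isHomeomorph.topologicalKrullDim_eq
    rw [h2, hX] at h1
    exact_mod_cast h1.symm
  have hlc : 0 < Q.coeff d := by
    have := leadingCoeff_pos k hL (Coh.structureModule X) hO h0 hQ
    rwa [Polynomial.leadingCoeff, hdeg] at this
  have hcoef : MvPolynomial.coeff (ones d) P = Q.coeff d * (d.factorial : ℚ) := by
    apply coeff_ones_of_eval
    intro n
    rw [← hP n]
    obtain ⟨e⟩ := nonempty_tensorPows_iso (Coh.structureModule X) L d n
    rw [FBC.euler_eq_of_iso' k e]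
    exact hQ _
  have hfac : (0 : ℚ) < (d.factorial : ℚ) := by exact_mod_cast Nat.factorial_pos d
  change 0 < MvPolynomial.coeff (ones d) P ∧ ∃ C : ℚ, ∀ n : ℕ,
    |(Module.finrank k (Coh.HH X (CohB1.tensorPow L n) 0) : ℚ) -
      MvPolynomial.coeff (ones d) P / (d.factorial : ℚ) * (n : ℚ) ^ d| ≤
        C * ((n : ℚ) + 1) ^ (d - 1)
  rw [hcoef]
  refine ⟨mul_pos hlc hfac, ?_⟩
  rw [mul_div_assoc, div_self (ne_of_gt hfac), mul_one]
  obtain ⟨n₀, hn₀⟩ := Groth.Agent.Lib.Helper7.AmpleSerre.serre_vanishing_of_isAmple k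
    (X ↘ Spec (CommRingCat.of k)) hL (Coh.structureModule X) hO
  refine exists_bound_of_eventually _ Q d hdeg n₀ ?_
  intro n hn
  rw [← hQ n]
  have h1 := euler_eq_finrank_h0 k X _ (isCoh_twist X hL.1 hO n) (hn₀ n hn)
  change (Module.finrank k (Coh.HH X (CohB1.tensorPow L n) 0) : ℚ) =
    ((Curv2.euler k X (CohB1.tensorMod (Coh.structureModule X) (CohB1.tensorPow L n)) : ℤ) : ℚ)
  have h2 : Curv2.euler k X (CohB1.tensorMod (Coh.structureModule X) (CohB1.tensorPow L n)) =
      (Module.finrank k (Coh.HH X (CohB1.tensorMod (Coh.structureModule X)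
        (CohB1.tensorPow L n)) 0) : ℤ) := h1
  rw [h2, Groth.Agent.Lib.Helper7.Gaeta.finrank_HH_of_iso k (unitorL (CohB1.tensorPow L n)) 0]
  simp

end Main

end Groth.Agent.Lib.Helper23.Asymp
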