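import Groth.Agent.Lib.Helper23.AmpleCurve4
import Groth.Agent.Lib.Helper3.SubIdeal
import Groth.Agent.Lib.Helper3.TwistProj
import Groth.Agent.Lib.Helper3.QProj
import Groth.Agent.Lib.Helper3.RelAmpleLib
import Groth.Agent.Lib.Helper7.PnFinite
import Groth.Agent.S3572
import Groth.Agent.S3584
import Groth.Agent.S17806
import Groth.Agent.S2327

/-!
# AmpleCurve5: an invertible module of positive degree with a section on a proper integral curve
is ample
-/
set_option autoImplicit false
set_option linter.style.haveILetI false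
universe u
open CategoryTheory CategoryTheory.Limits Opposite TopologicalSpace AlgebraicGeometry
open Groth.Agent.Lib.Helper3 Groth.Agent.Lib.Helper3.QCSec Groth.Agent.Lib.Helper3.InvGen
  Groth.Agent.Lib.Helper3.InvTensor Groth.Agent.Lib.Helper3.InvMonoidal
  Groth.Agent.Lib.Helper3.InvAmple
open Groth.Agent.Lib.Helper23.T2

noncomputable section

namespace Groth.Agent.Lib.Helper23.AmpleCurve

open Groth.Agent.Lib.Helper23.Curve

variable {X : Scheme.{u}}

/-- `O(1)` on projective space is ample -/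
theorem isAmple_twistProjSpace (n : ℕ) (R : Type u) [CommRing R] :
    CohB1.IsAmple (Twist.twistProjSpace n R 1) := by
  classical
  exact Groth.Agent.S3584.result (CohB1.polyGrading n R)
    (Finset.univ.image (MvPolynomial.X : Fin (n + 1) → MvPolynomial (Fin (n + 1)) R))
    (fun f hf => by
      obtain ⟨a, _, rfl⟩ := Finset.mem_image.mp hf
      exact MvPolynomial.isHomogeneous_X R a)
    (Groth.Agent.Lib.Helper7.PnFinite.irrelevant_eq_span n R)

/-- the locus where the pullback of a coordinate generates -/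
theorem preimage_genLocus_coord {R : Type u} [CommRing R] (n : ℕ)
    (r : X ⟶ CohB1.ProjSpace n R) {N : X.Modules}
    (τ : (Scheme.Modules.pullback r).obj (Twist.twistProjSpace n R 1) ≅ N)
    (i : Fin (n + 1)) (σ : Γ(N, ⊤))
    (hτ : τ.hom.app ⊤ (ProjUP.pullSec r (Twist.twistProjSpace n R 1) (ProjUP.coord n R i)) = σ) :
    r ⁻¹ᵁ CohB1.genLocus (Twist.twistProjSpace n R 1)
        (globalHom (Twist.twistProjSpace n R 1) (ProjUP.coord n R i)) =
      CohB1.genLocus N (globalHom N σ) := by
  have hO1 : PicF.IsInvertible (Twist.twistProjSpace n R 1) := (isAmple_twistProjSpace n R).1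
  rw [← PbBasic.genLocus_pullHom r hO1, ← genLocus_comp_iso _ τ.hom]
  congr 1
  apply SubIdeal.unit_hom_ext
  rw [sec_comp, sec_globalHom, res_self]
  have h1 : sec (PbBasic.pullHom r (globalHom (Twist.twistProjSpace n R 1) (ProjUP.coord n R i)))
      ⊤ = ProjUP.pullSec r (Twist.twistProjSpace n R 1) (ProjUP.coord n R i) := by
    have h2 := PbBasic.sec_pullHom r
      (globalHom (Twist.twistProjSpace n R 1) (ProjUP.coord n R i)) ⊤
    rw [sec_globalHom, res_self] at h2
    exact h2
  rw [h1]
  exact hτ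

section Main

variable (k : Type u) [Field k] [X.Over (Spec (CommRingCat.of k))]
  [IsProper (X ↘ Spec (CommRingCat.of k))] [IsIntegral X]

include k in
/-- **An invertible module of positive degree with a nonzero section on a proper integral curve is
ample.** -/
theorem isAmple_of_section (hdim : topologicalKrullDim X ≤ 1) {P : X.Modules}
    (hP : PicF.IsInvertible P) (s₀ : Coh.structureModule X ⟶ P) (hs : s₀ ≠ 0)
    (hdeg : 0 < Curv2.deg k X P 1) : CohB1.IsAmple P := by
  classical
  haveI : CompactSpace X :=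
    QuasiCompact.compactSpace_of_compactSpace (X ↘ Spec (CommRingCat.of k))
  obtain ⟨j, hgen⟩ := exists_generating_sections k hdim hP s₀ hs
  have hN : PicF.IsInvertible (CohB1.tensorPow P (j + 1)) := isInvertible_tensorPow hP (j + 1)
  -- the section `s₀^{j+1}`
  have hG0 : IsGen (CohB1.tensorPow P (j + 1)) (CohB1.genLocus P s₀)
      (res _ le_top (sec (SecTwist.powHom s₀ (j + 1)) ⊤)) := by
    rw [res_sec]
    apply (le_genLocus_iff (SecTwist.powHom s₀ (j + 1))).1
    rw [genLocus_powHom hP s₀ j]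
  -- local generation everywhere
  have hall : ∀ x : X, ∃ (t : Γ(CohB1.tensorPow P (j + 1), ⊤)) (U : X.Opens), x ∈ U ∧
      IsGen (CohB1.tensorPow P (j + 1)) U (res _ le_top t) := by
    intro x
    by_cases hx : x ∈ CohB1.genLocus P s₀
    · exact ⟨_, _, hx, hG0⟩
    · exact hgen x hx
  choose t U hxU hgU using hall
  obtain ⟨T, hT⟩ := isCompact_univ.elim_finite_subcover (fun x => ((U x : X.Opens) : Set X))
    (fun x => (U x).isOpen) (fun x _ => Set.mem_iUnion.2 ⟨x, hxU x⟩)
  -- index the sections by `Fin (T.card + 1)`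
  let σ : Fin (T.card + 1) → Γ(CohB1.tensorPow P (j + 1), ⊤) :=
    Fin.cases (sec (SecTwist.powHom s₀ (j + 1)) ⊤) (fun i => t (T.equivFin.symm i).1)
  have hσ : ProjUP.GeneratedBy (CohB1.tensorPow P (j + 1)) σ := by
    apply TwistProj.generatedBy_of_isGen
    intro x
    obtain ⟨y, hy⟩ := Set.mem_iUnion.1 (hT (Set.mem_univ x))
    obtain ⟨hyT, hxy⟩ := Set.mem_iUnion.1 hy
    refine ⟨(T.equivFin ⟨y, hyT⟩).succ, U y, hxy, ?_⟩
    have h1 : σ (T.equivFin ⟨y, hyT⟩).succ = t y := by
      change t (T.equivFin.symm (T.equivFin ⟨y, hyT⟩)).1 = t y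
      rw [Equiv.symm_apply_apply]
    rw [h1]
    exact hgU y
  obtain ⟨r, hr, τ, hτ⟩ := Groth.Agent.S3572.result T.card (X ↘ Spec (CommRingCat.of k))
    (CohB1.tensorPow P (j + 1)) hN σ hσ
  -- `r` is not constant
  have hpre := preimage_genLocus_coord T.card r τ 0 (σ 0) (hτ 0)
  have hσ0 : globalHom (CohB1.tensorPow P (j + 1)) (σ 0) = SecTwist.powHom s₀ (j + 1) :=
    SubIdeal.globalHom_sec _
  rw [hσ0, genLocus_powHom hP s₀ j] at hpre
  obtain ⟨x₁, hx₁⟩ := exists_mem_genLocus hP s₀ hs
  obtain ⟨x₂, hx₂⟩ := exists_notMem_genLocus k hdim s₀ hdeg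
  have hne : r x₁ ≠ r x₂ := by
    intro h
    apply hx₂
    rw [← hpre] at hx₁ ⊢
    have h1 : r x₁ ∈ CohB1.genLocus (Twist.twistProjSpace T.card k 1)
        (globalHom (Twist.twistProjSpace T.card k 1) (ProjUP.coord T.card k 0)) := hx₁
    rw [h] at h1
    exact h1
  haveI : IsFinite r := isFinite_of_nonconstant k hdim r (CohB1.ProjSpace.toSpec T.card k) hr
    x₁ x₂ hne
  have hA1 : CohB1.IsAmple ((Scheme.Modules.pullback r).obj (Twist.twistProjSpace T.card k 1)) :=
    Groth.Agent.S17806.result k (CohB1.ProjSpace.toSpec T.card k) (X ↘ Spec (CommRingCat.of k))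
      r hr _ (isAmple_twistProjSpace T.card k).1 (isAmple_twistProjSpace T.card k)
  have hA2 : CohB1.IsAmple (CohB1.tensorPow P (j + 1)) := isAmple_of_iso τ hA1
  haveI : X.IsSeparated := RelAmpleLib.isSeparated_of_isAmple hA2
  exact (Groth.Agent.S2327.result X P hP (j + 1) (Nat.succ_pos j)).2 hA2

end Main

end Groth.Agent.Lib.Helper23.AmpleCurve
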