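import Groth.Agent.Lib.Helper23.CurveF
import Groth.Agent.Lib.Helper17.PbStalk
import Groth.Agent.S0007

/-!
# CurveG: cohomology of quasi-coherent modules on a proper integral curve vanishes above degree 1
-/
set_option autoImplicit false
universe u
open CategoryTheory CategoryTheory.Limits Opposite TopologicalSpace AlgebraicGeometry
open Groth.Agent.Lib.Helper3 Groth.Agent.Lib.Helper3.QCSec Groth.Agent.Lib.Helper3.InvGen
open Groth.Agent.Lib.Helper23.T2

noncomputable section

namespace Groth.Agent.Lib.Helper23.Curve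

variable {X : Scheme.{u}}

/-- a module supported off `D` vanishes on `D`. -/
lemma vanishesOn_of_support_subset (M : X.Modules) (D : X.Opens)
    (h : CohB1.support M ⊆ (D : Set X)ᶜ) : VanishesOn M D := by
  intro V hVD t
  apply ModBasis.eq_zero_of_locally_zero
  intro x hxV
  have hx : Subsingleton (M.presheaf.stalk x) := by
    by_contra hns
    exact h hns (hVD hxV)
  have hg : TopCat.Presheaf.germ M.presheaf V x hxV t =
      TopCat.Presheaf.germ M.presheaf V x hxV 0 := Subsingleton.elim _ _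
  obtain ⟨W, hxW, iU, iV, hW⟩ := TopCat.Presheaf.germ_eq M.presheaf x hxV hxV t 0 hg
  refine ⟨W, leOfHom iU, hxW, ?_⟩
  have h0 : M.presheaf.map iV.op (0 : Γ(M, V)) = 0 := map_zero _
  rw [h0] at hW
  exact hW

lemma isIso_ι_of_eq_top (U : X.Opens) (W : (U : Scheme.{u}).Opens) (h : W = ⊤) : IsIso W.ι := by
  subst h
  exact (Scheme.topIso (U : Scheme.{u})).isIso_hom

instance isIso_morphismRestrict_ι_self (U : X.Opens) : IsIso (U.ι ∣_ U) := by
  have h1 : (U.ι ∣_ U) ≫ U.ι = (U.ι ⁻¹ᵁ U).ι ≫ U.ι := morphismRestrict_ι U.ι U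
  have h2 : (U.ι ∣_ U) = (U.ι ⁻¹ᵁ U).ι := (cancel_mono U.ι).1 h1
  rw [h2]
  apply isIso_ι_of_eq_top
  ext y
  simp

section Main

variable (k : Type u) [Field k] (X) [X.Over (Spec (CommRingCat.of k))]
  [IsProper (X ↘ Spec (CommRingCat.of k))] [IsIntegral X]

include k in
/-- **Cohomology of a quasi-coherent module on a proper integral curve vanishes in degrees
`≥ 2`.** -/
theorem subsingleton_HH_of_curve (hdim : topologicalKrullDim X ≤ 1) (F : X.Modules)
    [F.IsQuasicoherent] (n : ℕ) : Subsingleton (Coh.HH X F (n + 2)) := by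
  obtain ⟨x⟩ : Nonempty X := inferInstance
  obtain ⟨U, hU, hxU⟩ := QCProps.exists_affine_nbhd x
  haveI : IsAffine (U : Scheme.{u}) := hU
  haveI : IsAffineHom (U.ι ≫ (X ↘ Spec (CommRingCat.of k))) := inferInstance
  haveI : IsAffineHom U.ι := IsAffineHom.of_comp U.ι (X ↘ Spec (CommRingCat.of k))
  let 𝒮 := zeroClass (Coh.Γtop X)
  set F' : (U : Scheme.{u}).Modules := (Scheme.Modules.pullback U.ι).obj F with hF'
  haveI : F'.IsQuasicoherent := Groth.Agent.Lib.Helper17.PbStalk.isQuasicoherent_pullback U.ι F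
  let η : F ⟶ (Coh.push U.ι).obj F' :=
    (Scheme.Modules.pullbackPushforwardAdjunction U.ι).unit.app F
  have hKfl : IsFlq (kernel η) := @isFlq_of_vanishesOn k _ X _ _ _ hdim _ U ⟨x, hxU⟩
    (vanishesOn_of_support_subset _ _ (support_kernel_unit U.ι F U))
  have hQfl : IsFlq (cokernel η) := @isFlq_of_vanishesOn k _ X _ _ _ hdim _ U ⟨x, hxU⟩
    (vanishesOn_of_support_subset _ _ (support_cokernel_unit U.ι F U))
  have hE : ∀ m, 𝒮.P (HHm ((Coh.push U.ι).obj F') (m + 1)) := fun m =>
    (affine_transfer U.ι F' (zeroClass_compat (pushRing U.ι)) (m + 1)).2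
      (Groth.Agent.S0007.result _ F' (m + 1) (by omega))
  -- `0 → im → E → coker → 0`
  have hS₂ : (ShortComplex.kernelSequence (cokernel.π η)).ShortExact :=
    ShortComplex.ShortExact.mk' (ShortComplex.kernelSequence_exact _) inferInstance
      (inferInstanceAs (Epi (cokernel.π η)))
  have hIm : ∀ m, 𝒮.P (HHm (kernel (cokernel.π η)) (m + 2)) := fun m =>
    𝒮.mid (hδ _ hS₂ (m + 1)) (hmap (ShortComplex.kernelSequence (cokernel.π η)).f (m + 1 + 1))
      (fun b hb => hexact₁ _ hS₂ (m + 1) b hb) (acyclic_of_isFlq hQfl m) (hE (m + 1))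
  -- `0 → ker → F → coim → 0`
  have hS₁ : (ShortComplex.cokernelSequence (kernel.ι η)).ShortExact :=
    ShortComplex.ShortExact.mk' (ShortComplex.cokernelSequence_exact _)
      (inferInstanceAs (Mono (kernel.ι η))) inferInstance
  have hCoim : 𝒮.P (HHm (cokernel (kernel.ι η)) (n + 2)) :=
    𝒮.of_equiv (hmapEquiv (Abelian.coimageIsoImage η).symm (n + 2)) (hIm n)
  exact P_mid_of_shortExact 𝒮 _ hS₁ (n + 2) (acyclic_of_isFlq hKfl (n + 1)) hCoim

end Main

end Groth.Agent.Lib.Helper23.Curve
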