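import Groth.Agent.Lib.Helper23.TmBasis
import Groth.Agent.Lib.Helper23.CurveG
import Groth.Agent.Lib.Helper17.TensorSec
import Groth.Agent.Lib.Lead.ZeroDimPts
import Groth.Agent.Lib.Helper13.ZeroDimSupp
import Groth.Agent.S0020

/-!
# Euler characteristic of `F ⊗ E` for `F` with zero-dimensional support
-/

set_option autoImplicit false
universe u
open CategoryTheory CategoryTheory.Limits AlgebraicGeometry TopologicalSpace Opposite
open Scheme.Modules TensorProduct

namespace Groth.Agent.Lib.Helper23.TensorPts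

open Groth.Agent.Lib.Helper3 Groth.Agent.Lib.Helper3.QCSec Groth.Agent.Lib.Helper3.InvGen
open Groth.Agent.Lib.Helper3.InvTensor Groth.Agent.Lib.Helper3.FreeBasis
open Groth.Agent.Lib.Helper23.TmBasis Groth.Agent.Lib.Helper23.T2 Groth.Agent.Lib.Helper23.Curve

variable {X : Scheme.{u}}

theorem tm_basis_bijective_self (F E : X.Modules) {U : X.Opens} {n : ℕ} {e : Fin n → Γ(E, U)}
    (hb : IsBasis E U e) :
    Function.Bijective (fun t : Fin n → Γ(F, U) => ∑ i, tm F E U (t i) (e i)) := by
  have h := tm_basis_bijective F E hb U le_rfl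
  simpa only [res_self] using h

theorem res_add' (M : X.Modules) {A B : X.Opens} (h : A ≤ B) (a b : Γ(M, B)) :
    res M h (a + b) = res M h a + res M h b :=
  map_add (M.presheaf.map (homOfLE h).op).hom a b

/-- a cover adapted to a finite set of closed points and a locally free module -/
theorem exists_cover (E : X.Modules) (n : ℕ) (hE : FlatMod.IsFinLocFreeOfRank n E)
    (Z : Set X) (hZfin : Z.Finite) (hZcl : ∀ z ∈ Z, IsClosed ({z} : Set X)) :
    ∃ (W : X → X.Opens) (e : ∀ x, Fin n → Γ(E, W x)),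
      (∀ x, x ∈ W x) ∧ (∀ x, IsBasis E (W x) (e x)) ∧
      (∀ x y, x ≠ y → Disjoint ((W x ⊓ W y : X.Opens) : Set X) Z) := by
  have key : ∀ x : X, ∃ (W : X.Opens) (e : Fin n → Γ(E, W)), x ∈ W ∧ IsBasis E W e ∧
      (∀ p ∈ W, p ∈ Z → p = x) := by
    intro x
    obtain ⟨U, e, hxU, hb⟩ := (isFinLocFreeOfRank_iff.mp hE) x
    have hcl : IsClosed (Z \ {x}) :=
      Groth.Agent.Lib.Helper13.ZeroDimSupp.isClosed_of_finite_of_points_closed
        (hZfin.subset Set.diff_subset) (fun z hz => hZcl z hz.1)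
    let C : X.Opens := ⟨(Z \ {x})ᶜ, hcl.isOpen_compl⟩
    refine ⟨U ⊓ C, fun i => res E inf_le_left (e i), ⟨hxU, ?_⟩, hb.mono inf_le_left, ?_⟩
    · intro hx
      exact hx.2 rfl
    · intro p hp hpZ
      by_contra hne
      exact hp.2 ⟨hpZ, hne⟩
  choose W e hxW hb hWZ using key
  refine ⟨W, e, hxW, hb, ?_⟩
  intro x y hxy
  rw [Set.disjoint_left]
  intro p hp hpZ
  exact hxy ((hWZ x p hp.1 hpZ).symm.trans (hWZ y p hp.2 hpZ))

section Glue

variable (M : X.Modules) (W : X → X.Opens) (hxW : ∀ x, x ∈ W x) (D : X.Opens)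
  (hWD : ∀ x y, x ≠ y → W x ⊓ W y ≤ D) (hM : ∀ V : X.Opens, V ≤ D → ∀ t : Γ(M, V), t = 0)

include hxW in
theorem loc_eq (a b : Γ(M, ⊤)) (h : ∀ x, res M (le_top : W x ≤ ⊤) a = res M le_top b) : a = b :=
  sec_eq_of_locally_eq M W ⊤ (fun _ => le_top)
    (fun x _ => Opens.mem_iSup.mpr ⟨x, hxW x⟩) a b h

include hxW hWD hM in
theorem glue (a : ∀ x, Γ(M, W x)) : ∃ b : Γ(M, ⊤), ∀ x, res M (le_top : W x ≤ ⊤) b = a x := by
  apply sec_glue M W ⊤ (fun _ => le_top) (fun x _ => Opens.mem_iSup.mpr ⟨x, hxW x⟩) a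
  intro x y
  by_cases hxy : x = y
  · subst hxy; rfl
  · rw [hM _ (hWD x y hxy) (res M _ (a x)), hM _ (hWD x y hxy) (res M _ (a y))]

end Glue

theorem exists_bijection (F E : X.Modules) (n : ℕ) (W : X → X.Opens)
    (e : ∀ x, Fin n → Γ(E, W x)) (hxW : ∀ x, x ∈ W x) (hb : ∀ x, IsBasis E (W x) (e x))
    (D : X.Opens) (hWD : ∀ x y, x ≠ y → W x ⊓ W y ≤ D)
    (hF : ∀ V : X.Opens, V ≤ D → ∀ t : Γ(F, V), t = 0) :
    ∃ Ψ : (Fin n → Γ(F, ⊤)) → Γ(CohB1.tensorMod F E, ⊤), Function.Bijective Ψ ∧
      (∀ s s', Ψ (s + s') = Ψ s + Ψ s') ∧ (∀ (r : Γ(X, ⊤)) s, Ψ (r • s) = r • Ψ s) := by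
  have hT := tensor_eq_zero_of_vanishes F E D hF
  have hglue : ∀ s : Fin n → Γ(F, ⊤), ∃ b : Γ(CohB1.tensorMod F E, ⊤),
      ∀ x, res (CohB1.tensorMod F E) (le_top : W x ≤ ⊤) b =
        ∑ i, tm F E (W x) (res F le_top (s i)) (e x i) :=
    fun s => glue (CohB1.tensorMod F E) W hxW D hWD hT _
  choose Ψ hΨ using hglue
  refine ⟨Ψ, ⟨?_, ?_⟩, ?_, ?_⟩
  · intro s s' h
    have h1 : ∀ x, (fun i => res F (le_top : W x ≤ ⊤) (s i)) =
        (fun i => res F (le_top : W x ≤ ⊤) (s' i)) := by
      intro x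
      apply (tm_basis_bijective_self F E (hb x)).1
      dsimp only
      rw [← hΨ s x, ← hΨ s' x, h]
    funext i
    apply loc_eq F W hxW
    intro x
    exact congrFun (h1 x) i
  · intro σ
    have h1 : ∀ x, ∃ t : Fin n → Γ(F, W x),
        ∑ i, tm F E (W x) (t i) (e x i) = res (CohB1.tensorMod F E) (le_top : W x ≤ ⊤) σ :=
      fun x => (tm_basis_bijective_self F E (hb x)).2 _
    choose t ht using h1
    have h2 : ∀ i : Fin n, ∃ s : Γ(F, ⊤), ∀ x, res F (le_top : W x ≤ ⊤) s = t x i :=
      fun i => glue F W hxW D hWD hF (fun x => t x i)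
    choose s hs using h2
    refine ⟨s, ?_⟩
    apply loc_eq (CohB1.tensorMod F E) W hxW
    intro x
    rw [hΨ]
    simp only [hs]
    exact ht x
  · intro s s'
    apply loc_eq (CohB1.tensorMod F E) W hxW
    intro x
    rw [res_add', hΨ, hΨ, hΨ]
    simp only [Pi.add_apply, res_add', tm_add_left, Finset.sum_add_distrib]
  · intro r s
    apply loc_eq (CohB1.tensorMod F E) W hxW
    intro x
    rw [res_smul, hΨ, hΨ, Finset.smul_sum]
    simp only [Pi.smul_apply, res_smul, tm_smul_left]

section Euler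

variable (k : Type u) [Field k] (X : Scheme.{u}) [X.Over (Spec (CommRingCat.of k))]
  [IsProper (X ↘ Spec (CommRingCat.of k))]

/-- `χ(F ⊗ E) = n · χ(F)` for coherent `F` with zero-dimensional support and `E` locally free
of rank `n`. -/
theorem euler_tensor (F : X.Modules) (hF : Coh.IsCoh F)
    (hsupp : topologicalKrullDim (CohB1.support F) ≤ 0) (n : ℕ) (E : X.Modules)
    (hE : FlatMod.IsFinLocFreeOfRank n E) :
    Curv2.euler k X (CohB1.tensorMod F E) = n * Curv2.euler k X F := by
  haveI := isNoetherian_of_isProper k X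
  have hZcl : IsClosed (CohB1.support F) := Groth.Agent.S0020.result X F hF.2
  have hpt : ∀ z ∈ CohB1.support F, IsClosed ({z} : Set X) := fun z hz =>
    Groth.Agent.Lib.Lead.ZeroDimPts.isClosed_singleton_of_dim_le_zero hZcl hsupp hz
  have hZfin : (CohB1.support F).Finite :=
    Groth.Agent.Lib.Helper13.ZeroDimSupp.finite_of_isClosed_of_points_closed hZcl hpt
  let D : X.Opens := ⟨(CohB1.support F)ᶜ, hZcl.isOpen_compl⟩
  have hFD : VanishesOn F D := vanishesOn_of_support_subset F D (by
    intro x hx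
    show x ∈ ((CohB1.support F)ᶜ)ᶜ
    rwa [compl_compl])
  obtain ⟨W, e, hxW, hb, hdisj⟩ := exists_cover E n hE _ hZfin hpt
  have hWD : ∀ x y, x ≠ y → W x ⊓ W y ≤ D := by
    intro x y hxy p hp
    exact Set.disjoint_left.mp (hdisj x y hxy) hp
  obtain ⟨Ψ, hbij, hadd, hsmul⟩ := exists_bijection F E n W e hxW hb D hWD hFD
  have hT := tensor_eq_zero_of_vanishes F E D hFD
  have hEcoh := isCoh_of_isFinLocFreeOfRank hE
  have hTcoh : Coh.IsCoh (CohB1.tensorMod F E) := by
    haveI : F.IsQuasicoherent := hF.1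
    haveI : E.IsQuasicoherent := hEcoh.1
    haveI : F.IsFiniteType := hF.2
    haveI : E.IsFiniteType := hEcoh.2
    exact ⟨Groth.Agent.Lib.Helper17.TensorSec.isQuasicoherent_tensorMod F E,
      Groth.Agent.Lib.Helper17.TensorSec.isFiniteType_tensorMod F E⟩
  have hle : ∀ V : X.Opens, Disjoint (V : Set X) (CohB1.support F) → V ≤ D := by
    intro V hV p hp
    exact Set.disjoint_left.mp hV hp
  have hflF : IsFlq F :=
    isFlq_of_vanishing_off_finite F _ hZfin hpt (fun V hV t => hFD V (hle V hV) t)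
  have hflT : IsFlq (CohB1.tensorMod F E) :=
    isFlq_of_vanishing_off_finite _ _ hZfin hpt (fun V hV t => hT V (hle V hV) t)
  rw [euler_eq_finrank_of_isFlq k X _ hTcoh hflT, euler_eq_finrank_of_isFlq k X F hF hflF]
  haveI := finite_HH k F hF 0
  haveI := finite_HH k (CohB1.tensorMod F E) hTcoh 0
  let f : (Fin n → Coh.HH X F 0) →ₗ[k] Coh.HH X (CohB1.tensorMod F E) 0 :=
    { toFun := fun x => (h0equiv (CohB1.tensorMod F E)).symm (Ψ (fun i => h0equiv F (x i)))
      map_add' := fun x y => by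
        have h1 : (fun i => (h0equiv F ((x + y) i) : Γ(F, ⊤))) =
            (fun i => (h0equiv F (x i) : Γ(F, ⊤))) + (fun i => (h0equiv F (y i) : Γ(F, ⊤))) := by
          funext i
          exact (h0equiv F).map_add (x i) (y i)
        have h2 : Ψ (fun i => h0equiv F ((x + y) i)) =
            Ψ (fun i => h0equiv F (x i)) + Ψ (fun i => h0equiv F (y i)) :=
          (congrArg Ψ h1).trans (hadd _ _)
        exact (congrArg (h0equiv (CohB1.tensorMod F E)).symm h2).trans
          ((h0equiv (CohB1.tensorMod F E)).symm.map_add _ _)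
      map_smul' := fun c x => by
        let r : Coh.Γtop X := Coh.toGlobal (X ↘ Spec (CommRingCat.of k)) c
        let r' : Γ(X, ⊤) := r
        have h1 : (fun i => (h0equiv F ((c • x) i) : Γ(F, ⊤))) =
            r' • (fun i => (h0equiv F (x i) : Γ(F, ⊤))) := by
          funext i
          exact (h0equiv F).map_smul r (x i)
        have h2 : Ψ (fun i => h0equiv F ((c • x) i)) =
            r' • Ψ (fun i => h0equiv F (x i)) :=
          (congrArg Ψ h1).trans (hsmul r' _)
        exact (congrArg (h0equiv (CohB1.tensorMod F E)).symm h2).trans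
          ((h0equiv (CohB1.tensorMod F E)).symm.map_smul r _) }
  have hfbij : Function.Bijective f := by
    constructor
    · intro x y hxy
      have h1 : Ψ (fun i => h0equiv F (x i)) = Ψ (fun i => h0equiv F (y i)) :=
        (h0equiv (CohB1.tensorMod F E)).symm.injective hxy
      have h2 := hbij.1 h1
      funext i
      exact (h0equiv F).injective (congrFun h2 i)
    · intro z
      obtain ⟨s, hs⟩ := hbij.2 (h0equiv (CohB1.tensorMod F E) z)
      refine ⟨fun i => (h0equiv F).symm (s i), ?_⟩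
      have h1 : (fun i => (h0equiv F ((h0equiv F).symm (s i)) : Γ(F, ⊤))) = s := by
        funext i
        exact (h0equiv F).apply_symm_apply (s i)
      show (h0equiv (CohB1.tensorMod F E)).symm
        (Ψ (fun i => h0equiv F ((h0equiv F).symm (s i)))) = z
      rw [h1, hs]
      exact (h0equiv (CohB1.tensorMod F E)).symm_apply_apply z
  have h3 := (LinearEquiv.ofBijective f hfbij).finrank_eq
  rw [← h3, Module.finrank_pi_fintype]
  simp

/-- Variant of `euler_tensor` for a module vanishing off a finite set of closed points. -/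
theorem euler_tensor_of_vanishing (F : X.Modules) (hF : Coh.IsCoh F) (Z : Set X)
    (hZcl : IsClosed Z) (hZfin : Z.Finite) (hpt : ∀ z ∈ Z, IsClosed ({z} : Set X))
    (hvan : ∀ V : X.Opens, Disjoint (V : Set X) Z → ∀ t : Γ(F, V), t = 0)
    (n : ℕ) (E : X.Modules) (hE : FlatMod.IsFinLocFreeOfRank n E) :
    Curv2.euler k X (CohB1.tensorMod F E) = n * Curv2.euler k X F := by
  haveI := isNoetherian_of_isProper k X
  let D : X.Opens := ⟨Zᶜ, hZcl.isOpen_compl⟩
  have hFD : VanishesOn F D := by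
    intro V hV t
    apply hvan V _ t
    rw [Set.disjoint_left]
    intro p hp hpZ
    exact hV hp hpZ
  obtain ⟨W, e, hxW, hb, hdisj⟩ := exists_cover E n hE _ hZfin hpt
  have hWD : ∀ x y, x ≠ y → W x ⊓ W y ≤ D := by
    intro x y hxy p hp
    exact Set.disjoint_left.mp (hdisj x y hxy) hp
  obtain ⟨Ψ, hbij, hadd, hsmul⟩ := exists_bijection F E n W e hxW hb D hWD hFD
  have hT := tensor_eq_zero_of_vanishes F E D hFD
  have hEcoh := isCoh_of_isFinLocFreeOfRank hE
  have hTcoh : Coh.IsCoh (CohB1.tensorMod F E) := by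
    haveI : F.IsQuasicoherent := hF.1
    haveI : E.IsQuasicoherent := hEcoh.1
    haveI : F.IsFiniteType := hF.2
    haveI : E.IsFiniteType := hEcoh.2
    exact ⟨Groth.Agent.Lib.Helper17.TensorSec.isQuasicoherent_tensorMod F E,
      Groth.Agent.Lib.Helper17.TensorSec.isFiniteType_tensorMod F E⟩
  have hle : ∀ V : X.Opens, Disjoint (V : Set X) Z → V ≤ D := by
    intro V hV p hp
    exact Set.disjoint_left.mp hV hp
  have hflF : IsFlq F :=
    isFlq_of_vanishing_off_finite F _ hZfin hpt (fun V hV t => hFD V (hle V hV) t)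
  have hflT : IsFlq (CohB1.tensorMod F E) :=
    isFlq_of_vanishing_off_finite _ _ hZfin hpt (fun V hV t => hT V (hle V hV) t)
  rw [euler_eq_finrank_of_isFlq k X _ hTcoh hflT, euler_eq_finrank_of_isFlq k X F hF hflF]
  haveI := finite_HH k F hF 0
  haveI := finite_HH k (CohB1.tensorMod F E) hTcoh 0
  let f : (Fin n → Coh.HH X F 0) →ₗ[k] Coh.HH X (CohB1.tensorMod F E) 0 :=
    { toFun := fun x => (h0equiv (CohB1.tensorMod F E)).symm (Ψ (fun i => h0equiv F (x i)))
      map_add' := fun x y => by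
        have h1 : (fun i => (h0equiv F ((x + y) i) : Γ(F, ⊤))) =
            (fun i => (h0equiv F (x i) : Γ(F, ⊤))) + (fun i => (h0equiv F (y i) : Γ(F, ⊤))) := by
          funext i
          exact (h0equiv F).map_add (x i) (y i)
        have h2 : Ψ (fun i => h0equiv F ((x + y) i)) =
            Ψ (fun i => h0equiv F (x i)) + Ψ (fun i => h0equiv F (y i)) :=
          (congrArg Ψ h1).trans (hadd _ _)
        exact (congrArg (h0equiv (CohB1.tensorMod F E)).symm h2).trans
          ((h0equiv (CohB1.tensorMod F E)).symm.map_add _ _)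
      map_smul' := fun c x => by
        let r : Coh.Γtop X := Coh.toGlobal (X ↘ Spec (CommRingCat.of k)) c
        let r' : Γ(X, ⊤) := r
        have h1 : (fun i => (h0equiv F ((c • x) i) : Γ(F, ⊤))) =
            r' • (fun i => (h0equiv F (x i) : Γ(F, ⊤))) := by
          funext i
          exact (h0equiv F).map_smul r (x i)
        have h2 : Ψ (fun i => h0equiv F ((c • x) i)) =
            r' • Ψ (fun i => h0equiv F (x i)) :=
          (congrArg Ψ h1).trans (hsmul r' _)
        exact (congrArg (h0equiv (CohB1.tensorMod F E)).symm h2).trans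
          ((h0equiv (CohB1.tensorMod F E)).symm.map_smul r _) }
  have hfbij : Function.Bijective f := by
    constructor
    · intro x y hxy
      have h1 : Ψ (fun i => h0equiv F (x i)) = Ψ (fun i => h0equiv F (y i)) :=
        (h0equiv (CohB1.tensorMod F E)).symm.injective hxy
      have h2 := hbij.1 h1
      funext i
      exact (h0equiv F).injective (congrFun h2 i)
    · intro z
      obtain ⟨s, hs⟩ := hbij.2 (h0equiv (CohB1.tensorMod F E) z)
      refine ⟨fun i => (h0equiv F).symm (s i), ?_⟩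
      have h1 : (fun i => (h0equiv F ((h0equiv F).symm (s i)) : Γ(F, ⊤))) = s := by
        funext i
        exact (h0equiv F).apply_symm_apply (s i)
      show (h0equiv (CohB1.tensorMod F E)).symm
        (Ψ (fun i => h0equiv F ((h0equiv F).symm (s i)))) = z
      rw [h1, hs]
      exact (h0equiv (CohB1.tensorMod F E)).symm_apply_apply z
  have h3 := (LinearEquiv.ofBijective f hfbij).finrank_eq
  rw [← h3, Module.finrank_pi_fintype]
  simp

end Euler

end Groth.Agent.Lib.Helper23.TensorPts
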