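import Groth.Agent.Lib.Helper3.InvTensor
import Groth.Agent.Lib.Helper3.FreeBasis

/-!
# Sections of `F ⊗ E` over an open where `E` has a basis
-/

set_option autoImplicit false
universe u
open CategoryTheory CategoryTheory.Limits AlgebraicGeometry TopologicalSpace Opposite
open Scheme.Modules TensorProduct

namespace Groth.Agent.Lib.Helper23.TmBasis

open Groth.Agent.Lib.Helper3 Groth.Agent.Lib.Helper3.QCSec Groth.Agent.Lib.Helper3.InvGen
open Groth.Agent.Lib.Helper3.InvTensor Groth.Agent.Lib.Helper3.FreeBasis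

section Algebra

variable {R M N : Type*} [CommRing R] [AddCommGroup M] [Module R M] [AddCommGroup N] [Module R N]

/-- the basis attached to a bijective linear-combination map -/
noncomputable def basisOf {n : ℕ} (e : Fin n → N)
    (he : Function.Bijective (fun a : Fin n → R => ∑ i, a i • e i)) : Module.Basis (Fin n) R N :=
  Module.Basis.ofEquivFun (LinearEquiv.ofBijective (Fintype.linearCombination R e) he).symm

theorem basisOf_apply {n : ℕ} (e : Fin n → N)
    (he : Function.Bijective (fun a : Fin n → R => ∑ i, a i • e i)) (i : Fin n) :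
    basisOf e he i = e i := by
  classical
  unfold basisOf
  rw [Module.Basis.coe_ofEquivFun]
  simp [Fintype.linearCombination_apply, Pi.single_apply]

theorem eq_zero_of_sum_tmul_basis {n : ℕ} (e : Fin n → N)
    (he : Function.Bijective (fun a : Fin n → R => ∑ i, a i • e i)) (t : Fin n → M)
    (h : ∑ i, t i ⊗ₜ[R] e i = 0) : t = 0 := by
  classical
  have hb : ∀ i, basisOf e he i = e i := basisOf_apply e he
  have h' : ((Finsupp.equivFunOnFinite.symm t).sum fun i m => m ⊗ₜ[R] basisOf e he i) = 0 := by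
    rw [Finsupp.sum_fintype (Finsupp.equivFunOnFinite.symm t)
      (fun i m => m ⊗ₜ[R] basisOf e he i) (fun i => zero_tmul _ _)]
    simpa [hb] using h
  have h1 := TensorProduct.sum_tmul_basis_right_eq_zero (basisOf e he) _ h'
  funext i
  have h2 := DFunLike.congr_fun h1 i
  simpa using h2

theorem exists_sum_tmul_basis {n : ℕ} (e : Fin n → N)
    (he : Function.Bijective (fun a : Fin n → R => ∑ i, a i • e i)) (y : M ⊗[R] N) :
    ∃ t : Fin n → M, y = ∑ i, t i ⊗ₜ[R] e i := by
  classical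
  have hb : ∀ i, basisOf e he i = e i := basisOf_apply e he
  obtain ⟨c, hc⟩ := TensorProduct.eq_repr_basis_right (basisOf e he) y
  refine ⟨fun i => c i, ?_⟩
  rw [← hc, Finsupp.sum_fintype c
      (fun i m => m ⊗ₜ[R] basisOf e he i) (fun i => zero_tmul _ _)]
  simp [hb]

end Algebra

variable {X : Scheme.{u}}

theorem res_sum' (M : X.Modules) {A B : X.Opens} (h : A ≤ B) {ι : Type*} (s : Finset ι)
    (t : ι → Γ(M, B)) : res M h (∑ i ∈ s, t i) = ∑ i ∈ s, res M h (t i) :=
  map_sum (M.presheaf.map (homOfLE h).op).hom t s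

theorem tm_basis_eq_zero (F E : X.Modules) {U : X.Opens} {n : ℕ} {e : Fin n → Γ(E, U)}
    (hb : IsBasis E U e) (V : X.Opens) (h : V ≤ U) (t : Fin n → Γ(F, V))
    (ht : ∑ i, tm F E V (t i) (res E h (e i)) = 0) : t = 0 := by
  have key : ∀ x : {x : X // x ∈ V}, ∃ (W : X.Opens) (hWV : W ≤ V), x.1 ∈ W ∧
      ∀ i, res F hWV (t i) = 0 := by
    intro x
    have hy : ((SecTwist.toTensor F E).app (op V)).hom
        (∑ i, ((show (CohB1.toPMod F).obj (op V) from t i) ⊗ₜ[Rg X V]
          (show (CohB1.toPMod E).obj (op V) from res E h (e i)))) = 0 := by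
      rw [map_sum]; exact ht
    obtain ⟨W, hWV, hxW, hW⟩ := local_inj F E V _ hy x.1 x.2
    refine ⟨W, hWV, hxW, ?_⟩
    rw [map_sum] at hW
    simp only [pre_map_tmul] at hW
    have hbW : IsBasisAt E W (fun i => res E hWV (res E h (e i))) := by
      simp only [res_res]; exact hb W (hWV.trans h)
    have h0 := eq_zero_of_sum_tmul_basis (R := Rg X W) (M := (CohB1.toPMod F).obj (op W))
      (N := (CohB1.toPMod E).obj (op W)) _ hbW (fun i => res F hWV (t i)) hW
    exact fun i => congrFun h0 i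
  choose W hWV hxW hW using key
  funext i
  apply sec_eq_of_locally_eq F W V hWV (fun x hx => Opens.mem_iSup.mpr ⟨⟨x, hx⟩, hxW ⟨x, hx⟩⟩)
  intro j
  rw [hW j i]
  exact (res_zero F _).symm

theorem tm_basis_injective (F E : X.Modules) {U : X.Opens} {n : ℕ} {e : Fin n → Γ(E, U)}
    (hb : IsBasis E U e) (V : X.Opens) (h : V ≤ U) :
    Function.Injective (fun t : Fin n → Γ(F, V) => ∑ i, tm F E V (t i) (res E h (e i))) := by
  intro t t' htt
  dsimp only at htt
  have h0 : ∑ i, tm F E V ((t - t') i) (res E h (e i)) = 0 := by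
    simp only [Pi.sub_apply, tm_sub_left, Finset.sum_sub_distrib, htt, sub_self]
  exact sub_eq_zero.mp (tm_basis_eq_zero F E hb V h _ h0)

theorem tm_basis_surjective (F E : X.Modules) {U : X.Opens} {n : ℕ} {e : Fin n → Γ(E, U)}
    (hb : IsBasis E U e) (V : X.Opens) (h : V ≤ U) :
    Function.Surjective (fun t : Fin n → Γ(F, V) => ∑ i, tm F E V (t i) (res E h (e i))) := by
  intro σ
  have key : ∀ x : {x : X // x ∈ V}, ∃ (W : X.Opens) (hWV : W ≤ V), x.1 ∈ W ∧
      ∃ t : Fin n → Γ(F, W), ∑ i, tm F E W (t i) (res E (hWV.trans h) (e i)) =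
        res (CohB1.tensorMod F E) hWV σ := by
    intro x
    obtain ⟨W, hWV, hxW, y, hy⟩ := exists_local_rep F E V σ x.1 x.2
    refine ⟨W, hWV, hxW, ?_⟩
    have hbW : IsBasisAt E W (fun i => res E (hWV.trans h) (e i)) := hb W (hWV.trans h)
    obtain ⟨t, rfl⟩ := exists_sum_tmul_basis (R := Rg X W) (M := (CohB1.toPMod F).obj (op W))
      (N := (CohB1.toPMod E).obj (op W)) _ hbW y
    refine ⟨t, ?_⟩
    exact (map_sum ((SecTwist.toTensor F E).app (op W)).hom _ _).symm.trans hy
  choose W hWV hxW t ht using key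
  have hcov : V ≤ ⨆ i, W i := fun x hx => Opens.mem_iSup.mpr ⟨⟨x, hx⟩, hxW ⟨x, hx⟩⟩
  have hcompat : ∀ i j, (fun l => res F (inf_le_left : W i ⊓ W j ≤ W i) (t i l)) =
      (fun l => res F (inf_le_right : W i ⊓ W j ≤ W j) (t j l)) := by
    intro i j
    apply tm_basis_injective F E hb (W i ⊓ W j) ((inf_le_left.trans (hWV i)).trans h)
    dsimp only
    have h1 := congrArg (res (CohB1.tensorMod F E) (inf_le_left : W i ⊓ W j ≤ W i)) (ht i)
    have h2 := congrArg (res (CohB1.tensorMod F E) (inf_le_right : W i ⊓ W j ≤ W j)) (ht j)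
    rw [res_sum', res_res] at h1 h2
    simp only [tm_res, res_res] at h1 h2
    rw [h1, h2]
  have hglue : ∀ l : Fin n, ∃ t₀ : Γ(F, V), ∀ i, res F (hWV i) t₀ = t i l := by
    intro l
    exact sec_glue F W V hWV hcov (fun i => t i l) (fun i j => congrFun (hcompat i j) l)
  choose t₀ ht₀ using hglue
  refine ⟨t₀, ?_⟩
  dsimp only
  apply sec_eq_of_locally_eq (CohB1.tensorMod F E) W V hWV hcov
  intro i
  rw [res_sum']
  simp only [tm_res, res_res, ht₀]
  exact ht i

theorem tm_basis_bijective (F E : X.Modules) {U : X.Opens} {n : ℕ} {e : Fin n → Γ(E, U)}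
    (hb : IsBasis E U e) (V : X.Opens) (h : V ≤ U) :
    Function.Bijective (fun t : Fin n → Γ(F, V) => ∑ i, tm F E V (t i) (res E h (e i))) :=
  ⟨tm_basis_injective F E hb V h, tm_basis_surjective F E hb V h⟩

/-- `F ⊗ E` vanishes on an open on which `F` vanishes. -/
theorem tensor_eq_zero_of_vanishes (F E : X.Modules) (D : X.Opens)
    (hF : ∀ V : X.Opens, V ≤ D → ∀ t : Γ(F, V), t = 0) (V : X.Opens) (hV : V ≤ D)
    (σ : Γ(CohB1.tensorMod F E, V)) : σ = 0 := by
  have key : ∀ x : {x : X // x ∈ V}, ∃ (W : X.Opens) (hWV : W ≤ V), x.1 ∈ W ∧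
      res (CohB1.tensorMod F E) hWV σ = 0 := by
    intro x
    obtain ⟨W, hWV, hxW, y, hy⟩ := exists_local_rep F E V σ x.1 x.2
    refine ⟨W, hWV, hxW, ?_⟩
    rw [← hy]
    have hsub : Subsingleton ((CohB1.toPMod F).obj (op W)) :=
      ⟨fun a b => (hF W (hWV.trans hV) a).trans (hF W (hWV.trans hV) b).symm⟩
    have hall : ∀ z : ((CohB1.toPMod F).obj (op W)) ⊗[Rg X W] ((CohB1.toPMod E).obj (op W)),
        z = 0 := by
      intro z
      induction z using TensorProduct.induction_on with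
      | zero => rfl
      | tmul a b =>
        exact (congrArg (fun a' => a' ⊗ₜ[Rg X W] b) (Subsingleton.elim a 0)).trans (zero_tmul _ _)
      | add a b ha hb => exact (congrArg₂ (· + ·) ha hb).trans (add_zero _)
    have hy0 : y = 0 := hall y
    subst hy0
    exact map_zero _
  choose W hWV hxW hW using key
  apply sec_eq_of_locally_eq (CohB1.tensorMod F E) W V hWV
    (fun x hx => Opens.mem_iSup.mpr ⟨⟨x, hx⟩, hxW ⟨x, hx⟩⟩)
  intro j
  rw [hW j]
  exact (res_zero _ _).symm

end Groth.Agent.Lib.Helper23.TmBasis
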