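import Groth.Agent.Lib.Helper23.Twist
import Groth.Agent.Lib.Helper23.TmBasis

/-!
# Twisting by a finite locally free module is exact

`mono_twE`, `epi_twE`, `exact_twE`, `shortExact_twE`: for `E` finite locally free,
`- ⊗ E = twR E` preserves monos, epis and (short) exact sequences.
-/

set_option autoImplicit false
universe u
open CategoryTheory CategoryTheory.Limits AlgebraicGeometry TopologicalSpace Opposite
open Scheme.Modules

noncomputable section

namespace Groth.Agent.Lib.Helper23.TwE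

open Groth.Agent.Lib.Helper3 Groth.Agent.Lib.Helper3.QCSec Groth.Agent.Lib.Helper3.InvGen
  Groth.Agent.Lib.Helper3.InvTensor Groth.Agent.Lib.Helper3.InvMonoidal
  Groth.Agent.Lib.Helper3.FreeBasis Groth.Agent.Lib.Helper7.TwFun
open Groth.Agent.Lib.Helper23.Twist Groth.Agent.Lib.Helper23.TmBasis

variable {X : Scheme.{u}} {E : X.Modules} {n : ℕ}

/-- a basis of `E` on a neighbourhood of `x` contained in `W` -/
theorem exists_isBasis_le (hE : FlatMod.IsFinLocFreeOfRank n E) (x : X) (W : X.Opens)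
    (hx : x ∈ W) : ∃ (U : X.Opens) (e : Fin n → Γ(E, U)), x ∈ U ∧ U ≤ W ∧ IsBasis E U e := by
  obtain ⟨U, e, hxU, hb⟩ := (isFinLocFreeOfRank_iff.mp hE) x
  exact ⟨U ⊓ W, fun i => res E inf_le_left (e i), ⟨hxU, hx⟩, inf_le_right, hb.mono inf_le_left⟩

lemma tw_app_sum {F G : X.Modules} (j : F ⟶ G) (U : X.Opens) (t : Fin n → Γ(F, U))
    (e : Fin n → Γ(E, U)) :
    ((twR E).map j).app U (∑ i, tm F E U (t i) (e i)) = ∑ i, tm G E U (j.app U (t i)) (e i) := by
  rw [map_sum]
  exact Finset.sum_congr rfl (fun i _ => tw_app_tm j U (t i) (e i))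

theorem tm_basis_self_surj (F : X.Modules) {U : X.Opens} {e : Fin n → Γ(E, U)}
    (hb : IsBasis E U e) (s : Γ(CohB1.tensorMod F E, U)) :
    ∃ t : Fin n → Γ(F, U), ∑ i, tm F E U (t i) (e i) = s := by
  obtain ⟨t, ht⟩ := tm_basis_surjective F E hb U le_rfl s
  refine ⟨t, ?_⟩
  simpa only [res_self] using ht

theorem tm_basis_self_zero (F : X.Modules) {U : X.Opens} {e : Fin n → Γ(E, U)}
    (hb : IsBasis E U e) (t : Fin n → Γ(F, U)) (ht : ∑ i, tm F E U (t i) (e i) = 0) : t = 0 := by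
  apply tm_basis_eq_zero F E hb U le_rfl t
  simpa only [res_self] using ht

theorem mono_twE (hE : FlatMod.IsFinLocFreeOfRank n E) {F G : X.Modules} (j : F ⟶ G) [Mono j] :
    Mono ((twR E).map j) := by
  apply ModBasis.mono_of_injective_on_basis
  intro W x hx
  obtain ⟨U, e, hxU, hUW, hb⟩ := exists_isBasis_le hE x W hx
  refine ⟨U, hxU, hUW, fun t ht => ?_⟩
  obtain ⟨t', rfl⟩ := tm_basis_self_surj F hb t
  have ht2 : ∑ i, tm G E U (j.app U (t' i)) (e i) = 0 := (tw_app_sum j U t' e).symm.trans ht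
  have h2 := tm_basis_self_zero G hb _ ht2
  have h3 : t' = 0 := by
    funext i
    exact QCExact.injective_sections j U ((congrFun h2 i).trans (QCExact.app_zero j U).symm)
  rw [h3]
  have h4 : ∑ i, tm F E U ((0 : Fin n → Γ(F, U)) i) (e i) = 0 := by
    simp only [Pi.zero_apply, tm_zero_left, Finset.sum_const_zero]
  exact h4

theorem epi_twE (hE : FlatMod.IsFinLocFreeOfRank n E) {F G : X.Modules} (p : F ⟶ G) [Epi p] :
    Epi ((twR E).map p) := by
  apply QCExact.epi_of_locally_surjective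
  intro W s x hx
  obtain ⟨U, e, hxU, hUW, hb⟩ := exists_isBasis_le hE x W hx
  obtain ⟨s', hs'⟩ := tm_basis_self_surj G hb (res (CohB1.tensorMod G E) hUW s)
  -- lift each `s' i` locally around `x`
  have key : ∃ (W' : X.Opens) (hW' : W' ≤ U), x ∈ W' ∧
      ∃ t : Fin n → Γ(F, W'), ∀ i, p.app W' (t i) = res G hW' (s' i) := by
    have h1 : ∀ i : Fin n, ∃ (W' : X.Opens) (hW' : W' ≤ U), x ∈ W' ∧
        ∃ t : Γ(F, W'), p.app W' t = res G hW' (s' i) := by
      intro i
      obtain ⟨W', hW', hxW', t, ht⟩ := QCExact.exists_local_lift p U (s' i) x hxU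
      exact ⟨W', hW', hxW', t, ht⟩
    choose W' hW' hxW' t ht using h1
    refine ⟨U ⊓ ⨅ i, W' i, inf_le_left, ⟨hxU, ?_⟩, ?_⟩
    · show x ∈ ((⨅ i, W' i : X.Opens) : Set X)
      rw [Opens.coe_iInf]
      exact Set.mem_iInter.mpr hxW'
    · have hle : ∀ i, U ⊓ ⨅ i, W' i ≤ W' i := fun i => inf_le_right.trans (iInf_le _ i)
      refine ⟨fun i => res F (hle i) (t i), fun i => ?_⟩
      rw [QCExact.app_res', ht i, res_res]
  obtain ⟨W', hW', hxW', t, ht⟩ := key
  refine ⟨W', hW'.trans hUW, hxW', ∑ i, tm F E W' (t i) (res E hW' (e i)), ?_⟩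
  refine (tw_app_sum p W' t _).trans ?_
  have h1 : res (CohB1.tensorMod G E) (hW'.trans hUW) s =
      res (CohB1.tensorMod G E) hW' (res (CohB1.tensorMod G E) hUW s) := (res_res _ _ _ _).symm
  refine Eq.trans ?_ h1.symm
  rw [← hs', res_sum']
  exact Finset.sum_congr rfl (fun i _ => by rw [ht i, tm_res])

theorem exact_twE (hE : FlatMod.IsFinLocFreeOfRank n E) (S : ShortComplex X.Modules)
    (hS : S.Exact) [Mono S.f] : (S.map (twR E)).Exact := by
  apply ModBasis.exact_of_exact_on_basis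
  intro W x hx
  obtain ⟨U, e, hxU, hUW, hb⟩ := exists_isBasis_le hE x W hx
  refine ⟨U, hxU, hUW, fun s hs => ?_⟩
  obtain ⟨s', rfl⟩ := tm_basis_self_surj S.X₂ hb s
  have hs0 : ((twR E).map S.g).app U (∑ i, tm S.X₂ E U (s' i) (e i)) = 0 := hs
  have hs1 : ∑ i, tm S.X₃ E U (S.g.app U (s' i)) (e i) = 0 :=
    (tw_app_sum S.g U s' e).symm.trans hs0
  have h2 := tm_basis_self_zero S.X₃ hb _ hs1
  have h3 : ∀ i, ∃ t : Γ(S.X₁, U), S.f.app U t = s' i :=
    fun i => QCExact.exact_sections S hS U (s' i) (congrFun h2 i)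
  choose t' ht' using h3
  refine ⟨∑ i, tm S.X₁ E U (t' i) (e i), ?_⟩
  refine (tw_app_sum S.f U t' e).trans ?_
  exact Finset.sum_congr rfl (fun i _ => by rw [ht' i])

theorem shortExact_twE (hE : FlatMod.IsFinLocFreeOfRank n E) (S : ShortComplex X.Modules)
    (hS : S.ShortExact) : (S.map (twR E)).ShortExact := by
  haveI := hS.mono_f
  haveI := hS.epi_g
  haveI : Mono (S.map (twR E)).f := mono_twE hE S.f
  haveI : Epi (S.map (twR E)).g := epi_twE hE S.g
  exact ShortComplex.ShortExact.mk (exact_twE hE S hS.exact)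

end Groth.Agent.Lib.Helper23.TwE
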