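import Groth.Agent.Lib.Helper3.IdealMod
import Groth.Agent.Lib.Helper3.InvCoh
import Groth.Agent.Lib.Helper17.EffCartMod
import Groth.Agent.Lib.Helper23.TwE
import Groth.Agent.Lib.Helper23.TensorPts

/-!
# Effective Cartier divisors on schemes of dimension `≤ 1`

* `epi_toSubscheme`, `shortExact_ideal`: `0 → I → O → O/I → 0`.
* `isCoh_quotMod`, `quotMod_eq_zero_of_disjoint`.
* `isClosed_singleton_of_mem_support`: points of an effective Cartier divisor on a scheme of
  dimension `≤ 1` are closed.
* `isFinite_subscheme`.
-/

set_option autoImplicit false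
universe u
open CategoryTheory CategoryTheory.Limits AlgebraicGeometry TopologicalSpace Opposite
open Scheme.Modules

noncomputable section

namespace Groth.Agent.Lib.Helper23.EffCart

open Groth.Agent.Lib.Helper3 Groth.Agent.Lib.Helper3.QCSec Groth.Agent.Lib.Helper3.InvGen
  Groth.Agent.Lib.Helper3.IdealMod

section Top

variable {α : Type*} [TopologicalSpace α]

/-- in a T0 space of dimension `≤ 1`, a point with a proper generization is closed -/
lemma isClosed_singleton_of_specializes [T0Space α] (hdim : topologicalKrullDim α ≤ 1)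
    {x x' : α} (h : x' ⤳ x) (hne : x' ≠ x) : IsClosed ({x} : Set α) := by
  rw [← closure_eq_iff_isClosed]
  refine Set.Subset.antisymm ?_ subset_closure
  intro y hy
  by_contra hyx
  have hyx' : y ≠ x := hyx
  let a : IrreducibleCloseds α := ⟨closure {y}, isIrreducible_singleton.closure, isClosed_closure⟩
  let b : IrreducibleCloseds α := ⟨closure {x}, isIrreducible_singleton.closure, isClosed_closure⟩
  let c : IrreducibleCloseds α := ⟨closure {x'}, isIrreducible_singleton.closure, isClosed_closure⟩
  have hxy : x ⤳ y := specializes_iff_mem_closure.mpr hy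
  have hab : a < b := by
    refine lt_of_le_of_ne (show (a : Set α) ⊆ b from
      closure_minimal (Set.singleton_subset_iff.mpr hy) isClosed_closure) ?_
    intro heq
    have h1 : (closure {y} : Set α) = closure {x} :=
      congrArg (fun s : IrreducibleCloseds α => (s : Set α)) heq
    have h2 : x ∈ closure ({y} : Set α) := h1 ▸ subset_closure (Set.mem_singleton x)
    have hyx2 : y ⤳ x := specializes_iff_mem_closure.mpr h2
    exact hyx' (hyx2.antisymm hxy).eq
  have hbc : b < c := by
    refine lt_of_le_of_ne (show (b : Set α) ⊆ c from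
      closure_minimal (Set.singleton_subset_iff.mpr (specializes_iff_mem_closure.mp h))
        isClosed_closure) ?_
    intro heq
    have h1 : (closure {x} : Set α) = closure {x'} :=
      congrArg (fun s : IrreducibleCloseds α => (s : Set α)) heq
    have h2 : x' ∈ closure ({x} : Set α) := h1 ▸ subset_closure (Set.mem_singleton x')
    have hxx' : x ⤳ x' := specializes_iff_mem_closure.mpr h2
    exact hne (h.antisymm hxx').eq
  let p : LTSeries (IrreducibleCloseds α) :=
    { length := 2
      toFun := ![a, b, c]
      step := by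
        intro i
        fin_cases i
        · exact hab
        · exact hbc }
  have h2 : (2 : WithBot ℕ∞) ≤ topologicalKrullDim α := by
    have := Order.LTSeries.length_le_krullDim p
    exact this
  have : (2 : WithBot ℕ∞) ≤ 1 := h2.trans hdim
  exact absurd this (by decide)

end Top

variable {X : Scheme.{u}} (I : X.IdealSheafData)

instance epi_toSubscheme : Epi (ClSub.toSubscheme I) := by
  apply QCExact.epi_of_locally_surjective
  intro W s x hx
  obtain ⟨U, hU, hxU, hUW⟩ := Opens.isBasis_iff_nbhd.mp X.isBasis_affineOpens hx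
  refine ⟨U, hUW, hxU, ?_⟩
  obtain ⟨g, hg⟩ := I.subschemeι_app_surjective ⟨U, hU⟩ (res (ClSub.quotMod I) hUW s)
  exact ⟨ofFun U g, hg⟩

/-- `0 → I → O → O/I → 0`. -/
theorem shortExact_ideal :
    (ShortComplex.mk (ClSub.idealModι I) (ClSub.toSubscheme I)
      (kernel.condition (ClSub.toSubscheme I))).ShortExact :=
  { exact := ShortComplex.exact_kernel _
    mono_f := mono_idealModι I
    epi_g := epi_toSubscheme I }

theorem isCoh_quotMod : Coh.IsCoh (ClSub.quotMod I) :=
  ⟨isQuasicoherent_quotMod I, QCProps.isFiniteType_of_epi (ClSub.toSubscheme I)⟩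

/-- `O/I` vanishes on opens disjoint from the support of `I`. -/
theorem quotMod_eq_zero_of_disjoint (V : X.Opens) (hV : Disjoint (V : Set X) (I.support : Set X))
    (t : Γ(ClSub.quotMod I, V)) : t = 0 := by
  have hbot : I.subschemeι ⁻¹ᵁ V = ⊥ := by
    ext z
    simp only [Opens.coe_bot, Set.mem_empty_iff_false, iff_false]
    intro hz
    have h1 : I.subschemeι z ∈ (I.support : Set X) := by
      rw [← I.range_subschemeι]
      exact Set.mem_range_self z
    exact Set.disjoint_left.mp hV hz h1
  have hsub : Subsingleton Γ(I.subscheme, I.subschemeι ⁻¹ᵁ V) := by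
    rw [hbot]
    infer_instance
  exact @Subsingleton.elim _ hsub _ _

/-- points of an effective Cartier divisor on a scheme of dimension `≤ 1` are closed -/
theorem isClosed_singleton_of_mem_support (hdim : topologicalKrullDim X ≤ 1)
    (hI : BlowUp.IsEffCartierIdeal I) (x : X) (hx : x ∈ I.support) : IsClosed ({x} : Set X) := by
  by_contra hcl
  have hmin : ∀ x' : X, x' ⤳ x → x' = x := by
    intro x' h
    by_contra hne
    exact hcl (isClosed_singleton_of_specializes hdim h hne)
  obtain ⟨U, hxU, f, hf, hIf⟩ := hI x
  have hU : IsAffineOpen U.1 := U.2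
  let p := hU.primeIdealOf ⟨x, hxU⟩
  have hp : hU.fromSpec p = x := hU.fromSpec_primeIdealOf ⟨x, hxU⟩
  have hfp : f ∈ p.asIdeal := by
    have h1 : x ∈ X.zeroLocus (U := U.1) (I.ideal U) :=
      (Scheme.IdealSheafData.mem_support_iff_of_mem hxU).mp hx
    have h2 : x ∉ X.basicOpen f :=
      (X.mem_zeroLocus_iff _ x).mp h1 f (hIf ▸ Ideal.subset_span (Set.mem_singleton f))
    by_contra hnot
    apply h2
    have h3 : p ∈ PrimeSpectrum.basicOpen f := hnot
    rw [← hU.fromSpec_preimage_basicOpen] at h3
    rw [← hp]
    exact h3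
  have hpmin : p.asIdeal ∈ minimalPrimes Γ(X, U.1) := by
    refine ⟨⟨p.isPrime, bot_le⟩, fun q hq hqp => ?_⟩
    let q' : PrimeSpectrum Γ(X, U.1) := ⟨q, hq.1⟩
    have h1 : q' ⤳ p := (PrimeSpectrum.le_iff_specializes q' p).mp hqp
    have h2 : hU.fromSpec q' ⤳ hU.fromSpec p := h1.map hU.fromSpec.continuous
    rw [hp] at h2
    have h3 := hmin _ h2
    have h4 : q' = p := hU.fromSpec.isOpenEmbedding.injective (h3.trans hp.symm)
    exact le_of_eq (congrArg PrimeSpectrum.asIdeal h4).symm
  exact Set.disjoint_left.mp (Ideal.disjoint_nonZeroDivisors_of_mem_minimalPrimes hpmin) hfp hf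

section Finite

variable (k : Type u) [Field k] [X.Over (Spec (CommRingCat.of k))]
  [IsProper (X ↘ Spec (CommRingCat.of k))]

theorem isFinite_subscheme (hfin : (I.support : Set X).Finite) :
    IsFinite (I.subschemeι ≫ (X ↘ Spec (CommRingCat.of k))) := by
  haveI : Finite I.subscheme := by
    have hinj : Function.Injective I.subschemeι := I.subschemeι.isEmbedding.injective
    haveI : Finite (I.support : Set X) := hfin
    refine Finite.of_injective
      (fun z => (⟨I.subschemeι z, by
        rw [← I.range_subschemeι]; exact Set.mem_range_self z⟩ :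
          (I.support : Set X))) ?_
    intro a b hab
    exact hinj (congrArg Subtype.val hab)
  haveI : LocallyQuasiFinite (I.subschemeι ≫ (X ↘ Spec (CommRingCat.of k))) :=
    LocallyQuasiFinite.of_finite_preimage_singleton _ (fun _ => Set.toFinite _)
  haveI : IsLocallyArtinian (Spec (CommRingCat.of k)) :=
    Scheme.isLocallyArtinianScheme_Spec.mpr inferInstance
  exact IsFinite.of_locallyQuasiFinite _

end Finite

end Groth.Agent.Lib.Helper23.EffCart
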