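import Mathlib
import Groth.Agent.Lib.Helper23.SnapA
import Groth.Agent.Lib.Helper23.AsympA

/-!
# Helper library (helper23): integrality of the mixed coefficient of an integer-valued polynomial
-/

set_option autoImplicit false
open MvPolynomial

namespace Groth.Agent.Lib.Helper23.Snap

open Groth.Agent.Lib.Helper23.Asymp

theorem eq_of_evN_eq {r : ℕ} (P Q : MvPolynomial (Fin r) ℚ) (h : ∀ n, evN P n = evN Q n) :
    P = Q := by
  refine MvPolynomial.funext_set (fun _ => Set.range (Nat.cast : ℕ → ℚ))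
    (fun _ => Set.infinite_range_of_injective Nat.cast_injective) ?_
  intro x hx
  have hx' : ∀ i, ∃ n : ℕ, (n : ℚ) = x i := fun i => hx i (Set.mem_univ i)
  choose n hn using hx'
  have hxn : x = fun i => (n i : ℚ) := funext fun i => (hn i).symm
  rw [hxn]
  exact h n

lemma ones_succ (r : ℕ) : (ones r).cons 1 = ones (r + 1) := by
  ext i
  refine Fin.cases ?_ (fun j => ?_) i
  · simp [ones]
  · simp [ones]

lemma degree_cons_ones (r j : ℕ) : ((ones r).cons j).sum (fun _ e => e) = r + j := by
  rw [Finsupp.sum_fintype _ _ (fun _ => rfl), Fin.sum_univ_succ]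
  simp [ones]
  omega

/-- the coefficient of `X_0 ⋯ X_{r-1}` of an integer-valued polynomial of total degree `≤ r` in
`r` variables is an integer. -/
theorem int_coeff_ones : ∀ (r : ℕ) (P : MvPolynomial (Fin r) ℚ), P.totalDegree ≤ r →
    (∀ n : Fin r → ℕ, ∃ z : ℤ, evN P n = z) → ∃ z : ℤ, coeff (ones r) P = z
  | 0, P, _, hint => by
    obtain ⟨z, hz⟩ := hint 0
    refine ⟨z, ?_⟩
    rw [← hz]
    have hP : P = C (coeff 0 P) := eq_C_of_isEmpty P
    have h0 : ones 0 = 0 := Subsingleton.elim _ _
    rw [h0]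
    conv_rhs => rw [hP]
    simp [evN]
  | r + 1, P, hdeg, hint => by
    set Q := finSuccEquiv ℚ r P with hQ
    set N := Q.natDegree with hN
    let R : MvPolynomial (Fin r) ℚ := ∑ j ∈ Finset.range (N + 1), Q.coeff (j + 1)
    have hRdeg : R.totalDegree ≤ r := by
      refine totalDegree_finsetSum_le fun j _ => ?_
      by_cases h0 : Q.coeff (j + 1) = 0
      · rw [h0]; simp
      · have := totalDegree_coeff_finSuccEquiv_add_le P (j + 1) h0
        rw [← hQ] at this
        omega
    have hRint : ∀ s : Fin r → ℕ, ∃ z : ℤ, evN R s = z := by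
      intro s
      obtain ⟨z1, hz1⟩ := hint (Fin.cons 1 s)
      obtain ⟨z0, hz0⟩ := hint (Fin.cons 0 s)
      refine ⟨z1 - z0, ?_⟩
      push_cast
      rw [← hz1, ← hz0, evN_cons_zero, evN_cons]
      have hlast : evN (Q.coeff (N + 1)) s * ((1 : ℕ) : ℚ) ^ (N + 1) = 0 := by
        rw [Polynomial.coeff_eq_zero_of_natDegree_lt (Nat.lt_succ_self N)]
        simp [evN]
      rw [← hQ, ← hN, ← add_zero (∑ j ∈ Finset.range (N + 1), _), ← hlast,
        ← Finset.sum_range_succ (fun j => evN (Q.coeff j) s * ((1 : ℕ) : ℚ) ^ j) (N + 1),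
        Finset.sum_range_succ']
      simp only [Nat.cast_one, one_pow, mul_one, pow_zero]
      rw [add_sub_cancel_right]
      simp [R, evN]
    obtain ⟨z, hz⟩ := int_coeff_ones r R hRdeg hRint
    refine ⟨z, ?_⟩
    rw [← hz, ← ones_succ, ← finSuccEquiv_coeff_coeff, ← hQ]
    simp only [R, coeff_sum]
    rw [Finset.sum_eq_single 0]
    · intro j _ hj
      rw [hQ, finSuccEquiv_coeff_coeff]
      apply coeff_eq_zero_of_totalDegree_lt
      have hd := degree_cons_ones r (j + 1)
      unfold Finsupp.sum at hd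
      rw [hd]
      have : 1 ≤ j := Nat.one_le_iff_ne_zero.mpr hj
      omega
    · intro h
      simp at h

end Groth.Agent.Lib.Helper23.Snap
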