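import Mathlib
import Groth.Agent.Lib.Helper23.SnapD

/-!
# Helper library (helper23): polynomial algebra for intersecting with an effective Cartier divisor
-/

set_option autoImplicit false
open MvPolynomial

namespace Groth.Agent.Lib.Helper23.Snap

open Groth.Agent.Lib.Helper23.Asymp

/-- the first difference in the first variable at the hyperplane `n 0 = 0`. -/
theorem exists_diff_poly (r : ℕ) (P : MvPolynomial (Fin (r + 1)) ℚ)
    (hdeg : P.totalDegree ≤ r + 1) :
    ∃ R' : MvPolynomial (Fin r) ℚ,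
      (∀ s, evN R' s = evN P (Fin.cons 1 s) - evN P (Fin.cons 0 s)) ∧
      coeff (ones r) R' = coeff (ones (r + 1)) P := by
  set Q := finSuccEquiv ℚ r P with hQ
  set N := Q.natDegree with hN
  refine ⟨∑ j ∈ Finset.range (N + 1), Q.coeff (j + 1), fun s => ?_, ?_⟩
  · rw [evN_cons_zero, evN_cons]
    have hlast : evN (Q.coeff (N + 1)) s * ((1 : ℕ) : ℚ) ^ (N + 1) = 0 := by
      rw [Polynomial.coeff_eq_zero_of_natDegree_lt (Nat.lt_succ_self N)]
      simp [evN]
    have h := Finset.sum_range_succ' (fun j => evN (Q.coeff j) s * ((1 : ℕ) : ℚ) ^ j) (N + 1)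
    rw [Finset.sum_range_succ, hlast, add_zero] at h
    rw [← hQ, ← hN, h]
    simp only [Nat.cast_one, one_pow, mul_one, pow_zero]
    rw [add_sub_cancel_right]
    simp [evN]
  · rw [← ones_succ, ← finSuccEquiv_coeff_coeff, ← hQ]
    simp only [coeff_sum]
    rw [Finset.sum_eq_single 0]
    · intro j _ hj
      rw [hQ, finSuccEquiv_coeff_coeff]
      apply coeff_eq_zero_of_totalDegree_lt
      have hd := degree_cons_ones r (j + 1)
      unfold Finsupp.sum at hd
      rw [hd]
      have : 1 ≤ j := Nat.one_le_iff_ne_zero.mpr hj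
      omega
    · intro h
      simp at h

/-- evaluation at `n 0 = 1`. -/
theorem exists_eval_one_poly (r : ℕ) (R : MvPolynomial (Fin (r + 1)) ℚ)
    (hdeg : R.totalDegree ≤ r) :
    ∃ R'' : MvPolynomial (Fin r) ℚ, (∀ s, evN R'' s = evN R (Fin.cons 1 s)) ∧
      coeff (ones r) R'' = coeff (ones r) ((finSuccEquiv ℚ r R).coeff 0) := by
  set Q := finSuccEquiv ℚ r R with hQ
  refine ⟨∑ j ∈ Finset.range (Q.natDegree + 1), Q.coeff j, fun s => ?_, ?_⟩
  · rw [evN_cons, ← hQ]
    simp [evN]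
  · simp only [coeff_sum]
    rw [Finset.sum_eq_single 0]
    · intro j _ hj
      rw [hQ, finSuccEquiv_coeff_coeff]
      apply coeff_eq_zero_of_totalDegree_lt
      have hd := degree_cons_ones r j
      unfold Finsupp.sum at hd
      rw [hd]
      have : 1 ≤ j := Nat.one_le_iff_ne_zero.mpr hj
      omega
    · intro h
      simp at h

/-- the algebra behind `(L_0 ⋯ L_e · X) = (L_1 ⋯ L_e · D)`. -/
theorem coeff_eq_of_diff (e : ℕ) (P R : MvPolynomial (Fin (e + 1)) ℚ) (Q : MvPolynomial (Fin e) ℚ)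
    (hP : P.totalDegree ≤ e + 1) (hR : R.totalDegree ≤ e)
    (h1 : ∀ s : Fin e → ℕ, evN P (Fin.cons 1 s) - evN P (Fin.cons 0 s) = evN R (Fin.cons 1 s))
    (h2 : ∀ s : Fin e → ℕ, evN Q s = evN R (Fin.cons 0 s)) :
    coeff (ones (e + 1)) P = coeff (ones e) Q := by
  obtain ⟨R', hR'ev, hR'c⟩ := exists_diff_poly e P hP
  obtain ⟨R'', hR''ev, hR''c⟩ := exists_eval_one_poly e R hR
  have hRR : R' = R'' := eq_of_evN_eq _ _ fun s => by rw [hR'ev, hR''ev, h1]
  have hQ : Q = (finSuccEquiv ℚ e R).coeff 0 :=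
    eq_of_evN_eq _ _ fun s => by rw [h2, evN_cons_zero]
  rw [← hR'c, hRR, hR''c, hQ]

end Groth.Agent.Lib.Helper23.Snap
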