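import Mathlib
import Groth.Prelude
import Groth.Agent.Lib.Helper23.SnapC
import Groth.Agent.Lib.Helper23.SnapH
import Groth.Agent.Lib.Helper23.EffCart
import Groth.Agent.Lib.Helper23.HilbPG

/-!
# Helper library (helper23): intersection with an effective Cartier divisor
-/

set_option autoImplicit false
set_option linter.unusedSectionVars false
set_option linter.style.haveILetI false
universe u
open CategoryTheory CategoryTheory.Limits AlgebraicGeometry

namespace Groth.Agent.Lib.Helper23.Snap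

open Groth.Agent.Lib.Helper3 Groth.Agent.Lib.Helper3.InvMonoidal Groth.Agent.Lib.Helper3.InvGen
open Groth.Agent.Lib.Helper3.InvTensor
open Groth.Agent.Lib.Helper23.HilbP Groth.Agent.Lib.Helper23.Asymp

section Cartier

variable {X : Scheme.{u}} (I : X.IdealSheafData)

/-- a point of an effective Cartier divisor has a strict generization. -/
theorem exists_strict_generization (hI : BlowUp.IsEffCartierIdeal I) (x : X)
    (hx : x ∈ I.support) : ∃ x' : X, x' ⤳ x ∧ ¬ (x ⤳ x') := by
  by_contra hcon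
  push_neg at hcon
  have hmin : ∀ x' : X, x' ⤳ x → x' = x := fun x' h => (h.antisymm (hcon x' h)).eq
  obtain ⟨U, hxU, f, hf, hIf⟩ := hI x
  have hU : IsAffineOpen U.1 := U.2
  let p := hU.primeIdealOf ⟨x, hxU⟩
  have hp : hU.fromSpec p = x := hU.fromSpec_primeIdealOf ⟨x, hxU⟩
  have hfp : f ∈ p.asIdeal := by
    have h1 : x ∈ X.zeroLocus (U := U.1) (I.ideal U) :=
      (Scheme.IdealSheafData.mem_support_iff_of_mem hxU).mp hx
    have h2 : x ∉ X.basicOpen f :=
      (X.mem_zeroLocus_iff _ x).mp h1 f (hIf ▸ Ideal.subset_span (Set.mem_singleton f))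
    by_contra hnot
    apply h2
    have h3 : p ∈ PrimeSpectrum.basicOpen f := hnot
    rw [← hU.fromSpec_preimage_basicOpen] at h3
    rw [← hp]
    exact h3
  have hpmin : p.asIdeal ∈ minimalPrimes Γ(X, U.1) := by
    refine ⟨⟨p.isPrime, bot_le⟩, fun q hq hqp => ?_⟩
    let q' : PrimeSpectrum Γ(X, U.1) := ⟨q, hq.1⟩
    have h1 : q' ⤳ p := (PrimeSpectrum.le_iff_specializes q' p).mp hqp
    have h2 : hU.fromSpec q' ⤳ hU.fromSpec p := h1.map hU.fromSpec.continuous
    rw [hp] at h2
    have h3 := hmin _ h2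
    have h4 : q' = p := hU.fromSpec.isOpenEmbedding.injective (h3.trans hp.symm)
    exact le_of_eq (congrArg PrimeSpectrum.asIdeal h4).symm
  exact Set.disjoint_left.mp (Ideal.disjoint_nonZeroDivisors_of_mem_minimalPrimes hpmin) hfp hf

/-- an effective Cartier divisor has dimension smaller than the ambient scheme. -/
theorem dim_support_lt (hI : BlowUp.IsEffCartierIdeal I) (e : ℕ)
    (hX : topologicalKrullDim X = ((e + 1 : ℕ) : WithBot ℕ∞)) :
    topologicalKrullDim ↥(I.support : Set X) < ((e + 1 : ℕ) : WithBot ℕ∞) := by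
  rw [← not_le]
  intro hle
  obtain ⟨y, hy, hc⟩ := exists_Ch_mem_of_le_dim I.support.isClosed hle
  obtain ⟨y', h1, h2⟩ := exists_strict_generization I hI y hy
  have hc' : Ch (e + 1 + 1) y' := Ch.succ h1 h2 hc
  have := le_dim_of_Ch hc'
  rw [hX] at this
  have h3 : e + 1 + 1 ≤ e + 1 := by exact_mod_cast this
  omega

end Cartier

section Peel

variable {X : Scheme.{u}}

/-- peeling off the first factor. -/
theorem nonempty_tp_peel : ∀ (r : ℕ) (L : Fin (r + 1) → X.Modules) (n : Fin (r + 1) → ℕ)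
    (F : X.Modules), Nonempty (tp (r + 1) L n F ≅
      tp r (fun i => L i.succ) (fun i => n i.succ) (CohB1.tensorMod F (CohB1.tensorPow (L 0) (n 0))))
  | 0, _, _, _ => ⟨Iso.refl _⟩
  | r + 1, L, n, F => by
    obtain ⟨e⟩ := nonempty_tp_peel r (fun i => L i.castSucc) (fun i => n i.castSucc) F
    exact ⟨tensorMapIso e (Iso.refl _)⟩

end Peel

section Main

variable (k : Type u) [Field k] (X : Scheme.{u}) [X.Over (Spec (CommRingCat.of k))]
  [IsProper (X ↘ Spec (CommRingCat.of k))]

theorem coeff_effCartier (e : ℕ) (hX : topologicalKrullDim X = ((e + 1 : ℕ) : WithBot ℕ∞))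
    (D : X.IdealSheafData) (hD : BlowUp.IsEffCartierIdeal D)
    (L : Fin (e + 1) → X.Modules) (hL : ∀ j, PicF.IsInvertible (L j))
    (hLD : ClSub.IsInverseOf (L 0) (ClSub.idealMod D))
    (P : MvPolynomial (Fin (e + 1)) ℚ) (Q : MvPolynomial (Fin e) ℚ)
    (hP : ∀ n, chiT k X (e + 1) L (Coh.structureModule X) n = evN P n)
    (hQ : ∀ n, chiT k X e (fun j => L j.succ) (ClSub.quotMod D) n = evN Q n) :
    MvPolynomial.coeff (ones (e + 1)) P = MvPolynomial.coeff (ones e) Q := by
  haveI : IsNoetherian X := isNoetherian_of_isProper k X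
  have hO := T2.isCoh_structureModule X
  have hOD : Coh.IsCoh (ClSub.quotMod D) := EffCart.isCoh_quotMod D
  have hses := EffCart.shortExact_ideal D
  have hID : Coh.IsCoh (ClSub.idealMod D) :=
    Groth.Agent.Lib.Helper17.DevBasic.isCoh_kernel _ hO hOD.1
  -- degree of `P`
  have hPdeg : P.totalDegree ≤ e + 1 := by
    have hsupp : CohB1.support (Coh.structureModule X) = Set.univ :=
      support_invertible (isInvertible_structureModule X)
    have hdim : topologicalKrullDim (CohB1.support (Coh.structureModule X)) <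
        ((e + 1 + 1 : ℕ) : WithBot ℕ∞) := by
      rw [hsupp, (Homeomorph.Set.univ X).isHomeomorph.topologicalKrullDim_eq, hX]
      exact_mod_cast Nat.lt_succ_self (e + 1)
    obtain ⟨P₀, hP₀, hev⟩ := snapper k X (e + 1) L hL (e + 1 + 1) _ hO hdim
    have : P = P₀ := eq_of_evN_eq _ _ fun n => (hP n).symm.trans (hev n)
    exact this ▸ hP₀.totalDegree_le
  -- the polynomial of `O_D` in all the variables
  have hdimD : topologicalKrullDim (CohB1.support (ClSub.quotMod D)) <
      ((e + 1 : ℕ) : WithBot ℕ∞) := by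
    rw [Groth.Agent.Lib.Helper17.DevTest.support_A D]
    exact dim_support_lt D hD e hX
  obtain ⟨R, hR, hRev⟩ := snapper k X (e + 1) L hL (e + 1) _ hOD hdimD
  refine coeff_eq_of_diff e P R Q hPdeg hR.totalDegree_le (fun s => ?_) (fun s => ?_)
  · -- the difference
    obtain ⟨eLD⟩ := hLD
    have hadd := congrFun (chiT_add k X (e + 1) L hL _ hses hID hO hOD) (Fin.cons 1 s)
    have hshift := chiT_shift k X (e + 1) L 0 (ClSub.idealMod D) (Fin.cons 0 s)
    have hiso := congrFun (chiT_iso k X (e + 1) L eLD) (Fin.cons 0 s)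
    have hcons : (Fin.cons 0 s + Pi.single 0 1 : Fin (e + 1) → ℕ) = Fin.cons 1 s := by
      funext j
      refine Fin.cases ?_ (fun j' => ?_) j
      · simp
      · simp [Pi.single_apply]
    rw [hcons] at hshift
    rw [← hP, ← hP, ← hRev]
    simp only [Pi.add_apply] at hadd
    change chiT k X (e + 1) L (Coh.structureModule X) (Fin.cons 1 s) =
      chiT k X (e + 1) L (ClSub.idealMod D) (Fin.cons 1 s) +
        chiT k X (e + 1) L (ClSub.quotMod D) (Fin.cons 1 s) at hadd
    rw [hadd, ← hshift, hiso]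
    ring
  · -- the restriction to `n 0 = 0`
    rw [← hQ, ← hRev]
    obtain ⟨e1⟩ := nonempty_tp_peel e L (Fin.cons 0 s) (ClSub.quotMod D)
    obtain ⟨e2⟩ := nonempty_tp_iso e (fun i => L i.succ)
      (fun i => (Fin.cons 0 s : Fin (e + 1) → ℕ) i.succ)
      (SecTwist.unitorR (ClSub.quotMod D))
    obtain ⟨e3⟩ := nonempty_tp_congr e (fun i => L i.succ) s
      (fun i => (Fin.cons 0 s : Fin (e + 1) → ℕ) i.succ) (ClSub.quotMod D) (fun j => by simp)
    unfold chiT
    rw [FBC.euler_eq_of_iso' k (e1 ≪≫ e2 ≪≫ e3)]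

end Main

end Groth.Agent.Lib.Helper23.Snap
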