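import Groth.Agent.Lib.Helper23.EffCart

/-!
# `deg (E ⊗ O(D)) = n · h⁰(O_D) + deg E` on a proper scheme of dimension `≤ 1`
-/

set_option autoImplicit false
universe u
open CategoryTheory CategoryTheory.Limits AlgebraicGeometry TopologicalSpace Opposite
open Scheme.Modules

noncomputable section

namespace Groth.Agent.Lib.Helper23.EffCart

open Groth.Agent.Lib.Helper3 Groth.Agent.Lib.Helper3.QCSec Groth.Agent.Lib.Helper3.InvGen
  Groth.Agent.Lib.Helper3.IdealMod Groth.Agent.Lib.Helper3.InvMonoidal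
  Groth.Agent.Lib.Helper7.TwFun
open Groth.Agent.Lib.Helper23.T2 Groth.Agent.Lib.Helper23.Curve Groth.Agent.Lib.Helper23.Twist
  Groth.Agent.Lib.Helper23.TwE Groth.Agent.Lib.Helper23.TensorPts

variable (k : Type u) [Field k] (X : Scheme.{u}) [X.Over (Spec (CommRingCat.of k))]
  [IsProper (X ↘ Spec (CommRingCat.of k))]

lemma isCoh_tensor {F G : X.Modules} (hF : Coh.IsCoh F) (hG : Coh.IsCoh G) :
    Coh.IsCoh (CohB1.tensorMod F G) := by
  haveI : F.IsQuasicoherent := hF.1
  haveI : G.IsQuasicoherent := hG.1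
  haveI : F.IsFiniteType := hF.2
  haveI : G.IsFiniteType := hG.2
  exact ⟨Groth.Agent.Lib.Helper17.TensorSec.isQuasicoherent_tensorMod F G,
    Groth.Agent.Lib.Helper17.TensorSec.isFiniteType_tensorMod F G⟩

include k in
/-- finiteness and closedness of the points of an effective Cartier divisor in dimension `≤ 1` -/
theorem support_finite (hdim : topologicalKrullDim X ≤ 1) (D : X.IdealSheafData)
    (hD : BlowUp.IsEffCartierIdeal D) :
    (D.support : Set X).Finite ∧ ∀ z ∈ (D.support : Set X), IsClosed ({z} : Set X) := by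
  haveI := isNoetherian_of_isProper k X
  have hpt : ∀ z ∈ (D.support : Set X), IsClosed ({z} : Set X) :=
    fun z hz => isClosed_singleton_of_mem_support D hdim hD z hz
  exact ⟨Groth.Agent.Lib.Helper13.ZeroDimSupp.finite_of_isClosed_of_points_closed
    D.support.isClosed hpt, hpt⟩

theorem deg_tensor_effCartier (hdim : topologicalKrullDim X ≤ 1)
    (D : X.IdealSheafData) (hD : BlowUp.IsEffCartierIdeal D)
    (L : X.Modules) (hL : PicF.IsInvertible L) (hLD : ClSub.IsInverseOf L (ClSub.idealMod D))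
    (n : ℕ) (E : X.Modules) (hE : FlatMod.IsFinLocFreeOfRank n E) :
    Curv2.deg k X (CohB1.tensorMod E L) n =
      n * Module.finrank k (Coh.HH X (ClSub.quotMod D) 0) + Curv2.deg k X E n := by
  haveI := isNoetherian_of_isProper k X
  obtain ⟨hfin, hpt⟩ := support_finite k X hdim D hD
  obtain ⟨e⟩ := hLD
  have hG : FlatMod.IsFinLocFreeOfRank n (CohB1.tensorMod E L) := isFinLocFreeOfRank_tensor hL hE
  have hGcoh := isCoh_of_isFinLocFreeOfRank hG
  have hEcoh := isCoh_of_isFinLocFreeOfRank hE
  have hIcoh : Coh.IsCoh (ClSub.idealMod D) :=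
    isCoh_of_isInvertible ((Groth.Agent.Lib.Helper17.EffCartMod.isInvertible_idealMod_iff D).mpr hD)
  have hOcoh : Coh.IsCoh (Coh.structureModule X) := T2.isCoh_structureModule X
  have hQcoh : Coh.IsCoh (ClSub.quotMod D) := isCoh_quotMod D
  -- the tensored short exact sequence
  have hS := shortExact_twE hG _ (shortExact_ideal D)
  have hadd := euler_additive k X _ hS (isCoh_tensor X hIcoh hGcoh) (isCoh_tensor X hOcoh hGcoh)
    (isCoh_tensor X hQcoh hGcoh)
  have hadd' : Curv2.euler k X (CohB1.tensorMod (Coh.structureModule X) (CohB1.tensorMod E L)) =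
      Curv2.euler k X (CohB1.tensorMod (ClSub.idealMod D) (CohB1.tensorMod E L)) +
        Curv2.euler k X (CohB1.tensorMod (ClSub.quotMod D) (CohB1.tensorMod E L)) := hadd
  -- middle term
  have h2 : Curv2.euler k X (CohB1.tensorMod (Coh.structureModule X) (CohB1.tensorMod E L)) =
      Curv2.euler k X (CohB1.tensorMod E L) :=
    euler_eq_of_iso k (unitorL _) (isCoh_tensor X hOcoh hGcoh)
  -- left term
  let i1 : CohB1.tensorMod (ClSub.idealMod D) (CohB1.tensorMod E L) ≅ E :=
    braid _ _ ≪≫ assoc E L (ClSub.idealMod D) ≪≫ tensorMapIso (Iso.refl E) e ≪≫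
      SecTwist.unitorR E
  have h1 : Curv2.euler k X (CohB1.tensorMod (ClSub.idealMod D) (CohB1.tensorMod E L)) =
      Curv2.euler k X E := euler_eq_of_iso k i1 (isCoh_tensor X hIcoh hGcoh)
  -- right term
  have hvan : ∀ V : X.Opens, Disjoint (V : Set X) (D.support : Set X) →
      ∀ t : Γ(ClSub.quotMod D, V), t = 0 := fun V hV t => quotMod_eq_zero_of_disjoint D V hV t
  have h3 : Curv2.euler k X (CohB1.tensorMod (ClSub.quotMod D) (CohB1.tensorMod E L)) =
      n * Curv2.euler k X (ClSub.quotMod D) :=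
    euler_tensor_of_vanishing k X _ hQcoh _ D.support.isClosed hfin hpt hvan n _ hG
  have hflQ : IsFlq (ClSub.quotMod D) := isFlq_of_vanishing_off_finite _ _ hfin hpt hvan
  have h4 := euler_eq_finrank_of_isFlq k X _ hQcoh hflQ
  unfold Curv2.deg
  rw [← h2, hadd', h1, h3, h4]
  ring

end Groth.Agent.Lib.Helper23.EffCart
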