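import Groth.Agent.Lib.Helper23.PtDiv1
import Groth.Agent.Lib.Helper23.EffCartDeg
import Groth.Agent.Lib.Helper12.SchemeDimFT

/-!
# PtDiv2: the degree of the ideal of a closed point
-/
set_option autoImplicit false
set_option linter.style.haveILetI false
universe u
open CategoryTheory CategoryTheory.Limits Opposite TopologicalSpace AlgebraicGeometry
open Groth.Agent.Lib.Helper3 Groth.Agent.Lib.Helper3.QCSec Groth.Agent.Lib.Helper3.InvGen
open Groth.Agent.Lib.Helper23.T2

noncomputable section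

namespace Groth.Agent.Lib.Helper23.PtDiv

open Groth.Agent.Lib.Helper23.Curve Groth.Agent.Lib.Helper23.EffCart
  Groth.Agent.Lib.Helper12.SchemeDimFT

theorem finrank_eq_of_surjective_of_ker_eq {k R A B : Type*} [Field k] [CommRing R] [CommRing A]
    [CommRing B] [Algebra k R] [Algebra k A] [Algebra k B] (Ψ : R →ₐ[k] A) (Φ : R →ₐ[k] B)
    (hΨ : Function.Surjective Ψ) (hΦ : Function.Surjective Φ)
    (hker : RingHom.ker Ψ = RingHom.ker Φ) : Module.finrank k A = Module.finrank k B :=
  ((Ideal.quotientKerAlgEquivOfSurjective hΨ).symm.trans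
    ((Ideal.quotientEquivAlgOfEq k hker).trans
      (Ideal.quotientKerAlgEquivOfSurjective hΦ))).toLinearEquiv.finrank_eq

section Deg

variable (k : Type u) [Field k] (X : Scheme.{u}) [X.Over (Spec (CommRingCat.of k))]
  [IsProper (X ↘ Spec (CommRingCat.of k))]

/-- the degree of an ideal with finite support consisting of closed points -/
theorem deg_idealMod (D : X.IdealSheafData) (hcoh : Coh.IsCoh (ClSub.idealMod D))
    (hfin : (D.support : Set X).Finite) (hpt : ∀ z ∈ (D.support : Set X), IsClosed ({z} : Set X)) :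
    Curv2.deg k X (ClSub.idealMod D) 1 =
      - (Module.finrank k (Coh.HH X (ClSub.quotMod D) 0) : ℤ) := by
  haveI := isNoetherian_of_isProper k X
  have hOcoh : Coh.IsCoh (Coh.structureModule X) := T2.isCoh_structureModule X
  have hQcoh : Coh.IsCoh (ClSub.quotMod D) := isCoh_quotMod D
  have hadd := euler_additive k X _ (shortExact_ideal D) hcoh hOcoh hQcoh
  have hadd' : Curv2.euler k X (Coh.structureModule X) =
      Curv2.euler k X (ClSub.idealMod D) + Curv2.euler k X (ClSub.quotMod D) := hadd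
  have hvan : ∀ V : X.Opens, Disjoint (V : Set X) (D.support : Set X) →
      ∀ t : Γ(ClSub.quotMod D, V), t = 0 := fun V hV t => quotMod_eq_zero_of_disjoint D V hV t
  have hflQ : IsFlq (ClSub.quotMod D) := isFlq_of_vanishing_off_finite _ _ hfin hpt hvan
  have h4 := euler_eq_finrank_of_isFlq k X _ hQcoh hflQ
  unfold Curv2.deg
  rw [hadd', h4]
  push_cast
  ring

end Deg

section H0

variable (k : Type u) [Field k] (X : Scheme.{u}) [X.Over (Spec (CommRingCat.of k))]

attribute [local instance] Curv2.resAlgebra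

/-- `h⁰` of the structure sheaf of the reduced closed point `x` is the degree of `x` -/
theorem finrank_h0_quotMod_point (x : X) (hx : IsClosed ({x} : Set X)) :
    Module.finrank k (Coh.HH X
      (ClSub.quotMod (Scheme.IdealSheafData.vanishingIdeal ⟨{x}, hx⟩)) 0) =
      Module.finrank k (X.residueField x) := by
  set D := Scheme.IdealSheafData.vanishingIdeal ⟨{x}, hx⟩ with hD
  obtain ⟨_, ⟨U, hU, rfl⟩, hxU, -⟩ :=
    X.isBasis_affineOpens.exists_subset_of_mem_open (Set.mem_univ x) isOpen_univ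
  let U' : X.affineOpens := ⟨U, hU⟩
  have hle : D.subschemeι ⁻¹ᵁ ⊤ ≤ D.subschemeι ⁻¹ᵁ U := by
    intro z _
    have h1 : D.subschemeι z ∈ (D.support : Set X) := by
      rw [← D.range_subschemeι]
      exact ⟨z, rfl⟩
    have hsupp : (D.support : Set X) = {x} :=
      Scheme.IdealSheafData.coe_support_vanishingIdeal _
    rw [hsupp] at h1
    have h2 : D.subschemeι z = x := h1
    change D.subschemeι z ∈ U
    rw [h2]
    exact hxU
  letI := secAlgebra k X U
  letI algA : Algebra k Γ(D.subscheme, D.subschemeι ⁻¹ᵁ ⊤) :=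
    ((D.subschemeι.app ⊤).hom.comp (Coh.toGlobal (X ↘ Spec (CommRingCat.of k)))).toAlgebra
  -- the cohomology group is the ring of functions on the subscheme
  let F : Coh.HH X (ClSub.quotMod D) 0 ≃ₗ[k] Γ(D.subscheme, D.subschemeι ⁻¹ᵁ ⊤) :=
    { toFun := fun h => toFun (D.subschemeι ⁻¹ᵁ ⊤) (H0equiv (ClSub.quotMod D) h)
      invFun := fun a => (H0equiv (ClSub.quotMod D)).symm (ofFun (D.subschemeι ⁻¹ᵁ ⊤) a)
      map_add' := fun a b => by
        rw [map_add]
        rfl
      map_smul' := fun c h => by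
        have h1 : c • h = (Coh.toGlobal (X ↘ Spec (CommRingCat.of k)) c) • h := rfl
        rw [h1, (H0equiv (ClSub.quotMod D)).map_smul]
        rfl
      left_inv := fun h => by
        change (H0equiv (ClSub.quotMod D)).symm (H0equiv (ClSub.quotMod D) h) = h
        exact (H0equiv (ClSub.quotMod D)).symm_apply_apply h
      right_inv := fun a => by
        change toFun _ (H0equiv (ClSub.quotMod D)
          ((H0equiv (ClSub.quotMod D)).symm (ofFun _ a))) = a
        rw [(H0equiv (ClSub.quotMod D)).apply_symm_apply]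
        rfl }
  rw [F.finrank_eq]
  -- restriction along `ι⁻¹ ⊤ ≤ ι⁻¹ U` is bijective
  let ρ : Γ(D.subscheme, D.subschemeι ⁻¹ᵁ U) →+* Γ(D.subscheme, D.subschemeι ⁻¹ᵁ ⊤) :=
    (D.subscheme.presheaf.map (homOfLE hle).op).hom
  have hρ : Function.Bijective ρ := by
    haveI : IsIso (homOfLE hle) := ⟨homOfLE le_top, Subsingleton.elim _ _, Subsingleton.elim _ _⟩
    exact ConcreteCategory.bijective_of_isIso (D.subscheme.presheaf.map (homOfLE hle).op)
  let Ψ₀ : Γ(X, U) →+* Γ(D.subscheme, D.subschemeι ⁻¹ᵁ ⊤) :=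
    ρ.comp (D.subschemeι.app U).hom
  have hΨ₀k : ∀ c : k, Ψ₀ (algebraMap k Γ(X, U) c) =
      algebraMap k Γ(D.subscheme, D.subschemeι ⁻¹ᵁ ⊤) c := by
    intro c
    change ρ ((D.subschemeι.app U).hom ((X.presheaf.map (homOfLE (le_top : U ≤ ⊤)).op).hom
      (Coh.toGlobal (X ↘ Spec (CommRingCat.of k)) c))) =
      (D.subschemeι.app ⊤).hom (Coh.toGlobal (X ↘ Spec (CommRingCat.of k)) c)
    have hnat := D.subschemeι.naturality (homOfLE (le_top : U ≤ ⊤)).op
    have h2 := congrArg (fun φ => φ.hom (Coh.toGlobal (X ↘ Spec (CommRingCat.of k)) c)) hnat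
    simp only [CommRingCat.hom_comp, RingHom.comp_apply] at h2
    change ρ ((D.subschemeι.app U).hom ((X.presheaf.map (homOfLE (le_top : U ≤ ⊤)).op).hom
      (Coh.toGlobal (X ↘ Spec (CommRingCat.of k)) c))) = _
    rw [h2]
    change (D.subscheme.presheaf.map (homOfLE hle).op).hom
      ((D.subscheme.presheaf.map _).hom ((D.subschemeι.app ⊤).hom _)) = _
    rw [← RingHom.comp_apply, ← CommRingCat.hom_comp, ← Functor.map_comp]
    have h3 : ∀ f : op (D.subschemeι ⁻¹ᵁ ⊤) ⟶ op (D.subschemeι ⁻¹ᵁ ⊤),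
        D.subscheme.presheaf.map f = 𝟙 _ := fun f => by
      rw [Subsingleton.elim f (𝟙 _), CategoryTheory.Functor.map_id]
    rw [h3]
    rfl
  let Ψ : Γ(X, U) →ₐ[k] Γ(D.subscheme, D.subschemeι ⁻¹ᵁ ⊤) := { Ψ₀ with commutes' := hΨ₀k }
  have hΨsurj : Function.Surjective Ψ :=
    hρ.2.comp (D.subschemeι_app_surjective U')
  have hΨker : RingHom.ker Ψ = (hU.primeIdealOf ⟨x, hxU⟩).asIdeal := by
    rw [← vanishingIdeal_ideal_of_mem x hx U' hxU, ← D.ker_subschemeι_app U']
    ext r
    change ρ ((D.subschemeι.app U).hom r) = 0 ↔ (D.subschemeι.app U).hom r = 0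
    rw [← map_zero ρ]
    exact hρ.1.eq_iff
  -- the residue field
  haveI hmax : (hU.primeIdealOf ⟨x, hxU⟩).asIdeal.IsMaximal :=
    hU.primeIdealOf_isMaximal_of_isClosed ⟨x, hxU⟩ hx
  obtain ⟨e⟩ := nonempty_algEquiv_residueField k X U hU x hxU
  rw [← e.toLinearEquiv.finrank_eq]
  let Φ : Γ(X, U) →ₐ[k] (hU.primeIdealOf ⟨x, hxU⟩).asIdeal.ResidueField :=
    IsScalarTower.toAlgHom k Γ(X, U) _
  have hΦsurj : Function.Surjective Φ :=
    Ideal.algebraMap_residueField_surjective _
  have hΦker : RingHom.ker Φ = (hU.primeIdealOf ⟨x, hxU⟩).asIdeal :=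
    Ideal.ker_algebraMap_residueField _
  exact finrank_eq_of_surjective_of_ker_eq Ψ Φ hΨsurj hΦsurj (hΨker.trans hΦker.symm)

end H0

end Groth.Agent.Lib.Helper23.PtDiv
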