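import Groth.Agent.Lib.Helper23.HN
import Groth.Agent.Lib.Helper3.QCPush

/-!
# Saturation of subsheaves of locally free sheaves on a smooth curve

* `exists_isBasis_generic`: a coherent module on an integral locally Noetherian scheme has a
  local basis on some nonempty open.
* `isFinLocFreeOfRank_of_torsionFree`: a coherent module with torsion-free sections on affine
  opens, on an integral locally Noetherian scheme with PID stalks, is finite locally free.
* `exists_torsionFree_quotient`: a coherent module on a smooth proper curve has a finite locally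
  free quotient which is an isomorphism over a dense open.
* `exists_saturation`: saturation of a finite locally free subsheaf of a finite locally free sheaf.
-/
set_option autoImplicit false
set_option linter.style.haveILetI false
universe u
open CategoryTheory CategoryTheory.Limits AlgebraicGeometry TopologicalSpace Opposite Module
open Groth.Agent.Lib.Helper3 Groth.Agent.Lib.Helper3.QCSec Groth.Agent.Lib.Helper3.InvGen
open Groth.Agent.Lib.Helper3.FreeBasis Groth.Agent.Lib.Helper3.SecLoc
open Groth.Agent.Lib.Helper23.Curve Groth.Agent.Lib.Helper23.LocFreeSub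

noncomputable section

namespace Groth.Agent.Lib.Helper23.Sat

section Alg

lemma exists_free_away_generic {A M : Type u} [CommRing A] [IsDomain A] [IsNoetherianRing A]
    [AddCommGroup M] [Module A M] [Module.Finite A M] :
    ∃ f : A, f ≠ 0 ∧ Module.Free (Localization.Away f) (LocalizedModule.Away f M) := by
  haveI : Module.FinitePresentation A M := Module.finitePresentation_of_finite A M
  haveI : Module.Free (FractionRing A) (LocalizedModule (nonZeroDivisors A) M) :=
    Module.Free.of_divisionRing _ _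
  obtain ⟨r, hr, hfree, _⟩ := Module.FinitePresentation.exists_free_localizedModule_powers
    (nonZeroDivisors A) (LocalizedModule.mkLinearMap (nonZeroDivisors A) M) (FractionRing A)
  exact ⟨r, nonZeroDivisors.ne_zero hr, hfree⟩

end Alg

section Cat

variable {𝒞 : Type*} [Category 𝒞] [Abelian 𝒞]

/-- If `0 → G' → E → C' → 0` is short exact and `f : A ⟶ E` factors through `G'` by an
epimorphism, then `C'` is a cokernel of `f`. -/
lemma exists_cokernel_iso_of_epi_fac {A G' E C' : 𝒞} (f : A ⟶ E) (i' : G' ⟶ E) (p : E ⟶ C')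
    (w : i' ≫ p = 0) (hS : (ShortComplex.mk i' p w).ShortExact) (q : A ⟶ G') [Epi q]
    (hq : q ≫ i' = f) : ∃ e : cokernel f ≅ C', cokernel.π f ≫ e.hom = p := by
  haveI : Epi p := hS.epi_g
  have hS' : (ShortComplex.mk i' p w).Exact := hS.exact
  have hfp : f ≫ p = 0 := by rw [← hq, Category.assoc, w, comp_zero]
  have hi'π : i' ≫ cokernel.π f = 0 := by
    have : q ≫ i' ≫ cokernel.π f = q ≫ 0 := by
      rw [← Category.assoc, hq, cokernel.condition, comp_zero]
    exact (cancel_epi q).1 this
  have h1 : p ≫ hS'.desc (cokernel.π f) hi'π = cokernel.π f :=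
    ShortComplex.Exact.g_desc hS' (cokernel.π f) hi'π
  refine ⟨⟨cokernel.desc f p hfp, hS'.desc (cokernel.π f) hi'π, ?_, ?_⟩, cokernel.π_desc f p hfp⟩
  · rw [← cancel_epi (cokernel.π f), ← Category.assoc, cokernel.π_desc, h1, Category.comp_id]
  · rw [← cancel_epi p, ← Category.assoc, h1, cokernel.π_desc, Category.comp_id]

end Cat

variable {X : Scheme.{u}}

attribute [local instance] modBasicOpen

/-- A coherent module on an integral locally Noetherian scheme has a local basis on a nonempty
open subset. -/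
theorem exists_isBasis_generic [IsIntegral X] [IsLocallyNoetherian X] {G : X.Modules}
    (hG : Coh.IsCoh G) :
    ∃ (V : X.Opens) (s : ℕ) (e : Fin s → Γ(G, V)), (V : Set X).Nonempty ∧ IsBasis G V e := by
  haveI : G.IsQuasicoherent := hG.1
  haveI : G.IsFiniteType := hG.2
  obtain ⟨x⟩ := (inferInstance : Nonempty X)
  obtain ⟨U, hU, hxU⟩ := QCProps.exists_affine_nbhd x
  haveI : Nonempty U := ⟨⟨x, hxU⟩⟩
  haveI : IsDomain Γ(X, U) := IsIntegral.component_integral (X := X) U
  haveI : IsNoetherianRing Γ(X, U) := IsLocallyNoetherian.component_noetherian ⟨U, hU⟩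
  haveI : Module.Finite Γ(X, U) Γ(G, U) := QCProps.finite_sections G hU
  obtain ⟨f, hf0, hfree⟩ := exists_free_away_generic (A := Γ(X, U)) (M := Γ(G, U))
  have hV : IsAffineOpen (X.basicOpen f) := hU.basicOpen f
  have hVne : (X.basicOpen f : Set X).Nonempty := by
    by_contra hcon
    rw [Set.not_nonempty_iff_eq_empty] at hcon
    have : X.basicOpen f = ⊥ := by
      ext1; simpa using hcon
    exact hf0 ((AlgebraicGeometry.basicOpen_eq_bot_iff f).mp this)
  obtain ⟨y, hy⟩ := hVne
  haveI : IsLocalization.Away f Γ(X, X.basicOpen f) := hU.isLocalization_basicOpen f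
  haveI := isLocalizedModule_resLin G hU f
  haveI : Module.Free Γ(X, X.basicOpen f) Γ(G, X.basicOpen f) :=
    free_of_away f (resLin G f) hfree
  haveI : Module.Finite Γ(X, X.basicOpen f) Γ(G, X.basicOpen f) := QCProps.finite_sections G hV
  haveI : Nonempty (X.basicOpen f) := ⟨⟨y, hy⟩⟩
  haveI : Nontrivial Γ(X, X.basicOpen f) := Scheme.component_nontrivial X (X.basicOpen f)
  let b := Module.finBasis Γ(X, X.basicOpen f) Γ(G, X.basicOpen f)
  exact ⟨X.basicOpen f, _, fun i => b i, ⟨y, hy⟩,
    isBasis_of_isBasisAt G hV (isBasisAt_of_basis G (X.basicOpen f) b)⟩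

/-- Near a point whose local ring is a PID, a coherent module with torsion-free sections on
affine opens has a local basis. -/
theorem exists_isBasis_of_torsionFree [IsIntegral X] [IsLocallyNoetherian X] {G : X.Modules}
    (hG : Coh.IsCoh G)
    (htf : ∀ U : X.Opens, IsAffineOpen U → (U : Set X).Nonempty →
      Module.IsTorsionFree Γ(X, U) Γ(G, U))
    (x : X) (hx : IsPrincipalIdealRing (X.presheaf.stalk x)) :
    ∃ (V : X.Opens) (s : ℕ) (e : Fin s → Γ(G, V)), x ∈ V ∧ IsBasis G V e := by
  haveI : G.IsQuasicoherent := hG.1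
  haveI : G.IsFiniteType := hG.2
  obtain ⟨U, hU, hxU⟩ := QCProps.exists_affine_nbhd x
  haveI : Nonempty U := ⟨⟨x, hxU⟩⟩
  haveI : IsDomain Γ(X, U) := IsIntegral.component_integral (X := X) U
  haveI : IsNoetherianRing Γ(X, U) := IsLocallyNoetherian.component_noetherian ⟨U, hU⟩
  haveI : Module.Finite Γ(X, U) Γ(G, U) := QCProps.finite_sections G hU
  haveI : Module.IsTorsionFree Γ(X, U) Γ(G, U) := htf U hU ⟨x, hxU⟩
  set p := hU.primeIdealOf ⟨x, hxU⟩ with hp
  letI : Algebra Γ(X, U) (X.presheaf.stalk x) :=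
    TopCat.Presheaf.algebra_section_stalk X.presheaf ⟨x, hxU⟩
  haveI hloc : IsLocalization.AtPrime (X.presheaf.stalk x) p.asIdeal :=
    hU.isLocalization_stalk ⟨x, hxU⟩
  haveI : IsPrincipalIdealRing (Localization.AtPrime p.asIdeal) := by
    let eq := IsLocalization.algEquiv p.asIdeal.primeCompl (X.presheaf.stalk x)
      (Localization.AtPrime p.asIdeal)
    exact IsPrincipalIdealRing.of_surjective eq.toRingEquiv.toRingHom eq.surjective
  obtain ⟨f, hfp, hfree⟩ := exists_free_away (M := Γ(G, U)) p.asIdeal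
  have hxV : x ∈ X.basicOpen f := by
    have h1 : p ∈ (PrimeSpectrum.basicOpen f : Set (PrimeSpectrum Γ(X, U))) := hfp
    have h2 : p ∈ hU.fromSpec ⁻¹ᵁ X.basicOpen f := by
      rw [hU.fromSpec_preimage_basicOpen]; exact h1
    have h3 : hU.fromSpec p = x := hU.fromSpec_primeIdealOf ⟨x, hxU⟩
    rw [← h3]; exact h2
  have hV : IsAffineOpen (X.basicOpen f) := hU.basicOpen f
  haveI : IsLocalization.Away f Γ(X, X.basicOpen f) := hU.isLocalization_basicOpen f
  haveI := isLocalizedModule_resLin G hU f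
  haveI : Module.Free Γ(X, X.basicOpen f) Γ(G, X.basicOpen f) :=
    free_of_away f (resLin G f) hfree
  haveI : Module.Finite Γ(X, X.basicOpen f) Γ(G, X.basicOpen f) := QCProps.finite_sections G hV
  haveI : Nonempty (X.basicOpen f) := ⟨⟨x, hxV⟩⟩
  haveI : Nontrivial Γ(X, X.basicOpen f) := Scheme.component_nontrivial X (X.basicOpen f)
  let b := Module.finBasis Γ(X, X.basicOpen f) Γ(G, X.basicOpen f)
  exact ⟨X.basicOpen f, _, fun i => b i, hxV,
    isBasis_of_isBasisAt G hV (isBasisAt_of_basis G (X.basicOpen f) b)⟩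

/-- A coherent module with torsion-free sections on affine opens, on an integral locally
Noetherian scheme all of whose local rings are PIDs, is finite locally free of constant rank. -/
theorem isFinLocFreeOfRank_of_torsionFree [IsIntegral X] [IsLocallyNoetherian X]
    (hpid : ∀ x : X, IsPrincipalIdealRing (X.presheaf.stalk x)) {G : X.Modules}
    (hG : Coh.IsCoh G)
    (htf : ∀ U : X.Opens, IsAffineOpen U → (U : Set X).Nonempty →
      Module.IsTorsionFree Γ(X, U) Γ(G, U)) :
    ∃ s : ℕ, FlatMod.IsFinLocFreeOfRank s G := by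
  haveI : Nonempty X := inferInstance
  obtain ⟨x₀⟩ := (inferInstance : Nonempty X)
  obtain ⟨V₀, s₀, e₀, hx₀, hb₀⟩ := exists_isBasis_of_torsionFree hG htf x₀ (hpid x₀)
  refine ⟨s₀, isFinLocFreeOfRank_iff.mpr fun x => ?_⟩
  obtain ⟨V, s, e, hx, hb⟩ := exists_isBasis_of_torsionFree hG htf x (hpid x)
  have hs : s = s₀ := rank_unique G hb hb₀ ⟨x, hx⟩ ⟨x₀, hx₀⟩
  subst hs
  exact ⟨V, e, hx, hb⟩

/-- Sections over opens of a module with a basis on an integral scheme are torsion-free. -/
lemma eq_zero_of_smul_eq_zero_of_isBasis [IsIntegral X] {C : X.Modules} {U : X.Opens} {n : ℕ}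
    {e : Fin n → Γ(C, U)} (hb : IsBasis C U e) {W : X.Opens} (hW : W ≤ U) (a : Γ(X, W))
    (ha : a ≠ 0) (s : Γ(C, W)) (h : a • s = 0) : s = 0 := by
  by_cases hne : (W : Set X).Nonempty
  · obtain ⟨y, hy⟩ := hne
    haveI : Nonempty W := ⟨⟨y, hy⟩⟩
    haveI : IsDomain Γ(X, W) := IsIntegral.component_integral (X := X) W
    obtain ⟨eq⟩ := free_of_isBasisAt (hb.mono hW).self
    have h1 : a • eq.symm s = 0 := by rw [← map_smul, h, map_zero]
    have h2 : eq.symm s = 0 := by
      funext i
      have := congrFun h1 i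
      simp only [Pi.smul_apply, smul_eq_mul, Pi.zero_apply] at this
      rcases mul_eq_zero.mp this with h3 | h3
      · exact absurd h3 ha
      · exact h3
    have := congrArg eq h2
    simpa using this
  · refine ModBasis.eq_zero_of_locally_zero C W s (fun x hx => ?_)
    exact absurd ⟨x, hx⟩ hne

section TFQ

variable (k : Type u) [Field k] [X.Over (Spec (CommRingCat.of k))]
  [IsProper (X ↘ Spec (CommRingCat.of k))]

include k in
/-- A coherent module `C` on a smooth proper integral curve has a finite locally free quotient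
`π : C ⟶ C'` which is injective on sections over the opens contained in a dense open `U`. -/
theorem exists_torsionFree_quotient [IsIntegral X] [Smooth (X ↘ Spec (CommRingCat.of k))]
    (hdim : topologicalKrullDim X ≤ 1) {C : X.Modules} (hC : Coh.IsCoh C) :
    ∃ (C' : X.Modules) (π : C ⟶ C') (c : ℕ) (U : X.Opens), Epi π ∧
      FlatMod.IsFinLocFreeOfRank c C' ∧ (U : Set X).Nonempty ∧
      ∀ (V : X.Opens), V ≤ U → ∀ s : Γ(C, V), π.app V s = 0 → s = 0 := by
  haveI := isNoetherian_of_isProper k X
  haveI : C.IsQuasicoherent := hC.1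
  haveI : C.IsFiniteType := hC.2
  obtain ⟨U, n, e, hUne, hb⟩ := exists_isBasis_generic hC
  -- the unit `C ⟶ j_* j^* C`
  let η := (Scheme.Modules.restrictAdjunction U.ι).unit.app C
  haveI : ((Scheme.Modules.restrictFunctor U.ι).obj C).IsQuasicoherent :=
    Scheme.Modules.isQuasicoherent_restrictFunctor U.ι C
  haveI hP : ((Scheme.Modules.pushforward U.ι).obj
      ((Scheme.Modules.restrictFunctor U.ι).obj C)).IsQuasicoherent :=
    QCSec.isQuasicoherent_pushforward U.ι _
  haveI h1 : ((𝟭 X.Modules).obj C).IsQuasicoherent := hC.1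
  haveI h1' : ((𝟭 X.Modules).obj C).IsFiniteType := hC.2
  haveI h2 : ((Scheme.Modules.restrictFunctor U.ι ⋙ Scheme.Modules.pushforward U.ι).obj
      C).IsQuasicoherent := hP
  haveI hKq : (kernel η).IsQuasicoherent := QCProps.isQuasicoherent_kernel η
  haveI hKf : (kernel η).IsFiniteType := QCProps.isFiniteType_of_mono (kernel.ι η)
  have hcK : Coh.IsCoh (kernel η) := ⟨hKq, hKf⟩
  have hcC' : Coh.IsCoh (Abelian.coimage η) :=
    (Groth.Agent.S9514.result X hcK (⟨h1, h1'⟩ : Coh.IsCoh ((𝟭 X.Modules).obj C))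
      (kernel.ι η)).2
  let π : C ⟶ Abelian.coimage η := Abelian.coimage.π η
  let m : Abelian.coimage η ⟶ (Scheme.Modules.pushforward U.ι).obj
      ((Scheme.Modules.restrictFunctor U.ι).obj C) := Abelian.factorThruCoimage η
  let η' : C ⟶ (Scheme.Modules.pushforward U.ι).obj
      ((Scheme.Modules.restrictFunctor U.ι).obj C) := η
  haveI : Mono m := (inferInstance : Mono (Abelian.factorThruCoimage η))
  haveI : Epi π := (inferInstance : Epi (Abelian.coimage.π η))
  have hfac : π ≫ m = η' := Abelian.coimage.fac η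
  have hfac' : ∀ (V : X.Opens) (s : Γ(C, V)), m.app V (π.app V s) = η'.app V s := by
    intro V s
    have h5 : (π ≫ m).app V s = η'.app V s :=
      congrArg (fun φ => Scheme.Modules.Hom.app φ V s) hfac
    exact h5
  have hη : ∀ (V : X.Opens) (s : Γ(C, V)), η'.app V s = res C (U.ι.image_preimage_le V) s :=
    fun V s => rfl
  -- injectivity on sections inside `U`
  have hinj : ∀ (V : X.Opens), V ≤ U → ∀ s : Γ(C, V), π.app V s = 0 → s = 0 := by
    intro V hVU s hs
    have h3 : η'.app V s = 0 := by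
      rw [← hfac', hs, QCExact.app_zero]
    have hle : U.ι ''ᵁ (U.ι ⁻¹ᵁ V) ≤ V := U.ι.image_preimage_le V
    have hge : V ≤ U.ι ''ᵁ (U.ι ⁻¹ᵁ V) := by
      intro x hx
      exact ⟨⟨x, hVU hx⟩, hx, rfl⟩
    have h4 : res C hle s = 0 := by rw [← hη, h3]; rfl
    have : s = res C hge (res C hle s) := by rw [res_res, res_self]
    rw [this, h4, res_zero]
  -- torsion-freeness of the sections of the coimage
  have htf : ∀ V : X.Opens, IsAffineOpen V → (V : Set X).Nonempty →
      Module.IsTorsionFree Γ(X, V) Γ(Abelian.coimage η, V) := by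
    intro V hV hVne
    obtain ⟨y, hy⟩ := hVne
    haveI : Nonempty V := ⟨⟨y, hy⟩⟩
    haveI : IsDomain Γ(X, V) := IsIntegral.component_integral (X := X) V
    refine Module.IsTorsionFree.of_smul_eq_zero (fun a s has => ?_)
    by_cases ha : a = 0
    · exact Or.inl ha
    right
    refine ModBasis.eq_zero_of_locally_zero _ V s (fun x hx => ?_)
    obtain ⟨W, hWV, hxW, t, ht⟩ := QCExact.exists_local_lift π V s x hx
    refine ⟨W, hWV, hxW, ?_⟩
    have h72 : π.app W t = res (Abelian.coimage η) hWV s := ht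
    have h7 : π.app W (rres X hWV a • t) = 0 := by
      have h71 : π.app W (rres X hWV a • t) = rres X hWV a • π.app W t :=
        map_smul (appLin π W) _ _
      rw [h71, h72, ← res_smul, has, res_zero]
    have hWU : W ⊓ U ≤ U := inf_le_right
    have hWW : W ⊓ U ≤ W := inf_le_left
    have h8 : res C hWW (rres X hWV a • t) = 0 := by
      apply hinj (W ⊓ U) hWU
      rw [QCExact.app_res', h7, res_zero]
    rw [res_smul] at h8
    have h9 : res C hWW t = 0 := by
      by_cases hne : ((W ⊓ U : X.Opens) : Set X).Nonempty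
      · refine eq_zero_of_smul_eq_zero_of_isBasis hb hWU _ ?_ _ h8
        rw [rres_rres]
        intro h0
        obtain ⟨z, hz⟩ := hne
        haveI : Nonempty (W ⊓ U : X.Opens) := ⟨⟨z, hz⟩⟩
        have hinjr := AlgebraicGeometry.map_injective_of_isIntegral X
          (homOfLE (hWW.trans hWV) : (W ⊓ U : X.Opens) ⟶ V)
        apply ha
        apply hinjr
        rw [map_zero]
        exact h0
      · refine ModBasis.eq_zero_of_locally_zero C _ _ (fun x hx => ?_)
        exact absurd ⟨x, hx⟩ hne
    have h10 : η'.app W t = 0 := by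
      have hle' : U.ι ''ᵁ (U.ι ⁻¹ᵁ W) ≤ W ⊓ U := by
        rintro _ ⟨z, hz, rfl⟩
        exact ⟨hz, z.2⟩
      rw [hη, ← res_res C hle' hWW, h9, res_zero]; rfl
    have h11 : π.app W t = 0 := by
      apply QCExact.injective_sections m W
      rw [QCExact.app_zero, hfac', h10]
    rw [← h72, h11]
  obtain ⟨c, hc⟩ := isFinLocFreeOfRank_of_torsionFree
    (fun x => Groth.Agent.Lib.Helper23.SmoothCurve.isPrincipalIdealRing_stalk_of_smooth k hdim x)
    hcC' htf
  exact ⟨Abelian.coimage η, π, c, U, inferInstance, hc, hUne, hinj⟩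

include k in
/-- **Saturation.** A finite locally free subsheaf `G ⊂ E` of rank `r'` of a finite locally free
sheaf of rank `r` on a smooth proper integral curve is contained in a finite locally free
subsheaf `G' ⊂ E` of the same rank with finite locally free quotient `C' = E/G'`; moreover
`deg G ≤ deg G'`, with equality only if `G = G'`. -/
theorem exists_saturation [IsIntegral X] [Smooth (X ↘ Spec (CommRingCat.of k))]
    (hdim : topologicalKrullDim X ≤ 1) {G E : X.Modules} {r' r : ℕ}
    (hG : FlatMod.IsFinLocFreeOfRank r' G) (hE : FlatMod.IsFinLocFreeOfRank r E)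
    (i : G ⟶ E) [Mono i] :
    ∃ (G' C' : X.Modules) (i' : G' ⟶ E) (p : E ⟶ C') (w : i' ≫ p = 0) (u : G ⟶ G') (c : ℕ),
      (ShortComplex.mk i' p w).ShortExact ∧ u ≫ i' = i ∧ FlatMod.IsFinLocFreeOfRank r' G' ∧
      FlatMod.IsFinLocFreeOfRank c C' ∧ r = r' + c ∧
      Curv2.deg k X G r' ≤ Curv2.deg k X G' r' ∧
      Curv2.deg k X E r = Curv2.deg k X G' r' + Curv2.deg k X C' c ∧
      (Curv2.deg k X G r' = Curv2.deg k X G' r' → IsIso u) := by
  haveI := isNoetherian_of_isProper k X
  haveI : Nonempty X := inferInstance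
  have hcG := isCoh_of_isFinLocFreeOfRank hG
  have hcE := isCoh_of_isFinLocFreeOfRank hE
  have hcC : Coh.IsCoh (cokernel i) := (Groth.Agent.S9514.result X hcG hcE i).2
  obtain ⟨C', π, c, U, hπ, hC', hUne, hinj⟩ := exists_torsionFree_quotient k hdim hcC
  haveI := hπ
  have hcC' := isCoh_of_isFinLocFreeOfRank hC'
  let p : E ⟶ C' := cokernel.π i ≫ π
  haveI : Epi p := epi_comp _ _
  have hip : i ≫ p = 0 := by
    show i ≫ cokernel.π i ≫ π = 0
    rw [← Category.assoc, cokernel.condition, zero_comp]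
  let u : G ⟶ kernel p := kernel.lift p i hip
  have hu : u ≫ kernel.ι p = i := kernel.lift_ι p i hip
  haveI : Mono u := mono_of_mono_fac hu
  let S : ShortComplex X.Modules := ShortComplex.mk (kernel.ι p) p (kernel.condition p)
  have hSex : S.Exact := ShortComplex.exact_of_f_is_kernel S (kernelIsKernel p)
  haveI : Mono S.f := (inferInstance : Mono (kernel.ι p))
  haveI : Epi S.g := (inferInstance : Epi p)
  have hS : S.ShortExact := ShortComplex.ShortExact.mk hSex
  have hcG' : Coh.IsCoh (kernel p) := (Groth.Agent.S9514.result X hcE hcC' p).1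
  obtain ⟨g', hG'⟩ := Groth.Agent.Lib.Helper23.SmoothCurve.isFinLocFreeOfRank_of_mono_of_smooth k
    hdim hcG' (kernel.ι p) hE
  have hrk : r = g' + c := rank_additive S hS hG' hE hC'
  have hdeg : Curv2.deg k X E r = Curv2.deg k X (kernel p) g' + Curv2.deg k X C' c :=
    deg_additive k X S hS g' r c hG' hE hC'
  -- the ranks agree
  have hrr : r' = g' := by
    obtain ⟨x, hxU⟩ := hUne
    obtain ⟨V₁, e₁, hx₁, hb₁⟩ := isFinLocFreeOfRank_iff.mp hG x
    obtain ⟨V₂, e₂, hx₂, hb₂⟩ := isFinLocFreeOfRank_iff.mp hG' x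
    have hV₁ : V₁ ⊓ V₂ ⊓ U ≤ V₁ := inf_le_left.trans inf_le_left
    have hV₂ : V₁ ⊓ V₂ ⊓ U ≤ V₂ := inf_le_left.trans inf_le_right
    have hVU : V₁ ⊓ V₂ ⊓ U ≤ U := inf_le_right
    have hxV : x ∈ V₁ ⊓ V₂ ⊓ U := ⟨⟨hx₁, hx₂⟩, hxU⟩
    haveI : Nonempty (V₁ ⊓ V₂ ⊓ U : X.Opens) := ⟨⟨x, hxV⟩⟩
    haveI : Nontrivial Γ(X, V₁ ⊓ V₂ ⊓ U) := Scheme.component_nontrivial X (V₁ ⊓ V₂ ⊓ U)
    obtain ⟨q₁⟩ := free_of_isBasisAt (hb₁.mono hV₁).self
    obtain ⟨q₂⟩ := free_of_isBasisAt (hb₂.mono hV₂).self
    have hbij : Function.Bijective (appLin u (V₁ ⊓ V₂ ⊓ U)) := by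
      constructor
      · exact QCExact.injective_sections u _
      · intro s
        have h1 : p.app _ ((kernel.ι p).app (V₁ ⊓ V₂ ⊓ U) s) = 0 :=
          QCExact.app_f_g_apply S _ s
        have h2 : (cokernel.π i).app _ ((kernel.ι p).app (V₁ ⊓ V₂ ⊓ U) s) = 0 :=
          hinj _ hVU _ h1
        obtain ⟨g, hg⟩ := QCExact.exact_sections
          (ShortComplex.mk i (cokernel.π i) (cokernel.condition i))
          (ShortComplex.exact_cokernel i) _ _ h2
        refine ⟨g, ?_⟩
        apply QCExact.injective_sections (kernel.ι p)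
        have h3 : (kernel.ι p).app _ (u.app (V₁ ⊓ V₂ ⊓ U) g) = i.app _ g :=
          congrArg (fun φ => Scheme.Modules.Hom.app φ (V₁ ⊓ V₂ ⊓ U) g) hu
        exact h3.trans hg
    have h := (q₁.trans ((LinearEquiv.ofBijective _ hbij).trans q₂.symm)).finrank_eq
    rwa [Module.finrank_fin_fun, Module.finrank_fin_fun] at h
  subst hrr
  have hd := Groth.Agent.Lib.Helper23.VBMaps.deg_le_of_mono_same_rank k hdim hG hG' u
  exact ⟨kernel p, C', kernel.ι p, p, kernel.condition p, u, c, hS, hu, hG', hC', hrk, hd.1, hdeg,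
    hd.2⟩

include k in
/-- The kernel of an epimorphism of finite locally free sheaves on a smooth proper curve. -/
theorem kernel_epi_data [IsIntegral X] [Smooth (X ↘ Spec (CommRingCat.of k))]
    (hdim : topologicalKrullDim X ≤ 1) {E F : X.Modules} {r s : ℕ}
    (hE : FlatMod.IsFinLocFreeOfRank r E) (hF : FlatMod.IsFinLocFreeOfRank s F)
    (p : E ⟶ F) [Epi p] :
    ∃ a : ℕ, FlatMod.IsFinLocFreeOfRank a (kernel p) ∧ r = a + s ∧
      Curv2.deg k X E r = Curv2.deg k X (kernel p) a + Curv2.deg k X F s := by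
  haveI := isNoetherian_of_isProper k X
  haveI : Nonempty X := inferInstance
  have hcE := isCoh_of_isFinLocFreeOfRank hE
  have hcF := isCoh_of_isFinLocFreeOfRank hF
  let S : ShortComplex X.Modules := ShortComplex.mk (kernel.ι p) p (kernel.condition p)
  have hSex : S.Exact := ShortComplex.exact_of_f_is_kernel S (kernelIsKernel p)
  haveI : Mono S.f := (inferInstance : Mono (kernel.ι p))
  haveI : Epi S.g := (inferInstance : Epi p)
  have hS : S.ShortExact := ShortComplex.ShortExact.mk hSex
  have hcK : Coh.IsCoh (kernel p) := (Groth.Agent.S9514.result X hcE hcF p).1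
  obtain ⟨a, hK⟩ := Groth.Agent.Lib.Helper23.SmoothCurve.isFinLocFreeOfRank_of_mono_of_smooth k
    hdim hcK (kernel.ι p) hE
  exact ⟨a, hK, rank_additive S hS hK hE hF, deg_additive k X S hS a r s hK hE hF⟩

lemma isFinLocFreeOfRank_of_iso {M N : X.Modules} (e : M ≅ N) {n : ℕ}
    (h : FlatMod.IsFinLocFreeOfRank n M) : FlatMod.IsFinLocFreeOfRank n N := by
  intro x
  obtain ⟨U, hxU, ⟨φ⟩⟩ := h x
  exact ⟨U, hxU, ⟨((Scheme.Modules.restrictFunctor U.ι).mapIso e).symm ≪≫ φ⟩⟩

include k in
lemma deg_eq_of_iso [IsIntegral X] (hdim : topologicalKrullDim X ≤ 1) {M N : X.Modules}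
    (e : M ≅ N) {n : ℕ} (h : FlatMod.IsFinLocFreeOfRank n M) :
    Curv2.deg k X M n = Curv2.deg k X N n := by
  have h' := isFinLocFreeOfRank_of_iso e h
  have h1 := (Groth.Agent.Lib.Helper23.VBMaps.deg_le_of_mono_same_rank k hdim h h' e.hom).1
  have h2 := (Groth.Agent.Lib.Helper23.VBMaps.deg_le_of_mono_same_rank k hdim h' h e.inv).1
  exact le_antisymm h1 h2

end TFQ

end Groth.Agent.Lib.Helper23.Sat
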