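import Groth.Agent.Lib.Helper23.Devissage
import Groth.Agent.Lib.Helper23.Inverse
import Groth.Agent.Lib.Helper23.Sat

/-!
# Degree of tensor products on an integral proper curve, degree of the dual
-/

set_option autoImplicit false
universe u
open CategoryTheory CategoryTheory.Limits AlgebraicGeometry TopologicalSpace Opposite
open Scheme.Modules

noncomputable section

namespace Groth.Agent.Lib.Helper23.DegTensor

open Groth.Agent.Lib.Helper3 Groth.Agent.Lib.Helper3.QCSec Groth.Agent.Lib.Helper3.InvGen
  Groth.Agent.Lib.Helper3.InvMonoidal Groth.Agent.Lib.Helper3.FreeBasis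
open Groth.Agent.Lib.Helper23.T2 Groth.Agent.Lib.Helper23.Curve Groth.Agent.Lib.Helper23.Twist
  Groth.Agent.Lib.Helper23.Dev Groth.Agent.Lib.Helper23.TmBasis Groth.Agent.Lib.Helper23.Inverse

variable {X : Scheme.{u}}

/-- the generic rank of a locally free module of rank `m` is `m` -/
theorem finrank_generic [IsIntegral X] {F : X.Modules} {m : ℕ}
    (hF : FlatMod.IsFinLocFreeOfRank m F) :
    Module.finrank (X.presheaf.stalk (genericPoint X)) (F.presheaf.stalk (genericPoint X)) = m := by
  obtain ⟨U, e, hxU, hb⟩ := isFinLocFreeOfRank_iff.mp hF (genericPoint X)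
  obtain ⟨V, hVaff, hxV, hVU⟩ := Opens.isBasis_iff_nbhd.mp X.isBasis_affineOpens hxU
  haveI : F.IsQuasicoherent := (isCoh_of_isFinLocFreeOfRank hF).1
  exact Groth.Agent.Lib.Helper17.GenFreeSheaf.finrank_stalk_of_basis F hVaff _ hxV
    (basisOf _ (hb V hVU))

variable (k : Type u) [Field k] [X.Over (Spec (CommRingCat.of k))]
  [IsProper (X ↘ Spec (CommRingCat.of k))]

/-- `deg (E ⊗ F) = rk F · deg E + rk E · deg F` on an integral proper curve -/
theorem deg_tensor [IsIntegral X] (hdim : topologicalKrullDim X ≤ 1) {E F : X.Modules} {n m : ℕ}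
    (hE : FlatMod.IsFinLocFreeOfRank n E) (hF : FlatMod.IsFinLocFreeOfRank m F) :
    Curv2.deg k X (CohB1.tensorMod E F) (n * m) =
      m * Curv2.deg k X E n + n * Curv2.deg k X F m := by
  have h := euler_tensor_curve k hE hdim (isCoh_of_isFinLocFreeOfRank hF)
  rw [finrank_generic hF] at h
  unfold Curv2.deg at h ⊢
  rw [h]
  push_cast
  ring

/-- twisting by an invertible module -/
theorem deg_tw [IsIntegral X] (hdim : topologicalKrullDim X ≤ 1) {E L : X.Modules} {n : ℕ}
    (hE : FlatMod.IsFinLocFreeOfRank n E) (hL : PicF.IsInvertible L) :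
    Curv2.deg k X (CohB1.tensorMod E L) n = Curv2.deg k X E n + n * Curv2.deg k X L 1 := by
  have h := deg_tensor k hdim hE (isFinLocFreeOfRank_one_of_isInvertible hL)
  rw [Nat.mul_one] at h
  rw [h]
  push_cast
  ring

omit [IsProper (X ↘ Spec (CommRingCat.of k))] in
theorem deg_structureModule_one : Curv2.deg k X (Coh.structureModule X) 1 = 0 := by
  unfold Curv2.deg
  push_cast
  ring

/-- the degree of an inverse -/
theorem deg_of_isInverseOf [IsIntegral X] (hdim : topologicalKrullDim X ≤ 1) {L M : X.Modules}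
    (hL : PicF.IsInvertible L) (hM : PicF.IsInvertible M) (h : ClSub.IsInverseOf L M) :
    Curv2.deg k X M 1 = - Curv2.deg k X L 1 := by
  obtain ⟨e⟩ := h
  have h1 := deg_tw k hdim (isFinLocFreeOfRank_one_of_isInvertible hL) hM
  have h2 := Groth.Agent.Lib.Helper23.Sat.deg_eq_of_iso k hdim e
    (isFinLocFreeOfRank_tensor hM (isFinLocFreeOfRank_one_of_isInvertible hL))
  rw [deg_structureModule_one] at h2
  rw [h2] at h1
  push_cast at h1
  linarith

theorem deg_dual [IsIntegral X] (hdim : topologicalKrullDim X ≤ 1) {L : X.Modules}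
    (hL : PicF.IsInvertible L) : Curv2.deg k X (dual L) 1 = - Curv2.deg k X L 1 :=
  deg_of_isInverseOf k hdim hL (isInvertible_dual hL) (isInverseOf_dual hL)

end Groth.Agent.Lib.Helper23.DegTensor
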