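import Groth.Agent.Lib.Helper23.CurveG
import Groth.Agent.Lib.Helper3.InvAmple
import Groth.Agent.Lib.Helper23.T2L

/-!
# CurveH: Riemann–Roch bookkeeping on a proper integral curve: `χ = h⁰ − h¹`, sections, genus zero
-/
set_option autoImplicit false
universe u
open CategoryTheory CategoryTheory.Limits Opposite TopologicalSpace AlgebraicGeometry
open Groth.Agent.Lib.Helper3 Groth.Agent.Lib.Helper3.QCSec Groth.Agent.Lib.Helper3.InvGen
open Groth.Agent.Lib.Helper23.T2

noncomputable section

namespace Groth.Agent.Lib.Helper23.Curve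

variable (k : Type u) [Field k] {X : Scheme.{u}} [X.Over (Spec (CommRingCat.of k))]
  [IsProper (X ↘ Spec (CommRingCat.of k))] [IsIntegral X]

/-- `χ = h⁰ − h¹` on a proper integral curve. -/
theorem euler_eq_h0_sub_h1 (hdim : topologicalKrullDim X ≤ 1) (M : X.Modules) (hM : Coh.IsCoh M) :
    Curv2.euler k X M =
      (Module.finrank k (Coh.HH X M 0) : ℤ) - (Module.finrank k (Coh.HH X M 1) : ℤ) := by
  haveI : M.IsQuasicoherent := hM.1
  have hd : ∀ p : ℕ, 2 ≤ p → Subsingleton (Coh.HH X M p) := by
    intro p hp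
    obtain ⟨q, rfl⟩ : ∃ q, p = q + 2 := ⟨p - 2, by omega⟩
    exact subsingleton_HH_of_curve X k hdim M q
  rw [euler_eq_sum k X M hM 2 hd]
  haveI := hd 2 le_rfl
  rw [Finset.sum_range_succ, Finset.sum_range_succ, Finset.sum_range_one,
    EulerLES.len_of_subsingleton (R := k) (M := Coh.HH X M 2),
    finrank_eq_len k X M hM 0, finrank_eq_len k X M hM 1]
  simp
  ring

/-- a nontrivial `H⁰` gives a nonzero map from the structure sheaf. -/
lemma exists_section_of_nontrivial {Y : Scheme.{u}} (L : Y.Modules)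
    (h : Nontrivial (Coh.HH Y L 0)) : ∃ s : Coh.structureModule Y ⟶ L, s ≠ 0 := by
  obtain ⟨a, ha⟩ := exists_ne (0 : Coh.HH Y L 0)
  let m : Γ(L, ⊤) := h0equiv L a
  have hm : m ≠ 0 := by
    intro h0
    apply ha
    have : h0equiv L a = h0equiv L 0 := by rw [map_zero]; exact h0
    exact (h0equiv L).injective this
  refine ⟨InvAmple.globalHom L m, fun hs => hm ?_⟩
  have h1 := InvAmple.sec_globalHom L m ⊤
  rw [hs] at h1
  have h2 : res L (le_top : (⊤ : Y.Opens) ≤ ⊤) m = m := res_self L _ m
  rw [h2] at h1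
  rw [← h1]
  rfl

include k in
/-- if `H¹(O) = 0` then `H¹(L) = 0` for every invertible module with a nonzero section. -/
theorem h1_eq_zero_of_section (hdim : topologicalKrullDim X ≤ 1)
    (hO : Subsingleton (Coh.HH X (Coh.structureModule X) 1)) {L : X.Modules}
    (hL : PicF.IsInvertible L) (s : Coh.structureModule X ⟶ L) (hs : s ≠ 0) :
    Subsingleton (Coh.HH X L 1) := by
  obtain ⟨hmono, hcohQ, hfl, -⟩ := invertible_map k hdim (isInvertible_structureModule X) hL s hs
  exact P_mid_of_shortExact (zeroClass (Coh.Γtop X)) (cokerSC s) (cokerSC_shortExact s) 1 hO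
    (acyclic_of_isFlq hfl 0)

section GenusZero

include k in
lemma subsingleton_h1_of_genus_zero (hg : Curv2.genus k X = 0) :
    Subsingleton (Coh.HH X (Coh.structureModule X) 1) := by
  haveI := isNoetherian_of_isProper k X
  haveI := finite_HH k (Coh.structureModule X) (T2.isCoh_structureModule X) 1
  exact Module.finrank_zero_iff.1 hg

lemma euler_structureModule (hdim : topologicalKrullDim X ≤ 1)
    (h0 : Module.finrank k (Coh.HH X (Coh.structureModule X) 0) = 1) :
    Curv2.euler k X (Coh.structureModule X) = 1 - (Curv2.genus k X : ℤ) := by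
  haveI := isNoetherian_of_isProper k X
  rw [euler_eq_h0_sub_h1 k hdim _ (T2.isCoh_structureModule X), h0]
  rfl

/-- Riemann–Roch bookkeeping: `h⁰(L) − h¹(L) = deg L + 1 − g`. -/
theorem riemann_roch (hdim : topologicalKrullDim X ≤ 1)
    (h0 : Module.finrank k (Coh.HH X (Coh.structureModule X) 0) = 1)
    {L : X.Modules} (hL : PicF.IsInvertible L) :
    (Module.finrank k (Coh.HH X L 0) : ℤ) - (Module.finrank k (Coh.HH X L 1) : ℤ) =
      Curv2.deg k X L 1 + 1 - (Curv2.genus k X : ℤ) := by
  have h1 := euler_eq_h0_sub_h1 k hdim L (isCoh_of_isInvertible hL)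
  have h2 := euler_structureModule k hdim h0
  unfold Curv2.deg
  rw [← h1, h2]
  push_cast
  ring

/-- S6540 -/
theorem trivial_of_deg_zero_genus_zero (hdim : topologicalKrullDim X ≤ 1)
    (h0 : Module.finrank k (Coh.HH X (Coh.structureModule X) 0) = 1) (hg : Curv2.genus k X = 0)
    (L : X.Modules) (hL : PicF.IsInvertible L) (hdeg : Curv2.deg k X L 1 = 0) :
    Nonempty (L ≅ Coh.structureModule X) := by
  have hrr := riemann_roch k hdim h0 hL
  rw [hdeg, hg] at hrr
  have hpos : 0 < Module.finrank k (Coh.HH X L 0) := by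
    have : (0 : ℤ) < (Module.finrank k (Coh.HH X L 0) : ℤ) := by
      have := Int.natCast_nonneg (Module.finrank k (Coh.HH X L 1))
      push_cast at hrr
      linarith
    exact_mod_cast this
  have hnt : Nontrivial (Coh.HH X L 0) := Module.nontrivial_of_finrank_pos (R := k) hpos
  obtain ⟨s, hs⟩ := exists_section_of_nontrivial L hnt
  haveI := (deg_nonneg_of_section k hdim hL s hs).2 (le_of_eq hdeg)
  exact ⟨(asIso s).symm⟩

/-- S1635 -/
theorem genus_zero_h0_h1 (hdim : topologicalKrullDim X ≤ 1)
    (h0 : Module.finrank k (Coh.HH X (Coh.structureModule X) 0) = 1) (hg : Curv2.genus k X = 0)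
    (L : X.Modules) (hL : PicF.IsInvertible L) (d : ℕ) (hd : 0 < d)
    (hdeg : Curv2.deg k X L 1 = d) :
    Module.finrank k (Coh.HH X L 0) = d + 1 ∧ Subsingleton (Coh.HH X L 1) := by
  have hrr := riemann_roch k hdim h0 hL
  rw [hdeg, hg] at hrr
  have hpos : 0 < Module.finrank k (Coh.HH X L 0) := by
    have : (0 : ℤ) < (Module.finrank k (Coh.HH X L 0) : ℤ) := by
      have := Int.natCast_nonneg (Module.finrank k (Coh.HH X L 1))
      push_cast at hrr
      linarith
    exact_mod_cast this
  have hnt : Nontrivial (Coh.HH X L 0) := Module.nontrivial_of_finrank_pos (R := k) hpos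
  obtain ⟨s, hs⟩ := exists_section_of_nontrivial L hnt
  have h1 := h1_eq_zero_of_section k hdim (subsingleton_h1_of_genus_zero k hg) hL s hs
  refine ⟨?_, h1⟩
  have h1' : Module.finrank k (Coh.HH X L 1) = 0 := Module.finrank_zero_of_subsingleton
  rw [h1'] at hrr
  push_cast at hrr
  have : (Module.finrank k (Coh.HH X L 0) : ℤ) = (d : ℤ) + 1 := by linarith
  exact_mod_cast this

end GenusZero

end Groth.Agent.Lib.Helper23.Curve
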