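import Groth.Agent.Lib.Helper23.AmpleCurve5
import Groth.Agent.Lib.Helper23.DegTensor
import Groth.Agent.Lib.Helper23.CurveH
import Groth.Agent.S1519

/-!
# AmpleCurve6: on an integral proper curve, ample ↔ positive degree
-/
set_option autoImplicit false
set_option linter.style.haveILetI false
universe u
open CategoryTheory CategoryTheory.Limits Opposite TopologicalSpace AlgebraicGeometry
open Groth.Agent.Lib.Helper3 Groth.Agent.Lib.Helper3.QCSec Groth.Agent.Lib.Helper3.InvGen
  Groth.Agent.Lib.Helper3.InvTensor Groth.Agent.Lib.Helper3.InvMonoidal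
  Groth.Agent.Lib.Helper3.InvAmple
open Groth.Agent.Lib.Helper23.T2

noncomputable section

namespace Groth.Agent.Lib.Helper23.AmpleCurve

open Groth.Agent.Lib.Helper23.Curve

variable {X : Scheme.{u}}
variable (k : Type u) [Field k] [X.Over (Spec (CommRingCat.of k))]
  [IsProper (X ↘ Spec (CommRingCat.of k))]

include k in
theorem deg_tensorPow [IsIntegral X] (hdim : topologicalKrullDim X ≤ 1) {L : X.Modules}
    (hL : PicF.IsInvertible L) (n : ℕ) :
    Curv2.deg k X (CohB1.tensorPow L n) 1 = n * Curv2.deg k X L 1 := by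
  induction n with
  | zero =>
    show Curv2.deg k X (Coh.structureModule X) 1 = _
    rw [deg_structureModule]
    simp
  | succ n ih =>
    have h := DegTensor.deg_tw k hdim
      (isFinLocFreeOfRank_one_of_isInvertible (isInvertible_tensorPow hL n)) hL
    show Curv2.deg k X (CohB1.tensorMod (CohB1.tensorPow L n) L) 1 = _
    rw [h, ih]
    push_cast
    ring

include k in
/-- positive degree implies ample on an integral proper curve. -/
theorem isAmple_of_deg_pos [IsIntegral X] (hdim : topologicalKrullDim X ≤ 1) {L : X.Modules}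
    (hL : PicF.IsInvertible L) (hdeg : 0 < Curv2.deg k X L 1) : CohB1.IsAmple L := by
  obtain ⟨n, hn⟩ : ∃ n : ℕ, n = (1 - Curv2.euler k X (Coh.structureModule X)).toNat + 1 := ⟨_, rfl⟩
  have hLn := isInvertible_tensorPow hL n
  have hcoh : Coh.IsCoh (CohB1.tensorPow L n) :=
    isCoh_of_isFinLocFreeOfRank (isFinLocFreeOfRank_one_of_isInvertible hLn)
  have hdegn := deg_tensorPow k hdim hL n
  have heul := euler_eq_h0_sub_h1 k hdim _ hcoh
  have hd : Curv2.deg k X (CohB1.tensorPow L n) 1 =
      Curv2.euler k X (CohB1.tensorPow L n) - 1 * Curv2.euler k X (Coh.structureModule X) := rfl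
  have hn1 : (1 - Curv2.euler k X (Coh.structureModule X)) ≤ ((1 - Curv2.euler k X (Coh.structureModule X)).toNat : ℤ) :=
    Int.self_le_toNat _
  have hnn : (n : ℤ) ≤ n * Curv2.deg k X L 1 := by nlinarith
  have h0 : 1 ≤ (Module.finrank k (Coh.HH X (CohB1.tensorPow L n) 0) : ℤ) := by
    have : (n : ℤ) = ((1 - Curv2.euler k X (Coh.structureModule X)).toNat : ℤ) + 1 := by
      rw [hn]; push_cast; rfl
    have h1 : (0 : ℤ) ≤ (Module.finrank k (Coh.HH X (CohB1.tensorPow L n) 1) : ℤ) := by positivity
    linarith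
  have hnt : Nontrivial (Coh.HH X (CohB1.tensorPow L n) 0) :=
    Module.nontrivial_of_finrank_pos (R := k) (by exact_mod_cast h0)
  obtain ⟨s, hs⟩ := exists_section_of_nontrivial _ hnt
  have hpos : 0 < Curv2.deg k X (CohB1.tensorPow L n) 1 := by
    rw [hdegn]
    have : (0 : ℤ) < n := by rw [hn]; positivity
    positivity
  have hA := isAmple_of_section k hdim hLn s hs hpos
  haveI := RelAmpleLib.isSeparated_of_isAmple hA
  haveI : CompactSpace X := hA.2.1
  exact (Groth.Agent.S2327.result X L hL n (by omega)).2 hA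

include k in
theorem topologicalKrullDim_le_zero_of_isAffine [IsIntegral X] [IsAffine X] :
    topologicalKrullDim X ≤ 0 := by
  let f := X ↘ Spec (CommRingCat.of k)
  haveI : IsFinite f := IsFinite.iff_isProper_and_isAffineHom.mpr ⟨inferInstance, inferInstance⟩
  have hfin : RingHom.Finite f.appTop.hom := IsFinite.finite_app f ⊤ (isAffineOpen_top _)
  haveI : IsArtinianRing Γ(Spec (CommRingCat.of k), ⊤) :=
    (Scheme.ΓSpecIso (CommRingCat.of k)).commRingCatIsoToRingEquiv.symm.isArtinianRing
  algebraize [f.appTop.hom]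
  haveI : IsArtinianRing Γ(X, ⊤) := IsArtinianRing.of_finite Γ(Spec (CommRingCat.of k), ⊤) Γ(X, ⊤)
  have hfield : IsField Γ(X, ⊤) := IsArtinianRing.isField_of_isDomain _
  have hh : IsHomeomorph (X.isoSpec.hom.base) := (TopCat.homeoOfIso (Scheme.forgetToTop.mapIso X.isoSpec)).isHomeomorph
  rw [IsHomeomorph.topologicalKrullDim_eq _ hh]
  show topologicalKrullDim (PrimeSpectrum Γ(X, ⊤)) ≤ 0
  rw [PrimeSpectrum.topologicalKrullDim_eq_ringKrullDim]
  letI := hfield.toField
  exact (ringKrullDim_eq_zero_of_field _).le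

include k in
theorem deg_pos_of_isAmple [IsIntegral X] (hdim : topologicalKrullDim X = 1) {L : X.Modules}
    (hL : PicF.IsInvertible L) (hA : CohB1.IsAmple L) : 0 < Curv2.deg k X L 1 := by
  obtain ⟨x⟩ : Nonempty X := inferInstance
  obtain ⟨n, s, hx, haff⟩ := hA.2.2 x
  have hLn := isInvertible_tensorPow hL (n + 1)
  have hs : s ≠ 0 := by
    rintro rfl
    obtain ⟨W, hxW, hW⟩ := (mem_genLocus_iff _ x).1 hx
    have hgen := hW.self
    have h0 : sec (0 : Coh.structureModule X ⟶ CohB1.tensorPow L (n + 1)) W = 0 := rfl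
    rw [h0] at hgen
    have h10 : (1 : Γ(X, W)) = 0 := hgen.smul_inj (by simp)
    haveI : Nonempty W := ⟨⟨x, hxW⟩⟩
    haveI := Scheme.component_nontrivial X W
    exact one_ne_zero h10
  have hne : CohB1.genLocus _ s ≠ ⊤ := by
    intro htop
    rw [htop] at haff
    haveI : IsAffine ((⊤ : X.Opens) : Scheme.{u}) := haff
    haveI : IsAffine X := IsAffine.of_isIso (Scheme.topIso X).inv
    have := topologicalKrullDim_le_zero_of_isAffine (X := X) k
    rw [hdim] at this
    exact absurd this (by norm_num)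
  obtain ⟨x', hx'⟩ : ∃ x', x' ∉ CohB1.genLocus _ s := by
    by_contra h
    push Not at h
    exact hne (top_unique fun y _ => h y)
  have h := Groth.Agent.S1519.result k X hdim _ hLn s hs x' hx'
  rw [deg_tensorPow k hdim.le hL (n + 1)] at h
  by_contra hneg
  push Not at hneg
  have : ((n + 1 : ℕ) : ℤ) * Curv2.deg k X L 1 ≤ 0 :=
    mul_nonpos_of_nonneg_of_nonpos (by positivity) hneg
  omega

end Groth.Agent.Lib.Helper23.AmpleCurve
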