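import Mathlib
import Groth.Prelude.Def_Curv2

/-!
# DeltaIso: the δ-invariant is invariant under ring isomorphisms
-/
set_option autoImplicit false
set_option linter.style.haveILetI false
universe u

namespace Groth.Agent.Lib.Helper23.DeltaIso

theorem deltaInv_eq_of_ringEquiv {A A' : Type u} [CommRing A] [CommRing A'] (e : A ≃+* A') :
    Curv2.deltaInv A = Curv2.deltaInv A' := by
  unfold Curv2.deltaInv
  let ê : FractionRing A ≃+* FractionRing A' := IsFractionRing.ringEquivOfRingEquiv e
  have hê : ∀ a : A, ê (algebraMap A (FractionRing A) a) = algebraMap A' (FractionRing A') (e a) :=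
    fun a => IsFractionRing.ringEquivOfRingEquiv_algebraMap e a
  have hê' : ∀ a' : A', ê.symm (algebraMap A' (FractionRing A') a') =
      algebraMap A (FractionRing A) (e.symm a') := fun a' => by
    rw [RingEquiv.symm_apply_eq, hê, e.apply_symm_apply]
  letI algAA' : Algebra A A' := e.toRingHom.toAlgebra
  rw [← Module.length_eq_of_surjective (S := A) (R := A')
    (M := ↥(integralClosure A' (FractionRing A')) ⧸
      LinearMap.range (Algebra.linearMap A' ↥(integralClosure A' (FractionRing A'))))
    e.surjective]
  have hint : ∀ x : integralClosure A (FractionRing A),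
      ê x.1 ∈ integralClosure A' (FractionRing A') := fun x =>
    IsIntegral.map_of_comp_eq e.toRingHom ê.toRingHom
      (by ext a; exact (hê a).symm) x.2
  have hint' : ∀ x : integralClosure A' (FractionRing A'),
      ê.symm x.1 ∈ integralClosure A (FractionRing A) := fun x =>
    IsIntegral.map_of_comp_eq e.symm.toRingHom ê.symm.toRingHom
      (by ext a; exact (hê' a).symm) x.2
  let g : ↥(integralClosure A (FractionRing A)) →ₗ[A]
      (↥(integralClosure A' (FractionRing A')) ⧸
        LinearMap.range (Algebra.linearMap A' ↥(integralClosure A' (FractionRing A')))) :=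
    { toFun := fun x => Submodule.Quotient.mk ⟨ê x.1, hint x⟩
      map_add' := fun x y => by
        rw [← Submodule.Quotient.mk_add]
        congr 1
        apply Subtype.ext
        exact map_add ê x.1 y.1
      map_smul' := fun a x => by
        rw [RingHom.id_apply, ← Submodule.Quotient.mk_smul]
        congr 1
        apply Subtype.ext
        show ê (a • x).1 = a • ê x.1
        have h1 : (a • x).1 = algebraMap A (FractionRing A) a * x.1 := by
          rw [Algebra.smul_def]
          rfl
        have h2 : a • ê x.1 = algebraMap A' (FractionRing A') (e a) * ê x.1 := by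
          rw [algebra_compatible_smul A' a (ê x.1), Algebra.smul_def]
          rfl
        rw [h1, h2, map_mul, hê] }
  have hg : ∀ x, g x = Submodule.Quotient.mk ⟨ê x.1, hint x⟩ := fun _ => rfl
  have hsurj : Function.Surjective g := by
    intro n
    obtain ⟨y, rfl⟩ := Submodule.Quotient.mk_surjective _ n
    refine ⟨⟨ê.symm y.1, hint' y⟩, ?_⟩
    rw [hg]
    congr 1
    apply Subtype.ext
    exact ê.apply_symm_apply y.1
  have hker : LinearMap.ker g =
      LinearMap.range (Algebra.linearMap A ↥(integralClosure A (FractionRing A))) := by
    ext x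
    rw [LinearMap.mem_ker, hg, Submodule.Quotient.mk_eq_zero, LinearMap.mem_range,
      LinearMap.mem_range]
    simp only [Algebra.linearMap_apply]
    constructor
    · rintro ⟨a', ha'⟩
      refine ⟨e.symm a', ?_⟩
      apply Subtype.ext
      have h1 : algebraMap A' (FractionRing A') a' = ê x.1 := congrArg Subtype.val ha'
      show algebraMap A (FractionRing A) (e.symm a') = x.1
      rw [← hê', h1, ê.symm_apply_apply]
    · rintro ⟨a, rfl⟩
      refine ⟨e a, ?_⟩
      apply Subtype.ext
      show algebraMap A' (FractionRing A') (e a) = ê (algebraMap A (FractionRing A) a)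
      rw [hê]
  exact ((Submodule.quotEquivOfEq _ _ hker.symm).trans
    (g.quotKerEquivOfSurjective hsurj)).length_eq

end Groth.Agent.Lib.Helper23.DeltaIso
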