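import Groth.Agent.Lib.Helper23.NodeAlgB
import Groth.Agent.Lib.Helper23.DeltaIso
import Groth.Agent.Lib.Helper12.SchemeDimFT3
import Groth.Agent.Lib.Helper12.NagataLoc
import Groth.Agent.Lib.Helper27.NagCompl
import Groth.Agent.Lib.Helper26.RegularSch
import Groth.Agent.Lib.Helper9.RegLocal
import Groth.Agent.Lib.Helper14.CplReducedCrit
import Groth.Agent.S0566
import Groth.Agent.S4710
import Groth.Agent.S7654

/-!
# NodalGlueA: local rings of an at-worst-nodal curve over an algebraically closed field
-/
set_option autoImplicit false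
set_option linter.style.haveILetI false
universe u
open AlgebraicGeometry CategoryTheory CategoryTheory.Limits TopologicalSpace Opposite

noncomputable section

namespace Groth.Agent.Lib.Helper23.NodalGlue

open Groth.Agent.Lib.Helper12 Groth.Agent.Lib.Helper12.SchemeDimFT

attribute [local instance] Curv2.resAlgebra

section Alg

/-- a field is a Nagata ring -/
theorem isNagata_field (k : Type u) [Field k] : CAlg.IsNagata k := by
  haveI : IsAdicComplete (IsLocalRing.maximalIdeal k) k := by
    rw [IsLocalRing.maximalIdeal_eq_bot]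
    infer_instance
  exact Groth.Agent.Lib.Helper27.NagCompl.isNagata_of_complete k

/-- the δ-invariant of an integrally closed domain vanishes -/
theorem deltaInv_eq_zero_of_isIntegrallyClosed (A : Type u) [CommRing A] [IsDomain A]
    [IsIntegrallyClosed A] : Curv2.deltaInv A = 0 := by
  unfold Curv2.deltaInv
  rw [Module.length_eq_zero_iff]
  refine ⟨fun a b => ?_⟩
  obtain ⟨a, rfl⟩ := Submodule.Quotient.mk_surjective _ a
  obtain ⟨b, rfl⟩ := Submodule.Quotient.mk_surjective _ b
  have hmem : ∀ c : integralClosure A (FractionRing A),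
      c ∈ LinearMap.range (Algebra.linearMap A ↥(integralClosure A (FractionRing A))) := by
    intro c
    obtain ⟨r, hr⟩ := IsIntegrallyClosed.isIntegral_iff.1 c.2
    exact ⟨r, Subtype.ext hr⟩
  rw [(Submodule.Quotient.mk_eq_zero _).2 (hmem a), (Submodule.Quotient.mk_eq_zero _).2 (hmem b)]

/-- reducedness passes to the localization at a smaller prime -/
theorem isReduced_of_le {R : Type u} [CommRing R] (p q : Ideal R) [p.IsPrime] [q.IsPrime]
    (hpq : p ≤ q) (Sq : Type u) [CommRing Sq] [Algebra R Sq] [IsLocalization.AtPrime Sq q]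
    [IsReduced Sq] (Sp : Type u) [CommRing Sp] [Algebra R Sp] [IsLocalization.AtPrime Sp p] :
    IsReduced Sp := by
  have hle : q.primeCompl ≤ p.primeCompl := fun r hr hrp => hr (hpq hrp)
  letI : Algebra Sq Sp :=
    IsLocalization.localizationAlgebraOfSubmonoidLe Sq Sp q.primeCompl p.primeCompl hle
  haveI : IsScalarTower R Sq Sp :=
    IsLocalization.localization_isScalarTower_of_submonoid_le Sq Sp q.primeCompl p.primeCompl hle
  haveI := IsLocalization.isLocalization_of_submonoid_le Sq Sp q.primeCompl p.primeCompl hle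
  exact isReduced_localizationPreserves (p.primeCompl.map (algebraMap R Sq)) Sp
    (inferInstanceAs (IsReduced Sq))

/-- an ordinary double point is reduced -/
theorem isReduced_of_isOrdDoublePt (K : Type u) [Field K] (B : Type u) [CommRing B] [Algebra K B]
    [IsLocalRing B] [IsNoetherianRing B] (h : Curv2.IsOrdDoublePt K B) : IsReduced B := by
  obtain ⟨e, -⟩ := h
  haveI : IsReduced (AdicCompletion (IsLocalRing.maximalIdeal B) B) :=
    NodeAlg.isReduced_of_ringEquiv K _ e
  exact isReduced_of_injective (algebraMap B (AdicCompletion (IsLocalRing.maximalIdeal B) B))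
    (AdicCompletion.of_injective (I := IsLocalRing.maximalIdeal B) (M := B))

/-- the δ-invariant of an ordinary double point is one -/
theorem deltaInv_eq_one_of_isOrdDoublePt (K : Type u) [Field K] (B : Type u) [CommRing B]
    [Algebra K B] [IsLocalRing B] (hN : CAlg.IsNagata B) (hdim : ringKrullDim B = 1)
    (h : Curv2.IsOrdDoublePt K B) : Curv2.deltaInv B = 1 := by
  haveI : IsNoetherianRing B := hN.1
  haveI : IsReduced B := isReduced_of_isOrdDoublePt K B h
  obtain ⟨e, he⟩ := h
  rw [← (Groth.Agent.S7654.result B hN hdim).2.2]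
  exact NodeAlg.deltaInv_eq_one K _
    ((algebraMap B (AdicCompletion (IsLocalRing.maximalIdeal B) B)).comp (algebraMap K B)) e he

end Alg

section Sch

variable (k : Type u) [Field k] (X : Scheme.{u}) [X.Over (Spec (CommRingCat.of k))]
  [LocallyOfFiniteType (X ↘ Spec (CommRingCat.of k))]

include k in
/-- local rings of a scheme locally of finite type over a field are Nagata -/
theorem isNagata_stalk (x : X) : CAlg.IsNagata (X.presheaf.stalk x) := by
  obtain ⟨U, hU, hxU⟩ := exists_affineOpen_mem X x
  letI := secAlgebra k X U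
  haveI := finiteType_sec k X U hU
  have hN : CAlg.IsNagata Γ(X, U) := Groth.Agent.S0566.result k (isNagata_field k) Γ(X, U)
  letI := TopCat.Presheaf.algebra_section_stalk X.presheaf ⟨x, hxU⟩
  haveI : IsLocalization.AtPrime (X.presheaf.stalk x) (hU.primeIdealOf ⟨x, hxU⟩).asIdeal :=
    hU.isLocalization_stalk ⟨x, hxU⟩
  have h1 := Groth.Agent.S4710.result Γ(X, U) hN (hU.primeIdealOf ⟨x, hxU⟩).asIdeal.primeCompl
  exact NagataLoc.isNagata_of_ringEquiv
    (IsLocalization.algEquiv (hU.primeIdealOf ⟨x, hxU⟩).asIdeal.primeCompl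
      (Localization (hU.primeIdealOf ⟨x, hxU⟩).asIdeal.primeCompl)
      (X.presheaf.stalk x)).toRingEquiv h1

omit [LocallyOfFiniteType (X ↘ Spec (CommRingCat.of k))] [X.Over (Spec (CommRingCat.of k))] in
/-- reducedness of stalks generizes -/
theorem isReduced_stalk_of_specializes {y x : X} (h : y ⤳ x)
    [IsReduced (X.presheaf.stalk x)] : IsReduced (X.presheaf.stalk y) := by
  obtain ⟨U, hU, hxU⟩ := exists_affineOpen_mem X x
  have hyU : y ∈ U := h.mem_open U.isOpen hxU
  letI ax := TopCat.Presheaf.algebra_section_stalk X.presheaf ⟨x, hxU⟩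
  haveI : IsLocalization.AtPrime (X.presheaf.stalk x) (hU.primeIdealOf ⟨x, hxU⟩).asIdeal :=
    hU.isLocalization_stalk ⟨x, hxU⟩
  letI ay := TopCat.Presheaf.algebra_section_stalk X.presheaf ⟨y, hyU⟩
  haveI : IsLocalization.AtPrime (X.presheaf.stalk y) (hU.primeIdealOf ⟨y, hyU⟩).asIdeal :=
    hU.isLocalization_stalk ⟨y, hyU⟩
  have hle : (hU.primeIdealOf ⟨y, hyU⟩).asIdeal ≤ (hU.primeIdealOf ⟨x, hxU⟩).asIdeal :=
    (primeIdealOf_le_iff hU ⟨y, hyU⟩ ⟨x, hxU⟩).2 h
  exact isReduced_of_le _ _ hle (X.presheaf.stalk x) (X.presheaf.stalk y)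

/-- the residue field at a closed point is the base field, when that is algebraically closed -/
theorem finrank_residueField_eq_one [IsAlgClosed k] (x : X) (hx : IsClosed ({x} : Set X)) :
    Module.finrank k (X.residueField x) = 1 := by
  have h1 : Algebra.trdeg k (X.residueField x) = 0 := by
    rw [tr_spec k X x, tr_eq_zero_of_isClosed k X x hx]
    simp
  haveI : Algebra.IsAlgebraic k (X.residueField x) := _root_.trdeg_eq_zero_iff.1 h1
  haveI : Algebra.IsIntegral k (X.residueField x) := Algebra.IsAlgebraic.isIntegral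
  have hbij : Function.Bijective (algebraMap k (X.residueField x)) :=
    IsAlgClosed.algebraMap_bijective_of_isIntegral
  rw [← (LinearEquiv.ofBijective (Algebra.linearMap k (X.residueField x)) hbij).finrank_eq,
    Module.finrank_self]

/-- closed points of an equidimensional curve have one-dimensional local rings -/
theorem ringKrullDim_stalk_eq_one [QuasiCompact (X ↘ Spec (CommRingCat.of k))]
    (hdim : ∀ Z ∈ irreducibleComponents (X : Type u), topologicalKrullDim Z = 1)
    (x : X) (hx : IsClosed ({x} : Set X)) : ringKrullDim (X.presheaf.stalk x) = 1 := by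
  refine (trdeg_generic_eq_one_iff k X).1 ?_ x hx
  intro y hy
  have h1 := hdim _ hy
  rw [topologicalKrullDim_closure_singleton k X y] at h1
  have h2 : tr k X y = 1 := by exact_mod_cast h1
  rw [tr_spec k X y, h2]
  simp

omit [LocallyOfFiniteType (X ↘ Spec (CommRingCat.of k))] in
/-- smooth points of a curve have vanishing δ-invariant and reduced (regular) local ring -/
theorem regular_of_smooth_nhd (x : X) (U : X.Opens) (hxU : x ∈ U)
    [Smooth (U.ι ≫ (X ↘ Spec (CommRingCat.of k)))] :
    IsRegularLocalRing (X.presheaf.stalk x) := by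
  have h1 := Groth.Agent.Lib.Helper26.RegularSch.isRegularLocalRing_stalk_of_smooth_field k
    (U.ι ≫ (X ↘ Spec (CommRingCat.of k))) ⟨x, hxU⟩
  let e : X.presheaf.stalk x ≃+* (U : Scheme.{u}).presheaf.stalk ⟨x, hxU⟩ :=
    (asIso (U.ι.stalkMap ⟨x, hxU⟩)).commRingCatIsoToRingEquiv
  exact IsRegularLocalRing.of_ringEquiv e.symm

theorem deltaInv_eq_zero_of_smooth_nhd (x : X) (U : X.Opens) (hxU : x ∈ U)
    [Smooth (U.ι ≫ (X ↘ Spec (CommRingCat.of k)))]
    (hd : ringKrullDim (X.presheaf.stalk x) = 1) :
    Curv2.deltaInv (X.presheaf.stalk x) = 0 := by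
  haveI := regular_of_smooth_nhd k X x U hxU
  haveI : IsDomain (X.presheaf.stalk x) :=
    Groth.Agent.Lib.Helper9.RegLocal.isDomain_of_isRegularLocalRing _
  haveI : IsDiscreteValuationRing (X.presheaf.stalk x) :=
    Groth.Agent.Lib.Helper14.CplReducedCrit.isDiscreteValuationRing_of_isRegularLocalRing _ hd
  exact deltaInv_eq_zero_of_isIntegrallyClosed _

end Sch

end Groth.Agent.Lib.Helper23.NodalGlue
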