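import Groth.Agent.Lib.Helper23.GammaFieldK
import Groth.Agent.Lib.Helper23.StructPush
import Groth.Agent.Lib.Helper7.PushLinear
import Groth.Agent.Lib.Helper7.Hypersurf
import Groth.Agent.Lib.Helper7.TwProj
import Groth.Agent.Lib.Helper7.Mumford
import Groth.Agent.Lib.Helper5.ParaFLocal
import Groth.Agent.Lib.Helper17.BaseChangeAff
import Groth.Agent.S0844

/-!
# P1Coh: a scheme isomorphic to the projective line carries an invertible module of degree one
with two sections
-/
set_option autoImplicit false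
set_option linter.style.haveILetI false
universe u
open CategoryTheory CategoryTheory.Limits Opposite TopologicalSpace AlgebraicGeometry
open Groth.Agent.Lib.Helper3 Groth.Agent.Lib.Helper3.QCSec Groth.Agent.Lib.Helper3.InvGen
open Groth.Agent.Lib.Helper23.T2

noncomputable section

namespace Groth.Agent.Lib.Helper23.P1Coh

open Groth.Agent.Lib.Helper23.Curve Groth.Agent.Lib.Helper23.FBC
  Groth.Agent.Lib.Helper23.StructPush

section StructIso

variable {X Y : Scheme.{u}} (f : Y ⟶ X)

theorem isIso_structMap_of_isIso [IsIso f] : IsIso (structMap f) := by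
  apply Groth.Agent.Lib.Helper17.UnitBC.isIso_of_bijective_on_basis
  intro W x hx
  obtain ⟨V, hV, hxV, hVW⟩ := exists_isAffineOpen_mem_and_subset (U := W) hx
  refine ⟨V, hV, hxV, hVW, ?_⟩
  have hb := ConcreteCategory.bijective_of_isIso (f.app V)
  have key : ∀ a : Γ(X, V), (structMap f).app V (ofFun V a) =
      (ofFun (f ⁻¹ᵁ V) ((f.app V).hom a) : Γ(Coh.structureModule Y, f ⁻¹ᵁ V)) :=
    structMap_app f V
  constructor
  · intro a b hab
    have h1 := key (toFun V a)
    have h2 := key (toFun V b)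
    have h3 : (ofFun (f ⁻¹ᵁ V) ((f.app V).hom (toFun V a)) :
        Γ(Coh.structureModule Y, f ⁻¹ᵁ V)) = ofFun (f ⁻¹ᵁ V) ((f.app V).hom (toFun V b)) :=
      h1.symm.trans (hab.trans h2)
    exact hb.1 (ofFun_injective _ h3)
  · intro c
    obtain ⟨a, ha⟩ := hb.2 (toFun (f ⁻¹ᵁ V) c)
    refine ⟨ofFun V a, ?_⟩
    rw [key a, ha]
    rfl

end StructIso

section P1

variable (k : Type u) [Field k]

theorem finrank_HH_twist_succ (d : ℕ) (q : ℕ) :
    Module.finrank k (Coh.HH (CohB1.ProjSpace 1 k) (Twist.twistProjSpace 1 k (d : ℤ)) (q + 1)) =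
      0 := by
  haveI := Groth.Agent.S0844.result k 1 (d : ℤ) (q + 1) (by rintro ⟨h, -⟩; omega)
    (by rintro ⟨-, h⟩; push_cast at h; omega)
  exact Module.finrank_zero_of_subsingleton

theorem finrank_HH_twist_zero (d : ℕ) :
    Module.finrank k (Coh.HH (CohB1.ProjSpace 1 k) (Twist.twistProjSpace 1 k (d : ℤ)) 0) =
      d + 1 := by
  rw [Groth.Agent.Lib.Helper7.Hypersurf.finrank_H0_twist 1 k le_rfl (d : ℤ)]
  have : ((d : ℤ) + ((1 : ℕ) : ℤ)).toNat = d + 1 := by push_cast; omega
  rw [this, Nat.choose_one_right]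

theorem euler_twist (d : ℕ) :
    Curv2.euler k (CohB1.ProjSpace 1 k) (Twist.twistProjSpace 1 k (d : ℤ)) = (d : ℤ) + 1 := by
  unfold Curv2.euler
  rw [finsum_eq_single _ 0]
  · rw [finrank_HH_twist_zero]
    push_cast
    ring
  · intro i hi
    obtain ⟨q, rfl⟩ : ∃ q, i = q + 1 := ⟨i - 1, by omega⟩
    rw [finrank_HH_twist_succ]
    simp

end P1

section Main

variable (k : Type u) [Field k] {X : Scheme.{u}} [X.Over (Spec (CommRingCat.of k))]

theorem exists_invertible_deg_one (e : X ≅ CohB1.ProjSpace 1 k)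
    (he : e.hom ≫ CohB1.ProjSpace.toSpec 1 k = X ↘ Spec (CommRingCat.of k)) :
    ∃ L : X.Modules, PicF.IsInvertible L ∧ Curv2.deg k X L 1 = 1 ∧
      2 ≤ Module.finrank k (Coh.HH X L 0) := by
  have hXS : (CohB1.ProjSpace 1 k) ↘ Spec (CommRingCat.of k) =
      e.inv ≫ (X ↘ Spec (CommRingCat.of k)) := by
    rw [← he, Iso.inv_hom_id_assoc]
    rfl
  have hinv : PicF.IsInvertible (Twist.twistProjSpace 1 k ((1 : ℕ) : ℤ)) :=
    Groth.Agent.Lib.Helper7.TwProj.isInvertible_twist (Groth.Agent.Lib.Helper7.Mumford.hU 1 k) _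
  haveI := isIso_structMap_of_isIso e.inv
  have hpush : ∀ (M : (CohB1.ProjSpace 1 k).Modules),
      Curv2.euler k X ((Scheme.Modules.pushforward e.inv).obj M) =
        Curv2.euler k (CohB1.ProjSpace 1 k) M := by
    intro M
    unfold Curv2.euler
    refine finsum_congr fun i => ?_
    rw [Groth.Agent.Lib.Helper7.PushLinear.finrank_push e.inv M k hXS i]
  refine ⟨(Scheme.Modules.pushforward e.inv).obj (Twist.twistProjSpace 1 k ((1 : ℕ) : ℤ)),
    Groth.Agent.Lib.Helper5.isInvertible_pushforward_of_isIso e.inv hinv, ?_, ?_⟩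
  · unfold Curv2.deg
    rw [hpush, euler_twist, euler_eq_of_iso' k (asIso (structMap e.inv)), hpush]
    have h1 : Curv2.euler k (CohB1.ProjSpace 1 k) (Coh.structureModule (CohB1.ProjSpace 1 k)) =
        Curv2.euler k (CohB1.ProjSpace 1 k) (Twist.twistProjSpace 1 k ((0 : ℕ) : ℤ)) :=
      euler_eq_of_iso' k (Groth.Agent.Lib.Helper3.TwistMul.unitIso
        (𝒜 := CohB1.polyGrading 1 k))
    rw [h1, euler_twist]
    push_cast
  · rw [← Groth.Agent.Lib.Helper7.PushLinear.finrank_push e.inv _ k hXS 0, finrank_HH_twist_zero]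

end Main

end Groth.Agent.Lib.Helper23.P1Coh
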