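import Groth.Agent.Lib.Helper23.PtLin2
import Groth.Agent.Lib.Helper23.P1Coh

/-!
# PtLin3: on a curve of genus one with a rational point, degree zero invertible modules correspond
to rational points
-/
set_option autoImplicit false
set_option linter.style.haveILetI false
universe u
open CategoryTheory CategoryTheory.Limits Opposite TopologicalSpace AlgebraicGeometry
open Groth.Agent.Lib.Helper3 Groth.Agent.Lib.Helper3.QCSec Groth.Agent.Lib.Helper3.InvGen
open Groth.Agent.Lib.Helper23.T2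

noncomputable section

namespace Groth.Agent.Lib.Helper23.PtDiv

open Groth.Agent.Lib.Helper23.Curve Groth.Agent.Lib.Helper23.EffCart
  Groth.Agent.Lib.Helper23.DegTensor Groth.Agent.Lib.Helper23.Inverse
  Groth.Agent.Lib.Helper23.DualSec

variable (k : Type u) [Field k] (X : Scheme.{u}) [X.Over (Spec (CommRingCat.of k))]
  [IsProper (X ↘ Spec (CommRingCat.of k))] [IsIntegral X]

attribute [local instance] Curv2.resAlgebra

include k in
/-- a proper integral curve isomorphic to the projective line has genus zero -/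
theorem genus_eq_zero_of_iso (hdim : topologicalKrullDim X = 1) (e : X ≅ CohB1.ProjSpace 1 k)
    (he : e.hom ≫ CohB1.ProjSpace.toSpec 1 k = X ↘ Spec (CommRingCat.of k)) :
    Curv2.genus k X = 0 := by
  haveI := isNoetherian_of_isProper k X
  obtain ⟨L, hL, hdeg, h2⟩ := Groth.Agent.Lib.Helper23.P1Coh.exists_invertible_deg_one k e he
  have h0 := Groth.Agent.Lib.Helper23.GammaField.finrank_h0_eq_one' k hdim.le L hL hdeg
  haveI := finite_HH k L (isCoh_of_isInvertible hL) 0
  have hnt : Nontrivial (Coh.HH X L 0) := Module.nontrivial_of_finrank_pos (R := k) (by omega)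
  obtain ⟨hle, hgen⟩ := Groth.Agent.S1564.result k X hdim h0 L hL hnt
  rw [hdeg] at hle hgen
  apply hgen _ one_pos
  have : (Module.finrank k (Coh.HH X L 0) : ℤ) ≤ 2 := hle
  omega

/-- cancelling an invertible module: `dual L ⊗ (L ⊗ F) ≅ F` -/
theorem nonempty_cancel_iso {L : X.Modules} (hL : PicF.IsInvertible L) (F : X.Modules) :
    Nonempty (CohB1.tensorMod (dual L) (CohB1.tensorMod L F) ≅ F) := by
  obtain ⟨e⟩ := tensor_dual_iso hL
  exact ⟨(InvMonoidal.assoc (dual L) L F).symm ≪≫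
    InvMonoidal.tensorMapIso (InvMonoidal.braid (dual L) L ≪≫ e) (Iso.refl F) ≪≫
    InvMonoidal.unitorL F⟩

/-- `L ⊗ (dual L ⊗ F) ≅ F` -/
theorem nonempty_cancel_iso' {L : X.Modules} (hL : PicF.IsInvertible L) (F : X.Modules) :
    Nonempty (CohB1.tensorMod L (CohB1.tensorMod (dual L) F) ≅ F) := by
  obtain ⟨e⟩ := tensor_dual_iso hL
  exact ⟨(InvMonoidal.assoc L (dual L) F).symm ≪≫
    InvMonoidal.tensorMapIso e (Iso.refl F) ≪≫ InvMonoidal.unitorL F⟩

include k in
/-- existence: a degree zero invertible module on a genus one curve with a rational point `O`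
is `O(P - O)` for a rational point `P` -/
theorem exists_point_of_deg_zero (hdim : topologicalKrullDim X = 1)
    (hreg : ∀ x : X, IsClosed ({x} : Set X) → IsIntegrallyClosed (X.presheaf.stalk x))
    (hg : Curv2.genus k X = 1) (O : X) (hOc : IsClosed ({O} : Set X))
    (hOrat : Module.finrank k (X.residueField O) = 1)
    (L : X.Modules) (hL : PicF.IsInvertible L) (hdeg : Curv2.deg k X L 1 = 0) :
    ∃ (P : X) (hP : IsClosed ({P} : Set X)), Module.finrank k (X.residueField P) = 1 ∧
      Nonempty (CohB1.tensorMod L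
        (ClSub.idealMod (Scheme.IdealSheafData.vanishingIdeal ⟨{P}, hP⟩)) ≅
          ClSub.idealMod (Scheme.IdealSheafData.vanishingIdeal ⟨{O}, hOc⟩)) := by
  haveI := isNoetherian_of_isProper k X
  obtain ⟨hInvO, hdegO⟩ := isInvertible_and_deg_idealMod_point k X hdim O hOc (hreg O hOc)
  have hdL := isInvertible_dual hL
  have hJ : PicF.IsInvertible (CohB1.tensorMod (dual L)
      (ClSub.idealMod (Scheme.IdealSheafData.vanishingIdeal ⟨{O}, hOc⟩))) :=
    InvTensor.isInvertible_tensorMod hdL hInvO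
  have hdegJ : Curv2.deg k X (CohB1.tensorMod (dual L)
      (ClSub.idealMod (Scheme.IdealSheafData.vanishingIdeal ⟨{O}, hOc⟩))) 1 = -1 := by
    rw [deg_tw k hdim.le (isFinLocFreeOfRank_one_of_isInvertible hdL) hInvO,
      deg_dual k hdim.le hL, hdeg, hdegO, hOrat]
    norm_num
  have hdJ := isInvertible_dual hJ
  have hdegdJ := deg_dual k hdim.le hJ
  rw [hdegJ] at hdegdJ
  have hdegdJ' : Curv2.deg k X (dual (CohB1.tensorMod (dual L)
      (ClSub.idealMod (Scheme.IdealSheafData.vanishingIdeal ⟨{O}, hOc⟩)))) 1 = 1 := by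
    rw [hdegdJ]; norm_num
  have h0 := Groth.Agent.Lib.Helper23.GammaField.finrank_h0_eq_one' k hdim.le _ hdJ hdegdJ'
  have hχO : Curv2.euler k X (Coh.structureModule X) = 0 := by
    rw [euler_structureModule k hdim.le h0, hg]
    norm_num
  have hχ : Curv2.euler k X (dual (CohB1.tensorMod (dual L)
      (ClSub.idealMod (Scheme.IdealSheafData.vanishingIdeal ⟨{O}, hOc⟩)))) = 1 := by
    have h1 := hdegdJ'
    unfold Curv2.deg at h1
    rw [hχO] at h1
    linarith
  rw [euler_eq_h0_sub_h1 k hdim.le _ (isCoh_of_isInvertible hdJ)] at hχ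
  haveI := finite_HH k _ (isCoh_of_isInvertible hdJ) 0
  have hnt : Nontrivial (Coh.HH X (dual (CohB1.tensorMod (dual L)
      (ClSub.idealMod (Scheme.IdealSheafData.vanishingIdeal ⟨{O}, hOc⟩)))) 0) :=
    Module.nontrivial_of_finrank_pos (R := k) (by omega)
  obtain ⟨P, hPcl, hPrat, ⟨ψ⟩⟩ := exists_iso_idealMod_point k X hdim hJ hdegJ hreg hnt
  obtain ⟨c⟩ := nonempty_cancel_iso' X hL
    (ClSub.idealMod (Scheme.IdealSheafData.vanishingIdeal ⟨{O}, hOc⟩))
  exact ⟨P, hPcl, hPrat, ⟨InvMonoidal.tensorMapIso (Iso.refl L) ψ.symm ≪≫ c⟩⟩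

include k in
/-- uniqueness -/
theorem point_unique_of_deg_zero (hdim : topologicalKrullDim X = 1)
    (hreg : ∀ x : X, IsClosed ({x} : Set X) → IsIntegrallyClosed (X.presheaf.stalk x))
    (hg : Curv2.genus k X = 1) (F : X.Modules)
    (L : X.Modules) (hL : PicF.IsInvertible L)
    (P P' : X) (hP : IsClosed ({P} : Set X)) (hP' : IsClosed ({P'} : Set X))
    (hPrat : Module.finrank k (X.residueField P) = 1)
    (h1 : Nonempty (CohB1.tensorMod L
        (ClSub.idealMod (Scheme.IdealSheafData.vanishingIdeal ⟨{P}, hP⟩)) ≅ F))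
    (h2 : Nonempty (CohB1.tensorMod L
        (ClSub.idealMod (Scheme.IdealSheafData.vanishingIdeal ⟨{P'}, hP'⟩)) ≅ F)) :
    P = P' := by
  by_contra hne
  obtain ⟨e1⟩ := h1
  obtain ⟨e2⟩ := h2
  obtain ⟨c1⟩ := nonempty_cancel_iso X hL
    (ClSub.idealMod (Scheme.IdealSheafData.vanishingIdeal ⟨{P}, hP⟩))
  obtain ⟨c2⟩ := nonempty_cancel_iso X hL
    (ClSub.idealMod (Scheme.IdealSheafData.vanishingIdeal ⟨{P'}, hP'⟩))
  have φ : ClSub.idealMod (Scheme.IdealSheafData.vanishingIdeal ⟨{P}, hP⟩) ≅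
      ClSub.idealMod (Scheme.IdealSheafData.vanishingIdeal ⟨{P'}, hP'⟩) :=
    c1.symm ≪≫ InvMonoidal.tensorMapIso (Iso.refl (dual L)) (e1 ≪≫ e2.symm) ≪≫ c2
  obtain ⟨e, he⟩ := iso_projectiveLine_of_iso k X hdim P P' hP hP' hne (hreg P hP) hPrat φ
  have := genus_eq_zero_of_iso k X hdim e he
  omega

end Groth.Agent.Lib.Helper23.PtDiv
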