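import Groth.Agent.Lib.Helper7.CurveGG
import Groth.Agent.Lib.Helper7.PtSec2
import Groth.Agent.Lib.Helper23.PtLin3
import Groth.Agent.Lib.Helper23.GeomH0
import Groth.Agent.Lib.Helper23.AmpleCurve6
import Groth.Agent.Lib.Helper23.Sat

/-!
# GenDiv: general divisors on a proper integral curve over an algebraically closed field

By twisting down by closed points (non base points keep `H¹ = 0`; base points keep `h⁰`), we
produce, without duality, invertible modules of every degree `d ≥ g - 1` with `H¹ = 0`, and of every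
degree `r ≤ g` with `h⁰ = 1`.
-/
set_option autoImplicit false
set_option linter.style.haveILetI false
universe u
open CategoryTheory CategoryTheory.Limits Opposite TopologicalSpace AlgebraicGeometry
open Scheme.Modules
open Groth.Agent.Lib.Helper3 Groth.Agent.Lib.Helper3.QCSec Groth.Agent.Lib.Helper3.InvGen
open Groth.Agent.Lib.Helper23.T2

noncomputable section

namespace Groth.Agent.Lib.Helper23.GenDiv

open Groth.Agent.Lib.Helper23.Curve Groth.Agent.Lib.Helper23.EffCart
  Groth.Agent.Lib.Helper23.DegTensor Groth.Agent.Lib.Helper23.Inverse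
  Groth.Agent.Lib.Helper7.PtDiv Groth.Agent.Lib.Helper7.CurvePair

variable (k : Type u) [Field k] [IsAlgClosed k] (X : Scheme.{u}) [X.Over (Spec (CommRingCat.of k))]
  [IsProper (X ↘ Spec (CommRingCat.of k))] [IsIntegral X]

include k in
theorem jacobsonSpace : JacobsonSpace X :=
  LocallyOfFiniteType.jacobsonSpace (X ↘ Spec (CommRingCat.of k))

/-- `h⁰(O) = 1` -/
theorem h0_one : Module.finrank k (Coh.HH X (Coh.structureModule X) 0) = 1 :=
  Groth.Agent.Lib.Helper23.GeomH0.finrank_H0_eq_one_of_isAlgClosed k X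

/-- twisting down by a closed normal point: invertible of degree one less -/
theorem twist_point (hdim : topologicalKrullDim X = 1) (x : X) (hx : IsClosed ({x} : Set X))
    (hn : IsIntegrallyClosed (X.presheaf.stalk x)) {L : X.Modules} (hL : PicF.IsInvertible L) :
    PicF.IsInvertible (CohB1.tensorMod (ClSub.idealMod
        (Scheme.IdealSheafData.vanishingIdeal ⟨{x}, hx⟩)) L) ∧
      Curv2.deg k X (CohB1.tensorMod (ClSub.idealMod
        (Scheme.IdealSheafData.vanishingIdeal ⟨{x}, hx⟩)) L) 1 = Curv2.deg k X L 1 - 1 := by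
  have hI := (Groth.Agent.Lib.Helper23.PtDiv.isInvertible_and_deg_idealMod_point k X hdim x hx hn).1
  refine ⟨InvTensor.isInvertible_tensorMod hI hL, ?_⟩
  have h0 := h0_one k X
  let Zc : Closeds X := ⟨{x}, hx⟩
  have hsupp : ((Scheme.IdealSheafData.vanishingIdeal Zc).support : Set X) = {x} :=
    Scheme.IdealSheafData.coe_support_vanishingIdeal Zc
  have hZ : topologicalKrullDim ((Scheme.IdealSheafData.vanishingIdeal Zc).support : Set X) ≤ 0 := by
    rw [hsupp]
    exact topologicalKrullDim_singleton_le_zero x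
  have hχ := euler_ideal_tensor k hdim.le h0 hL (Scheme.IdealSheafData.vanishingIdeal Zc) hZ
  have hQ := finrank_h0_quotMod_closedPoint k x hx
  have hO := euler_structureModule k hdim.le h0
  unfold Curv2.deg at hχ ⊢
  rw [hχ, hQ, hO]
  push_cast
  ring

include k in
/-- a closed point exists in every nonempty open -/
theorem exists_closed_mem (U : X.Opens) (hU : (U : Set X).Nonempty) :
    ∃ x : X, IsClosed ({x} : Set X) ∧ x ∈ U := by
  haveI := jacobsonSpace k X
  obtain ⟨x, hxU, hx⟩ := nonempty_inter_closedPoints hU U.isOpen.isLocallyClosed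
  exact ⟨x, hx, hxU⟩

/-- step down at a non base point: `H¹ = 0` is kept -/
theorem step_h1 (hdim : topologicalKrullDim X = 1)
    (hn : ∀ x : X, IsClosed ({x} : Set X) → IsIntegrallyClosed (X.presheaf.stalk x))
    {M : X.Modules} (hM : PicF.IsInvertible M) (h1 : Subsingleton (Coh.HH X M 1))
    (hd : (Curv2.genus k X : ℤ) ≤ Curv2.deg k X M 1) :
    ∃ M' : X.Modules, PicF.IsInvertible M' ∧ Curv2.deg k X M' 1 = Curv2.deg k X M 1 - 1 ∧
      Subsingleton (Coh.HH X M' 1) := by
  haveI := isNoetherian_of_isProper k X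
  have h0 := h0_one k X
  have hrr := riemann_roch k hdim.le h0 hM
  have e1 : Module.finrank k (Coh.HH X M 1) = 0 := Module.finrank_zero_of_subsingleton
  rw [e1] at hrr
  push_cast at hrr
  haveI : Module.Finite k (Coh.HH X M 0) := finite_HH k M (isCoh_of_isInvertible hM) 0
  have hpos : 0 < Module.finrank k (Coh.HH X M 0) := by
    have : (0 : ℤ) < (Module.finrank k (Coh.HH X M 0) : ℤ) := by linarith
    exact_mod_cast this
  have hnt : Nontrivial (Coh.HH X M 0) := Module.nontrivial_of_finrank_pos (R := k) hpos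
  obtain ⟨s, hs⟩ := exists_section_of_nontrivial M hnt
  obtain ⟨y, hy⟩ := Groth.Agent.Lib.Helper23.AmpleCurve.exists_mem_genLocus hM s hs
  obtain ⟨x, hx, hxU⟩ := exists_closed_mem k X (CohB1.genLocus M s) ⟨y, hy⟩
  have hs' : InvAmple.globalHom M (sec s ⊤) = s :=
    hom_ext_sec _ _ (sec_globalHom_top M _)
  obtain ⟨hI, hdeg⟩ := twist_point k X hdim x hx (hn x hx) hM
  refine ⟨_, hI, hdeg, ?_⟩
  have hadd := h0_ideal_tensor_add_one k hM x hx (sec s ⊤) (by rw [hs']; exact hxU)
  have hrr' := riemann_roch k hdim.le h0 hI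
  rw [hdeg] at hrr'
  haveI : Module.Finite k (Coh.HH X (CohB1.tensorMod (ClSub.idealMod
      (Scheme.IdealSheafData.vanishingIdeal ⟨{x}, hx⟩)) M) 1) :=
    finite_HH k _ (isCoh_of_isInvertible hI) 1
  have hadd' : (Module.finrank k (Coh.HH X (CohB1.tensorMod (ClSub.idealMod
      (Scheme.IdealSheafData.vanishingIdeal ⟨{x}, hx⟩)) M) 0) : ℤ) + 1 =
      (Module.finrank k (Coh.HH X M 0) : ℤ) := by exact_mod_cast hadd
  have hz : Module.finrank k (Coh.HH X (CohB1.tensorMod (ClSub.idealMod
      (Scheme.IdealSheafData.vanishingIdeal ⟨{x}, hx⟩)) M) 1) = 0 := by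
    have : (Module.finrank k (Coh.HH X (CohB1.tensorMod (ClSub.idealMod
      (Scheme.IdealSheafData.vanishingIdeal ⟨{x}, hx⟩)) M) 1) : ℤ) = 0 := by linarith
    exact_mod_cast this
  exact Module.finrank_zero_iff.mp hz

/-- an invertible module of degree one -/
theorem exists_invertible_deg_one (hdim : topologicalKrullDim X = 1)
    (hn : ∀ x : X, IsClosed ({x} : Set X) → IsIntegrallyClosed (X.presheaf.stalk x)) :
    ∃ A : X.Modules, PicF.IsInvertible A ∧ Curv2.deg k X A 1 = 1 := by
  obtain ⟨y⟩ : Nonempty X := inferInstance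
  obtain ⟨x, hx, -⟩ := exists_closed_mem k X ⊤ ⟨y, trivial⟩
  obtain ⟨hI, hdeg⟩ := twist_point k X hdim x hx (hn x hx) (isInvertible_structureModule X)
  refine ⟨_, isInvertible_dual hI, ?_⟩
  rw [deg_dual k hdim.le hI, hdeg, deg_structureModule_one]
  norm_num

/-- the downward chain -/
theorem exists_chain (hdim : topologicalKrullDim X = 1)
    (hn : ∀ x : X, IsClosed ({x} : Set X) → IsIntegrallyClosed (X.presheaf.stalk x)) (N : ℕ)
    (hN : 2 * (Curv2.genus k X : ℤ) - 1 ≤ N) (n : ℕ) :
    (Curv2.genus k X : ℤ) - 1 ≤ (N : ℤ) - n →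
    ∃ M : X.Modules, PicF.IsInvertible M ∧ Curv2.deg k X M 1 = (N : ℤ) - n ∧
      Subsingleton (Coh.HH X M 1) := by
  induction n with
  | zero =>
    intro _
    obtain ⟨A, hA, hdA⟩ := exists_invertible_deg_one k X hdim hn
    have hP := InvTensor.isInvertible_tensorPow hA N
    have hdP : Curv2.deg k X (CohB1.tensorPow A N) 1 = (N : ℤ) - (0 : ℕ) := by
      rw [Groth.Agent.Lib.Helper23.AmpleCurve.deg_tensorPow k hdim.le hA N, hdA]
      push_cast
      ring
    refine ⟨_, hP, hdP, ?_⟩
    exact h1_vanish_of_deg_ge' k hdim.le (h0_one k X) hP (by rw [hdP]; push_cast; linarith)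
  | succ n ih =>
    intro h
    push_cast at h
    obtain ⟨M, hM, hdM, h1M⟩ := ih (by linarith)
    obtain ⟨M', hM', hdM', h1M'⟩ := step_h1 k X hdim hn hM h1M (by rw [hdM]; linarith)
    refine ⟨M', hM', ?_, h1M'⟩
    rw [hdM', hdM]
    push_cast
    ring

/-- every degree `d ≥ g - 1` carries an invertible module with `H¹ = 0` -/
theorem exists_invertible_deg_h1_zero (hdim : topologicalKrullDim X = 1)
    (hn : ∀ x : X, IsClosed ({x} : Set X) → IsIntegrallyClosed (X.presheaf.stalk x)) (d : ℤ)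
    (hd : (Curv2.genus k X : ℤ) - 1 ≤ d) :
    ∃ M : X.Modules, PicF.IsInvertible M ∧ Curv2.deg k X M 1 = d ∧
      Subsingleton (Coh.HH X M 1) := by
  -- `N = max d (2g)`
  obtain ⟨N, hN1, hN2⟩ : ∃ N : ℕ, 2 * (Curv2.genus k X : ℤ) - 1 ≤ N ∧ d ≤ N := by
    refine ⟨max d.toNat (2 * Curv2.genus k X), ?_, ?_⟩
    · have : (2 * Curv2.genus k X : ℕ) ≤ max d.toNat (2 * Curv2.genus k X) := le_max_right _ _
      have h2 : ((2 * Curv2.genus k X : ℕ) : ℤ) ≤ (max d.toNat (2 * Curv2.genus k X) : ℕ) := by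
        exact_mod_cast this
      push_cast at h2 ⊢
      linarith
    · have : d.toNat ≤ max d.toNat (2 * Curv2.genus k X) := le_max_left _ _
      have h2 : (d.toNat : ℤ) ≤ (max d.toNat (2 * Curv2.genus k X) : ℕ) := by exact_mod_cast this
      have h3 := Int.self_le_toNat d
      linarith
  obtain ⟨n, hn'⟩ : ∃ n : ℕ, (N : ℤ) - n = d := ⟨((N : ℤ) - d).toNat, by
    rw [Int.toNat_of_nonneg (by linarith)]; ring⟩
  obtain ⟨M, hM, hdM, h1M⟩ := exists_chain k X hdim hn N hN1 n (by rw [hn']; exact hd)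
  exact ⟨M, hM, hdM.trans hn', h1M⟩

/-- step down at a base point: `h⁰ = 1` is kept -/
theorem step_h0 (hdim : topologicalKrullDim X = 1)
    (hn : ∀ x : X, IsClosed ({x} : Set X) → IsIntegrallyClosed (X.presheaf.stalk x))
    {L : X.Modules} (hL : PicF.IsInvertible L) (h0L : Module.finrank k (Coh.HH X L 0) = 1)
    (hd : 0 < Curv2.deg k X L 1) :
    ∃ L' : X.Modules, PicF.IsInvertible L' ∧ Curv2.deg k X L' 1 = Curv2.deg k X L 1 - 1 ∧
      Module.finrank k (Coh.HH X L' 0) = 1 := by
  haveI := isNoetherian_of_isProper k X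
  have hnt : Nontrivial (Coh.HH X L 0) := Module.nontrivial_of_finrank_pos (R := k) (by omega)
  obtain ⟨s, hs⟩ := exists_section_of_nontrivial L hnt
  -- a zero of `s`
  obtain ⟨x, hxs⟩ : ∃ x : X, x ∉ CohB1.genLocus L s := by
    by_contra hcon
    push Not at hcon
    have htop : CohB1.genLocus L s = ⊤ := by
      ext y
      simp only [Opens.coe_top, Set.mem_univ, iff_true]
      exact hcon y
    haveI := Groth.Agent.Lib.Helper23.AmpleCurve.isIso_of_genLocus_eq_top s htop
    have hdeg0 := Groth.Agent.Lib.Helper23.Sat.deg_eq_of_iso k hdim.le (asIso s)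
      (isFinLocFreeOfRank_one_of_isInvertible (isInvertible_structureModule X))
    rw [deg_structureModule_one] at hdeg0
    omega
  obtain ⟨y, hy⟩ := Groth.Agent.Lib.Helper23.AmpleCurve.exists_mem_genLocus hL s hs
  have hgen : genericPoint X ∈ CohB1.genLocus L s :=
    ((genericPoint_spec X).mem_open_set_iff (CohB1.genLocus L s).isOpen).mpr
      ⟨y, Set.mem_univ y, hy⟩
  have hx : IsClosed ({x} : Set X) :=
    Groth.Agent.Lib.Helper23.AmpleCurve.isClosed_singleton_of_ne_genericPoint hdim.le x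
      (fun h => hxs (h ▸ hgen))
  have hs' : InvAmple.globalHom L (sec s ⊤) = s :=
    hom_ext_sec _ _ (sec_globalHom_top L _)
  obtain ⟨hI, hdeg⟩ := twist_point k X hdim x hx (hn x hx) hL
  refine ⟨_, hI, hdeg, ?_⟩
  obtain ⟨n, hn'⟩ := exists_lift_of_notMem_genLocus x hx hL (sec s ⊤) (by rw [hs']; exact hxs)
  have hne : n ≠ 0 := by
    intro h0
    apply hs
    rw [← hs', ← hn', h0, map_zero]
    exact hom_ext_sec _ _ (by rw [sec_globalHom_top]; rfl)
  have hle := (h0_twist_point k x hx hL).1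
  rw [h0L] at hle
  haveI : Module.Finite k (Coh.HH X (CohB1.tensorMod (ClSub.idealMod
      (Scheme.IdealSheafData.vanishingIdeal ⟨{x}, hx⟩)) L) 0) :=
    finite_HH k _ (isCoh_of_isInvertible hI) 0
  haveI : Nontrivial (Coh.HH X (CohB1.tensorMod (ClSub.idealMod
      (Scheme.IdealSheafData.vanishingIdeal ⟨{x}, hx⟩)) L) 0) := by
    haveI : Nontrivial (Γm (CohB1.tensorMod (ClSub.idealMod
        (Scheme.IdealSheafData.vanishingIdeal ⟨{x}, hx⟩)) L)) := ⟨⟨n, 0, hne⟩⟩
    exact (H0equiv _).toEquiv.nontrivial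
  have hpos : 0 < Module.finrank k (Coh.HH X (CohB1.tensorMod (ClSub.idealMod
      (Scheme.IdealSheafData.vanishingIdeal ⟨{x}, hx⟩)) L) 0) := Module.finrank_pos
  omega

/-- every degree `0 ≤ r ≤ g` carries an invertible module with `h⁰ = 1` -/
theorem exists_invertible_deg_h0_one (hdim : topologicalKrullDim X = 1)
    (hn : ∀ x : X, IsClosed ({x} : Set X) → IsIntegrallyClosed (X.presheaf.stalk x)) (n : ℕ) :
    n ≤ Curv2.genus k X →
    ∃ L : X.Modules, PicF.IsInvertible L ∧ Curv2.deg k X L 1 = (Curv2.genus k X : ℤ) - n ∧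
      Module.finrank k (Coh.HH X L 0) = 1 := by
  induction n with
  | zero =>
    intro _
    obtain ⟨M, hM, hdM, h1M⟩ := exists_invertible_deg_h1_zero k X hdim hn (Curv2.genus k X)
      (by linarith)
    refine ⟨M, hM, by rw [hdM]; push_cast; ring, ?_⟩
    have hrr := riemann_roch k hdim.le (h0_one k X) hM
    have e1 : Module.finrank k (Coh.HH X M 1) = 0 := Module.finrank_zero_of_subsingleton
    rw [e1, hdM] at hrr
    push_cast at hrr
    have : (Module.finrank k (Coh.HH X M 0) : ℤ) = 1 := by linarith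
    exact_mod_cast this
  | succ n ih =>
    intro h
    obtain ⟨L, hL, hdL, h0L⟩ := ih (by omega)
    have hpos : 0 < Curv2.deg k X L 1 := by
      rw [hdL]
      have : ((n + 1 : ℕ) : ℤ) ≤ (Curv2.genus k X : ℤ) := by exact_mod_cast h
      push_cast at this
      linarith
    obtain ⟨L', hL', hdL', h0L'⟩ := step_h0 k X hdim hn hL h0L hpos
    refine ⟨L', hL', ?_, h0L'⟩
    rw [hdL', hdL]
    push_cast
    ring

end Groth.Agent.Lib.Helper23.GenDiv
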