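import Mathlib
import Groth.Prelude.Def_DeRham

/-!
# Helper lemmas for the rule-based de Rham predicates of `Groth.Prelude.Def_DeRham`
-/

set_option autoImplicit false
universe v u

open exteriorPower

namespace Groth.Agent.Lib.Helper23.DeRhamAux

variable {R : Type v} {A M : Type u} [CommRing R] [CommRing A] [Algebra R A]
  [AddCommGroup M] [Module A M] [Module R M]

/-- Induction principle: when `δ(A)` spans `M`, the elements `b₀ · δb₁ ∧ … ∧ δb_p` generate `⋀^p M` additively. -/
theorem gen_induction (δ : Derivation R A M) (hspan : Submodule.span A (Set.range δ) = ⊤) (p : ℕ)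
    (P : ↥(⋀[A]^p M) → Prop) (h0 : P 0) (hadd : ∀ x y, P x → P y → P (x + y))
    (hgen : ∀ (b₀ : A) (b : Fin p → A), P (DeRham.gen δ p b₀ b)) (x : ↥(⋀[A]^p M)) : P x := by
  have hx : x ∈ Submodule.span A (ιMulti A p '' {a : Fin p → M | Set.range a ⊆ Set.range δ}) := by
    rw [exteriorPower.ιMulti_span_of_span A p M hspan]; trivial
  refine Submodule.closure_induction (p := fun x _ => P x) h0 (fun x y _ _ hx hy => hadd x y hx hy) ?_ hx
  rintro r _ ⟨a, ha, rfl⟩
  have : ∀ i : Fin p, ∃ b : A, δ b = a i := fun i => ha ⟨i, rfl⟩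
  choose b hb using this
  have : a = fun i => δ (b i) := by
    funext i; exact (hb i).symm
  rw [this]
  exact hgen r b

/-- The value of a family satisfying the rule on a generator, written again as a generator. -/
theorem rule_gen [IsScalarTower R A M] (δ : Derivation R A M)
    (d : ∀ p : ℕ, ↥(⋀[A]^p M) →ₗ[R] ↥(⋀[A]^(p + 1) M)) (hd : DeRham.IsRule δ d)
    (p : ℕ) (b₀ : A) (b : Fin p → A) :
    d p (DeRham.gen δ p b₀ b) = DeRham.gen δ (p + 1) 1 (Fin.cons b₀ b) := by
  rw [hd p b₀ b]
  unfold DeRham.gen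
  rw [one_smul]
  congr 1
  funext i
  refine Fin.cases ?_ (fun j => ?_) i
  · simp
  · simp

/-- Kähler differentials are spanned by the image of the universal derivation. -/
theorem kaehler_span (R A : Type u) [CommRing R] [CommRing A] [Algebra R A] :
    Submodule.span A (Set.range (KaehlerDifferential.D R A)) = ⊤ :=
  KaehlerDifferential.span_range_derivation R A

end Groth.Agent.Lib.Helper23.DeRhamAux

namespace Groth.Agent.Lib.Helper23.DeRhamAux

variable {R : Type v} {A M : Type u} [CommRing R] [CommRing A] [Algebra R A]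
  [AddCommGroup M] [Module A M] [Module R M]

theorem smul_gen (δ : Derivation R A M) (p : ℕ) (a b₀ : A) (b : Fin p → A) :
    a • DeRham.gen δ p b₀ b = DeRham.gen δ p (a * b₀) b := by
  unfold DeRham.gen
  rw [mul_smul]

/-- wedge with a sum in the first slot -/
theorem ιMulti_cons_add (p : ℕ) (x y : M) (m : Fin p → M) :
    ιMulti A (p + 1) (Fin.cons (x + y) m : Fin (p + 1) → M) =
      ιMulti A (p + 1) (Fin.cons x m : Fin (p + 1) → M) + ιMulti A (p + 1) (Fin.cons y m : Fin (p + 1) → M) :=
  (ιMulti A (p + 1) (M := M)).toMultilinearMap.cons_add m x y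

/-- wedge with a scalar multiple in the first slot -/
theorem ιMulti_cons_smul (p : ℕ) (c : A) (x : M) (m : Fin p → M) :
    ιMulti A (p + 1) (Fin.cons (c • x) m : Fin (p + 1) → M) =
      c • ιMulti A (p + 1) (Fin.cons x m : Fin (p + 1) → M) :=
  (ιMulti A (p + 1) (M := M)).toMultilinearMap.cons_smul m c x

/-- The commutator of a family satisfying the rule with multiplication by `b`, on a generator. -/
theorem rule_comm_gen [IsScalarTower R A M] (δ : Derivation R A M)
    (d : ∀ p : ℕ, ↥(⋀[A]^p M) →ₗ[R] ↥(⋀[A]^(p + 1) M)) (hd : DeRham.IsRule δ d)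
    (p : ℕ) (b c : A) (b' : Fin p → A) :
    d p (b • DeRham.gen δ p c b') - b • d p (DeRham.gen δ p c b') =
      c • ιMulti A (p + 1) (Fin.cons (δ b) (fun i => δ (b' i)) : Fin (p + 1) → M) := by
  rw [smul_gen, hd, hd, Derivation.leibniz, ιMulti_cons_add, ιMulti_cons_smul, ιMulti_cons_smul]
  abel

end Groth.Agent.Lib.Helper23.DeRhamAux
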