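import Mathlib

/-!
# NodeAlgA: the node algebra `K[[x,y]]/(xy)` embeds in `K[[t]] × K[[t]]`

The two "face" maps `K[[x,y]] → K[[t]]` (restriction to the axes), the kernel and the range of the
resulting map to the product.
-/
set_option autoImplicit false
universe u
open MvPowerSeries

noncomputable section

namespace Groth.Agent.Lib.Helper23.NodeAlg

variable (K : Type u) [Field K]

/-- restriction of a power series in two variables to the `s`-axis -/
def face (s : Fin 2) : MvPowerSeries (Fin 2) K →+* PowerSeries K where
  toFun f := PowerSeries.mk fun i => MvPowerSeries.coeff (Finsupp.single s i) f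
  map_one' := by
    ext i
    rw [PowerSeries.coeff_mk, PowerSeries.coeff_one, MvPowerSeries.coeff_one]
    simp only [Finsupp.single_eq_zero]
  map_mul' f g := by
    ext i
    rw [PowerSeries.coeff_mk, PowerSeries.coeff_mul, MvPowerSeries.coeff_mul,
      Finsupp.antidiagonal_single, Finset.sum_map]
    refine Finset.sum_congr rfl (fun p _ => ?_)
    simp only [Function.Embedding.coe_prodMap, Function.Embedding.coeFn_mk,
      PowerSeries.coeff_mk]
    rfl
  map_zero' := by
    ext i
    rw [PowerSeries.coeff_mk]
    simp
  map_add' f g := by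
    ext i
    simp only [PowerSeries.coeff_mk, map_add]

variable {K}

theorem coeff_face (s : Fin 2) (f : MvPowerSeries (Fin 2) K) (i : ℕ) :
    PowerSeries.coeff i (face K s f) = MvPowerSeries.coeff (Finsupp.single s i) f :=
  PowerSeries.coeff_mk i (fun i => MvPowerSeries.coeff (Finsupp.single s i) f)

theorem face_X_self (s : Fin 2) : face K s (MvPowerSeries.X s) = PowerSeries.X := by
  classical
  ext i
  rw [coeff_face, MvPowerSeries.coeff_X, PowerSeries.coeff_X]
  by_cases hi : i = 1
  · subst hi
    simp
  · rw [if_neg hi, if_neg]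
    intro h
    exact hi (Finsupp.single_injective s h)

theorem face_X_ne {s t : Fin 2} (h : s ≠ t) : face K s (MvPowerSeries.X t) = 0 := by
  classical
  ext i
  rw [coeff_face, MvPowerSeries.coeff_X, map_zero, if_neg]
  intro h'
  have h1 := DFunLike.congr_fun h' t
  rw [Finsupp.single_eq_same, Finsupp.single_eq_of_ne (Ne.symm h)] at h1
  exact one_ne_zero h1.symm

theorem face_C (s : Fin 2) (c : K) : face K s (MvPowerSeries.C c) = PowerSeries.C c := by
  classical
  ext i
  rw [coeff_face, MvPowerSeries.coeff_C, PowerSeries.coeff_C]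
  simp only [Finsupp.single_eq_zero]

variable (K)

/-- the map to the product -/
def toProd : MvPowerSeries (Fin 2) K →+* PowerSeries K × PowerSeries K :=
  (face K 0).prod (face K 1)

variable {K}

theorem toProd_apply (f : MvPowerSeries (Fin 2) K) : toProd K f = (face K 0 f, face K 1 f) := rfl

theorem eq_single_zero (m : Fin 2 →₀ ℕ) (h : m 1 = 0) : m = Finsupp.single 0 (m 0) := by
  ext i
  fin_cases i
  · simp
  · simpa using h

theorem eq_single_one (m : Fin 2 →₀ ℕ) (h : m 0 = 0) : m = Finsupp.single 1 (m 1) := by
  ext i
  fin_cases i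
  · simpa using h
  · simp

theorem ker_toProd : RingHom.ker (toProd K) =
    Ideal.span {(MvPowerSeries.X 0 * MvPowerSeries.X 1 : MvPowerSeries (Fin 2) K)} := by
  classical
  apply le_antisymm
  · intro f hf
    rw [RingHom.mem_ker, toProd_apply, Prod.mk_eq_zero] at hf
    obtain ⟨h0, h1⟩ := hf
    have hc0 : ∀ i, MvPowerSeries.coeff (Finsupp.single 0 i) f = 0 := fun i => by
      rw [← coeff_face, h0, map_zero]
    have hc1 : ∀ i, MvPowerSeries.coeff (Finsupp.single 1 i) f = 0 := fun i => by
      rw [← coeff_face, h1, map_zero]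
    have hd0 : (MvPowerSeries.X 0 : MvPowerSeries (Fin 2) K) ∣ f := by
      rw [MvPowerSeries.X_dvd_iff]
      intro m hm
      rw [eq_single_one m hm]
      exact hc1 _
    obtain ⟨g, rfl⟩ := hd0
    have hd1 : (MvPowerSeries.X 1 : MvPowerSeries (Fin 2) K) ∣ g := by
      rw [MvPowerSeries.X_dvd_iff]
      intro m hm
      have h2 := hc0 (m 0 + 1)
      rw [MvPowerSeries.X_def] at h2
      have h3 : Finsupp.single (0 : Fin 2) (m 0 + 1) = m + Finsupp.single 0 1 := by
        conv_rhs => rw [eq_single_zero m hm]
        rw [← Finsupp.single_add]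
      rw [h3, add_comm m, MvPowerSeries.coeff_add_monomial_mul, one_mul] at h2
      exact h2
    obtain ⟨h, rfl⟩ := hd1
    rw [Ideal.mem_span_singleton]
    exact ⟨h, by ring⟩
  · rw [Ideal.span_le, Set.singleton_subset_iff, SetLike.mem_coe, RingHom.mem_ker, toProd_apply,
      map_mul, map_mul, face_X_ne (show (0 : Fin 2) ≠ 1 by decide),
      face_X_ne (show (1 : Fin 2) ≠ 0 by decide), mul_zero, zero_mul]
    rfl

/-- the range of the map to the product: pairs with the same constant coefficient -/
theorem mem_range_toProd (p q : PowerSeries K) :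
    (p, q) ∈ (toProd K).range ↔ PowerSeries.constantCoeff p = PowerSeries.constantCoeff q := by
  classical
  constructor
  · rintro ⟨f, hf⟩
    rw [toProd_apply, Prod.mk.injEq] at hf
    rw [← hf.1, ← hf.2, ← PowerSeries.coeff_zero_eq_constantCoeff_apply,
      ← PowerSeries.coeff_zero_eq_constantCoeff_apply, coeff_face, coeff_face]
    simp
  · intro h
    refine ⟨fun m => if m 1 = 0 then PowerSeries.coeff (m 0) p else
      if m 0 = 0 then PowerSeries.coeff (m 1) q else 0, ?_⟩
    rw [toProd_apply, Prod.mk.injEq]
    constructor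
    · ext i
      rw [coeff_face]
      show (if (Finsupp.single (0 : Fin 2) i) 1 = 0 then
        PowerSeries.coeff ((Finsupp.single (0 : Fin 2) i) 0) p else _) = _
      rw [if_pos (by simp)]
      simp
    · ext j
      rw [coeff_face]
      show (if (Finsupp.single (1 : Fin 2) j) 1 = 0 then
        PowerSeries.coeff ((Finsupp.single (1 : Fin 2) j) 0) p else
        if (Finsupp.single (1 : Fin 2) j) 0 = 0 then
          PowerSeries.coeff ((Finsupp.single (1 : Fin 2) j) 1) q else 0) = _
      by_cases hj : j = 0
      · subst hj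
        simp only [Finsupp.single_zero, Finsupp.coe_zero, Pi.zero_apply, if_true]
        rw [PowerSeries.coeff_zero_eq_constantCoeff_apply, PowerSeries.coeff_zero_eq_constantCoeff_apply, h]
      · rw [if_neg (by simpa using hj), if_pos (by simp)]
        simp

end Groth.Agent.Lib.Helper23.NodeAlg
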