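import Groth.Agent.Lib.Helper23.GenusZeroSmooth
import Groth.Agent.Lib.Helper23.FBC5
import Groth.Agent.Lib.Helper12.BaseChange
import Groth.Agent.Lib.Helper8.SmoothLocusBC
import Groth.Agent.Lib.Helper3.PbBasic

/-!
# GeomCurve: geometrically integral proper curves: `h⁰(O) = 1`, and genus zero implies smooth
-/
set_option autoImplicit false
set_option linter.style.haveILetI false
universe u
open CategoryTheory CategoryTheory.Limits Opposite TopologicalSpace AlgebraicGeometry
open Groth.Agent.Lib.Helper23.T2

noncomputable section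

namespace Groth.Agent.Lib.Helper23.GeomCurve

open Groth.Agent.Lib.Helper23.FBC Groth.Agent.Lib.Helper3.PbBasic

variable (k : Type u) [Field k] (X : Scheme.{u}) [X.Over (Spec (CommRingCat.of k))]
  [IsProper (X ↘ Spec (CommRingCat.of k))] [GeometricallyIntegral (X ↘ Spec (CommRingCat.of k))]

/-- the base change to the algebraic closure is integral -/
theorem isIntegral_bc :
    IsIntegral (Curv2.bc k X (AlgebraicClosure k)) :=
  (inferInstance : GeometricallyIntegral (X ↘ Spec (CommRingCat.of k))).geometrically_isIntegral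
    (Spec.map (CommRingCat.ofHom (algebraMap k (AlgebraicClosure k))))
    (Curv2.bcFst k X (AlgebraicClosure k)) (Curv2.bcSnd k X (AlgebraicClosure k))
    (IsPullback.of_hasPullback _ _)

/-- cohomology of the structure sheaf is invariant under base change to the algebraic closure -/
theorem finrank_structure_bc (p : ℕ) :
    letI : (Curv2.bc k X (AlgebraicClosure k)).Over (Spec (CommRingCat.of (AlgebraicClosure k))) :=
      ⟨Curv2.bcSnd k X (AlgebraicClosure k)⟩
    Module.finrank (AlgebraicClosure k) (Coh.HH (Curv2.bc k X (AlgebraicClosure k))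
      (Coh.structureModule (Curv2.bc k X (AlgebraicClosure k))) p) =
      Module.finrank k (Coh.HH X (Coh.structureModule X) p) := by
  letI : (Curv2.bc k X (AlgebraicClosure k)).Over (Spec (CommRingCat.of (AlgebraicClosure k))) :=
    ⟨Curv2.bcSnd k X (AlgebraicClosure k)⟩
  have hpb : IsPullback (Curv2.bcFst k X (AlgebraicClosure k))
      ((Curv2.bc k X (AlgebraicClosure k)) ↘ Spec (CommRingCat.of (AlgebraicClosure k)))
      (X ↘ Spec (CommRingCat.of k))
      (Spec.map (CommRingCat.ofHom (algebraMap k (AlgebraicClosure k)))) :=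
    IsPullback.of_hasPullback _ _
  haveI : (Coh.structureModule X).IsQuasicoherent :=
    Groth.Agent.Lib.Helper3.QCOpen.isQuasicoherent_structureModule X
  rw [← finrank_eq_of_isProper k (AlgebraicClosure k) hpb p (Coh.structureModule X)]
  exact (HmapEquivK (AlgebraicClosure k) (pbUnit (Curv2.bcFst k X (AlgebraicClosure k)))
    p).finrank_eq.symm

/-- global functions of a geometrically integral proper scheme are the constants -/
theorem finrank_h0_eq_one : Module.finrank k (Coh.HH X (Coh.structureModule X) 0) = 1 := by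
  letI : (Curv2.bc k X (AlgebraicClosure k)).Over (Spec (CommRingCat.of (AlgebraicClosure k))) :=
    ⟨Curv2.bcSnd k X (AlgebraicClosure k)⟩
  haveI := isIntegral_bc k X
  haveI : IsProper ((Curv2.bc k X (AlgebraicClosure k)) ↘
      Spec (CommRingCat.of (AlgebraicClosure k))) :=
    inferInstanceAs (IsProper (pullback.snd (X ↘ Spec (CommRingCat.of k))
      (Spec.map (CommRingCat.ofHom (algebraMap k (AlgebraicClosure k))))))
  rw [← finrank_structure_bc k X 0]
  exact Groth.Agent.Lib.Helper23.GeomH0.finrank_H0_eq_one_of_isAlgClosed (AlgebraicClosure k)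
    (Curv2.bc k X (AlgebraicClosure k))

/-- a geometrically integral proper curve of genus zero is smooth -/
theorem smooth_of_genus_zero (hdim : topologicalKrullDim X = 1)
    (hg : Module.finrank k (Coh.HH X (Coh.structureModule X) 1) = 0) :
    Smooth (X ↘ Spec (CommRingCat.of k)) := by
  letI : (Curv2.bc k X (AlgebraicClosure k)).Over (Spec (CommRingCat.of (AlgebraicClosure k))) :=
    ⟨Curv2.bcSnd k X (AlgebraicClosure k)⟩
  haveI := isIntegral_bc k X
  haveI : IsProper ((Curv2.bc k X (AlgebraicClosure k)) ↘
      Spec (CommRingCat.of (AlgebraicClosure k))) :=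
    inferInstanceAs (IsProper (pullback.snd (X ↘ Spec (CommRingCat.of k))
      (Spec.map (CommRingCat.ofHom (algebraMap k (AlgebraicClosure k))))))
  have hdim' : topologicalKrullDim (Curv2.bc k X (AlgebraicClosure k)) = 1 := by
    rw [Groth.Agent.Lib.Helper12.BaseChange.topologicalKrullDim_bc k X (AlgebraicClosure k), hdim]
  have hg' := (finrank_structure_bc k X 1).trans hg
  have hsm := Groth.Agent.Lib.Helper23.GenusZeroSmooth.smooth_of_genus_zero (AlgebraicClosure k)
    (Curv2.bc k X (AlgebraicClosure k)) hdim' hg'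
  haveI : LocallyOfFinitePresentation (X ↘ Spec (CommRingCat.of k)) :=
    LocallyOfFinitePresentation.iff_locallyOfFiniteType.2 inferInstance
  haveI : LocallyOfFinitePresentation ((Curv2.bc k X (AlgebraicClosure k)) ↘
      Spec (CommRingCat.of (AlgebraicClosure k))) :=
    LocallyOfFinitePresentation.iff_locallyOfFiniteType.2 inferInstance
  have hpb : IsPullback (Curv2.bcFst k X (AlgebraicClosure k))
      ((Curv2.bc k X (AlgebraicClosure k)) ↘ Spec (CommRingCat.of (AlgebraicClosure k)))
      (X ↘ Spec (CommRingCat.of k))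
      (Spec.map (CommRingCat.ofHom (algebraMap k (AlgebraicClosure k)))) :=
    IsPullback.of_hasPullback _ _
  rw [← Scheme.Hom.smoothLocus_eq_top_iff]
  ext x
  simp only [Opens.coe_top, Set.mem_univ, iff_true]
  obtain ⟨x', rfl⟩ := Groth.Agent.Lib.Helper12.BaseChange.surjective_bcFst k X (AlgebraicClosure k) x
  refine (Groth.Agent.Lib.Helper8.SmoothLocusBC.mem_smoothLocus_iff_of_isPullback
    (X ↘ Spec (CommRingCat.of k))
    (Spec.map (CommRingCat.ofHom (algebraMap k (AlgebraicClosure k))))
    ((Curv2.bc k X (AlgebraicClosure k)) ↘ Spec (CommRingCat.of (AlgebraicClosure k)))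
    (Curv2.bcFst k X (AlgebraicClosure k)) hpb (Or.inl inferInstance) x').1 ?_
  rw [Scheme.Hom.smoothLocus_eq_top_iff.2 hsm]
  trivial

end Groth.Agent.Lib.Helper23.GeomCurve
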