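import Groth.Agent.Lib.Helper23.CurveH

/-!
# GlobFun: global functions on a proper integral scheme over a field form a field
-/
set_option autoImplicit false
universe u
open CategoryTheory CategoryTheory.Limits Opposite TopologicalSpace AlgebraicGeometry
open Groth.Agent.Lib.Helper3 Groth.Agent.Lib.Helper3.QCSec Groth.Agent.Lib.Helper3.InvGen
open Groth.Agent.Lib.Helper23.T2 Groth.Agent.Lib.Helper23.Curve

noncomputable section

namespace Groth.Agent.Lib.Helper23.GlobFun

variable {X : Scheme.{u}}

/-- multiplication by a global function as an endomorphism of the structure sheaf. -/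
def mulHom (r : Γ(X, ⊤)) : Coh.structureModule X ⟶ Coh.structureModule X :=
  InvAmple.globalHom (Coh.structureModule X) (ofFun ⊤ r)

lemma sec_mulHom (r : Γ(X, ⊤)) (U : X.Opens) :
    sec (mulHom r) U = ofFun U (rres X le_top r) := by
  unfold mulHom
  rw [InvAmple.sec_globalHom]
  rfl

lemma mulHom_app (r : Γ(X, ⊤)) (U : X.Opens) (a : Γ(X, U)) :
    (mulHom r).app U (ofFun U a) = ofFun U (a * rres X le_top r) := by
  rw [app_eq_smul_sec, sec_mulHom, smul_ofFun]

lemma mulHom_ne_zero [Nonempty X] {r : Γ(X, ⊤)} (hr : r ≠ 0) : mulHom r ≠ 0 := by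
  intro h
  apply hr
  have h1 := mulHom_app r ⊤ 1
  rw [h, Scheme.Modules.Hom.zero_app] at h1
  have h2 : rres X (le_top : (⊤ : X.Opens) ≤ ⊤) r = r := rres_self _ r
  rw [h2, one_mul] at h1
  exact (ofFun_injective ⊤ h1).symm

/-- a morphism `O ⟶ L` whose section is a generator everywhere is an isomorphism. -/
lemma isIso_of_bijective_app {M N : X.Modules} (φ : M ⟶ N)
    (h : ∀ V : X.Opens, Function.Bijective (φ.app V)) : IsIso φ := by
  haveI : Mono φ := (QCProps.mono_iff_app_injective φ).2 (fun V => (h V).1)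
  haveI : Epi φ := QCProps.epi_of_app_surjective φ (fun V => (h V).2)
  exact isIso_of_mono_of_epi φ

lemma isIso_mulHom_of_isUnit {r : Γ(X, ⊤)} (hr : IsUnit r) : IsIso (mulHom r) := by
  apply isIso_of_bijective_app
  intro V
  rw [bijective_app_iff, sec_mulHom]
  have h1 := IsGenAt.smul_unit (isGenAt_one V) (rres_isUnit (le_top : V ≤ ⊤) hr)
  rw [smul_ofFun, mul_one] at h1
  exact h1

section Proper

variable (k : Type u) [Field k] [X.Over (Spec (CommRingCat.of k))]
  [IsProper (X ↘ Spec (CommRingCat.of k))] [IsIntegral X]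

include k in
/-- **Nonzero global functions on a proper integral scheme over a field are units.** -/
theorem isUnit_of_ne_zero {r : Γ(X, ⊤)} (hr : r ≠ 0) : IsUnit r := by
  haveI : IsLocallyNoetherian X :=
    LocallyOfFiniteType.isLocallyNoetherian (X ↘ Spec (CommRingCat.of k))
  have hne := mulHom_ne_zero hr
  haveI : Mono (mulHom r) :=
    mono_of_ne_zero (isInvertible_structureModule X) (isInvertible_structureModule X) _ hne
  haveI := finite_HH k (Coh.structureModule X) (T2.isCoh_structureModule X) 0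
  have hinj := HmapA_injective_zero k (mulHom r)
  have hsurj : Function.Surjective (HmapA k (mulHom r) 0) :=
    LinearMap.surjective_of_injective hinj
  obtain ⟨y, hy⟩ := hsurj ((h0equiv (Coh.structureModule X)).symm (ofFun ⊤ (1 : Γ(X, ⊤))))
  have h1 : h0equiv (Coh.structureModule X) (hmap (mulHom r) 0 y) = ofFun ⊤ (1 : Γ(X, ⊤)) := by
    have : hmap (mulHom r) 0 y = (h0equiv (Coh.structureModule X)).symm (ofFun ⊤ (1 : Γ(X, ⊤))) :=
      hy
    rw [this, LinearEquiv.apply_symm_apply]
  rw [h0equiv_naturality] at h1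
  set a : Γ(X, ⊤) := toFun ⊤ (h0equiv (Coh.structureModule X) y) with ha
  have h2 : gmap (mulHom r) (h0equiv (Coh.structureModule X) y) =
      (mulHom r).app ⊤ (ofFun ⊤ a) := rfl
  rw [h2, mulHom_app, rres_self] at h1
  have h3 : a * r = 1 := ofFun_injective ⊤ h1
  exact IsUnit.of_mul_eq_one _ (by rw [mul_comm]; exact h3)

end Proper

lemma sec_eq_res_top {L : X.Modules} (u : Coh.structureModule X ⟶ L) (V : X.Opens) :
    sec u V = res L (le_top : V ≤ ⊤) (sec u ⊤) := (res_sec u le_top).symm

lemma eq_zero_of_sec_top_eq_zero {L : X.Modules} (u : Coh.structureModule X ⟶ L)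
    (h : sec u ⊤ = 0) : u = 0 := by
  apply Scheme.Modules.hom_ext
  intro V
  ext m
  rw [Scheme.Modules.Hom.zero_app]
  change u.app V (ofFun V (toFun V m)) = 0
  rw [app_eq_smul_sec, sec_eq_res_top, h, res_zero, smul_zero]

lemma isIso_of_isUnit_sec (u : Coh.structureModule X ⟶ Coh.structureModule X)
    (hr : IsUnit (toFun ⊤ (sec u ⊤))) : IsIso u := by
  apply isIso_of_bijective_app
  intro V
  rw [bijective_app_iff, sec_eq_res_top]
  have h1 := IsGenAt.smul_unit (isGenAt_one V) (rres_isUnit (le_top : V ≤ ⊤) hr)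
  rw [smul_ofFun, mul_one] at h1
  exact h1

section Trivial

variable (k : Type u) [Field k] [X.Over (Spec (CommRingCat.of k))]
  [IsProper (X ↘ Spec (CommRingCat.of k))] [IsIntegral X]

include k in
/-- every nonzero endomorphism of the structure sheaf of a proper integral scheme is an iso. -/
theorem isIso_of_ne_zero (u : Coh.structureModule X ⟶ Coh.structureModule X) (hu : u ≠ 0) :
    IsIso u := by
  apply isIso_of_isUnit_sec
  apply isUnit_of_ne_zero k
  intro h
  exact hu (eq_zero_of_sec_top_eq_zero u h)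

include k in
/-- S7805 -/
theorem trivial_iff (L : X.Modules) (hL : PicF.IsInvertible L) :
    Nonempty (L ≅ Coh.structureModule X) ↔
      (∃ s : Coh.structureModule X ⟶ L, s ≠ 0) ∧ (∃ t : L ⟶ Coh.structureModule X, t ≠ 0) := by
  have hO := isInvertible_structureModule X
  constructor
  · rintro ⟨e⟩
    exact ⟨⟨e.inv, ne_zero_of_mono_of_isInvertible hO e.inv⟩,
      ⟨e.hom, ne_zero_of_mono_of_isInvertible hL e.hom⟩⟩
  · rintro ⟨⟨s, hs⟩, ⟨t, ht⟩⟩
    haveI : Mono s := mono_of_ne_zero hO hL s hs
    haveI : Mono t := mono_of_ne_zero hL hO t ht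
    haveI : Mono (s ≫ t) := mono_comp s t
    have hu : s ≫ t ≠ 0 := ne_zero_of_mono_of_isInvertible hO (s ≫ t)
    haveI := isIso_of_ne_zero k (s ≫ t) hu
    haveI : IsSplitEpi t := ⟨⟨inv (s ≫ t) ≫ s, by rw [Category.assoc, IsIso.inv_hom_id]⟩⟩
    haveI : IsIso t := isIso_of_mono_of_isSplitEpi t
    exact ⟨asIso t⟩

end Trivial

end Groth.Agent.Lib.Helper23.GlobFun
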