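import Groth.Agent.Lib.Helper23.GeomConn

/-!
# The maximal destabilising subsheaf (first step of the Harder–Narasimhan filtration)
-/

set_option autoImplicit false
universe u

open CategoryTheory CategoryTheory.Limits AlgebraicGeometry
open Groth.Agent.Lib.Helper23.T2 Groth.Agent.Lib.Helper23.Curve
open Groth.Agent.Lib.Helper23.VBMaps

namespace Groth.Agent.Lib.Helper23.HN

variable (k : Type u) [Field k] {X : Scheme.{u}} [X.Over (Spec (CommRingCat.of k))]
  [IsProper (X ↘ Spec (CommRingCat.of k))]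

include k in
/-- Among finite locally free subsheaves of positive rank of a finite locally free sheaf on a
proper integral curve there is one of maximal slope and, among those, of maximal rank. -/
theorem exists_max_destab [IsIntegral X] (hdim : topologicalKrullDim X ≤ 1) {E : X.Modules}
    {r : ℕ} (hr : 0 < r) (hE : FlatMod.IsFinLocFreeOfRank r E) :
    ∃ (E₁ : X.Modules) (r₁ : ℕ) (i₁ : E₁ ⟶ E), Mono i₁ ∧ 0 < r₁ ∧
      FlatMod.IsFinLocFreeOfRank r₁ E₁ ∧
      (∀ (G : X.Modules) (r' : ℕ) (j : G ⟶ E), Mono j → 0 < r' →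
        FlatMod.IsFinLocFreeOfRank r' G →
        Curv2.deg k X G r' * (r₁ : ℤ) ≤ Curv2.deg k X E₁ r₁ * (r' : ℤ)) ∧
      (∀ (G : X.Modules) (r' : ℕ) (j : G ⟶ E), Mono j → 0 < r' →
        FlatMod.IsFinLocFreeOfRank r' G →
        Curv2.deg k X G r' * (r₁ : ℤ) = Curv2.deg k X E₁ r₁ * (r' : ℤ) → r' ≤ r₁) := by
  classical
  haveI : Nonempty X := inferInstance
  have hcE := isCoh_of_isFinLocFreeOfRank hE
  -- the cofactor `r! / r'`
  have hc : ∀ r' : ℕ, 0 < r' → r' ≤ r → (((r.factorial / r' : ℕ) : ℤ) * (r' : ℤ) = (r.factorial : ℤ)) := by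
    intro r' h0 hle
    have := Nat.div_mul_cancel (Nat.dvd_factorial h0 hle)
    exact_mod_cast this
  let P : ℤ → Prop := fun z => ∃ (G : X.Modules) (r' : ℕ) (j : G ⟶ E), Mono j ∧ 0 < r' ∧
    FlatMod.IsFinLocFreeOfRank r' G ∧
    z = (Curv2.deg k X G r' * ((r.factorial / r' : ℕ) : ℤ)) * ((r : ℤ) + 1) + (r' : ℤ)
  set h0 : ℤ := (Module.finrank k (Coh.HH X E 0) : ℤ) with hh0
  set g1 : ℤ := |(Curv2.genus k X : ℤ) - 1| with hg1
  have hg1nn : 0 ≤ g1 := abs_nonneg _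
  have hh0nn : 0 ≤ h0 := Int.natCast_nonneg _
  have hbdd : ∃ b : ℤ, ∀ z, P z → z ≤ b := by
    refine ⟨(h0 + (r : ℤ) * g1) * (r.factorial : ℤ) * ((r : ℤ) + 1) + (r : ℤ), ?_⟩
    rintro z ⟨G, r', j, hj, hr', hG, rfl⟩
    haveI := hj
    have hle : r' ≤ r := rank_le_of_mono hG hE j
    have hd := deg_sub_le k hdim hcE hG j
    have hleZ : (r' : ℤ) ≤ (r : ℤ) := by exact_mod_cast hle
    have hr'Z : (0 : ℤ) ≤ (r' : ℤ) := Int.natCast_nonneg _
    have h1 : Curv2.deg k X G r' ≤ h0 + (r : ℤ) * g1 := by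
      have : (r' : ℤ) * ((Curv2.genus k X : ℤ) - 1) ≤ (r : ℤ) * g1 := by
        calc (r' : ℤ) * ((Curv2.genus k X : ℤ) - 1) ≤ (r' : ℤ) * g1 :=
              mul_le_mul_of_nonneg_left (le_abs_self _) hr'Z
          _ ≤ (r : ℤ) * g1 := mul_le_mul_of_nonneg_right hleZ hg1nn
      linarith
    have hcnn : (0 : ℤ) ≤ ((r.factorial / r' : ℕ) : ℤ) := Int.natCast_nonneg _
    have hcle : ((r.factorial / r' : ℕ) : ℤ) ≤ (r.factorial : ℤ) := by
      exact_mod_cast Nat.div_le_self _ _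
    have hBnn : 0 ≤ h0 + (r : ℤ) * g1 := by positivity
    have h2 : Curv2.deg k X G r' * ((r.factorial / r' : ℕ) : ℤ) ≤
        (h0 + (r : ℤ) * g1) * (r.factorial : ℤ) :=
      calc Curv2.deg k X G r' * ((r.factorial / r' : ℕ) : ℤ)
          ≤ (h0 + (r : ℤ) * g1) * ((r.factorial / r' : ℕ) : ℤ) :=
            mul_le_mul_of_nonneg_right h1 hcnn
        _ ≤ (h0 + (r : ℤ) * g1) * (r.factorial : ℤ) := mul_le_mul_of_nonneg_left hcle hBnn
    have hr1 : (0 : ℤ) ≤ (r : ℤ) + 1 := by positivity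
    have h3 := mul_le_mul_of_nonneg_right h2 hr1
    linarith
  have hinh : ∃ z, P z := ⟨_, E, r, 𝟙 E, inferInstance, hr, hE, rfl⟩
  obtain ⟨z₀, ⟨E₁, r₁, i₁, hi₁, hr₁, hE₁, hz₀⟩, hmax⟩ := Int.exists_greatest_of_bdd hbdd hinh
  haveI := hi₁
  have hr₁le : r₁ ≤ r := rank_le_of_mono hE₁ hE i₁
  -- comparison
  have key : ∀ (G : X.Modules) (r' : ℕ) (j : G ⟶ E), Mono j → 0 < r' →
      FlatMod.IsFinLocFreeOfRank r' G →
      Curv2.deg k X G r' * ((r.factorial / r' : ℕ) : ℤ) ≤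
        Curv2.deg k X E₁ r₁ * ((r.factorial / r₁ : ℕ) : ℤ) ∧
      (Curv2.deg k X G r' * ((r.factorial / r' : ℕ) : ℤ) =
        Curv2.deg k X E₁ r₁ * ((r.factorial / r₁ : ℕ) : ℤ) → r' ≤ r₁) := by
    intro G r' j hj hr' hG
    haveI := hj
    have hle : r' ≤ r := rank_le_of_mono hG hE j
    have hz := hmax _ ⟨G, r', j, hj, hr', hG, rfl⟩
    rw [hz₀] at hz
    have hleZ : (r' : ℤ) ≤ (r : ℤ) := by exact_mod_cast hle
    have hr'Z : (1 : ℤ) ≤ (r' : ℤ) := by exact_mod_cast hr'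
    have hr₁Z : (1 : ℤ) ≤ (r₁ : ℤ) := by exact_mod_cast hr₁
    have hr₁leZ : (r₁ : ℤ) ≤ (r : ℤ) := by exact_mod_cast hr₁le
    set n := Curv2.deg k X G r' * ((r.factorial / r' : ℕ) : ℤ)
    set n₁ := Curv2.deg k X E₁ r₁ * ((r.factorial / r₁ : ℕ) : ℤ)
    constructor
    · by_contra hcon
      push_neg at hcon
      have : n₁ + 1 ≤ n := hcon
      have hr1 : (0 : ℤ) ≤ (r : ℤ) + 1 := by positivity
      have := mul_le_mul_of_nonneg_right this hr1
      nlinarith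
    · intro heq
      rw [heq] at hz
      have : (r' : ℤ) ≤ (r₁ : ℤ) := by linarith
      exact_mod_cast this
  have hfpos : (0 : ℤ) < (r.factorial : ℤ) := by exact_mod_cast Nat.factorial_pos r
  refine ⟨E₁, r₁, i₁, hi₁, hr₁, hE₁, ?_, ?_⟩
  · intro G r' j hj hr' hG
    haveI := hj
    have hle : r' ≤ r := rank_le_of_mono hG hE j
    have h1 := (key G r' j hj hr' hG).1
    have hc1 := hc r' hr' hle
    have hc2 := hc r₁ hr₁ hr₁le
    have hr'Z : (0 : ℤ) < (r' : ℤ) := by exact_mod_cast hr'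
    have hr₁Z : (0 : ℤ) < (r₁ : ℤ) := by exact_mod_cast hr₁
    have h2 : (Curv2.deg k X G r' * (r₁ : ℤ)) * (r.factorial : ℤ) ≤
        (Curv2.deg k X E₁ r₁ * (r' : ℤ)) * (r.factorial : ℤ) := by
      have := mul_le_mul_of_nonneg_right h1 (mul_nonneg hr'Z.le hr₁Z.le)
      calc (Curv2.deg k X G r' * (r₁ : ℤ)) * (r.factorial : ℤ)
          = Curv2.deg k X G r' * (r₁ : ℤ) * (((r.factorial / r' : ℕ) : ℤ) * (r' : ℤ)) := by
            rw [hc1]
        _ = Curv2.deg k X G r' * ((r.factorial / r' : ℕ) : ℤ) * ((r' : ℤ) * (r₁ : ℤ)) := by ring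
        _ ≤ Curv2.deg k X E₁ r₁ * ((r.factorial / r₁ : ℕ) : ℤ) * ((r' : ℤ) * (r₁ : ℤ)) := this
        _ = Curv2.deg k X E₁ r₁ * (r' : ℤ) * (((r.factorial / r₁ : ℕ) : ℤ) * (r₁ : ℤ)) := by ring
        _ = (Curv2.deg k X E₁ r₁ * (r' : ℤ)) * (r.factorial : ℤ) := by rw [hc2]
    exact le_of_mul_le_mul_right h2 hfpos
  · intro G r' j hj hr' hG heq
    haveI := hj
    have hle : r' ≤ r := rank_le_of_mono hG hE j
    apply (key G r' j hj hr' hG).2
    have hc1 := hc r' hr' hle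
    have hc2 := hc r₁ hr₁ hr₁le
    have hr'Z : (0 : ℤ) < (r' : ℤ) := by exact_mod_cast hr'
    have hr₁Z : (0 : ℤ) < (r₁ : ℤ) := by exact_mod_cast hr₁
    have hpos : (0 : ℤ) < (r' : ℤ) * (r₁ : ℤ) := mul_pos hr'Z hr₁Z
    have h2 : Curv2.deg k X G r' * ((r.factorial / r' : ℕ) : ℤ) * ((r' : ℤ) * (r₁ : ℤ)) =
        Curv2.deg k X E₁ r₁ * ((r.factorial / r₁ : ℕ) : ℤ) * ((r' : ℤ) * (r₁ : ℤ)) := by
      calc Curv2.deg k X G r' * ((r.factorial / r' : ℕ) : ℤ) * ((r' : ℤ) * (r₁ : ℤ))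
          = Curv2.deg k X G r' * (r₁ : ℤ) * (((r.factorial / r' : ℕ) : ℤ) * (r' : ℤ)) := by ring
        _ = Curv2.deg k X E₁ r₁ * (r' : ℤ) * (r.factorial : ℤ) := by rw [hc1, heq]
        _ = Curv2.deg k X E₁ r₁ * (r' : ℤ) * (((r.factorial / r₁ : ℕ) : ℤ) * (r₁ : ℤ)) := by
            rw [hc2]
        _ = _ := by ring
    exact mul_right_cancel₀ hpos.ne' h2

include k in
/-- The preimage in `E` of a finite locally free subsheaf `Q` of a quotient `E/A` (with `A`, `E`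
finite locally free on a smooth proper curve): it is finite locally free of rank
`rank A + rank Q` and degree `deg A + deg Q`. -/
theorem preimage_data [IsIntegral X] [Smooth (X ↘ Spec (CommRingCat.of k))]
    (hdim : topologicalKrullDim X ≤ 1) (T : ShortComplex X.Modules) (hT : T.ShortExact)
    {r₁ r s : ℕ} (h₁ : FlatMod.IsFinLocFreeOfRank r₁ T.X₁)
    (h₂ : FlatMod.IsFinLocFreeOfRank r T.X₂) (hB : Coh.IsCoh T.X₃) {Q : X.Modules}
    (hQ : FlatMod.IsFinLocFreeOfRank s Q) (j : Q ⟶ T.X₃) [Mono j] :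
    ∃ (P : X.Modules) (ι : P ⟶ T.X₂), Mono ι ∧ FlatMod.IsFinLocFreeOfRank (r₁ + s) P ∧
      Curv2.deg k X P (r₁ + s) = Curv2.deg k X T.X₁ r₁ + Curv2.deg k X Q s := by
  haveI := isNoetherian_of_isProper k X
  haveI : Nonempty X := inferInstance
  haveI := hT.mono_f
  haveI := hT.epi_g
  -- coherence of the pullback
  have hcE := isCoh_of_isFinLocFreeOfRank h₂
  have hcQ := isCoh_of_isFinLocFreeOfRank hQ
  haveI : T.X₂.IsQuasicoherent := hcE.1
  haveI : T.X₂.IsFiniteType := hcE.2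
  haveI : Q.IsQuasicoherent := hcQ.1
  haveI : Q.IsFiniteType := hcQ.2
  have hcEQ : Coh.IsCoh (T.X₂ ⊞ Q : X.Modules) :=
    ⟨Groth.Agent.Lib.Helper3.QCLim.isQuasicoherent_biprod _ _,
      Groth.Agent.Lib.Helper13.FTApprox.isFiniteType_biprod _ _⟩
  have hcK : Coh.IsCoh (kernel (biprod.desc T.g (-j))) :=
    (Groth.Agent.S9514.result X hcEQ hB (biprod.desc T.g (-j))).1
  let e : pullback T.g j ≅ kernel (biprod.desc T.g (-j)) :=
    (Abelian.PullbackToBiproductIsKernel.isLimitPullbackToBiproduct T.g j).conePointUniqueUpToIso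
      (limit.isLimit _)
  have hcP : Coh.IsCoh (pullback T.g j) := by
    obtain ⟨hq, hf⟩ := hcK
    haveI : SheafOfModules.IsFiniteType (R := X.ringCatSheaf)
      (kernel (biprod.desc T.g (-j))) := hf
    exact ⟨(SheafOfModules.isQuasicoherent X.ringCatSheaf).prop_of_iso e.symm hq,
      Groth.Agent.Lib.Helper3.QCProps.isFiniteType_of_iso e.symm⟩
  -- the short exact sequence `0 → A → P → Q → 0`
  let f' : T.X₁ ⟶ pullback T.g j := pullback.lift T.f 0 (by rw [T.zero, zero_comp])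
  have hf'1 : f' ≫ pullback.fst T.g j = T.f := pullback.lift_fst _ _ _
  have hf'2 : f' ≫ pullback.snd T.g j = 0 := pullback.lift_snd _ _ _
  let S : ShortComplex X.Modules := ShortComplex.mk f' (pullback.snd T.g j) hf'2
  have hmf' : Mono f' := mono_of_mono_fac hf'1
  have : Mono S.f := hmf'
  have : Epi S.g := Abelian.epi_pullback_of_epi_f T.g j
  have hSex : S.Exact := by
    apply ShortComplex.exact_of_f_is_kernel
    refine KernelFork.IsLimit.ofι _ _
      (fun {W} k' hk' => hT.exact.lift (k' ≫ pullback.fst T.g j) ?_) ?_ ?_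
    · have h0 : k' ≫ pullback.snd T.g j = 0 := hk'
      rw [Category.assoc, pullback.condition, ← Category.assoc, h0, zero_comp]
    · intro W k' hk'
      have h0 : k' ≫ pullback.snd T.g j = 0 := hk'
      apply pullback.hom_ext
      · show (_ ≫ f') ≫ _ = _
        rw [Category.assoc, hf'1, ShortComplex.Exact.lift_f]
      · show (_ ≫ f') ≫ _ = _
        rw [Category.assoc, hf'2, comp_zero, h0]
    · intro W k' hk' m hm
      have hm' : m ≫ f' = k' := hm
      rw [← cancel_mono T.f, ShortComplex.Exact.lift_f, ← hm', Category.assoc, hf'1]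
  have hS : S.ShortExact := ShortComplex.ShortExact.mk hSex
  obtain ⟨p, hp⟩ := Groth.Agent.Lib.Helper23.SmoothCurve.isFinLocFreeOfRank_of_mono_of_smooth k
    hdim hcP (pullback.fst T.g j) h₂
  have hrk : p = r₁ + s := rank_additive S hS h₁ hp hQ
  subst hrk
  exact ⟨pullback T.g j, pullback.fst T.g j, inferInstance, hp,
    deg_additive k X S hS r₁ (r₁ + s) s h₁ hp hQ⟩

end Groth.Agent.Lib.Helper23.HN
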