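import Groth.Agent.Lib.Helper23.DegTensor
import Groth.Agent.Lib.Helper23.Twist
import Groth.Agent.Lib.Helper23.HN

/-!
# Twisted pairs on a smooth proper curve, using the inverse of the twisting line bundle

* `exists_untwist`: a subsheaf of `C ⊗ L` gives a subsheaf of `C` of the same rank and of degree
  smaller by `rank · deg L`.
* `semistable_of_pair`: if `deg L ≤ 0` and the pair `(E, φ)` is semistable then `E` is semistable.
* `deg_nonneg_of_pair`: if `(E, φ)` is semistable and `φ ≠ 0` then `deg L ≥ 0`.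
-/

set_option autoImplicit false
universe u
open CategoryTheory CategoryTheory.Limits AlgebraicGeometry TopologicalSpace Opposite
open Scheme.Modules

noncomputable section

namespace Groth.Agent.Lib.Helper23.HiggsInv

open Groth.Agent.Lib.Helper3 Groth.Agent.Lib.Helper3.QCSec Groth.Agent.Lib.Helper3.InvGen
  Groth.Agent.Lib.Helper3.InvTensor Groth.Agent.Lib.Helper3.InvMonoidal
  Groth.Agent.Lib.Helper3.FreeBasis Groth.Agent.Lib.Helper7.TwFun
open Groth.Agent.Lib.Helper23.T2 Groth.Agent.Lib.Helper23.Curve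
open Groth.Agent.Lib.Helper23.VBMaps Groth.Agent.Lib.Helper23.Twist
  Groth.Agent.Lib.Helper23.Inverse Groth.Agent.Lib.Helper23.DegTensor

variable {X : Scheme.{u}} {L : X.Modules}

variable (k : Type u) [Field k] [X.Over (Spec (CommRingCat.of k))]
  [IsProper (X ↘ Spec (CommRingCat.of k))]

include k in
/-- untwisting a subsheaf of `C ⊗ L` -/
theorem exists_untwist (hL : PicF.IsInvertible L) [IsIntegral X]
    (hdim : topologicalKrullDim X ≤ 1) {C J' : X.Modules} {s : ℕ}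
    (hJ' : FlatMod.IsFinLocFreeOfRank s J') (ι : J' ⟶ (twR L).obj C) [Mono ι] :
    ∃ (J : X.Modules) (j : J ⟶ C), Mono j ∧ FlatMod.IsFinLocFreeOfRank s J ∧
      Curv2.deg k X J s = Curv2.deg k X J' s - s * Curv2.deg k X L 1 := by
  obtain ⟨e⟩ := tensor_dual_iso hL
  have hM := isInvertible_dual hL
  haveI : Mono ((twR (dual L)).map ι) := mono_tw hM ι
  refine ⟨(twR (dual L)).obj J', (twR (dual L)).map ι ≫ (cancelIso L (dual L) e C).hom,
    mono_comp _ _, isFinLocFreeOfRank_tw hM hJ', ?_⟩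
  have h1 : Curv2.deg k X ((twR (dual L)).obj J') s =
      Curv2.deg k X J' s + s * Curv2.deg k X (dual L) 1 := deg_tw k hdim hJ' hM
  rw [h1, deg_dual k hdim hL]
  ring

include k in
/-- If `deg L ≤ 0` and every `φ`-invariant subsheaf has slope at most that of `E`, then so has
every subsheaf: the maximal destabilising subsheaf is `φ`-invariant. -/
theorem semistable_of_pair (hL : PicF.IsInvertible L) (hL0 : Curv2.deg k X L 1 ≤ 0) [IsIntegral X]
    [Smooth (X ↘ Spec (CommRingCat.of k))] (hdim : topologicalKrullDim X ≤ 1)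
    {E : X.Modules} {r : ℕ} (hr : 0 < r) (hE : FlatMod.IsFinLocFreeOfRank r E)
    (φ : E ⟶ (twR L).obj E)
    (h : ∀ (G : X.Modules) (n : ℕ) (j : G ⟶ E), Mono j → 0 < n →
      FlatMod.IsFinLocFreeOfRank n G → Inv L φ j →
      Curv2.deg k X G n * (r : ℤ) ≤ Curv2.deg k X E r * (n : ℤ)) :
    ∀ (G : X.Modules) (n : ℕ) (j : G ⟶ E), Mono j → 0 < n →
      FlatMod.IsFinLocFreeOfRank n G →
      Curv2.deg k X G n * (r : ℤ) ≤ Curv2.deg k X E r * (n : ℤ) := by
  intro G n j hj hn hG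
  obtain ⟨E₁, r₁, i₁, hi₁, hr₁, hE₁, hmax, hmaxrk⟩ :=
    Groth.Agent.Lib.Helper23.HN.exists_max_destab k hdim hr hE
  haveI := hi₁
  obtain ⟨G', C', i', p, w, u, c, hS, hu, hG', hC', hrc, hdle, hdE, hiso, -⟩ :=
    sat_step k hL hdim hE₁ hE i₁ (0 : E ⟶ (twR L).obj E) ⟨0, by rw [zero_comp, comp_zero]⟩
  haveI : Mono i' := hS.mono_f
  haveI : Epi p := hS.epi_g
  have hr₁Z : (0 : ℤ) < (r₁ : ℤ) := by exact_mod_cast hr₁
  have hd : Curv2.deg k X E₁ r₁ = Curv2.deg k X G' r₁ := by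
    have h1 := hmax G' r₁ i' inferInstance hr₁ hG'
    exact le_antisymm hdle (le_of_mul_le_mul_right h1 hr₁Z)
  have hρ0 : i' ≫ φ ≫ (twR L).map p = 0 := by
    by_contra hne
    obtain ⟨a, b, hK, hI, hab, hdeg, hb0, ha0, -, hbc⟩ :=
      map_analysis k hdim hG' (isFinLocFreeOfRank_tw hL hC') (i' ≫ φ ≫ (twR L).map p)
    have hbpos : 0 < b := Nat.pos_of_ne_zero (fun hb => hne (hb0 hb))
    obtain ⟨J, jJ, hJmono, hJ, hdJ⟩ := exists_untwist k hL hdim hI
      (Abelian.factorThruCoimage (i' ≫ φ ≫ (twR L).map p))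
    haveI := hJmono
    obtain ⟨hmono, hP, hdP⟩ := preimage_data' k hdim (ShortComplex.mk i' p w) hS hG' hE
      (isCoh_of_isFinLocFreeOfRank hC') hJ jJ
    have h2 := hmax _ (r₁ + b) _ hmono (by omega) hP
    have h2eq := hmaxrk _ (r₁ + b) _ hmono (by omega) hP
    have hr1ab : (r₁ : ℤ) = (a : ℤ) + (b : ℤ) := by exact_mod_cast hab
    have hIge : Curv2.deg k X G' r₁ * (b : ℤ) ≤
        Curv2.deg k X (Abelian.coimage (i' ≫ φ ≫ (twR L).map p)) b * (r₁ : ℤ) := by
      rcases Nat.eq_zero_or_pos a with ha | ha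
      · obtain ⟨-, hdK⟩ := ha0 ha
        have hdI : Curv2.deg k X G' r₁ =
            Curv2.deg k X (Abelian.coimage (i' ≫ φ ≫ (twR L).map p)) b := by
          rw [hdeg, hdK, zero_add]
        have hr₁b : (r₁ : ℤ) = (b : ℤ) := by rw [hr1ab, ha]; simp
        rw [hdI, hr₁b]
      · have h3 := hmax (kernel (i' ≫ φ ≫ (twR L).map p)) a
          (kernel.ι (i' ≫ φ ≫ (twR L).map p) ≫ i') (mono_comp _ _) ha hK
        rw [hd] at h3
        have key : Curv2.deg k X (Abelian.coimage (i' ≫ φ ≫ (twR L).map p)) b * (r₁ : ℤ) -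
            Curv2.deg k X G' r₁ * (b : ℤ) =
            Curv2.deg k X G' r₁ * (a : ℤ) -
              Curv2.deg k X (kernel (i' ≫ φ ≫ (twR L).map p)) a * (r₁ : ℤ) := by
          have h4 : Curv2.deg k X (Abelian.coimage (i' ≫ φ ≫ (twR L).map p)) b =
              Curv2.deg k X G' r₁ - Curv2.deg k X (kernel (i' ≫ φ ≫ (twR L).map p)) a := by
            linarith
          rw [h4, hr1ab]; ring
        linarith
    rw [hdP] at h2 h2eq
    rw [hd] at h2 h2eq
    rw [hdJ] at h2 h2eq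
    have hbnn : (0 : ℤ) ≤ (b : ℤ) := Int.natCast_nonneg _
    have hnn : 0 ≤ (b : ℤ) * (-Curv2.deg k X L 1) * (r₁ : ℤ) :=
      mul_nonneg (mul_nonneg hbnn (by linarith)) hr₁Z.le
    have h4 : Curv2.deg k X G' r₁ * ((r₁ + b : ℕ) : ℤ) ≤
        (Curv2.deg k X G' r₁ + (Curv2.deg k X (Abelian.coimage (i' ≫ φ ≫ (twR L).map p)) b -
          (b : ℤ) * Curv2.deg k X L 1)) * (r₁ : ℤ) := by
      push_cast
      nlinarith
    have h5 := h2eq (le_antisymm h2 h4)
    omega
  haveI : Mono (ShortComplex.mk i' p w).f := hS.mono_f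
  have hinv' : Inv L φ i' := inv_of_exact hL (ShortComplex.mk i' p w) hS.exact φ hρ0
  have h5 := h G' r₁ i' inferInstance hr₁ hG' hinv'
  have h6 := hmax G n j hj hn hG
  rw [hd] at h6
  have hnnn : (0 : ℤ) ≤ (n : ℤ) := Int.natCast_nonneg _
  have hrnn : (0 : ℤ) ≤ (r : ℤ) := Int.natCast_nonneg _
  have h7 : (Curv2.deg k X G n * (r : ℤ)) * (r₁ : ℤ) ≤ (Curv2.deg k X E r * (n : ℤ)) * (r₁ : ℤ) :=
    calc (Curv2.deg k X G n * (r : ℤ)) * (r₁ : ℤ)
        = (Curv2.deg k X G n * (r₁ : ℤ)) * (r : ℤ) := by ring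
      _ ≤ (Curv2.deg k X G' r₁ * (n : ℤ)) * (r : ℤ) := mul_le_mul_of_nonneg_right h6 hrnn
      _ = (Curv2.deg k X G' r₁ * (r : ℤ)) * (n : ℤ) := by ring
      _ ≤ (Curv2.deg k X E r * (r₁ : ℤ)) * (n : ℤ) := mul_le_mul_of_nonneg_right h5 hnnn
      _ = (Curv2.deg k X E r * (n : ℤ)) * (r₁ : ℤ) := by ring
  exact le_of_mul_le_mul_right h7 hr₁Z

include k in
/-- If the pair `(E, φ)` is semistable and `φ ≠ 0`, then `deg L ≥ 0`. -/
theorem deg_nonneg_of_pair (hL : PicF.IsInvertible L) [IsIntegral X]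
    [Smooth (X ↘ Spec (CommRingCat.of k))] (hdim : topologicalKrullDim X ≤ 1)
    {E : X.Modules} {r : ℕ} (hr : 0 < r) (hE : FlatMod.IsFinLocFreeOfRank r E)
    (φ : E ⟶ (twR L).obj E)
    (h : ∀ (G : X.Modules) (n : ℕ) (j : G ⟶ E), Mono j → 0 < n →
      FlatMod.IsFinLocFreeOfRank n G → Inv L φ j →
      Curv2.deg k X G n * (r : ℤ) ≤ Curv2.deg k X E r * (n : ℤ)) (hφ : φ ≠ 0) :
    0 ≤ Curv2.deg k X L 1 := by
  by_contra hneg
  push_neg at hneg
  have hss := semistable_of_pair k hL hneg.le hdim hr hE φ h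
  obtain ⟨a, b, hK, hI, hab, hdeg, hb0, ha0, -, hbc⟩ :=
    map_analysis k hdim hE (isFinLocFreeOfRank_tw hL hE) φ
  have hbpos : 0 < b := Nat.pos_of_ne_zero (fun hb => hφ (hb0 hb))
  obtain ⟨J, jJ, hJmono, hJ, hdJ⟩ := exists_untwist k hL hdim hI (Abelian.factorThruCoimage φ)
  have h1 := hss J b jJ hJmono hbpos hJ
  have hrab : (r : ℤ) = (a : ℤ) + (b : ℤ) := by exact_mod_cast hab
  have hIge : Curv2.deg k X E r * (b : ℤ) ≤ Curv2.deg k X (Abelian.coimage φ) b * (r : ℤ) := by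
    rcases Nat.eq_zero_or_pos a with ha | ha
    · obtain ⟨-, hdK⟩ := ha0 ha
      have hdI : Curv2.deg k X E r = Curv2.deg k X (Abelian.coimage φ) b := by
        rw [hdeg, hdK, zero_add]
      have hrb : (r : ℤ) = (b : ℤ) := by rw [hrab, ha]; simp
      rw [hdI, hrb]
    · have h3 := hss (kernel φ) a (kernel.ι φ) inferInstance ha hK
      have h4 : Curv2.deg k X (Abelian.coimage φ) b =
          Curv2.deg k X E r - Curv2.deg k X (kernel φ) a := by linarith
      have key : Curv2.deg k X (Abelian.coimage φ) b * (r : ℤ) - Curv2.deg k X E r * (b : ℤ) =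
          Curv2.deg k X E r * (a : ℤ) - Curv2.deg k X (kernel φ) a * (r : ℤ) := by
        rw [h4, hrab]; ring
      linarith
  rw [hdJ] at h1
  have hbZ : (0 : ℤ) < (b : ℤ) := by exact_mod_cast hbpos
  have hrZ : (0 : ℤ) < (r : ℤ) := by exact_mod_cast hr
  have hpos : 0 < (b : ℤ) * (-Curv2.deg k X L 1) * (r : ℤ) :=
    mul_pos (mul_pos hbZ (by linarith)) hrZ
  have hexp : (Curv2.deg k X (Abelian.coimage φ) b - (b : ℤ) * Curv2.deg k X L 1) * (r : ℤ) =
      Curv2.deg k X (Abelian.coimage φ) b * (r : ℤ) +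
        (b : ℤ) * (-Curv2.deg k X L 1) * (r : ℤ) := by ring
  rw [hexp] at h1
  linarith

omit [IsProper (X ↘ Spec (CommRingCat.of k))] [X.Over (Spec (CommRingCat.of k))] in
theorem isInvertible_of_rank_one {M : X.Modules} (h : FlatMod.IsFinLocFreeOfRank 1 M) :
    PicF.IsInvertible M := by
  intro x
  obtain ⟨U, hxU, ⟨e⟩⟩ := h x
  exact ⟨U, hxU, ⟨e ≪≫ coproductUniqueIso
    (fun _ : Fin 1 => Coh.structureModule (U : Scheme.{u}))⟩⟩

include k in
/-- a nonzero map between line bundles of the same degree on a smooth proper curve is an iso -/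
theorem isIso_of_ne_zero_of_deg_eq [IsIntegral X] [Smooth (X ↘ Spec (CommRingCat.of k))]
    (hdim : topologicalKrullDim X ≤ 1) {A B : X.Modules} (hA : FlatMod.IsFinLocFreeOfRank 1 A)
    (hB : FlatMod.IsFinLocFreeOfRank 1 B) (f : A ⟶ B) (hf : f ≠ 0)
    (hd : Curv2.deg k X A 1 = Curv2.deg k X B 1) : IsIso f := by
  obtain ⟨a, b, hK, hI, hab, hdeg, hb0, ha0, hiso, hbs⟩ := map_analysis k hdim hA hB f
  have hb : b = 1 := by
    have : b ≠ 0 := fun h => hf (hb0 h)
    omega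
  have ha : a = 0 := by omega
  obtain ⟨-, hdK⟩ := ha0 ha
  apply hiso ha hb
  rw [← hd, hdeg, hdK, zero_add]

include k in
/-- a stable pair of rank two with `deg L = 0`, `L ⊗ L ≄ O` is a stable bundle -/
theorem stable_rank_two (hL : PicF.IsInvertible L) (hL0 : Curv2.deg k X L 1 = 0)
    (hL2 : ¬ Nonempty (CohB1.tensorMod L L ≅ Coh.structureModule X)) [IsIntegral X]
    [Smooth (X ↘ Spec (CommRingCat.of k))] (hdim : topologicalKrullDim X ≤ 1)
    {E : X.Modules} (hE : FlatMod.IsFinLocFreeOfRank 2 E) (φ : E ⟶ (twR L).obj E)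
    (hst : ∀ (G : X.Modules) (n : ℕ) (j : G ⟶ E), Mono j → 0 < n → n < 2 →
      FlatMod.IsFinLocFreeOfRank n G → Inv L φ j →
      Curv2.deg k X G n * (2 : ℤ) < Curv2.deg k X E 2 * (n : ℤ)) :
    ∀ (G : X.Modules) (n : ℕ) (j : G ⟶ E), Mono j → 0 < n → n < 2 →
      FlatMod.IsFinLocFreeOfRank n G →
      Curv2.deg k X G n * (2 : ℤ) < Curv2.deg k X E 2 * (n : ℤ) := by
  intro G n j hj hn hn2 hG
  obtain rfl : n = 1 := by omega
  have hss : ∀ (G : X.Modules) (n : ℕ) (j : G ⟶ E), Mono j → 0 < n →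
      FlatMod.IsFinLocFreeOfRank n G →
      Curv2.deg k X G n * ((2 : ℕ) : ℤ) ≤ Curv2.deg k X E 2 * (n : ℤ) :=
    semistable_of_pair k hL hL0.le hdim (by norm_num) hE φ (fun G n j hj hn hG hinv => by
      rcases Nat.lt_or_ge n 2 with h2 | h2
      · have := hst G n j hj hn h2 hG hinv
        push_cast
        exact this.le
      · haveI := hj
        have hle := rank_le_of_mono hG hE j
        obtain rfl : n = 2 := by omega
        have := (deg_le_of_mono_same_rank k hdim hG hE j).1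
        push_cast
        linarith)
  by_contra hnot
  push_neg at hnot
  haveI := hj
  obtain ⟨G', C', i', p, w, u, c, hS, hu, hG', hC', hrc, hdle, hdE, hiso, -⟩ :=
    sat_step k hL hdim hG hE j (0 : E ⟶ (twR L).obj E) ⟨0, by rw [zero_comp, comp_zero]⟩
  obtain rfl : c = 1 := by omega
  haveI : Mono i' := hS.mono_f
  haveI : Epi p := hS.epi_g
  have h1 := hss G' 1 i' inferInstance one_pos hG'
  push_cast at h1 hnot
  have hdG' : Curv2.deg k X G' 1 * 2 = Curv2.deg k X E 2 := by linarith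
  have hdC' : Curv2.deg k X C' 1 = Curv2.deg k X G' 1 := by linarith
  -- `G'` is not invariant
  have hninv : ¬ Inv L φ i' := fun hinv => by
    have := hst G' 1 i' inferInstance one_pos (by norm_num) hG' hinv
    push_cast at this
    linarith
  haveI : Mono (ShortComplex.mk i' p w).f := hS.mono_f
  have hf : i' ≫ φ ≫ (twR L).map p ≠ 0 := fun h0 =>
    hninv (inv_of_exact hL (ShortComplex.mk i' p w) hS.exact φ h0)
  have hCL : FlatMod.IsFinLocFreeOfRank 1 ((twR L).obj C') := isFinLocFreeOfRank_tw hL hC'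
  have hdCL : Curv2.deg k X ((twR L).obj C') 1 = Curv2.deg k X C' 1 := by
    have h := deg_tw k hdim hC' hL
    rw [hL0] at h
    simpa using h
  haveI hfiso : IsIso (i' ≫ φ ≫ (twR L).map p) :=
    isIso_of_ne_zero_of_deg_eq k hdim hG' hCL _ hf (by rw [hdCL, hdC'])
  -- the equivalence
  obtain ⟨e⟩ := tensor_dual_iso hL
  haveI := isEquivalence_twR L (dual L) e
  -- a section of `p`
  have hσ : (inv (i' ≫ φ ≫ (twR L).map p) ≫ i' ≫ φ) ≫ (twR L).map p = 𝟙 _ := by
    rw [Category.assoc, Category.assoc, IsIso.inv_hom_id]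
  have hs : (twR L).preimage (inv (i' ≫ φ ≫ (twR L).map p) ≫ i' ≫ φ) ≫ p = 𝟙 C' :=
    (twR L).map_injective (by
      rw [CategoryTheory.Functor.map_comp, CategoryTheory.Functor.map_preimage, hσ, CategoryTheory.Functor.map_id])
  generalize (twR L).preimage (inv (i' ≫ φ ≫ (twR L).map p) ≫ i' ≫ φ) = s at hs
  let sp := ShortComplex.Splitting.ofExactOfSection (ShortComplex.mk i' p w) hS.exact s hs
    hS.mono_f
  have hq1 : i' ≫ sp.r = 𝟙 G' := sp.f_r
  have hq2 : s ≫ sp.r = 0 := sp.s_r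
  have hid : sp.r ≫ i' + p ≫ s = 𝟙 E := sp.id
  generalize sp.r = q at hq1 hq2 hid
  have sp' : (ShortComplex.mk s q hq2).Splitting :=
    { r := p, s := i', f_r := hs, s_g := hq1, id := by rw [add_comm]; exact hid }
  have hS' : (ShortComplex.mk s q hq2).ShortExact := sp'.shortExact
  haveI : Mono s := hS'.mono_f
  haveI : Mono (ShortComplex.mk s q hq2).f := hS'.mono_f
  have hninv' : ¬ Inv L φ s := fun hinv => by
    have := hst C' 1 s inferInstance one_pos (by norm_num) hC' hinv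
    push_cast at this
    linarith
  have hg : s ≫ φ ≫ (twR L).map q ≠ 0 := fun h0 =>
    hninv' (inv_of_exact hL (ShortComplex.mk s q hq2) hS'.exact φ h0)
  have hGL : FlatMod.IsFinLocFreeOfRank 1 ((twR L).obj G') := isFinLocFreeOfRank_tw hL hG'
  have hdGL : Curv2.deg k X ((twR L).obj G') 1 = Curv2.deg k X G' 1 := by
    have h := deg_tw k hdim hG' hL
    rw [hL0] at h
    simpa using h
  haveI hgiso : IsIso (s ≫ φ ≫ (twR L).map q) :=
    isIso_of_ne_zero_of_deg_eq k hdim hC' hGL _ hg (by rw [hdGL, hdC'])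
  -- `G' ≅ (G' ⊗ L) ⊗ L`
  have α : G' ≅ (twR L).obj C' := asIso (i' ≫ φ ≫ (twR L).map p)
  have β : C' ≅ (twR L).obj G' := asIso (s ≫ φ ≫ (twR L).map q)
  have γ : G' ≅ CohB1.tensorMod (CohB1.tensorMod G' L) L := α ≪≫ (twR L).mapIso β
  have hG'inv : PicF.IsInvertible G' := isInvertible_of_rank_one hG'
  obtain ⟨e'⟩ := tensor_dual_iso hG'inv
  haveI := isEquivalence_twR G' (dual G') e'
  have δ : (twR G').obj (Coh.structureModule X) ≅ (twR G').obj (CohB1.tensorMod L L) :=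
    unitorL G' ≪≫ γ ≪≫ assoc G' L L ≪≫ braid G' (CohB1.tensorMod L L)
  exact hL2 ⟨((twR G').preimageIso δ).symm⟩

end Groth.Agent.Lib.Helper23.HiggsInv
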