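import Groth.Agent.Lib.Helper23.EffCartDeg
import Groth.Agent.Lib.Helper17.GenFreeSheaf
import Groth.Agent.Lib.Helper17.Hartogs
import Groth.Agent.Lib.Helper3.QCPush
import Groth.Agent.Lib.Helper13.FTApprox
import Groth.Agent.S9514

/-!
# Dévissage on an integral proper curve: `χ(F ⊗ E) - n χ(F) = r(F) · deg E`
-/

set_option autoImplicit false
universe u
open CategoryTheory CategoryTheory.Limits AlgebraicGeometry TopologicalSpace Opposite
open Scheme.Modules

noncomputable section

namespace Groth.Agent.Lib.Helper23.Dev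

open Groth.Agent.Lib.Helper3 Groth.Agent.Lib.Helper3.QCSec Groth.Agent.Lib.Helper3.InvGen
  Groth.Agent.Lib.Helper3.InvMonoidal Groth.Agent.Lib.Helper3.FreeBasis
  Groth.Agent.Lib.Helper7.TwFun
open Groth.Agent.Lib.Helper23.T2 Groth.Agent.Lib.Helper23.Curve Groth.Agent.Lib.Helper23.Twist
  Groth.Agent.Lib.Helper23.TwE Groth.Agent.Lib.Helper23.TensorPts
  Groth.Agent.Lib.Helper23.EffCart

variable {X : Scheme.{u}}

/-- `u` is bijective on sections over every open contained in `U` -/
def IsoOn {H F : X.Modules} (u : H ⟶ F) (U : X.Opens) : Prop :=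
  ∀ V : X.Opens, V ≤ U → Function.Bijective (u.app V)

theorem vanishesOn_kernel {H F : X.Modules} (u : H ⟶ F) {U : X.Opens} (hu : IsoOn u U) :
    VanishesOn (kernel u) U := by
  intro V hV t
  apply QCExact.injective_sections (kernel.ι u) V
  rw [QCExact.app_zero]
  apply (hu V hV).1
  rw [QCExact.app_zero]
  have h : (kernel.ι u ≫ u).app V t = 0 := by
    rw [kernel.condition]; rfl
  exact h

theorem vanishesOn_cokernel_of_comp {A H F : X.Modules} (u : H ⟶ F) (w : A ⟶ F) (p : H ⟶ A)
    (hpw : p ≫ w = u) {U : X.Opens} (hu : IsoOn u U) : VanishesOn (cokernel w) U := by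
  intro V hV s
  apply ModBasis.eq_zero_of_locally_zero
  intro x hxV
  obtain ⟨W', hW', hxW', f, hf⟩ := QCExact.exists_local_lift (cokernel.π w) V s x hxV
  refine ⟨W', hW', hxW', ?_⟩
  obtain ⟨h, hh⟩ := (hu W' (hW'.trans hV)).2 f
  have h1 : (w ≫ cokernel.π w).app W' (p.app W' h) = 0 := by
    rw [cokernel.condition]; rfl
  have h2 : w.app W' (p.app W' h) = f := by
    rw [← hh, ← hpw]; rfl
  have h3 : (cokernel.π w).app W' f = 0 := by
    rw [← h2]; exact h1
  exact hf.symm.trans h3

/-! ### the fibre product of two maps, as a kernel -/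

section Fib

theorem app_add' {M N : X.Modules} (φ : M ⟶ N) (W : X.Opens) (x y : Γ(M, W)) :
    φ.app W (x + y) = φ.app W x + φ.app W y := _root_.map_add _ x y

theorem app_neg' {M N : X.Modules} (φ : M ⟶ N) (W : X.Opens) (x : Γ(M, W)) :
    φ.app W (-x) = -φ.app W x := _root_.map_neg _ x

variable {A B T : X.Modules} (a : A ⟶ T) (b : B ⟶ T)

lemma biprod_decomp (V : X.Opens) (y : Γ((A ⊞ B : X.Modules), V)) :
    y = (biprod.inl : A ⟶ A ⊞ B).app V ((biprod.fst : A ⊞ B ⟶ A).app V y) +
      (biprod.inr : B ⟶ A ⊞ B).app V ((biprod.snd : A ⊞ B ⟶ B).app V y) := by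
  have h := congrArg (fun f : (A ⊞ B : X.Modules) ⟶ A ⊞ B => f.app V y)
    (biprod.total (X := A) (Y := B))
  exact h.symm

lemma desc_inl (V : X.Opens) (x : Γ(A, V)) :
    (biprod.desc a b).app V ((biprod.inl : A ⟶ A ⊞ B).app V x) = a.app V x :=
  congrArg (fun f : A ⟶ T => f.app V x) (biprod.inl_desc a b)

lemma desc_inr (V : X.Opens) (z : Γ(B, V)) :
    (biprod.desc a b).app V ((biprod.inr : B ⟶ A ⊞ B).app V z) = b.app V z :=
  congrArg (fun f : B ⟶ T => f.app V z) (biprod.inr_desc a b)

lemma fst_inl (V : X.Opens) (x : Γ(A, V)) :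
    (biprod.fst : A ⊞ B ⟶ A).app V ((biprod.inl : A ⟶ A ⊞ B).app V x) = x :=
  congrArg (fun f : A ⟶ A => f.app V x) (biprod.inl_fst (X := A) (Y := B))

lemma fst_inr (V : X.Opens) (z : Γ(B, V)) :
    (biprod.fst : A ⊞ B ⟶ A).app V ((biprod.inr : B ⟶ A ⊞ B).app V z) = 0 :=
  congrArg (fun f : B ⟶ A => f.app V z) (biprod.inr_fst (X := A) (Y := B))

lemma snd_inl (V : X.Opens) (x : Γ(A, V)) :
    (biprod.snd : A ⊞ B ⟶ B).app V ((biprod.inl : A ⟶ A ⊞ B).app V x) = 0 :=
  congrArg (fun f : A ⟶ B => f.app V x) (biprod.inl_snd (X := A) (Y := B))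

lemma snd_inr (V : X.Opens) (z : Γ(B, V)) :
    (biprod.snd : A ⊞ B ⟶ B).app V ((biprod.inr : B ⟶ A ⊞ B).app V z) = z :=
  congrArg (fun f : B ⟶ B => f.app V z) (biprod.inr_snd (X := A) (Y := B))

lemma desc_kernel (V : X.Opens) (t : Γ(kernel (biprod.desc a b), V)) :
    (biprod.desc a b).app V ((kernel.ι (biprod.desc a b)).app V t) = 0 := by
  have h : (kernel.ι (biprod.desc a b) ≫ biprod.desc a b).app V t = 0 := by
    rw [kernel.condition]; rfl
  exact h

/-- the first projection of the fibre product is an isomorphism where `b` is -/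
theorem isoOn_fst {U : X.Opens} (hb : IsoOn b U) :
    IsoOn (kernel.ι (biprod.desc a b) ≫ biprod.fst) U := by
  intro V hV
  constructor
  · intro t t' htt
    apply QCExact.injective_sections (kernel.ι (biprod.desc a b)) V
    set y := (kernel.ι (biprod.desc a b)).app V t with hy
    set y' := (kernel.ι (biprod.desc a b)).app V t' with hy'
    have h1 : (biprod.fst : A ⊞ B ⟶ A).app V y = (biprod.fst : A ⊞ B ⟶ A).app V y' := htt
    have hd : (biprod.desc a b).app V y = 0 := desc_kernel a b V t
    have hd' : (biprod.desc a b).app V y' = 0 := desc_kernel a b V t'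
    rw [biprod_decomp V y, app_add', desc_inl, desc_inr] at hd
    rw [biprod_decomp V y', app_add', desc_inl, desc_inr] at hd'
    have h2 : b.app V ((biprod.snd : A ⊞ B ⟶ B).app V y) =
        b.app V ((biprod.snd : A ⊞ B ⟶ B).app V y') := by
      have e1 := eq_neg_of_add_eq_zero_right hd
      have e2 := eq_neg_of_add_eq_zero_right hd'
      rw [e1, e2, h1]
    have h3 := (hb V hV).1 h2
    rw [biprod_decomp V y, biprod_decomp V y', h1, h3]
  · intro x
    obtain ⟨z, hz⟩ := (hb V hV).2 (-(a.app V x))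
    let y : Γ((A ⊞ B : X.Modules), V) :=
      (biprod.inl : A ⟶ A ⊞ B).app V x + (biprod.inr : B ⟶ A ⊞ B).app V z
    have hy : (biprod.desc a b).app V y = 0 := by
      show (biprod.desc a b).app V ((biprod.inl : A ⟶ A ⊞ B).app V x +
        (biprod.inr : B ⟶ A ⊞ B).app V z) = 0
      rw [app_add', desc_inl, desc_inr, hz, add_neg_cancel]
    let S : ShortComplex X.Modules :=
      ShortComplex.mk (kernel.ι (biprod.desc a b)) (biprod.desc a b) (kernel.condition _)
    have hS : S.Exact := ShortComplex.exact_kernel _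
    haveI : Mono S.f := inferInstanceAs (Mono (kernel.ι (biprod.desc a b)))
    obtain ⟨t, ht⟩ := QCExact.exact_sections S hS V y hy
    refine ⟨t, ?_⟩
    show (biprod.fst : A ⊞ B ⟶ A).app V ((kernel.ι (biprod.desc a b)).app V t) = x
    have ht' : (kernel.ι (biprod.desc a b)).app V t = y := ht
    rw [ht']
    show (biprod.fst : A ⊞ B ⟶ A).app V ((biprod.inl : A ⟶ A ⊞ B).app V x +
        (biprod.inr : B ⟶ A ⊞ B).app V z) = x
    rw [app_add', fst_inl, fst_inr, add_zero]

/-- the second projection of the fibre product is an isomorphism where `a` is -/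
theorem isoOn_snd {U : X.Opens} (ha : IsoOn a U) :
    IsoOn (kernel.ι (biprod.desc a b) ≫ biprod.snd) U := by
  intro V hV
  constructor
  · intro t t' htt
    apply QCExact.injective_sections (kernel.ι (biprod.desc a b)) V
    set y := (kernel.ι (biprod.desc a b)).app V t with hy
    set y' := (kernel.ι (biprod.desc a b)).app V t' with hy'
    have h1 : (biprod.snd : A ⊞ B ⟶ B).app V y = (biprod.snd : A ⊞ B ⟶ B).app V y' := htt
    have hd : (biprod.desc a b).app V y = 0 := desc_kernel a b V t
    have hd' : (biprod.desc a b).app V y' = 0 := desc_kernel a b V t'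
    rw [biprod_decomp V y, app_add', desc_inl, desc_inr] at hd
    rw [biprod_decomp V y', app_add', desc_inl, desc_inr] at hd'
    have h2 : a.app V ((biprod.fst : A ⊞ B ⟶ A).app V y) =
        a.app V ((biprod.fst : A ⊞ B ⟶ A).app V y') := by
      have e1 := eq_neg_of_add_eq_zero_left hd
      have e2 := eq_neg_of_add_eq_zero_left hd'
      rw [e1, e2, h1]
    have h3 := (ha V hV).1 h2
    rw [biprod_decomp V y, biprod_decomp V y', h1, h3]
  · intro z
    obtain ⟨x, hx⟩ := (ha V hV).2 (-(b.app V z))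
    let y : Γ((A ⊞ B : X.Modules), V) :=
      (biprod.inl : A ⟶ A ⊞ B).app V x + (biprod.inr : B ⟶ A ⊞ B).app V z
    have hy : (biprod.desc a b).app V y = 0 := by
      show (biprod.desc a b).app V ((biprod.inl : A ⟶ A ⊞ B).app V x +
        (biprod.inr : B ⟶ A ⊞ B).app V z) = 0
      rw [app_add', desc_inl, desc_inr, hx, neg_add_cancel]
    let S : ShortComplex X.Modules :=
      ShortComplex.mk (kernel.ι (biprod.desc a b)) (biprod.desc a b) (kernel.condition _)
    have hS : S.Exact := ShortComplex.exact_kernel _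
    haveI : Mono S.f := inferInstanceAs (Mono (kernel.ι (biprod.desc a b)))
    obtain ⟨t, ht⟩ := QCExact.exact_sections S hS V y hy
    refine ⟨t, ?_⟩
    show (biprod.snd : A ⊞ B ⟶ B).app V ((kernel.ι (biprod.desc a b)).app V t) = z
    have ht' : (kernel.ι (biprod.desc a b)).app V t = y := ht
    rw [ht']
    show (biprod.snd : A ⊞ B ⟶ B).app V ((biprod.inl : A ⟶ A ⊞ B).app V x +
        (biprod.inr : B ⟶ A ⊞ B).app V z) = z
    rw [app_add', snd_inl, snd_inr, zero_add]

end Fib

theorem isoOn_of_isIso {M N : X.Modules} (f : M ⟶ N) [IsIso f] (U : X.Opens) : IsoOn f U := by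
  intro V _
  have h1 : IsIso (f.app V) := Scheme.Modules.Hom.isIso_iff_isIso_app.mp inferInstance V
  exact (ConcreteCategory.isIso_iff_bijective (f.app V)).mp h1

theorem IsoOn.comp {M N P : X.Modules} {f : M ⟶ N} {g : N ⟶ P} {U : X.Opens} (hf : IsoOn f U)
    (hg : IsoOn g U) : IsoOn (f ≫ g) U := by
  intro V hV
  exact (hg V hV).comp (hf V hV)

theorem isoOn_unit (F : X.Modules) (U : X.Opens) : IsoOn (Groth.Agent.Lib.Helper17.Hartogs.unit F U) U := by
  intro V hV
  rw [Groth.Agent.Lib.Helper17.Hartogs.bijective_unit_app_iff]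
  exact Groth.Agent.Lib.Helper17.Hartogs.bijective_map_of_ge F _ (le_inf le_rfl hV)

/-- generic comparison of a coherent module with a free module -/
theorem exists_common [IsIntegral X] [IsLocallyNoetherian X] {F : X.Modules} (hF : Coh.IsCoh F) :
    ∃ (H : X.Modules) (u : H ⟶ F)
      (v : H ⟶ FlatMod.freeMod X (Module.finrank (X.presheaf.stalk (genericPoint X))
          (F.presheaf.stalk (genericPoint X)))) (U : X.Opens),
      (U : Set X).Nonempty ∧ Coh.IsCoh H ∧ IsoOn u U ∧ IsoOn v U := by
  haveI : F.IsQuasicoherent := hF.1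
  haveI : F.IsFiniteType := hF.2
  obtain ⟨U, hU, ⟨φ⟩⟩ := Groth.Agent.Lib.Helper17.GenFreeSheaf.exists_open_free F
  generalize Module.finrank (X.presheaf.stalk (genericPoint X))
    (F.presheaf.stalk (genericPoint X)) = r at φ ⊢
  obtain ⟨ψ⟩ := nonempty_iso_of_isBasis (isBasis_bsec (X := X) r U)
  have hfree : FlatMod.IsFinLocFreeOfRank r (FlatMod.freeMod X r) :=
    isFinLocFreeOfRank_iff.mpr (fun x => ⟨⊤, _, trivial, isBasis_bsec r ⊤⟩)
  have hOc := isCoh_of_isFinLocFreeOfRank hfree
  haveI : (FlatMod.freeMod X r).IsQuasicoherent := hOc.1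
  haveI : (FlatMod.freeMod X r).IsFiniteType := hOc.2
  let a := Groth.Agent.Lib.Helper17.Hartogs.unit F U
  let b := Groth.Agent.Lib.Helper17.Hartogs.unit (FlatMod.freeMod X r) U ≫
    (Scheme.Modules.pushforward U.ι).map (ψ.hom ≫ φ.inv)
  have ha : IsoOn a U := isoOn_unit F U
  have hb : IsoOn b U := (isoOn_unit _ U).comp (isoOn_of_isIso _ U)
  haveI : (F ⊞ FlatMod.freeMod X r : X.Modules).IsQuasicoherent :=
    QCLim.isQuasicoherent_biprod _ _
  haveI : (F ⊞ FlatMod.freeMod X r : X.Modules).IsFiniteType :=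
    Groth.Agent.Lib.Helper13.FTApprox.isFiniteType_biprod _ _
  haveI : (kernel (biprod.desc a b)).IsQuasicoherent := QCProps.isQuasicoherent_kernel _
  refine ⟨kernel (biprod.desc a b), kernel.ι _ ≫ biprod.fst, kernel.ι _ ≫ biprod.snd, U, hU,
    ⟨inferInstance, QCProps.isFiniteType_of_mono (kernel.ι (biprod.desc a b))⟩,
    isoOn_fst a b hb, isoOn_snd a b ha⟩

/-! ### free modules as iterated split extensions -/

section Free

variable (X)

theorem isFinLocFreeOfRank_freeMod (r : ℕ) :
    FlatMod.IsFinLocFreeOfRank r (FlatMod.freeMod X r) :=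
  isFinLocFreeOfRank_iff.mpr (fun _ => ⟨⊤, _, trivial, isBasis_bsec r ⊤⟩)

theorem isCoh_freeMod (r : ℕ) : Coh.IsCoh (FlatMod.freeMod X r) :=
  isCoh_of_isFinLocFreeOfRank (isFinLocFreeOfRank_freeMod X r)

theorem isZero_freeMod_zero : IsZero (FlatMod.freeMod X 0) := by
  rw [IsZero.iff_id_eq_zero]
  have h := sum_proj_inj (X := X) 0
  rw [← h]
  exact Finset.sum_empty

def gmap (r : ℕ) : FlatMod.freeMod X (r + 1) ⟶ FlatMod.freeMod X r :=
  ∑ i : Fin r, proj X (r + 1) i.castSucc ≫ inj X r i

def smap (r : ℕ) : FlatMod.freeMod X r ⟶ FlatMod.freeMod X (r + 1) :=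
  ∑ i : Fin r, proj X r i ≫ inj X (r + 1) i.castSucc

lemma inj_last_gmap (r : ℕ) : inj X (r + 1) (Fin.last r) ≫ gmap X r = 0 := by
  unfold gmap
  rw [Preadditive.comp_sum]
  apply Finset.sum_eq_zero
  intro i _
  rw [← Category.assoc, inj_proj, if_neg (Fin.castSucc_lt_last i).ne', zero_comp]

lemma smap_gmap (r : ℕ) : smap X r ≫ gmap X r = 𝟙 _ := by
  unfold smap gmap
  rw [Preadditive.sum_comp]
  have key : ∀ i : Fin r, (proj X r i ≫ inj X (r + 1) i.castSucc) ≫
      ∑ j : Fin r, proj X (r + 1) j.castSucc ≫ inj X r j = proj X r i ≫ inj X r i := by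
    intro i
    rw [Preadditive.comp_sum, Finset.sum_eq_single i]
    · rw [Category.assoc, ← Category.assoc (inj X (r + 1) i.castSucc), inj_proj, if_pos rfl,
        Category.id_comp]
    · intro j _ hji
      rw [Category.assoc, ← Category.assoc (inj X (r + 1) i.castSucc), inj_proj,
        if_neg (fun h => hji (Fin.castSucc_injective _ h).symm), zero_comp, comp_zero]
    · intro h
      exact absurd (Finset.mem_univ i) h
  rw [Finset.sum_congr rfl (fun i _ => key i)]
  exact sum_proj_inj r

lemma split_id (r : ℕ) :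
    proj X (r + 1) (Fin.last r) ≫ inj X (r + 1) (Fin.last r) + gmap X r ≫ smap X r = 𝟙 _ := by
  unfold gmap smap
  rw [Preadditive.sum_comp]
  have key : ∀ i : Fin r, (proj X (r + 1) i.castSucc ≫ inj X r i) ≫
      ∑ j : Fin r, proj X r j ≫ inj X (r + 1) j.castSucc =
        proj X (r + 1) i.castSucc ≫ inj X (r + 1) i.castSucc := by
    intro i
    rw [Preadditive.comp_sum, Finset.sum_eq_single i]
    · rw [Category.assoc, ← Category.assoc (inj X r i), inj_proj, if_pos rfl, Category.id_comp]
    · intro j _ hji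
      rw [Category.assoc, ← Category.assoc (inj X r i), inj_proj,
        if_neg (fun h => hji h.symm), zero_comp, comp_zero]
    · intro h
      exact absurd (Finset.mem_univ i) h
  rw [Finset.sum_congr rfl (fun i _ => key i)]
  have h := Fin.sum_univ_castSucc (fun j : Fin (r + 1) => proj X (r + 1) j ≫ inj X (r + 1) j)
  have h2 := sum_proj_inj (X := X) (r + 1)
  rw [h] at h2
  rw [← h2]
  exact add_comm _ _

def freeSC (r : ℕ) : ShortComplex X.Modules :=
  ShortComplex.mk (inj X (r + 1) (Fin.last r)) (gmap X r) (inj_last_gmap X r)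

def freeSplitting (r : ℕ) : (freeSC X r).Splitting where
  r := proj X (r + 1) (Fin.last r)
  s := smap X r
  f_r := by
    show inj X (r + 1) (Fin.last r) ≫ proj X (r + 1) (Fin.last r) = 𝟙 _
    rw [inj_proj, if_pos rfl]
  s_g := smap_gmap X r
  id := split_id X r

lemma freeSC_shortExact (r : ℕ) : (freeSC X r).ShortExact := (freeSplitting X r).shortExact

end Free

section Euler

variable (k : Type u) [Field k] [X.Over (Spec (CommRingCat.of k))]
  [IsProper (X ↘ Spec (CommRingCat.of k))]

/-- `δ_E(F) = χ(F ⊗ E) - n χ(F)` -/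
def delta (n : ℕ) (E F : X.Modules) : ℤ :=
  Curv2.euler k X (CohB1.tensorMod F E) - n * Curv2.euler k X F

variable {n : ℕ} {E : X.Modules} (hE : FlatMod.IsFinLocFreeOfRank n E)

include hE in
theorem delta_additive (S : ShortComplex X.Modules) (hS : S.ShortExact) (h1 : Coh.IsCoh S.X₁)
    (h2 : Coh.IsCoh S.X₂) (h3 : Coh.IsCoh S.X₃) :
    delta k n E S.X₂ = delta k n E S.X₁ + delta k n E S.X₃ := by
  have hEc := isCoh_of_isFinLocFreeOfRank hE
  have hS' := shortExact_twE hE S hS
  have ha := euler_additive k X _ hS' (isCoh_tensor X h1 hEc) (isCoh_tensor X h2 hEc)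
    (isCoh_tensor X h3 hEc)
  have ha' : Curv2.euler k X (CohB1.tensorMod S.X₂ E) =
      Curv2.euler k X (CohB1.tensorMod S.X₁ E) + Curv2.euler k X (CohB1.tensorMod S.X₃ E) := ha
  have hb := euler_additive k X S hS h1 h2 h3
  unfold delta
  rw [ha', hb]
  ring

include hE in
theorem delta_eq_of_iso {F G : X.Modules} (e : F ≅ G) (hF : Coh.IsCoh F) :
    delta k n E F = delta k n E G := by
  have hEc := isCoh_of_isFinLocFreeOfRank hE
  unfold delta
  rw [euler_eq_of_iso k e hF,
    euler_eq_of_iso k (tensorMapIso e (Iso.refl E)) (isCoh_tensor X hF hEc)]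

include hE in
theorem delta_zero_of_vanishesOn [IsIntegral X] (hdim : topologicalKrullDim X ≤ 1)
    {F : X.Modules} (hF : Coh.IsCoh F) {U : X.Opens} (hU : (U : Set X).Nonempty)
    (hv : VanishesOn F U) : delta k n E F = 0 := by
  haveI := isNoetherian_of_isProper k X
  have hZ : IsClosed ((U : Set X)ᶜ) := U.isOpen.isClosed_compl
  have hne : (U : Set X)ᶜ ≠ Set.univ := by
    intro h
    obtain ⟨x, hx⟩ := hU
    have : x ∈ (U : Set X)ᶜ := h ▸ Set.mem_univ x
    exact this hx
  obtain ⟨hfin, hcl⟩ := finite_of_isClosed_ne_univ hdim _ hZ hne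
  have hvan : ∀ V : X.Opens, Disjoint (V : Set X) ((U : Set X)ᶜ) → ∀ t : Γ(F, V), t = 0 := by
    intro V hV t
    apply hv V _ t
    intro x hx
    by_contra hxU
    exact Set.disjoint_left.1 hV hx hxU
  have h := euler_tensor_of_vanishing k X F hF _ hZ hfin hcl hvan n E hE
  unfold delta
  rw [h]
  ring

include hE in
/-- a morphism of coherent modules which is an isomorphism over a nonempty open has
`δ(H) = δ(F)` -/
theorem delta_eq_of_isoOn [IsIntegral X] (hdim : topologicalKrullDim X ≤ 1)
    {H F : X.Modules} (hH : Coh.IsCoh H) (hF : Coh.IsCoh F) (u : H ⟶ F) {U : X.Opens}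
    (hU : (U : Set X).Nonempty) (hu : IsoOn u U) : delta k n E H = delta k n E F := by
  haveI := isNoetherian_of_isProper k X
  have hK : Coh.IsCoh (kernel u) := (Groth.Agent.S9514.result X hH hF u).1
  have hCo : Coh.IsCoh (Abelian.coimage u) :=
    (Groth.Agent.S9514.result X hK hH (kernel.ι u)).2
  have hCk : Coh.IsCoh (cokernel (Abelian.factorThruCoimage u)) :=
    (Groth.Agent.S9514.result X hCo hF (Abelian.factorThruCoimage u)).2
  have h1 := delta_additive k hE (cokerSC (kernel.ι u)) (cokerSC_shortExact (kernel.ι u))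
    hK hH hCo
  have h2 := delta_additive k hE (cokerSC (Abelian.factorThruCoimage u))
    (cokerSC_shortExact (Abelian.factorThruCoimage u)) hCo hF hCk
  have h1' : delta k n E H = delta k n E (kernel u) + delta k n E (Abelian.coimage u) := h1
  have h2' : delta k n E F = delta k n E (Abelian.coimage u) +
      delta k n E (cokernel (Abelian.factorThruCoimage u)) := h2
  have z1 := delta_zero_of_vanishesOn k hE hdim hK hU (vanishesOn_kernel u hu)
  have z2 := delta_zero_of_vanishesOn k hE hdim hCk hU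
    (vanishesOn_cokernel_of_comp u (Abelian.factorThruCoimage u) (Abelian.coimage.π u)
      (Abelian.coimage.fac u) hu)
  rw [h1', h2', z1, z2]
  ring

include hE in
theorem delta_of_isZero {Z : X.Modules} (hZ : IsZero Z) : delta k n E Z = 0 := by
  have h1 : IsZero ((twR E).obj Z) := (twR E).map_isZero hZ
  have h2 : Curv2.euler k X (CohB1.tensorMod Z E) = 0 := euler_eq_zero_of_isZero k X _ h1
  unfold delta
  rw [h2, euler_eq_zero_of_isZero k X _ hZ]
  ring

include hE in
theorem delta_freeMod (r : ℕ) :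
    delta k n E (FlatMod.freeMod X r) = r * delta k n E (Coh.structureModule X) := by
  induction r with
  | zero =>
    rw [delta_of_isZero k hE (isZero_freeMod_zero X)]
    simp
  | succ r ih =>
    have h := delta_additive k hE (freeSC X r) (freeSC_shortExact X r)
      (T2.isCoh_structureModule X) (isCoh_freeMod X (r + 1)) (isCoh_freeMod X r)
    have h' : delta k n E (FlatMod.freeMod X (r + 1)) =
        delta k n E (Coh.structureModule X) + delta k n E (FlatMod.freeMod X r) := h
    rw [h', ih]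
    push_cast
    ring

include hE in
theorem delta_structureModule : delta k n E (Coh.structureModule X) = Curv2.deg k X E n := by
  have hEc := isCoh_of_isFinLocFreeOfRank hE
  unfold delta Curv2.deg
  rw [euler_eq_of_iso k (unitorL E) (isCoh_tensor X (T2.isCoh_structureModule X) hEc)]

include hE in
/-- **`χ(F ⊗ E) - n χ(F) = r(F) · deg E`** on an integral proper curve. -/
theorem delta_eq [IsIntegral X] (hdim : topologicalKrullDim X ≤ 1) {F : X.Modules}
    (hF : Coh.IsCoh F) :
    delta k n E F = (Module.finrank (X.presheaf.stalk (genericPoint X))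
      (F.presheaf.stalk (genericPoint X)) : ℤ) * Curv2.deg k X E n := by
  haveI := isNoetherian_of_isProper k X
  obtain ⟨H, u, v, U, hU, hH, hu, hv⟩ := exists_common hF
  have h1 := delta_eq_of_isoOn k hE hdim hH hF u hU hu
  have h2 := delta_eq_of_isoOn k hE hdim hH (isCoh_freeMod X _) v hU hv
  rw [← h1, h2, delta_freeMod k hE, delta_structureModule k hE]

include hE in
theorem euler_tensor_curve [IsIntegral X] (hdim : topologicalKrullDim X ≤ 1) {F : X.Modules}
    (hF : Coh.IsCoh F) :
    Curv2.euler k X (CohB1.tensorMod E F) =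
      (Module.finrank (X.presheaf.stalk (genericPoint X))
        (F.presheaf.stalk (genericPoint X)) : ℤ) * Curv2.deg k X E n +
        n * Curv2.euler k X F := by
  have hEc := isCoh_of_isFinLocFreeOfRank hE
  have h := delta_eq k hE hdim hF
  have h5 : Curv2.euler k X (CohB1.tensorMod E F) = Curv2.euler k X (CohB1.tensorMod F E) :=
    euler_eq_of_iso k (braid E F) (isCoh_tensor X hEc hF)
  unfold delta at h
  rw [h5]
  linarith

end Euler

end Groth.Agent.Lib.Helper23.Dev
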