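import Groth.Agent.Lib.Helper23.SmoothCurve
import Groth.Agent.Lib.Helper23.CurveH
import Groth.Agent.Lib.Helper3.QCExact
import Groth.Agent.Lib.Helper3.ModBasis
import Groth.Prelude.Def_KLin

/-!
# StableEnd: endomorphisms of stable bundles on smooth proper curves

* `exists_ne_zero_smul_mem_range`: an injective endomorphism of a finite free module over a domain
  has torsion cokernel (killed by the determinant).
* `isZero_of_rank_zero`: finite locally free of rank `0` is zero.
* `exists_vanishesOn_cokernel_of_mono`, `isIso_of_mono_endo`: an injective endomorphism of a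
  finite locally free module on a proper integral curve is an isomorphism.
* `isIso_of_stable`: nonzero endomorphisms of stable bundles on smooth proper curves are
  isomorphisms.
-/
set_option autoImplicit false
set_option linter.style.haveILetI false
universe u
open CategoryTheory CategoryTheory.Limits AlgebraicGeometry TopologicalSpace Opposite
open Groth.Agent.Lib.Helper3 Groth.Agent.Lib.Helper3.QCSec Groth.Agent.Lib.Helper3.InvGen
open Groth.Agent.Lib.Helper3.FreeBasis Groth.Agent.Lib.Helper3.SecLoc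
open Groth.Agent.Lib.Helper23.T2 Groth.Agent.Lib.Helper23.Curve

noncomputable section

namespace Groth.Agent.Lib.Helper23.StableEnd

section Alg

lemma exists_ne_zero_smul_mem_range' {A : Type*} [CommRing A] [IsDomain A] {r : ℕ}
    (f : (Fin r → A) →ₗ[A] (Fin r → A)) (hf : Function.Injective f) :
    ∃ d : A, d ≠ 0 ∧ ∀ w, ∃ g, f g = d • w := by
  set M := LinearMap.toMatrix' f with hM
  have hdet : M.det ≠ 0 := by
    intro h0
    obtain ⟨v, hv, hMv⟩ := Matrix.exists_mulVec_eq_zero_iff.mpr h0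
    apply hv
    apply hf
    rw [map_zero, ← hMv, hM, LinearMap.toMatrix'_mulVec]
  refine ⟨M.det, hdet, fun w => ⟨M.adjugate.mulVec w, ?_⟩⟩
  have : f (M.adjugate.mulVec w) = M.mulVec (M.adjugate.mulVec w) := by
    rw [hM, LinearMap.toMatrix'_mulVec]
  rw [this, Matrix.mulVec_mulVec, Matrix.mul_adjugate, Matrix.smul_mulVec, Matrix.one_mulVec]

lemma exists_ne_zero_smul_mem_range {A M : Type*} [CommRing A] [IsDomain A] [AddCommGroup M]
    [Module A M] {r : ℕ} (e : (Fin r → A) ≃ₗ[A] M) (f : M →ₗ[A] M) (hf : Function.Injective f) :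
    ∃ d : A, d ≠ 0 ∧ ∀ w, ∃ g, f g = d • w := by
  obtain ⟨d, hd, h⟩ := exists_ne_zero_smul_mem_range'
    (e.symm.toLinearMap.comp (f.comp e.toLinearMap))
    (by
      intro a b hab
      have : f (e a) = f (e b) := e.symm.injective hab
      exact e.injective (hf this))
  refine ⟨d, hd, fun w => ?_⟩
  obtain ⟨g, hg⟩ := h (e.symm w)
  refine ⟨e g, ?_⟩
  have : e.symm (f (e g)) = d • e.symm w := hg
  have h2 := congrArg e this
  rwa [e.apply_symm_apply, map_smul, e.apply_symm_apply] at h2

lemma exists_scalar_not_surjective' {k A : Type u} [Field k] [IsAlgClosed k] [CommRing A]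
    [Nontrivial A] [Algebra k A] [Algebra.FiniteType k A] {r : ℕ} (hr : 0 < r)
    (f : (Fin r → A) →ₗ[A] (Fin r → A)) :
    ∃ a : k, ¬ Function.Surjective
      (f - algebraMap k A a • (LinearMap.id : (Fin r → A) →ₗ[A] (Fin r → A))) := by
  obtain ⟨m, hm⟩ := Ideal.exists_maximal A
  letI := Ideal.Quotient.field m
  haveI : Algebra.FiniteType k (A ⧸ m) :=
    Algebra.FiniteType.of_surjective (Ideal.Quotient.mkₐ k m) (Ideal.Quotient.mkₐ_surjective k m)
  haveI : Module.Finite k (A ⧸ m) := finite_of_finite_type_of_isJacobsonRing k (A ⧸ m)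
  have hbij : Function.Bijective (algebraMap k (A ⧸ m)) :=
    IsAlgClosed.algebraMap_bijective_of_isIntegral
  haveI : IsAlgClosed (A ⧸ m) :=
    IsAlgClosed.of_ringEquiv k (A ⧸ m) (RingEquiv.ofBijective (algebraMap k (A ⧸ m)) hbij)
  let q : A →+* A ⧸ m := Ideal.Quotient.mk m
  set M := LinearMap.toMatrix' f with hM
  let Mb : Matrix (Fin r) (Fin r) (A ⧸ m) := M.map q
  haveI : Nontrivial (Fin r → A ⧸ m) := by
    haveI : Nonempty (Fin r) := ⟨⟨0, hr⟩⟩
    infer_instance
  obtain ⟨c, hc⟩ := Module.End.exists_eigenvalue (Matrix.toLin' Mb)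
  obtain ⟨v, hv⟩ := hc.exists_hasEigenvector
  obtain ⟨a, ha⟩ := hbij.2 c
  refine ⟨a, fun hsurj => ?_⟩
  set g := f - algebraMap k A a • (LinearMap.id : (Fin r → A) →ₗ[A] (Fin r → A)) with hg
  obtain ⟨h, hh⟩ := g.exists_rightInverse_of_surjective (LinearMap.range_eq_top.mpr hsurj)
  have h1 : LinearMap.toMatrix' g * LinearMap.toMatrix' h = 1 := by
    rw [← LinearMap.toMatrix'_comp, hh, LinearMap.toMatrix'_id]
  have h2 : (LinearMap.toMatrix' g).det * (LinearMap.toMatrix' h).det = 1 := by
    rw [← Matrix.det_mul, h1, Matrix.det_one]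
  have hG : LinearMap.toMatrix' g = M - algebraMap k A a • (1 : Matrix (Fin r) (Fin r) A) := by
    rw [hg, map_sub, map_smul, LinearMap.toMatrix'_id]
  have h3 : ((LinearMap.toMatrix' g).map q).det ≠ 0 := by
    intro h0
    have := congrArg q h2
    rw [map_mul, RingHom.map_det, RingHom.mapMatrix_apply, h0, zero_mul, map_one] at this
    exact zero_ne_one this
  apply h3
  rw [← Matrix.exists_mulVec_eq_zero_iff]
  refine ⟨v, hv.2, ?_⟩
  have h4 : (LinearMap.toMatrix' g).map q = Mb - c • (1 : Matrix (Fin r) (Fin r) (A ⧸ m)) := by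
    rw [hG, Matrix.map_sub (f := q) (by intro x y; exact map_sub q x y)]
    congr 1
    ext i j
    simp only [Matrix.map_apply, Matrix.smul_apply, Matrix.one_apply, smul_eq_mul]
    split_ifs
    · rw [mul_one, mul_one, ← ha]; rfl
    · rw [mul_zero, mul_zero, map_zero]
  rw [h4, Matrix.sub_mulVec, Matrix.smul_mulVec, Matrix.one_mulVec, sub_eq_zero]
  have := hv.apply_eq_smul
  rwa [Matrix.toLin'_apply] at this

lemma exists_scalar_not_surjective {k A M : Type u} [Field k] [IsAlgClosed k] [CommRing A]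
    [Nontrivial A] [Algebra k A] [Algebra.FiniteType k A] [AddCommGroup M] [Module A M] {r : ℕ}
    (hr : 0 < r) (e : (Fin r → A) ≃ₗ[A] M) (f : M →ₗ[A] M) :
    ∃ a : k, ¬ Function.Surjective (f - algebraMap k A a • (LinearMap.id : M →ₗ[A] M)) := by
  obtain ⟨a, ha⟩ := exists_scalar_not_surjective' (k := k) hr
    (e.symm.toLinearMap.comp (f.comp e.toLinearMap))
  refine ⟨a, fun hsurj => ha ?_⟩
  intro w
  obtain ⟨m, hm⟩ := hsurj (e w)
  refine ⟨e.symm m, ?_⟩
  have h1 : f m - algebraMap k A a • m = e w := hm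
  change e.symm (f (e (e.symm m))) - algebraMap k A a • e.symm m = w
  rw [e.apply_symm_apply, ← map_smul, ← map_sub, h1, e.symm_apply_apply]

end Alg

variable {X : Scheme.{u}}

/-- a finite locally free module of rank zero is zero. -/
lemma isZero_of_rank_zero {M : X.Modules} (hM : FlatMod.IsFinLocFreeOfRank 0 M) : IsZero M := by
  apply ModBasis.isZero_of_zero_on_basis
  intro W x hxW
  obtain ⟨U, e, hxU, hb⟩ := isFinLocFreeOfRank_iff.mp hM x
  refine ⟨W ⊓ U, ⟨hxW, hxU⟩, inf_le_left, fun t => ?_⟩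
  obtain ⟨a, ha⟩ := (hb (W ⊓ U) inf_le_right).2 t
  rw [← ha]
  simp

/-- an injective endomorphism of a finite locally free module on an integral scheme has cokernel
vanishing on a nonempty open. -/
theorem exists_vanishesOn_cokernel_of_mono [IsIntegral X] {E : X.Modules} {r : ℕ}
    (hE : FlatMod.IsFinLocFreeOfRank r E) (φ : E ⟶ E) [Mono φ] :
    ∃ D : X.Opens, (D : Set X).Nonempty ∧ VanishesOn (cokernel φ) D := by
  obtain ⟨x⟩ : Nonempty X := inferInstance
  obtain ⟨U, e, hxU, hb⟩ := isFinLocFreeOfRank_iff.mp hE x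
  haveI : Nonempty U := ⟨⟨x, hxU⟩⟩
  haveI : IsDomain Γ(X, U) := IsIntegral.component_integral (X := X) U
  obtain ⟨eE⟩ := free_of_isBasisAt hb.self
  obtain ⟨d, hd0, hd⟩ := exists_ne_zero_smul_mem_range eE (appLin φ U)
    ((QCProps.mono_iff_app_injective φ).mp inferInstance U)
  refine ⟨X.basicOpen d, ?_, ?_⟩
  · rw [Set.nonempty_iff_ne_empty]
    intro hemp
    apply hd0
    rw [← AlgebraicGeometry.basicOpen_eq_bot_iff]
    exact SetLike.coe_injective (hemp.trans Opens.coe_bot.symm)
  · intro V hVD t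
    have hDU : X.basicOpen d ≤ U := X.basicOpen_le d
    apply ModBasis.eq_zero_of_locally_zero
    intro y hy
    obtain ⟨V', hV'V, hyV', l, hl⟩ := QCExact.exists_local_lift (cokernel.π φ) V t y hy
    refine ⟨V', hV'V, hyV', ?_⟩
    change res (cokernel φ) hV'V t = 0
    have hV'U : V' ≤ U := (hV'V.trans hVD).trans hDU
    have hunit : IsUnit (rres X hV'U d) := by
      have h1 := RingedSpace.isUnit_res_basicOpen X.toRingedSpace d
      have h2 : rres X hV'U d = rres X (hV'V.trans hVD) (rres X hDU d) := (rres_rres _ _ d).symm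
      rw [h2]
      exact h1.map _
    obtain ⟨u, hu⟩ := hunit.exists_left_inv
    obtain ⟨a, ha⟩ := (hb V' hV'U).2 l
    choose g hg using fun i => hd (e i)
    have hl2 : l = φ.app V' (u • ∑ i, a i • res E hV'U (g i)) := by
      rw [Scheme.Modules.Hom.app_smul, FreeBasis.app_sum]
      have h3 : ∀ i, φ.app V' (a i • res E hV'U (g i)) =
          a i • (rres X hV'U d • res E hV'U (e i)) := by
        intro i
        rw [Scheme.Modules.Hom.app_smul, QCExact.app_res']
        have : φ.app U (g i) = d • e i := hg i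
        rw [this, res_smul]
      simp only [h3]
      have h4 : ∀ i, a i • (rres X hV'U d • res E hV'U (e i)) =
          rres X hV'U d • (a i • res E hV'U (e i)) := by
        intro i
        rw [smul_smul, smul_smul, mul_comm]
      simp only [h4]
      rw [← Finset.smul_sum, smul_smul, hu, one_smul]
      exact ha.symm
    have hzero : (cokernel.π φ).app V' (φ.app V' (u • ∑ i, a i • res E hV'U (g i))) = 0 := by
      have h3 : (φ ≫ cokernel.π φ).app V' (u • ∑ i, a i • res E hV'U (g i)) = 0 := by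
        rw [cokernel.condition φ, Scheme.Modules.Hom.zero_app]
        rfl
      exact h3
    rw [← hl2] at hzero
    exact hl.symm.trans hzero

section Proper
variable (k : Type u) [Field k] {X : Scheme.{u}} [X.Over (Spec (CommRingCat.of k))]
  [IsProper (X ↘ Spec (CommRingCat.of k))]

include k in
/-- an injective endomorphism of a finite locally free module on a proper integral curve is an
isomorphism. -/
theorem isIso_of_mono_endo [IsIntegral X] (hdim : topologicalKrullDim X ≤ 1) {E : X.Modules}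
    {r : ℕ} (hE : FlatMod.IsFinLocFreeOfRank r E) (φ : E ⟶ E) [Mono φ] : IsIso φ := by
  haveI := isNoetherian_of_isProper k X
  have hc := isCoh_of_isFinLocFreeOfRank hE
  have hcQ := (Groth.Agent.S9514.result X hc hc φ).2
  obtain ⟨D, hD, hvan⟩ := exists_vanishesOn_cokernel_of_mono hE φ
  have hfl : IsFlq (cokernel φ) := @isFlq_of_vanishesOn k _ X _ _ _ hdim _ D hD hvan
  have he := euler_additive k X (cokerSC φ) (cokerSC_shortExact φ) hc hc hcQ
  have h0 : Curv2.euler k X (cokernel φ) = 0 := by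
    have : Curv2.euler k X E = Curv2.euler k X E + Curv2.euler k X (cokernel φ) := he
    linarith
  have hz := isZero_of_isFlq_of_euler_eq_zero k X _ hcQ hfl h0
  haveI : Epi φ := Preadditive.epi_of_isZero_cokernel φ hz
  exact isIso_of_mono_of_epi φ

include k in
/-- **Nonzero endomorphisms of stable bundles are isomorphisms** (smooth proper integral curve). -/
theorem isIso_of_stable [IsIntegral X] [Smooth (X ↘ Spec (CommRingCat.of k))]
    (hdim : topologicalKrullDim X ≤ 1) (r : ℕ) (E : X.Modules)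
    (hE : FlatMod.IsFinLocFreeOfRank r E)
    (hst : ∀ (G : X.Modules) (s : ℕ) (ι : G ⟶ E), Mono ι → FlatMod.IsFinLocFreeOfRank s G →
      0 < s → s < r → Curv2.deg k X G s * (r : ℤ) < Curv2.deg k X E r * (s : ℤ))
    (φ : E ⟶ E) (hφ : φ ≠ 0) : IsIso φ := by
  haveI := isNoetherian_of_isProper k X
  haveI : Nonempty X := inferInstance
  have hc := isCoh_of_isFinLocFreeOfRank hE
  have hcK := (Groth.Agent.S9514.result X hc hc φ).1
  -- the short exact sequence 0 → ker φ → E → coim φ → 0
  let S := cokerSC (kernel.ι φ)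
  have hS : S.ShortExact := cokerSC_shortExact (kernel.ι φ)
  have hcI : Coh.IsCoh S.X₃ := (Groth.Agent.S9514.result X hcK hc (kernel.ι φ)).2
  obtain ⟨s, hK⟩ := SmoothCurve.isFinLocFreeOfRank_of_mono_of_smooth k hdim hcK (kernel.ι φ) hE
  haveI : Mono (Abelian.factorThruCoimage φ) := inferInstance
  obtain ⟨t, hI⟩ := SmoothCurve.isFinLocFreeOfRank_of_mono_of_smooth k hdim hcI
    (Abelian.factorThruCoimage φ) hE
  have hrank : r = s + t := rank_additive S hS hK hE hI
  have hdeg : Curv2.deg k X E r = Curv2.deg k X (kernel φ) s + Curv2.deg k X S.X₃ t :=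
    deg_additive k X S hS s r t hK hE hI
  have hfac : Abelian.coimage.π φ ≫ Abelian.factorThruCoimage φ = φ := Abelian.coimage.fac φ
  -- t ≠ 0
  have ht : 0 < t := by
    rcases Nat.eq_zero_or_pos t with h | h
    · exfalso
      subst h
      have hz : IsZero S.X₃ := isZero_of_rank_zero hI
      apply hφ
      rw [← hfac]
      have : Abelian.factorThruCoimage φ = 0 := hz.eq_of_src _ _
      rw [this, comp_zero]
    · exact h
  -- s = 0
  have hs : s = 0 := by
    by_contra hs0
    have hs' : 0 < s := Nat.pos_of_ne_zero hs0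
    have h1 := hst (kernel φ) s (kernel.ι φ) inferInstance hK hs' (by omega)
    have h2 := hst S.X₃ t (Abelian.factorThruCoimage φ) inferInstance hI ht (by omega)
    have h3 : (Curv2.deg k X (kernel φ) s + Curv2.deg k X S.X₃ t) * (r : ℤ) <
        Curv2.deg k X E r * ((s : ℤ) + (t : ℤ)) := by
      rw [add_mul, mul_add]
      exact add_lt_add h1 h2
    rw [← hdeg] at h3
    have h4 : (r : ℤ) = (s : ℤ) + (t : ℤ) := by exact_mod_cast hrank
    rw [h4] at h3
    exact lt_irrefl _ h3
  subst hs
  haveI : Mono φ := Preadditive.mono_of_isZero_kernel φ (isZero_of_rank_zero hK)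
  exact isIso_of_mono_endo k hdim hE φ

include k in
/-- **Stable bundles are simple**: every endomorphism of a stable bundle on a smooth proper
integral curve over an algebraically closed field is a scalar. -/
theorem scalar_of_stable [IsAlgClosed k] [IsIntegral X] [Smooth (X ↘ Spec (CommRingCat.of k))]
    (hdim : topologicalKrullDim X ≤ 1) (r : ℕ) (E : X.Modules)
    (hE : FlatMod.IsFinLocFreeOfRank r E)
    (hst : ∀ (G : X.Modules) (s : ℕ) (ι : G ⟶ E), Mono ι → FlatMod.IsFinLocFreeOfRank s G →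
      0 < s → s < r → Curv2.deg k X G s * (r : ℤ) < Curv2.deg k X E r * (s : ℤ))
    (φ : E ⟶ E) : ∃ a : k, φ = a • 𝟙 E := by
  rcases Nat.eq_zero_or_pos r with hr | hr
  · subst hr
    exact ⟨0, (isZero_of_rank_zero hE).eq_of_src _ _⟩
  obtain ⟨x⟩ : Nonempty X := inferInstance
  obtain ⟨U₀, e₀, hxU₀, hb₀⟩ := isFinLocFreeOfRank_iff.mp hE x
  obtain ⟨U, hU, hxU, hUU₀⟩ : ∃ U : X.Opens, IsAffineOpen U ∧ x ∈ U ∧ U ≤ U₀ := by
    obtain ⟨_, ⟨W, hW, rfl⟩, hxW, hWU⟩ := X.isBasis_affineOpens.exists_subset_of_mem_open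
      (show x ∈ (U₀ : Set X) from hxU₀) U₀.2
    exact ⟨W, hW, hxW, hWU⟩
  have hb : IsBasis E U (fun i => res E hUU₀ (e₀ i)) := hb₀.mono hUU₀
  haveI : Nonempty U := ⟨⟨x, hxU⟩⟩
  haveI : Nontrivial Γ(X, U) := Scheme.component_nontrivial X U
  obtain ⟨eE⟩ := free_of_isBasisAt hb.self
  -- the `k`-algebra structure on `Γ(X, U)`
  let ρ : k →+* Γ(X, U) := (X.presheaf.map (homOfLE (le_top : U ≤ ⊤)).op).hom.comp
    (Coh.toGlobal (X ↘ Spec (CommRingCat.of k)))
  letI : Algebra k Γ(X, U) := ρ.toAlgebra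
  haveI : Algebra.FiniteType k Γ(X, U) := by
    have e' : U ≤ (X ↘ Spec (CommRingCat.of k)) ⁻¹ᵁ ⊤ := fun x _ => Set.mem_univ _
    have hft : RingHom.FiniteType ((X ↘ Spec (CommRingCat.of k)).appLE ⊤ U e').hom :=
      HasRingHomProperty.appLE @LocallyOfFiniteType (X ↘ Spec (CommRingCat.of k)) inferInstance
        ⟨⊤, isAffineOpen_top _⟩ ⟨U, hU⟩ e'
    have hinv : RingHom.FiniteType (Scheme.ΓSpecIso (CommRingCat.of k)).inv.hom :=
      RingHom.FiniteType.of_surjective _
        (ConcreteCategory.bijective_of_isIso (Scheme.ΓSpecIso (CommRingCat.of k)).inv).2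
    have hcomp := hft.comp hinv
    have heq : ((X ↘ Spec (CommRingCat.of k)).appLE ⊤ U e').hom.comp
        (Scheme.ΓSpecIso (CommRingCat.of k)).inv.hom = ρ := by
      ext c
      rfl
    rw [heq] at hcomp
    exact hcomp
  obtain ⟨a, ha⟩ := exists_scalar_not_surjective (k := k) hr eE (appLin φ U)
  refine ⟨a, ?_⟩
  by_contra hne
  have hψ : φ - a • 𝟙 E ≠ 0 := sub_ne_zero.mpr hne
  haveI := isIso_of_stable k hdim r E hE hst (φ - a • 𝟙 E) hψ
  apply ha
  intro w
  refine ⟨(inv (φ - a • 𝟙 E)).app U w, ?_⟩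
  have h1 : (φ - a • 𝟙 E).app U ((inv (φ - a • 𝟙 E)).app U w) = w := by
    have : (inv (φ - a • 𝟙 E) ≫ (φ - a • 𝟙 E)).app U w = w := by
      rw [IsIso.inv_hom_id]; rfl
    exact this
  have h2 : ∀ m : Γ(E, U), (φ - a • 𝟙 E).app U m = φ.app U m - ρ a • m := by
    intro m
    rw [Scheme.Modules.Hom.sub_app]
    change φ.app U m - (a • 𝟙 E).app U m = _
    rw [KLin.smul_app_apply]
    rfl
  rw [h2] at h1
  exact h1

end Proper

end Groth.Agent.Lib.Helper23.StableEnd
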