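import Groth.Agent.Lib.Helper23.CurveE

/-!
# CurveF: rank-two bundles that are extensions of line bundles (maximal subbundles)
-/
set_option autoImplicit false
universe u
open CategoryTheory CategoryTheory.Limits Opposite TopologicalSpace AlgebraicGeometry
open Groth.Agent.Lib.Helper3 Groth.Agent.Lib.Helper3.QCSec Groth.Agent.Lib.Helper3.InvGen
open Groth.Agent.Lib.Helper23.T2

noncomputable section

namespace Groth.Agent.Lib.Helper23.Curve

variable {X : Scheme.{u}}

lemma isFinLocFreeOfRank_one_of_isInvertible {L : X.Modules} (hL : PicF.IsInvertible L) :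
    FlatMod.IsFinLocFreeOfRank 1 L := by
  intro x
  obtain ⟨U, hxU, ⟨e⟩⟩ := hL x
  exact ⟨U, hxU, ⟨e ≪≫ (coproductUniqueIso
    (fun _ : Fin 1 => Coh.structureModule (U : Scheme.{u}))).symm⟩⟩

lemma not_isZero_of_isInvertible [Nonempty X] {L : X.Modules} (hL : PicF.IsInvertible L) :
    ¬ IsZero L := by
  intro hz
  obtain ⟨x⟩ : Nonempty X := inferInstance
  obtain ⟨U, e, -, hxU, -, hg⟩ := exists_affine_isGen_le hL x ⊤ (by trivial)
  haveI : Nonempty U := ⟨⟨x, hxU⟩⟩
  have he : e = 0 := by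
    have h1 : (𝟙 L : L ⟶ L) = 0 := hz.eq_of_src _ _
    have h2 : (𝟙 L : L ⟶ L).app U e = (0 : L ⟶ L).app U e := by rw [h1]
    simpa using h2
  have : (1 : Γ(X, U)) = 0 := hg.self.eq_zero (by rw [he, smul_zero])
  exact one_ne_zero this

lemma ne_zero_of_mono_of_isInvertible [Nonempty X] {L E : X.Modules} (hL : PicF.IsInvertible L)
    (f : L ⟶ E) [Mono f] : f ≠ 0 := by
  intro h
  apply not_isZero_of_isInvertible hL
  rw [IsZero.iff_id_eq_zero, ← cancel_mono f, h]
  simp

lemma ne_zero_of_epi_of_isInvertible [Nonempty X] {E M : X.Modules} (hM : PicF.IsInvertible M)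
    (g : E ⟶ M) [Epi g] : g ≠ 0 := by
  intro h
  apply not_isZero_of_isInvertible hM
  rw [IsZero.iff_id_eq_zero, ← cancel_epi g, h]
  simp

section Sub

variable [IsIntegral X]

/-- A saturated invertible submodule `N ⊆ E` mapping to zero in the invertible quotient `E/L`
coincides with `L`. -/
theorem sub_eq_of_comp_zero (S : ShortComplex X.Modules) (hS : S.ShortExact)
    (hM : PicF.IsInvertible S.X₃) {N : X.Modules} (j : N ⟶ S.X₂) [Mono j]
    (hC : PicF.IsInvertible (cokernel j)) (h0 : j ≫ S.g = 0) :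
    ∃ φ : N ≅ S.X₁, φ.hom ≫ S.f = j := by
  haveI := hS.mono_f
  haveI := hS.epi_g
  let ψ : cokernel j ⟶ S.X₃ := cokernel.desc j S.g h0
  have hψ : cokernel.π j ≫ ψ = S.g := cokernel.π_desc j S.g h0
  haveI : Epi ψ := by
    have : Epi (cokernel.π j ≫ ψ) := by rw [hψ]; infer_instance
    exact epi_of_epi (cokernel.π j) ψ
  have hψne : ψ ≠ 0 := ne_zero_of_epi_of_isInvertible hM ψ
  haveI : Mono ψ := mono_of_ne_zero hC hM ψ hψne
  haveI : IsIso ψ := isIso_of_mono_of_epi ψ
  let φ : N ⟶ S.X₁ := hS.fIsKernel.lift (KernelFork.ofι j h0)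
  have hφ : φ ≫ S.f = j := hS.fIsKernel.fac (KernelFork.ofι j h0) WalkingParallelPair.zero
  have h1 : S.f ≫ cokernel.π j = 0 := by
    rw [← cancel_mono ψ, Category.assoc, hψ, S.zero, zero_comp]
  let φ' : S.X₁ ⟶ N := Abelian.monoLift j S.f h1
  have hφ' : φ' ≫ j = S.f := Abelian.monoLift_comp j S.f h1
  refine ⟨⟨φ, φ', ?_, ?_⟩, hφ⟩
  · rw [← cancel_mono j, Category.assoc, hφ', hφ, Category.id_comp]
  · rw [← cancel_mono S.f, Category.assoc, hφ, hφ', Category.id_comp]

/-- the short exact sequence of a monomorphism and its cokernel. -/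
abbrev cokerSC {N E : X.Modules} (j : N ⟶ E) : ShortComplex X.Modules :=
  ShortComplex.mk j (cokernel.π j) (cokernel.condition j)

lemma cokerSC_shortExact {N E : X.Modules} (j : N ⟶ E) [Mono j] : (cokerSC j).ShortExact :=
  { exact := ShortComplex.exact_cokernel j
    mono_f := inferInstanceAs (Mono j)
    epi_g := inferInstanceAs (Epi (cokernel.π j)) }

/-- two saturated invertible submodules with `i ≫ π' = 0` coincide. -/
theorem sub_eq_of_comp_zero' {M M' E : X.Modules} (i : M ⟶ E) (i' : M' ⟶ E) [Mono i] [Mono i']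
    (hq : PicF.IsInvertible (cokernel i)) (hq' : PicF.IsInvertible (cokernel i'))
    (h0 : i ≫ cokernel.π i' = 0) : ∃ φ : M ≅ M', φ.hom ≫ i' = i :=
  sub_eq_of_comp_zero (cokerSC i') (cokerSC_shortExact i') hq' i hq h0

/-- isomorphic (compatible) submodules have isomorphic cokernels. -/
def cokernelIsoOfSubIso {M M' E : X.Modules} (i : M ⟶ E) (i' : M' ⟶ E) (φ : M ≅ M')
    (h : φ.hom ≫ i' = i) : cokernel i ≅ cokernel i' where
  hom := cokernel.desc i (cokernel.π i') (by rw [← h, Category.assoc, cokernel.condition, comp_zero])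
  inv := cokernel.desc i' (cokernel.π i) (by
    have : i' = φ.inv ≫ i := by rw [← h, Iso.inv_hom_id_assoc]
    rw [this, Category.assoc, cokernel.condition, comp_zero])
  hom_inv_id := by
    rw [← cancel_epi (cokernel.π i)]
    simp
  inv_hom_id := by
    rw [← cancel_epi (cokernel.π i')]
    simp

end Sub

section Rank2

variable (k : Type u) [Field k] [X.Over (Spec (CommRingCat.of k))]
  [IsProper (X ↘ Spec (CommRingCat.of k))] [IsIntegral X]

/-- S11827 -/
theorem sub_eq_or_deg_le (hdim : topologicalKrullDim X ≤ 1)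
    (S : ShortComplex X.Modules) (hS : S.ShortExact)
    (hM : PicF.IsInvertible S.X₃)
    (N : X.Modules) (hN : PicF.IsInvertible N) (j : N ⟶ S.X₂) [Mono j]
    (hq : PicF.IsInvertible (cokernel j)) :
    (∃ φ : N ≅ S.X₁, φ.hom ≫ S.f = j) ∨ Curv2.deg k X N 1 ≤ Curv2.deg k X S.X₃ 1 := by
  by_cases h0 : j ≫ S.g = 0
  · exact Or.inl (sub_eq_of_comp_zero S hS hM j hq h0)
  · exact Or.inr (deg_le_of_map k hdim hN hM _ h0).1

/-- degree of the quotient by an invertible submodule of a rank two bundle. -/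
lemma deg_coker_rank_two {E M : X.Modules} (hE : FlatMod.IsFinLocFreeOfRank 2 E)
    (hM : PicF.IsInvertible M) (i : M ⟶ E) [Mono i] (hq : PicF.IsInvertible (cokernel i)) :
    Curv2.deg k X E 2 = Curv2.deg k X M 1 + Curv2.deg k X (cokernel i) 1 :=
  deg_additive k X (cokerSC i) (cokerSC_shortExact i) 1 2 1
    (isFinLocFreeOfRank_one_of_isInvertible hM) hE (isFinLocFreeOfRank_one_of_isInvertible hq)

/-- S11816: uniqueness of the destabilising submodule. -/
theorem destabilising_unique (hdim : topologicalKrullDim X ≤ 1)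
    (E : X.Modules) (hE : FlatMod.IsFinLocFreeOfRank 2 E)
    (M M' : X.Modules) (hM : PicF.IsInvertible M) (hM' : PicF.IsInvertible M')
    (i : M ⟶ E) (i' : M' ⟶ E) [Mono i] [Mono i']
    (hq : PicF.IsInvertible (cokernel i)) (hq' : PicF.IsInvertible (cokernel i'))
    (hd : Curv2.deg k X E 2 < 2 * Curv2.deg k X M 1)
    (hd' : Curv2.deg k X E 2 < 2 * Curv2.deg k X M' 1) :
    ∃ φ : M ≅ M', φ.hom ≫ i' = i := by
  apply sub_eq_of_comp_zero' i i' hq hq'
  by_contra h0
  have h1 := (deg_le_of_map k hdim hM hq' _ h0).1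
  have h2 := deg_coker_rank_two k hE hM' i' hq'
  linarith

/-- S11830 -/
theorem biprod_iso_of_half_degree (hdim : topologicalKrullDim X ≤ 1)
    (E : X.Modules) (hE : FlatMod.IsFinLocFreeOfRank 2 E)
    (L L' : X.Modules) (hL : PicF.IsInvertible L) (hL' : PicF.IsInvertible L')
    (i : L ⟶ E) (i' : L' ⟶ E) [Mono i] [Mono i']
    (hq : PicF.IsInvertible (cokernel i)) (hq' : PicF.IsInvertible (cokernel i'))
    (hd : 2 * Curv2.deg k X L 1 = Curv2.deg k X E 2)
    (hd' : 2 * Curv2.deg k X L' 1 = Curv2.deg k X E 2) :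
    Nonempty (L ⊞ cokernel i ≅ L' ⊞ cokernel i') := by
  have h2 := deg_coker_rank_two k hE hL i hq
  have h2' := deg_coker_rank_two k hE hL' i' hq'
  by_cases h0 : i ≫ cokernel.π i' = 0
  · obtain ⟨φ, hφ⟩ := sub_eq_of_comp_zero' i i' hq hq' h0
    exact ⟨biprod.mapIso φ (cokernelIsoOfSubIso i i' φ hφ)⟩
  by_cases h0' : i' ≫ cokernel.π i = 0
  · obtain ⟨φ, hφ⟩ := sub_eq_of_comp_zero' i' i hq' hq h0'
    exact ⟨(biprod.mapIso φ (cokernelIsoOfSubIso i' i φ hφ)).symm⟩
  have hα := (deg_le_of_map k hdim hL hq' _ h0).2 (by linarith)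
  have hβ := (deg_le_of_map k hdim hL' hq _ h0').2 (by linarith)
  exact ⟨biprod.mapIso (asIso (i ≫ cokernel.π i')) (asIso (i' ≫ cokernel.π i)).symm ≪≫
    biprod.braiding _ _⟩

end Rank2

section Main

variable (k : Type u) [Field k] [X.Over (Spec (CommRingCat.of k))]
  [IsProper (X ↘ Spec (CommRingCat.of k))] [IsIntegral X]

/-- The maximal subbundle of a degree zero rank two bundle. -/
theorem positive_subbundle (hdim : topologicalKrullDim X ≤ 1)
    (S : ShortComplex X.Modules) (hS : S.ShortExact)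
    (hE : FlatMod.IsFinLocFreeOfRank 2 S.X₂) (hE0 : Curv2.deg k X S.X₂ 2 = 0)
    (hL : PicF.IsInvertible S.X₁) (hM : PicF.IsInvertible S.X₃) (hpos : 0 < Curv2.deg k X S.X₁ 1) :
    (∀ (N : X.Modules), PicF.IsInvertible N → ∀ j : N ⟶ S.X₂, j ≠ 0 →
        Curv2.deg k X N 1 ≤ Curv2.deg k X S.X₁ 1) ∧
    (∀ (N : X.Modules), PicF.IsInvertible N → ∀ (j : N ⟶ S.X₂), Mono j →
        PicF.IsInvertible (cokernel j) → 0 < Curv2.deg k X N 1 → ∃ φ : N ≅ S.X₁, φ.hom ≫ S.f = j) ∧
    (∀ (N N' : X.Modules), PicF.IsInvertible N → PicF.IsInvertible N' →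
        Curv2.deg k X N 1 = 0 → Curv2.deg k X N' 1 = 0 →
        ∀ (a : N ⟶ S.X₂) (b : S.X₂ ⟶ N') (w : a ≫ b = 0), ¬ (ShortComplex.mk a b w).ShortExact) := by
  haveI := hS.mono_f
  haveI := hS.epi_g
  have hadd := deg_additive k X S hS 1 2 1 (isFinLocFreeOfRank_one_of_isInvertible hL) hE
    (isFinLocFreeOfRank_one_of_isInvertible hM)
  have hMdeg : Curv2.deg k X S.X₃ 1 < 0 := by linarith
  -- a map `N → E` either maps nontrivially to `M` or factors through `L`
  have key : ∀ (N : X.Modules), PicF.IsInvertible N → ∀ j : N ⟶ S.X₂, j ≠ 0 →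
      Curv2.deg k X N 1 ≤ Curv2.deg k X S.X₃ 1 ∨
      (j ≫ S.g = 0 ∧ Curv2.deg k X N 1 ≤ Curv2.deg k X S.X₁ 1) := by
    intro N hN j hj
    by_cases h0 : j ≫ S.g = 0
    · right
      refine ⟨h0, ?_⟩
      have hφ : hS.fIsKernel.lift (KernelFork.ofι j h0) ≫ S.f = j :=
        hS.fIsKernel.fac (KernelFork.ofι j h0) WalkingParallelPair.zero
      have hne : hS.fIsKernel.lift (KernelFork.ofι j h0) ≠ 0 := by
        intro h
        rw [h, zero_comp] at hφ
        exact hj hφ.symm
      exact (deg_le_of_map k hdim hN hL _ hne).1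
    · left
      exact (deg_le_of_map k hdim hN hM _ h0).1
  refine ⟨?_, ?_, ?_⟩
  · intro N hN j hj
    rcases key N hN j hj with h | ⟨-, h⟩
    · linarith
    · exact h
  · intro N hN j hjm hC hNpos
    have hj : j ≠ 0 := ne_zero_of_mono_of_isInvertible hN j
    have h0 : j ≫ S.g = 0 := by
      rcases key N hN j hj with h | ⟨h, -⟩
      · linarith
      · exact h
    -- `S.g` factors through the cokernel of `j`
    let ψ : cokernel j ⟶ S.X₃ := cokernel.desc j S.g h0
    have hψ : cokernel.π j ≫ ψ = S.g := cokernel.π_desc j S.g h0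
    haveI : Epi ψ := by
      have : Epi (cokernel.π j ≫ ψ) := by rw [hψ]; infer_instance
      exact epi_of_epi (cokernel.π j) ψ
    have hψne : ψ ≠ 0 := ne_zero_of_epi_of_isInvertible hM ψ
    haveI : Mono ψ := mono_of_ne_zero hC hM ψ hψne
    haveI : IsIso ψ := isIso_of_mono_of_epi ψ
    -- the two comparison maps
    let φ : N ⟶ S.X₁ := hS.fIsKernel.lift (KernelFork.ofι j h0)
    have hφ : φ ≫ S.f = j := hS.fIsKernel.fac (KernelFork.ofι j h0) WalkingParallelPair.zero
    have h1 : S.f ≫ cokernel.π j = 0 := by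
      rw [← cancel_mono ψ, Category.assoc, hψ, S.zero, zero_comp]
    let φ' : S.X₁ ⟶ N := Abelian.monoLift j S.f h1
    have hφ' : φ' ≫ j = S.f := Abelian.monoLift_comp j S.f h1
    refine ⟨⟨φ, φ', ?_, ?_⟩, hφ⟩
    · rw [← cancel_mono j, Category.assoc, hφ', hφ, Category.id_comp]
    · rw [← cancel_mono S.f, Category.assoc, hφ, hφ', Category.id_comp]
  · intro N N' hN hN' hN0 hN'0 a b w hab
    haveI := hab.mono_f
    haveI := hab.epi_g
    have hf : S.f ≠ 0 := ne_zero_of_mono_of_isInvertible hL S.f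
    by_cases h0 : S.f ≫ b = 0
    · have hφ : hab.fIsKernel.lift (KernelFork.ofι S.f h0) ≫ a = S.f :=
        hab.fIsKernel.fac (KernelFork.ofι S.f h0) WalkingParallelPair.zero
      have hne : hab.fIsKernel.lift (KernelFork.ofι S.f h0) ≠ 0 := by
        intro h
        rw [h, zero_comp] at hφ
        exact hf hφ.symm
      have := (deg_le_of_map k hdim hL hN _ hne).1
      linarith
    · have := (deg_le_of_map k hdim hL hN' _ h0).1
      linarith

end Main

end Groth.Agent.Lib.Helper23.Curve
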