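import Groth.Agent.Lib.Helper23.CurveE
import Groth.Agent.Lib.Helper3.SecLoc
import Groth.Agent.Lib.Helper3.QCProps

/-!
# LocFreeSub: coherent submodules of locally free modules on "Dedekind" schemes are locally free

* `exists_free_away`: f.g. torsion-free module over a Noetherian domain, free after localising at
  a prime whose local ring is a PID, hence free on a basic open neighbourhood.
* `free_of_away`: transfer of freeness to any model of the localisation away from `f`.
* `exists_isBasis_of_mono`: local basis of a coherent subsheaf of a locally free sheaf near a point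
  whose local ring is a PID.
* `isFinLocFreeOfRank_of_mono`: on an integral locally Noetherian scheme all of whose local rings
  are PIDs, a coherent submodule of a finite locally free module is finite locally free of
  constant rank.
-/
set_option autoImplicit false
set_option linter.style.haveILetI false
universe u
open CategoryTheory CategoryTheory.Limits AlgebraicGeometry TopologicalSpace Opposite Module
open Groth.Agent.Lib.Helper3 Groth.Agent.Lib.Helper3.QCSec Groth.Agent.Lib.Helper3.InvGen
open Groth.Agent.Lib.Helper3.FreeBasis Groth.Agent.Lib.Helper3.SecLoc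
open Groth.Agent.Lib.Helper23.Curve

noncomputable section

namespace Groth.Agent.Lib.Helper23.LocFreeSub

section Alg

lemma exists_free_away {A M : Type u} [CommRing A] [IsDomain A] [IsNoetherianRing A]
    [AddCommGroup M] [Module A M] [Module.Finite A M] [Module.IsTorsionFree A M]
    (p : Ideal A) [p.IsPrime] [IsPrincipalIdealRing (Localization.AtPrime p)] :
    ∃ f : A, f ∉ p ∧ Module.Free (Localization.Away f) (LocalizedModule.Away f M) := by
  haveI : Module.IsTorsionFree (Localization.AtPrime p) (LocalizedModule p.primeCompl M) :=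
    inferInstance
  haveI : Module.Finite (Localization.AtPrime p) (LocalizedModule p.primeCompl M) := inferInstance
  haveI : Module.Free (Localization.AtPrime p) (LocalizedModule p.primeCompl M) :=
    Module.free_of_finite_type_torsion_free'
  haveI : Module.FinitePresentation A M := Module.finitePresentation_of_finite A M
  obtain ⟨r, hr, hfree, _⟩ := Module.FinitePresentation.exists_free_localizedModule_powers
    p.primeCompl (LocalizedModule.mkLinearMap p.primeCompl M) (Localization.AtPrime p)
  exact ⟨r, hr, hfree⟩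

attribute [local instance] RingHomInvPair.of_ringEquiv in
lemma free_of_away {R M R' M' : Type u} [CommRing R] [AddCommGroup M] [Module R M] (f : R)
    [CommRing R'] [Algebra R R'] [IsLocalization.Away f R'] [AddCommGroup M'] [Module R M']
    [Module R' M'] [IsScalarTower R R' M'] (g : M →ₗ[R] M') [IsLocalizedModule.Away f g]
    (h : Module.Free (Localization.Away f) (LocalizedModule.Away f M)) : Module.Free R' M' := by
  set e := (IsLocalization.algEquiv (Submonoid.powers f) (Localization.Away f) R').toRingEquiv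
  refine (Module.Free.iff_of_equiv (σ := e) ?_).mp h
  refine { __ := IsLocalizedModule.iso (Submonoid.powers f) g, map_smul' := ?_ }
  intro r x
  obtain ⟨r, s, rfl⟩ := IsLocalization.exists_mk'_eq (Submonoid.powers f) r
  apply ((Module.End.isUnit_iff _).mp (IsLocalizedModule.map_units g s)).1
  simp [e, ← map_smul, ← smul_assoc]

end Alg

variable {X : Scheme.{u}}

attribute [local instance] modBasicOpen

/-- Near a point whose local ring is a PID, a coherent submodule of a finite locally free module
on an integral locally Noetherian scheme has a local basis. -/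
theorem exists_isBasis_of_mono [IsIntegral X] [IsLocallyNoetherian X] {G E : X.Modules}
    (hG : Coh.IsCoh G) (ι : G ⟶ E) [Mono ι] {r : ℕ} (hE : FlatMod.IsFinLocFreeOfRank r E)
    (x : X) (hx : IsPrincipalIdealRing (X.presheaf.stalk x)) :
    ∃ (V : X.Opens) (s : ℕ) (e : Fin s → Γ(G, V)), x ∈ V ∧ IsBasis G V e := by
  haveI : G.IsQuasicoherent := hG.1
  haveI : G.IsFiniteType := hG.2
  obtain ⟨U₀, e₀, hxU₀, hb₀⟩ := isFinLocFreeOfRank_iff.mp hE x
  obtain ⟨U, hU, hxU, hUU₀⟩ : ∃ U : X.Opens, IsAffineOpen U ∧ x ∈ U ∧ U ≤ U₀ := by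
    obtain ⟨_, ⟨W, hW, rfl⟩, hxW, hWU⟩ := X.isBasis_affineOpens.exists_subset_of_mem_open
      (show x ∈ (U₀ : Set X) from hxU₀) U₀.2
    exact ⟨W, hW, hxW, hWU⟩
  have hbU : IsBasis E U (fun i => res E hUU₀ (e₀ i)) := hb₀.mono hUU₀
  haveI : Nonempty U := ⟨⟨x, hxU⟩⟩
  haveI : IsDomain Γ(X, U) := IsIntegral.component_integral (X := X) U
  haveI : IsNoetherianRing Γ(X, U) := IsLocallyNoetherian.component_noetherian ⟨U, hU⟩
  haveI : Module.Finite Γ(X, U) Γ(G, U) := QCProps.finite_sections G hU
  -- torsion-freeness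
  obtain ⟨eE⟩ := free_of_isBasisAt hbU.self
  haveI : Module.IsTorsionFree Γ(X, U) Γ(E, U) :=
    Function.Injective.moduleIsTorsionFree (N := Fin r → Γ(X, U)) eE.symm eE.symm.injective
      (fun a m => map_smul eE.symm a m)
  haveI : Module.IsTorsionFree Γ(X, U) Γ(G, U) :=
    Function.Injective.moduleIsTorsionFree (N := Γ(E, U)) (appLin ι U)
      ((QCProps.mono_iff_app_injective ι).mp inferInstance U)
      (fun a m => map_smul (appLin ι U) a m)
  -- the prime
  set p := hU.primeIdealOf ⟨x, hxU⟩ with hp
  letI : Algebra Γ(X, U) (X.presheaf.stalk x) :=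
    TopCat.Presheaf.algebra_section_stalk X.presheaf ⟨x, hxU⟩
  haveI hloc : IsLocalization.AtPrime (X.presheaf.stalk x) p.asIdeal :=
    hU.isLocalization_stalk ⟨x, hxU⟩
  haveI : IsPrincipalIdealRing (Localization.AtPrime p.asIdeal) := by
    let eq := IsLocalization.algEquiv p.asIdeal.primeCompl (X.presheaf.stalk x)
      (Localization.AtPrime p.asIdeal)
    exact IsPrincipalIdealRing.of_surjective eq.toRingEquiv.toRingHom eq.surjective
  obtain ⟨f, hfp, hfree⟩ := exists_free_away (M := Γ(G, U)) p.asIdeal
  have hxV : x ∈ X.basicOpen f := by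
    have h1 : p ∈ (PrimeSpectrum.basicOpen f : Set (PrimeSpectrum Γ(X, U))) := hfp
    have h2 : p ∈ hU.fromSpec ⁻¹ᵁ X.basicOpen f := by
      rw [hU.fromSpec_preimage_basicOpen]; exact h1
    have h3 : hU.fromSpec p = x := hU.fromSpec_primeIdealOf ⟨x, hxU⟩
    rw [← h3]; exact h2
  have hV : IsAffineOpen (X.basicOpen f) := hU.basicOpen f
  haveI : IsLocalization.Away f Γ(X, X.basicOpen f) := hU.isLocalization_basicOpen f
  haveI := isLocalizedModule_resLin G hU f
  haveI : Module.Free Γ(X, X.basicOpen f) Γ(G, X.basicOpen f) :=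
    free_of_away f (resLin G f) hfree
  haveI : Module.Finite Γ(X, X.basicOpen f) Γ(G, X.basicOpen f) := QCProps.finite_sections G hV
  haveI : Nonempty (X.basicOpen f) := ⟨⟨x, hxV⟩⟩
  haveI : Nontrivial Γ(X, X.basicOpen f) := Scheme.component_nontrivial X (X.basicOpen f)
  let b := Module.finBasis Γ(X, X.basicOpen f) Γ(G, X.basicOpen f)
  exact ⟨X.basicOpen f, _, fun i => b i, hxV,
    isBasis_of_isBasisAt G hV (isBasisAt_of_basis G (X.basicOpen f) b)⟩

/-- the number of elements of a local basis is independent of the open set on an irreducible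
scheme. -/
lemma rank_unique [IsIntegral X] (G : X.Modules) {V V' : X.Opens} {s s' : ℕ}
    {e : Fin s → Γ(G, V)} {e' : Fin s' → Γ(G, V')} (hb : IsBasis G V e) (hb' : IsBasis G V' e')
    (hV : (V : Set X).Nonempty) (hV' : (V' : Set X).Nonempty) : s = s' := by
  have hW : ((V ⊓ V' : X.Opens) : Set X).Nonempty :=
    nonempty_preirreducible_inter V.2 V'.2 hV hV'
  obtain ⟨y, hy⟩ := hW
  haveI : Nonempty (V ⊓ V' : X.Opens) := ⟨⟨y, hy⟩⟩
  haveI : Nontrivial Γ(X, V ⊓ V') := Scheme.component_nontrivial X (V ⊓ V')
  obtain ⟨e₁⟩ := free_of_isBasisAt (hb.mono (inf_le_left : V ⊓ V' ≤ V)).self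
  obtain ⟨e₂⟩ := free_of_isBasisAt (hb'.mono (inf_le_right : V ⊓ V' ≤ V')).self
  have h := (e₁.trans e₂.symm).finrank_eq
  rwa [Module.finrank_fin_fun, Module.finrank_fin_fun] at h

/-- **Coherent submodules of finite locally free modules are finite locally free** on an integral
locally Noetherian scheme all of whose local rings are principal ideal rings (e.g. a regular
integral curve). -/
theorem isFinLocFreeOfRank_of_mono [IsIntegral X] [IsLocallyNoetherian X]
    (hpid : ∀ x : X, IsPrincipalIdealRing (X.presheaf.stalk x)) {G E : X.Modules}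
    (hG : Coh.IsCoh G) (ι : G ⟶ E) [Mono ι] {r : ℕ} (hE : FlatMod.IsFinLocFreeOfRank r E) :
    ∃ s : ℕ, FlatMod.IsFinLocFreeOfRank s G := by
  haveI : Nonempty X := inferInstance
  obtain ⟨x₀⟩ := (inferInstance : Nonempty X)
  obtain ⟨V₀, s₀, e₀, hx₀, hb₀⟩ := exists_isBasis_of_mono hG ι hE x₀ (hpid x₀)
  refine ⟨s₀, isFinLocFreeOfRank_iff.mpr fun x => ?_⟩
  obtain ⟨V, s, e, hx, hb⟩ := exists_isBasis_of_mono hG ι hE x (hpid x)
  have hs : s = s₀ := rank_unique G hb hb₀ ⟨x, hx⟩ ⟨x₀, hx₀⟩
  subst hs
  exact ⟨V, e, hx, hb⟩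

end Groth.Agent.Lib.Helper23.LocFreeSub
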