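import Groth.Agent.Lib.Helper23.T2N
import Groth.Agent.Lib.Helper23.CurveA
import Groth.Agent.Lib.Helper3.InvGen
import Groth.Agent.Lib.Helper3.ModBasis

/-!
# CurveB: modules vanishing off a finite set of closed points are flasque; Euler characteristic
-/
set_option autoImplicit false
universe u
open CategoryTheory CategoryTheory.Limits Opposite TopologicalSpace AlgebraicGeometry
open Groth.Agent.Lib.Helper3 Groth.Agent.Lib.Helper3.QCSec Groth.Agent.Lib.Helper3.InvGen
open Groth.Agent.Lib.Helper23.T2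

noncomputable section

namespace Groth.Agent.Lib.Helper23.Curve

variable {X : Scheme.{u}}

/-- `K` vanishes on the open `D`. -/
def VanishesOn (K : X.Modules) (D : X.Opens) : Prop :=
  ∀ (V : X.Opens), V ≤ D → ∀ t : Γ(K, V), t = 0

/-- A module vanishing off a finite set of closed points is flasque. -/
theorem isFlq_of_vanishing_off_finite (K : X.Modules) (Z : Set X) (hZfin : Z.Finite)
    (hZcl : ∀ z ∈ Z, IsClosed ({z} : Set X))
    (hK : ∀ V : X.Opens, Disjoint (V : Set X) Z → ∀ t : Γ(K, V), t = 0) : IsFlq K := by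
  intro U V i s
  have hVU : V.unop ≤ U.unop := i.unop.le
  -- the closed set `T = Z ∩ V`
  let T : Set X := Z ∩ (V.unop : Set X)
  have hTfin : T.Finite := hZfin.subset Set.inter_subset_left
  have hTcl : IsClosed T := by
    have : T = ⋃ z ∈ T, ({z} : Set X) := by
      ext x; simp
    rw [this]
    exact hTfin.isClosed_biUnion (fun z hz => hZcl z hz.1)
  let W' : X.Opens := U.unop ⊓ ⟨Tᶜ, hTcl.isOpen_compl⟩
  let W : ULift.{u} Bool → X.Opens := fun b => if b.down then V.unop else W'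
  have hW : ∀ b, W b ≤ U.unop := by
    rintro ⟨b⟩
    cases b
    · exact inf_le_left
    · exact hVU
  have hcov : U.unop ≤ ⨆ b, W b := by
    intro x hx
    rw [Opens.mem_iSup]
    by_cases hxV : x ∈ V.unop
    · exact ⟨⟨true⟩, hxV⟩
    · refine ⟨⟨false⟩, ⟨hx, ?_⟩⟩
      intro hxT
      exact hxV hxT.2
  have hdisj : Disjoint ((V.unop ⊓ W' : X.Opens) : Set X) Z := by
    rw [Set.disjoint_left]
    rintro x ⟨hxV, -, hxT⟩ hxZ
    exact hxT ⟨hxZ, hxV⟩
  let a : ∀ b, Γ(K, W b) := fun b =>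
    match b with
    | ⟨true⟩ => s
    | ⟨false⟩ => 0
  have hcompat : ∀ b c, res K (inf_le_left : W b ⊓ W c ≤ W b) (a b) =
      res K (inf_le_right : W b ⊓ W c ≤ W c) (a c) := by
    rintro ⟨b⟩ ⟨c⟩
    cases b <;> cases c
    · rfl
    · refine (hK _ ?_ _).trans (hK _ ?_ _).symm <;>
      · change Disjoint ((W' ⊓ V.unop : X.Opens) : Set X) Z
        rw [inf_comm]; exact hdisj
    · exact (hK _ hdisj _).trans (hK _ hdisj _).symm
    · rfl
  obtain ⟨b, hb⟩ := sec_glue K W U.unop hW hcov a hcompat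
  refine ⟨b, ?_⟩
  obtain rfl : i = (homOfLE hVU).op := Subsingleton.elim _ _
  exact hb ⟨true⟩

/-- a flasque module all of whose global sections vanish is zero. -/
theorem isZero_of_isFlq_of_subsingleton {K : X.Modules} (hfl : IsFlq K)
    (h : Subsingleton (Gm K)) : IsZero K := by
  apply ModBasis.isZero_of_zero_on_basis
  intro W x hx
  refine ⟨W, hx, le_rfl, fun t => ?_⟩
  obtain ⟨b, hb⟩ := hfl (homOfLE (le_top : W ≤ ⊤)).op t
  haveI : Subsingleton ↑(K.val.obj (op ⊤)) := h
  rw [← hb, Subsingleton.elim b 0]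
  exact map_zero _

end Groth.Agent.Lib.Helper23.Curve

namespace Groth.Agent.Lib.Helper23.Curve

section Euler

variable (k : Type u) [Field k] (X : Scheme.{u}) [X.Over (Spec (CommRingCat.of k))]
  [IsProper (X ↘ Spec (CommRingCat.of k))]

/-- Euler characteristic of a flasque coherent module. -/
theorem euler_eq_finrank_of_isFlq (Q : X.Modules) (hQ : Coh.IsCoh Q) (hfl : IsFlq Q) :
    Curv2.euler k X Q = (Module.finrank k (Coh.HH X Q 0) : ℤ) := by
  have hd : ∀ p : ℕ, 1 ≤ p → Subsingleton (Coh.HH X Q p) := by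
    intro p hp
    obtain ⟨q, rfl⟩ : ∃ q, p = q + 1 := ⟨p - 1, by omega⟩
    exact acyclic_of_isFlq hfl q
  rw [euler_eq_sum k X Q hQ 1 hd, Finset.sum_range_succ, Finset.sum_range_one]
  haveI := hd 1 le_rfl
  rw [finrank_eq_len k X Q hQ 0, EulerLES.len_of_subsingleton (R := k) (M := Coh.HH X Q 1)]
  simp

theorem euler_nonneg_of_isFlq (Q : X.Modules) (hQ : Coh.IsCoh Q) (hfl : IsFlq Q) :
    0 ≤ Curv2.euler k X Q := by
  rw [euler_eq_finrank_of_isFlq k X Q hQ hfl]
  exact Int.natCast_nonneg _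

theorem isZero_of_isFlq_of_euler_eq_zero (Q : X.Modules) (hQ : Coh.IsCoh Q) (hfl : IsFlq Q)
    (h : Curv2.euler k X Q = 0) : IsZero Q := by
  rw [euler_eq_finrank_of_isFlq k X Q hQ hfl] at h
  have h0 : Module.finrank k (Coh.HH X Q 0) = 0 := by exact_mod_cast h
  haveI := finite_HH k Q hQ 0
  have hsub : Subsingleton (Coh.HH X Q 0) := Module.finrank_zero_iff.1 h0
  apply isZero_of_isFlq_of_subsingleton hfl
  haveI : Subsingleton ↑(HHm Q 0) := hsub
  exact (h0equiv Q).symm.toEquiv.subsingleton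

theorem euler_pos_of_isFlq_of_not_isZero (Q : X.Modules) (hQ : Coh.IsCoh Q) (hfl : IsFlq Q)
    (h : ¬ IsZero Q) : 0 < Curv2.euler k X Q := by
  rcases (euler_nonneg_of_isFlq k X Q hQ hfl).lt_or_eq with h1 | h1
  · exact h1
  · exact absurd (isZero_of_isFlq_of_euler_eq_zero k X Q hQ hfl h1.symm) h

end Euler

end Groth.Agent.Lib.Helper23.Curve
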