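import Mathlib
import Groth.Prelude.Def_Curv2
import Groth.Agent.Lib.Helper12.KAExt

/-!
# NormDeltaAlg: the δ-invariant of a localization through a birational integrally closed overring
-/
set_option autoImplicit false
universe u
open Groth.Agent.Lib.Helper12.KAExt

noncomputable section

namespace Groth.Agent.Lib.Helper23.NormDeltaAlg

section Transfer

variable (A : Type u) [CommRing A] [IsDomain A] (L : Type u) [Field L] [Algebra A L]
  [IsFractionRing A L]

/-- the δ-invariant computed in any fraction field -/
theorem deltaInv_eq_length :
    Curv2.deltaInv A = Module.length A (↥(integralClosure A L) ⧸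
      LinearMap.range (Algebra.linearMap A ↥(integralClosure A L))) := by
  unfold Curv2.deltaInv
  let e : FractionRing A ≃ₐ[A] L := FractionRing.algEquiv A L
  let e' : integralClosure A (FractionRing A) ≃ₐ[A] integralClosure A L :=
    AlgEquiv.mapIntegralClosure e
  refine LinearEquiv.length_eq (Submodule.Quotient.equiv _ _ e'.toLinearEquiv ?_)
  ext z
  simp only [Submodule.mem_map, LinearMap.mem_range, Algebra.linearMap_apply]
  constructor
  · rintro ⟨y, ⟨a, rfl⟩, rfl⟩
    exact ⟨a, (e'.commutes a).symm⟩
  · rintro ⟨a, rfl⟩
    exact ⟨algebraMap A _ a, ⟨a, rfl⟩, e'.commutes a⟩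

end Transfer

section Main

/-- **Key algebra lemma.** If `B` is the normalization of the domain `R` and `g : B → N` is a
localization of `B` at the prime `p` of `R`, then the quotient of `N` by the `R_p`-span of the
image of `R` has length `δ(R_p)`. -/
theorem length_quotient_eq_deltaInv {R : Type u} [CommRing R] [IsDomain R] (p : Ideal R)
    [p.IsPrime] (A : Type u) [CommRing A] [IsDomain A] [Algebra R A]
    [IsLocalization.AtPrime A p] (B : Type u) [CommRing B] [IsDomain B] [Algebra R B]
    (hinj : Function.Injective (algebraMap R B)) (hbir : Bir R B)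
    [Algebra.IsIntegral R B] [IsIntegrallyClosed B]
    {N : Type u} [AddCommGroup N] [Module R N] [Module A N] [IsScalarTower R A N]
    (g : B →ₗ[R] N) (hg : IsLocalizedModule p.primeCompl g) (N₀ : Submodule A N)
    (hN₀ : N₀ = Submodule.span A (Set.range fun r : R => g (algebraMap R B r))) :
    Module.length A (N ⧸ N₀) = Curv2.deltaInv A := by
  classical
  haveI := hg
  let L := FractionRing B
  haveI hfracR : IsFractionRing R L := isFractionRing_of_bir hinj hbir L
  have hunits : ∀ y : p.primeCompl, IsUnit (algebraMap R L y) := by
    intro y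
    apply IsUnit.mk0
    rw [Ne, map_eq_zero_iff _ (IsFractionRing.injective R L)]
    rintro h
    exact y.2 (h ▸ p.zero_mem)
  letI algAL : Algebra A L := (IsLocalization.lift hunits).toAlgebra
  haveI towerRAL : IsScalarTower R A L :=
    IsScalarTower.of_algebraMap_eq (fun r => (IsLocalization.lift_eq hunits r).symm)
  haveI hfracA : IsFractionRing A L :=
    IsFractionRing.isFractionRing_of_isDomain_of_isLocalization p.primeCompl A L
  rw [deltaInv_eq_length A L]
  -- the comparison map `B → integralClosure A L`
  have hintB : ∀ b : B, IsIntegral A (algebraMap B L b) := fun b =>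
    ((Algebra.IsIntegral.isIntegral (R := R) b).map (IsScalarTower.toAlgHom R B L)).tower_top
  let f' : B →ₗ[R] ↥(integralClosure A L) :=
    { toFun := fun b => ⟨algebraMap B L b, hintB b⟩
      map_add' := fun b b' => Subtype.ext (map_add _ b b')
      map_smul' := fun r b => Subtype.ext (by
        show algebraMap B L (r • b) = r • algebraMap B L b
        rw [Algebra.smul_def, map_mul, ← IsScalarTower.algebraMap_apply R B L, Algebra.smul_def]) }
  have hsmul : ∀ (r : R) (z : ↥(integralClosure A L)), r • z = algebraMap R A r • z :=
    fun r z => (algebraMap_smul A r z).symm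
  haveI hloc : IsLocalizedModule p.primeCompl f' := by
    refine ⟨?_, ?_, ?_⟩
    · intro s
      rw [Module.End.isUnit_iff]
      have hu : IsUnit (algebraMap R A s) := IsLocalization.map_units A s
      obtain ⟨t, ht⟩ := hu.exists_left_inv
      constructor
      · intro z z' hzz
        have h1 : (s : R) • z = (s : R) • z' := hzz
        rw [hsmul, hsmul] at h1
        have h2 := congrArg (fun w => t • w) h1
        simpa only [← mul_smul, ht, one_smul] using h2
      · intro z
        refine ⟨t • z, ?_⟩
        show (s : R) • (t • z) = z
        rw [hsmul, ← mul_smul, mul_comm, ht, one_smul]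
    · intro z
      obtain ⟨m, hm⟩ := IsIntegral.exists_multiple_integral_of_isLocalization p.primeCompl
        (Rₘ := A) (z : L) z.2
      -- `m • z` is integral over `R`, hence over `B`, hence in `B`
      have hmB : IsIntegral B (m • (z : L)) := hm.tower_top
      obtain ⟨b, hb⟩ := IsIntegrallyClosed.isIntegral_iff.mp hmB
      refine ⟨(b, m), Subtype.ext ?_⟩
      show ((m • z : ↥(integralClosure A L)) : L) = algebraMap B L b
      rw [hb]
      rfl
    · intro b b' hbb
      refine ⟨1, ?_⟩
      rw [one_smul, one_smul]
      apply IsFractionRing.injective B L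
      exact congrArg Subtype.val hbb
  -- the two localizations are isomorphic
  let e₀ : N ≃ₗ[R] ↥(integralClosure A L) := IsLocalizedModule.linearEquiv p.primeCompl g f'
  let e : N ≃ₗ[A] ↥(integralClosure A L) :=
    LinearEquiv.extendScalarsOfIsLocalization p.primeCompl A e₀
  have he : ∀ b : B, e (g b) = f' b := fun b =>
    IsLocalizedModule.linearEquiv_apply p.primeCompl g f' b
  refine LinearEquiv.length_eq (Submodule.Quotient.equiv _ _ e ?_)
  rw [hN₀, Submodule.map_span]
  apply le_antisymm
  · rw [Submodule.span_le]
    rintro _ ⟨_, ⟨r, rfl⟩, rfl⟩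
    refine ⟨algebraMap R A r, ?_⟩
    show _ = e (g (algebraMap R B r))
    rw [he]
    apply Subtype.ext
    show algebraMap A L (algebraMap R A r) = algebraMap B L (algebraMap R B r)
    rw [← IsScalarTower.algebraMap_apply R A L, ← IsScalarTower.algebraMap_apply R B L]
  · rintro _ ⟨a, rfl⟩
    have h1 : (Algebra.linearMap A ↥(integralClosure A L)) a =
        a • (e (g (algebraMap R B 1))) := by
      rw [he]
      apply Subtype.ext
      show algebraMap A L a = a • algebraMap B L (algebraMap R B 1)
      rw [map_one, map_one, Algebra.smul_def, mul_one]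
    rw [h1]
    exact Submodule.smul_mem _ _ (Submodule.subset_span ⟨_, ⟨1, rfl⟩, rfl⟩)

end Main

end Groth.Agent.Lib.Helper23.NormDeltaAlg
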