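import Groth.Agent.Lib.Helper12.NormGen
import Groth.Agent.Lib.Helper12.NagataLoc
import Groth.Agent.Lib.Helper17.StalkExact
import Groth.Agent.Lib.Helper17.StalkKit
import Groth.Agent.Lib.Helper3.QCPush
import Groth.Agent.Lib.Helper3.QCOpen
import Groth.Agent.Lib.Helper3.ModBasis
import Groth.Agent.Lib.Helper23.CurveB
import Groth.Agent.Lib.Helper23.NormDeltaAlg

/-!
# NormDelta: the cokernel of `O_X → ν_* O_{X^ν}` for the normalization of an integral curve
-/
set_option autoImplicit false
set_option linter.style.haveILetI false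
universe u
open CategoryTheory CategoryTheory.Limits Opposite TopologicalSpace AlgebraicGeometry
open Scheme.Modules
open Groth.Agent.Lib.Helper3 Groth.Agent.Lib.Helper3.QCSec
open Groth.Agent.Lib.Helper12

noncomputable section

namespace Groth.Agent.Lib.Helper23.NormDelta

variable (X : Scheme.{u}) [IsIntegral X] [QuasiCompact (X.fromSpecStalk (genericPoint X))]
  [QuasiSeparated (X.fromSpecStalk (genericPoint X))]

/-- the normalization morphism -/
abbrev ν : (X.fromSpecStalk (genericPoint X)).normalization ⟶ X :=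
  (X.fromSpecStalk (genericPoint X)).fromNormalization

theorem N2'_of_isNagata (R : Type u) [CommRing R] [IsDomain R] (h : CAlg.IsNagata R) :
    N2.N2' R := by
  have h2 := h.2 (⊥ : Ideal R)
  rw [NagataLoc.isN2_iff_N2'] at h2
  exact N2.N2'_of_ringEquiv (RingEquiv.quotientBot R) h2

theorem isFinite_of_isNagata (hN : ∀ U : X.affineOpens, CAlg.IsNagata Γ(X, (U : X.Opens))) :
    IsFinite (ν X) := by
  apply NormGen.isFinite_of_N2' X
  intro U hU hne
  haveI : Nonempty U := ⟨⟨_, hne.some_mem⟩⟩
  exact N2'_of_isNagata _ (hN ⟨U, hU⟩)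

theorem exists_dense_isIso (hfin : IsFinite (ν X)) :
    ∃ V : X.Opens, Dense (V : Set X) ∧ IsIso (ν X ∣_ V) := by
  obtain ⟨U, hU, hxU⟩ := NormAff.exists_affine_mem X (genericPoint X)
  obtain ⟨V, hVne, hV⟩ := NormGen.exists_isIso_restrict X hU ⟨_, hxU⟩ (hfin.finite_app U hU)
  exact ⟨V, V.isOpen.dense hVne, hV⟩

theorem unitToPush_app (W : X.Opens) (t : Γ(X, W)) :
    (ClSub.unitToPush (ν X)).app W t = ((ν X).app W).hom t := rfl

theorem mono_unitToPush : Mono (ClSub.unitToPush (ν X)) := by
  apply ModBasis.mono_of_injective_on_basis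
  intro W x hxW
  obtain ⟨_, ⟨V, hV, rfl⟩, hxV, hVW⟩ :=
    X.isBasis_affineOpens.exists_subset_of_mem_open hxW W.isOpen
  refine ⟨V, hxV, hVW, fun t ht => ?_⟩
  obtain ⟨-, hinj, -, -⟩ := NormAff.sections_props X hV ⟨x, hxV⟩
  apply hinj
  exact ht.trans (map_zero _).symm

section Gen

variable {X}

/-- points other than the generic point of an integral scheme of dimension `≤ 1` are closed
(no noetherian hypothesis) -/
theorem isClosed_singleton_of_ne_genericPoint (hdim : topologicalKrullDim X ≤ 1) (z : X)
    (hz : z ≠ genericPoint X) : IsClosed ({z} : Set X) := by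
  have h1 : Order.krullDim (IrreducibleCloseds X) ≤ 1 := hdim
  rw [Order.krullDim_le_one_iff] at h1
  let c : IrreducibleCloseds X :=
    ⟨closure {z}, isIrreducible_singleton.closure, isClosed_closure⟩
  rcases h1 c with hmin | hmax
  · -- minimal: the closure is the point
    have hcl : closure ({z} : Set X) = {z} := by
      apply Set.Subset.antisymm _ subset_closure
      intro y hy
      let d : IrreducibleCloseds X :=
        ⟨closure {y}, isIrreducible_singleton.closure, isClosed_closure⟩
      have hdc : d ≤ c := by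
        show closure ({y} : Set X) ⊆ closure {z}
        exact closure_minimal (Set.singleton_subset_iff.mpr hy) isClosed_closure
      have hcd : c ≤ d := hmin hdc
      have heq : closure ({z} : Set X) = closure {y} := Set.Subset.antisymm hcd hdc
      have : Inseparable z y := (inseparable_iff_closure_eq).mpr heq
      exact Set.mem_singleton_iff.mpr this.eq.symm
    rw [← hcl]
    exact isClosed_closure
  · exfalso
    apply hz
    let T : IrreducibleCloseds X :=
      ⟨Set.univ, IrreducibleSpace.isIrreducible_univ X, isClosed_univ⟩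
    have htop : c ≤ T := fun _ _ => Set.mem_univ _
    have h2 : T ≤ c := hmax htop
    have h3 : closure ({z} : Set X) = Set.univ := by
      apply Set.eq_univ_of_univ_subset
      exact h2
    have h4 : IsGenericPoint z (Set.univ : Set X) := h3
    exact (h4.eq (genericPoint_spec X)).symm ▸ rfl

/-- if `π` is an isomorphism over the open `O`, then `π.app W` is surjective for `W ≤ O`. -/
theorem app_surjective_of_le {Y T : Scheme.{u}} (π : Y ⟶ T) (O : T.Opens) [IsIso (π ∣_ O)]
    (W : T.Opens) (hW : W ≤ O) : Function.Surjective (π.app W) := by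
  have hA : O.ι ''ᵁ (O.ι ⁻¹ᵁ W) = W := by
    rw [Scheme.Hom.image_preimage_eq_opensRange_inf, Scheme.Opens.opensRange_ι]
    exact inf_eq_right.2 hW
  have key : Function.Surjective ((π ∣_ O).app (O.ι ⁻¹ᵁ W)) :=
    ((ConcreteCategory.isIso_iff_bijective _).1 inferInstance).2
  have e := morphismRestrict_app π O (O.ι ⁻¹ᵁ W)
  have key2 : Function.Surjective (π.app (O.ι ''ᵁ (O.ι ⁻¹ᵁ W))) := by
    intro b
    let ψ := Y.presheaf.map (eqToHom (image_morphismRestrict_preimage π O (O.ι ⁻¹ᵁ W))).op
    obtain ⟨a, ha⟩ := key (ψ.hom b)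
    refine ⟨a, ?_⟩
    have e' := congr($(e) a)
    rw [ha] at e'
    simp only [CommRingCat.comp_apply] at e'
    have hinj : Function.Injective ψ.hom :=
      ((ConcreteCategory.isIso_iff_bijective ψ).1 inferInstance).1
    exact hinj e'.symm
  have gen : ∀ A : T.Opens, A = W → Function.Surjective (π.app A) →
      Function.Surjective (π.app W) := by
    rintro A rfl h
    exact h
  exact gen _ hA key2

end Gen

open Groth.Agent.Lib.Helper23.Curve in
/-- the cokernel of `O_X → ν_* O` vanishes on an open over which `ν` is an isomorphism -/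
theorem vanishesOn_cokernel (V : X.Opens) [IsIso (ν X ∣_ V)] :
    VanishesOn (cokernel (ClSub.unitToPush (ν X))) V := by
  intro W hWV t
  apply ModBasis.eq_zero_of_locally_zero
  intro y hy
  obtain ⟨W', hW'W, hyW', l, hl⟩ :=
    QCExact.exists_local_lift (cokernel.π (ClSub.unitToPush (ν X))) W t y hy
  refine ⟨W', hW'W, hyW', ?_⟩
  obtain ⟨a, ha⟩ := app_surjective_of_le (ν X) V W' (hW'W.trans hWV) l
  have hzero : (cokernel.π (ClSub.unitToPush (ν X))).app W'
      ((ClSub.unitToPush (ν X)).app W' a) = 0 := by
    have h3 : (ClSub.unitToPush (ν X) ≫ cokernel.π (ClSub.unitToPush (ν X))).app W' a = 0 := by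
      rw [cokernel.condition, Scheme.Modules.Hom.zero_app]
      rfl
    exact h3
  rw [unitToPush_app, ha] at hzero
  exact hl.symm.trans hzero

open Groth.Agent.Lib.Helper23.Curve in
/-- a module vanishing on an open has zero stalks there -/
theorem subsingleton_stalk_of_vanishesOn (K : X.Modules) (V : X.Opens) (hK : VanishesOn K V)
    (x : X) (hx : x ∈ V) : Subsingleton (K.presheaf.stalk x) := by
  refine ⟨fun a b => ?_⟩
  have h0 : ∀ c : K.presheaf.stalk x, c = 0 := by
    intro c
    obtain ⟨W, hxW, s, rfl⟩ := TopCat.Presheaf.exists_germ_eq K.presheaf c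
    have hle : W ⊓ V ≤ W := inf_le_left
    have h1 : res K hle s = 0 := hK (W ⊓ V) inf_le_right _
    have h2 := TopCat.Presheaf.germ_res_apply K.presheaf (homOfLE hle) x ⟨hxW, hx⟩ s
    rw [← h2]
    change K.presheaf.germ (W ⊓ V) x ⟨hxW, hx⟩ (res K hle s) = 0
    rw [h1, map_zero]
  rw [h0 a, h0 b]

open Groth.Agent.Lib.Helper17.StalkExact Groth.Agent.Lib.Helper3.InvGen in
/-- **Stalks of the cokernel.** The stalk at `x` of `ν_* O / O_X` has length `δ(O_{X,x})`. -/
theorem length_stalk_cokernel (hfin : IsFinite (ν X)) (x : X) :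
    Module.length (X.presheaf.stalk x)
      ((cokernel (ClSub.unitToPush (ν X))).presheaf.stalk x) =
      Curv2.deltaInv (X.presheaf.stalk x) := by
  obtain ⟨U, hU, hxU⟩ := NormAff.exists_affine_mem X x
  obtain ⟨hdom, hinj, hbir, hic⟩ := NormAff.sections_props X hU ⟨x, hxU⟩
  haveI : Nonempty U := ⟨⟨x, hxU⟩⟩
  letI algRB : Algebra Γ(X, U) Γ((X.fromSpecStalk (genericPoint X)).normalization,
      (ν X) ⁻¹ᵁ U) := ((ν X).app U).hom.toAlgebra
  haveI := hdom
  haveI := hic
  haveI : Module.Finite Γ(X, U) Γ((X.fromSpecStalk (genericPoint X)).normalization,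
      (ν X) ⁻¹ᵁ U) := hfin.finite_app U hU
  haveI : Algebra.IsIntegral Γ(X, U) Γ((X.fromSpecStalk (genericPoint X)).normalization,
      (ν X) ⁻¹ᵁ U) := Algebra.IsIntegral.of_finite _ _
  letI algA : Algebra Γ(X, U) (X.presheaf.stalk x) :=
    TopCat.Presheaf.algebra_section_stalk X.presheaf (U := U) ⟨x, hxU⟩
  haveI locA : IsLocalization.AtPrime (X.presheaf.stalk x)
      (hU.primeIdealOf ⟨x, hxU⟩).asIdeal := hU.isLocalization_stalk ⟨x, hxU⟩
  haveI : (Coh.structureModule (X.fromSpecStalk (genericPoint X)).normalization).IsQuasicoherent :=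
    QCOpen.isQuasicoherent_structureModule _
  haveI : (Coh.structureModule X).IsQuasicoherent := QCOpen.isQuasicoherent_structureModule _
  haveI hPqc : ((Scheme.Modules.pushforward (ν X)).obj
      (Coh.structureModule (X.fromSpecStalk (genericPoint X)).normalization)).IsQuasicoherent :=
    Groth.Agent.Lib.Helper3.QCSec.isQuasicoherent_pushforward (ν X) _
  letI modRN : Module Γ(X, U) (((Scheme.Modules.pushforward (ν X)).obj
      (Coh.structureModule (X.fromSpecStalk (genericPoint X)).normalization)).presheaf.stalk x) :=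
    Module.compHom _ (algebraMap Γ(X, U) (X.presheaf.stalk x))
  haveI tower : IsScalarTower Γ(X, U) (X.presheaf.stalk x)
      (((Scheme.Modules.pushforward (ν X)).obj
        (Coh.structureModule (X.fromSpecStalk (genericPoint X)).normalization)).presheaf.stalk x) :=
    ⟨fun r a n => by
      show (r • a) • n = algebraMap Γ(X, U) (X.presheaf.stalk x) r • (a • n)
      rw [Algebra.smul_def, mul_smul]⟩
  let gP : Γ((Scheme.Modules.pushforward (ν X)).obj
      (Coh.structureModule (X.fromSpecStalk (genericPoint X)).normalization), U) →ₗ[Γ(X, U)]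
      (((Scheme.Modules.pushforward (ν X)).obj
        (Coh.structureModule (X.fromSpecStalk (genericPoint X)).normalization)).presheaf.stalk x) :=
    { toFun := ((Scheme.Modules.pushforward (ν X)).obj
        (Coh.structureModule (X.fromSpecStalk (genericPoint X)).normalization)).presheaf.germ U x hxU
      map_add' := map_add _
      map_smul' := fun r m => QS.germ_smul _ x hxU r m }
  haveI hgP : IsLocalizedModule (hU.primeIdealOf ⟨x, hxU⟩).asIdeal.primeCompl gP :=
    QS.isLocalizedModule_germ hU _ x hxU (fun r z => rfl) gP (fun m => rfl)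
  haveI := mono_unitToPush X
  -- the stalk of the cokernel is the cokernel of the stalks
  let T : ShortComplex X.Modules :=
    ShortComplex.mk (ClSub.unitToPush (ν X)) (cokernel.π (ClSub.unitToPush (ν X)))
      (cokernel.condition _)
  have hT : T.Exact := ShortComplex.exact_cokernel (ClSub.unitToPush (ν X))
  haveI : Mono T.f := inferInstanceAs (Mono (ClSub.unitToPush (ν X)))
  have hex := stalkLin_exact T hT x
  have hsurj : Function.Surjective (stalkLin T.g x) :=
    stalkLin_surjective (cokernel.π (ClSub.unitToPush (ν X))) x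
  have hker : LinearMap.ker (stalkLin T.g x) = LinearMap.range (stalkLin T.f x) :=
    LinearMap.exact_iff.mp hex
  let eQ := (stalkLin T.g x).quotKerEquivOfSurjective hsurj
  rw [← LinearEquiv.length_eq eQ, hker]
  refine NormDeltaAlg.length_quotient_eq_deltaInv (hU.primeIdealOf ⟨x, hxU⟩).asIdeal
    (X.presheaf.stalk x) _ hinj hbir gP hgP _ ?_
  apply le_antisymm
  · rintro _ ⟨z, rfl⟩
    obtain ⟨s, hs, m, hm⟩ := Groth.Agent.Lib.Helper17.StalkKit.exists_germ_smul_eq hU x hxU
      (Coh.structureModule X) z
    have hu : IsUnit (X.presheaf.germ U x hxU s) :=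
      Groth.Agent.Lib.Helper17.StalkKit.isUnit_germ hU x hxU s hs
    obtain ⟨t, ht⟩ := hu.exists_left_inv
    have hz : z = t • (Coh.structureModule X).presheaf.germ U x hxU m := by
      rw [← hm, ← mul_smul, ht, one_smul]
    rw [hz, LinearMap.map_smul]
    refine Submodule.smul_mem _ _ (Submodule.subset_span ⟨toFun U m, ?_⟩)
    show gP (((ν X).app U).hom (toFun U m)) =
      stalkLin (ClSub.unitToPush (ν X)) x ((Coh.structureModule X).presheaf.germ U x hxU m)
    rw [stalkLin_apply, QS.stalkMap_germ]
    rfl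
  · rw [Submodule.span_le]
    rintro _ ⟨r, rfl⟩
    refine ⟨(Coh.structureModule X).presheaf.germ U x hxU (ofFun U r), ?_⟩
    show stalkLin (ClSub.unitToPush (ν X)) x
      ((Coh.structureModule X).presheaf.germ U x hxU (ofFun U r)) = gP (((ν X).app U).hom r)
    rw [stalkLin_apply, QS.stalkMap_germ]
    rfl

end Groth.Agent.Lib.Helper23.NormDelta
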