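import Groth.Agent.Lib.Helper17.P1Chart
import Groth.Agent.Lib.Helper12.SchemeDimFT2
import Groth.Agent.Lib.Helper1.ProjSpaceFT
import Groth.Agent.Lib.Helper7.LocFreePn

/-!
# P1Dim: the projective line over a field has dimension at most one
-/
set_option autoImplicit false
universe u
open CategoryTheory CategoryTheory.Limits Opposite TopologicalSpace AlgebraicGeometry

namespace Groth.Agent.Lib.Helper23.P1Dim

open Groth.Agent.Lib.Helper17.P1Chart HomogeneousLocalization

theorem topologicalKrullDim_projSpace_one_le (k : Type u) [Field k] :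
    topologicalKrullDim (CohB1.ProjSpace 1 k) ≤ 1 := by
  letI : (CohB1.ProjSpace 1 k).Over (Spec (CommRingCat.of k)) := ⟨CohB1.ProjSpace.toSpec 1 k⟩
  haveI : LocallyOfFiniteType ((CohB1.ProjSpace 1 k) ↘ Spec (CommRingCat.of k)) :=
    Groth.Agent.Lib.Helper1.ProjSpaceFT.locallyOfFiniteType_toSpec 1 k
  haveI : IsIntegral (CohB1.ProjSpace 1 k) := inferInstance
  haveI : IrreducibleSpace (CohB1.ProjSpace 1 k) := inferInstance
  let e := Proj.basicOpenIsoSpec (CohB1.polyGrading 1 k) (MvPolynomial.X 0) (X_mem k 0) one_pos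
  haveI := isDomain_away k 1 0
  haveI := isPrincipalIdealRing_away k 0
  let U : (CohB1.ProjSpace 1 k).Opens :=
    Proj.basicOpen (CohB1.polyGrading 1 k) (MvPolynomial.X (0 : Fin 2))
  have hU : (U : Set (CohB1.ProjSpace 1 k)).Nonempty := by
    have hne : Nonempty (Spec (CommRingCat.of
      (Away (CohB1.polyGrading 1 k) (MvPolynomial.X (0 : Fin 2))))) := inferInstance
    obtain ⟨p⟩ := hne
    exact ⟨(e.inv p).1, (e.inv p).2⟩
  rw [← Groth.Agent.Lib.Helper12.SchemeDimFT.topologicalKrullDim_opens_of_irreducible k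
    (CohB1.ProjSpace 1 k) U hU]
  have h1 := (Scheme.homeoOfIso e).isHomeomorph.topologicalKrullDim_eq
  refine h1.le.trans ?_
  have h2 : topologicalKrullDim (PrimeSpectrum
      (Away (CohB1.polyGrading 1 k) (MvPolynomial.X (0 : Fin 2)))) ≤ 1 := by
    rw [PrimeSpectrum.topologicalKrullDim_eq_ringKrullDim]
    have h3 : Ring.KrullDimLE 1 (Away (CohB1.polyGrading 1 k) (MvPolynomial.X (0 : Fin 2))) :=
      inferInstance
    exact_mod_cast (Ring.krullDimLE_iff).1 h3
  exact h2

end Groth.Agent.Lib.Helper23.P1Dim
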