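import Groth.Agent.Lib.Helper23.T2L
import Groth.Agent.Lib.Helper13.ProperSupp
import Groth.Agent.Lib.Helper13.ClImmPC

/-!
# T2M: composition with a closed immersion; coherence of `R^p f_*` for proper support
-/
set_option autoImplicit false
universe u
open CategoryTheory CategoryTheory.Limits Opposite TopologicalSpace AlgebraicGeometry
open Groth.Agent.Lib.Helper13 Groth.Agent.Lib.Helper2

noncomputable section

namespace Groth.Agent.Lib.Helper23.T2

variable {X S Z : Scheme.{u}}

/-- flasque modules are `f_*`-acyclic. -/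
lemma isZero_Rpush_of_isFlq (f : X ⟶ S) [HasInjectiveResolutions X.Modules] {N : X.Modules}
    (h : IsFlq N) (n : ℕ) : IsZero ((Coh.Rpush f (n + 1)).obj N) := by
  haveI := isFlasque_toAb_of_isFlq h
  refine (RpushCompare.isZero_Rpush_iff f N (n + 1)).2 ?_
  exact LocallyZero.isZero_Rpush_of_basis f.base (Coh.toAb N) (n + 1) Set.univ
    (RpushCompare.isBasis_univ _)
    (fun B _ => Groth.Agent.Lib.Helper1.FlasqueAcyclic.flasque_HU_subsingleton (Coh.toAb N) _ n)

/-- `R^p f_* (i_* G) ≅ R^p (i ≫ f)_* G` for a closed immersion `i`. -/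
theorem nonempty_Rpush_closed_comp_iso (i : Z ⟶ X) [IsClosedImmersion i] (f : X ⟶ S)
    [HasInjectiveResolutions X.Modules] [HasInjectiveResolutions Z.Modules]
    [EnoughInjectives X.Modules] [EnoughInjectives Z.Modules] (G : Z.Modules) (p : ℕ) :
    Nonempty ((Coh.Rpush (i ≫ f) p).obj G ≅ (Coh.Rpush f p).obj ((Coh.push i).obj G)) := by
  have hI : ∀ I : Z.Modules, Injective I → ∀ n : ℕ,
      IsZero (((Coh.push f).rightDerived (n + 1)).obj ((Coh.push i).obj I)) := by
    intro I hI n
    exact isZero_Rpush_of_isFlq f (isFlq_push i (isFlq_of_injective I hI)) n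
  obtain ⟨e1⟩ := GSS.nonempty_rightDerived_comp_iso (Coh.push i) (Coh.push f) hI p G
  have e0 := DerivedCommute.rightDerivedObjIsoOfNatIso
    (Scheme.Modules.pushforwardComp i f).symm p G
  exact ⟨e0 ≪≫ e1⟩

end Groth.Agent.Lib.Helper23.T2
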