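import Groth.Agent.Lib.Helper23.RegDualB
import Groth.Agent.Lib.Helper2.TraceBij.Model
import Groth.Agent.Lib.Helper2.StalkExt.PnRegular
import Groth.Agent.Lib.Helper2.ExtDepth.RegularDepth
import Groth.Agent.Lib.Helper22.BertiniSh
import Groth.Agent.S10829

/-!
# Helper library (helper23): a regular integral closed subscheme of `P^N_k` has an invertible
coherent dualizing sheaf.
-/

set_option autoImplicit false
set_option linter.unusedSectionVars false
set_option linter.style.haveILetI false
universe u
open CategoryTheory CategoryTheory.Limits AlgebraicGeometry TopologicalSpace Opposite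
open Scheme.Modules

noncomputable section

namespace Groth.Agent.Lib.Helper23.RegDual

open Groth.Agent.Lib.Helper12 Groth.Agent.Lib.Helper12.SchemeDimFT
  Groth.Agent.Lib.Helper2.ExtDepth Groth.Agent.Lib.Helper2.StalkExt

variable (k : Type u) [Field k] (N r : ℕ) {X : Scheme.{u}} [X.Over (Spec (CommRingCat.of k))]
  [IsIntegral X] (hdim : topologicalKrullDim X = (r : WithBot ℕ∞))
  (ι : X ⟶ CohB1.ProjSpace N k) [IsClosedImmersion ι]
  (hι : ι ≫ CohB1.ProjSpace.toSpec N k = X ↘ Spec (CommRingCat.of k))
  (hreg : ∀ x : X, IsRegularLocalRing (X.presheaf.stalk x))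

include hdim in
theorem equidim_of_integral (Z : Set ↥X) (hZ : Z ∈ irreducibleComponents ↥X) :
    topologicalKrullDim ↥Z = (r : WithBot ℕ∞) := by
  haveI : IrreducibleSpace ↥X := inferInstance
  rw [irreducibleComponents_eq_singleton, Set.mem_singleton_iff] at hZ
  subst hZ
  rw [← hdim]
  exact IsHomeomorph.topologicalKrullDim_eq _ (Homeomorph.Set.univ ↥X).isHomeomorph

include hdim hι in
theorem ringKrullDim_stalk_of_isClosed (x : X) (hx : IsClosed ({x} : Set ↥X)) :
    ringKrullDim (X.presheaf.stalk x) = (r : WithBot ℕ∞) := by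
  haveI : LocallyOfFiniteType (X ↘ Spec (CommRingCat.of k)) := by
    rw [← hι]; infer_instance
  obtain ⟨b, hb, hsum⟩ := tr_add_ringKrullDim_stalk_of_equidim k X r
    (equidim_of_integral r hdim) x
  rw [tr_eq_zero_of_isClosed k X x hx, zero_add] at hsum
  rw [hb, hsum]

include hdim hι hreg in
/-- **a regular integral closed subscheme of `P^N_k` of dimension `r` has an invertible coherent
dualizing sheaf.** -/
theorem exists_invertible_dualizing :
    ∃ (ω : X.Modules) (_ : Coh.IsCoh ω) (_ : PicF.IsInvertible ω) (t : Coh.HH X ω r →ₗ[k] k),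
      ∀ F : X.Modules, Coh.IsCoh F → ∀ ψ : Coh.HH X F r →ₗ[k] k,
        ∃! φ : F ⟶ ω, ∀ x : Coh.HH X F r,
          ψ x = t (Sheaf.H.map ((SheafOfModules.toSheaf X.ringCatSheaf).map φ) r x) := by
  haveI : IsNoetherian (CohB1.ProjSpace N k) := Groth.Agent.S2357.result (CohB1.polyGrading N k)
  haveI : IsNoetherian X := Groth.Agent.Lib.Helper2.ShriekExt.isNoetherian_of_closedImmersion' ι
  have hdimN : topologicalKrullDim ↥X ≤ (N : WithBot ℕ∞) := by
    rw [← Groth.Agent.S10829.result k N]
    exact ι.isClosedEmbedding.isInducing.topologicalKrullDim_le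
  have hrN : r ≤ N := by
    rw [hdim] at hdimN
    exact_mod_cast hdimN
  obtain ⟨ω, hωcoh, e, t, hd⟩ :=
    Groth.Agent.Lib.Helper2.TraceBij.exists_model' k N r hrN ι hι (le_of_eq hdim)
  refine ⟨ω, hωcoh, ?_, t, hd⟩
  apply Groth.Agent.Lib.Helper22.BertiniSh.isInvertible_of_rank_one
  refine isFinLocFreeOfRank_one_of_regular ι hreg
    (fun p => isRegularLocalRing_stalk_projSpace k N p) (N - r) ?_ _
    (Groth.Agent.Lib.Helper7.Hypersurf.rank_one_twist N k _) ω e
  intro x hx
  have hx' : IsClosed ({ι x} : Set ↥(CohB1.ProjSpace N k)) := by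
    have := ι.isClosedEmbedding.isClosedMap _ hx
    rwa [Set.image_singleton] at this
  rw [ringKrullDim_stalk_of_isClosed k N r hdim ι hι x hx,
    ringKrullDim_stalk_projSpace_of_isClosed k N (ι x) hx']
  have : r + (N - r) = N := by omega
  exact_mod_cast this

end Groth.Agent.Lib.Helper23.RegDual
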