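import Groth.Agent.Lib.Helper23.StableEnd

/-!
# VBMaps: maps between vector bundles on smooth proper curves

* `exists_vanishesOn_cokernel_of_mono₂`, `deg_le_of_mono_same_rank`: a monomorphism between finite
  locally free modules of the same rank on a proper integral curve has `deg G ≤ deg F`, with
  equality iff it is an isomorphism.
* `ker_coim_data`: kernel and coimage of a map of vector bundles on a smooth proper integral
  curve are vector bundles, with additive ranks and degrees.
* `deg_zero_of_isZero`.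
-/
set_option autoImplicit false
set_option linter.style.haveILetI false
universe u
open CategoryTheory CategoryTheory.Limits AlgebraicGeometry TopologicalSpace Opposite
open Groth.Agent.Lib.Helper3 Groth.Agent.Lib.Helper3.QCSec Groth.Agent.Lib.Helper3.InvGen
open Groth.Agent.Lib.Helper3.FreeBasis Groth.Agent.Lib.Helper3.SecLoc
open Groth.Agent.Lib.Helper23.T2 Groth.Agent.Lib.Helper23.Curve
open Groth.Agent.Lib.Helper23.StableEnd

noncomputable section

namespace Groth.Agent.Lib.Helper23.VBMaps

lemma exists_ne_zero_smul_mem_range₂ {A M N : Type*} [CommRing A] [IsDomain A] [AddCommGroup M]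
    [Module A M] [AddCommGroup N] [Module A N] {n : ℕ} (e : (Fin n → A) ≃ₗ[A] M)
    (e' : (Fin n → A) ≃ₗ[A] N) (f : M →ₗ[A] N) (hf : Function.Injective f) :
    ∃ d : A, d ≠ 0 ∧ ∀ w : N, ∃ g : M, f g = d • w := by
  obtain ⟨d, hd, h⟩ := exists_ne_zero_smul_mem_range e
    (e.toLinearMap.comp (e'.symm.toLinearMap.comp f))
    (by
      intro a b hab
      apply hf
      apply e'.symm.injective
      exact e.injective hab)
  refine ⟨d, hd, fun w => ?_⟩
  obtain ⟨g, hg⟩ := h (e (e'.symm w))
  refine ⟨g, ?_⟩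
  have h1 : e (e'.symm (f g)) = d • e (e'.symm w) := hg
  rw [← map_smul, ← map_smul] at h1
  exact e'.symm.injective (e.injective h1)

variable {X : Scheme.{u}}

/-- a monomorphism between finite locally free modules of the same rank on an integral scheme has
cokernel vanishing on a nonempty open. -/
theorem exists_vanishesOn_cokernel_of_mono₂ [IsIntegral X] {G F : X.Modules} {n : ℕ}
    (hG : FlatMod.IsFinLocFreeOfRank n G) (hF : FlatMod.IsFinLocFreeOfRank n F)
    (φ : G ⟶ F) [Mono φ] :
    ∃ D : X.Opens, (D : Set X).Nonempty ∧ VanishesOn (cokernel φ) D := by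
  obtain ⟨x⟩ : Nonempty X := inferInstance
  obtain ⟨U₁, e₁, hxU₁, hb₁⟩ := isFinLocFreeOfRank_iff.mp hG x
  obtain ⟨U₂, e₂, hxU₂, hb₂⟩ := isFinLocFreeOfRank_iff.mp hF x
  set U := U₁ ⊓ U₂ with hUdef
  have hxU : x ∈ U := ⟨hxU₁, hxU₂⟩
  have hbG := hb₁.mono (inf_le_left : U ≤ U₁)
  have hbF := hb₂.mono (inf_le_right : U ≤ U₂)
  set eF : Fin n → Γ(F, U) := fun i => res F (inf_le_right : U ≤ U₂) (e₂ i) with heF
  haveI : Nonempty U := ⟨⟨x, hxU⟩⟩
  haveI : IsDomain Γ(X, U) := IsIntegral.component_integral (X := X) U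
  obtain ⟨eG'⟩ := free_of_isBasisAt hbG.self
  obtain ⟨eF'⟩ := free_of_isBasisAt hbF.self
  obtain ⟨d, hd0, hd⟩ := exists_ne_zero_smul_mem_range₂ eG' eF' (appLin φ U)
    ((QCProps.mono_iff_app_injective φ).mp inferInstance U)
  refine ⟨X.basicOpen d, ?_, ?_⟩
  · rw [Set.nonempty_iff_ne_empty]
    intro hemp
    apply hd0
    rw [← AlgebraicGeometry.basicOpen_eq_bot_iff]
    exact SetLike.coe_injective (hemp.trans Opens.coe_bot.symm)
  · intro V hVD t
    have hDU : X.basicOpen d ≤ U := X.basicOpen_le d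
    apply ModBasis.eq_zero_of_locally_zero
    intro y hy
    obtain ⟨V', hV'V, hyV', l, hl⟩ := QCExact.exists_local_lift (cokernel.π φ) V t y hy
    refine ⟨V', hV'V, hyV', ?_⟩
    change res (cokernel φ) hV'V t = 0
    have hV'U : V' ≤ U := (hV'V.trans hVD).trans hDU
    have hunit : IsUnit (rres X hV'U d) := by
      have h1 := RingedSpace.isUnit_res_basicOpen X.toRingedSpace d
      have h2 : rres X hV'U d = rres X (hV'V.trans hVD) (rres X hDU d) := (rres_rres _ _ d).symm
      rw [h2]
      exact h1.map _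
    obtain ⟨u, hu⟩ := hunit.exists_left_inv
    obtain ⟨a, ha⟩ := (hbF V' hV'U).2 l
    choose g hg using fun i => hd (eF i)
    have hl2 : l = φ.app V' (u • ∑ i, a i • res G hV'U (g i)) := by
      rw [Scheme.Modules.Hom.app_smul, FreeBasis.app_sum]
      have h3 : ∀ i, φ.app V' (a i • res G hV'U (g i)) =
          a i • (rres X hV'U d • res F hV'U (eF i)) := by
        intro i
        rw [Scheme.Modules.Hom.app_smul, QCExact.app_res']
        have : φ.app U (g i) = d • eF i := hg i
        rw [this, res_smul]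
      simp only [h3]
      have h4 : ∀ i, a i • (rres X hV'U d • res F hV'U (eF i)) =
          rres X hV'U d • (a i • res F hV'U (eF i)) := by
        intro i
        rw [smul_smul, smul_smul, mul_comm]
      simp only [h4]
      rw [← Finset.smul_sum, smul_smul, hu, one_smul]
      exact ha.symm
    have hzero : (cokernel.π φ).app V' (φ.app V' (u • ∑ i, a i • res G hV'U (g i))) = 0 := by
      have h3 : (φ ≫ cokernel.π φ).app V' (u • ∑ i, a i • res G hV'U (g i)) = 0 := by
        rw [cokernel.condition φ, Scheme.Modules.Hom.zero_app]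
        rfl
      exact h3
    rw [← hl2] at hzero
    exact hl.symm.trans hzero

/-- the rank of a finite locally free submodule is at most the rank of the ambient module. -/
theorem rank_le_of_mono [Nonempty X] {G F : X.Modules} {n s : ℕ}
    (hG : FlatMod.IsFinLocFreeOfRank n G) (hF : FlatMod.IsFinLocFreeOfRank s F)
    (φ : G ⟶ F) [Mono φ] : n ≤ s := by
  obtain ⟨x⟩ : Nonempty X := inferInstance
  obtain ⟨U₁, e₁, hxU₁, hb₁⟩ := isFinLocFreeOfRank_iff.mp hG x
  obtain ⟨U₂, e₂, hxU₂, hb₂⟩ := isFinLocFreeOfRank_iff.mp hF x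
  set U := U₁ ⊓ U₂ with hUdef
  have hxU : x ∈ U := ⟨hxU₁, hxU₂⟩
  have hbG := hb₁.mono (inf_le_left : U ≤ U₁)
  have hbF := hb₂.mono (inf_le_right : U ≤ U₂)
  haveI : Nonempty U := ⟨⟨x, hxU⟩⟩
  haveI : Nontrivial Γ(X, U) := Scheme.component_nontrivial X U
  obtain ⟨eG'⟩ := free_of_isBasisAt hbG.self
  obtain ⟨eF'⟩ := free_of_isBasisAt hbF.self
  have hinj : Function.Injective
      (eF'.symm.toLinearMap.comp ((appLin φ U).comp eG'.toLinearMap)) := by
    intro a b hab
    apply eG'.injective
    apply (QCProps.mono_iff_app_injective φ).mp inferInstance U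
    exact eF'.symm.injective hab
  have := card_le_of_injective Γ(X, U) _ hinj
  simpa using this

section Proper
variable (k : Type u) [Field k] {X : Scheme.{u}} [X.Over (Spec (CommRingCat.of k))]
  [IsProper (X ↘ Spec (CommRingCat.of k))]

lemma deg_zero_of_isZero {M : X.Modules} (hM : IsZero M) : Curv2.deg k X M 0 = 0 := by
  unfold Curv2.deg
  rw [euler_eq_zero_of_isZero k X M hM]
  simp

include k in
/-- a monomorphism between finite locally free modules of the same rank on a proper integral curve
does not decrease the degree; it is an isomorphism iff the degrees agree. -/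
theorem deg_le_of_mono_same_rank [IsIntegral X] (hdim : topologicalKrullDim X ≤ 1)
    {G F : X.Modules} {n : ℕ} (hG : FlatMod.IsFinLocFreeOfRank n G)
    (hF : FlatMod.IsFinLocFreeOfRank n F) (φ : G ⟶ F) [Mono φ] :
    Curv2.deg k X G n ≤ Curv2.deg k X F n ∧ (Curv2.deg k X G n = Curv2.deg k X F n → IsIso φ) := by
  haveI := isNoetherian_of_isProper k X
  have hcG := isCoh_of_isFinLocFreeOfRank hG
  have hcF := isCoh_of_isFinLocFreeOfRank hF
  have hcQ := (Groth.Agent.S9514.result X hcG hcF φ).2
  obtain ⟨D, hD, hvan⟩ := exists_vanishesOn_cokernel_of_mono₂ hG hF φ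
  have hfl : IsFlq (cokernel φ) := @isFlq_of_vanishesOn k _ X _ _ _ hdim _ D hD hvan
  have he : Curv2.euler k X F = Curv2.euler k X G + Curv2.euler k X (cokernel φ) :=
    euler_additive k X (cokerSC φ) (cokerSC_shortExact φ) hcG hcF hcQ
  have hnn := euler_nonneg_of_isFlq k X _ hcQ hfl
  unfold Curv2.deg
  constructor
  · linarith
  · intro h
    have h0 : Curv2.euler k X (cokernel φ) = 0 := by linarith
    have hz := isZero_of_isFlq_of_euler_eq_zero k X _ hcQ hfl h0
    haveI : Epi φ := Preadditive.epi_of_isZero_cokernel φ hz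
    exact isIso_of_mono_of_epi φ

include k in
/-- kernel and coimage of a map of vector bundles on a smooth proper integral curve. -/
theorem ker_coim_data [IsIntegral X] [Smooth (X ↘ Spec (CommRingCat.of k))]
    (hdim : topologicalKrullDim X ≤ 1) {E F : X.Modules} {r s : ℕ}
    (hE : FlatMod.IsFinLocFreeOfRank r E) (hF : FlatMod.IsFinLocFreeOfRank s F) (f : E ⟶ F) :
    ∃ a b : ℕ, FlatMod.IsFinLocFreeOfRank a (kernel f) ∧
      FlatMod.IsFinLocFreeOfRank b (Abelian.coimage f) ∧ r = a + b ∧
      Curv2.deg k X E r = Curv2.deg k X (kernel f) a + Curv2.deg k X (Abelian.coimage f) b := by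
  haveI := isNoetherian_of_isProper k X
  haveI : Nonempty X := inferInstance
  have hcE := isCoh_of_isFinLocFreeOfRank hE
  have hcF := isCoh_of_isFinLocFreeOfRank hF
  have hcK := (Groth.Agent.S9514.result X hcE hcF f).1
  let S := cokerSC (kernel.ι f)
  have hS : S.ShortExact := cokerSC_shortExact (kernel.ι f)
  have hcI : Coh.IsCoh S.X₃ := (Groth.Agent.S9514.result X hcK hcE (kernel.ι f)).2
  obtain ⟨a, hK⟩ := SmoothCurve.isFinLocFreeOfRank_of_mono_of_smooth k hdim hcK (kernel.ι f) hE
  haveI : Mono (Abelian.factorThruCoimage f) := inferInstance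
  obtain ⟨b, hI⟩ := SmoothCurve.isFinLocFreeOfRank_of_mono_of_smooth k hdim hcI
    (Abelian.factorThruCoimage f) hF
  exact ⟨a, b, hK, hI, rank_additive S hS hK hE hI, deg_additive k X S hS a r b hK hE hI⟩

include k in
/-- full analysis of a map `f : E ⟶ F` of vector bundles on a smooth proper integral curve: with
`a = rk ker f`, `b = rk coim f`: ranks and degrees add, `b = 0 → f = 0`, `a = 0 → Mono f ∧
deg coim = deg E`, and if moreover `b = s` and `deg coim = deg F` then `f` is an isomorphism. -/
theorem map_analysis [IsIntegral X] [Smooth (X ↘ Spec (CommRingCat.of k))]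
    (hdim : topologicalKrullDim X ≤ 1) {E F : X.Modules} {r s : ℕ}
    (hE : FlatMod.IsFinLocFreeOfRank r E) (hF : FlatMod.IsFinLocFreeOfRank s F) (f : E ⟶ F) :
    ∃ a b : ℕ, FlatMod.IsFinLocFreeOfRank a (kernel f) ∧
      FlatMod.IsFinLocFreeOfRank b (Abelian.coimage f) ∧ r = a + b ∧
      Curv2.deg k X E r = Curv2.deg k X (kernel f) a + Curv2.deg k X (Abelian.coimage f) b ∧
      (b = 0 → f = 0) ∧ (a = 0 → Mono f ∧ Curv2.deg k X (kernel f) a = 0) ∧
      (a = 0 → b = s → Curv2.deg k X (Abelian.coimage f) b = Curv2.deg k X F s → IsIso f) ∧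
      b ≤ s := by
  obtain ⟨a, b, hK, hI, hrank, hdeg⟩ := ker_coim_data k hdim hE hF f
  have hfac : Abelian.coimage.π f ≫ Abelian.factorThruCoimage f = f := Abelian.coimage.fac f
  haveI : Nonempty X := inferInstance
  refine ⟨a, b, hK, hI, hrank, hdeg, ?_, ?_, ?_, rank_le_of_mono hI hF (Abelian.factorThruCoimage f)⟩
  · intro hb
    subst hb
    have hz : IsZero (Abelian.coimage f) := isZero_of_rank_zero hI
    rw [← hfac]
    have : Abelian.factorThruCoimage f = 0 := hz.eq_of_src _ _
    rw [this, comp_zero]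
  · intro ha
    subst ha
    have hz : IsZero (kernel f) := isZero_of_rank_zero hK
    exact ⟨Preadditive.mono_of_isZero_kernel f hz, deg_zero_of_isZero k hz⟩
  · intro ha hb hd
    subst ha
    subst hb
    have hz : IsZero (kernel f) := isZero_of_rank_zero hK
    haveI : Mono f := Preadditive.mono_of_isZero_kernel f hz
    haveI : IsIso (Abelian.factorThruCoimage f) :=
      (deg_le_of_mono_same_rank k hdim hI hF (Abelian.factorThruCoimage f)).2 hd
    haveI : Epi f := by
      rw [← hfac]
      exact epi_comp _ _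
    exact isIso_of_mono_of_epi f

include k in
/-- the degree of a finite locally free submodule `F` of rank `r'` of a coherent module `E` on a
proper integral curve is at most `h⁰(E) + r'(g - 1)`. -/
theorem deg_sub_le [IsIntegral X] (hdim : topologicalKrullDim X ≤ 1) {E F : X.Modules}
    (hcE : Coh.IsCoh E) {r' : ℕ} (hF : FlatMod.IsFinLocFreeOfRank r' F) (i : F ⟶ E) [Mono i] :
    Curv2.deg k X F r' ≤
      (Module.finrank k (Coh.HH X E 0) : ℤ) + (r' : ℤ) * ((Curv2.genus k X : ℤ) - 1) := by
  have hcF := isCoh_of_isFinLocFreeOfRank hF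
  have hcO := T2.isCoh_structureModule X
  haveI := finite_HH k E hcE 0
  haveI := finite_HH k F hcF 0
  haveI := finite_HH k (Coh.structureModule X) hcO 0
  have h1 : Module.finrank k (Coh.HH X F 0) ≤ Module.finrank k (Coh.HH X E 0) :=
    LinearMap.finrank_le_finrank_of_injective (f := HmapA k i 0) (HmapA_injective_zero k i)
  have h2 := euler_eq_h0_sub_h1 k hdim F hcF
  have h3 := euler_eq_h0_sub_h1 k hdim (Coh.structureModule X) hcO
  have h4 : 1 ≤ Module.finrank k (Coh.HH X (Coh.structureModule X) 0) := by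
    haveI : Nontrivial (Coh.HH X (Coh.structureModule X) 0) := by
      haveI : Nonempty X := inferInstance
      haveI : Nonempty (⊤ : X.Opens) := ⟨⟨Classical.arbitrary X, trivial⟩⟩
      haveI : Nontrivial Γ(X, ⊤) := Scheme.component_nontrivial X ⊤
      obtain ⟨a, b, hab⟩ := exists_pair_ne Γ(X, ⊤)
      refine ⟨⟨(h0equiv (Coh.structureModule X)).symm (ofFun ⊤ a),
        (h0equiv (Coh.structureModule X)).symm (ofFun ⊤ b), fun h => hab ?_⟩⟩
      exact ofFun_injective ⊤ ((h0equiv (Coh.structureModule X)).symm.injective h)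
    exact Module.finrank_pos
  unfold Curv2.deg
  rw [h2, h3]
  have hg : (Curv2.genus k X : ℤ) =
      (Module.finrank k (Coh.HH X (Coh.structureModule X) 1) : ℤ) := rfl
  rw [hg]
  have h5 : (0 : ℤ) ≤ (r' : ℤ) := Int.natCast_nonneg _
  have h6 : (0 : ℤ) ≤ (Module.finrank k (Coh.HH X F 1) : ℤ) := Int.natCast_nonneg _
  have h1' : (Module.finrank k (Coh.HH X F 0) : ℤ) ≤ (Module.finrank k (Coh.HH X E 0) : ℤ) := by
    exact_mod_cast h1
  have h4' : (1 : ℤ) ≤ (Module.finrank k (Coh.HH X (Coh.structureModule X) 0) : ℤ) := by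
    exact_mod_cast h4
  nlinarith

end Proper

end Groth.Agent.Lib.Helper23.VBMaps
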