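import Groth.Agent.Lib.Helper23.T2D
import Groth.Agent.Lib.Helper3.QCProps
import Groth.Agent.Lib.Helper13.RelMVMod
import Groth.Agent.Lib.Helper13.ModGrothendieck

/-!
# T2E: sections complexes of pushforwards and restrictions; homology of pushed/restricted complexes
-/
set_option autoImplicit false
universe u
open CategoryTheory CategoryTheory.Limits Opposite TopologicalSpace AlgebraicGeometry

noncomputable section

namespace Groth.Agent.Lib.Helper23.T2

variable {X Y : Scheme.{u}} (f : X ⟶ Y)

/-- the map on global functions induced by `f`. -/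
def pushRing : Coh.Γtop Y →+* Coh.Γtop X := (f.toRingCatSheafHom.hom.app (op ⊤)).hom

/-- global sections of `f_* M` are global sections of `M`. -/
def pushSec (M : X.Modules) : Gm ((Coh.push f).obj M) →ₛₗ[pushRing f] Gm M where
  toFun x := x
  map_add' _ _ := rfl
  map_smul' _ _ := rfl

lemma pushSec_bijective (M : X.Modules) : Function.Bijective (pushSec f M) :=
  ⟨fun _ _ h => h, fun x => ⟨x, rfl⟩⟩

/-- the sections complex of `f_* I` is that of `I`. -/
def secIsoPush (I : CochainComplex X.Modules ℕ) :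
    SecIso (((Coh.push f).mapHomologicalComplex _).obj I) I (pushRing f) where
  e n := pushSec f (I.X n)
  bij n := pushSec_bijective f (I.X n)
  comm _ _ := rfl

lemma toGlobal_comp {A : Type u} [CommRing A] (g : Y ⟶ Spec (CommRingCat.of A)) :
    (pushRing f).comp (Coh.toGlobal g) = Coh.toGlobal (f ≫ g) := by
  ext a
  rfl

/-! ### restriction to an open of the base -/

variable (W : Y.Opens)

lemma resOpens_eq : (f ⁻¹ᵁ W).ι ''ᵁ ⊤ = f ⁻¹ᵁ (W.ι ''ᵁ ⊤) := by
  simp

lemma restrict_smul {Z : Scheme.{u}} (U : Z.Opens) (N : Z.Modules) (V : (U : Scheme.{u}).Opens)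
    (r : (U : Scheme.{u}).ringCatSheaf.obj.obj (op V))
    (x : ((Scheme.Modules.restrictFunctor U.ι).obj N).val.obj (op V)) :
    r • x = @HSMul.hSMul (Z.ringCatSheaf.obj.obj (op (U.ι ''ᵁ V))) (N.val.obj (op (U.ι ''ᵁ V)))
      (N.val.obj (op (U.ι ''ᵁ V))) _ r x := by
  show @HSMul.hSMul (Z.ringCatSheaf.obj.obj (op (U.ι ''ᵁ V))) (N.val.obj (op (U.ι ''ᵁ V)))
    (N.val.obj (op (U.ι ''ᵁ V))) _ ((U.ι.appIso V).inv.hom r) x = _
  rw [Scheme.Opens.ι_appIso]
  rfl

lemma pushRing_morphismRestrict (r : Coh.Γtop (W : Scheme.{u})) :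
    pushRing (f ∣_ W) r =
      (X.presheaf.map (eqToHom (resOpens_eq f W)).op).hom ((f.app (W.ι ''ᵁ ⊤)).hom r) := by
  change ((f ∣_ W).app ⊤).hom r = _
  rw [morphismRestrict_app]
  rfl

/-- sections over the top of `(f_* M)|_W` and of `M|_{f⁻¹ W}`. -/
def resSec (M : X.Modules) :
    Gm ((Scheme.Modules.restrictFunctor W.ι).obj ((Coh.push f).obj M)) →ₛₗ[pushRing (f ∣_ W)]
      Gm ((Scheme.Modules.restrictFunctor (f ⁻¹ᵁ W).ι).obj M) where
  toFun x := M.val.map (eqToHom (resOpens_eq f W)).op x
  map_add' x y := map_add _ x y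
  map_smul' r x := by
    have h1 := restrict_smul W ((Coh.push f).obj M) ⊤ r x
    have h2 := restrict_smul (f ⁻¹ᵁ W) M ⊤ (pushRing (f ∣_ W) r)
      (M.val.map (eqToHom (resOpens_eq f W)).op x)
    refine Eq.trans ?_ h2.symm
    rw [pushRing_morphismRestrict]
    refine (congrArg (M.val.map (eqToHom (resOpens_eq f W)).op) h1).trans ?_
    exact M.val.map_smul (eqToHom (resOpens_eq f W)).op ((f.app (W.ι ''ᵁ ⊤)).hom r) x

lemma resSec_bijective (M : X.Modules) : Function.Bijective (resSec f W M) :=
  ConcreteCategory.bijective_of_isIso (M.val.presheaf.map (eqToHom (resOpens_eq f W)).op)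

lemma resSec_naturality {M N : X.Modules} (φ : M ⟶ N)
    (x : Gm ((Scheme.Modules.restrictFunctor W.ι).obj ((Coh.push f).obj M))) :
    resSec f W N (gmap ((Scheme.Modules.restrictFunctor W.ι).map ((Coh.push f).map φ)) x) =
      gmap ((Scheme.Modules.restrictFunctor (f ⁻¹ᵁ W).ι).map φ) (resSec f W M x) :=
  (congrArg (fun g => g.hom x) (φ.val.naturality (eqToHom (resOpens_eq f W)).op)).symm

/-- the sections complex of `(f_* I)|_W` is that of `I|_{f⁻¹ W}`. -/
def secIsoRes (I : CochainComplex X.Modules ℕ) :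
    SecIso (((Scheme.Modules.restrictFunctor W.ι).mapHomologicalComplex _).obj
        (((Coh.push f).mapHomologicalComplex _).obj I))
      (((Scheme.Modules.restrictFunctor (f ⁻¹ᵁ W).ι).mapHomologicalComplex _).obj I)
      (pushRing (f ∣_ W)) where
  e n := resSec f W (I.X n)
  bij n := resSec_bijective f W (I.X n)
  comm n x := resSec_naturality f W (I.d n (n + 1)) x

/-! ### injective resolutions -/

section Resolution

variable {G : X.Modules} (I : InjectiveResolution G)

lemma res_isZero_homology (j : ℕ) : IsZero (I.cocomplex.homology (j + 1)) :=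
  (HomologicalComplex.exactAt_iff_isZero_homology _ _).1 (I.cocomplex_exactAt_succ j)

/-- `ℋ^0` of an injective resolution. -/
def resHomologyZeroIso : I.cocomplex.homology 0 ≅ G :=
  (isoOfQuasiIsoAt I.ι 0).symm ≪≫
    HomologicalComplex.singleObjHomologySelfIso (ComplexShape.up ℕ) 0 G

lemma res_isFlq (n : ℕ) : IsFlq (I.cocomplex.X n) :=
  isFlq_of_injective _ (I.injective n)

lemma res_termsAcyclic : TermsAcyclic I.cocomplex :=
  termsAcyclic_of_isFlq _ (res_isFlq I)

end Resolution

/-- an exact functor commutes with homology. -/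
def mapHomologyIsoOfExact {C D : Type*} [Category C] [Abelian C] [Category D] [Abelian D]
    (F : C ⥤ D) [F.Additive] [PreservesFiniteLimits F] [PreservesFiniteColimits F]
    (K : CochainComplex C ℕ) (q : ℕ) :
    ((F.mapHomologicalComplex _).obj K).homology q ≅ F.obj (K.homology q) :=
  (K.sc q).mapHomologyIso F

end Groth.Agent.Lib.Helper23.T2
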