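import Groth.Agent.Lib.Helper23.FBC5
import Groth.Agent.Lib.Helper23.T2E
import Groth.Agent.Lib.Helper3.QCExact

/-!
# Cohomology and pushforward along an affine morphism, linearly over the base

For an affine morphism `f : Y ⟶ X` of `k`-schemes (`X` quasi-compact with affine open immersions
affine) and a quasi-coherent module `G` on `Y`, `H^p(Y, G) ≃ₗ[k] H^p(X, f_* G)`.
-/
set_option autoImplicit false
set_option linter.style.haveILetI false
universe u
open CategoryTheory CategoryTheory.Limits Opposite TopologicalSpace AlgebraicGeometry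
open Scheme.Modules

noncomputable section

namespace Groth.Agent.Lib.Helper23.PushIso

open Groth.Agent.Lib.Helper23.T2 Groth.Agent.Lib.Helper23.FBC Groth.Agent.Lib.Helper3
  Groth.Agent.Lib.Helper3.QCSec

/-- cokernels of compatible maps are isomorphic -/
theorem nonempty_equiv_of_coker {R : Type*} [CommRing R] {A₁ B₁ C₁ A₂ B₂ C₂ : Type*}
    [AddCommGroup A₁] [Module R A₁] [AddCommGroup B₁] [Module R B₁] [AddCommGroup C₁] [Module R C₁]
    [AddCommGroup A₂] [Module R A₂] [AddCommGroup B₂] [Module R B₂] [AddCommGroup C₂] [Module R C₂]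
    (f₁ : A₁ →ₗ[R] B₁) (g₁ : B₁ →ₗ[R] C₁) (h₁ : Function.Exact f₁ g₁)
    (s₁ : Function.Surjective g₁)
    (f₂ : A₂ →ₗ[R] B₂) (g₂ : B₂ →ₗ[R] C₂) (h₂ : Function.Exact f₂ g₂)
    (s₂ : Function.Surjective g₂)
    (eA : A₁ ≃ₗ[R] A₂) (eB : B₁ ≃ₗ[R] B₂) (hc : ∀ a, eB (f₁ a) = f₂ (eA a)) :
    Nonempty (C₁ ≃ₗ[R] C₂) := by
  have hk₁ : LinearMap.ker g₁ = LinearMap.range f₁ := (LinearMap.exact_iff.1 h₁)
  have hk₂ : LinearMap.ker g₂ = LinearMap.range f₂ := (LinearMap.exact_iff.1 h₂)
  have hmap : (LinearMap.ker g₁).map (eB : B₁ →ₗ[R] B₂) = LinearMap.ker g₂ := by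
    rw [hk₁, hk₂]
    ext y
    constructor
    · rintro ⟨_, ⟨a, rfl⟩, rfl⟩
      exact ⟨eA a, (hc a).symm⟩
    · rintro ⟨a, rfl⟩
      refine ⟨f₁ (eA.symm a), ⟨_, rfl⟩, ?_⟩
      change eB (f₁ (eA.symm a)) = f₂ a
      rw [hc, LinearEquiv.apply_symm_apply]
  exact ⟨(g₁.quotKerEquivOfSurjective s₁).symm ≪≫ₗ
    Submodule.Quotient.equiv (LinearMap.ker g₁) (LinearMap.ker g₂) eB hmap ≪≫ₗ
    g₂.quotKerEquivOfSurjective s₂⟩

variable {X Y : Scheme.{u}} (f : Y ⟶ X)

section SES

/-- pushforward along an affine morphism preserves short exact sequences of quasi-coherent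
modules -/
theorem shortExact_push [IsAffineHom f] (S : ShortComplex Y.Modules) (hS : S.ShortExact)
    [S.X₁.IsQuasicoherent] [S.X₂.IsQuasicoherent] [S.X₃.IsQuasicoherent] :
    (S.map (Scheme.Modules.pushforward f)).ShortExact := by
  haveI : (Scheme.Modules.pushforward f).Additive :=
    (Scheme.Modules.pullbackPushforwardAdjunction f).right_adjoint_additive
  haveI : PreservesFiniteLimits (Scheme.Modules.pushforward f) := by
    have : PreservesLimitsOfSize.{0, 0} (Scheme.Modules.pushforward f) :=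
      (Scheme.Modules.pullbackPushforwardAdjunction f).rightAdjoint_preservesLimits
    exact PreservesLimitsOfSize.preservesFiniteLimits _
  haveI := hS.mono_f
  haveI := hS.epi_g
  have hex : (S.map (Scheme.Modules.pushforward f)).Exact :=
    hS.exact.map_of_mono_of_preservesKernel _ inferInstance inferInstance
  haveI : Mono (S.map (Scheme.Modules.pushforward f)).f :=
    inferInstanceAs (Mono ((Scheme.Modules.pushforward f).map S.f))
  haveI : ((Scheme.Modules.pushforward f).obj S.X₂).IsQuasicoherent :=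
    QCSec.isQuasicoherent_pushforward f _
  haveI : ((Scheme.Modules.pushforward f).obj S.X₃).IsQuasicoherent :=
    QCSec.isQuasicoherent_pushforward f _
  haveI : Epi (S.map (Scheme.Modules.pushforward f)).g := by
    change Epi ((Scheme.Modules.pushforward f).map S.g)
    rw [QCExact.epi_iff_surjective_on_affines]
    intro U hU
    exact QCExact.surjective_app_of_isAffineOpen S hS (hU.preimage f)
  exact ShortComplex.ShortExact.mk' hex inferInstance inferInstance

end SES

section H0

variable (k : Type u) [CommRing k] [X.Over (Spec (CommRingCat.of k))]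
  [Y.Over (Spec (CommRingCat.of k))]
  (hf : f ≫ (X ↘ Spec (CommRingCat.of k)) = Y ↘ Spec (CommRingCat.of k))

/-- `H⁰(Y, G) ≃ H⁰(X, f_* G)` -/
def θ₀ (G : Y.Modules) :
    Coh.HH Y G 0 ≃ₗ[k] Coh.HH X ((Scheme.Modules.pushforward f).obj G) 0 :=
  let e₁ : Coh.HH Y G 0 ≃+ Γm G := (H0equiv G).toAddEquiv
  let e₂ : Coh.HH X ((Scheme.Modules.pushforward f).obj G) 0 ≃+
      Γm ((Scheme.Modules.pushforward f).obj G) :=
    (H0equiv ((Scheme.Modules.pushforward f).obj G)).toAddEquiv
  let e₃ : Γm ((Scheme.Modules.pushforward f).obj G) ≃+ Γm G :=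
    { toFun := pushSec f G
      invFun := fun x => x
      left_inv := fun _ => rfl
      right_inv := fun _ => rfl
      map_add' := fun _ _ => rfl }
  (e₁.trans (e₃.symm.trans e₂.symm)).toLinearEquiv (by
    intro c x
    change e₂.symm (e₃.symm (e₁ (c • x))) = c • e₂.symm (e₃.symm (e₁ x))
    apply e₂.injective
    rw [AddEquiv.apply_symm_apply]
    have h1 : e₁ (c • x) =
        Coh.toGlobal (Y ↘ Spec (CommRingCat.of k)) c • (H0equiv G x) :=
      (H0equiv G).map_smul (Coh.toGlobal (Y ↘ Spec (CommRingCat.of k)) c) x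
    have h2 : e₂ (c • e₂.symm (e₃.symm (e₁ x))) =
        Coh.toGlobal (X ↘ Spec (CommRingCat.of k)) c • e₂ (e₂.symm (e₃.symm (e₁ x))) :=
      (H0equiv ((Scheme.Modules.pushforward f).obj G)).map_smul
        (Coh.toGlobal (X ↘ Spec (CommRingCat.of k)) c) _
    rw [h2, AddEquiv.apply_symm_apply, h1]
    have h3 : Coh.toGlobal (Y ↘ Spec (CommRingCat.of k)) c =
        pushRing f (Coh.toGlobal (X ↘ Spec (CommRingCat.of k)) c) := by
      rw [← hf]
      exact (congrArg (fun φ => φ c) (toGlobal_comp f (X ↘ Spec (CommRingCat.of k)))).symm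
    rw [h3]
    rfl)


theorem θ₀_naturality {G G' : Y.Modules} (φ : G ⟶ G') (x : Coh.HH Y G 0) :
    θ₀ f k hf G' (Hmap φ 0 x) =
      Hmap ((Scheme.Modules.pushforward f).map φ) 0 (θ₀ f k hf G x) := by
  apply (H0equiv ((Scheme.Modules.pushforward f).obj G')).injective
  rw [H0equiv_naturality]
  change (H0equiv ((Scheme.Modules.pushforward f).obj G'))
      ((H0equiv ((Scheme.Modules.pushforward f).obj G')).symm (H0equiv G' (Hmap φ 0 x))) =
    Γmap ((Scheme.Modules.pushforward f).map φ)
      ((H0equiv ((Scheme.Modules.pushforward f).obj G))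
        ((H0equiv ((Scheme.Modules.pushforward f).obj G)).symm (H0equiv G x)))
  rw [LinearEquiv.apply_symm_apply, LinearEquiv.apply_symm_apply, H0equiv_naturality]
  rfl

end H0

section Acyclic

/-- pushforwards of quasi-coherent modules along affine morphisms from affine schemes are
acyclic -/
theorem subsingleton_HH_push' {V : Scheme.{u}} [IsAffine V] (h : V ⟶ X) [IsAffineHom h]
    (N : V.Modules) [N.IsQuasicoherent] (p : ℕ) :
    Subsingleton (Coh.HH X ((Scheme.Modules.pushforward h).obj N) (p + 1)) := by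
  obtain ⟨e⟩ := Groth.Agent.Lib.Helper13.BaseChangeVanish.nonempty_HH_equiv_push h N (p + 1)
  have := Groth.Agent.Lib.Helper13.AffineVanish.subsingleton_HH_of_isAffine V N p
  exact e.symm.toEquiv.subsingleton

variable {ι : Type u} [Fintype ι] (W : ι → Y.Opens)

theorem subsingleton_HH_push_Eff [IsAffineHom f] (hW : ∀ i, IsAffineOpen (W i))
    [∀ i, IsAffineHom ((W i).ι ≫ f)] (G : Y.Modules) [G.IsQuasicoherent] (p : ℕ) :
    Subsingleton (Coh.HH X ((Scheme.Modules.pushforward f).obj (Eff W G)) (p + 1)) := by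
  haveI : (Scheme.Modules.pushforward f).Additive :=
    (Scheme.Modules.pullbackPushforwardAdjunction f).right_adjoint_additive
  refine subsingleton_HH_map_biproduct (Scheme.Modules.pushforward f) (fun i => PR (W i) G)
    (p + 1) (fun i => ?_)
  haveI : IsAffine ((W i : Y.Opens) : Scheme.{u}) := hW i
  haveI : ((Scheme.Modules.restrictFunctor (W i).ι).obj G).IsQuasicoherent :=
    Scheme.Modules.isQuasicoherent_restrictFunctor (W i).ι G
  have h1 := subsingleton_HH_push' ((W i).ι ≫ f)
    ((Scheme.Modules.restrictFunctor (W i).ι).obj G) p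
  exact (HmapEquiv ((Scheme.Modules.pushforwardComp (W i).ι f).app
    ((Scheme.Modules.restrictFunctor (W i).ι).obj G)) (p + 1)).toEquiv.subsingleton

end Acyclic

section Main

variable (k : Type u) [CommRing k] [X.Over (Spec (CommRingCat.of k))]
  [Y.Over (Spec (CommRingCat.of k))]
  (hf : f ≫ (X ↘ Spec (CommRingCat.of k)) = Y ↘ Spec (CommRingCat.of k))
  [IsAffineHom f] [CompactSpace X]
  (haff : ∀ V : X.Opens, IsAffineOpen V → IsAffineHom V.ι)

include hf haff in
/-- **Cohomology commutes with pushforward along an affine morphism**, linearly over the base. -/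
theorem nonempty_equiv : ∀ (p : ℕ) (G : Y.Modules) [G.IsQuasicoherent],
    Nonempty (Coh.HH Y G p ≃ₗ[k] Coh.HH X ((Scheme.Modules.pushforward f).obj G) p) := by
  obtain ⟨ι, _, U, hU, hcov⟩ := exists_finite_affine_cover X
  let W : ι → Y.Opens := fun i => f ⁻¹ᵁ (U i)
  have hW : ∀ i, IsAffineOpen (W i) := fun i => (hU i).preimage f
  have hWcov : ⨆ i, W i = ⊤ := by
    rw [eq_top_iff]
    intro y _
    have hy : f y ∈ (⨆ i, U i : X.Opens) := by rw [hcov]; trivial
    obtain ⟨i, hi⟩ := Opens.mem_iSup.mp hy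
    exact Opens.mem_iSup.mpr ⟨i, hi⟩
  haveI : ∀ i, IsAffineHom (U i).ι := fun i => haff (U i) (hU i)
  haveI hcomp : ∀ i, IsAffineHom ((W i).ι ≫ f) := by
    intro i
    have h1 : (f ∣_ (U i)) ≫ (U i).ι = (W i).ι ≫ f := morphismRestrict_ι f (U i)
    rw [← h1]
    haveI : IsAffineHom (f ∣_ (U i)) :=
      AlgebraicGeometry.IsZariskiLocalAtTarget.restrict (P := @IsAffineHom) inferInstance (U i)
    infer_instance
  haveI : ∀ i, IsAffineHom (W i).ι := fun i => IsAffineHom.of_comp (W i).ι f
  have hstep : ∀ (G : Y.Modules) [G.IsQuasicoherent],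
      (cokernel (effMap W G)).IsQuasicoherent ∧
      (∀ p, Subsingleton (Coh.HH Y (Eff W G) (p + 1))) ∧
      (∀ p, Subsingleton (Coh.HH X ((Scheme.Modules.pushforward f).obj (Eff W G)) (p + 1))) := by
    intro G _
    haveI := isQuasicoherent_Eff W G
    exact ⟨QCProps.isQuasicoherent_cokernel _, fun p => subsingleton_HH_Eff W hW G p,
      fun p => subsingleton_HH_push_Eff f W hW G p⟩
  intro p
  induction p with
  | zero =>
    intro G _
    exact ⟨θ₀ f k hf G⟩
  | succ p ih =>
    intro G _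
    obtain ⟨hQ, hG, hG'⟩ := hstep G
    haveI := hQ
    haveI := isQuasicoherent_Eff W G
    have hS := effSC_shortExact W hWcov G
    have hS' := shortExact_push f (effSC W G) hS
    rcases p with _ | p
    · refine nonempty_equiv_of_coker
        (HmapK k (effSC W G).g 0) (HδK k (effSC W G) hS 0)
        (exact_Hmap_Hδ k (effSC W G) hS 0) (surjective_Hδ k (effSC W G) hS 0 (hG 0))
        (HmapK k ((effSC W G).map (Scheme.Modules.pushforward f)).g 0)
        (HδK k ((effSC W G).map (Scheme.Modules.pushforward f)) hS' 0)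
        (exact_Hmap_Hδ k _ hS' 0) (surjective_Hδ k _ hS' 0 (hG' 0))
        (θ₀ f k hf (Eff W G)) (θ₀ f k hf (cokernel (effMap W G))) ?_
      intro a
      exact θ₀_naturality f k hf (cokernel.π (effMap W G)) a
    · obtain ⟨e0⟩ := ih (cokernel (effMap W G))
      have hb := bijective_Hδ (effSC W G) hS (p + 1) (hG p) (hG (p + 1))
      have hb' := bijective_Hδ ((effSC W G).map (Scheme.Modules.pushforward f)) hS' (p + 1)
        (hG' p) (hG' (p + 1))
      let e1 : Coh.HH Y (cokernel (effMap W G)) (p + 1) ≃ₗ[k] Coh.HH Y G (p + 1 + 1) :=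
        LinearEquiv.ofBijective (HδK k (effSC W G) hS (p + 1)) hb
      let e2 : Coh.HH X ((Scheme.Modules.pushforward f).obj (cokernel (effMap W G))) (p + 1) ≃ₗ[k]
          Coh.HH X ((Scheme.Modules.pushforward f).obj G) (p + 1 + 1) :=
        LinearEquiv.ofBijective
          (HδK k ((effSC W G).map (Scheme.Modules.pushforward f)) hS' (p + 1)) hb'
      exact ⟨e1.symm ≪≫ₗ e0 ≪≫ₗ e2⟩

end Main

end Groth.Agent.Lib.Helper23.PushIso
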