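import Mathlib
import Groth.Prelude
import Groth.Agent.Lib.Helper3.PbTensor
import Groth.Agent.Lib.Helper7.TwFun
import Groth.Agent.Lib.Helper13.ProjFormulaLF
import Groth.Agent.Lib.Helper17.PullBasis
import Groth.Agent.Lib.Helper23.Inverse

/-!
# Pullback commutes with tensoring by an invertible module (helper23)

via uniqueness of left adjoints and the projection formula.
-/

set_option autoImplicit false
set_option linter.unusedSectionVars false
set_option linter.style.haveILetI false
universe u
open CategoryTheory CategoryTheory.Limits AlgebraicGeometry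
open Scheme.Modules

noncomputable section

namespace Groth.Agent.Lib.Helper23.PbTwist

open Groth.Agent.Lib.Helper3 Groth.Agent.Lib.Helper3.InvMonoidal Groth.Agent.Lib.Helper3.PbTensor
  Groth.Agent.Lib.Helper3.PbBasic Groth.Agent.Lib.Helper7.TwFun Groth.Agent.Lib.Helper2.Mon
  Groth.Agent.Lib.Helper3.InvTensor

variable {X Y : Scheme.{u}} (f : X ⟶ Y)

/-- the projection formula as a natural isomorphism of the twisting functors. -/
def projNatIso' (E : Y.Modules) (hE : FlatMod.IsFinLocFree E) :
    pushforward f ⋙ twR E ≅ twR ((Scheme.Modules.pullback f).obj E) ⋙ pushforward f :=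
  NatIso.ofComponents
    (fun A => @asIso _ _ _ _ (projHom f A E)
      (Groth.Agent.Lib.Helper13.ProjFormulaLF.isIso_projHom_of_isFinLocFree f A E hE))
    (by
      intro A A' α
      have h := projHom_naturality f α (𝟙 E)
      rw [CategoryTheory.Functor.map_id] at h
      exact h)

variable (N N' : Y.Modules) (hN : PicF.IsInvertible N) (hN' : PicF.IsInvertible N')
  (e : CohB1.tensorMod N N' ≅ Coh.structureModule Y)

/-- the pulled back inverse. -/
def pbInvIso : CohB1.tensorMod ((Scheme.Modules.pullback f).obj N)
    ((Scheme.Modules.pullback f).obj N') ≅ Coh.structureModule X :=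
  (pbTensorIso f N N' hN hN').symm ≪≫ (Scheme.Modules.pullback f).mapIso e ≪≫ pbUnit f

/-- `f^*M ⊗ f^*N ≅ f^*(M ⊗ N)`, naturally in `M`, for `N` invertible. -/
def pbTwNatIso : Scheme.Modules.pullback f ⋙ twR ((Scheme.Modules.pullback f).obj N) ≅
    twR N ⋙ Scheme.Modules.pullback f :=
  (conjugateIsoEquiv
    ((twEquiv N N' e).toAdjunction.comp (pullbackPushforwardAdjunction f))
    ((pullbackPushforwardAdjunction f).comp
      (twEquiv _ _ (pbInvIso f N N' hN hN' e)).toAdjunction)).symm
    (projNatIso' f N' (Groth.Agent.Lib.Helper17.PullBasis.isFinLocFree_of_isInvertible hN'))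

include hN in
theorem nonempty_pbTensorIso (M : Y.Modules) :
    Nonempty ((Scheme.Modules.pullback f).obj (CohB1.tensorMod M N) ≅
      CohB1.tensorMod ((Scheme.Modules.pullback f).obj M)
        ((Scheme.Modules.pullback f).obj N)) := by
  obtain ⟨N', hN', ⟨e⟩⟩ := Groth.Agent.Lib.Helper23.Inverse.exists_isInverseOf hN
  exact ⟨((pbTwNatIso f N N' hN hN' e).app M).symm⟩

/-- pullback commutes with the twists by powers of an invertible module. -/
theorem nonempty_pbTwistIso (L : Y.Modules) (hL : PicF.IsInvertible L) (E : Y.Modules) (m : ℕ) :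
    Nonempty ((Scheme.Modules.pullback f).obj (ShStab.twist Y L E m) ≅
      ShStab.twist X ((Scheme.Modules.pullback f).obj L) ((Scheme.Modules.pullback f).obj E) m) := by
  obtain ⟨e1⟩ := nonempty_pbTensorIso f (CohB1.tensorPow L m) (isInvertible_tensorPow hL m) E
  exact ⟨e1 ≪≫ tensorMapIso (Iso.refl _) (pbPowIso f L hL m)⟩

end Groth.Agent.Lib.Helper23.PbTwist
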