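import Groth.Agent.Lib.Helper23.AmpleCurve6
import Groth.Agent.Lib.Helper23.Devissage
import Groth.Agent.Lib.Helper3.ModBasis

/-!
# AmpleCurve7: the Koszul sequence of two sections of an invertible module without common zeros
-/
set_option autoImplicit false
set_option linter.style.haveILetI false
universe u
open CategoryTheory CategoryTheory.Limits Opposite TopologicalSpace AlgebraicGeometry
open Groth.Agent.Lib.Helper3 Groth.Agent.Lib.Helper3.QCSec Groth.Agent.Lib.Helper3.InvGen
  Groth.Agent.Lib.Helper3.InvTensor Groth.Agent.Lib.Helper3.InvMonoidal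
  Groth.Agent.Lib.Helper3.InvAmple
open Groth.Agent.Lib.Helper23.T2

noncomputable section

namespace Groth.Agent.Lib.Helper23.AmpleCurve

open Groth.Agent.Lib.Helper23.Curve

variable {X : Scheme.{u}}

/-- the symmetry of `L ⊗ L` is trivial for invertible `L`, at the level of sections -/
theorem tm_tm_comm (M : X.Modules) {L : X.Modules} (hL : PicF.IsInvertible L) (V : X.Opens)
    (z : Γ(M, V)) (a b : Γ(L, V)) :
    tm (CohB1.tensorMod M L) L V (tm M L V z a) b =
      tm (CohB1.tensorMod M L) L V (tm M L V z b) a := by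
  rw [← sub_eq_zero]
  apply ModBasis.eq_zero_of_locally_zero
  intro x hxV
  obtain ⟨U, e, hxU, hg⟩ := exists_isGen hL x
  refine ⟨V ⊓ U, inf_le_left, ⟨hxV, hxU⟩, ?_⟩
  have hgW := (hg.mono (inf_le_right : V ⊓ U ≤ U)).self
  obtain ⟨α, hα⟩ := hgW.exists_coord (res L inf_le_left a)
  obtain ⟨β, hβ⟩ := hgW.exists_coord (res L inf_le_left b)
  rw [res_sub, tm_res, tm_res, tm_res, tm_res, ← hα, ← hβ]
  simp only [tm_smul_right, tm_smul_left]
  rw [smul_comm]
  exact sub_self _

theorem mulBy_comm (M : X.Modules) {L : X.Modules} (hL : PicF.IsInvertible L)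
    (s t : Coh.structureModule X ⟶ L) :
    mulBy M s ≫ mulBy (CohB1.tensorMod M L) t = mulBy M t ≫ mulBy (CohB1.tensorMod M L) s := by
  apply Scheme.Modules.hom_ext
  intro U
  ext z
  show (mulBy (CohB1.tensorMod M L) t).app U ((mulBy M s).app U z) =
    (mulBy (CohB1.tensorMod M L) s).app U ((mulBy M t).app U z)
  rw [mulBy_app, mulBy_app, mulBy_app, mulBy_app]
  exact tm_tm_comm M hL U z _ _

section Koszul

open Groth.Agent.Lib.Helper23.Dev

variable (M : X.Modules) {L : X.Modules} (s t : Coh.structureModule X ⟶ L)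

/-- `M ⟶ (M ⊗ L) ⊞ (M ⊗ L)`, `z ↦ (z s, z t)` -/
def kosF : M ⟶ (CohB1.tensorMod M L ⊞ CohB1.tensorMod M L : X.Modules) :=
  biprod.lift (mulBy M s) (mulBy M t)

/-- `(M ⊗ L) ⊞ (M ⊗ L) ⟶ (M ⊗ L) ⊗ L`, `(y₁, y₂) ↦ y₁ t - y₂ s` -/
def kosG : (CohB1.tensorMod M L ⊞ CohB1.tensorMod M L : X.Modules) ⟶
    CohB1.tensorMod (CohB1.tensorMod M L) L :=
  biprod.desc (mulBy (CohB1.tensorMod M L) t) (-(mulBy (CohB1.tensorMod M L) s))

variable {s t}

theorem kos_zero (hL : PicF.IsInvertible L) : kosF M s t ≫ kosG M s t = 0 := by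
  unfold kosF kosG
  rw [biprod.lift_desc, Preadditive.comp_neg, mulBy_comm M hL s t]
  exact add_neg_cancel _

theorem kosF_fst (V : X.Opens) (z : Γ(M, V)) :
    (biprod.fst : (CohB1.tensorMod M L ⊞ CohB1.tensorMod M L : X.Modules) ⟶ _).app V
      ((kosF M s t).app V z) = tm M L V z (sec s V) := by
  have h := congrArg (fun f : M ⟶ CohB1.tensorMod M L => f.app V z)
    (biprod.lift_fst (mulBy M s) (mulBy M t))
  exact h.trans (mulBy_app M s V z)

theorem kosF_snd (V : X.Opens) (z : Γ(M, V)) :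
    (biprod.snd : (CohB1.tensorMod M L ⊞ CohB1.tensorMod M L : X.Modules) ⟶ _).app V
      ((kosF M s t).app V z) = tm M L V z (sec t V) := by
  have h := congrArg (fun f : M ⟶ CohB1.tensorMod M L => f.app V z)
    (biprod.lift_snd (mulBy M s) (mulBy M t))
  exact h.trans (mulBy_app M t V z)

theorem kosG_app (V : X.Opens)
    (y : Γ((CohB1.tensorMod M L ⊞ CohB1.tensorMod M L : X.Modules), V)) :
    (kosG M s t).app V y =
      tm (CohB1.tensorMod M L) L V ((biprod.fst : (CohB1.tensorMod M L ⊞ CohB1.tensorMod M L :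
        X.Modules) ⟶ _).app V y) (sec t V) -
      tm (CohB1.tensorMod M L) L V ((biprod.snd : (CohB1.tensorMod M L ⊞ CohB1.tensorMod M L :
        X.Modules) ⟶ _).app V y) (sec s V) := by
  conv_lhs => rw [biprod_decomp V y]
  unfold kosG
  rw [app_add', desc_inl, desc_inr]
  have h : (-(mulBy (CohB1.tensorMod M L) s)).app V
      ((biprod.snd : (CohB1.tensorMod M L ⊞ CohB1.tensorMod M L : X.Modules) ⟶ _).app V y) =
      -((mulBy (CohB1.tensorMod M L) s).app V
        ((biprod.snd : (CohB1.tensorMod M L ⊞ CohB1.tensorMod M L : X.Modules) ⟶ _).app V y)) :=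
    rfl
  rw [h, mulBy_app, mulBy_app, sub_eq_add_neg]

end Koszul

section KoszulExact

open Groth.Agent.Lib.Helper23.Dev

variable (M : X.Modules) {L : X.Modules} {s t : Coh.structureModule X ⟶ L}

/-- local solvability of the Koszul relation near a point where `s` generates -/
theorem kos_local (hL : PicF.IsInvertible L) (W : X.Opens) (y₁ y₂ : Γ(CohB1.tensorMod M L, W))
    (hrel : tm (CohB1.tensorMod M L) L W y₁ (sec t W) = tm (CohB1.tensorMod M L) L W y₂ (sec s W))
    (x : X) (hxW : x ∈ W) (hx : x ∈ CohB1.genLocus L s) :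
    ∃ (W' : X.Opens) (hW' : W' ≤ W) (_ : x ∈ W') (z : Γ(M, W')),
      tm M L W' z (sec s W') = res _ hW' y₁ ∧ tm M L W' z (sec t W') = res _ hW' y₂ := by
  have hgen : IsGen L (CohB1.genLocus L s) (sec s _) := isGen_genLocus s
  obtain ⟨z, hz⟩ := tm_gen_surjective M L hgen (W ⊓ CohB1.genLocus L s) inf_le_right
    (res _ inf_le_left y₁)
  dsimp only at hz
  rw [res_sec] at hz
  refine ⟨W ⊓ CohB1.genLocus L s, inf_le_left, ⟨hxW, hx⟩, z, hz, ?_⟩
  apply tm_gen_injective (CohB1.tensorMod M L) L hgen (W ⊓ CohB1.genLocus L s) inf_le_right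
  dsimp only
  rw [res_sec, tm_tm_comm M hL _ z (sec t _) (sec s _), hz]
  have h := congrArg (res (CohB1.tensorMod (CohB1.tensorMod M L) L)
    (inf_le_left : W ⊓ CohB1.genLocus L s ≤ W)) hrel
  rw [tm_res, tm_res, res_sec, res_sec] at h
  exact h

end KoszulExact

section KoszulExact2

open Groth.Agent.Lib.Helper23.Dev

variable (M : X.Modules) {L : X.Modules} {s t : Coh.structureModule X ⟶ L}

omit M in
theorem biprod_sec_ext {A B : X.Modules} (V : X.Opens) (y y' : Γ((A ⊞ B : X.Modules), V))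
    (h1 : (biprod.fst : A ⊞ B ⟶ A).app V y = (biprod.fst : A ⊞ B ⟶ A).app V y')
    (h2 : (biprod.snd : A ⊞ B ⟶ B).app V y = (biprod.snd : A ⊞ B ⟶ B).app V y') : y = y' :=
  (biprod_decomp V y).trans (by rw [h1, h2]; exact (biprod_decomp V y').symm)

theorem kos_exact (hL : PicF.IsInvertible L)
    (hcov : ∀ x : X, x ∈ CohB1.genLocus L s ∨ x ∈ CohB1.genLocus L t) :
    (ShortComplex.mk (kosF M s t) (kosG M s t) (kos_zero M hL)).Exact := by
  rw [ShortComplex.exact_iff_epi_kernel_lift]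
  show Epi (kernel.lift (kosG M s t) (kosF M s t) (kos_zero M hL))
  apply QCExact.epi_of_locally_surjective
  intro W c x hxW
  have hgy : (kosG M s t).app W ((kernel.ι (kosG M s t)).app W c) = 0 := by
    have h : (kernel.ι (kosG M s t) ≫ kosG M s t).app W c = 0 := by
      rw [kernel.condition]; rfl
    exact h
  rw [kosG_app, sub_eq_zero] at hgy
  have key : ∃ (W' : X.Opens) (hW' : W' ≤ W) (_ : x ∈ W') (z : Γ(M, W')),
      tm M L W' z (sec s W') = res _ hW' ((biprod.fst : (CohB1.tensorMod M L ⊞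
        CohB1.tensorMod M L : X.Modules) ⟶ _).app W ((kernel.ι (kosG M s t)).app W c)) ∧
      tm M L W' z (sec t W') = res _ hW' ((biprod.snd : (CohB1.tensorMod M L ⊞
        CohB1.tensorMod M L : X.Modules) ⟶ _).app W ((kernel.ι (kosG M s t)).app W c)) := by
    rcases hcov x with hx | hx
    · exact kos_local M hL W _ _ hgy x hxW hx
    · obtain ⟨W', hW', hxW', z, h1, h2⟩ := kos_local M hL W _ _ hgy.symm x hxW hx
      exact ⟨W', hW', hxW', z, h2, h1⟩
  obtain ⟨W', hW', hxW', z, h1, h2⟩ := key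
  refine ⟨W', hW', hxW', z, ?_⟩
  apply QCExact.injective_sections (kernel.ι (kosG M s t)) W'
  have hl : (kernel.ι (kosG M s t)).app W'
      ((kernel.lift (kosG M s t) (kosF M s t) (kos_zero M hL)).app W' z) =
      (kosF M s t).app W' z :=
    congrArg (fun f : M ⟶ _ => f.app W' z) (kernel.lift_ι _ _ _)
  rw [hl, QCExact.app_res']
  apply biprod_sec_ext
  · rw [kosF_fst, QCExact.app_res', h1]
  · rw [kosF_snd, QCExact.app_res', h2]

end KoszulExact2

section KoszulExact3

open Groth.Agent.Lib.Helper23.Dev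

variable (M : X.Modules) {L : X.Modules} {s t : Coh.structureModule X ⟶ L}

theorem kos_epi (hcov : ∀ x : X, x ∈ CohB1.genLocus L s ∨ x ∈ CohB1.genLocus L t) :
    Epi (kosG M s t) := by
  apply QCExact.epi_of_locally_surjective
  intro W y x hxW
  rcases hcov x with hx | hx
  · have hgen : IsGen L (CohB1.genLocus L s) (sec s _) := isGen_genLocus s
    obtain ⟨z, hz⟩ := tm_gen_surjective (CohB1.tensorMod M L) L hgen (W ⊓ CohB1.genLocus L s)
      inf_le_right (-(res _ inf_le_left y))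
    dsimp only at hz
    rw [res_sec] at hz
    refine ⟨W ⊓ CohB1.genLocus L s, inf_le_left, ⟨hxW, hx⟩,
      (biprod.inr : CohB1.tensorMod M L ⟶ (CohB1.tensorMod M L ⊞ CohB1.tensorMod M L :
        X.Modules)).app _ z, ?_⟩
    rw [kosG_app, fst_inr, snd_inr, tm_zero_left, hz, zero_sub, neg_neg]
  · have hgen : IsGen L (CohB1.genLocus L t) (sec t _) := isGen_genLocus t
    obtain ⟨z, hz⟩ := tm_gen_surjective (CohB1.tensorMod M L) L hgen (W ⊓ CohB1.genLocus L t)
      inf_le_right (res _ inf_le_left y)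
    dsimp only at hz
    rw [res_sec] at hz
    refine ⟨W ⊓ CohB1.genLocus L t, inf_le_left, ⟨hxW, hx⟩,
      (biprod.inl : CohB1.tensorMod M L ⟶ (CohB1.tensorMod M L ⊞ CohB1.tensorMod M L :
        X.Modules)).app _ z, ?_⟩
    rw [kosG_app, fst_inl, snd_inl, tm_zero_left, hz, sub_zero]

theorem kos_mono [Mono (mulBy M s)] : Mono (kosF M s t) := by
  have h : kosF M s t ≫ biprod.fst = mulBy M s := biprod.lift_fst _ _
  haveI : Mono (kosF M s t ≫ biprod.fst) := by rw [h]; infer_instance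
  exact mono_of_mono (kosF M s t) biprod.fst

/-- the Koszul short exact sequence `0 → M → (M⊗L)² → (M⊗L)⊗L → 0` -/
theorem kos_shortExact (hL : PicF.IsInvertible L) [Mono (mulBy M s)]
    (hcov : ∀ x : X, x ∈ CohB1.genLocus L s ∨ x ∈ CohB1.genLocus L t) :
    (ShortComplex.mk (kosF M s t) (kosG M s t) (kos_zero M hL)).ShortExact :=
  { exact := kos_exact M hL hcov
    mono_f := kos_mono M
    epi_g := kos_epi M hcov }

end KoszulExact3

end Groth.Agent.Lib.Helper23.AmpleCurve
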