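import Mathlib
import Groth.Prelude
import Groth.Agent.Lib.Helper3.PullLemmas
import Groth.Agent.Lib.Helper3.SubIdeal
import Groth.Agent.Lib.Helper3.PbTensor

/-!
# Helper library (helper23): bounded families of cokernels, part A (retractions, free modules,
the parameter space)
-/

set_option autoImplicit false
universe u
open CategoryTheory CategoryTheory.Limits AlgebraicGeometry TopologicalSpace Opposite
open Scheme.Modules

noncomputable section
namespace Groth.Agent.Lib.Helper23.Bdd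

open Groth.Agent.Lib.Helper3 Groth.Agent.Lib.Helper3.QCSec Groth.Agent.Lib.Helper3.InvGen
  Groth.Agent.Lib.Helper3.PbBasic Groth.Agent.Lib.Helper3.PullLemmas
  Groth.Agent.Lib.Helper3.InvAmple Groth.Agent.Lib.Helper3.SubIdeal

section PullTop
variable {X Y : Scheme.{u}}

/-- pullback of a global section, as a global section. -/
def pullTop (f : X ⟶ Y) (M : Y.Modules) (σ : Γ(M, ⊤)) :
    Γ((Scheme.Modules.pullback f).obj M, ⊤) :=
  pull f M ⊤ σ

theorem pullTop_smul (f : X ⟶ Y) (M : Y.Modules) (a : Γ(Y, ⊤)) (σ : Γ(M, ⊤)) :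
    pullTop f M (a • σ) = (f.appTop a) • pullTop f M σ :=
  pull_smul f M ⊤ a σ

theorem pullTop_add (f : X ⟶ Y) (M : Y.Modules) (σ τ : Γ(M, ⊤)) :
    pullTop f M (σ + τ) = pullTop f M σ + pullTop f M τ :=
  PbTensor.pull_add f M ⊤ σ τ

theorem pullTop_zero (f : X ⟶ Y) (M : Y.Modules) : pullTop f M (0 : Γ(M, ⊤)) = 0 := by
  unfold pullTop pull
  exact map_zero _

theorem pullTop_sum (f : X ⟶ Y) (M : Y.Modules) {ι : Type*} (S : Finset ι)
    (σ : ι → Γ(M, ⊤)) :
    pullTop f M (∑ j ∈ S, σ j) = ∑ j ∈ S, pullTop f M (σ j) := by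
  classical
  induction S using Finset.induction_on with
  | empty => simp [pullTop_zero]
  | insert a S ha ih =>
    rw [Finset.sum_insert ha, Finset.sum_insert ha, pullTop_add, ih]

theorem sec_pullHom_top (f : X ⟶ Y) {M : Y.Modules} (s : Coh.structureModule Y ⟶ M) :
    sec (pullHom f s) ⊤ = pullTop f M (sec s ⊤) :=
  sec_pullHom f s ⊤

end PullTop

section Retr
variable {X Y : Scheme.{u}} (s : X ⟶ Y) (p : Y ⟶ X) (h : s ≫ p = 𝟙 X)

/-- `s^* p^* ≅ id` for a section `s` of `p`. -/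
def retrIso (M : X.Modules) :
    (Scheme.Modules.pullback s).obj ((Scheme.Modules.pullback p).obj M) ≅ M :=
  (pullbackComp s p).app M ≪≫ (pullbackCongr h).app M ≪≫ (pullbackId X).app M

theorem retrIso_hom_pull (M : X.Modules) (σ : Γ(M, ⊤)) :
    (retrIso s p h M).hom.app ⊤
      (pullTop s ((Scheme.Modules.pullback p).obj M) (pullTop p M σ)) = σ := by
  unfold pullTop
  have h1 := pullbackComp_hom_pull s p M ⊤ σ
  have h2 := pullbackCongr_hom_pull h M ⊤ σ ⊤ le_rfl le_rfl
  have h3 := pullbackId_hom_pull M ⊤ σ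
  have e1 : res ((Scheme.Modules.pullback (s ≫ p)).obj M)
      (le_rfl : (⊤ : X.Opens) ≤ (s ≫ p) ⁻¹ᵁ ⊤) (pull (s ≫ p) M ⊤ σ) = pull (s ≫ p) M ⊤ σ :=
    res_self _ _ _
  have e2 : res ((Scheme.Modules.pullback (𝟙 X)).obj M)
      (le_rfl : (⊤ : X.Opens) ≤ (𝟙 X) ⁻¹ᵁ ⊤) (pull (𝟙 X) M ⊤ σ) = pull (𝟙 X) M ⊤ σ :=
    res_self _ _ _
  have h2' : ((pullbackCongr h).hom.app M).app ⊤ (pull (s ≫ p) M ⊤ σ) = pull (𝟙 X) M ⊤ σ :=
    ((congrArg (((pullbackCongr h).hom.app M).app ⊤) e1.symm).trans h2).trans e2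
  have h1' : ((pullbackComp s p).hom.app M).app ⊤
      (pull s ((Scheme.Modules.pullback p).obj M) ⊤ (pull p M ⊤ σ)) = pull (s ≫ p) M ⊤ σ := h1
  calc (retrIso s p h M).hom.app ⊤
        (pull s ((Scheme.Modules.pullback p).obj M) ⊤ (pull p M ⊤ σ))
      = ((pullbackId X).hom.app M).app ⊤ (((pullbackCongr h).hom.app M).app ⊤
          (((pullbackComp s p).hom.app M).app ⊤
            (pull s ((Scheme.Modules.pullback p).obj M) ⊤ (pull p M ⊤ σ)))) := rfl
    _ = ((pullbackId X).hom.app M).app ⊤ (((pullbackCongr h).hom.app M).app ⊤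
          (pull (s ≫ p) M ⊤ σ)) := by rw [h1']
    _ = ((pullbackId X).hom.app M).app ⊤ (pull (𝟙 X) M ⊤ σ) := by rw [h2']
    _ = σ := h3

end Retr

section Free
variable {X Y : Scheme.{u}} (s : X ⟶ Y) (N : ℕ)

/-- pullback of a free module is free. -/
def pbFree : (Scheme.Modules.pullback s).obj (FlatMod.freeMod Y N) ≅ FlatMod.freeMod X N :=
  PreservesCoproduct.iso (Scheme.Modules.pullback s) (fun _ : Fin N => Coh.structureModule Y) ≪≫
    Sigma.mapIso (fun _ : Fin N => pbUnit s)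

theorem ι_pbFree_inv (i : Fin N) :
    Sigma.ι (fun _ : Fin N => Coh.structureModule X) i ≫ (pbFree s N).inv =
      (pbUnit s).inv ≫ (Scheme.Modules.pullback s).map
        (Sigma.ι (fun _ : Fin N => Coh.structureModule Y) i) := by
  unfold pbFree
  simp only [Iso.trans_inv, PreservesCoproduct.inv_hom]
  change Sigma.ι (fun _ : Fin N => Coh.structureModule X) i ≫
    Limits.Sigma.map (fun _ : Fin N => (pbUnit s).inv) ≫ sigmaComparison _ _ = _
  rw [Sigma.ι_map_assoc, ι_comp_sigmaComparison]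

theorem pbFree_inv_map_desc {M : Y.Modules} (g : Fin N → (Coh.structureModule Y ⟶ M)) :
    (pbFree s N).inv ≫ (Scheme.Modules.pullback s).map (Sigma.desc g) =
      Sigma.desc (fun i => pullHom s (g i)) := by
  apply Sigma.hom_ext
  intro i
  rw [← Category.assoc, ι_pbFree_inv, Category.assoc, ← Functor.map_comp, Sigma.ι_desc,
    Sigma.ι_desc]
  rfl

end Free

section Family
variable (k : Type u) [Field k] (Y : Scheme.{u}) [Y.Over (Spec (CommRingCat.of k))]

/-- structure map on global functions. -/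
def κ : k →+* Γ(Y, ⊤) := Coh.toGlobal (Y ↘ Spec (CommRingCat.of k))

variable {Y}

/-- a `k`-linear combination of global sections. -/
def comb (B : Y.Modules) {D : ℕ} (e : Fin D → Γ(B, ⊤)) (c : Fin D → k) : Γ(B, ⊤) :=
  ∑ j, (κ k Y (c j)) • e j

/-- the map `O^N → B` with components the given combinations. -/
def phi (B : Y.Modules) {D N : ℕ} (e : Fin D → Γ(B, ⊤)) (c : Fin N → Fin D → k) :
    FlatMod.freeMod Y N ⟶ B :=
  Sigma.desc (fun i => globalHom B (comb k B e (c i)))

variable (N D : ℕ)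

/-- the coordinate ring of the parameter space. -/
abbrev PR : Type u := MvPolynomial (Fin N × Fin D) k

/-- the parameter space. -/
abbrev T : Scheme.{u} := Spec (CommRingCat.of (PR k N D))

def q : T k N D ⟶ Spec (CommRingCat.of k) :=
  Spec.map (CommRingCat.ofHom (algebraMap k (PR k N D)))

variable {N D}

def pt (c : Fin N → Fin D → k) : Spec (CommRingCat.of k) ⟶ T k N D :=
  Spec.map (CommRingCat.ofHom (MvPolynomial.eval (fun x : Fin N × Fin D => c x.1 x.2)))

theorem pt_q (c : Fin N → Fin D → k) : pt k c ≫ q k N D = 𝟙 _ := by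
  unfold pt q
  rw [← Spec.map_comp, ← Spec.map_id]
  congr 1
  ext x
  simp

end Family

end Groth.Agent.Lib.Helper23.Bdd
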