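import Mathlib
import Groth.Prelude
import Groth.Agent.Lib.Helper23.BddA

/-!
# Helper library (helper23): bounded families of cokernels, part B (the universal cokernel and its
fibres)
-/

set_option autoImplicit false
universe u
open CategoryTheory CategoryTheory.Limits AlgebraicGeometry TopologicalSpace Opposite
open Scheme.Modules

noncomputable section
namespace Groth.Agent.Lib.Helper23.Bdd

open Groth.Agent.Lib.Helper3 Groth.Agent.Lib.Helper3.QCSec Groth.Agent.Lib.Helper3.InvGen
  Groth.Agent.Lib.Helper3.PbBasic Groth.Agent.Lib.Helper3.PullLemmas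
  Groth.Agent.Lib.Helper3.InvAmple Groth.Agent.Lib.Helper3.SubIdeal

section Univ
variable (k : Type u) [Field k] (Y : Scheme.{u}) [Y.Over (Spec (CommRingCat.of k))]
  (N D : ℕ)

/-- the total space `Y × T`. -/
abbrev W : Scheme.{u} := Pic13.prodK k Y (q k N D)

/-- first projection. -/
abbrev pr : W k Y N D ⟶ Y := pullback.fst (Y ↘ Spec (CommRingCat.of k)) (q k N D)

/-- second projection. -/
abbrev pi : W k Y N D ⟶ T k N D := pullback.snd (Y ↘ Spec (CommRingCat.of k)) (q k N D)

/-- the coordinate functions on the total space. -/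
def coord (i : Fin N) (j : Fin D) : Γ(W k Y N D, ⊤) :=
  Coh.toGlobal (pi k Y N D) (MvPolynomial.X (i, j))

variable {Y N D}

/-- the universal sections. -/
def usec (B : Y.Modules) (e : Fin D → Γ(B, ⊤)) (i : Fin N) :
    Γ((Scheme.Modules.pullback (pr k Y N D)).obj B, ⊤) :=
  ∑ j, coord k Y N D i j • pullTop (pr k Y N D) B (e j)

/-- the universal morphism. -/
def uhom (B : Y.Modules) (e : Fin D → Γ(B, ⊤)) :
    FlatMod.freeMod (W k Y N D) N ⟶ (Scheme.Modules.pullback (pr k Y N D)).obj B :=
  Sigma.desc (fun i => globalHom _ (usec k B e i))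

variable (c : Fin N → Fin D → k)

/-- the slice at a point. -/
abbrev sl : Y ⟶ W k Y N D := Pic13.sliceAt k Y (q k N D) (pt k c) (pt_q k c)

theorem sl_pr : sl k c ≫ pr k Y N D = 𝟙 Y := by
  unfold sl Pic13.sliceAt
  exact pullback.lift_fst _ _ _

theorem sl_pi : sl k c ≫ pi k Y N D = (Y ↘ Spec (CommRingCat.of k)) ≫ pt k c := by
  unfold sl Pic13.sliceAt
  exact pullback.lift_snd _ _ _

theorem sl_coord (i : Fin N) (j : Fin D) :
    (sl k (Y := Y) c).appTop (coord k Y N D i j) = κ k Y (c i j) := by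
  have e1 : (pi k Y N D).appTop ≫ (sl k (Y := Y) c).appTop =
      (pt k c).appTop ≫ (Y ↘ Spec (CommRingCat.of k)).appTop := by
    rw [← Scheme.Hom.comp_appTop, ← Scheme.Hom.comp_appTop, sl_pi]
  have e2 := Scheme.ΓSpecIso_inv_naturality
    (CommRingCat.ofHom (MvPolynomial.eval (fun x : Fin N × Fin D => c x.1 x.2)))
  have h1 := ConcreteCategory.congr_hom e1
    ((Scheme.ΓSpecIso (CommRingCat.of (PR k N D))).inv.hom (MvPolynomial.X (i, j)))
  have h2 := ConcreteCategory.congr_hom e2 (MvPolynomial.X (i, j))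
  simp only [CommRingCat.hom_comp, RingHom.coe_comp, Function.comp_apply, CommRingCat.hom_ofHom,
    MvPolynomial.eval_X] at h1 h2
  unfold coord κ Coh.toGlobal
  simp only [RingHom.coe_comp, Function.comp_apply]
  refine h1.trans ?_
  exact congrArg _ h2.symm

theorem key (B : Y.Modules) (e : Fin D → Γ(B, ⊤)) (i : Fin N) :
    pullHom (sl k c) (globalHom _ (usec k B e i)) ≫
        (retrIso (sl k c) (pr k Y N D) (sl_pr k c) B).hom =
      globalHom B (comb k B e (c i)) := by
  apply unit_hom_ext
  rw [sec_comp, sec_globalHom, res_self]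
  rw [sec_pullHom_top, sec_globalHom, res_self]
  unfold usec comb
  rw [pullTop_sum, map_sum]
  refine Finset.sum_congr rfl (fun j _ => ?_)
  rw [pullTop_smul, Scheme.Modules.Hom.app_smul, sl_coord]
  congr 1
  exact retrIso_hom_pull (sl k c) (pr k Y N D) (sl_pr k c) B (e j)

end Univ

end Groth.Agent.Lib.Helper23.Bdd
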