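import Mathlib
import Groth.Prelude
import Groth.Agent.Lib.Helper23.BddB
import Groth.Agent.Lib.Helper2.Mon.PullTensor
import Groth.Agent.Lib.Helper1.ConsModLocus
import Groth.Agent.Lib.Helper23.HilbPA
import Groth.Agent.Lib.Helper7.TorsFree
import Groth.Agent.Lib.Helper17.LocFreeRank
import Groth.Agent.Lib.Helper17.DevBasic

/-!
# Helper library (helper23): bounded families of cokernels, part C (the boundedness lemma)
-/

set_option autoImplicit false
set_option linter.style.haveILetI false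
universe u
open CategoryTheory CategoryTheory.Limits AlgebraicGeometry TopologicalSpace Opposite
open Scheme.Modules

noncomputable section
namespace Groth.Agent.Lib.Helper23.Bdd

open Groth.Agent.Lib.Helper3 Groth.Agent.Lib.Helper3.QCSec Groth.Agent.Lib.Helper3.InvGen
  Groth.Agent.Lib.Helper3.PbBasic Groth.Agent.Lib.Helper3.PullLemmas
  Groth.Agent.Lib.Helper3.InvAmple Groth.Agent.Lib.Helper3.SubIdeal
  Groth.Agent.Lib.Helper3.InvMonoidal Groth.Agent.Lib.Helper3.PbTensor
  Groth.Agent.Lib.Helper17 Groth.Agent.Lib.Helper7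

section Main
variable (k : Type u) [Field k] {Y : Scheme.{u}} [Y.Over (Spec (CommRingCat.of k))]
  {N D : ℕ}

theorem fibre_iso (B : Y.Modules) (e : Fin D → Γ(B, ⊤)) (c : Fin N → Fin D → k) :
    Nonempty ((Scheme.Modules.pullback (sl k (Y := Y) c)).obj (cokernel (uhom k B e)) ≅
      cokernel (phi k B e c)) := by
  have comm : (Scheme.Modules.pullback (sl k (Y := Y) c)).map (uhom k B e) ≫
      (retrIso (sl k c) (pr k Y N D) (sl_pr k c) B).hom =
      (pbFree (sl k (Y := Y) c) N).hom ≫ phi k B e c := by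
    rw [← Iso.inv_comp_eq, ← Category.assoc]
    unfold uhom
    rw [pbFree_inv_map_desc]
    unfold phi
    apply Sigma.hom_ext
    intro i
    rw [← Category.assoc, Sigma.ι_desc, Sigma.ι_desc]
    exact key k c B e i
  exact ⟨PreservesCokernel.iso (Scheme.Modules.pullback (sl k (Y := Y) c)) (uhom k B e) ≪≫
    cokernel.mapIso _ _ (pbFree (sl k (Y := Y) c) N)
      (retrIso (sl k c) (pr k Y N D) (sl_pr k c) B) comm⟩

theorem locallyOfFiniteType_q : LocallyOfFiniteType (q k N D) := by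
  unfold q
  rw [HasRingHomProperty.Spec_iff (P := @LocallyOfFiniteType)]
  rw [CommRingCat.hom_ofHom, RingHom.finiteType_algebraMap]
  infer_instance

theorem isBounded_twisted_cokernels (B : Y.Modules) (hB : Coh.IsCoh B) (L₀ : Y.Modules)
    (hL₀ : PicF.IsInvertible L₀) (e : Fin D → Γ(B, ⊤)) :
    Pic13.IsBounded k Y (fun L => ∃ c : Fin N → Fin D → k,
      Nonempty (L ≅ CohB1.tensorMod (cokernel (phi k B e c)) L₀)) := by
  have hfree : Coh.IsCoh (FlatMod.freeMod (W k Y N D) N) :=
    TorsFree.isCoh_of_isFinLocFreeOfRank' (LocFreeRank.isFinLocFreeOfRank_freeMod _ N)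
  have hpB : Coh.IsCoh ((Scheme.Modules.pullback (pr k Y N D)).obj B) :=
    Groth.Agent.Lib.Helper1.ConsModLocus.isCoh_pullback _ B hB
  have hU : Coh.IsCoh (cokernel (uhom k B e)) := DevBasic.isCoh_cokernel _ hfree.1 hpB
  have hpL : PicF.IsInvertible ((Scheme.Modules.pullback (pr k Y N D)).obj L₀) :=
    isInvertible_pullback _ hL₀
  refine ⟨T k N D, q k N D, locallyOfFiniteType_q k, inferInstance,
    CohB1.tensorMod (cokernel (uhom k B e)) ((Scheme.Modules.pullback (pr k Y N D)).obj L₀),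
    Groth.Agent.Lib.Helper23.HilbP.isCoh_tensor_inv _ hpL hU, ?_⟩
  rintro L ⟨c, ⟨eL⟩⟩
  obtain ⟨e1⟩ := fibre_iso k B e c
  refine ⟨pt k c, pt_q k c, ⟨?_⟩⟩
  have hiso : IsIso (PbTensor.delta (sl k (Y := Y) c) (cokernel (uhom k B e))
      ((Scheme.Modules.pullback (pr k Y N D)).obj L₀)) :=
    Groth.Agent.Lib.Helper2.Mon.isIso_delta _ _ _
  exact (@asIso _ _ _ _ _ hiso) ≪≫
    tensorMapIso e1 (retrIso (sl k c) (pr k Y N D) (sl_pr k c) L₀) ≪≫ eL.symm

end Main

end Groth.Agent.Lib.Helper23.Bdd
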