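import Mathlib
import Groth.Prelude
import Groth.Agent.Lib.Helper23.BddC
import Groth.Agent.Lib.Helper3.FreeSec
import Groth.Agent.Lib.Helper3.GlobGen
import Groth.Agent.Lib.Helper3.QCProps

/-!
# Helper library (helper23): bounded families of cokernels, part D (globally generated subsheaves
are cut out by combinations of a basis of sections)
-/

set_option autoImplicit false
set_option linter.style.haveILetI false
universe u
open CategoryTheory CategoryTheory.Limits AlgebraicGeometry TopologicalSpace Opposite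
open Scheme.Modules

noncomputable section
namespace Groth.Agent.Lib.Helper23.Bdd

open Groth.Agent.Lib.Helper3 Groth.Agent.Lib.Helper3.QCSec Groth.Agent.Lib.Helper3.InvGen
  Groth.Agent.Lib.Helper3.PbBasic Groth.Agent.Lib.Helper3.PullLemmas
  Groth.Agent.Lib.Helper3.InvAmple Groth.Agent.Lib.Helper3.SubIdeal
  Groth.Agent.Lib.Helper3.FreeSec Groth.Agent.Lib.Helper3.GlobGen

section Span
variable (k : Type u) [Field k] {Y : Scheme.{u}} [Y.Over (Spec (CommRingCat.of k))]

/-- the `k`-vector space structure on global sections. -/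
@[reducible] def kModule (M : Y.Modules) : Module k Γ(M, ⊤) := Module.compHom _ (κ k Y)

theorem kModule_smul (M : Y.Modules) (a : k) (x : Γ(M, ⊤)) :
    letI := kModule k M
    a • x = κ k Y a • x := rfl

/-- the dimension of the space of global sections. -/
def dimΓ (B : Y.Modules) : ℕ := @Module.finrank k Γ(B, ⊤) _ _ (kModule k B)

/-- a basis of the space of global sections. -/
def basisΓ (B : Y.Modules) (hfin : @Module.Finite k Γ(B, ⊤) _ _ (kModule k B)) :
    Fin (dimΓ k B) → Γ(B, ⊤) :=
  letI := kModule k B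
  fun j => Module.finBasis k Γ(B, ⊤) j

theorem comb_repr (B : Y.Modules) (hfin : @Module.Finite k Γ(B, ⊤) _ _ (kModule k B))
    (v : Γ(B, ⊤)) :
    letI := kModule k B
    comb k B (basisΓ k B hfin) (fun j => (Module.finBasis k Γ(B, ⊤)).repr v j) = v := by
  letI := kModule k B
  unfold comb basisΓ
  exact (Module.finBasis k Γ(B, ⊤)).sum_repr v

theorem exists_coeff_cokernel_iso (B K : Y.Modules) (ι : K ⟶ B) [Mono ι]
    (hK : Curv2.IsGloballyGenerated K)
    (hfin : @Module.Finite k Γ(B, ⊤) _ _ (kModule k B)) :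
    ∃ c : Fin (dimΓ k B) → Fin (dimΓ k B) → k,
      Nonempty (cokernel (phi k B (basisΓ k B hfin) c) ≅ cokernel ι) := by
  letI := kModule k B
  letI := kModule k K
  haveI := hfin
  -- the linear map on global sections
  let ιL : Γ(K, ⊤) →ₗ[k] Γ(B, ⊤) :=
    { toFun := fun x => ι.app ⊤ x
      map_add' := fun x y => map_add _ x y
      map_smul' := fun a x => Scheme.Modules.Hom.app_smul ι (κ k Y a) x }
  have hinj : Function.Injective ιL := (QCProps.mono_iff_app_injective ι).1 inferInstance ⊤
  let Wsub : Submodule k Γ(B, ⊤) := LinearMap.range ιL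
  have hd : Module.finrank k Wsub ≤ dimΓ k B := Submodule.finrank_le Wsub
  let b := Module.finBasis k Wsub
  let w : Fin (dimΓ k B) → Wsub := fun i =>
    if h : i.val < Module.finrank k Wsub then b ⟨i.val, h⟩ else 0
  have hw : ∀ j : Fin (Module.finrank k Wsub), w ⟨j.val, lt_of_lt_of_le j.2 hd⟩ = b j := by
    intro j
    simp only [w]
    rw [dif_pos j.2]
  have hspan : ∀ v : Wsub, ∃ a : Fin (dimΓ k B) → k, ∑ i, a i • (w i : Γ(B, ⊤)) = v := by
    intro v
    have hv : v ∈ Submodule.span k (Set.range w) := by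
      have h1 : Submodule.span k (Set.range b) ≤ Submodule.span k (Set.range w) := by
        apply Submodule.span_mono
        rintro _ ⟨j, rfl⟩
        exact ⟨⟨j.val, lt_of_lt_of_le j.2 hd⟩, hw j⟩
      exact h1 (by rw [b.span_eq]; exact Submodule.mem_top)
    obtain ⟨a, ha⟩ := (Submodule.mem_span_range_iff_exists_fun k).1 hv
    refine ⟨a, ?_⟩
    have := congrArg (Subtype.val) ha
    simpa using this
  choose wt hwt using fun i => (w i).2
  -- the coefficients
  refine ⟨fun i j => (Module.finBasis k Γ(B, ⊤)).repr (w i : Γ(B, ⊤)) j, ?_⟩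
  let ψ : FlatMod.freeMod Y (dimΓ k B) ⟶ K := Sigma.desc (fun i => globalHom K (wt i))
  have hfac : phi k B (basisΓ k B hfin)
      (fun i j => (Module.finBasis k Γ(B, ⊤)).repr (w i : Γ(B, ⊤)) j) = ψ ≫ ι := by
    unfold phi
    apply Sigma.hom_ext
    intro i
    rw [Sigma.ι_desc, ← Category.assoc, Sigma.ι_desc, comb_repr k B hfin, globalHom_comp]
    congr 1
    exact (hwt i).symm
  have hπ : ∀ i, (cokernel.π ψ).app ⊤ (wt i) = 0 := by
    intro i
    have h1 : globalHom K (wt i) ≫ cokernel.π ψ = 0 := by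
      have : globalHom K (wt i) = Sigma.ι (fun _ : Fin (dimΓ k B) => Coh.structureModule Y) i ≫ ψ :=
        (Sigma.ι_desc (fun i => globalHom K (wt i)) i).symm
      rw [this, Category.assoc, cokernel.condition, comp_zero]
    have h2 := congrArg (fun g => sec g ⊤) h1
    simp only [sec_comp, sec_globalHom, res_self] at h2
    exact h2
  haveI hψ : Epi ψ := by
    obtain ⟨J, p₀, hp⟩ := hK
    let p : QCExtend.freeMod Y J ⟶ K := p₀
    haveI : Epi p := hp
    apply Abelian.epi_of_cokernel_π_eq_zero
    have hz : p ≫ cokernel.π ψ = 0 := by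
      apply free_hom_ext
      intro j
      change (cokernel.π ψ).app ⊤ (p.app ⊤ (fs J j ⊤)) = 0
      obtain ⟨a, ha⟩ := hspan ⟨ιL (p.app ⊤ (fs J j ⊤)), ⟨_, rfl⟩⟩
      have hs : p.app ⊤ (fs J j ⊤) = ∑ i, a i • wt i := by
        have ha' : ∑ i, a i • (w i : Γ(B, ⊤)) = ιL (p.app ⊤ (fs J j ⊤)) := ha
        apply hinj
        rw [map_sum, ← ha']
        refine Finset.sum_congr rfl (fun i _ => ?_)
        rw [LinearMap.map_smul, hwt i]
      rw [hs, map_sum]
      refine Finset.sum_eq_zero (fun i _ => ?_)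
      change (cokernel.π ψ).app ⊤ (κ k Y (a i) • wt i) = 0
      rw [Scheme.Modules.Hom.app_smul, hπ i, smul_zero]
    exact (cancel_epi p).1 (hz.trans comp_zero.symm)
  exact ⟨cokernelIsoOfEq hfac ≪≫ cokernelEpiComp ψ ι⟩

end Span

end Groth.Agent.Lib.Helper23.Bdd
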