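import Mathlib
import Groth.Prelude
import Groth.Agent.Lib.Helper23.BddD
import Groth.Agent.Lib.Helper23.T2N

/-!
# Helper library (helper23): bounded families of cokernels, part E (quotients by globally
generated subsheaves of a fixed sheaf form a bounded family)
-/

set_option autoImplicit false
set_option linter.style.haveILetI false
universe u
open CategoryTheory CategoryTheory.Limits AlgebraicGeometry TopologicalSpace Opposite
open Scheme.Modules

noncomputable section
namespace Groth.Agent.Lib.Helper23.Bdd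

open Groth.Agent.Lib.Helper3 Groth.Agent.Lib.Helper3.QCSec Groth.Agent.Lib.Helper3.InvGen
  Groth.Agent.Lib.Helper3.PbBasic Groth.Agent.Lib.Helper3.PullLemmas
  Groth.Agent.Lib.Helper3.InvAmple Groth.Agent.Lib.Helper3.SubIdeal
  Groth.Agent.Lib.Helper3.FreeSec Groth.Agent.Lib.Helper3.GlobGen
  Groth.Agent.Lib.Helper3.InvMonoidal

section Gen
variable (k : Type u) [Field k] {Y : Scheme.{u}} [Y.Over (Spec (CommRingCat.of k))]

theorem isBounded_mono {P P' : Y.Modules → Prop} (h : ∀ L, P L → P' L)
    (hb : Pic13.IsBounded k Y P') : Pic13.IsBounded k Y P := by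
  obtain ⟨T, q, h1, h2, F, hF, hall⟩ := hb
  exact ⟨T, q, h1, h2, F, hF, fun L hL => hall L (h L hL)⟩

/-- quotients of a fixed coherent sheaf by globally generated subsheaves, twisted by a fixed
invertible sheaf, form a bounded family. -/
theorem isBounded_quot_gg (B : Y.Modules) (hB : Coh.IsCoh B)
    (hfin : @Module.Finite k Γ(B, ⊤) _ _ (kModule k B))
    (L₀ : Y.Modules) (hL₀ : PicF.IsInvertible L₀) :
    Pic13.IsBounded k Y (fun L => ∃ (K : Y.Modules) (ι : K ⟶ B), Mono ι ∧
      Curv2.IsGloballyGenerated K ∧ Nonempty (L ≅ CohB1.tensorMod (cokernel ι) L₀)) := by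
  refine isBounded_mono k ?_
    (isBounded_twisted_cokernels k (N := dimΓ k B) B hB L₀ hL₀ (basisΓ k B hfin))
  rintro L ⟨K, ι, hι, hK, ⟨eL⟩⟩
  haveI := hι
  obtain ⟨c, ⟨ec⟩⟩ := exists_coeff_cokernel_iso k B K ι hK hfin
  exact ⟨c, ⟨eL ≪≫ tensorMapIso ec.symm (Iso.refl L₀)⟩⟩

/-- global sections of a coherent module on a proper scheme are finite dimensional. -/
theorem finite_Γ [IsProper (Y ↘ Spec (CommRingCat.of k))] (M : Y.Modules) (hM : Coh.IsCoh M) :
    @Module.Finite k Γ(M, ⊤) _ _ (kModule k M) := by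
  letI := kModule k M
  haveI := Groth.Agent.Lib.Helper23.T2.finite_HH k M hM 0
  let e : Coh.HH Y M 0 ≃ₗ[k] Γ(M, ⊤) :=
    { toFun := fun x => Groth.Agent.Lib.Helper23.T2.H0equiv M x
      invFun := fun y => (Groth.Agent.Lib.Helper23.T2.H0equiv M).symm y
      left_inv := fun x => (Groth.Agent.Lib.Helper23.T2.H0equiv M).symm_apply_apply x
      right_inv := fun y => (Groth.Agent.Lib.Helper23.T2.H0equiv M).apply_symm_apply y
      map_add' := fun x y => map_add _ x y
      map_smul' := fun a x => (Groth.Agent.Lib.Helper23.T2.H0equiv M).map_smul (κ k Y a) x }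
  exact Module.Finite.equiv e

/-- a globally generated module with finite dimensional space of sections is a quotient of a
finite free module. -/
theorem exists_epi_freeMod (K : Y.Modules) (hK : Curv2.IsGloballyGenerated K)
    (hfin : @Module.Finite k Γ(K, ⊤) _ _ (kModule k K)) :
    ∃ ψ : FlatMod.freeMod Y (dimΓ k K) ⟶ K, Epi ψ := by
  letI := kModule k K
  haveI := hfin
  let ψ : FlatMod.freeMod Y (dimΓ k K) ⟶ K :=
    Sigma.desc (fun i => globalHom K (basisΓ k K hfin i))
  have hπ : ∀ i, (cokernel.π ψ).app ⊤ (basisΓ k K hfin i) = 0 := by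
    intro i
    have h1 : globalHom K (basisΓ k K hfin i) ≫ cokernel.π ψ = 0 := by
      have : globalHom K (basisΓ k K hfin i) =
          Sigma.ι (fun _ : Fin (dimΓ k K) => Coh.structureModule Y) i ≫ ψ :=
        (Sigma.ι_desc (fun i => globalHom K (basisΓ k K hfin i)) i).symm
      rw [this, Category.assoc, cokernel.condition, comp_zero]
    have h2 := congrArg (fun g => sec g ⊤) h1
    simp only [sec_comp, sec_globalHom, res_self] at h2
    exact h2
  refine ⟨ψ, ?_⟩
  obtain ⟨J, p₀, hp⟩ := hK
  let p : QCExtend.freeMod Y J ⟶ K := p₀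
  haveI : Epi p := hp
  apply Abelian.epi_of_cokernel_π_eq_zero
  have hz : p ≫ cokernel.π ψ = 0 := by
    apply free_hom_ext
    intro j
    change (cokernel.π ψ).app ⊤ (p.app ⊤ (fs J j ⊤)) = 0
    rw [← comb_repr k K hfin (p.app ⊤ (fs J j ⊤))]
    unfold comb
    rw [map_sum]
    refine Finset.sum_eq_zero (fun i _ => ?_)
    rw [Scheme.Modules.Hom.app_smul, hπ i, smul_zero]
  exact (cancel_epi p).1 (hz.trans comp_zero.symm)

end Gen

end Groth.Agent.Lib.Helper23.Bdd
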