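import Mathlib
import Groth.Prelude
import Groth.Agent.Lib.Helper23.T2N
import Groth.Agent.Lib.Helper23.CurveD
import Groth.Agent.Lib.Helper23.TwE
import Groth.Agent.Lib.Helper7.MulSurj
import Groth.Agent.Lib.Helper7.TensorRExact
import Groth.Agent.Lib.Helper11.VeryStableA
import Groth.Agent.Lib.Helper13.PCohFT
import Groth.Agent.Lib.Helper17.NoriSSA
import Groth.Agent.Lib.Helper17.PullBasis
import Groth.Agent.Lib.Helper17.LocFreeRank
import Groth.Agent.Lib.Helper17.LocFreeOps
import Groth.Agent.Lib.Helper26.FinPush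

/-!
# Helper library (helper23): the kernel bundle of a globally generated invertible module, part A

* `finite_index` : if `ev : free J ⟶ L` induces an injection on `H⁰`, `L` is coherent on a nonempty
  proper `k`-scheme, then `J` is finite.
-/

set_option autoImplicit false
set_option linter.unusedSectionVars false
set_option linter.style.haveILetI false
universe u
open CategoryTheory CategoryTheory.Limits AlgebraicGeometry Opposite

namespace Groth.Agent.Lib.Helper23.KerBun

open Groth.Agent.Lib.Helper23.T2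

noncomputable section

variable {X : Scheme.{u}}

/-- the coprojection of `free J`. -/
def fι (J : Type u) (j : J) : Coh.structureModule X ⟶ (SheafOfModules.free J : X.Modules) :=
  SheafOfModules.ιFree j

open Classical in
/-- the projection of `free J`. -/
def fπ (J : Type u) (j : J) : (SheafOfModules.free J : X.Modules) ⟶ Coh.structureModule X :=
  (SheafOfModules.isColimitFreeCofan (R := X.ringCatSheaf) J).desc
    (Cofan.mk _ (fun i => if i = j then 𝟙 (Coh.structureModule X) else 0))

open Classical in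
lemma fι_fπ (J : Type u) (i j : J) :
    (fι J i : Coh.structureModule X ⟶ _) ≫ fπ J j = if i = j then 𝟙 _ else 0 := by
  unfold fι fπ
  rw [← SheafOfModules.freeCofan_inj]
  exact (SheafOfModules.isColimitFreeCofan (R := X.ringCatSheaf) J).fac _ ⟨i⟩

variable (k : Type u) [Field k] [X.Over (Spec (CommRingCat.of k))]

lemma smul_eq (M : X.Modules) (n : ℕ) (c : k) (x : Coh.HH X M n) :
    c • x = Coh.toGlobal (X ↘ Spec (CommRingCat.of k)) c • x := rfl

/-- `Hmap` as a `k`-linear map. -/
def HmapK' {M N : X.Modules} (φ : M ⟶ N) (n : ℕ) : Coh.HH X M n →ₗ[k] Coh.HH X N n where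
  toFun := Hmap φ n
  map_add' := map_add _
  map_smul' c x := by
    rw [smul_eq, map_smul]
    rfl

theorem finite_index [IsProper (X ↘ Spec (CommRingCat.of k))] [Nonempty X]
    (L : X.Modules) (hL : Coh.IsCoh L) (J : Type u)
    (ev : (SheafOfModules.free J : X.Modules) ⟶ L)
    (hev : Function.Injective (Sheaf.H.map ((SheafOfModules.toSheaf X.ringCatSheaf).map ev) 0)) :
    Finite J := by
  classical
  haveI : Module.Finite k (Coh.HH X L 0) := finite_HH k L hL 0
  haveI : Module.Finite k (Coh.HH X (SheafOfModules.free J : X.Modules) 0) :=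
    Module.Finite.of_injective (HmapK' k ev 0) hev
  -- a nonzero class in `H⁰(O_X)`
  have h1 : ((1 : Coh.Γtop X)) ≠ 0 := by
    haveI : Nontrivial (Coh.Γtop X) := by
      haveI : Nonempty ((⊤ : X.Opens) : Type u) := ⟨⟨Classical.arbitrary X, trivial⟩⟩
      have : Nontrivial Γ(X, ⊤) := inferInstance
      exact this
    exact one_ne_zero
  let v₀ : Coh.HH X (Coh.structureModule X) 0 := (H0equiv (Coh.structureModule X)).symm (1 : Coh.Γtop X)
  have hv₀ : v₀ ≠ 0 := by
    intro h
    apply h1
    have := congrArg (H0equiv (Coh.structureModule X)) h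
    rwa [LinearEquiv.apply_symm_apply, map_zero] at this
  let w : J → Coh.HH X (SheafOfModules.free J : X.Modules) 0 := fun j => Hmap (fι J j) 0 v₀
  have hw : LinearIndependent k w := by
    rw [linearIndependent_iff']
    intro s g hg i hi
    have h2 := congrArg (HmapK' k (fπ J i) 0) hg
    rw [map_sum, map_zero] at h2
    have h3 : ∀ j ∈ s, HmapK' k (fπ J i) 0 (g j • w j) = if j = i then g i • v₀ else 0 := by
      intro j _
      rw [map_smul]
      change g j • Hmap (fπ J i) 0 (Hmap (fι J j) 0 v₀) = _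
      rw [← Hmap_comp, fι_fπ]
      split_ifs with hji
      · rw [Hmap_id, hji]
      · rw [Hmap_zero, smul_zero]
    rw [Finset.sum_congr rfl h3, Finset.sum_ite_eq' s i, if_pos hi] at h2
    exact (smul_eq_zero.mp h2).resolve_right hv₀
  exact hw.finite

end

/-! ### local bases -/

section LocBases

open Groth.Agent.Lib.Helper3 Groth.Agent.Lib.Helper3.QCSec Groth.Agent.Lib.Helper3.InvGen
  Groth.Agent.Lib.Helper3.InvTensor Groth.Agent.Lib.Helper3.InvMonoidal
  Groth.Agent.Lib.Helper3.FreeBasis Groth.Agent.Lib.Helper7.TwFun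
open Groth.Agent.Lib.Helper11.VeryStableA

variable {X : Scheme.{u}}

theorem hasLocBases_of_isFinLocFree {E : X.Modules} (hE : FlatMod.IsFinLocFree E) :
    HasLocBases E := hasLocBases_of_locFree hE

theorem hasLocBases_tensorMod {E F : X.Modules} (hE : HasLocBases E) (hF : HasLocBases F) :
    HasLocBases (CohB1.tensorMod E F) := by
  intro x
  obtain ⟨U₁, n, e, hx₁, he⟩ := hE x
  obtain ⟨U₂, m, f, hx₂, hf⟩ := hF x
  exact ⟨U₁ ⊓ U₂, n * m, _, ⟨hx₁, hx₂⟩,
    Groth.Agent.Lib.Helper17.NoriSSA.isBasis_tm (he.mono inf_le_left) (hf.mono inf_le_right)⟩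

theorem hasLocBases_tensorPow {E : X.Modules} (hE : HasLocBases E) :
    ∀ n : ℕ, HasLocBases (CohB1.tensorPow E n)
  | 0 => hasLocBases_of_isFinLocFree
      (Groth.Agent.Lib.Helper26.FinPush.isFinLocFree_structureModule X)
  | n + 1 => hasLocBases_tensorMod (hasLocBases_tensorPow hE n) hE

end LocBases

/-! ### the main statement -/

section Main

open Groth.Agent.Lib.Helper3 Groth.Agent.Lib.Helper3.QCSec Groth.Agent.Lib.Helper3.InvGen
  Groth.Agent.Lib.Helper3.InvTensor Groth.Agent.Lib.Helper3.InvMonoidal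
  Groth.Agent.Lib.Helper3.FreeBasis Groth.Agent.Lib.Helper7.TwFun
open Groth.Agent.Lib.Helper11.VeryStableA Groth.Agent.Lib.Helper17
open Scheme.Modules

theorem mul_surjective (k : Type u) [Field k] {X : Scheme.{u}} [X.Over (Spec (CommRingCat.of k))]
    [IsProper (X ↘ Spec (CommRingCat.of k))] (L : X.Modules) (hL : PicF.IsInvertible L) (J : Type u)
    (ev : (SheafOfModules.free J : X.Modules) ⟶ L) [Epi ev]
    (hev : Function.Bijective (Sheaf.H.map ((SheafOfModules.toSheaf X.ringCatSheaf).map ev) 0))
    (i h : ℕ)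
    (hvan : Subsingleton (Coh.HH X (CohB1.tensorMod (CohB1.tensorPow (kernel ev) (i + 1))
      (CohB1.tensorPow L h)) 1)) :
    Function.Surjective ((toSheafify (Opens.grothendieckTopology ↥X)
      (CohB1.tensorPre L (CohB1.tensorMod (CohB1.tensorPow (kernel ev) i)
        (CohB1.tensorPow L h))).presheaf).app (Opposite.op ⊤)) := by
  let F : X.Modules := CohB1.tensorMod (CohB1.tensorPow (kernel ev) i) (CohB1.tensorPow L h)
  apply Groth.Agent.Lib.Helper7.MulSurj.surj_of_pureSpan
  intro z
  change z ∈ Groth.Agent.Lib.Helper7.MulSurj.pureSpan L F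
  by_cases hX : Nonempty X
  · haveI := hX
    haveI : Finite J :=
      finite_index k L (Groth.Agent.Lib.Helper23.Curve.isCoh_of_isInvertible hL) J ev hev.1
    obtain ⟨n, ⟨eJ⟩⟩ := Finite.exists_equiv_fin J
    let φ : (SheafOfModules.free J : X.Modules) ≅ FlatMod.freeMod X n :=
      show (∐ fun _ : J => Coh.structureModule X) ≅ ∐ fun _ : Fin n => Coh.structureModule X from
        Sigma.whiskerEquiv (f := fun _ : J => Coh.structureModule X)
          (g := fun _ : Fin n => Coh.structureModule X) eJ (fun _ => Iso.refl _)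
    let φh : (SheafOfModules.free J : X.Modules) ⟶ FlatMod.freeMod X n := φ.hom
    let φi : FlatMod.freeMod X n ⟶ (SheafOfModules.free J : X.Modules) := φ.inv
    have hφ : φh ≫ φi = 𝟙 _ := φ.hom_inv_id
    have hJ : FlatMod.IsFinLocFree (SheafOfModules.free J : X.Modules) :=
      LocFreeOps.isFinLocFree_of_iso φ.symm
        (LocFreeRank.isFinLocFree_of_rank (LocFreeRank.isFinLocFreeOfRank_freeMod X n))
    have hLf := PullBasis.isFinLocFree_of_isInvertible hL
    let S : ShortComplex X.Modules := ShortComplex.mk (kernel.ι ev) ev (kernel.condition ev)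
    haveI : Mono S.f := inferInstanceAs (Mono (kernel.ι ev))
    haveI : Epi S.g := inferInstanceAs (Epi ev)
    have hS : S.ShortExact :=
      ShortComplex.ShortExact.mk (ShortComplex.exact_of_f_is_kernel S (kernelIsKernel ev))
    have hK : FlatMod.IsFinLocFree (kernel ev) :=
      Groth.Agent.Lib.Helper13.PCohFT.isFinLocFree_of_shortExact S hS hJ hLf
    have hF : HasLocBases F :=
      hasLocBases_tensorMod (hasLocBases_tensorPow (hasLocBases_of_isFinLocFree hK) i)
        (hasLocBases_tensorPow (hasLocBases_of_isFinLocFree hLf) h)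
    haveI : (kernel ev).IsQuasicoherent := LocFreeCrit.isQuasicoherent_of_isFinLocFree hK
    have hST : (S.map (twR F)).ShortExact := by
      haveI : S.X₁.IsQuasicoherent := inferInstanceAs (kernel ev).IsQuasicoherent
      obtain ⟨hex, hepi⟩ := Groth.Agent.Lib.Helper7.TensorRExact.exact_epi_twR F S hS
      haveI := hepi
      haveI : Mono (S.map (twR F)).f := mono_tw_of_hasLocBases hF S.f
      exact ShortComplex.ShortExact.mk hex
    have h1 : Subsingleton (Coh.HH X ((twR F).obj (kernel ev)) 1) := by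
      let e : CohB1.tensorMod (kernel ev) F ≅
          CohB1.tensorMod (CohB1.tensorPow (kernel ev) (i + 1)) (CohB1.tensorPow L h) :=
        (assoc (kernel ev) (CohB1.tensorPow (kernel ev) i) (CohB1.tensorPow L h)).symm ≪≫
          tensorMapIso (braid (kernel ev) (CohB1.tensorPow (kernel ev) i)) (Iso.refl _)
      exact subsingleton_HH_of_iso e 1 hvan
    obtain ⟨y, hy⟩ := Groth.Agent.Lib.Helper7.MulSurj.surj_top S.f S.g S.zero (twR F) hST h1 z
    -- decompose `y`
    let w : Γ(CohB1.tensorMod (FlatMod.freeMod X n) F, (⊤ : X.Opens)) :=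
      (tensorMap φh (𝟙 F)).app ⊤ y
    obtain ⟨t, ht⟩ := Groth.Agent.Lib.Helper23.TwE.tm_basis_self_surj F (isBasis_bsec n ⊤)
      ((braid (FlatMod.freeMod X n) F).hom.app ⊤ w)
    have hw : w = ∑ j, tm (FlatMod.freeMod X n) F ⊤ (bsec n j ⊤) (t j) := by
      have e1 : (braid (FlatMod.freeMod X n) F).hom.app ⊤
          (∑ j, tm (FlatMod.freeMod X n) F ⊤ (bsec n j ⊤) (t j)) =
          (braid (FlatMod.freeMod X n) F).hom.app ⊤ w := by
        rw [app_sum, ← ht]
        exact Finset.sum_congr rfl (fun j _ => braid_hom_tm _ _ ⊤ _ _)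
      have e2 := congrArg ((braid (FlatMod.freeMod X n) F).inv.app ⊤) e1
      rw [iso_inv_hom_app, iso_inv_hom_app] at e2
      exact e2.symm
    have hy2 : y = ∑ j, tm _ F ⊤ (φi.app ⊤ (bsec n j ⊤)) (t j) := by
      have e3 : (tensorMap φi (𝟙 F)).app ⊤ w = y := by
        change (tensorMap φi (𝟙 F)).app ⊤ ((tensorMap φh (𝟙 F)).app ⊤ y) = y
        have e4 : tensorMap φh (𝟙 F) ≫ tensorMap φi (𝟙 F) = 𝟙 _ := by
          have e6 := congrArg (fun f => (twR F).map f) hφ
          exact ((twR F).map_comp φh φi).symm.trans (e6.trans ((twR F).map_id _))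
        have e5 := Groth.Agent.Lib.Helper7.MulSurj.app_congr e4 ⊤ y
        exact e5
      rw [← e3, hw, app_sum]
      exact Finset.sum_congr rfl (fun j _ => tensorMap_tm _ _ ⊤ _ _)
    rw [← hy, hy2]
    change (tensorMap ev (𝟙 F)).app ⊤ _ ∈ _
    rw [app_sum]
    refine AddSubgroup.sum_mem _ (fun j _ => ?_)
    rw [tensorMap_tm]
    exact AddSubgroup.subset_closure ⟨_, _, rfl⟩
  · have hz : z = 0 :=
      ModBasis.eq_zero_of_locally_zero _ ⊤ z (fun x => (hX ⟨x⟩).elim)
    rw [hz]
    exact zero_mem _

end Main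

end Groth.Agent.Lib.Helper23.KerBun
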