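import Mathlib
import Groth.Prelude
import Groth.Agent.Lib.Helper23.KerBunA
import Groth.Agent.Lib.Helper23.AmpleCurve7
import Groth.Agent.Lib.Helper23.BddE
import Groth.Agent.Lib.Helper23.CurveGen
import Groth.Agent.Lib.Helper7.AmpleH1
import Groth.Agent.Lib.Helper7.RegPush2
import Groth.Agent.Lib.Helper17.NoriSSB
import Groth.Agent.Lib.Helper17.TensorSec

/-!
# Helper library (helper23): generation of the section ring on proper schemes of dimension one

For a globally generated invertible module `A` on a proper scheme `X` of dimension `≤ 1` over a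
field, with `H¹(X, A^{⊗ m}) = 0`, the multiplication maps
`H⁰(A^{⊗ n}) ⊗ H⁰(A) → H⁰(A^{⊗ (n+1)})` are surjective for `n ≥ m + 1` (S16308).
-/

set_option autoImplicit false
set_option linter.unusedSectionVars false
set_option linter.style.haveILetI false
universe u
open CategoryTheory CategoryTheory.Limits AlgebraicGeometry Opposite TopologicalSpace

namespace Groth.Agent.Lib.Helper23.CurveMul

open Groth.Agent.Lib.Helper3 Groth.Agent.Lib.Helper3.QCSec Groth.Agent.Lib.Helper3.InvGen
  Groth.Agent.Lib.Helper3.InvTensor Groth.Agent.Lib.Helper3.InvMonoidal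
  Groth.Agent.Lib.Helper3.FreeBasis Groth.Agent.Lib.Helper7.TwFun
open Groth.Agent.Lib.Helper7.MulSurj
open Groth.Agent.Lib.Helper23.T2
open Scheme.Modules

noncomputable section

variable {X : Scheme.{u}}

/-! ### tensoring on the left -/

/-- tensoring on the left with `E`, as a functor. -/
def twL (E : X.Modules) : X.Modules ⥤ X.Modules where
  obj G := CohB1.tensorMod E G
  map φ := tensorMap (𝟙 E) φ
  map_id G := tensorMap_id E G
  map_comp φ ψ := by
    have h := tensorMap_comp (𝟙 E) (𝟙 E) φ ψ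
    rwa [Category.comp_id] at h

lemma tensorMap_add_right (E : X.Modules) {G G' : X.Modules} (φ ψ : G ⟶ G') :
    tensorMap (𝟙 E) (φ + ψ) = tensorMap (𝟙 E) φ + tensorMap (𝟙 E) ψ := by
  apply tensor_hom_ext
  intro U m n
  change _ = (tensorMap (𝟙 E) φ).app U (tm E G U m n) + (tensorMap (𝟙 E) ψ).app U (tm E G U m n)
  rw [tensorMap_tm, tensorMap_tm, tensorMap_tm]
  change tm E G' U _ (φ.app U n + ψ.app U n) = _
  rw [tm_add_right]

instance (E : X.Modules) : (twL E).Additive where
  map_add {G G' φ ψ} := tensorMap_add_right E φ ψ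

/-! ### the `Hz` calculus -/

lemma Hz_zero {M N : X.Modules} (j : ℕ) : Hz (0 : M ⟶ N) j := fun x => Hmap_zero j x

lemma Hz_sum {M N : X.Modules} {ι : Type*} (s : Finset ι) (φ : ι → (M ⟶ N)) (j : ℕ)
    (h : ∀ i ∈ s, Hz (φ i) j) : Hz (∑ i ∈ s, φ i) j := by
  classical
  induction s using Finset.induction_on with
  | empty => rw [Finset.sum_empty]; exact Hz_zero j
  | insert a s ha ih =>
    rw [Finset.sum_insert ha]
    exact Hz_add _ _ j (h a (Finset.mem_insert_self a s))
      (ih fun i hi => h i (Finset.mem_insert_of_mem hi))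

lemma subsingleton_of_Hz_id {M : X.Modules} (j : ℕ) (h : Hz (𝟙 M) j) :
    Subsingleton (Coh.HH X M j) := by
  refine subsingleton_of_forall_eq 0 fun x => ?_
  have := h x
  rwa [show Hm (𝟙 M) j x = x from Hmap_id M j x] at this

/-- `H^j(O^r ⊗ W) = 0` if `H^j(W) = 0`. -/
theorem subsingleton_free_tensor (r : ℕ) (W : X.Modules) (j : ℕ)
    (hW : Subsingleton (Coh.HH X W j)) :
    Subsingleton (Coh.HH X (CohB1.tensorMod (FlatMod.freeMod X r) W) j) := by
  have h1 : 𝟙 ((twR W).obj (FlatMod.freeMod X r)) =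
      ∑ l : Fin r, (twR W).map (proj X r l) ≫ (twR W).map (inj X r l) := by
    rw [← (twR W).map_id, ← sum_proj_inj r, Functor.map_sum]
    exact Finset.sum_congr rfl (fun l _ => (twR W).map_comp _ _)
  have h2 : Hz (𝟙 ((twR W).obj (FlatMod.freeMod X r))) j := by
    rw [h1]
    apply Hz_sum
    intro l _
    apply Hz_comp_left
    apply Hz_of_sub_target
    exact subsingleton_HH_of_iso (unitorL W) j hW
  exact subsingleton_of_Hz_id j h2


/-! ### multiplication by a section -/

open Groth.Agent.Lib.Helper23.AmpleCurve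

theorem unitorL_inv_app' (M' : X.Modules) (U : X.Opens) (n : Γ(M', U)) :
    (unitorL M').inv.app U n = tm (Coh.structureModule X) M' U (ofFun U 1) n := by
  have h := unitorL_hom_tm M' U n 1
  rw [one_smul] at h
  have h2 := iso_inv_hom_app (unitorL M') U (tm (Coh.structureModule X) M' U (ofFun U 1) n)
  rw [h] at h2
  exact h2

theorem mulBy_natural {M M' P : X.Modules} (ψ : M ⟶ M') (s : Coh.structureModule X ⟶ P) :
    ψ ≫ mulBy M' s = mulBy M s ≫ tensorMap ψ (𝟙 P) := by
  apply Scheme.Modules.hom_ext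
  intro U
  ext z
  show (mulBy M' s).app U (ψ.app U z) = (tensorMap ψ (𝟙 P)).app U ((mulBy M s).app U z)
  rw [mulBy_app, mulBy_app, tensorMap_tm]
  rfl

/-- the symmetry of the outer factors of `(A ⊗ W) ⊗ A` for invertible `A`. -/
theorem tm_swap13 {A : X.Modules} (hA : PicF.IsInvertible A) (W : X.Modules) (V : X.Opens)
    (a b : Γ(A, V)) (w : Γ(W, V)) :
    tm (CohB1.tensorMod A W) A V (tm A W V a w) b =
      tm (CohB1.tensorMod A W) A V (tm A W V b w) a := by
  rw [← sub_eq_zero]
  apply ModBasis.eq_zero_of_locally_zero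
  intro x hxV
  obtain ⟨U, e, hxU, hg⟩ := exists_isGen hA x
  refine ⟨V ⊓ U, inf_le_left, ⟨hxV, hxU⟩, ?_⟩
  have hgW := (hg.mono (inf_le_right : V ⊓ U ≤ U)).self
  obtain ⟨α, hα⟩ := hgW.exists_coord (res A inf_le_left a)
  obtain ⟨β, hβ⟩ := hgW.exists_coord (res A inf_le_left b)
  rw [res_sub, tm_res, tm_res, tm_res, tm_res, ← hα, ← hβ]
  simp only [tm_smul_right, tm_smul_left]
  rw [smul_comm]
  exact sub_self _

/-- multiplication by `s` after twisting by `W`, as a natural transformation. -/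
def sigmaNat (W : X.Modules) {A : X.Modules} (s : Coh.structureModule X ⟶ A) :
    twR W ⟶ twR W ⋙ twR A where
  app G := mulBy (CohB1.tensorMod G W) s
  naturality G G' φ := mulBy_natural ((twR W).map φ) s

/-- the Koszul homotopy. -/
def theta (W : X.Modules) (A : X.Modules) (r : ℕ) (l : Fin r) :
    (twR W).obj A ⟶ (twR W ⋙ twR A).obj (FlatMod.freeMod X r) :=
  (braid A W).hom ≫ tensorMap ((unitorL W).inv ≫ tensorMap (inj X r l) (𝟙 W)) (𝟙 A)

theorem theta_comp (W : X.Modules) {A : X.Modules} (hA : PicF.IsInvertible A) (r : ℕ) (l : Fin r)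
    (ev : FlatMod.freeMod X r ⟶ A) :
    theta W A r l ≫ (twR W ⋙ twR A).map ev = (sigmaNat W (inj X r l ≫ ev)).app A := by
  apply tensor_hom_ext
  intro U a w
  change (tensorMap (tensorMap ev (𝟙 W)) (𝟙 A)).app U
      ((tensorMap ((unitorL W).inv ≫ tensorMap (inj X r l) (𝟙 W)) (𝟙 A)).app U
        ((braid A W).hom.app U (tm A W U a w))) =
    (mulBy (CohB1.tensorMod A W) (inj X r l ≫ ev)).app U (tm A W U a w)
  rw [braid_hom_tm, tensorMap_tm, tensorMap_tm, mulBy_app]
  change tm _ A U ((tensorMap ev (𝟙 W)).app U ((tensorMap (inj X r l) (𝟙 W)).app U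
    ((unitorL W).inv.app U w))) a = _
  rw [unitorL_inv_app', tensorMap_tm, tensorMap_tm]
  have h1 : ev.app U ((inj X r l).app U (ofFun U 1)) = sec (inj X r l ≫ ev) U := by
    change (inj X r l ≫ ev).app U (ofFun U 1) = _
    rw [app_eq_smul_sec, one_smul]
  rw [h1]
  exact tm_swap13 hA W U _ _ _


/-! ### the key vanishing -/

section Key

variable (k : Type u) [Field k] [X.Over (Spec (CommRingCat.of k))]
  [IsProper (X ↘ Spec (CommRingCat.of k))]

include k in
/-- if `H¹(W) = 0` then `H¹((K ⊗ W) ⊗ A) = 0` for the kernel `K` of `O^r ↠ A`. -/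
theorem h1_kernel_tw (hdim : topologicalKrullDim X ≤ 1) {A : X.Modules}
    (hA : PicF.IsInvertible A) (r : ℕ) (ev : FlatMod.freeMod X r ⟶ A) [Epi ev]
    {W : X.Modules} (hW : PicF.IsInvertible W) (hW1 : Subsingleton (Coh.HH X W 1)) :
    Subsingleton (Coh.HH X (CohB1.tensorMod (CohB1.tensorMod (kernel ev) W) A) 1) := by
  haveI : (FlatMod.freeMod X r).IsQuasicoherent := (Groth.Agent.Lib.Helper23.Dev.isCoh_freeMod X r).1
  haveI : A.IsQuasicoherent := InvCoh.isQuasicoherent_of_isInvertible hA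
  haveI : W.IsQuasicoherent := InvCoh.isQuasicoherent_of_isInvertible hW
  haveI : (kernel ev).IsQuasicoherent := QCProps.isQuasicoherent_kernel ev
  let S : ShortComplex X.Modules := ShortComplex.mk (kernel.ι ev) ev (kernel.condition ev)
  haveI : Mono S.f := inferInstanceAs (Mono (kernel.ι ev))
  haveI : Epi S.g := inferInstanceAs (Epi ev)
  have hS : S.ShortExact :=
    ShortComplex.ShortExact.mk (ShortComplex.exact_of_f_is_kernel S (kernelIsKernel ev))
  have hS1 : (S.map (twR W)).ShortExact := Groth.Agent.Lib.Helper7.AmpleH1.shortExact_tw hW S hS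
  have hS' : (S.map (twR W ⋙ twR A)).ShortExact := by
    have h2 := Groth.Agent.Lib.Helper7.AmpleH1.shortExact_tw hA (S.map (twR W)) hS1
    let e : (S.map (twR W)).map (twR A) ≅ S.map (twR W ⋙ twR A) :=
      ShortComplex.isoMk (Iso.refl _) (Iso.refl _) (Iso.refl _) (by simp) (by simp)
    exact ShortComplex.shortExact_of_iso e h2
  let E : X.Modules := CohB1.tensorMod (kernel ev) W
  haveI : E.IsQuasicoherent :=
    Groth.Agent.Lib.Helper17.TensorSec.isQuasicoherent_tensorMod (kernel ev) W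
  have hPW : Subsingleton (Coh.HH X ((twR W).obj (FlatMod.freeMod X r)) 1) :=
    subsingleton_free_tensor r W 1 hW1
  -- multiplication by each `s_l` kills `H¹`
  have hmul : ∀ l : Fin r, Hz (mulBy E (inj X r l ≫ ev)) 1 := by
    intro l
    obtain ⟨ψ', hψ'⟩ := abstract_factor (twR W) (twR W ⋙ twR A) (sigmaNat W (inj X r l ≫ ev))
      (kernel.ι ev) ev (kernel.condition ev) hS' (theta W A r l) (theta_comp W hA r l ev)
    have h2 : mulBy E (inj X r l ≫ ev) = (twR W).map (kernel.ι ev) ≫ ψ' := hψ'.symm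
    rw [h2]
    exact Hz_comp_left _ _ 1 (Hz_of_sub_target _ 1 hPW)
  -- the epimorphism `q : E ⊗ O^r ⟶ E ⊗ A`
  let q : CohB1.tensorMod E (FlatMod.freeMod X r) ⟶ CohB1.tensorMod E A := (twL E).map ev
  have hq : Hz q 1 := by
    have h1 : q = ∑ l : Fin r, (twL E).map (proj X r l) ≫ (twL E).map (inj X r l ≫ ev) := by
      have h0 : ev = ∑ l : Fin r, proj X r l ≫ (inj X r l ≫ ev) := by
        have := congrArg (fun f => f ≫ ev) (sum_proj_inj (X := X) r)
        simp only [Category.id_comp, Preadditive.sum_comp, Category.assoc] at this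
        exact this.symm
      change (twL E).map ev = _
      conv_lhs => rw [h0]
      rw [Functor.map_sum]
      exact Finset.sum_congr rfl (fun l _ => (twL E).map_comp _ _)
    rw [h1]
    apply Hz_sum
    intro l _
    apply Hz_comp_right
    have h3 : (twL E).map (inj X r l ≫ ev) = (SecTwist.unitorR E).hom ≫ mulBy E (inj X r l ≫ ev) := by
      change tensorMap (𝟙 E) (inj X r l ≫ ev) =
        (SecTwist.unitorR E).hom ≫ ((SecTwist.unitorR E).inv ≫ tensorMap (𝟙 E) (inj X r l ≫ ev))
      rw [Iso.hom_inv_id_assoc]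
    rw [h3]
    exact Hz_comp_right _ _ 1 (hmul l)
  haveI hqepi : Epi q := by
    have hb : q ≫ (braid E A).hom = (braid E (FlatMod.freeMod X r)).hom ≫ tensorMap ev (𝟙 E) :=
      Groth.Agent.Lib.Helper17.NoriSSB.tensorMap_braid (𝟙 E) ev
    haveI : Epi (tensorMap ev (𝟙 E)) :=
      (Groth.Agent.Lib.Helper7.TensorRExact.exact_epi_twR E S hS).2
    haveI : Epi (q ≫ (braid E A).hom) := by rw [hb]; exact epi_comp _ _
    have hq2 : q = (q ≫ (braid E A).hom) ≫ (braid E A).inv := by
      rw [Category.assoc, Iso.hom_inv_id, Category.comp_id]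
    rw [hq2]
    exact epi_comp _ _
  haveI : (CohB1.tensorMod E (FlatMod.freeMod X r)).IsQuasicoherent :=
    Groth.Agent.Lib.Helper17.TensorSec.isQuasicoherent_tensorMod E (FlatMod.freeMod X r)
  haveI : (CohB1.tensorMod E A).IsQuasicoherent :=
    Groth.Agent.Lib.Helper17.TensorSec.isQuasicoherent_tensorMod E A
  haveI : (kernel q).IsQuasicoherent := QCProps.isQuasicoherent_kernel q
  let Sq : ShortComplex X.Modules := ShortComplex.mk (kernel.ι q) q (kernel.condition q)
  haveI : Mono Sq.f := inferInstanceAs (Mono (kernel.ι q))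
  haveI : Epi Sq.g := hqepi
  have hSq : Sq.ShortExact :=
    ShortComplex.ShortExact.mk (ShortComplex.exact_of_f_is_kernel Sq (kernelIsKernel q))
  have hH2 : Subsingleton (Coh.HH X (kernel q) 2) :=
    Groth.Agent.Lib.Helper23.CurveGen.subsingleton_HH_of_dim_le_one k X hdim (kernel q) 0
  refine subsingleton_of_forall_eq 0 fun x => ?_
  obtain ⟨y, hy⟩ := exact₃ Sq hSq 1 x (@Subsingleton.elim _ hH2 _ _)
  rw [← hy]
  exact hq y

end Key


/-! ### sections of `O^r ⊗ F` -/

theorem exists_decomp_free_left (r : ℕ) (F : X.Modules) (U : X.Opens)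
    (y : Γ(CohB1.tensorMod (FlatMod.freeMod X r) F, U)) :
    ∃ t : Fin r → Γ(F, U), y = ∑ l, tm (FlatMod.freeMod X r) F U (bsec r l U) (t l) := by
  obtain ⟨t, ht⟩ := Groth.Agent.Lib.Helper23.TwE.tm_basis_self_surj F (isBasis_bsec r U)
    ((braid (FlatMod.freeMod X r) F).hom.app U y)
  refine ⟨t, ?_⟩
  have e1 : (braid (FlatMod.freeMod X r) F).hom.app U
      (∑ l, tm (FlatMod.freeMod X r) F U (bsec r l U) (t l)) =
      (braid (FlatMod.freeMod X r) F).hom.app U y := by
    rw [app_sum, ← ht]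
    exact Finset.sum_congr rfl (fun l _ => braid_hom_tm _ _ U _ _)
  have e2 := congrArg ((braid (FlatMod.freeMod X r) F).inv.app U) e1
  rw [iso_inv_hom_app, iso_inv_hom_app] at e2
  exact e2.symm

/-! ### the main statement -/

section Main

variable (k : Type u) [Field k] [X.Over (Spec (CommRingCat.of k))]
  [IsProper (X ↘ Spec (CommRingCat.of k))]

include k in
/-- `H¹(W) = 0 ⇒ H¹(A ⊗ W) = 0`. -/
theorem h1_step (hdim : topologicalKrullDim X ≤ 1) {A : X.Modules}
    (hA : PicF.IsInvertible A) (r : ℕ) (ev : FlatMod.freeMod X r ⟶ A) [Epi ev]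
    {W : X.Modules} (hW : PicF.IsInvertible W) (hW1 : Subsingleton (Coh.HH X W 1)) :
    Subsingleton (Coh.HH X (CohB1.tensorMod A W) 1) := by
  haveI : (FlatMod.freeMod X r).IsQuasicoherent := (Groth.Agent.Lib.Helper23.Dev.isCoh_freeMod X r).1
  haveI : A.IsQuasicoherent := InvCoh.isQuasicoherent_of_isInvertible hA
  haveI : W.IsQuasicoherent := InvCoh.isQuasicoherent_of_isInvertible hW
  haveI : (kernel ev).IsQuasicoherent := QCProps.isQuasicoherent_kernel ev
  let S : ShortComplex X.Modules := ShortComplex.mk (kernel.ι ev) ev (kernel.condition ev)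
  haveI : Mono S.f := inferInstanceAs (Mono (kernel.ι ev))
  haveI : Epi S.g := inferInstanceAs (Epi ev)
  have hS : S.ShortExact :=
    ShortComplex.ShortExact.mk (ShortComplex.exact_of_f_is_kernel S (kernelIsKernel ev))
  have hS1 : (S.map (twR W)).ShortExact := Groth.Agent.Lib.Helper7.AmpleH1.shortExact_tw hW S hS
  haveI : (CohB1.tensorMod (kernel ev) W).IsQuasicoherent :=
    Groth.Agent.Lib.Helper17.TensorSec.isQuasicoherent_tensorMod (kernel ev) W
  have hH2 : Subsingleton (Coh.HH X (CohB1.tensorMod (kernel ev) W) 2) :=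
    Groth.Agent.Lib.Helper23.CurveGen.subsingleton_HH_of_dim_le_one k X hdim _ 0
  exact sub_right (S.map (twR W)) hS1 1 (subsingleton_free_tensor r W 1 hW1) hH2

include k in
theorem span_tmul_eq_top (hdim : topologicalKrullDim X ≤ 1) {A : X.Modules}
    (hA : PicF.IsInvertible A) (hgg : Curv2.IsGloballyGenerated A)
    (m : ℕ) (hm : Subsingleton (Coh.HH X (CohB1.tensorPow A m) 1)) (n : ℕ) (hn : m + 1 ≤ n) :
    Submodule.span (X.ringCatSheaf.obj.obj (Opposite.op ⊤))
        (Set.range (fun p : (CohB1.tensorPow A n).val.obj (Opposite.op ⊤) ×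
            A.val.obj (Opposite.op ⊤) =>
          SecTwist.tmul (CohB1.tensorPow A n) A ⊤ p.1 p.2)) = ⊤ := by
  obtain ⟨r, ev, hev⟩ : ∃ (r : ℕ) (ev : FlatMod.freeMod X r ⟶ A), Epi ev := by
    obtain ⟨ev, hev⟩ := Groth.Agent.Lib.Helper23.Bdd.exists_epi_freeMod k A hgg
      (Groth.Agent.Lib.Helper23.Bdd.finite_Γ k A
        (Groth.Agent.Lib.Helper23.Curve.isCoh_of_isInvertible hA))
    exact ⟨_, ev, hev⟩
  haveI := hev
  -- `H¹(A^j) = 0` for `j ≥ m`
  have hj : ∀ j, m ≤ j → Subsingleton (Coh.HH X (CohB1.tensorPow A j) 1) := by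
    intro j hmj
    induction j, hmj using Nat.le_induction with
    | base => exact hm
    | succ j _ ih =>
      have h1 := h1_step k hdim hA r ev (isInvertible_tensorPow hA j) ih
      exact subsingleton_HH_of_iso (braid (CohB1.tensorPow A j) A) 1 h1
  obtain ⟨n', rfl⟩ : ∃ n', n = n' + 1 := ⟨n - 1, by omega⟩
  have hW1 : Subsingleton (Coh.HH X (CohB1.tensorPow A n') 1) := hj n' (by omega)
  have hWi := isInvertible_tensorPow hA n'
  have hK1 : Subsingleton (Coh.HH X
      ((twR (CohB1.tensorPow A (n' + 1))).obj (kernel ev)) 1) := by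
    have h1 := h1_kernel_tw k hdim hA r ev hWi hW1
    exact subsingleton_HH_of_iso (assoc (kernel ev) (CohB1.tensorPow A n') A).symm 1 h1
  let S : ShortComplex X.Modules := ShortComplex.mk (kernel.ι ev) ev (kernel.condition ev)
  haveI : Mono S.f := inferInstanceAs (Mono (kernel.ι ev))
  haveI : Epi S.g := inferInstanceAs (Epi ev)
  have hS : S.ShortExact :=
    ShortComplex.ShortExact.mk (ShortComplex.exact_of_f_is_kernel S (kernelIsKernel ev))
  have hST : (S.map (twR (CohB1.tensorPow A (n' + 1)))).ShortExact :=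
    Groth.Agent.Lib.Helper7.AmpleH1.shortExact_tw (isInvertible_tensorPow hA (n' + 1)) S hS
  rw [Submodule.eq_top_iff']
  intro z'
  let F : X.Modules := CohB1.tensorPow A (n' + 1)
  change Γ(CohB1.tensorMod F A, (⊤ : X.Opens)) at z'
  obtain ⟨y, hy⟩ := surj_top S.f S.g S.zero (twR F) hST hK1 ((braid F A).hom.app ⊤ z')
  obtain ⟨t, ht⟩ := exists_decomp_free_left r F ⊤ y
  have hz : z' = ∑ l, tm F A ⊤ (t l) (ev.app ⊤ (bsec r l ⊤)) := by
    have e1 : (braid F A).hom.app ⊤ z' = ∑ l, tm A F ⊤ (ev.app ⊤ (bsec r l ⊤)) (t l) := by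
      rw [← hy, ht]
      change (tensorMap ev (𝟙 F)).app ⊤ _ = _
      rw [app_sum]
      exact Finset.sum_congr rfl (fun l _ => tensorMap_tm _ _ ⊤ _ _)
    have e2 : (braid F A).hom.app ⊤ (∑ l, tm F A ⊤ (t l) (ev.app ⊤ (bsec r l ⊤))) =
        (braid F A).hom.app ⊤ z' := by
      rw [e1, app_sum]
      exact Finset.sum_congr rfl (fun l _ => braid_hom_tm _ _ ⊤ _ _)
    have e3 := congrArg ((braid F A).inv.app ⊤) e2
    rw [iso_inv_hom_app, iso_inv_hom_app] at e3
    exact e3.symm
  rw [hz]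
  refine Submodule.sum_mem _ (fun l _ => Submodule.subset_span ⟨(t l, ev.app ⊤ (bsec r l ⊤)), rfl⟩)

end Main

end

end Groth.Agent.Lib.Helper23.CurveMul
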