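import Mathlib
import Groth.Agent.Lib.Helper3.SpectralConn

/-! π₀ of a compact prespectral quasi-separated space is compact Hausdorff; a criterion for a
continuous map to induce a homeomorphism on π₀ in terms of clopen subsets. -/

set_option autoImplicit false
universe u v
open Set Topology

namespace Groth.Agent.Lib.Helper23.PiZero

open Groth.Agent.Lib.Helper3.SpectralConn

variable {X : Type u} [TopologicalSpace X] {Y : Type v} [TopologicalSpace Y]

theorem exists_isClopen_of_connectedComponent_ne
    [CompactSpace X] [PrespectralSpace X] [QuasiSeparatedSpace X] {x y : X}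
    (h : connectedComponent x ≠ connectedComponent y) :
    ∃ Z : Set X, IsClopen Z ∧ x ∈ Z ∧ y ∉ Z := by
  by_contra hne
  push_neg at hne
  apply h
  have : y ∈ connectedComponent x := by
    rw [connectedComponent_eq_sInter_isClopen x]
    intro Z hZ
    exact hne Z hZ.1 hZ.2
  exact connectedComponent_eq this

theorem t2Space_connectedComponents
    [CompactSpace X] [PrespectralSpace X] [QuasiSeparatedSpace X] :
    T2Space (ConnectedComponents X) := by
  refine ⟨fun a b hab => ?_⟩
  obtain ⟨x, rfl⟩ := ConnectedComponents.surjective_coe a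
  obtain ⟨y, rfl⟩ := ConnectedComponents.surjective_coe b
  have h : connectedComponent x ≠ connectedComponent y :=
    fun h => hab (ConnectedComponents.coe_eq_coe.mpr h)
  obtain ⟨Z, hZ, hx, hy⟩ := exists_isClopen_of_connectedComponent_ne h
  have hpre : ∀ W : Set X, IsClopen W →
      ((↑) : X → ConnectedComponents X) ⁻¹' (((↑) : X → ConnectedComponents X) '' W) = W := by
    intro W hW
    rw [connectedComponents_preimage_image, hW.biUnion_connectedComponent_eq]
  refine ⟨((↑) : X → ConnectedComponents X) '' Z, ((↑) : X → ConnectedComponents X) '' Zᶜ,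
    ?_, ?_, ⟨x, hx, rfl⟩, ⟨y, hy, rfl⟩, ?_⟩
  · rw [← ConnectedComponents.isQuotientMap_coe.isOpen_preimage, hpre Z hZ]
    exact hZ.isOpen
  · rw [← ConnectedComponents.isQuotientMap_coe.isOpen_preimage, hpre _ hZ.compl]
    exact hZ.compl.isOpen
  · rw [Set.disjoint_left]
    rintro _ ⟨a, ha, rfl⟩ ⟨b, hb, hab'⟩
    have hcc : connectedComponent b = connectedComponent a := ConnectedComponents.coe_eq_coe.mp hab'
    have : b ∈ Z := hZ.connectedComponent_subset ha (hcc ▸ mem_connectedComponent)
    exact hb this

/-- A continuous map between compact prespectral quasi-separated spaces such that every clopen of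
the source is the preimage of a clopen of the target, and only the empty clopen has empty
preimage, induces a homeomorphism on connected components. -/
theorem isHomeomorph_connectedComponentsMap
    [CompactSpace X] [PrespectralSpace X] [QuasiSeparatedSpace X]
    [CompactSpace Y] [PrespectralSpace Y] [QuasiSeparatedSpace Y]
    {f : X → Y} (hf : Continuous f)
    (h1 : ∀ Z : Set X, IsClopen Z → ∃ W : Set Y, IsClopen W ∧ f ⁻¹' W = Z)
    (h2 : ∀ W : Set Y, IsClopen W → f ⁻¹' W = ∅ → W = ∅) :
    IsHomeomorph hf.connectedComponentsMap := by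
  haveI : T2Space (ConnectedComponents Y) := t2Space_connectedComponents
  rw [isHomeomorph_iff_continuous_bijective]
  refine ⟨hf.connectedComponentsMap_continuous, ?_, ?_⟩
  · intro a b hab
    obtain ⟨x, rfl⟩ := ConnectedComponents.surjective_coe a
    obtain ⟨y, rfl⟩ := ConnectedComponents.surjective_coe b
    have hab' : connectedComponent (f x) = connectedComponent (f y) :=
      ConnectedComponents.coe_eq_coe.mp hab
    by_contra hne
    have h : connectedComponent x ≠ connectedComponent y :=
      fun h => hne (ConnectedComponents.coe_eq_coe.mpr h)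
    obtain ⟨Z, hZ, hx, hy⟩ := exists_isClopen_of_connectedComponent_ne h
    obtain ⟨W, hW, rfl⟩ := h1 Z hZ
    apply hy
    have : f y ∈ connectedComponent (f x) := hab' ▸ mem_connectedComponent
    exact hW.connectedComponent_subset hx this
  · intro b
    obtain ⟨y, rfl⟩ := ConnectedComponents.surjective_coe b
    by_contra hno
    push_neg at hno
    have hx : ∀ x : X, ∃ W : Set Y, IsClopen W ∧ y ∈ W ∧ f x ∉ W := by
      intro x
      have hne : connectedComponent y ≠ connectedComponent (f x) := by
        intro h
        exact hno (x : ConnectedComponents X) (ConnectedComponents.coe_eq_coe.mpr h.symm)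
      exact exists_isClopen_of_connectedComponent_ne hne
    choose W hW hyW hfW using hx
    obtain ⟨t, ht⟩ := isCompact_univ.elim_finite_subcover (fun x => f ⁻¹' (W x)ᶜ)
      (fun x => (hW x).compl.isOpen.preimage hf)
      (fun x _ => mem_iUnion.mpr ⟨x, hfW x⟩)
    have hclopen : IsClopen (⋂ x ∈ t, W x) := isClopen_biInter_finset (fun x _ => hW x)
    have hempty : f ⁻¹' (⋂ x ∈ t, W x) = ∅ := by
      rw [Set.eq_empty_iff_forall_notMem]
      intro x hx
      obtain ⟨i, hi⟩ := mem_iUnion.mp (ht (mem_univ x))
      obtain ⟨hit, hi'⟩ := mem_iUnion.mp hi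
      have : f x ∈ W i := by
        have := mem_iInter₂.mp hx i hit
        exact this
      exact hi' this
    have := h2 _ hclopen hempty
    have hy : y ∈ ⋂ x ∈ t, W x := mem_iInter₂.mpr fun x _ => hyW x
    rw [this] at hy
    exact hy

end Groth.Agent.Lib.Helper23.PiZero
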