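import Mathlib
import Groth.Prelude.Def_FEt
import Groth.Agent.Lib.Helper23.PiZeroA

/-! Clopen subschemes as finite étale covers; restriction equivalence ⇒ bijection on clopens. -/

set_option autoImplicit false
universe u
open Set Topology AlgebraicGeometry CategoryTheory CategoryTheory.Limits

namespace Groth.Agent.Lib.Helper23.PiZero

variable {X Y : Scheme.{u}}

theorem isFinite_ι_of_isClosed (U : X.Opens) (hU : IsClosed (U : Set X)) : IsFinite U.ι := by
  haveI : IsClosedImmersion U.ι := by
    apply IsClosedImmersion.of_isPreimmersion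
    rw [Scheme.Opens.range_ι]
    exact hU
  infer_instance

/-- A clopen subscheme as a finite étale cover. -/
noncomputable def clopenObj (U : X.Opens) (hU : IsClosed (U : Set X)) : FEt.Cat X :=
  MorphismProperty.Over.mk ⊤ U.ι ⟨isFinite_ι_of_isClosed U hU, inferInstance⟩

theorem eq_empty_of_preimage (f : X ⟶ Y) [(FEt.restrict f).Full] (W : Y.Opens)
    (hW : IsClosed (W : Set Y)) (h : f ⁻¹' (W : Set Y) = ∅) : (W : Set Y) = ∅ := by
  let A := clopenObj W hW
  let B := clopenObj (⊥ : Y.Opens) isClosed_empty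
  haveI hemp : IsEmpty ↥((FEt.restrict f).obj A).left := by
    constructor
    intro z
    have hz : (pullback.snd W.ι f) z ∈ f ⁻¹' (W : Set Y) := by
      show f (pullback.snd W.ι f z) ∈ W
      rw [← Scheme.Hom.comp_apply, ← pullback.condition, Scheme.Hom.comp_apply]
      exact (pullback.fst W.ι f z).2
    rw [h] at hz
    exact hz
  let g : (FEt.restrict f).obj A ⟶ (FEt.restrict f).obj B :=
    MorphismProperty.Over.homMk (isInitialOfIsEmpty.to _) (isInitialOfIsEmpty.hom_ext _ _) trivial
  obtain ⟨g', -⟩ := (FEt.restrict f).map_surjective g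
  rw [Set.eq_empty_iff_forall_notMem]
  intro y hy
  have := g'.left ⟨y, hy⟩
  exact this.2

theorem exists_clopen_preimage (f : X ⟶ Y) [(FEt.restrict f).EssSurj] (Z : X.Opens)
    (hZ : IsClosed (Z : Set X)) : ∃ W : Set Y, IsClopen W ∧ f ⁻¹' W = (Z : Set X) := by
  let P : FEt.Cat Y := (FEt.restrict f).objPreimage (clopenObj Z hZ)
  let e : (FEt.restrict f).obj P ≅ clopenObj Z hZ := (FEt.restrict f).objObjPreimageIso _
  haveI : IsFinite P.hom := P.prop.1
  haveI : Etale P.hom := P.prop.2
  refine ⟨Set.range P.hom, ⟨P.hom.isClosedMap.isClosed_range, P.hom.isOpenMap.isOpen_range⟩, ?_⟩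
  rw [← Scheme.Pullback.range_snd]
  let φ : ((FEt.restrict f).obj P).left ⟶ (Z : Scheme.{u}) := e.hom.left
  have hw : φ ≫ Z.ι = pullback.snd P.hom f := Over.w e.hom.hom
  haveI : IsIso φ := by
    have : IsIso ((MorphismProperty.Over.forget _ _ _ ⋙ Over.forget _).map e.hom) := inferInstance
    exact this
  have hs : Function.Surjective φ := φ.surjective
  have hwz : ∀ z, Z.ι (φ z) = (pullback.snd P.hom f) z := fun z =>
    congrArg (fun g : ((FEt.restrict f).obj P).left ⟶ X => g z) hw
  rw [← Scheme.Opens.range_ι Z]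
  apply le_antisymm
  · rintro _ ⟨z, rfl⟩
    exact ⟨φ z, hwz z⟩
  · rintro _ ⟨z, rfl⟩
    obtain ⟨z', rfl⟩ := hs z
    exact ⟨z', (hwz z').symm⟩

theorem main [CompactSpace X] [QuasiSeparatedSpace X] [CompactSpace Y] [QuasiSeparatedSpace Y]
    (f : X ⟶ Y) (h : (FEt.restrict f).IsEquivalence) :
    IsHomeomorph f.continuous.connectedComponentsMap :=
  isHomeomorph_connectedComponentsMap f.continuous
    (fun Z hZ => exists_clopen_preimage f ⟨Z, hZ.isOpen⟩ hZ.isClosed)
    (fun W hW h' => eq_empty_of_preimage f ⟨W, hW.isOpen⟩ hW.isClosed h')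

end Groth.Agent.Lib.Helper23.PiZero
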