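import Groth.Agent.Lib.Helper23.GeomH0
import Groth.Agent.Lib.Helper23.PiZeroB
import Groth.Agent.Lib.Helper23.CurveD
import Groth.Agent.Lib.Helper4.ConnSch

/-!
# PiZeroH0: `h⁰(O_Y) = #π₀(Y)` for a proper reduced scheme over an algebraically closed field
-/
set_option autoImplicit false
set_option linter.style.haveILetI false
universe u
open AlgebraicGeometry CategoryTheory CategoryTheory.Limits TopologicalSpace Opposite

noncomputable section

namespace Groth.Agent.Lib.Helper23.PiZeroH0

open Groth.Agent.Lib.Helper23.GeomH0

variable (K : Type u) [Field K] (Y : Scheme.{u}) [Y.Over (Spec (CommRingCat.of K))]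

/-- the clopen component as an open subscheme -/
def comp [LocallyConnectedSpace Y] (c : _root_.ConnectedComponents Y) : Y.Opens :=
  ⟨ConnectedComponents.mk ⁻¹' {c}, by
    obtain ⟨y, rfl⟩ := ConnectedComponents.surjective_coe c
    rw [connectedComponents_preimage_singleton]
    exact isOpen_connectedComponent⟩

variable {Y}

theorem mem_comp [LocallyConnectedSpace Y] (c : _root_.ConnectedComponents Y) (y : Y) :
    y ∈ comp Y c ↔ ConnectedComponents.mk y = c := Iff.rfl

theorem isClosed_comp [LocallyConnectedSpace Y] (c : _root_.ConnectedComponents Y) :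
    IsClosed ((comp Y c : Y.Opens) : Set Y) := by
  obtain ⟨y, rfl⟩ := ConnectedComponents.surjective_coe c
  show IsClosed (ConnectedComponents.mk ⁻¹' {ConnectedComponents.mk y})
  rw [connectedComponents_preimage_singleton]
  exact isClosed_connectedComponent

theorem connectedSpace_comp [LocallyConnectedSpace Y] (c : _root_.ConnectedComponents Y) :
    ConnectedSpace ↥(comp Y c) := by
  obtain ⟨y, rfl⟩ := ConnectedComponents.surjective_coe c
  have h : ((comp Y (ConnectedComponents.mk y) : Y.Opens) : Set Y) = connectedComponent y := by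
    show ConnectedComponents.mk ⁻¹' {ConnectedComponents.mk y} = _
    rw [connectedComponents_preimage_singleton]
  have := isConnected_iff_connectedSpace.mp (isConnected_connectedComponent (x := y))
  rw [← h] at this
  exact this

variable (Y)

/-- the restriction map to the components -/
def toComps [LocallyConnectedSpace Y] :
    Γ(Y, ⊤) →+* (∀ c : _root_.ConnectedComponents Y, Γ((comp Y c : Y.Opens).toScheme, ⊤)) :=
  RingHom.pi fun c => ((comp Y c).ι.appTop).hom

theorem toComps_apply [LocallyConnectedSpace Y] (t : Γ(Y, ⊤)) (c : _root_.ConnectedComponents Y) :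
    toComps Y t c = (comp Y c).ι.appTop.hom t := rfl

theorem toComps_bijective [LocallyConnectedSpace Y] : Function.Bijective (toComps Y) := by
  let V : _root_.ConnectedComponents Y → Y.Opens := fun c => (comp Y c).ι ''ᵁ ⊤
  have hV : ∀ c, V c = comp Y c := fun c => (comp Y c).ι_image_top
  have hcov : (⊤ : Y.Opens) ≤ iSup V := by
    intro y _
    rw [Opens.mem_iSup]
    exact ⟨ConnectedComponents.mk y, by rw [hV]; exact rfl⟩
  have hdisj : ∀ c c', c ≠ c' → V c ⊓ V c' = ⊥ := by
    intro c c' hne
    rw [hV, hV]
    ext y
    simp only [Opens.coe_inf, Set.mem_inter_iff, SetLike.mem_coe, mem_comp, Opens.coe_bot,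
      Set.mem_empty_iff_false, iff_false, not_and]
    intro h1 h2
    exact hne (h1.symm.trans h2)
  constructor
  · intro s t hst
    apply TopCat.Sheaf.eq_of_locally_eq' Y.sheaf V ⊤ (fun c => homOfLE le_top) hcov
    intro c
    exact congrFun hst c
  · intro a
    have hcompat : TopCat.Presheaf.IsCompatible Y.sheaf.1 V a := by
      intro c c'
      by_cases hcc : c = c'
      · subst hcc
        rfl
      · have hbot := hdisj c c' hcc
        haveI : Subsingleton Γ(Y, V c ⊓ V c') := by
          rw [hbot]
          infer_instance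
        exact Subsingleton.elim (α := Γ(Y, V c ⊓ V c')) _ _
    obtain ⟨s, hs, -⟩ := TopCat.Sheaf.existsUnique_gluing' Y.sheaf V ⊤
      (fun c => homOfLE le_top) hcov a hcompat
    exact ⟨s, funext hs⟩

variable [IsProper (Y ↘ Spec (CommRingCat.of K))]

include K in
theorem locallyConnectedSpace_of_isProper : LocallyConnectedSpace Y := by
  haveI := Groth.Agent.Lib.Helper23.Curve.isNoetherian_of_isProper K Y
  exact Groth.Agent.Lib.Helper4.ConnSch.locallyConnectedSpace

/-- **`h⁰(O_Y)` is the number of connected components.** -/
theorem finrank_H0_eq_card [IsAlgClosed K] [IsReduced Y] :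
    Module.finrank K (Coh.HH Y (Coh.structureModule Y) 0) =
      Nat.card (_root_.ConnectedComponents Y) := by
  classical
  haveI := Groth.Agent.Lib.Helper23.Curve.isNoetherian_of_isProper K Y
  haveI : LocallyConnectedSpace Y := locallyConnectedSpace_of_isProper K Y
  haveI : Finite (_root_.ConnectedComponents Y) := inferInstance
  letI : Fintype (_root_.ConnectedComponents Y) := Fintype.ofFinite _
  letI algY : Algebra K Γ(Y, ⊤) := (Coh.toGlobal (Y ↘ Spec (CommRingCat.of K))).toAlgebra
  letI algc : ∀ c : _root_.ConnectedComponents Y, Algebra K Γ((comp Y c : Y.Opens).toScheme, ⊤) :=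
    fun c => (Coh.toGlobal ((comp Y c : Y.Opens).toScheme ↘ Spec (CommRingCat.of K))).toAlgebra
  -- each component
  have hone : ∀ c : _root_.ConnectedComponents Y,
      Module.finrank K Γ((comp Y c : Y.Opens).toScheme, ⊤) = 1 := by
    intro c
    haveI : IsFinite (comp Y c).ι :=
      Groth.Agent.Lib.Helper23.PiZero.isFinite_ι_of_isClosed _ (isClosed_comp c)
    haveI : IsProper ((comp Y c : Y.Opens).toScheme ↘ Spec (CommRingCat.of K)) := by
      show IsProper ((comp Y c).ι ≫ (Y ↘ Spec (CommRingCat.of K)))
      infer_instance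
    haveI : ConnectedSpace ↥((comp Y c : Y.Opens).toScheme) := connectedSpace_comp c
    rw [← (H0structEquiv K ((comp Y c : Y.Opens).toScheme)).finrank_eq]
    exact finrank_H0_eq_one_of_isAlgClosed K _
  -- the linear equivalence
  let Φ : Γ(Y, ⊤) →ₗ[K] (∀ c : _root_.ConnectedComponents Y, Γ((comp Y c : Y.Opens).toScheme, ⊤)) :=
    { toFun := toComps Y
      map_add' := map_add _
      map_smul' := fun k t => by
        funext c
        rw [RingHom.id_apply, Pi.smul_apply, Algebra.smul_def, Algebra.smul_def, map_mul,
          Pi.mul_apply]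
        rfl }
  have hΦ : Function.Bijective Φ := toComps_bijective Y
  rw [(H0structEquiv K Y).finrank_eq, (LinearEquiv.ofBijective Φ hΦ).finrank_eq]
  haveI : ∀ c : _root_.ConnectedComponents Y, Module.Finite K Γ((comp Y c : Y.Opens).toScheme, ⊤) :=
    fun c => Module.finite_of_finrank_pos (by rw [hone c]; exact one_pos)
  rw [Module.finrank_pi_fintype]
  simp only [hone]
  rw [Finset.sum_const, Finset.card_univ, smul_eq_mul, mul_one, Nat.card_eq_fintype_card]

end Groth.Agent.Lib.Helper23.PiZeroH0
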