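import Groth.Agent.Lib.Helper23.CurveA

/-!
# CurveTopRed: the complement of a dense open subset of a Noetherian T0 space whose irreducible
components have dimension `≤ 1` is a finite set of closed points
-/
set_option autoImplicit false
open TopologicalSpace Set Order

namespace Groth.Agent.Lib.Helper23.Curve

variable {X : Type*} [TopologicalSpace X]

theorem finite_compl_of_dense [NoetherianSpace X] [T0Space X]
    (hequi : ∀ Y ∈ irreducibleComponents X, topologicalKrullDim Y ≤ 1)
    (U : Set X) (hUo : IsOpen U) (hU : Dense U) :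
    Uᶜ.Finite ∧ ∀ z ∈ Uᶜ, IsClosed ({z} : Set X) := by
  have hfin : (irreducibleComponents X).Finite := NoetherianSpace.finite_irreducibleComponents
  have key : ∀ Y ∈ irreducibleComponents X,
      (Uᶜ ∩ Y).Finite ∧ ∀ z ∈ Uᶜ ∩ Y, IsClosed ({z} : Set X) := by
    intro Y hY
    have hYcl : IsClosed Y := isClosed_of_mem_irreducibleComponents Y hY
    haveI : IrreducibleSpace Y := Subtype.irreducibleSpace hY.1
    let Z' : Set Y := Subtype.val ⁻¹' Uᶜ
    have hZ'cl : IsClosed Z' := hUo.isClosed_compl.preimage continuous_subtype_val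
    have hne : Z' ≠ univ := by
      obtain ⟨o, ho, hone, hoY⟩ :=
        NoetherianSpace.exists_isOpen_nonempty_subset_irreducibleComponent Y hY
      obtain ⟨y, hyo, hyU⟩ := hU.inter_open_nonempty o ho hone
      intro h
      have : (⟨y, hoY hyo⟩ : Y) ∈ Z' := h ▸ mem_univ _
      exact this hyU
    obtain ⟨hf, hc⟩ := finite_of_isClosed_ne_univ (hequi Y hY) Z' hZ'cl hne
    have himg : Uᶜ ∩ Y = Subtype.val '' Z' := by
      ext x
      constructor
      · rintro ⟨hxU, hxY⟩
        exact ⟨⟨x, hxY⟩, hxU, rfl⟩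
      · rintro ⟨⟨x, hxY⟩, hxU, rfl⟩
        exact ⟨hxU, hxY⟩
    refine ⟨himg ▸ hf.image _, ?_⟩
    rintro z ⟨hzU, hzY⟩
    have h1 : IsClosed ({(⟨z, hzY⟩ : Y)} : Set Y) := hc ⟨z, hzY⟩ hzU
    have h2 := hYcl.isClosedEmbedding_subtypeVal.isClosedMap _ h1
    rwa [image_singleton] at h2
  have hunion : Uᶜ = ⋃ Y ∈ irreducibleComponents X, Uᶜ ∩ Y := by
    ext x
    simp only [mem_iUnion, mem_inter_iff, exists_prop]
    constructor
    · intro hx
      exact ⟨irreducibleComponent x, irreducibleComponent_mem_irreducibleComponents x, hx,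
        mem_irreducibleComponent⟩
    · rintro ⟨Y, -, hx, -⟩
      exact hx
  constructor
  · rw [hunion]
    exact hfin.biUnion (fun Y hY => (key Y hY).1)
  · intro z hz
    exact (key _ (irreducibleComponent_mem_irreducibleComponents z)).2 z
      ⟨hz, mem_irreducibleComponent⟩

end Groth.Agent.Lib.Helper23.Curve
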