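import Groth.Agent.Lib.Helper23.FinSuppA
import Groth.Prelude.Def_Curv2

/-!
# FinSuppB: the length of `H⁰` of a module supported at finitely many closed points
-/
set_option autoImplicit false
set_option linter.style.haveILetI false
universe u
open CategoryTheory CategoryTheory.Limits Opposite TopologicalSpace AlgebraicGeometry
open Groth.Agent.Lib.Helper3 Groth.Agent.Lib.Helper3.QCSec Groth.Agent.Lib.Helper3.InvGen
open Groth.Agent.Lib.Helper23.T2

noncomputable section

namespace Groth.Agent.Lib.Helper23.FinSupp

section Alg

open IsLocalRing

/-- length over a field of a module over a local algebra -/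
theorem length_eq_mul (k B : Type u) [Field k] [CommRing B] [IsLocalRing B] [Algebra k B]
    (M : Type u) [AddCommGroup M] [Module B M] [Module k M] [IsScalarTower k B M] :
    Module.length k M = Module.length B M * Module.length k (ResidueField B) := by
  rw [IsLocalRing.length_restrictScalars k B M]
  congr 1
  exact (Module.length_eq_of_surjective (S := k) (R := ResidueField k) (M := ResidueField B)
    (IsLocalRing.residue_surjective)).symm

end Alg

section Geom

variable (k : Type u) [Field k] (X : Scheme.{u}) [X.Over (Spec (CommRingCat.of k))]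

/-- the `k`-module structure on the stalks of a module -/
@[reducible] def stalkModule (Q : X.Modules) (z : X) : Module k (Q.presheaf.stalk z) :=
  Module.compHom _ (Curv2.stalkMap k X z)

attribute [local instance] stalkModule Curv2.stalkAlgebra Curv2.resAlgebra

instance isScalarTower_stalk (Q : X.Modules) (z : X) :
    IsScalarTower k (X.presheaf.stalk z) (Q.presheaf.stalk z) :=
  ⟨fun c a n => by
    show (c • a) • n = Curv2.stalkMap k X z c • (a • n)
    rw [Algebra.smul_def, mul_smul]
    rfl⟩

/-- the residue field, with its two `k`-structures -/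
theorem length_residueField (z : X) :
    Module.length k (IsLocalRing.ResidueField (X.presheaf.stalk z)) =
      Module.length k (X.residueField z) := by
  let e : (IsLocalRing.ResidueField (X.presheaf.stalk z)) ≃ₗ[k] (X.residueField z) :=
    { toFun := fun x => x
      invFun := fun x => x
      map_add' := fun _ _ => rfl
      map_smul' := fun c x => by
        obtain ⟨b, rfl⟩ := IsLocalRing.residue_surjective x
        show (show X.residueField z from IsLocalRing.residue (X.presheaf.stalk z) (c • b)) =
          Curv2.resMap k X z c *
            (show X.residueField z from IsLocalRing.residue (X.presheaf.stalk z) b)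
        rw [Algebra.smul_def, map_mul]
        rfl
      left_inv := fun _ => rfl
      right_inv := fun _ => rfl }
  exact e.length_eq

variable {X}
variable (Q : X.Modules) (Z : Finset X) (hZcl : ∀ z ∈ Z, IsClosed ({z} : Set X))
  (hQ : ∀ V : X.Opens, Disjoint (V : Set X) (Z : Set X) → ∀ t : Γ(Q, V), t = 0)

include hZcl hQ in
theorem nonempty_linearEquiv :
    Nonempty (Coh.HH X Q 0 ≃ₗ[k] (∀ z : {z : X // z ∈ Z}, Q.presheaf.stalk z.1)) := by
  let Φ : Coh.HH X Q 0 →ₗ[k] (∀ z : {z : X // z ∈ Z}, Q.presheaf.stalk z.1) :=
    { toFun := fun h => germZ Q Z (H0equiv Q h)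
      map_add' := fun a b => by
        rw [map_add]
        exact map_add (germZ Q Z) _ _
      map_smul' := fun c h => by
        have h1 : c • h = (Coh.toGlobal (X ↘ Spec (CommRingCat.of k)) c) • h := rfl
        rw [h1, (H0equiv Q).map_smul]
        funext z
        show Q.presheaf.germ ⊤ z.1 trivial
          ((Coh.toGlobal (X ↘ Spec (CommRingCat.of k)) c) • (H0equiv Q h)) =
          Curv2.stalkMap k X z.1 c • Q.presheaf.germ ⊤ z.1 trivial (H0equiv Q h)
        exact QS.germ_smul Q z.1 (show z.1 ∈ (⊤ : X.Opens) from trivial) _ _ }
  have hbij : Function.Bijective Φ := by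
    have h1 : Function.Bijective (germZ Q Z) :=
      ⟨germZ_injective Q Z hZcl hQ, germZ_surjective Q Z hZcl hQ⟩
    exact h1.comp (H0equiv Q).bijective
  exact ⟨LinearEquiv.ofBijective Φ hbij⟩

include hZcl hQ in
/-- **Length of `H⁰`.** -/
theorem length_H0_eq_sum :
    Module.length k (Coh.HH X Q 0) =
      ∑ z ∈ Z, Module.length (X.presheaf.stalk z) (Q.presheaf.stalk z) *
        Module.length k (X.residueField z) := by
  obtain ⟨e⟩ := nonempty_linearEquiv k Q Z hZcl hQ
  rw [e.length_eq, Module.length_pi_of_fintype]
  rw [← Finset.sum_coe_sort Z (fun z => Module.length (X.presheaf.stalk z) (Q.presheaf.stalk z) *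
        Module.length k (X.residueField z))]
  refine Finset.sum_congr rfl (fun z _ => ?_)
  rw [length_eq_mul k (X.presheaf.stalk z.1) (Q.presheaf.stalk z.1), length_residueField]

end Geom

end Groth.Agent.Lib.Helper23.FinSupp
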