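import Groth.Agent.Lib.Helper23.RedDeltaE
import Groth.Agent.Lib.Helper23.FinSuppB
import Groth.Agent.Lib.Helper23.CurveTopRed
import Groth.Agent.Lib.Helper23.CurveD
import Groth.Agent.Lib.Helper23.PushIso
import Groth.Agent.Lib.Helper23.FBC5
import Groth.Agent.Lib.Helper7.DegPull
import Groth.Agent.Lib.Helper7.HilbFam

/-!
# RedDeltaF: `χ(O_{X'}) = χ(O_X) + Σ [κ(x):k] δ_x` for the normalization of a reduced proper curve
-/
set_option autoImplicit false
set_option linter.style.haveILetI false
universe u
open CategoryTheory CategoryTheory.Limits Opposite TopologicalSpace AlgebraicGeometry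
open Scheme.Modules
open Groth.Agent.Lib.Helper3 Groth.Agent.Lib.Helper3.QCSec
open Groth.Agent.Lib.Helper23.T2 Groth.Agent.Lib.Helper23.Curve

noncomputable section

namespace Groth.Agent.Lib.Helper23.RedDelta

attribute [local instance] Curv2.resAlgebra

/-- a module vanishing on an open has zero stalks there -/
theorem subsingleton_stalk_of_vanishesOn' {X : Scheme.{u}} (K : X.Modules) (V : X.Opens)
    (hK : VanishesOn K V) (x : X) (hx : x ∈ V) : Subsingleton (K.presheaf.stalk x) := by
  refine ⟨fun a b => ?_⟩
  have h0 : ∀ c : K.presheaf.stalk x, c = 0 := by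
    intro c
    obtain ⟨W, hxW, s, rfl⟩ := TopCat.Presheaf.exists_germ_eq K.presheaf c
    have hle : W ⊓ V ≤ W := inf_le_left
    have h1 : res K hle s = 0 := hK (W ⊓ V) inf_le_right _
    have h2 := TopCat.Presheaf.germ_res_apply K.presheaf (homOfLE hle) x ⟨hxW, hx⟩ s
    rw [← h2]
    change K.presheaf.germ (W ⊓ V) x ⟨hxW, hx⟩ (res K hle s) = 0
    rw [h1, map_zero]
  rw [h0 a, h0 b]

section Main

variable (k : Type u) [Field k] (X : Scheme.{u}) [X.Over (Spec (CommRingCat.of k))]
  [IsProper (X ↘ Spec (CommRingCat.of k))] [IsReduced X]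
  (hequi : ∀ Z ∈ irreducibleComponents (X : Type u), topologicalKrullDim Z = 1)
  (X' : Scheme.{u}) [X'.Over (Spec (CommRingCat.of k))] (π : X' ⟶ X)
  (hf : π ≫ (X ↘ Spec (CommRingCat.of k)) = X' ↘ Spec (CommRingCat.of k))
  [IsFinite π] (hX' : Pi1.IsNormalScheme X')
  (U : X.Opens) (hU : Dense (U : Set X)) (hU' : Dense ((π ⁻¹ᵁ U : X'.Opens) : Set X'))
  [IsIso (π ∣_ U)]

include hf in
theorem euler_push :
    Curv2.euler k X' (Coh.structureModule X') =
      Curv2.euler k X ((Scheme.Modules.pushforward π).obj (Coh.structureModule X')) := by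
  haveI := isNoetherian_of_isProper k X
  haveI : (Coh.structureModule X').IsQuasicoherent := QCOpen.isQuasicoherent_structureModule _
  unfold Curv2.euler
  refine finsum_congr (fun p => ?_)
  obtain ⟨e⟩ := Groth.Agent.Lib.Helper23.PushIso.nonempty_equiv π k hf
    (fun W hW => Groth.Agent.Lib.Helper23.FBC.isAffineHom_ι_of_isSeparated k W hW) p
    (Coh.structureModule X')
  rw [e.finrank_eq]

open Classical in
include hequi hf hX' hU hU' in
theorem euler_normalization :
    Curv2.euler k X' (Coh.structureModule X') =
      Curv2.euler k X (Coh.structureModule X) +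
        ∑ᶠ x : X, (if IsClosed ({x} : Set X) then
          ((Module.finrank k (X.residueField x) : ℤ) *
            ((Curv2.deltaInv (X.presheaf.stalk x)).toNat : ℤ)) else 0) := by
  haveI := isNoetherian_of_isProper k X
  haveI hmono := mono_unitToPush π hX' U hU hU'
  -- the exact sequence
  let T : ShortComplex X.Modules :=
    ShortComplex.mk (ClSub.unitToPush π) (cokernel.π (ClSub.unitToPush π))
      (cokernel.condition _)
  have hT : T.ShortExact :=
    { exact := ShortComplex.exact_cokernel (ClSub.unitToPush π)
      mono_f := inferInstanceAs (Mono (ClSub.unitToPush π))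
      epi_g := inferInstanceAs (Epi (cokernel.π (ClSub.unitToPush π))) }
  have hc1 : Coh.IsCoh (Coh.structureModule X) := isCoh_structureModule X
  have hc2 : Coh.IsCoh ((Scheme.Modules.pushforward π).obj (Coh.structureModule X')) :=
    Groth.Agent.Lib.Helper7.DegPull.isCoh_push_structure π
  have hc3 : Coh.IsCoh (cokernel (ClSub.unitToPush π)) :=
    Groth.Agent.Lib.Helper7.HilbFam.isCoh_cokernel _ hc1 hc2
  have hadd := euler_additive k X T hT hc1 hc2 hc3
  rw [euler_push k X X' π hf]
  change Curv2.euler k X ((Scheme.Modules.pushforward π).obj (Coh.structureModule X')) =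
    Curv2.euler k X (Coh.structureModule X) + _ at hadd
  rw [hadd]
  congr 1
  -- the support
  obtain ⟨hZfin, hZcl⟩ := finite_compl_of_dense (X := X) (fun Y hY => (hequi Y hY).le)
    (U : Set X) U.isOpen hU
  let Z : Finset X := hZfin.toFinset
  have hZmem : ∀ z, z ∈ Z ↔ z ∉ U := fun z => by
    rw [Set.Finite.mem_toFinset]
    rfl
  have hZcl' : ∀ z ∈ Z, IsClosed ({z} : Set X) := fun z hz => hZcl z ((hZmem z).1 hz)
  have hvan : VanishesOn (cokernel (ClSub.unitToPush π)) U := vanishesOn_cokernel π U
  have hQ : ∀ V : X.Opens, Disjoint (V : Set X) (Z : Set X) →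
      ∀ t : Γ(cokernel (ClSub.unitToPush π), V), t = 0 := by
    intro V hV t
    apply hvan V _ t
    intro x hxV
    by_contra hxU
    exact Set.disjoint_left.1 hV hxV (Finset.mem_coe.2 ((hZmem x).2 hxU))
  have hflq : IsFlq (cokernel (ClSub.unitToPush π)) :=
    isFlq_of_vanishing_off_finite _ (Z : Set X) Z.finite_toSet
      (fun z hz => hZcl' z (Finset.mem_coe.1 hz)) hQ
  rw [euler_eq_finrank_of_isFlq k X _ hc3 hflq]
  -- lengths
  have hlen := Groth.Agent.Lib.Helper23.FinSupp.length_H0_eq_sum k
    (cokernel (ClSub.unitToPush π)) Z hZcl' hQ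
  haveI hfinH := finite_HH k (cokernel (ClSub.unitToPush π)) hc3 0
  rw [Module.length_eq_finrank] at hlen
  have hδ : ∀ x : X, Module.length (X.presheaf.stalk x)
      ((cokernel (ClSub.unitToPush π)).presheaf.stalk x) =
      Curv2.deltaInv (X.presheaf.stalk x) := length_stalk_cokernel π hX' U hU hU'
  simp only [hδ] at hlen
  -- each term is finite
  have hterm : ∀ z ∈ Z, Curv2.deltaInv (X.presheaf.stalk z) *
      Module.length k (X.residueField z) ≠ ⊤ := by
    intro z hz
    have := ENat.sum_ne_top.1 (hlen ▸ ENat.natCast_ne_top _) z hz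
    exact this
  have hconv : ∀ z ∈ Z, (Curv2.deltaInv (X.presheaf.stalk z) *
      Module.length k (X.residueField z)).toNat =
      Module.finrank k (X.residueField z) * (Curv2.deltaInv (X.presheaf.stalk z)).toNat := by
    intro z hz
    rw [ENat.toNat_mul, mul_comm]
    by_cases h0 : Curv2.deltaInv (X.presheaf.stalk z) = 0
    · rw [h0]
      simp
    · congr 1
      have hne : Module.length k (X.residueField z) ≠ ⊤ := by
        intro htop
        apply hterm z hz
        rw [htop]
        exact ENat.mul_top h0
      have hfl : IsFiniteLength k (X.residueField z) := Module.length_ne_top_iff.1 hne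
      haveI : _root_.IsNoetherian k (X.residueField z) :=
        (isFiniteLength_iff_isNoetherian_isArtinian.1 hfl).1
      haveI : Module.Finite k (X.residueField z) := inferInstance
      rw [Module.length_eq_finrank]
      exact ENat.toNat_natCast _
  have hnat : Module.finrank k (Coh.HH X (cokernel (ClSub.unitToPush π)) 0) =
      ∑ z ∈ Z, Module.finrank k (X.residueField z) *
        (Curv2.deltaInv (X.presheaf.stalk z)).toNat := by
    have h1 := congrArg ENat.toNat hlen
    rw [ENat.toNat_natCast, ENat.toNat_sum hterm] at h1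
    rw [h1]
    exact Finset.sum_congr rfl hconv
  -- the finsum
  have hsupp : (Function.support fun x : X => (if IsClosed ({x} : Set X) then
      ((Module.finrank k (X.residueField x) : ℤ) *
        ((Curv2.deltaInv (X.presheaf.stalk x)).toNat : ℤ)) else 0)) ⊆ (Z : Set X) := by
    intro x hx
    rw [Function.mem_support] at hx
    rw [Finset.mem_coe, hZmem]
    intro hxU
    apply hx
    haveI := subsingleton_stalk_of_vanishesOn' _ U hvan x hxU
    have h0 : Curv2.deltaInv (X.presheaf.stalk x) = 0 := by
      rw [← hδ x]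
      exact Module.length_eq_zero
    rw [h0]
    simp
  rw [finsum_eq_sum_of_support_subset _ hsupp, hnat, Nat.cast_sum]
  refine Finset.sum_congr rfl (fun z hz => ?_)
  rw [if_pos (hZcl' z hz), Nat.cast_mul]

end Main

end Groth.Agent.Lib.Helper23.RedDelta
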