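import Groth.Agent.Lib.Helper23.NodalGlueA
import Groth.Agent.Lib.Helper23.PiZeroH0
import Groth.Agent.Lib.Helper23.RedDeltaF
import Groth.Agent.Lib.Helper23.CurveGen
import Groth.Agent.Lib.Helper9.TopDim

/-!
# NodalGlueB: the genus formula for an at-worst-nodal curve over an algebraically closed field
-/
set_option autoImplicit false
set_option linter.style.haveILetI false
universe u
open AlgebraicGeometry CategoryTheory CategoryTheory.Limits TopologicalSpace Opposite
open Groth.Agent.Lib.Helper3 Groth.Agent.Lib.Helper3.QCSec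
open Groth.Agent.Lib.Helper23.T2 Groth.Agent.Lib.Helper23.Curve

noncomputable section

namespace Groth.Agent.Lib.Helper23.NodalGlue

open Groth.Agent.Lib.Helper12 Groth.Agent.Lib.Helper12.SchemeDimFT

attribute [local instance] Curv2.resAlgebra

section Gen

open Classical in
theorem finsum_ite_eq_natCard {α : Type*} (p : α → Prop) :
    (∑ᶠ x : α, if p x then (1 : ℤ) else 0) = (Nat.card {x // p x} : ℤ) := by
  by_cases hfin : {x | p x}.Finite
  · have hsupp : (Function.support fun x : α => if p x then (1 : ℤ) else 0) ⊆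
        (hfin.toFinset : Set α) := by
      intro x hx
      rw [Function.mem_support] at hx
      rw [Finset.mem_coe, Set.Finite.mem_toFinset]
      by_contra h
      exact hx (if_neg h)
    rw [finsum_eq_sum_of_support_subset _ hsupp]
    have h1 : ∀ x ∈ hfin.toFinset, (if p x then (1 : ℤ) else 0) = 1 := fun x hx =>
      if_pos ((Set.Finite.mem_toFinset hfin).1 hx)
    rw [Finset.sum_congr rfl h1, Finset.sum_const, nsmul_eq_mul, mul_one]
    congr 1
    rw [← Set.ncard_eq_toFinset_card _ hfin]
    exact (Nat.card_coe_set_eq _).symm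
  · have hinf : (Function.support fun x : α => if p x then (1 : ℤ) else 0).Infinite := by
      have : (Function.support fun x : α => if p x then (1 : ℤ) else 0) = {x | p x} := by
        ext x
        simp
      rw [this]
      exact hfin
    rw [finsum_of_infinite_support hinf]
    haveI : Infinite {x // p x} := Set.infinite_coe_iff.2 hfin
    rw [Nat.card_eq_zero_of_infinite]
    rfl

/-- `χ = h⁰ − h¹` when the higher cohomology vanishes -/
theorem euler_eq_h0_sub_h1' (k : Type u) [Field k] (X : Scheme.{u})
    [X.Over (Spec (CommRingCat.of k))] [IsProper (X ↘ Spec (CommRingCat.of k))]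
    (M : X.Modules) (hM : Coh.IsCoh M) (hd : ∀ n : ℕ, Subsingleton (Coh.HH X M (n + 2))) :
    Curv2.euler k X M =
      (Module.finrank k (Coh.HH X M 0) : ℤ) - (Module.finrank k (Coh.HH X M 1) : ℤ) := by
  have hd' : ∀ p : ℕ, 2 ≤ p → Subsingleton (Coh.HH X M p) := by
    intro p hp
    obtain ⟨q, rfl⟩ : ∃ q, p = q + 2 := ⟨p - 2, by omega⟩
    exact hd q
  rw [euler_eq_sum k X M hM 2 hd']
  haveI := hd' 2 le_rfl
  rw [Finset.sum_range_succ, Finset.sum_range_succ, Finset.sum_range_one,
    EulerLES.len_of_subsingleton (R := k) (M := Coh.HH X M 2),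
    finrank_eq_len k X M hM 0, finrank_eq_len k X M hM 1]
  simp
  ring

end Gen

variable (k : Type u) [Field k] [IsAlgClosed k] (C : Scheme.{u}) [C.Over (Spec (CommRingCat.of k))]

theorem isIso_bcFst : IsIso (Curv2.bcFst k C (AlgebraicClosure k)) := by
  have hbij : Function.Bijective (algebraMap k (AlgebraicClosure k)) :=
    IsAlgClosed.algebraMap_bijective_of_isIntegral
  haveI : IsIso (CommRingCat.ofHom (algebraMap k (AlgebraicClosure k))) :=
    (ConcreteCategory.isIso_iff_bijective _).mpr hbij
  haveI : IsIso (Spec.map (CommRingCat.ofHom (algebraMap k (AlgebraicClosure k)))) :=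
    inferInstance
  exact inferInstanceAs (IsIso (pullback.fst (C ↘ Spec (CommRingCat.of k))
    (Spec.map (CommRingCat.ofHom (algebraMap k (AlgebraicClosure k))))))

section LFT

variable [LocallyOfFiniteType (C ↘ Spec (CommRingCat.of k))]

/-- the local ring at a node -/
theorem node_stalk (x : C) (hx : Curv2.IsNode k C x) :
    IsReduced (C.presheaf.stalk x) ∧
      (ringKrullDim (C.presheaf.stalk x) = 1 → Curv2.deltaInv (C.presheaf.stalk x) = 1) := by
  obtain ⟨-, xb, rfl, hnode⟩ := hx
  haveI := isIso_bcFst k C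
  haveI : IsLocallyNoetherian C :=
    LocallyOfFiniteType.isLocallyNoetherian (C ↘ Spec (CommRingCat.of k))
  letI ovY : (Curv2.bc k C (AlgebraicClosure k)).Over
      (Spec (CommRingCat.of (AlgebraicClosure k))) := ⟨Curv2.bcSnd k C (AlgebraicClosure k)⟩
  letI algB' := Curv2.stalkAlgebra (AlgebraicClosure k) (Curv2.bc k C (AlgebraicClosure k)) xb
  let e₀ : C.presheaf.stalk ((Curv2.bcFst k C (AlgebraicClosure k)) xb) ≃+*
      (Curv2.bc k C (AlgebraicClosure k)).presheaf.stalk xb :=
    (asIso ((Curv2.bcFst k C (AlgebraicClosure k)).stalkMap xb)).commRingCatIsoToRingEquiv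
  haveI : IsNoetherianRing ((Curv2.bc k C (AlgebraicClosure k)).presheaf.stalk xb) :=
    isNoetherianRing_of_ringEquiv _ e₀
  haveI hred := isReduced_of_isOrdDoublePt (AlgebraicClosure k) _ hnode
  refine ⟨isReduced_of_injective e₀.toRingHom e₀.injective, fun hd => ?_⟩
  rw [DeltaIso.deltaInv_eq_of_ringEquiv e₀]
  refine deltaInv_eq_one_of_isOrdDoublePt (AlgebraicClosure k) _ ?_ ?_ hnode
  · exact NagataLoc.isNagata_of_ringEquiv e₀ (isNagata_stalk k C _)
  · rw [← ringKrullDim_eq_of_ringEquiv e₀]
    exact hd

/-- an at-worst-nodal scheme is reduced -/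
theorem isReduced_of_atWorstNodal [QuasiCompact (C ↘ Spec (CommRingCat.of k))]
    (hC : Curv2.AtWorstNodal k C) : IsReduced C := by
  haveI : CompactSpace C :=
    QuasiCompact.compactSpace_of_compactSpace (C ↘ Spec (CommRingCat.of k))
  haveI : ∀ y : C, _root_.IsReduced (C.presheaf.stalk y) := by
    intro y
    obtain ⟨x, hxy, hxcl⟩ := IsClosed.exists_closed_singleton
      (isClosed_closure (s := ({y} : Set C))) ⟨y, subset_closure rfl⟩
    have hsp : y ⤳ x := specializes_iff_mem_closure.2 hxy
    rcases hC x hxcl with ⟨U, hxU, hsm⟩ | hnode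
    · haveI := hsm
      have hyU : y ∈ U := hsp.mem_open U.isOpen hxU
      haveI := regular_of_smooth_nhd k C y U hyU
      haveI : IsDomain (C.presheaf.stalk y) :=
        Groth.Agent.Lib.Helper9.RegLocal.isDomain_of_isRegularLocalRing _
      infer_instance
    · haveI := (node_stalk k C x hnode).1
      exact isReduced_stalk_of_specializes C hsp
  exact isReduced_of_isReduced_stalk C

open Classical in
/-- the sum of the local contributions is the number of nodes -/
theorem sum_eq_card_nodes [QuasiCompact (C ↘ Spec (CommRingCat.of k))]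
    (hdim : ∀ Z ∈ irreducibleComponents (C : Type u), topologicalKrullDim Z = 1)
    (hC : Curv2.AtWorstNodal k C) :
    (∑ᶠ x : C, (if IsClosed ({x} : Set C) then
      ((Module.finrank k (C.residueField x) : ℤ) *
        ((Curv2.deltaInv (C.presheaf.stalk x)).toNat : ℤ)) else 0)) =
      (Nat.card {x : C // Curv2.IsNode k C x} : ℤ) := by
  rw [← finsum_ite_eq_natCard]
  refine finsum_congr (fun x => ?_)
  by_cases hx : IsClosed ({x} : Set C)
  · rw [if_pos hx, finrank_residueField_eq_one k C x hx]
    have hd := ringKrullDim_stalk_eq_one k C hdim x hx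
    by_cases hn : Curv2.IsNode k C x
    · rw [if_pos hn, (node_stalk k C x hn).2 hd]
      simp
    · rw [if_neg hn]
      rcases hC x hx with ⟨U, hxU, hsm⟩ | hnode
      · haveI := hsm
        rw [deltaInv_eq_zero_of_smooth_nhd k C x U hxU hd]
        simp
      · exact absurd hnode hn
  · rw [if_neg hx, if_neg]
    exact fun hn => hx hn.1

end LFT

section Main

variable [IsProper (C ↘ Spec (CommRingCat.of k))]

/-- **The genus formula for nodal curves.** -/
theorem genus_formula
    (hdim : ∀ Z ∈ irreducibleComponents (C : Type u), topologicalKrullDim Z = 1)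
    (hC : Curv2.AtWorstNodal k C)
    (C' : Scheme.{u}) (π : C' ⟶ C) [IsFinite π] (hC' : Pi1.IsNormalScheme C')
    (U : C.Opens) (hU : Dense (U : Set C)) (hU' : Dense ((π ⁻¹ᵁ U : C'.Opens) : Set C'))
    [IsIso (π ∣_ U)] :
    letI : C'.Over (Spec (CommRingCat.of k)) := ⟨π ≫ (C ↘ (Spec (CommRingCat.of k)))⟩
    (Curv2.genus k C : ℤ) + Nat.card (_root_.ConnectedComponents C') =
      (Curv2.genus k C' : ℤ) + Nat.card {x : C // Curv2.IsNode k C x} +
        Nat.card (_root_.ConnectedComponents C) := by
  haveI hred : IsReduced C := isReduced_of_atWorstNodal k C hC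
  letI ovC' : C'.Over (Spec (CommRingCat.of k)) := ⟨π ≫ (C ↘ Spec (CommRingCat.of k))⟩
  haveI : IsProper (C' ↘ Spec (CommRingCat.of k)) := by
    show IsProper (π ≫ (C ↘ Spec (CommRingCat.of k)))
    infer_instance
  haveI : IsReduced C' := RedDelta.isReduced_of_isNormalScheme hC'
  haveI := isNoetherian_of_isProper k C
  haveI := isNoetherian_of_isProper k C'
  have hE := RedDelta.euler_normalization k C hdim C' π rfl hC' U hU hU'
  rw [sum_eq_card_nodes k C hdim hC] at hE
  have hdimC : topologicalKrullDim C ≤ 1 := by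
    rw [Groth.Agent.Lib.Helper9.topologicalKrullDim_eq_iSup_irreducibleComponents]
    exact iSup₂_le fun Z hZ => (hdim Z hZ).le
  haveI : (Coh.structureModule C).IsQuasicoherent := QCOpen.isQuasicoherent_structureModule _
  haveI : (Coh.structureModule C').IsQuasicoherent := QCOpen.isQuasicoherent_structureModule _
  have h1 := euler_eq_h0_sub_h1' k C _ (isCoh_structureModule C)
    (fun n => CurveGen.subsingleton_HH_of_dim_le_one k C hdimC _ n)
  have hpush : Coh.IsCoh ((Scheme.Modules.pushforward π).obj (Coh.structureModule C')) :=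
    Groth.Agent.Lib.Helper7.DegPull.isCoh_push_structure π
  haveI := hpush.1
  have h2 := euler_eq_h0_sub_h1' k C' _ (isCoh_structureModule C') (fun n => by
    obtain ⟨e⟩ := Groth.Agent.Lib.Helper23.PushIso.nonempty_equiv π k rfl
      (fun W hW => Groth.Agent.Lib.Helper23.FBC.isAffineHom_ι_of_isSeparated k W hW) (n + 2)
      (Coh.structureModule C')
    haveI := CurveGen.subsingleton_HH_of_dim_le_one k C hdimC
      ((Scheme.Modules.pushforward π).obj (Coh.structureModule C')) n
    exact e.toEquiv.subsingleton)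
  rw [PiZeroH0.finrank_H0_eq_card k C] at h1
  rw [PiZeroH0.finrank_H0_eq_card k C'] at h2
  unfold Curv2.genus
  rw [h1, h2] at hE
  linarith

end Main

end Groth.Agent.Lib.Helper23.NodalGlue
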