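import Mathlib
import Groth.Prelude
import Groth.Agent.Lib.Helper23.CurveMulA
import Groth.Agent.Lib.Helper23.NodalGlueB
import Groth.Agent.Lib.Helper23.Inverse
import Groth.Agent.Lib.Helper23.HilbPA
import Groth.Agent.Lib.Helper23.FBC5
import Groth.Agent.Lib.Helper7.NefCoh
import Groth.Agent.Lib.Helper7.HilbCoeff
import Groth.Agent.Lib.Helper7.GGNef
import Groth.Agent.Lib.Helper1.NoCurveAmple
import Groth.Agent.S9514

/-!
# Helper library (helper23): nef invertible modules on proper schemes of dimension one with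
`H¹(O_X) = 0`

`h1_gg_of_nef` : on a proper scheme `X` of dimension `≤ 1` over a field with `H¹(X, O_X) = 0`, a
nef invertible module `L` has `H¹(X, L) = 0` and is globally generated (S16295).
-/

set_option autoImplicit false
set_option linter.unusedSectionVars false
set_option linter.style.haveILetI false
universe u
open CategoryTheory CategoryTheory.Limits AlgebraicGeometry Opposite TopologicalSpace

namespace Groth.Agent.Lib.Helper23.CurveNef

open Groth.Agent.Lib.Helper3 Groth.Agent.Lib.Helper3.QCSec Groth.Agent.Lib.Helper3.InvGen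
  Groth.Agent.Lib.Helper3.InvTensor Groth.Agent.Lib.Helper3.InvMonoidal
  Groth.Agent.Lib.Helper3.FreeBasis Groth.Agent.Lib.Helper7.TwFun
open Groth.Agent.Lib.Helper3.InvAmple
open Groth.Agent.Lib.Helper23.T2 Groth.Agent.Lib.Helper23.CurveMul
open Scheme.Modules

noncomputable section

variable {X : Scheme.{u}}

theorem hom_eq_zero_of_sec {Q : X.Modules} (s : Coh.structureModule X ⟶ Q)
    (h : sec s ⊤ = 0) : s = 0 := by
  apply Scheme.Modules.hom_ext
  intro U
  ext z
  show s.app U (ofFun U (toFun U z)) = (0 : Coh.structureModule X ⟶ Q).app U z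
  rw [app_eq_smul_sec, ← res_sec s (le_top : U ≤ ⊤), h, res_zero, smul_zero]
  rfl

variable (k : Type u) [Field k] [X.Over (Spec (CommRingCat.of k))]
  [IsProper (X ↘ Spec (CommRingCat.of k))]

include k in
/-- right exactness of `H¹` in dimension `≤ 1`. -/
theorem h1_of_epi (hdim : topologicalKrullDim X ≤ 1) {A B : X.Modules} [A.IsQuasicoherent]
    [B.IsQuasicoherent] (p : A ⟶ B) [Epi p] (hA : Subsingleton (Coh.HH X A 1)) :
    Subsingleton (Coh.HH X B 1) := by
  haveI : (kernel p).IsQuasicoherent := QCProps.isQuasicoherent_kernel p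
  let S : ShortComplex X.Modules := ShortComplex.mk (kernel.ι p) p (kernel.condition p)
  haveI : Mono S.f := inferInstanceAs (Mono (kernel.ι p))
  haveI : Epi S.g := inferInstanceAs (Epi p)
  have hS : S.ShortExact :=
    ShortComplex.ShortExact.mk (ShortComplex.exact_of_f_is_kernel S (kernelIsKernel p))
  have hH2 : Subsingleton (Coh.HH X (kernel p) 2) :=
    Groth.Agent.Lib.Helper23.CurveGen.subsingleton_HH_of_dim_le_one k X hdim (kernel p) 0
  exact sub_right S hS 1 hA hH2


include k in
/-- **Nef invertible modules on curves with `H¹(O) = 0`.** -/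
theorem h1_gg_of_nef (hdim : topologicalKrullDim X ≤ 1)
    (h1 : Subsingleton (Coh.HH X (Coh.structureModule X) 1))
    (L : X.Modules) (hL : PicF.IsInvertible L)
    (hnef : ∀ Γ : X.IdealSheafData, IsIntegral Γ.subscheme →
      topologicalKrullDim (Γ.support : Set X) = 1 →
        0 ≤ Curv2.euler k X (CohB1.tensorMod (ClSub.quotMod Γ) L) -
          Curv2.euler k X (ClSub.quotMod Γ)) :
    Subsingleton (Coh.HH X L 1) ∧ Curv2.IsGloballyGenerated L := by
  haveI : IsNoetherian X := Groth.Agent.Lib.Helper23.HilbP.isNoetherian_of_isProper k X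
  have hcL := Groth.Agent.Lib.Helper23.Curve.isCoh_of_isInvertible hL
  haveI := hcL.1
  have hfin := Groth.Agent.Lib.Helper23.Bdd.finite_Γ k L hcL
  let r := Groth.Agent.Lib.Helper23.Bdd.dimΓ k L
  let b := Groth.Agent.Lib.Helper23.Bdd.basisΓ k L hfin
  let ψ : FlatMod.freeMod X r ⟶ L := Sigma.desc (fun i => globalHom L (b i))
  have hcP := Groth.Agent.Lib.Helper23.Dev.isCoh_freeMod X r
  haveI := hcP.1
  obtain ⟨-, hcQ⟩ := Groth.Agent.S9514.result X hcP hcL ψ
  haveI := hcQ.1
  -- global sections die in the cokernel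
  have hπ : ∀ i, (cokernel.π ψ).app ⊤ (b i) = 0 := by
    intro i
    have h1 : globalHom L (b i) ≫ cokernel.π ψ = 0 := by
      have : globalHom L (b i) =
          Sigma.ι (fun _ : Fin r => Coh.structureModule X) i ≫ ψ :=
        (Sigma.ι_desc (fun i => globalHom L (b i)) i).symm
      rw [this, Category.assoc, cokernel.condition, comp_zero]
    have h2 := congrArg (fun g => sec g ⊤) h1
    simp only [sec_comp, sec_globalHom, res_self] at h2
    exact h2
  have hπall : ∀ σ : Γ(L, ⊤), (cokernel.π ψ).app ⊤ σ = 0 := by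
    intro σ
    letI := Groth.Agent.Lib.Helper23.Bdd.kModule k L
    rw [← Groth.Agent.Lib.Helper23.Bdd.comb_repr k L hfin σ]
    unfold Groth.Agent.Lib.Helper23.Bdd.comb
    rw [map_sum]
    refine Finset.sum_eq_zero (fun i _ => ?_)
    rw [Scheme.Modules.Hom.app_smul, hπ i, smul_zero]
  -- `H¹(O^r) = 0`
  have hP1 : Subsingleton (Coh.HH X (FlatMod.freeMod X r) 1) :=
    subsingleton_HH_of_iso (SecTwist.unitorR (FlatMod.freeMod X r)).symm 1
      (subsingleton_free_tensor r (Coh.structureModule X) 1 h1)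
  -- the image of `ψ`
  let Q : X.Modules := cokernel ψ
  haveI : (Abelian.image ψ).IsQuasicoherent := QCProps.isQuasicoherent_kernel (cokernel.π ψ)
  have hI1 : Subsingleton (Coh.HH X (Abelian.image ψ) 1) :=
    h1_of_epi k hdim (Abelian.factorThruImage ψ) hP1
  let S₂ : ShortComplex X.Modules :=
    ShortComplex.mk (kernel.ι (cokernel.π ψ)) (cokernel.π ψ) (kernel.condition _)
  haveI : Mono S₂.f := inferInstanceAs (Mono (kernel.ι (cokernel.π ψ)))
  haveI : Epi S₂.g := inferInstanceAs (Epi (cokernel.π ψ))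
  have hS₂ : S₂.ShortExact :=
    ShortComplex.ShortExact.mk (ShortComplex.exact_of_f_is_kernel S₂ (kernelIsKernel _))
  have hI1' : Subsingleton (Coh.HH X S₂.X₁ 1) := hI1
  -- `H⁰(Q) = 0`
  have hQ0 : Subsingleton (Coh.HH X Q 0) := by
    refine subsingleton_of_forall_eq 0 fun q => ?_
    obtain ⟨y, hy⟩ := exact₃ S₂ hS₂ 0 q (@Subsingleton.elim _ hI1' _ _)
    apply (H0equiv Q).injective
    rw [← hy, H0equiv_naturality, map_zero]
    exact hπall _
  -- the inverse of `L`
  obtain ⟨M, hM, ⟨e⟩⟩ := Groth.Agent.Lib.Helper23.Inverse.exists_isInverseOf hL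
  let Q' : X.Modules := CohB1.tensorMod Q M
  have hcQ' : Coh.IsCoh Q' := Groth.Agent.Lib.Helper23.HilbP.isCoh_tensor_inv X hM hcQ
  haveI := hcQ'.1
  have hepiM : Epi ((twR M).map (cokernel.π ψ)) := Groth.Agent.Lib.Helper23.Twist.epi_tw hM _
  let π' : Coh.structureModule X ⟶ Q' := e.inv ≫ (twR M).map (cokernel.π ψ)
  haveI : Epi π' := @epi_comp _ _ _ _ _ e.inv _ ((twR M).map (cokernel.π ψ)) hepiM
  haveI : (Coh.structureModule X).IsQuasicoherent :=
    (Groth.Agent.Lib.Helper23.T2.isCoh_structureModule X).1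
  have hQ'1 : Subsingleton (Coh.HH X Q' 1) := h1_of_epi k hdim π' h1
  -- Euler characteristics
  have hd1 : topologicalKrullDim X ≤ ((1 : ℕ) : WithBot ℕ∞) := by exact_mod_cast hdim
  have hsupp := Groth.Agent.Lib.Helper7.HilbCoeff.dim_support_le X 1 hd1 Q'
  have hineq := Groth.Agent.Lib.Helper7.NefCoh.nef_coh k X 1 hd1 L hL hnef Q' hcQ' hsupp
  let eQ : CohB1.tensorMod Q' L ≅ Q := cancelIso M L (braid M L ≪≫ e) Q
  rw [Groth.Agent.Lib.Helper23.FBC.euler_eq_of_iso' k eQ,
    Groth.Agent.Lib.Helper23.NodalGlue.euler_eq_h0_sub_h1' k X Q' hcQ'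
      (fun n => Groth.Agent.Lib.Helper23.CurveGen.subsingleton_HH_of_dim_le_one k X hdim Q' n),
    Groth.Agent.Lib.Helper23.NodalGlue.euler_eq_h0_sub_h1' k X Q hcQ
      (fun n => Groth.Agent.Lib.Helper23.CurveGen.subsingleton_HH_of_dim_le_one k X hdim Q n)]
    at hineq
  have e1 : Module.finrank k (Coh.HH X Q' 1) = 0 := Module.finrank_zero_of_subsingleton
  have e2 : Module.finrank k (Coh.HH X Q 0) = 0 := Module.finrank_zero_of_subsingleton
  rw [e1, e2] at hineq
  have e3 : Module.finrank k (Coh.HH X Q' 0) = 0 := by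
    have := hineq
    push_cast at this
    omega
  have e4 : Module.finrank k (Coh.HH X Q 1) = 0 := by
    have := hineq
    push_cast at this
    omega
  haveI : Module.Finite k (Coh.HH X Q' 0) := finite_HH k Q' hcQ' 0
  haveI : Module.Finite k (Coh.HH X Q 1) := finite_HH k Q hcQ 1
  have hQ'0 : Subsingleton (Coh.HH X Q' 0) := Module.finrank_zero_iff.mp e3
  have hQ1 : Subsingleton (Coh.HH X Q 1) := Module.finrank_zero_iff.mp e4
  refine ⟨?_, ?_⟩
  · -- `H¹(L) = 0`
    refine subsingleton_of_forall_eq 0 fun x => ?_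
    obtain ⟨y, hy⟩ := exact₂ S₂ hS₂ 1 x (@Subsingleton.elim _ hQ1 _ _)
    rw [← hy, @Subsingleton.elim _ hI1' y 0, map_zero]
  · -- global generation
    have hπ'0 : π' = 0 := by
      apply hom_eq_zero_of_sec
      have : Subsingleton (Γm Q') := (H0equiv Q').symm.injective.subsingleton
      exact @Subsingleton.elim _ this _ _
    have h2 : (twR M).map (cokernel.π ψ) = 0 := by
      have h6 : e.hom ≫ π' = 0 := by rw [hπ'0, comp_zero]
      have h7 : e.hom ≫ π' = (twR M).map (cokernel.π ψ) := e.hom_inv_id_assoc _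
      exact h7.symm.trans h6
    have h3 : cokernel.π ψ = 0 := by
      have hn := (cancelNat M L (braid M L ≪≫ e)).hom.naturality (cokernel.π ψ)
      have h4 : (twR M ⋙ twR L).map (cokernel.π ψ) = 0 := by
        change (twR L).map ((twR M).map (cokernel.π ψ)) = 0
        rw [h2, Functor.map_zero]
      rw [h4, zero_comp] at hn
      have h5 : (cancelNat M L (braid M L ≪≫ e)).hom.app L ≫ cokernel.π ψ =
          (cancelNat M L (braid M L ≪≫ e)).hom.app L ≫ 0 := hn.symm.trans comp_zero.symm
      exact (cancel_epi _).1 h5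
    haveI : Epi ψ := Abelian.epi_of_cokernel_π_eq_zero ψ h3
    exact Groth.Agent.Lib.Helper3.SubIdeal.isGloballyGenerated_of_epi_sigma ψ


include k in
/-- conversion of the nefness hypothesis (support form). -/
theorem nef_of_deg_nonneg_supp (L : X.Modules)
    (hnef : ∀ C : X.IdealSheafData, IsIntegral C.subscheme →
      topologicalKrullDim (C.support : Set X) = 1 →
      0 ≤ @Curv2.deg k _ C.subscheme ⟨C.subschemeι ≫ (X ↘ Spec (CommRingCat.of k))⟩
        ((Scheme.Modules.pullback C.subschemeι).obj L) 1) :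
    ∀ Γ : X.IdealSheafData, IsIntegral Γ.subscheme →
      topologicalKrullDim (Γ.support : Set X) = 1 →
        0 ≤ Curv2.euler k X (CohB1.tensorMod (ClSub.quotMod Γ) L) -
          Curv2.euler k X (ClSub.quotMod Γ) := by
  intro Γ hint hdimΓ
  have h := hnef Γ hint hdimΓ
  letI : Γ.subscheme.Over (Spec (CommRingCat.of k)) :=
    ⟨Γ.subschemeι ≫ (X ↘ Spec (CommRingCat.of k))⟩
  have hov : Γ.subscheme ↘ Spec (CommRingCat.of k) =
      Γ.subschemeι ≫ (X ↘ Spec (CommRingCat.of k)) := rfl
  rw [Groth.Agent.Lib.Helper7.GGNef.euler_quotMod_tensor k X Γ hov L]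
  have h0 : Curv2.euler k X (ClSub.quotMod Γ) =
      Curv2.euler k Γ.subscheme (Coh.structureModule Γ.subscheme) :=
    Groth.Agent.Lib.Helper7.GGNef.euler_push k X Γ hov (Coh.structureModule Γ.subscheme)
  rw [h0]
  unfold Curv2.deg at h
  simpa using h

include k in
/-- conversion of the nefness hypothesis (subscheme form). -/
theorem nef_of_deg_nonneg_sub (L : X.Modules)
    (hnef : ∀ J : X.IdealSheafData, IsIntegral J.subscheme →
      topologicalKrullDim J.subscheme = 1 →
      0 ≤ @Curv2.deg k _ J.subscheme ⟨J.subschemeι ≫ (X ↘ Spec (CommRingCat.of k))⟩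
        ((Scheme.Modules.pullback J.subschemeι).obj L) 1) :
    ∀ Γ : X.IdealSheafData, IsIntegral Γ.subscheme →
      topologicalKrullDim (Γ.support : Set X) = 1 →
        0 ≤ Curv2.euler k X (CohB1.tensorMod (ClSub.quotMod Γ) L) -
          Curv2.euler k X (ClSub.quotMod Γ) :=
  nef_of_deg_nonneg_supp k L (fun C hC hd => hnef C hC
    (by rw [Groth.Agent.Lib.Helper1.NoCurveAmple.dim_subscheme_eq, hd]))

include k in
/-- `h⁰(L) = h⁰(O) + deg L` when `H¹(L) = H¹(O) = 0` in dimension `≤ 1`. -/
theorem finrank_h0_eq (hdim : topologicalKrullDim X ≤ 1)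
    (h1 : Subsingleton (Coh.HH X (Coh.structureModule X) 1))
    (L : X.Modules) (hL : PicF.IsInvertible L) (hL1 : Subsingleton (Coh.HH X L 1)) :
    (Module.finrank k (Coh.HH X L 0) : ℤ) =
      Module.finrank k (Coh.HH X (Coh.structureModule X) 0) + Curv2.deg k X L 1 := by
  haveI : IsNoetherian X := Groth.Agent.Lib.Helper23.HilbP.isNoetherian_of_isProper k X
  have hcL := Groth.Agent.Lib.Helper23.Curve.isCoh_of_isInvertible hL
  have hcO := Groth.Agent.Lib.Helper23.T2.isCoh_structureModule X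
  haveI := hcL.1
  haveI := hcO.1
  unfold Curv2.deg
  rw [Groth.Agent.Lib.Helper23.NodalGlue.euler_eq_h0_sub_h1' k X L hcL
      (fun n => Groth.Agent.Lib.Helper23.CurveGen.subsingleton_HH_of_dim_le_one k X hdim L n),
    Groth.Agent.Lib.Helper23.NodalGlue.euler_eq_h0_sub_h1' k X _ hcO
      (fun n => Groth.Agent.Lib.Helper23.CurveGen.subsingleton_HH_of_dim_le_one k X hdim _ n)]
  have e1 : Module.finrank k (Coh.HH X L 1) = 0 := Module.finrank_zero_of_subsingleton
  have e2 : Module.finrank k (Coh.HH X (Coh.structureModule X) 1) = 0 :=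
    Module.finrank_zero_of_subsingleton
  rw [e1, e2]
  push_cast
  ring

end

end Groth.Agent.Lib.Helper23.CurveNef
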