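import Groth.Agent.Lib.Helper23.CurveD
import Groth.Agent.Lib.Helper3.FreeBasis
import Groth.Agent.Lib.Helper3.SecLoc
import Groth.Agent.Lib.Helper3.QCOpen
import Groth.Agent.Lib.Helper17.LocConstRank

/-!
# CurveE: ranks and degrees of locally free modules: additivity in short exact sequences
-/
set_option autoImplicit false
universe u
open CategoryTheory CategoryTheory.Limits Opposite TopologicalSpace AlgebraicGeometry
open Groth.Agent.Lib.Helper3 Groth.Agent.Lib.Helper3.QCSec Groth.Agent.Lib.Helper3.InvGen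
open Groth.Agent.Lib.Helper23.T2

noncomputable section

namespace Groth.Agent.Lib.Helper23.Curve

section Alg

variable {R : Type*} [CommRing R] [Nontrivial R]

/-- rank additivity for a short exact sequence of finite free modules over a nontrivial
commutative ring. -/
theorem finrank_of_exact {M₁ M₂ M₃ : Type*} [AddCommGroup M₁] [AddCommGroup M₂] [AddCommGroup M₃]
    [Module R M₁] [Module R M₂] [Module R M₃]
    [Module.Free R M₁] [Module.Finite R M₁] [Module.Free R M₃] [Module.Finite R M₃]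
    (f : M₁ →ₗ[R] M₂) (g : M₂ →ₗ[R] M₃) (hf : Function.Injective f) (hg : Function.Surjective g)
    (hfg : Function.Exact f g) :
    Module.finrank R M₂ = Module.finrank R M₁ + Module.finrank R M₃ := by
  obtain ⟨s, hs⟩ := Module.projective_lifting_property g LinearMap.id hg
  let e := ((hfg.splitSurjectiveEquiv hf) ⟨s, hs⟩).1
  rw [e.finrank_eq, Module.finrank_prod]

end Alg

variable {X : Scheme.{u}}

lemma isCoh_of_isFinLocFreeOfRank {E : X.Modules} {n : ℕ} (hE : FlatMod.IsFinLocFreeOfRank n E) :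
    Coh.IsCoh E := by
  have hq := SecLoc.isQuasicoherent_of_isFinLocFreeOfRank hE
  haveI : E.IsQuasicoherent := hq
  refine ⟨hq, Groth.Agent.Lib.Helper17.LocConstRank.isFiniteType_of_isFinLocFree E ?_⟩
  intro x
  obtain ⟨U, hxU, hU⟩ := hE x
  exact ⟨U, n, hxU, hU⟩

/-- sections with a basis are free of the given rank. -/
lemma free_of_isBasisAt {M : X.Modules} {V : X.Opens} {n : ℕ} {e : Fin n → Γ(M, V)}
    (he : FreeBasis.IsBasisAt M V e) :
    Nonempty ((Fin n → Γ(X, V)) ≃ₗ[Γ(X, V)] Γ(M, V)) := by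
  refine ⟨LinearEquiv.ofBijective (Fintype.linearCombination Γ(X, V) e) ?_⟩
  have : (⇑(Fintype.linearCombination Γ(X, V) e) : (Fin n → Γ(X, V)) → Γ(M, V)) =
      fun a : Fin n → Γ(X, V) => ∑ i, a i • e i := by
    funext a
    simp [Fintype.linearCombination_apply]
  rw [this]
  exact he

/-- the map on sections as a linear map. -/
def appLin {M N : X.Modules} (φ : M ⟶ N) (V : X.Opens) : Γ(M, V) →ₗ[Γ(X, V)] Γ(N, V) where
  toFun := φ.app V
  map_add' := fun a b => QCExact.app_add φ V a b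
  map_smul' := fun r t => Scheme.Modules.Hom.app_smul φ r t

@[simp] lemma appLin_apply {M N : X.Modules} (φ : M ⟶ N) (V : X.Opens) (t : Γ(M, V)) :
    appLin φ V t = φ.app V t := rfl

/-- **Rank additivity** for short exact sequences of finite locally free modules of constant rank
on a nonempty scheme. -/
theorem rank_additive [Nonempty X] (S : ShortComplex X.Modules) (hS : S.ShortExact)
    {n₁ n₂ n₃ : ℕ} (h₁ : FlatMod.IsFinLocFreeOfRank n₁ S.X₁)
    (h₂ : FlatMod.IsFinLocFreeOfRank n₂ S.X₂) (h₃ : FlatMod.IsFinLocFreeOfRank n₃ S.X₃) :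
    n₂ = n₁ + n₃ := by
  obtain ⟨x⟩ : Nonempty X := inferInstance
  obtain ⟨U₁, e₁, hx₁, hb₁⟩ := FreeBasis.isFinLocFreeOfRank_iff.1 h₁ x
  obtain ⟨U₂, e₂, hx₂, hb₂⟩ := FreeBasis.isFinLocFreeOfRank_iff.1 h₂ x
  obtain ⟨U₃, e₃, hx₃, hb₃⟩ := FreeBasis.isFinLocFreeOfRank_iff.1 h₃ x
  obtain ⟨V, hV, hxV, hVU⟩ := Opens.isBasis_iff_nbhd.mp X.isBasis_affineOpens
    (show x ∈ U₁ ⊓ U₂ ⊓ U₃ from ⟨⟨hx₁, hx₂⟩, hx₃⟩)
  have hV' : IsAffineOpen V := hV
  haveI : Nonempty V := ⟨⟨x, hxV⟩⟩
  haveI : S.X₁.IsQuasicoherent := SecLoc.isQuasicoherent_of_isFinLocFreeOfRank h₁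
  haveI := hS.mono_f
  obtain ⟨E₁⟩ := free_of_isBasisAt (hb₁ V (hVU.trans (inf_le_left.trans inf_le_left)))
  obtain ⟨E₂⟩ := free_of_isBasisAt (hb₂ V (hVU.trans (inf_le_left.trans inf_le_right)))
  obtain ⟨E₃⟩ := free_of_isBasisAt (hb₃ V (hVU.trans inf_le_right))
  haveI : Module.Free Γ(X, V) Γ(S.X₁, V) := Module.Free.of_equiv E₁
  haveI : Module.Finite Γ(X, V) Γ(S.X₁, V) := Module.Finite.equiv E₁
  haveI : Module.Free Γ(X, V) Γ(S.X₃, V) := Module.Free.of_equiv E₃
  haveI : Module.Finite Γ(X, V) Γ(S.X₃, V) := Module.Finite.equiv E₃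
  have key := finrank_of_exact (appLin S.f V) (appLin S.g V)
    (QCExact.injective_sections S.f V)
    (QCExact.surjective_app_of_isAffineOpen S hS hV')
    (fun y => ⟨fun hy => by
        obtain ⟨z, hz⟩ := QCExact.exact_sections S hS.exact V y hy
        exact ⟨z, hz⟩, fun ⟨z, hz⟩ => by
      rw [← hz]; exact QCExact.app_f_g_apply S V z⟩)
  rw [← E₁.finrank_eq, ← E₂.finrank_eq, ← E₃.finrank_eq] at key
  simpa using key

lemma isZero_of_isEmpty [IsEmpty X] (F : X.Modules) : IsZero F :=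
  ModBasis.isZero_of_zero_on_basis F (fun _ x _ => isEmptyElim x)

section Deg

variable (k : Type u) [Field k] (X : Scheme.{u}) [X.Over (Spec (CommRingCat.of k))]
  [IsProper (X ↘ Spec (CommRingCat.of k))]

lemma euler_eq_zero_of_isZero (Z : X.Modules) (hZ : IsZero Z) : Curv2.euler k X Z = 0 := by
  let S : ShortComplex X.Modules := ShortComplex.mk (𝟙 Z) (0 : Z ⟶ Z) (by simp)
  have hS : S.ShortExact :=
    { exact := S.exact_of_isZero_X₂ hZ
      mono_f := inferInstanceAs (Mono (𝟙 Z))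
      epi_g := ⟨fun _ _ _ => hZ.eq_of_src _ _⟩ }
  have hc := (⟨QCOpen.isQuasicoherent_of_isZero hZ, QCOpen.isFiniteType_of_isZero hZ⟩ : Coh.IsCoh Z)
  have h := euler_additive k X S hS hc hc hc
  change Curv2.euler k X Z = Curv2.euler k X Z + Curv2.euler k X Z at h
  linarith

/-- **Degree additivity** for short exact sequences of finite locally free modules. -/
theorem deg_additive (S : ShortComplex X.Modules) (hS : S.ShortExact)
    (n₁ n₂ n₃ : ℕ) (h₁ : FlatMod.IsFinLocFreeOfRank n₁ S.X₁)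
    (h₂ : FlatMod.IsFinLocFreeOfRank n₂ S.X₂) (h₃ : FlatMod.IsFinLocFreeOfRank n₃ S.X₃) :
    Curv2.deg k X S.X₂ n₂ = Curv2.deg k X S.X₁ n₁ + Curv2.deg k X S.X₃ n₃ := by
  unfold Curv2.deg
  rcases isEmpty_or_nonempty X with hX | hX
  · rw [euler_eq_zero_of_isZero k X _ (isZero_of_isEmpty S.X₁),
      euler_eq_zero_of_isZero k X _ (isZero_of_isEmpty S.X₂),
      euler_eq_zero_of_isZero k X _ (isZero_of_isEmpty S.X₃),
      euler_eq_zero_of_isZero k X _ (isZero_of_isEmpty (Coh.structureModule X))]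
    simp
  · have hr := rank_additive S hS h₁ h₂ h₃
    have he := euler_additive k X S hS (isCoh_of_isFinLocFreeOfRank h₁)
      (isCoh_of_isFinLocFreeOfRank h₂) (isCoh_of_isFinLocFreeOfRank h₃)
    rw [he, hr]
    push_cast
    ring

end Deg

end Groth.Agent.Lib.Helper23.Curve
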