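import Mathlib
import Groth.Prelude.Def_WeilCoh

/-!
# Formal consequences of the axioms of a Weil cohomology theory (helper23)

* `pairing_apply` : the Poincaré pairing is `(a, b) ↦ tr (a * b)`.
* `tr_push_mul` : the defining property `tr Y (f_* a * β) = tr X (a * f^* β)` of the push-forward.
* `eq_of_forall_tr_mul_eq` : nondegeneracy of the Poincaré pairing in complementary degrees.
-/

universe u v w

open AlgebraicGeometry CategoryTheory

namespace Groth.Agent.Lib.Helper23.WeilCohBasic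

variable {k : Type u} [Field k] {P : ObjectProperty (Over (Spec (CommRingCat.of k)))}
variable {K : Type v} [Field K] (T : WeilCoh.TheoryOn.{u, v, w} k P K)

theorem pairing_apply {A : Type w} [Ring A] [Algebra K A] (S S' : Submodule K A) (t : A →ₗ[K] K)
    (x : S) (y : S') : WeilCoh.pairing K S S' t x y = t ((x : A) * (y : A)) := rfl

theorem pushFunctional_apply {X Y : P.FullSubcategory} (f : X ⟶ Y) (i : ℤ) (a : T.gr X i)
    (β : T.gr Y (2 * (WeilCoh.dim X.obj.left : ℤ) - i)) :
    T.pushFunctional f i a β = T.tr X ((a : T.H X) * T.pull f (β : T.H Y)) := rfl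

/-- The defining property of the push-forward. -/
theorem tr_push_mul' {X Y : P.FullSubcategory} (f : X ⟶ Y) (i : ℤ) (a : T.gr X i)
    (β : T.gr Y (2 * (WeilCoh.dim X.obj.left : ℤ) - i)) :
    T.tr Y ((T.push f i a : T.H Y) * (β : T.H Y)) = T.tr X ((a : T.H X) * T.pull f (β : T.H Y)) := by
  have := T.duality Y (i + 2 * (WeilCoh.dim Y.obj.left : ℤ) - 2 * (WeilCoh.dim X.obj.left : ℤ))
    (2 * (WeilCoh.dim X.obj.left : ℤ) - i) (by omega)
  rw [← pushFunctional_apply, ← pairing_apply (K := K)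
    (T.gr Y (i + 2 * (WeilCoh.dim Y.obj.left : ℤ) - 2 * (WeilCoh.dim X.obj.left : ℤ)))
    (T.gr Y (2 * (WeilCoh.dim X.obj.left : ℤ) - i)) (T.tr Y)]
  unfold WeilCoh.TheoryOn.push
  simp only [LinearMap.coe_comp, LinearEquiv.coe_coe, Function.comp_apply]
  rw [LinearMap.apply_symm_toPerfPair_self]

/-- The defining property of the push-forward, with the degree of `β` given up to equality. -/
theorem tr_push_mul {X Y : P.FullSubcategory} (f : X ⟶ Y) (i : ℤ) (a : T.gr X i)
    (β : T.H Y) (m : ℤ) (hm : m = 2 * (WeilCoh.dim X.obj.left : ℤ) - i) (hβ : β ∈ T.gr Y m) :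
    T.tr Y ((T.push f i a : T.H Y) * β) = T.tr X ((a : T.H X) * T.pull f β) := by
  subst hm
  exact tr_push_mul' T f i a ⟨β, hβ⟩

/-- Nondegeneracy of the Poincaré pairing. -/
theorem eq_of_forall_tr_mul_eq (Y : P.FullSubcategory) (n m : ℤ)
    (hnm : n + m = 2 * (WeilCoh.dim Y.obj.left : ℤ)) (x y : T.H Y)
    (hx : x ∈ T.gr Y n) (hy : y ∈ T.gr Y n)
    (h : ∀ β ∈ T.gr Y m, T.tr Y (x * β) = T.tr Y (y * β)) : x = y := by
  have := T.duality Y n m hnm
  have hinj := (LinearMap.IsPerfPair.bijective_left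
    (WeilCoh.pairing K (T.gr Y n) (T.gr Y m) (T.tr Y))).1
  have hxy : (⟨x, hx⟩ : T.gr Y n) = ⟨y, hy⟩ := by
    apply hinj
    ext β
    exact h β.1 β.2
  exact congrArg Subtype.val hxy

end Groth.Agent.Lib.Helper23.WeilCohBasic
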