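import Mathlib
import Groth.Prelude.Def_WeilCoh
import Groth.Agent.Lib.Helper22.SmoothRed

/-!
# The point `Spec k` as an object of `WeilCoh.Var k` (helper23)
-/

universe u v w

open AlgebraicGeometry CategoryTheory CategoryTheory.Limits

namespace Groth.Agent.Lib.Helper23.WeilCohPt

variable (k : Type u) [Field k]

/-- The ring hom `ℤ[x_0] → k`, `x_0 ↦ 1`. -/
noncomputable def evalOne : MvPolynomial (Fin (0 + 1)) (ULift.{u} ℤ) →+* k :=
  MvPolynomial.eval₂Hom ((Int.castRingHom k).comp (ULift.ringEquiv (R := ℤ)).toRingHom)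
    (fun _ => (1 : k))

theorem evalOne_X : evalOne k (MvPolynomial.X 0) = 1 := by
  simp [evalOne]

/-- The ring hom from the degree zero part of `ℤ[x_0]_{x_0}` to `k`. -/
noncomputable def awayHom :
    HomogeneousLocalization.Away (CohB1.polyGrading 0 (ULift.{u} ℤ))
      (MvPolynomial.X 0 : MvPolynomial (Fin (0 + 1)) (ULift.{u} ℤ)) →+* k :=
  (IsLocalization.Away.lift (S := Localization.Away
      (MvPolynomial.X 0 : MvPolynomial (Fin (0 + 1)) (ULift.{u} ℤ)))
      (MvPolynomial.X 0 : MvPolynomial (Fin (0 + 1)) (ULift.{u} ℤ))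
      (g := evalOne k) (by rw [evalOne_X]; exact isUnit_one)).comp
    (algebraMap _ _)

/-- A `k`-point of `P^0_ℤ`. -/
noncomputable def ptProj : Spec (CommRingCat.of k) ⟶ CohB1.ProjSpace 0 (ULift.{u} ℤ) :=
  Spec.map (CommRingCat.ofHom (awayHom k)) ≫
    Proj.awayι (CohB1.polyGrading 0 (ULift.{u} ℤ))
      (MvPolynomial.X 0 : MvPolynomial (Fin (0 + 1)) (ULift.{u} ℤ))
      (m := 1) (MvPolynomial.isHomogeneous_X _ _) one_pos

/-- The section of `P^0_k → Spec k`. -/
noncomputable def ptSection :
    Spec (CommRingCat.of k) ⟶ CohB1.ProjSpaceOver 0 (Spec (CommRingCat.of k)) :=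
  pullback.lift (ptProj k) (𝟙 _) (specULiftZIsTerminal.hom_ext _ _)

theorem ptSection_toBase :
    ptSection k ≫ CohB1.ProjSpaceOver.toBase 0 (Spec (CommRingCat.of k)) = 𝟙 _ := by
  exact pullback.lift_snd _ _ _

instance isSeparated_toSpec (n : ℕ) (R : Type u) [CommRing R] :
    IsSeparated (CohB1.ProjSpace.toSpec n R) := by
  have h1 : IsSeparated (Proj.toSpecZero (CohB1.polyGrading n R)) := inferInstance
  have h2 : IsSeparated
      (Spec.map (CommRingCat.ofHom (algebraMap R ↥(CohB1.polyGrading n R 0)))) := inferInstance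
  change IsSeparated (Proj.toSpecZero (CohB1.polyGrading n R) ≫
    Spec.map (CommRingCat.ofHom (algebraMap R ↥(CohB1.polyGrading n R 0))))
  infer_instance

instance isSeparated_toBase (n : ℕ) (S : Scheme.{u}) :
    IsSeparated (CohB1.ProjSpaceOver.toBase n S) := by
  have h1 := isSeparated_toSpec n (ULift.{u} ℤ)
  exact MorphismProperty.pullback_snd _ _ h1

instance isClosedImmersion_ptSection : IsClosedImmersion (ptSection k) := by
  have : IsClosedImmersion
      (ptSection k ≫ CohB1.ProjSpaceOver.toBase 0 (Spec (CommRingCat.of k))) := by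
    rw [ptSection_toBase]; infer_instance
  exact IsClosedImmersion.of_comp (ptSection k)
    (CohB1.ProjSpaceOver.toBase 0 (Spec (CommRingCat.of k)))

theorem isProjectiveOver_pt :
    Neron.IsProjectiveOver k (Over.mk (𝟙 (Spec (CommRingCat.of k)))) :=
  ⟨0, ptSection k, inferInstance, ptSection_toBase k⟩


instance subsingleton_spec : Subsingleton ↥(Spec (CommRingCat.of k)) :=
  inferInstanceAs (Subsingleton (PrimeSpectrum k))

instance nonempty_spec : Nonempty ↥(Spec (CommRingCat.of k)) :=
  inferInstanceAs (Nonempty (PrimeSpectrum k))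

/-- The point `Spec k` as an object of `Var k`. -/
noncomputable def pt : WeilCoh.Var k :=
  ⟨Over.mk (𝟙 (Spec (CommRingCat.of k))),
    ⟨(inferInstance : Smooth (𝟙 (Spec (CommRingCat.of k)))), isProjectiveOver_pt k,
      (inferInstance : IrreducibleSpace ↥(Spec (CommRingCat.of k)))⟩⟩

/-- The structure morphism, as a morphism of `Var k`. -/
noncomputable def toPt (X : WeilCoh.Var k) : X ⟶ pt k :=
  ObjectProperty.homMk (Over.homMk X.obj.hom (Category.comp_id _))

theorem sm_toPt (X : WeilCoh.Var k) : WeilCoh.sm (toPt k X) = X.obj.hom := rfl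

variable {k}

theorem natDim_eq_zero_of_subsingleton (T : Type*) [TopologicalSpace T] [Subsingleton T] :
    WeilCoh.natDim T = 0 := by
  have h := topologicalKrullDim_zero_of_discreteTopology T
  unfold WeilCoh.natDim
  rcases hd : topologicalKrullDim T with _ | d
  · rfl
  · rw [hd] at h
    have : d ≤ 0 := WithBot.coe_le_coe.mp h
    have hd0 : d = 0 := le_antisymm this bot_le
    subst hd0
    rfl

theorem natDim_eq_of_homeomorph {S T : Type*} [TopologicalSpace S] [TopologicalSpace T]
    (e : S ≃ₜ T) : WeilCoh.natDim S = WeilCoh.natDim T := by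
  unfold WeilCoh.natDim
  rw [IsHomeomorph.topologicalKrullDim_eq e e.isHomeomorph]

theorem natDim_univ (T : Type*) [TopologicalSpace T] :
    WeilCoh.natDim ↥(Set.univ : Set T) = WeilCoh.natDim T :=
  natDim_eq_of_homeomorph (Homeomorph.Set.univ T)

variable (k) in
theorem dim_pt : WeilCoh.dim (pt k).obj.left = 0 :=
  natDim_eq_zero_of_subsingleton ↥(Spec (CommRingCat.of k))

theorem pdim_genericPoint (X : Scheme.{u}) [IrreducibleSpace X] :
    WeilCoh.pdim X (genericPoint X) = WeilCoh.dim X := by
  unfold WeilCoh.pdim WeilCoh.dim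
  rw [genericPoint_closure]
  exact natDim_univ _

theorem pdim_eq_zero_of_isClosed (X : Scheme.{u}) (x : X) (hx : IsClosed ({x} : Set X)) :
    WeilCoh.pdim X x = 0 := by
  unfold WeilCoh.pdim
  rw [hx.closure_eq]
  exact natDim_eq_zero_of_subsingleton _

theorem pdim_pt (ξ : (pt k).obj.left) : WeilCoh.pdim (pt k).obj.left ξ = 0 := by
  unfold WeilCoh.pdim
  have : Subsingleton ↥(pt k).obj.left := subsingleton_spec k
  exact natDim_eq_zero_of_subsingleton _


/-- The multiplicity at the generic point of an integral scheme is `1`. -/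
theorem preimMult_genericPoint {X Y : Scheme.{u}} [IsIntegral X] (f : X ⟶ Y) (ξ : Y)
    (h : f (genericPoint X) ∈ closure ({ξ} : Set Y)) :
    WeilCoh.preimMult f ξ (genericPoint X) h = 1 := by
  unfold WeilCoh.preimMult
  have hf : IsField (X.presheaf.stalk (genericPoint X)) := Field.toIsField X.functionField
  have hm : IsLocalRing.maximalIdeal (X.presheaf.stalk (genericPoint X)) = ⊥ :=
    IsLocalRing.isField_iff_maximalIdeal_eq.mp hf
  have hI : Ideal.map (f.stalkMap (genericPoint X)).hom
      (RingHom.ker (Cyc.specMap (f (genericPoint X)) ξ (specializes_iff_mem_closure.mpr h))) =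
        ⊥ := by
    rw [eq_bot_iff, ← hm]
    exact (Ideal.map_mono (IsLocalRing.le_maximalIdeal (RingHom.ker_ne_top _))).trans
      (IsLocalRing.map_maximalIdeal_le _)
  rw [hI]
  have hs : IsSimpleModule (X.presheaf.stalk (genericPoint X))
      (X.presheaf.stalk (genericPoint X)) := by
    have : IsSimpleOrder (Submodule (X.presheaf.stalk (genericPoint X))
        (X.presheaf.stalk (genericPoint X))) := Ring.isField_iff_isSimpleOrder_ideal.mp hf
    exact {}
  rw [(Submodule.quotEquivOfEqBot (⊥ : Ideal (X.presheaf.stalk (genericPoint X))) rfl).length_eq,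
    Module.length_eq_one]
  rfl

variable {K : Type v} [Field K]

/-- The class of the whole variety is `1`. -/
theorem cl_genericPoint (T : WeilCoh.TheoryOn.{u, v, w} k (WeilCoh.IsVar k) K) (X : WeilCoh.Var k)
    [IrreducibleSpace ↥X.obj.left] : T.cl X (genericPoint ↥X.obj.left) = 1 := by
  classical
  have hsm : Smooth X.obj.hom := X.property.1
  have : IsReduced X.obj.left :=
    Groth.Agent.Lib.Helper22.SmoothRed.isReduced_of_smooth
      (Y := Spec (CommRingCat.of k)) X.obj.hom
  have : IsIntegral X.obj.left := isIntegral_of_irreducibleSpace_of_isReduced _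
  have hS : Subsingleton ↥(pt k).obj.left := subsingleton_spec k
  let ξ : ↥(pt k).obj.left := WeilCoh.sm (toPt k X) (genericPoint ↥X.obj.left)
  have hcl : closure ({ξ} : Set ↥(pt k).obj.left) = Set.univ :=
    Subsingleton.eq_univ_of_nonempty ⟨ξ, subset_closure rfl⟩
  have hpre : (WeilCoh.sm (toPt k X)) ⁻¹' closure ({ξ} : Set ↥(pt k).obj.left) = Set.univ := by
    rw [hcl]; rfl
  have hcomp : ∀ w, WeilCoh.IsCompPt
      ((WeilCoh.sm (toPt k X)) ⁻¹' closure ({ξ} : Set ↥(pt k).obj.left)) w ↔
        w = genericPoint ↥X.obj.left := by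
    intro w
    rw [hpre]
    constructor
    · intro h
      exact (h.2 _ (Set.mem_univ _) (genericPoint_specializes w)).symm
    · rintro rfl
      exact ⟨Set.mem_univ _, fun w' _ hw' => (hw'.antisymm (genericPoint_specializes w')).eq⟩
  have hflat : Flat (WeilCoh.sm (toPt k X)) := by
    change @Flat X.obj.left (Spec (CommRingCat.of k)) X.obj.hom
    infer_instance
  have h1 := T.cl_pull (toPt k X) ξ
    (by
      intro w hw
      rw [(hcomp w).mp hw, pdim_genericPoint, pdim_pt, dim_pt]
      simp)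
    (Or.inl ⟨⊤, Set.subset_univ _, inferInstance⟩)
  rw [(T.point (pt k) (dim_pt k)).1 ξ, map_one] at h1
  rw [finsum_eq_single _ (⟨genericPoint ↥X.obj.left, (hcomp _).mpr rfl⟩ :
      {w : ↥X.obj.left // WeilCoh.IsCompPt
      ((WeilCoh.sm (toPt k X)) ⁻¹' closure ({ξ} : Set ↥(pt k).obj.left)) w})
    (fun w hw => absurd (Subtype.ext ((hcomp w.1).mp w.2)) hw)] at h1
  have h2 := preimMult_genericPoint (WeilCoh.sm (toPt k X)) ξ
    ((hcomp (genericPoint ↥X.obj.left)).mpr rfl).1
  have h3 : (1 : T.H X) =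
      ((WeilCoh.preimMult (WeilCoh.sm (toPt k X)) ξ (genericPoint ↥X.obj.left)
        ((hcomp (genericPoint ↥X.obj.left)).mpr rfl).1 : ℕ) : K) •
      T.cl X (genericPoint ↥X.obj.left) := h1
  rw [h2] at h3
  simpa using h3.symm

end Groth.Agent.Lib.Helper23.WeilCohPt
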