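import Mathlib
import Groth.Prelude.Def_WeilCoh
import Groth.Agent.Lib.Helper23.WeilCohBasic
import Groth.Agent.Lib.Helper23.WeilCohPt

/-!
# Weil cohomology: Künneth bookkeeping and the class of a graph (helper23)
-/

universe u v w

open AlgebraicGeometry CategoryTheory TensorProduct

namespace Groth.Agent.Lib.Helper23.WeilCohGraph

open Groth.Agent.Lib.Helper23.WeilCohBasic Groth.Agent.Lib.Helper23.WeilCohPt

section Sch

/-- A section of a morphism has residue degree one at every point. -/
theorem residueDegree_eq_one_of_comp_eq_id {X P : Scheme.{u}} (j : X ⟶ P) (p : P ⟶ X)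
    (h : j ≫ p = 𝟙 X) (x : X) : j.residueDegree x = 1 := by
  have hiso : IsIso ((j ≫ p).residueFieldMap x) := by
    rw [h]; infer_instance
  have hsurj : Function.Surjective (j.residueFieldMap x).hom := by
    intro y
    have e1 : ((j ≫ p).residueFieldMap x).hom ((inv ((j ≫ p).residueFieldMap x)).hom y) = y := by
      exact congrArg (fun φ => φ.hom y) (IsIso.inv_hom_id ((j ≫ p).residueFieldMap x))
    have e2 : ∀ z, ((j ≫ p).residueFieldMap x).hom z =
        (j.residueFieldMap x).hom ((p.residueFieldMap (j x)).hom z) := by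
      intro z
      exact congrArg (fun φ => φ.hom z) (Scheme.residueFieldMap_comp j p x)
    exact ⟨_, (e2 _).symm.trans e1⟩
  unfold Scheme.Hom.residueDegree
  let _ := (j.residueFieldMap x).hom.toAlgebra
  have hbij : Function.Bijective (algebraMap (P.residueField (j x)) (X.residueField x)) :=
    ⟨(algebraMap (P.residueField (j x)) (X.residueField x)).injective, hsurj⟩
  exact ((LinearEquiv.ofBijective (Algebra.linearMap _ _) hbij).finrank_eq).symm.trans
    (Module.finrank_self _)

theorem neg_one_pow_congr {K : Type*} [Ring K] {A B : ℕ} (h : A % 2 = B % 2) :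
    (-1 : K) ^ A = (-1 : K) ^ B := by
  rw [neg_one_pow_eq_pow_mod_two (n := A), neg_one_pow_eq_pow_mod_two (n := B), h]

end Sch

section General

variable {k : Type u} [Field k] {P : ObjectProperty (Over (Spec (CommRingCat.of k)))}
variable {K : Type v} [Field K] (T : WeilCoh.TheoryOn.{u, v, w} k P K)

/-- Induction on homogeneous elements of natural degree. -/
theorem hom_induction (X : P.FullSubcategory) {C : T.H X → Prop} (h0 : C 0)
    (hadd : ∀ x y, C x → C y → C (x + y))
    (hhom : ∀ (r : ℕ) (x : T.H X), x ∈ T.gr X (r : ℤ) → C x) : ∀ x, C x := by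
  intro x
  have hx : x ∈ iSup (T.gr X) := by
    rw [(T.decomp X).submodule_iSup_eq_top]; trivial
  refine Submodule.iSup_induction (T.gr X) (motive := C) hx ?_ h0 hadd
  intro i y hy
  by_cases hi : i < 0
  · rw [T.vanish X i (Or.inl hi)] at hy
    rw [(Submodule.mem_bot K).mp hy]; exact h0
  · obtain ⟨r, rfl⟩ := Int.eq_ofNat_of_zero_le (not_lt.mp hi)
    exact hhom r y hy

theorem exists_top_class (X : P.FullSubcategory) :
    ∃ ω ∈ T.gr X (2 * (WeilCoh.dim X.obj.left : ℤ)), T.tr X ω = 1 := by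
  obtain ⟨ω, hω⟩ := (T.tr_bijective X).2 1
  exact ⟨ω.1, ω.2, hω⟩

include T in
theorem dim_prod {X Y Q : P.FullSubcategory} (p : Q ⟶ X) (q : Q ⟶ Y) (h : WeilCoh.IsProd p q) :
    (WeilCoh.dim Q.obj.left : ℤ) = WeilCoh.dim X.obj.left + WeilCoh.dim Y.obj.left := by
  obtain ⟨a, ha, ha1⟩ := exists_top_class T X
  obtain ⟨b, hb, hb1⟩ := exists_top_class T Y
  have h1 := T.tr_prod p q h a b ha hb
  rw [ha1, hb1, one_mul] at h1
  by_contra hne
  have hmem : T.pull p a * T.pull q b ∈
      T.gr Q (2 * (WeilCoh.dim X.obj.left : ℤ) + 2 * (WeilCoh.dim Y.obj.left : ℤ)) :=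
    SetLike.mul_mem_graded (T.pull_mem p _ a ha) (T.pull_mem q _ b hb)
  have h2 := T.tr_vanish Q _ _ hmem (by omega)
  rw [h2] at h1
  exact zero_ne_one h1

/-- The trace of a product of pulled back classes, for arbitrary classes. -/
theorem tr_pull_mul_pull {X Y Q : P.FullSubcategory} (p : Q ⟶ X) (q : Q ⟶ Y)
    (h : WeilCoh.IsProd p q) (a : T.H X) (b : T.H Y) :
    T.tr Q (T.pull p a * T.pull q b) = T.tr X a * T.tr Y b := by
  have hd := dim_prod T p q h
  revert b
  refine hom_induction T X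
    (C := fun a => ∀ b, T.tr Q (T.pull p a * T.pull q b) = T.tr X a * T.tr Y b) ?_ ?_ ?_ a
  · intro b; simp
  · intro x y hx hy b
    rw [map_add, add_mul, map_add, hx b, hy b, map_add, add_mul]
  · intro r x hx b
    refine hom_induction T Y
      (C := fun b => T.tr Q (T.pull p x * T.pull q b) = T.tr X x * T.tr Y b) ?_ ?_ ?_ b
    · simp
    · intro y z hy hz
      rw [map_add, mul_add, map_add, hy, hz, map_add, mul_add]
    · intro s y hy
      have hmem : T.pull p x * T.pull q y ∈ T.gr Q ((r : ℤ) + s) :=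
        SetLike.mul_mem_graded (T.pull_mem p _ x hx) (T.pull_mem q _ y hy)
      by_cases hr : (r : ℤ) = 2 * (WeilCoh.dim X.obj.left : ℤ)
      · by_cases hs : (s : ℤ) = 2 * (WeilCoh.dim Y.obj.left : ℤ)
        · exact T.tr_prod p q h x y (hr ▸ hx) (hs ▸ hy)
        · rw [T.tr_vanish Q _ _ hmem (by omega), T.tr_vanish Y _ _ hy hs, mul_zero]
      · rw [T.tr_vanish X _ _ hx hr, zero_mul]
        by_cases hrs : (r : ℤ) + s = 2 * (WeilCoh.dim Q.obj.left : ℤ)
        · rcases lt_or_gt_of_ne hr with hlt | hgt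
          · have hbot : T.gr Y (s : ℤ) = ⊥ := T.vanish Y s (Or.inr (by omega))
            rw [hbot] at hy
            rw [(Submodule.mem_bot K).mp hy]; simp
          · have hbot : T.gr X (r : ℤ) = ⊥ := T.vanish X r (Or.inr (by omega))
            rw [hbot] at hx
            rw [(Submodule.mem_bot K).mp hx]; simp
        · exact T.tr_vanish Q _ _ hmem hrs

/-- Two classes of the same degree on a product are equal as soon as they pair equally with all
products of pulled back homogeneous classes. -/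
theorem eq_of_forall_tr_mul_pull_pull {X Y Q : P.FullSubcategory} (p : Q ⟶ X) (q : Q ⟶ Y)
    (h : WeilCoh.IsProd p q) (m : ℤ) (x y : T.H Q) (hx : x ∈ T.gr Q m) (hy : y ∈ T.gr Q m)
    (hxy : ∀ (r s : ℕ) (a : T.H X) (b : T.H Y), a ∈ T.gr X (r : ℤ) → b ∈ T.gr Y (s : ℤ) →
      T.tr Q (x * (T.pull p a * T.pull q b)) = T.tr Q (y * (T.pull p a * T.pull q b))) :
    x = y := by
  have hall : ∀ (a : T.H X) (b : T.H Y),
      T.tr Q (x * (T.pull p a * T.pull q b)) = T.tr Q (y * (T.pull p a * T.pull q b)) := by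
    intro a
    refine hom_induction T X
      (C := fun a => ∀ b, T.tr Q (x * (T.pull p a * T.pull q b)) =
        T.tr Q (y * (T.pull p a * T.pull q b))) ?_ ?_ ?_ a
    · intro b; simp
    · intro a₁ a₂ h₁ h₂ b
      simp only [map_add, add_mul, mul_add, h₁ b, h₂ b]
    · intro r a ha b
      refine hom_induction T Y
        (C := fun b => T.tr Q (x * (T.pull p a * T.pull q b)) =
          T.tr Q (y * (T.pull p a * T.pull q b))) ?_ ?_ ?_ b
      · simp
      · intro b₁ b₂ h₁ h₂
        simp only [map_add, mul_add, h₁, h₂]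
      · intro s b hb
        exact hxy r s a b ha hb
  refine eq_of_forall_tr_mul_eq T Q m (2 * (WeilCoh.dim Q.obj.left : ℤ) - m) (by ring) x y hx hy
    (fun β hβ => ?_)
  clear hβ
  obtain ⟨t, rfl⟩ := (T.kunneth p q h).2 β
  induction t using TensorProduct.induction_on with
  | zero => simp
  | tmul a b => exact hall a b
  | add t₁ t₂ h₁ h₂ => rw [map_add, mul_add, mul_add, map_add, map_add, h₁, h₂]

/-- Coordinates in a basis through the dual family for the Poincaré pairing. -/
theorem repr_eq_tr (X : P.FullSubcategory) {ι : Type*} [Fintype ι] [DecidableEq ι] (r m : ℤ)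
    (e : Module.Basis ι K (T.gr X r)) (f : ι → T.gr X m)
    (hef : ∀ i l, T.tr X ((f l : T.H X) * (e i : T.H X)) = if i = l then 1 else 0)
    (b : T.gr X r) (i : ι) : e.repr b i = T.tr X ((f i : T.H X) * (b : T.H X)) := by
  conv_rhs => rw [← e.sum_repr b]
  rw [Submodule.coe_sum, Finset.mul_sum, map_sum]
  simp only [Submodule.coe_smul, mul_smul_comm, map_smul, smul_eq_mul, hef]
  simp

/-- Existence of the dual family of a basis for the Poincaré pairing. -/
theorem exists_dual_family (X : P.FullSubcategory) (r m : ℤ)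
    (hrm : m + r = 2 * (WeilCoh.dim X.obj.left : ℤ)) {ι : Type*} [Fintype ι] [DecidableEq ι]
    (e : Module.Basis ι K (T.gr X r)) :
    ∃ f : ι → T.gr X m,
      ∀ i l, T.tr X ((f l : T.H X) * (e i : T.H X)) = if i = l then 1 else 0 := by
  have := T.duality X m r hrm
  refine ⟨fun l => (WeilCoh.pairing K (T.gr X m) (T.gr X r) (T.tr X)).toPerfPair.symm
    (e.coord l), fun i l => ?_⟩
  have h1 := DFunLike.congr_fun (LinearMap.apply_symm_toPerfPair_self
    (WeilCoh.pairing K (T.gr X m) (T.gr X r) (T.tr X)) (e.coord l)) (e i)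
  rw [pairing_apply] at h1
  rw [h1, Module.Basis.coord_apply, Module.Basis.repr_self, Finsupp.single_apply]

end General

section Graph

variable {k : Type u} [Field k] {K : Type v} [Field K]
variable (T : WeilCoh.TheoryOn.{u, v, w} k (WeilCoh.IsVar k) K)
variable {X Y Q : WeilCoh.Var k} [IrreducibleSpace ↥X.obj.left]
variable (p : Q ⟶ X) (q : Q ⟶ Y) (hQ : WeilCoh.IsProd p q) (j : X ⟶ Q) (hjp : j ≫ p = 𝟙 X)

include hjp in
theorem tr_cl_graph_mul_of_mem (y : T.H Q)
    (hy : y ∈ T.gr Q (2 * (WeilCoh.dim X.obj.left : ℤ))) :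
    T.tr Q (T.cl Q (WeilCoh.sm j (genericPoint ↥X.obj.left)) * y) = T.tr X (T.pull j y) := by
  have h := T.cl_push j (genericPoint ↥X.obj.left) y (by rw [pdim_genericPoint]; exact hy)
  rw [cl_genericPoint T X, one_mul] at h
  have hdeg : (WeilCoh.sm j).residueDegree (genericPoint ↥X.obj.left) = 1 :=
    residueDegree_eq_one_of_comp_eq_id (WeilCoh.sm j) (WeilCoh.sm p)
      (congrArg (fun f => WeilCoh.sm f) hjp) _
  rw [hdeg, Nat.cast_one, one_mul] at h
  exact h.symm

include T hQ hjp in
theorem codim_graph :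
    (WeilCoh.codim Q.obj.left (WeilCoh.sm j (genericPoint ↥X.obj.left)) : ℤ) =
      WeilCoh.dim Y.obj.left := by
  obtain ⟨ω, hω, hω1⟩ := exists_top_class T X
  have h1 := tr_cl_graph_mul_of_mem T p j hjp (T.pull p ω) (T.pull_mem p _ ω hω)
  rw [← AlgHom.comp_apply, ← T.pull_comp, hjp, T.pull_id, AlgHom.id_apply, hω1] at h1
  have hd := dim_prod T p q hQ
  by_contra hne
  have hmem : T.cl Q (WeilCoh.sm j (genericPoint ↥X.obj.left)) * T.pull p ω ∈
      T.gr Q (2 * (WeilCoh.codim Q.obj.left (WeilCoh.sm j (genericPoint ↥X.obj.left)) : ℤ) +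
        2 * (WeilCoh.dim X.obj.left : ℤ)) :=
    SetLike.mul_mem_graded (T.cl_mem Q _) (T.pull_mem p _ ω hω)
  rw [T.tr_vanish Q _ _ hmem (by omega)] at h1
  exact zero_ne_one h1

include hQ hjp in
/-- The class of the graph of a section `j` represents `y ↦ tr (j^* y)`. -/
theorem tr_cl_graph_mul (y : T.H Q) :
    T.tr Q (T.cl Q (WeilCoh.sm j (genericPoint ↥X.obj.left)) * y) = T.tr X (T.pull j y) := by
  have hd := dim_prod T p q hQ
  have hc := codim_graph T p q hQ j hjp
  refine hom_induction T Q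
    (C := fun y => T.tr Q (T.cl Q (WeilCoh.sm j (genericPoint ↥X.obj.left)) * y) =
      T.tr X (T.pull j y)) ?_ ?_ ?_ y
  · simp
  · intro y z hy hz
    rw [mul_add, map_add, map_add, map_add, hy, hz]
  · intro s y hy
    by_cases hs : (s : ℤ) = 2 * (WeilCoh.dim X.obj.left : ℤ)
    · exact tr_cl_graph_mul_of_mem T p j hjp y (hs ▸ hy)
    · have hmem : T.cl Q (WeilCoh.sm j (genericPoint ↥X.obj.left)) * y ∈
          T.gr Q (2 * (WeilCoh.codim Q.obj.left (WeilCoh.sm j (genericPoint ↥X.obj.left)) : ℤ) +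
            s) :=
        SetLike.mul_mem_graded (T.cl_mem Q _) hy
      rw [T.tr_vanish Q _ _ hmem (by omega), T.tr_vanish X _ _ (T.pull_mem j _ y hy) hs]

end Graph

end Groth.Agent.Lib.Helper23.WeilCohGraph
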