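import Mathlib
import Groth.Prelude.Def_WeilCoh
import Groth.Agent.Lib.Helper23.WeilCohGraph

/-!
# Weil cohomology: cohomological correspondences (helper23)

* `proj` : projection onto a graded piece; `eq_of_forall_tr_mul_total` : nondegeneracy of the
  total Poincaré pairing.
* `corr` : the action `x ↦ q_*(p^* x ∪ φ)` of a class on a product; `tr_corr_mul` its defining
  property.
* `corr_injective`, `corr_surjective`.
-/

universe u v w

open AlgebraicGeometry CategoryTheory TensorProduct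

namespace Groth.Agent.Lib.Helper23.WeilCohCorr

open Groth.Agent.Lib.Helper23.WeilCohBasic Groth.Agent.Lib.Helper23.WeilCohGraph

variable {k : Type u} [Field k] {P : ObjectProperty (Over (Spec (CommRingCat.of k)))}
variable {K : Type v} [Field K] (T : WeilCoh.TheoryOn.{u, v, w} k P K)

/-- The decomposition isomorphism. -/
noncomputable def decompEquiv (X : P.FullSubcategory) :
    (DirectSum ℤ fun i => T.gr X i) ≃ₗ[K] T.H X :=
  LinearEquiv.ofBijective (DirectSum.coeLinearMap (T.gr X)) (T.decomp X)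

/-- Projection onto the graded piece of degree `i`. -/
noncomputable def proj (X : P.FullSubcategory) (i : ℤ) : T.H X →ₗ[K] T.gr X i :=
  (DirectSum.component K ℤ (fun i => T.gr X i) i) ∘ₗ (decompEquiv T X).symm.toLinearMap

theorem decompEquiv_symm_of_mem (X : P.FullSubcategory) (i : ℤ) (x : T.H X) (hx : x ∈ T.gr X i) :
    (decompEquiv T X).symm x = DirectSum.lof K ℤ (fun i => T.gr X i) i ⟨x, hx⟩ := by
  rw [LinearEquiv.symm_apply_eq]
  change x = DirectSum.coeLinearMap (T.gr X) (DirectSum.lof K ℤ (fun i => T.gr X i) i ⟨x, hx⟩)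
  rw [DirectSum.lof_eq_of, DirectSum.coeLinearMap_of]

theorem proj_of_mem (X : P.FullSubcategory) (i : ℤ) (x : T.H X) (hx : x ∈ T.gr X i) :
    proj T X i x = ⟨x, hx⟩ := by
  change DirectSum.component K ℤ (fun i => T.gr X i) i ((decompEquiv T X).symm x) = _
  rw [decompEquiv_symm_of_mem T X i x hx, DirectSum.component.lof_self]

theorem proj_of_mem_ne (X : P.FullSubcategory) (i j : ℤ) (hij : j ≠ i) (x : T.H X)
    (hx : x ∈ T.gr X j) : proj T X i x = 0 := by
  change DirectSum.component K ℤ (fun i => T.gr X i) i ((decompEquiv T X).symm x) = _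
  rw [decompEquiv_symm_of_mem T X j x hx, DirectSum.component.of, dif_neg hij]

theorem eq_zero_of_forall_proj (X : P.FullSubcategory) (x : T.H X)
    (h : ∀ i, proj T X i x = 0) : x = 0 := by
  have h1 : (decompEquiv T X).symm x = 0 := by
    apply DirectSum.ext_component K
    intro i
    rw [map_zero]
    exact h i
  simpa using congrArg (decompEquiv T X) h1

theorem tr_mul_eq_tr_proj_mul (X : P.FullSubcategory) (i₀ : ℤ) (α : T.H X)
    (hα : α ∈ T.gr X (2 * (WeilCoh.dim X.obj.left : ℤ) - i₀)) (x : T.H X) :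
    T.tr X (x * α) = T.tr X ((proj T X i₀ x : T.H X) * α) := by
  refine hom_induction T X
    (C := fun x => T.tr X (x * α) = T.tr X ((proj T X i₀ x : T.H X) * α)) ?_ ?_ ?_ x
  · simp
  · intro x y hx hy
    rw [add_mul, map_add, hx, hy, map_add, Submodule.coe_add, add_mul, map_add]
  · intro r x hx
    by_cases hr : (r : ℤ) = i₀
    · subst hr
      rw [proj_of_mem T X _ x hx]
    · rw [proj_of_mem_ne T X i₀ r hr x hx,
        T.tr_vanish X _ _ (SetLike.mul_mem_graded hx hα) (by omega)]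
      simp

/-- Nondegeneracy of the Poincaré pairing on the total cohomology. -/
theorem eq_of_forall_tr_mul_total (X : P.FullSubcategory) (x y : T.H X)
    (h : ∀ α, T.tr X (x * α) = T.tr X (y * α)) : x = y := by
  rw [← sub_eq_zero]
  apply eq_zero_of_forall_proj T X
  intro i
  have hz : ∀ α, T.tr X ((x - y) * α) = 0 := by
    intro α; rw [sub_mul, map_sub, h α, sub_self]
  have h0 := eq_of_forall_tr_mul_eq T X i (2 * (WeilCoh.dim X.obj.left : ℤ) - i) (by ring)
    (proj T X i (x - y) : T.H X) 0 (proj T X i (x - y)).2 (Submodule.zero_mem _)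
    (fun β hβ => by
      rw [← tr_mul_eq_tr_proj_mul T X i β hβ, hz β]; simp)
  exact Subtype.ext h0

/-- The action of a class on a product as a correspondence: `x ↦ q_*(p^* x ∪ φ)`. -/
noncomputable def corr {X Y Q : P.FullSubcategory} (p : Q ⟶ X) (q : Q ⟶ Y) (m : ℤ)
    (φ : T.gr Q m) (i : ℤ) :
    T.gr X i →ₗ[K] T.gr Y (i + m + 2 * (WeilCoh.dim Y.obj.left : ℤ) -
      2 * (WeilCoh.dim Q.obj.left : ℤ)) :=
  (T.push q (i + m)) ∘ₗ
    ((LinearMap.mulRight K (φ : T.H Q)).restrict (p := T.gr Q i) (q := T.gr Q (i + m))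
      (fun x hx => SetLike.mul_mem_graded hx φ.2)) ∘ₗ (T.pullDeg p i)

variable {X Y Q : P.FullSubcategory} (p : Q ⟶ X) (q : Q ⟶ Y)

theorem tr_corr_mul' (m : ℤ) (φ : T.gr Q m) (i : ℤ) (x : T.gr X i) (β : T.H Y)
    (hβ : β ∈ T.gr Y (2 * (WeilCoh.dim Q.obj.left : ℤ) - (i + m))) :
    T.tr Y ((corr T p q m φ i x : T.H Y) * β) =
      T.tr Q (T.pull p (x : T.H X) * (φ : T.H Q) * T.pull q β) :=
  tr_push_mul T q (i + m) _ β _ rfl hβ

/-- The defining property of the action of a correspondence, for every class `β`. -/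
theorem tr_corr_mul (m : ℤ) (φ : T.gr Q m) (i : ℤ) (x : T.gr X i) (β : T.H Y) :
    T.tr Y ((corr T p q m φ i x : T.H Y) * β) =
      T.tr Q (T.pull p (x : T.H X) * (φ : T.H Q) * T.pull q β) := by
  refine hom_induction T Y
    (C := fun β => T.tr Y ((corr T p q m φ i x : T.H Y) * β) =
      T.tr Q (T.pull p (x : T.H X) * (φ : T.H Q) * T.pull q β)) ?_ ?_ ?_ β
  · simp
  · intro β₁ β₂ h₁ h₂
    rw [mul_add, map_add, h₁, h₂, map_add, mul_add, map_add]
  · intro s β hβ
    by_cases hs : (s : ℤ) = 2 * (WeilCoh.dim Q.obj.left : ℤ) - (i + m)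
    · exact tr_corr_mul' T p q m φ i x β (hs ▸ hβ)
    · have h1 : (corr T p q m φ i x : T.H Y) * β ∈ T.gr Y
          ((i + m + 2 * (WeilCoh.dim Y.obj.left : ℤ) - 2 * (WeilCoh.dim Q.obj.left : ℤ)) + s) :=
        SetLike.mul_mem_graded (corr T p q m φ i x).2 hβ
      have h2 : T.pull p (x : T.H X) * (φ : T.H Q) * T.pull q β ∈ T.gr Q (i + m + s) :=
        SetLike.mul_mem_graded (SetLike.mul_mem_graded (T.pull_mem p i _ x.2) φ.2)
          (T.pull_mem q _ β hβ)
      rw [T.tr_vanish Y _ _ h1 (by omega), T.tr_vanish Q _ _ h2 (by omega)]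

theorem corr_add (m : ℤ) (φ₁ φ₂ : T.gr Q m) (i : ℤ) :
    corr T p q m (φ₁ + φ₂) i = corr T p q m φ₁ i + corr T p q m φ₂ i := by
  ext x
  apply eq_of_forall_tr_mul_total T Y
  intro β
  rw [LinearMap.add_apply, Submodule.coe_add, add_mul, map_add, tr_corr_mul, tr_corr_mul,
    tr_corr_mul, Submodule.coe_add, mul_add, add_mul, map_add]

theorem corr_zero (m : ℤ) (i : ℤ) : corr T p q m (0 : T.gr Q m) i = 0 := by
  ext x
  apply eq_of_forall_tr_mul_total T Y
  intro β
  rw [tr_corr_mul]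
  simp

theorem corr_injective (h : WeilCoh.IsProd p q) (m : ℤ) :
    Function.Injective (fun φ : T.gr Q m => fun i : ℤ => corr T p q m φ i) := by
  intro φ φ' hΦ
  apply Subtype.ext
  refine eq_of_forall_tr_mul_pull_pull T p q h m _ _ φ.2 φ'.2 (fun s t a b ha hb => ?_)
  have h1 : T.tr Q (T.pull p a * (φ : T.H Q) * T.pull q b) =
      T.tr Q (T.pull p a * (φ' : T.H Q) * T.pull q b) := by
    have e1 := tr_corr_mul T p q m φ s ⟨a, ha⟩ b
    have e2 := tr_corr_mul T p q m φ' s ⟨a, ha⟩ b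
    have e3 : corr T p q m φ s = corr T p q m φ' s := congrFun hΦ s
    rw [e3] at e1
    exact e1.symm.trans e2
  have hc := T.gradedComm Q _ _ (φ : T.H Q) (T.pull p a) φ.2 (T.pull_mem p _ a ha)
  have hc' := T.gradedComm Q _ _ (φ' : T.H Q) (T.pull p a) φ'.2 (T.pull_mem p _ a ha)
  rw [← mul_assoc, ← mul_assoc, hc, hc', smul_mul_assoc, smul_mul_assoc, map_smul, map_smul, h1]

theorem corr_surjective (h : WeilCoh.IsProd p q) (m : ℤ) :
    Function.Surjective (fun φ : T.gr Q m => fun i : ℤ => corr T p q m φ i) := by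
  intro L
  -- the bilinear form
  let B : ℕ → (T.H X →ₗ[K] T.H Y →ₗ[K] K) := fun n =>
    ((LinearMap.mul K (T.H Y)).compl₁₂
      ((T.gr Y _).subtype ∘ₗ L (n : ℤ) ∘ₗ proj T X (n : ℤ)) LinearMap.id).compr₂ (T.tr Y)
  have hB : ∀ n x β, B n x β = T.tr Y ((L (n : ℤ) (proj T X (n : ℤ) x) : T.H Y) * β) :=
    fun n x β => rfl
  let bil : T.H X →ₗ[K] T.H Y →ₗ[K] K :=
    ∑ n ∈ Finset.range (2 * WeilCoh.dim X.obj.left + 1),
      ((-1 : K) ^ (((n : ℕ) : ℤ).natAbs * m.natAbs)) • B n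
  let κ : (T.H X ⊗[K] T.H Y) ≃ₗ[K] T.H Q :=
    LinearEquiv.ofBijective (WeilCoh.kunnethMap K (T.pull p) (T.pull q)) (T.kunneth p q h)
  have hκ : ∀ a b, κ.symm (T.pull p a * T.pull q b) = a ⊗ₜ b := by
    intro a b
    rw [LinearEquiv.symm_apply_eq]
    rfl
  let ℓ : T.H Q →ₗ[K] K := (TensorProduct.lift bil) ∘ₗ κ.symm.toLinearMap
  have hℓ : ∀ a b, ℓ (T.pull p a * T.pull q b) = bil a b := by
    intro a b
    change TensorProduct.lift bil (κ.symm (T.pull p a * T.pull q b)) = _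
    rw [hκ, TensorProduct.lift.tmul]
  have hdual := T.duality Q m (2 * (WeilCoh.dim Q.obj.left : ℤ) - m) (by ring)
  let φ : T.gr Q m := (WeilCoh.pairing K (T.gr Q m)
    (T.gr Q (2 * (WeilCoh.dim Q.obj.left : ℤ) - m)) (T.tr Q)).toPerfPair.symm
      (ℓ.domRestrict (T.gr Q (2 * (WeilCoh.dim Q.obj.left : ℤ) - m)))
  have hφ : ∀ y (hy : y ∈ T.gr Q (2 * (WeilCoh.dim Q.obj.left : ℤ) - m)),
      T.tr Q ((φ : T.H Q) * y) = ℓ y := by
    intro y hy
    have h1 := DFunLike.congr_fun (LinearMap.apply_symm_toPerfPair_self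
      (WeilCoh.pairing K (T.gr Q m) (T.gr Q (2 * (WeilCoh.dim Q.obj.left : ℤ) - m)) (T.tr Q))
      (ℓ.domRestrict (T.gr Q (2 * (WeilCoh.dim Q.obj.left : ℤ) - m)))) ⟨y, hy⟩
    rw [pairing_apply] at h1
    exact h1
  refine ⟨φ, ?_⟩
  funext i
  ext x
  refine eq_of_forall_tr_mul_eq T Y _ (2 * (WeilCoh.dim Q.obj.left : ℤ) - (i + m)) (by ring) _ _
    (corr T p q m φ i x).2 (L i x).2 (fun β hβ => ?_)
  rw [tr_corr_mul' T p q m φ i x β hβ]
  by_cases hi : i < 0 ∨ 2 * (WeilCoh.dim X.obj.left : ℤ) < i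
  · have hx : x = 0 := by
      apply Subtype.ext
      exact (Submodule.mem_bot K).mp ((le_of_eq (T.vanish X i hi)) x.2)
    rw [hx]; simp
  · push Not at hi
    obtain ⟨n, rfl⟩ := Int.eq_ofNat_of_zero_le hi.1
    have hn : n ∈ Finset.range (2 * WeilCoh.dim X.obj.left + 1) := by
      rw [Finset.mem_range]; omega
    have hc := T.gradedComm Q _ _ (T.pull p (x : T.H X)) (φ : T.H Q) (T.pull_mem p _ _ x.2) φ.2
    have hy : T.pull p (x : T.H X) * T.pull q β ∈
        T.gr Q (2 * (WeilCoh.dim Q.obj.left : ℤ) - m) := by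
      have := SetLike.mul_mem_graded (T.pull_mem p _ _ x.2) (T.pull_mem q _ β hβ)
      rwa [show ((n : ℕ) : ℤ) + (2 * (WeilCoh.dim Q.obj.left : ℤ) - ((n : ℕ) + m)) =
        2 * (WeilCoh.dim Q.obj.left : ℤ) - m by ring] at this
    rw [hc, smul_mul_assoc, map_smul, mul_assoc, hφ _ hy, hℓ]
    change _ • (∑ n' ∈ Finset.range (2 * WeilCoh.dim X.obj.left + 1),
      ((-1 : K) ^ (((n' : ℕ) : ℤ).natAbs * m.natAbs)) • B n') (x : T.H X) β = _
    rw [LinearMap.sum_apply, LinearMap.sum_apply, Finset.sum_eq_single n]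
    · rw [LinearMap.smul_apply, LinearMap.smul_apply, hB, proj_of_mem T X _ _ x.2, smul_eq_mul,
        smul_eq_mul, ← mul_assoc, ← pow_add, Even.neg_one_pow ⟨_, rfl⟩, one_mul]
    · intro n' _ hn'
      rw [LinearMap.smul_apply, LinearMap.smul_apply, hB,
        proj_of_mem_ne T X _ _ (by exact_mod_cast hn'.symm) _ x.2]
      simp
    · intro hn'
      exact absurd hn hn'

end Groth.Agent.Lib.Helper23.WeilCohCorr
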