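import Mathlib
import Groth.Prelude.Def_WeilCoh
import Groth.Prelude.Def_CurvBase
import Groth.Agent.Lib.Helper12.SchemeDimFT2
import Groth.Agent.Lib.Helper23.WeilCohPt

/-!
# Dimension of the closure of a point on a scheme locally of finite type over a field (helper23)

`WeilCoh.pdim X x` (the Krull dimension of the closure of `x`, as a natural number) equals the
transcendence degree of the residue field of `x` over the base field.
-/

universe u v w

open AlgebraicGeometry CategoryTheory

namespace Groth.Agent.Lib.Helper23.WeilCohDim

open Groth.Agent.Lib.Helper12.SchemeDimFT Groth.Agent.Lib.Helper23.WeilCohPt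

attribute [local instance] Curv2.resAlgebra

section Closure

variable {X : Scheme.{u}} (ξ : X)

/-- The ideal sheaf of the closure of a point. -/
noncomputable def clIdeal : X.IdealSheafData :=
  Scheme.IdealSheafData.vanishingIdeal ⟨closure {ξ}, isClosed_closure⟩

/-- The closure of a point with its reduced induced structure. -/
noncomputable def clSub : Scheme.{u} := (clIdeal ξ).subscheme

/-- The inclusion of the closure of a point. -/
noncomputable def clι : clSub ξ ⟶ X := (clIdeal ξ).subschemeι

instance : IsClosedImmersion (clι ξ) :=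
  inferInstanceAs (IsClosedImmersion (clIdeal ξ).subschemeι)

theorem range_clι : Set.range (clι ξ) = closure {ξ} := by
  refine (Scheme.IdealSheafData.range_subschemeι (clIdeal ξ)).trans ?_
  exact Scheme.IdealSheafData.coe_support_vanishingIdeal _

/-- The underlying space of the reduced closure is the closure. -/
noncomputable def clHomeo : clSub ξ ≃ₜ ↥(closure ({ξ} : Set X)) :=
  ((clι ξ).isClosedEmbedding.toIsEmbedding.toHomeomorph).trans
    (Homeomorph.setCongr (range_clι ξ))

instance : IrreducibleSpace (clSub ξ) := by
  have : IrreducibleSpace ↥(closure ({ξ} : Set X)) :=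
    Subtype.irreducibleSpace isIrreducible_singleton.closure
  have h := (IrreducibleSpace.isIrreducible_univ ↥(closure ({ξ} : Set X))).image
    (clHomeo ξ).symm (clHomeo ξ).symm.continuous.continuousOn
  rw [Set.image_univ, (clHomeo ξ).symm.surjective.range_eq] at h
  exact (irreducibleSpace_def _).mpr h

theorem clι_genericPoint : clι ξ (genericPoint (clSub ξ)) = ξ := by
  have h1 : closure ({clι ξ (genericPoint (clSub ξ))} : Set X) = closure {ξ} := by
    rw [← Set.image_singleton, (clι ξ).isClosedEmbedding.closure_image_eq, genericPoint_closure,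
      Set.image_univ, range_clι]
  exact (inseparable_iff_closure_eq.mpr h1).eq

theorem pdim_eq_natDim_clSub : WeilCoh.pdim X ξ = WeilCoh.natDim (clSub ξ) :=
  (natDim_eq_of_homeomorph (clHomeo ξ)).symm

theorem residueFieldMap_clι_bijective (z : clSub ξ) :
    Function.Bijective ((clι ξ).residueFieldMap z).hom := by
  refine ⟨((clι ξ).residueFieldMap z).hom.injective, ?_⟩
  intro y
  obtain ⟨s, rfl⟩ := IsLocalRing.residue_surjective y
  obtain ⟨t, rfl⟩ := (clι ξ).stalkMap_surjective z s
  refine ⟨(X.residue (clι ξ z)).hom t, ?_⟩
  exact congrArg (fun φ => φ.hom t) (Scheme.residue_residueFieldMap (clι ξ) z)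

end Closure

section PdimTrdeg

variable (k : Type u) [Field k] (X : Scheme.{u}) [X.Over (Spec (CommRingCat.of k))]
  [LocallyOfFiniteType (X ↘ Spec (CommRingCat.of k))]

theorem pdim_eq_of_trdeg_eq_aux (x : X) (n : ℕ)
    (hn : Algebra.trdeg k (X.residueField (clι x (genericPoint (clSub x)))) = n) :
    WeilCoh.pdim X x = n := by
  letI : (clSub x).Over (Spec (CommRingCat.of k)) :=
    ⟨clι x ≫ (X ↘ Spec (CommRingCat.of k))⟩
  haveI : LocallyOfFiniteType ((clSub x) ↘ Spec (CommRingCat.of k)) := by
    change LocallyOfFiniteType (clι x ≫ (X ↘ Spec (CommRingCat.of k)))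
    infer_instance
  let g := genericPoint (clSub x)
  let φ : X.residueField (clι x g) →ₐ[k] (clSub x).residueField g :=
    { ((clι x).residueFieldMap g).hom with
      commutes' := fun c => residueFieldMap_resMap k (X ↘ Spec (CommRingCat.of k))
        (clι x ≫ (X ↘ Spec (CommRingCat.of k))) (clι x) rfl g c }
  let e : X.residueField (clι x g) ≃ₐ[k] (clSub x).residueField g :=
    AlgEquiv.ofBijective φ (residueFieldMap_clι_bijective x g)
  have h1 : Algebra.trdeg k ((clSub x).residueField g) = n := e.trdeg_eq.symm.trans hn
  have h2 := topologicalKrullDim_eq_of_irreducible k (clSub x) n h1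
  rw [pdim_eq_natDim_clSub]
  unfold WeilCoh.natDim
  rw [h2]
  rfl

/-- The dimension of the closure of a point is the transcendence degree of its residue field. -/
theorem pdim_eq_of_trdeg_eq (x : X) (n : ℕ) (hn : Algebra.trdeg k (X.residueField x) = n) :
    WeilCoh.pdim X x = n := by
  have h := pdim_eq_of_trdeg_eq_aux k X x n
  rw [clι_genericPoint] at h
  exact h hn

/-- The dimension of an irreducible scheme is the transcendence degree of its function field. -/
theorem dim_eq_of_trdeg_eq [IrreducibleSpace X] (n : ℕ)
    (hn : Algebra.trdeg k (X.residueField (genericPoint X)) = n) : WeilCoh.dim X = n := by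
  rw [← pdim_genericPoint]
  exact pdim_eq_of_trdeg_eq k X _ n hn

include k in
/-- The closure of a point has dimension at most that of the scheme. -/
theorem pdim_le_dim [IrreducibleSpace X] (x : X) : WeilCoh.pdim X x ≤ WeilCoh.dim X := by
  obtain ⟨n, hn⟩ := exists_trdeg_eq k X x
  obtain ⟨N, hN⟩ := exists_trdeg_eq k X (genericPoint X)
  rw [pdim_eq_of_trdeg_eq k X x n hn, dim_eq_of_trdeg_eq k X N hN]
  have h1 := trdeg_le_topologicalKrullDim k X x n hn
  rw [topologicalKrullDim_eq_of_irreducible k X N hN] at h1
  exact_mod_cast h1

end PdimTrdeg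

end Groth.Agent.Lib.Helper23.WeilCohDim
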