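import Mathlib
import Groth.Prelude.Def_WeilCoh
import Groth.Prelude.Def_CurvBase
import Groth.Agent.Lib.Helper1.ProjSpaceFT
import Groth.Agent.Lib.Helper23.WeilCohDim
import Groth.Agent.Lib.Helper23.WeilCohCorr

/-!
# Weil cohomology: the push-forward identity in all degrees (helper23)
-/

universe u v w

open AlgebraicGeometry CategoryTheory

namespace Groth.Agent.Lib.Helper23.WeilCohDim

open Groth.Agent.Lib.Helper12.SchemeDimFT Groth.Agent.Lib.Helper23.WeilCohPt
  Groth.Agent.Lib.Helper23.WeilCohBasic Groth.Agent.Lib.Helper23.WeilCohGraph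
  Groth.Agent.Lib.Helper23.WeilCohCorr

attribute [local instance] Curv2.resAlgebra

section Schemes

variable (k : Type u) [Field k] {X Y : Scheme.{u}} (p : X ⟶ Spec (CommRingCat.of k))
  (q : Y ⟶ Spec (CommRingCat.of k)) (f : X ⟶ Y) (hf : f ≫ q = p)

include hf in
/-- A finite residue field extension does not change the transcendence degree over the base. -/
theorem trdeg_eq_of_residueDegree_ne_zero (x : X) (h : f.residueDegree x ≠ 0) :
    letI : X.Over (Spec (CommRingCat.of k)) := ⟨p⟩
    letI : Y.Over (Spec (CommRingCat.of k)) := ⟨q⟩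
    Algebra.trdeg k (Y.residueField (f x)) = Algebra.trdeg k (X.residueField x) := by
  letI : X.Over (Spec (CommRingCat.of k)) := ⟨p⟩
  letI : Y.Over (Spec (CommRingCat.of k)) := ⟨q⟩
  letI alg : Algebra (Y.residueField (f x)) (X.residueField x) :=
    (f.residueFieldMap x).hom.toAlgebra
  haveI : IsScalarTower k (Y.residueField (f x)) (X.residueField x) :=
    IsScalarTower.of_algebraMap_eq (fun c => (residueFieldMap_resMap k q p f hf x c).symm)
  have hfin : Module.Finite (Y.residueField (f x)) (X.residueField x) :=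
    Module.finite_of_finrank_pos (Nat.pos_of_ne_zero h)
  have halg : Algebra.IsAlgebraic (Y.residueField (f x)) (X.residueField x) :=
    Algebra.IsAlgebraic.of_finite _ _
  have h0 : Algebra.trdeg (Y.residueField (f x)) (X.residueField x) = 0 := trdeg_eq_zero
  have h1 := trdeg_add_eq k (Y.residueField (f x)) (A := X.residueField x)
  rw [h0, add_zero] at h1
  exact h1

include hf in
theorem pdim_eq_of_residueDegree_ne_zero [LocallyOfFiniteType p] [LocallyOfFiniteType q] (x : X)
    (h : f.residueDegree x ≠ 0) : WeilCoh.pdim Y (f x) = WeilCoh.pdim X x := by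
  letI : X.Over (Spec (CommRingCat.of k)) := ⟨p⟩
  letI : Y.Over (Spec (CommRingCat.of k)) := ⟨q⟩
  haveI : LocallyOfFiniteType (X ↘ Spec (CommRingCat.of k)) := ‹LocallyOfFiniteType p›
  haveI : LocallyOfFiniteType (Y ↘ Spec (CommRingCat.of k)) := ‹LocallyOfFiniteType q›
  obtain ⟨n, hn⟩ := exists_trdeg_eq k X x
  have h1 := trdeg_eq_of_residueDegree_ne_zero k p q f hf x h
  rw [pdim_eq_of_trdeg_eq k X x n hn, pdim_eq_of_trdeg_eq k Y (f x) n (h1.trans hn)]

end Schemes

section Delta

/-- For a finite residue field extension along `f`, the relative transcendence degrees over a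
base agree. -/
theorem trdeg_comp_eq_of_residueDegree_ne_zero {X Y S : Scheme.{u}} (f : X ⟶ Y) (q : Y ⟶ S)
    (x : X) (h : f.residueDegree x ≠ 0) :
    (letI := ((f ≫ q).residueFieldMap x).hom.toAlgebra
     Algebra.trdeg (S.residueField ((f ≫ q) x)) (X.residueField x)) =
    (letI := (q.residueFieldMap (f x)).hom.toAlgebra
     Algebra.trdeg (S.residueField (q (f x))) (Y.residueField (f x))) := by
  letI A1 : Algebra (S.residueField (q (f x))) (Y.residueField (f x)) :=
    (q.residueFieldMap (f x)).hom.toAlgebra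
  letI A2 : Algebra (Y.residueField (f x)) (X.residueField x) :=
    (f.residueFieldMap x).hom.toAlgebra
  letI A3 : Algebra (S.residueField (q (f x))) (X.residueField x) :=
    ((f ≫ q).residueFieldMap x).hom.toAlgebra
  haveI : IsScalarTower (S.residueField (q (f x))) (Y.residueField (f x)) (X.residueField x) :=
    IsScalarTower.of_algebraMap_eq (fun c =>
      congrArg (fun φ => φ.hom c) (Scheme.residueFieldMap_comp f q x))
  have hfin : Module.Finite (Y.residueField (f x)) (X.residueField x) :=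
    Module.finite_of_finrank_pos (Nat.pos_of_ne_zero h)
  have halg : Algebra.IsAlgebraic (Y.residueField (f x)) (X.residueField x) :=
    Algebra.IsAlgebraic.of_finite _ _
  have h0 : Algebra.trdeg (Y.residueField (f x)) (X.residueField x) = 0 := trdeg_eq_zero
  have h1 := trdeg_add_eq (S.residueField (q (f x))) (Y.residueField (f x))
    (A := X.residueField x)
  rw [h0, add_zero] at h1
  exact h1.symm

end Delta

section Var

variable {k : Type u} [Field k] {K : Type v} [Field K]

theorem var_locallyOfFiniteType (X : WeilCoh.Var k) : LocallyOfFiniteType X.obj.hom := by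
  have : Smooth X.obj.hom := X.property.1
  infer_instance

theorem var_quasiCompact (X : WeilCoh.Var k) : QuasiCompact X.obj.hom := by
  obtain ⟨n, i, hi, hcomp⟩ := X.property.2.1
  rw [← hcomp]
  infer_instance

theorem var_compactSpace (X : WeilCoh.Var k) : CompactSpace ↥X.obj.left := by
  haveI := var_quasiCompact X
  exact QuasiCompact.compactSpace_of_compactSpace X.obj.hom

theorem var_pdim_le_dim (X : WeilCoh.Var k) (x : ↥X.obj.left) :
    WeilCoh.pdim X.obj.left x ≤ WeilCoh.dim X.obj.left := by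
  letI : X.obj.left.Over (Spec (CommRingCat.of k)) := ⟨X.obj.hom⟩
  haveI : LocallyOfFiniteType (X.obj.left ↘ Spec (CommRingCat.of k)) := var_locallyOfFiniteType X
  haveI : IrreducibleSpace ↥X.obj.left := X.property.2.2
  exact pdim_le_dim k X.obj.left x

theorem var_codim (X : WeilCoh.Var k) (x : ↥X.obj.left) :
    (WeilCoh.codim X.obj.left x : ℤ) = (WeilCoh.dim X.obj.left : ℤ) - WeilCoh.pdim X.obj.left x := by
  unfold WeilCoh.codim
  rw [Nat.cast_sub (var_pdim_le_dim X x)]

theorem var_pdim_eq_of_residueDegree_ne_zero {X Y : WeilCoh.Var k} (f : X ⟶ Y) (x : ↥X.obj.left)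
    (h : (WeilCoh.sm f).residueDegree x ≠ 0) :
    WeilCoh.pdim Y.obj.left (WeilCoh.sm f x) = WeilCoh.pdim X.obj.left x := by
  haveI := var_locallyOfFiniteType X
  haveI := var_locallyOfFiniteType Y
  exact pdim_eq_of_residueDegree_ne_zero k X.obj.hom Y.obj.hom (WeilCoh.sm f) (Over.w f.hom) x h

end Var

section Theory

variable {k : Type u} [Field k] {P : ObjectProperty (Over (Spec (CommRingCat.of k)))}
variable {K : Type v} [Field K] (T : WeilCoh.TheoryOn.{u, v, w} k P K)

/-- The defining property of the push-forward, against every class. -/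
theorem tr_push_mul_total {X Y : P.FullSubcategory} (f : X ⟶ Y) (i : ℤ) (a : T.gr X i)
    (β : T.H Y) :
    T.tr Y ((T.push f i a : T.H Y) * β) = T.tr X ((a : T.H X) * T.pull f β) := by
  refine hom_induction T Y
    (C := fun β => T.tr Y ((T.push f i a : T.H Y) * β) = T.tr X ((a : T.H X) * T.pull f β))
    ?_ ?_ ?_ β
  · simp
  · intro β₁ β₂ h₁ h₂
    rw [mul_add, map_add, h₁, h₂, map_add, mul_add, map_add]
  · intro s β hβ
    by_cases hs : (s : ℤ) = 2 * (WeilCoh.dim X.obj.left : ℤ) - i
    · exact tr_push_mul T f i a β _ hs hβ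
    · have h1 : (T.push f i a : T.H Y) * β ∈ T.gr Y
          ((i + 2 * (WeilCoh.dim Y.obj.left : ℤ) - 2 * (WeilCoh.dim X.obj.left : ℤ)) + s) :=
        SetLike.mul_mem_graded (T.push f i a).2 hβ
      have h2 : (a : T.H X) * T.pull f β ∈ T.gr X (i + s) :=
        SetLike.mul_mem_graded a.2 (T.pull_mem f _ β hβ)
      rw [T.tr_vanish Y _ _ h1 (by omega), T.tr_vanish X _ _ h2 (by omega)]

end Theory

section VarTheory

variable {k : Type u} [Field k] {K : Type v} [Field K]
variable (T : WeilCoh.TheoryOn.{u, v, w} k (WeilCoh.IsVar k) K)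

/-- The push-forward identity for classes, against every class. -/
theorem tr_cl_mul_pull {X Y : WeilCoh.Var k} (f : X ⟶ Y) (ξ : ↥X.obj.left) (a : T.H Y) :
    T.tr X (T.cl X ξ * T.pull f a) =
      ((WeilCoh.sm f).residueDegree ξ : K) * T.tr Y (T.cl Y (WeilCoh.sm f ξ) * a) := by
  refine hom_induction T Y
    (C := fun a => T.tr X (T.cl X ξ * T.pull f a) =
      ((WeilCoh.sm f).residueDegree ξ : K) * T.tr Y (T.cl Y (WeilCoh.sm f ξ) * a)) ?_ ?_ ?_ a
  · simp
  · intro a₁ a₂ h₁ h₂
    rw [map_add, mul_add, map_add, h₁, h₂, mul_add, map_add, mul_add]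
  · intro s a ha
    by_cases hs : (s : ℤ) = 2 * (WeilCoh.pdim X.obj.left ξ : ℤ)
    · exact T.cl_push f ξ a (hs ▸ ha)
    · have hc := var_codim X ξ
      have h1 : T.cl X ξ * T.pull f a ∈ T.gr X (2 * (WeilCoh.codim X.obj.left ξ : ℤ) + s) :=
        SetLike.mul_mem_graded (T.cl_mem X ξ) (T.pull_mem f _ a ha)
      rw [T.tr_vanish X _ _ h1 (by omega)]
      by_cases hd : (WeilCoh.sm f).residueDegree ξ = 0
      · rw [hd]; simp
      · have hp := var_pdim_eq_of_residueDegree_ne_zero f ξ hd
        have hc' := var_codim Y (WeilCoh.sm f ξ)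
        have h2 : T.cl Y (WeilCoh.sm f ξ) * a ∈
            T.gr Y (2 * (WeilCoh.codim Y.obj.left (WeilCoh.sm f ξ) : ℤ) + s) :=
          SetLike.mul_mem_graded (T.cl_mem Y _) ha
        rw [T.tr_vanish Y _ _ h2 (by omega)]
        simp

/-- The push-forward of the class of a closed irreducible subset. -/
theorem push_cl {X Y : WeilCoh.Var k} (f : X ⟶ Y) (ξ : ↥X.obj.left) :
    (T.push f (2 * (WeilCoh.codim X.obj.left ξ : ℤ)) ⟨T.cl X ξ, T.cl_mem X ξ⟩ : T.H Y) =
      ((WeilCoh.sm f).residueDegree ξ : K) • T.cl Y (WeilCoh.sm f ξ) := by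
  apply eq_of_forall_tr_mul_total T Y
  intro β
  rw [tr_push_mul_total, smul_mul_assoc, map_smul, smul_eq_mul]
  exact tr_cl_mul_pull T f ξ β

/-- Classes of closed irreducible subsets are central. -/
theorem cl_mul_comm (X : WeilCoh.Var k) (ξ : ↥X.obj.left) (a : T.H X) :
    T.cl X ξ * a = a * T.cl X ξ := by
  refine hom_induction T X (C := fun a => T.cl X ξ * a = a * T.cl X ξ) ?_ ?_ ?_ a
  · simp
  · intro a₁ a₂ h₁ h₂
    rw [mul_add, add_mul, h₁, h₂]
  · intro s a ha
    have hcm := T.gradedComm X _ _ (T.cl X ξ) a (T.cl_mem X ξ) ha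
    have heven : Even ((2 * (WeilCoh.codim X.obj.left ξ : ℤ)).natAbs * ((s : ℕ) : ℤ).natAbs) := by
      apply Even.mul_right
      rw [Int.natAbs_mul]
      exact Even.mul_right (by decide) _
    rw [heven.neg_one_pow, one_smul] at hcm
    exact hcm

/-- The correspondence given by the diagonal image of a closed irreducible subset acts as the
cup product with its class. -/
theorem push_pull_mul_cl_diag {X Q : WeilCoh.Var k} (p q : Q ⟶ X) (d : X ⟶ Q)
    (hdp : d ≫ p = 𝟙 X) (hdq : d ≫ q = 𝟙 X) (η : ↥X.obj.left) (i : ℤ) (a : ↥(T.gr X i)) :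
    (T.push q (i + 2 * (WeilCoh.codim Q.obj.left (WeilCoh.sm d η) : ℤ))
        ⟨T.pull p (a : T.H X) * T.cl Q (WeilCoh.sm d η),
          SetLike.mul_mem_graded (T.pull_mem p i a a.2) (T.cl_mem Q (WeilCoh.sm d η))⟩ : T.H X) =
      (a : T.H X) * T.cl X η := by
  apply eq_of_forall_tr_mul_total T X
  intro β
  rw [tr_push_mul_total]
  change T.tr Q (T.pull p (a : T.H X) * T.cl Q (WeilCoh.sm d η) * T.pull q β) = _
  have hdeg : (WeilCoh.sm d).residueDegree η = 1 :=
    residueDegree_eq_one_of_comp_eq_id (WeilCoh.sm d) (WeilCoh.sm p)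
      (congrArg (fun f => WeilCoh.sm f) hdp) η
  have h1 := tr_cl_mul_pull T d η (T.pull p (a : T.H X) * T.pull q β)
  rw [hdeg, Nat.cast_one, one_mul, map_mul (T.pull d), ← AlgHom.comp_apply, ← AlgHom.comp_apply (T.pull d),
    ← T.pull_comp, ← T.pull_comp, hdp, hdq, T.pull_id] at h1
  rw [← cl_mul_comm T Q, mul_assoc, ← h1, ← cl_mul_comm T X, mul_assoc]
  rfl

end VarTheory

end Groth.Agent.Lib.Helper23.WeilCohDim
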