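import Mathlib

/-!
# Finite unions of images of closed sets of spectra, stable under specialization, are closed (helper23)
-/

set_option autoImplicit false

open PrimeSpectrum

namespace Groth.Agent.Lib.Helper23.VSubmA

/-- Ring-level statement. -/
theorem isClosed_iUnion_image_of_stableUnderSpecialization {ι : Type*} [Finite ι]
    {R : Type*} [CommRing R] (B : ι → Type*) [∀ j, CommRing (B j)] (f : ∀ j, R →+* B j)
    (Z : ∀ j, Set (PrimeSpectrum (B j))) (hZ : ∀ j, IsClosed (Z j))
    (hs : StableUnderSpecialization (⋃ j, comap (f j) '' Z j)) :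
    IsClosed (⋃ j, comap (f j) '' Z j) := by
  classical
  let Z' : Set (PrimeSpectrum (Π j, B j)) := ⋃ j, comap (Pi.evalRingHom B j) '' Z j
  have hZ' : IsClosed Z' := by
    refine isClosed_iUnion_of_finite fun j => ?_
    exact (isClosedEmbedding_comap_of_surjective _ (Pi.evalRingHom B j)
      (fun b => ⟨Pi.single j b, by simp⟩)).isClosedMap _ (hZ j)
  have e : comap (RingHom.pi f) '' Z' = ⋃ j, comap (f j) '' Z j := by
    simp only [Z', Set.image_iUnion, Set.image_image]
    refine Set.iUnion_congr fun j => ?_
    refine Set.image_congr fun p _ => ?_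
    rw [← comap_comp_apply]
    rfl
  rw [← e] at hs ⊢
  exact isClosed_image_of_stableUnderSpecialization _ _ hZ' hs

end Groth.Agent.Lib.Helper23.VSubmA
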