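import Mathlib
import Groth.Agent.Lib.Helper23.VSubmA

/-!
# Scheme-level version: finite unions of images of closed sets of affine schemes (helper23)
-/

set_option autoImplicit false

open CategoryTheory AlgebraicGeometry

universe u

namespace Groth.Agent.Lib.Helper23.VSubmB

theorem isClosed_iUnion_image {ι : Type*} [Finite ι] {W : Scheme.{u}} [IsAffine W]
    (Z : ι → Scheme.{u}) [∀ j, IsAffine (Z j)] (h : ∀ j, Z j ⟶ W)
    (C : ∀ j, Set (Z j)) (hC : ∀ j, IsClosed (C j))
    (hs : StableUnderSpecialization (⋃ j, (h j) '' C j)) : IsClosed (⋃ j, (h j) '' C j) := by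
  -- transport along `isoSpec`
  let eW : W ≃ₜ Spec Γ(W, ⊤) := W.isoSpec.hom.homeomorph
  let eZ : ∀ j, Z j ≃ₜ Spec Γ(Z j, ⊤) := fun j => (Z j).isoSpec.hom.homeomorph
  have hnat : ∀ j (z : Z j), eW (h j z) = (Spec.map (h j).appTop) (eZ j z) := by
    intro j z
    have := Scheme.isoSpec_hom_naturality (h j)
    have := congrArg (fun φ : Z j ⟶ Spec Γ(W, ⊤) => φ z) this
    exact this.symm
  have key : eW '' (⋃ j, (h j) '' C j) =
      ⋃ j, PrimeSpectrum.comap ((h j).appTop.hom) '' (eZ j '' C j) := by
    simp only [Set.image_iUnion, Set.image_image]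
    refine Set.iUnion_congr fun j => ?_
    refine Set.image_congr fun z _ => ?_
    exact hnat j z
  have hcl : IsClosed (eW '' (⋃ j, (h j) '' C j)) := by
    rw [key]
    apply Groth.Agent.Lib.Helper23.VSubmA.isClosed_iUnion_image_of_stableUnderSpecialization
    · intro j
      exact (eZ j).isClosedMap _ (hC j)
    · rw [← key]
      intro x y hxy hx
      obtain ⟨x', hx', rfl⟩ := hx
      refine ⟨eW.symm y, ?_, by simp⟩
      refine hs ?_ hx'
      have : eW.symm (eW x') ⤳ eW.symm y := hxy.map eW.symm.continuous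
      simpa using this
  have := eW.isClosed_image.1 hcl
  exact this

end Groth.Agent.Lib.Helper23.VSubmB
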