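import Mathlib
import Groth.Prelude.Def_HTop
import Groth.Agent.Lib.Helper11.VCover
import Groth.Agent.Lib.Helper23.VSubmB

/-!
# V covers are submersive (helper23)
-/

set_option autoImplicit false

open CategoryTheory CategoryTheory.Limits AlgebraicGeometry

universe w u

namespace Groth.Agent.Lib.Helper23.VSubmC

open Groth.Agent.Lib.Helper11.VCover IsLocalRing

/-- Specializations lift along a family with the valuation-lifting property. -/
theorem exists_specializes_lift {W : Scheme.{u}} (K : PreZeroHypercover.{w} W)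
    (hK : HTop.HasValLift K) {w' w₀ : W} (h : w' ⤳ w₀) :
    ∃ (j : K.I₀) (z' z : K.X j), z' ⤳ z ∧ K.f j z' = w' ∧ K.f j z = w₀ := by
  obtain ⟨A, hAd, hAv, a, ha1, ha2⟩ := exists_valuationRing_of_specializes h
  obtain ⟨B, hBd, hBv, φ, ⟨hinj, hloc⟩, j, g', hg'⟩ := hK A a
  refine ⟨j, g' (⟨⊥, Ideal.isPrime_bot⟩ : PrimeSpectrum B), g' (closedPoint B), ?_, ?_, ?_⟩
  · apply Specializes.map _ g'.continuous
    have : (⟨⊥, Ideal.isPrime_bot⟩ : PrimeSpectrum B) ⤳ closedPoint B := by
      rw [← PrimeSpectrum.le_iff_specializes]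
      exact bot_le (a := (closedPoint B).asIdeal)
    exact this
  · rw [← Scheme.Hom.comp_apply, hg', Scheme.Hom.comp_apply, specMap_bot_of_injective φ hinj, ha2]
  · rw [← Scheme.Hom.comp_apply, hg', Scheme.Hom.comp_apply,
      specMap_closedPoint_of_isLocalHom φ hloc, ha1]

/-- A family with the valuation-lifting property is jointly surjective. -/
theorem exists_preimage {W : Scheme.{u}} (K : PreZeroHypercover.{w} W)
    (hK : HTop.HasValLift K) (w₀ : W) : ∃ (j : K.I₀) (z : K.X j), K.f j z = w₀ := by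
  obtain ⟨j, _, z, _, _, hz⟩ := exists_specializes_lift K hK (specializes_rfl (x := w₀))
  exact ⟨j, z, hz⟩

/-- A morphism through which all members of a V cover factor is a quotient map. -/
theorem isQuotientMap_of_isVCover {P Y : Scheme.{u}} (g : P ⟶ Y) (F : PreZeroHypercover.{w} Y)
    (hF : HTop.IsVCover F) (s : ∀ i, F.X i ⟶ P) (hs : ∀ i, s i ≫ g = F.f i) :
    Topology.IsQuotientMap g := by
  rw [Topology.isQuotientMap_iff_isClosed]
  -- data over an affine open
  have data : ∀ W : Y.affineOpens, ∃ K : PreZeroHypercover.{0} ((W : Y.Opens) : Scheme.{u}),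
      HTop.IsStandardV K ∧ ∀ j : K.I₀, ∃ t : K.X j ⟶ P, t ≫ g = K.f j ≫ (W : Y.Opens).ι := by
    intro W
    obtain ⟨K, hK, hKF⟩ := hF W
    refine ⟨K, hK, fun j => ?_⟩
    obtain ⟨i, k, hk⟩ := hKF j
    exact ⟨k ≫ s i, by rw [Category.assoc, hs, hk]⟩
  refine ⟨?_, fun T => ⟨fun hT => hT.preimage g.continuous, fun hT => ?_⟩⟩
  · intro y
    obtain ⟨W, hyW⟩ : ∃ W : Y.affineOpens, y ∈ (W : Y.Opens) := by
      have := iSup_affineOpens_eq_top Y
      have hy : y ∈ (⨆ i : Y.affineOpens, (i : Y.Opens)) := by rw [this]; trivial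
      simpa using hy
    obtain ⟨K, hK, hKt⟩ := data W
    obtain ⟨j, z, hz⟩ := exists_preimage K hK.lift ⟨y, hyW⟩
    obtain ⟨t, ht⟩ := hKt j
    refine ⟨t z, ?_⟩
    rw [← Scheme.Hom.comp_apply, ht, Scheme.Hom.comp_apply, hz]
    rfl
  · have hcov : TopologicalSpace.IsOpenCover (fun W : Y.affineOpens => (W : Y.Opens)) :=
      iSup_affineOpens_eq_top Y
    rw [hcov.isClosed_iff_coe_preimage]
    intro W
    obtain ⟨K, hK, hKt⟩ := data W
    choose t ht using hKt
    have := hK.isAffine
    have := hK.finite_index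
    have := hK.isAffine_obj
    set TW : Set ((W : Y.Opens) : Scheme.{u}) := (W : Y.Opens).ι ⁻¹' T with hTW
    have hC : ∀ j, IsClosed ((K.f j) ⁻¹' TW) := by
      intro j
      have : (K.f j) ⁻¹' TW = (t j) ⁻¹' (g ⁻¹' T) := by
        rw [hTW, ← Set.preimage_comp, ← Set.preimage_comp]
        have := congrArg (fun φ : K.X j ⟶ Y => (φ : K.X j → Y)) (ht j)
        simp only [Scheme.Hom.comp_base, TopCat.hom_comp, ContinuousMap.coe_comp] at this
        rw [this]
      rw [this]
      exact hT.preimage (t j).continuous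
    have hU : TW = ⋃ j, (K.f j) '' ((K.f j) ⁻¹' TW) := by
      ext x
      simp only [Set.mem_iUnion, Set.mem_image, Set.mem_preimage]
      constructor
      · intro hx
        obtain ⟨j, z, hz⟩ := exists_preimage K hK.lift x
        exact ⟨j, z, by rw [hz]; exact hx, hz⟩
      · rintro ⟨j, z, hz, rfl⟩
        exact hz
    have hstab : StableUnderSpecialization TW := by
      intro x' x hxx hx'
      obtain ⟨j, z', z, hzz, hz', hz⟩ := exists_specializes_lift K hK.lift hxx
      have : z' ∈ (K.f j) ⁻¹' TW := by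
        show K.f j z' ∈ TW
        rw [hz']; exact hx'
      have := (hC j).stableUnderSpecialization hzz this
      rw [← hz]
      exact this
    have := Groth.Agent.Lib.Helper23.VSubmB.isClosed_iUnion_image K.X K.f
      (fun j => (K.f j) ⁻¹' TW) hC (by rw [← hU]; exact hstab)
    rw [← hU] at this
    exact this

end Groth.Agent.Lib.Helper23.VSubmC
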