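import Groth.Agent.Lib.Helper23.T2A
import Groth.Agent.Lib.Helper17.Hartogs
import Groth.Agent.Lib.Helper13.BaseChangeVanish
import Groth.Agent.Lib.Helper13.AffineVanish
import Groth.Agent.Lib.Helper3.QCPush
import Groth.Agent.Lib.Helper3.QCLim
import Groth.Agent.Lib.Helper3.InvGen

/-!
# Effacement of quasi-coherent cohomology by pushforwards from an affine cover
-/
set_option autoImplicit false
set_option linter.style.haveILetI false
universe u
open CategoryTheory CategoryTheory.Limits Opposite TopologicalSpace AlgebraicGeometry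
open Scheme.Modules

noncomputable section

namespace Groth.Agent.Lib.Helper23.FBC

open Groth.Agent.Lib.Helper23.T2 Groth.Agent.Lib.Helper3 Groth.Agent.Lib.Helper3.QCSec
  Groth.Agent.Lib.Helper3.InvGen Groth.Agent.Lib.Helper13 Groth.Agent.Lib.Helper13.SerreCrit1

variable {X : Scheme.{u}}

lemma Hmap_add {M N : X.Modules} (φ ψ : M ⟶ N) (n : ℕ) (x : Coh.HH X M n) :
    Hmap (φ + ψ) n x = Hmap φ n x + Hmap ψ n x := by
  rw [Hmap_apply, Hmap_apply, Hmap_apply, Functor.map_add]
  exact Sheaf.H.map_add_apply _ _ x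

lemma Hmap_sum {M N : X.Modules} {ι : Type*} (s : Finset ι) (φ : ι → (M ⟶ N)) (n : ℕ)
    (x : Coh.HH X M n) : Hmap (∑ i ∈ s, φ i) n x = ∑ i ∈ s, Hmap (φ i) n x := by
  classical
  induction s using Finset.induction_on with
  | empty => rw [Finset.sum_empty, Finset.sum_empty]; exact Hmap_zero n x
  | insert a s ha ih => rw [Finset.sum_insert ha, Finset.sum_insert ha, Hmap_add, ih]

/-- cohomology of the image of a finite biproduct under an additive functor -/
theorem subsingleton_HH_map_biproduct {Y : Scheme.{u}} (Φ : X.Modules ⥤ Y.Modules) [Φ.Additive]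
    {ι : Type*} [Fintype ι] (G : ι → X.Modules) (n : ℕ)
    (h : ∀ i, Subsingleton (Coh.HH Y (Φ.obj (G i)) n)) :
    Subsingleton (Coh.HH Y (Φ.obj (⨁ G)) n) := by
  classical
  have key : ∀ x : Coh.HH Y (Φ.obj (⨁ G)) n, x = 0 := by
    intro x
    have h1 : x = Hmap (Φ.map (𝟙 (⨁ G))) n x := by
      rw [CategoryTheory.Functor.map_id, Hmap_id]
    have h2 : Φ.map (𝟙 (⨁ G)) = ∑ i, Φ.map (biproduct.π G i) ≫ Φ.map (biproduct.ι G i) := by
      have ht : ∑ i, biproduct.π G i ≫ biproduct.ι G i = 𝟙 (⨁ G) :=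
        IsBilimit.total (biproduct.isBilimit G)
      rw [← ht, Functor.map_sum]
      refine Finset.sum_congr rfl fun i _ => ?_
      rw [CategoryTheory.Functor.map_comp]
    rw [h1, h2, Hmap_sum]
    apply Finset.sum_eq_zero
    intro i _
    rw [Hmap_comp]
    rw [(h i).elim (Hmap (Φ.map (biproduct.π G i)) n x) 0, map_zero]
  exact ⟨fun a b => (key a).trans (key b).symm⟩

/-- pushforwards of quasi-coherent modules from affine opens with affine inclusion are acyclic -/
theorem subsingleton_HH_push {U : X.Opens} (hU : IsAffineOpen U) [IsAffineHom U.ι]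
    (N : (U : Scheme.{u}).Modules) [N.IsQuasicoherent] (p : ℕ) :
    Subsingleton (Coh.HH X ((Scheme.Modules.pushforward U.ι).obj N) (p + 1)) := by
  haveI : IsAffine (U : Scheme.{u}) := hU
  obtain ⟨e⟩ := BaseChangeVanish.nonempty_HH_equiv_push U.ι N (p + 1)
  have := AffineVanish.subsingleton_HH_of_isAffine (U : Scheme.{u}) N p
  exact e.symm.toEquiv.subsingleton

section Eff

variable {ι : Type u} [Fintype ι] (U : ι → X.Opens)

/-- `j_* j^* F` for the inclusion of an open -/
abbrev PR (V : X.Opens) (F : X.Modules) : X.Modules :=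
  (Scheme.Modules.pushforward V.ι).obj ((Scheme.Modules.restrictFunctor V.ι).obj F)

/-- `⨁ j_{i*} j_i^* F` -/
def Eff (F : X.Modules) : X.Modules := ⨁ fun i => PR (U i) F

/-- the canonical map `F ⟶ ⨁ j_{i*} j_i^* F` -/
def effMap (F : X.Modules) : F ⟶ Eff U F :=
  biproduct.lift (fun i => Groth.Agent.Lib.Helper17.Hartogs.unit F (U i))

lemma effMap_π (F : X.Modules) (i : ι) :
    effMap U F ≫ biproduct.π (fun i => PR (U i) F) i =
      Groth.Agent.Lib.Helper17.Hartogs.unit F (U i) :=
  biproduct.lift_π _ _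

theorem mono_effMap (hcov : ⨆ i, U i = ⊤) (F : X.Modules) : Mono (effMap U F) := by
  rw [QCProps.mono_iff_app_injective]
  intro W a b hab
  apply sec_eq_of_locally_eq F (fun i => (U i).ι ''ᵁ ((U i).ι ⁻¹ᵁ W)) W
    (fun i => (U i).ι.image_preimage_le W) ?_ a b
  · intro i
    have h1 : (effMap U F ≫ biproduct.π (fun i => PR (U i) F) i).app W a =
        (effMap U F ≫ biproduct.π (fun i => PR (U i) F) i).app W b := by
      change (biproduct.π (fun i => PR (U i) F) i).app W ((effMap U F).app W a) =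
        (biproduct.π (fun i => PR (U i) F) i).app W ((effMap U F).app W b)
      rw [hab]
    rw [effMap_π] at h1
    exact h1
  · intro x hx
    have hx' : x ∈ (⨆ i, U i : X.Opens) := by rw [hcov]; trivial
    obtain ⟨i, hi⟩ := Opens.mem_iSup.mp hx'
    rw [Opens.mem_iSup]
    refine ⟨i, ?_⟩
    rw [Groth.Agent.Lib.Helper17.Hartogs.image_preimage_eq_inf]
    exact ⟨hx, hi⟩

instance isQuasicoherent_PR (V : X.Opens) [IsAffineHom V.ι] (F : X.Modules)
    [F.IsQuasicoherent] : (PR V F).IsQuasicoherent := by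
  haveI : ((Scheme.Modules.restrictFunctor V.ι).obj F).IsQuasicoherent :=
    Scheme.Modules.isQuasicoherent_restrictFunctor V.ι F
  exact QCSec.isQuasicoherent_pushforward V.ι _

theorem isQuasicoherent_Eff [∀ i, IsAffineHom (U i).ι] (F : X.Modules) [F.IsQuasicoherent] :
    (Eff U F).IsQuasicoherent := by
  haveI : ∀ i, (PR (U i) F).IsQuasicoherent := fun i => inferInstance
  have h := QCLim.isQuasicoherent_sigma (fun i => PR (U i) F)
  exact (SheafOfModules.isQuasicoherent X.ringCatSheaf).prop_of_iso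
    (biproduct.isoCoproduct (fun i => PR (U i) F)).symm h

theorem subsingleton_HH_Eff (hU : ∀ i, IsAffineOpen (U i)) [∀ i, IsAffineHom (U i).ι]
    (F : X.Modules) [F.IsQuasicoherent] (p : ℕ) :
    Subsingleton (Coh.HH X (Eff U F) (p + 1)) := by
  haveI : ∀ i, ((Scheme.Modules.restrictFunctor (U i).ι).obj F).IsQuasicoherent :=
    fun i => Scheme.Modules.isQuasicoherent_restrictFunctor (U i).ι F
  exact subsingleton_HH_map_biproduct (𝟭 X.Modules) (fun i => PR (U i) F) (p + 1)
    (fun i => subsingleton_HH_push (hU i) _ p)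

end Eff

end Groth.Agent.Lib.Helper23.FBC
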