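import Groth.Agent.Lib.Helper23.FlatClB

/-!
# Flat closure over a DVR: main results
-/

set_option autoImplicit false
universe u
open CategoryTheory AlgebraicGeometry Limits

namespace Groth.Agent.Lib.Helper23.FlatCl

/-- A ring map out of a DVR into a ring which embeds into a ring where the uniformizer is
invertible is flat. -/
lemma flat_of_injective_of_isUnit {A Q D : Type u} [CommRing A] [IsDomain A]
    [IsDiscreteValuationRing A] [CommRing Q] [CommRing D]
    (ρ : A →+* Q) (τ : Q →+* D) (hτ : Function.Injective τ) {π : A} (hπ : Irreducible π)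
    (hu : IsUnit (τ (ρ π))) : ρ.Flat := by
  letI : Algebra A Q := ρ.toAlgebra
  have htf : Module.IsTorsionFree A Q := by
    refine Module.IsTorsionFree.of_smul_eq_zero fun a q h => ?_
    by_cases ha : a = 0
    · exact Or.inl ha
    right
    rw [Algebra.smul_def, RingHom.algebraMap_toAlgebra] at h
    have h2 : τ (ρ a) * τ q = 0 := by rw [← map_mul, h, map_zero]
    have hu' : IsUnit ((τ.comp ρ) a) := isUnit_map_of_ne_zero (τ.comp ρ) hπ hu ha
    apply hτ
    rw [map_zero]
    exact (hu'.mul_right_eq_zero).mp h2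
  change Module.Flat A Q
  infer_instance

lemma isUnit_of_le_basicOpen {X : Scheme.{u}} {U : X.Opens} (s : Γ(X, U))
    (h : U ≤ X.basicOpen s) : IsUnit s := by
  apply X.toRingedSpace.isUnit_of_isUnit_germ U s
  intro x hx
  exact (X.mem_basicOpen s x hx).mp (h hx)

variable {A : Type u} [CommRing A] [IsDomain A] [IsDiscreteValuationRing A]
variable {X : Scheme.{u}} (f : X ⟶ Spec (CommRingCat.of A)) (η : ↥(Spec (CommRingCat.of A)))

lemma sec_comp {Z : Scheme.{u}} (i : Z ⟶ X) (U : X.Opens) (a : A) :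
    i.app U (sec f U a) = sec (i ≫ f) (i ⁻¹ᵁ U) a := by
  unfold sec
  rw [CommRingCat.comp_apply, CommRingCat.comp_apply, ← CommRingCat.comp_apply,
    Scheme.Hom.app_eq_appLE, Scheme.Hom.appLE_comp_appLE]

lemma sec_flat [Flat f] {U : X.Opens} (hU : IsAffineOpen U) : (sec f U).Flat := by
  unfold sec
  rw [CommRingCat.hom_comp]
  exact RingHom.Flat.comp
    (RingHom.Flat.of_bijective (ConcreteCategory.bijective_of_isIso _))
    (Scheme.Hom.flat_appLE f (isAffineOpen_top _) hU _)

lemma flat_appLE_of_sec {U : X.Opens} (h : (sec f U).Flat) :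
    (f.appLE ⊤ U le_top).hom.Flat := by
  have h2 : (f.appLE ⊤ U le_top).hom =
      (sec f U).comp (Scheme.ΓSpecIso (CommRingCat.of A)).hom.hom := by
    unfold sec
    rw [← CommRingCat.hom_comp, Iso.hom_inv_id_assoc]
  rw [h2]
  exact RingHom.Flat.comp (RingHom.Flat.of_bijective
    (ConcreteCategory.bijective_of_isIso (Scheme.ΓSpecIso (CommRingCat.of A)).hom)) h

/-- The pullback of a nonzero element of `A` to the generic fibre is a unit. -/
lemma isUnit_sec_of_range_le (hη : η.asIdeal = ⊥) {π : A} (hπ : Irreducible π)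
    {Y : Scheme.{u}} (h : Y ⟶ X) (hr : Set.range h ⊆ Set.range (f.fiberι η)) (W : Y.Opens) :
    IsUnit (sec (h ≫ f) W π) := by
  apply isUnit_of_le_basicOpen
  rw [basicOpen_sec]
  intro y hy
  refine ⟨hy, ?_⟩
  have h1 : h y ∈ (X.basicOpen (sec f ⊤ π) : Set X) :=
    range_le_basicOpen_sec f η hη hπ (hr ⟨y, rfl⟩)
  rw [basicOpen_sec] at h1
  exact h1.2

/-- Part 2: the flat closure is the largest flat closed subscheme. -/
theorem ker_le_of_flat (hη : η.asIdeal = ⊥) {Z : Scheme.{u}} (i : Z ⟶ X)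
    [IsClosedImmersion i] [Flat (i ≫ f)] : (f.fiberι η).ker ≤ i.ker := by
  obtain ⟨π, hπ⟩ := IsDiscreteValuationRing.exists_irreducible A
  have := quasiCompact_fiberι f η
  intro U
  rw [Scheme.Hom.ker_apply, Scheme.Hom.ker_apply]
  intro s hs
  rw [RingHom.mem_ker] at hs ⊢
  obtain ⟨n, hn⟩ := exists_pow_mul_eq_zero f η hη hπ U.2 s hs
  have h1 : (i.app U) (sec f U π ^ n * s) = 0 := by rw [hn, map_zero]
  rw [map_mul, map_pow, sec_comp, ← map_pow] at h1
  exact eq_zero_of_flat _ (sec_flat (i ≫ f) (U.2.preimage i)) (pow_ne_zero n hπ.ne_zero) h1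

/-- Part 1: the flat closure is flat. -/
theorem flat_imageι_comp (hη : η.asIdeal = ⊥) : Flat ((f.fiberι η).imageι ≫ f) := by
  obtain ⟨π, hπ⟩ := IsDiscreteValuationRing.exists_irreducible A
  have := quasiCompact_fiberι f η
  set g := f.fiberι η with hg
  refine HasRingHomProperty.of_iSup_eq_top (P := @Flat)
    (fun V : X.affineOpens => ⟨g.imageι ⁻¹ᵁ V.1, V.2.preimage g.imageι⟩) ?_ ?_
  · have := iSup_affineOpens_eq_top X
    ext x
    simp only [TopologicalSpace.Opens.coe_iSup, Set.mem_iUnion, TopologicalSpace.Opens.coe_top,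
      Set.mem_univ, iff_true]
    have hx : g.imageι x ∈ (⨆ V : X.affineOpens, (V : X.Opens)) := by rw [this]; trivial
    simpa using hx
  · intro V
    have key : (sec (g.imageι ≫ f) (g.imageι ⁻¹ᵁ V.1)).Flat := by
      refine flat_of_injective_of_isUnit _ (g.toImage.app (g.imageι ⁻¹ᵁ V.1)).hom
        (g.toImage_app_injective V) hπ ?_
      change IsUnit ((g.toImage.app (g.imageι ⁻¹ᵁ V.1)) (sec (g.imageι ≫ f) (g.imageι ⁻¹ᵁ V.1) π))
      rw [sec_comp]
      refine isUnit_sec_of_range_le f η hη hπ (g.toImage ≫ g.imageι) ?_ _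
      rw [g.toImage_imageι]
    exact flat_appLE_of_sec _ key

end Groth.Agent.Lib.Helper23.FlatCl
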