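import Groth.Agent.Lib.Helper23.T2B
import Groth.Agent.Lib.Helper1.FlasqueAcyclic
import Groth.Agent.Lib.Helper13.InjRestrSurj

/-!
# T2C: flasque modules are acyclic; resolutions compute cohomology (degreewise, Serre-class form)
-/
set_option autoImplicit false
universe u
open CategoryTheory CategoryTheory.Limits Opposite TopologicalSpace AlgebraicGeometry

noncomputable section

namespace Groth.Agent.Lib.Helper23.T2

variable {X : Scheme.{u}}

/-- flasque `O_X`-module: all restriction maps are surjective. -/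
def IsFlq (M : X.Modules) : Prop :=
  ∀ {U V : (Opens X)ᵒᵖ} (i : U ⟶ V), Function.Surjective (M.val.map i)

lemma isFlq_of_injective (I : X.Modules) (hI : Injective I) : IsFlq I := by
  intro U V i
  haveI : Mono i.unop := ⟨fun _ _ _ => Subsingleton.elim _ _⟩
  exact @Groth.Agent.Lib.Helper13.InjRestrSurj.restriction_surjective _ _ _ X.ringCatSheaf I hI _ _
    i.unop inferInstance

lemma isFlasque_toAb_of_isFlq {M : X.Modules} (h : IsFlq M) :
    TopCat.Sheaf.IsFlasque (Coh.toAb M) where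
  epi {U V} i := by
    rw [AddCommGrpCat.epi_iff_surjective]
    exact h i

lemma acyclic_of_isFlq {M : X.Modules} (h : IsFlq M) (p : ℕ) : Subsingleton (HHm M (p + 1)) := by
  have := isFlasque_toAb_of_isFlq h
  exact Groth.Agent.Lib.Helper1.FlasqueAcyclic.flasque_H_subsingleton (Coh.toAb M) p

lemma isFlq_push {Y : Scheme.{u}} (f : X ⟶ Y) {M : X.Modules} (h : IsFlq M) :
    IsFlq ((Coh.push f).obj M) := by
  intro U V i
  exact h ((Opens.map f.base).op.map i)

lemma isFlq_restrict (U : X.Opens) {M : X.Modules} (h : IsFlq M) :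
    IsFlq ((Scheme.Modules.restrictFunctor U.ι).obj M) := by
  intro V W i
  exact h ((U.ι.opensFunctor).op.map i)

lemma termsAcyclic_of_isFlq (K : CochainComplex X.Modules ℕ) (h : ∀ n, IsFlq (K.X n)) :
    TermsAcyclic K := fun n p => acyclic_of_isFlq (h n) p

/-! ### Resolutions -/

variable {K : CochainComplex X.Modules ℕ} (𝒮 : SClass (Coh.Γtop X))

lemma P_cycles_of_resolution (hK : TermsAcyclic K) (hres : ∀ j, IsZero (K.homology (j + 1))) :
    ∀ j p : ℕ, 𝒮.P (HHm (K.homology 0) (j + p + 1)) → 𝒮.P (HHm (K.cycles j) (p + 1)) := by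
  intro j
  induction j with
  | zero =>
    intro p h
    rw [Nat.zero_add] at h
    exact stepZ 𝒮 0 (p + 1)
      (@SClass.zero _ _ 𝒮 _ _ _ (subsingleton_HHm_of_isZero isZero_B0 (p + 1))) h
  | succ j ih =>
    intro p h
    have h' : 𝒮.P (HHm (K.homology 0) (j + (p + 1) + 1)) := by
      have e : j + (p + 1) + 1 = j + 1 + p + 1 := by omega
      rw [e]; exact h
    have hB : 𝒮.P (HHm (kernel (K.homologyπ (j + 1))) (p + 1)) :=
      (shiftB 𝒮 hK j p).2 (ih (p + 1) h')
    exact stepZ 𝒮 (j + 1) (p + 1) hB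
      (@SClass.zero _ _ 𝒮 _ _ _ (subsingleton_HHm_of_isZero (hres j) (p + 1)))

/-- For a resolution by acyclics, the `n`-th cohomology of the sections complex lies in `𝒮` as soon as
`H^n(X, ℋ^0(K))` does. -/
theorem PQ_of_resolution (hK : TermsAcyclic K) (hres : ∀ j, IsZero (K.homology (j + 1))) (n : ℕ)
    (h : 𝒮.P (HHm (K.homology 0) n)) : PQ K 𝒮 n := by
  cases n with
  | zero =>
    change 𝒮.P (Q0 K)
    have hB0 : Subsingleton (HHm (kernel (K.homologyπ 0)) 0) :=
      subsingleton_HHm_of_isZero isZero_B0 0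
    have h1 : 𝒮.P (HHm (K.cycles 0) 0) :=
      stepZ 𝒮 0 0 (@SClass.zero _ _ 𝒮 _ _ _ hB0) h
    exact 𝒮.of_equiv (LinearEquiv.ofBijective (q0map K) (q0map_bijective K)) h1
  | succ n =>
    refine PQ_succ_of 𝒮 n (P_cycles_of_resolution 𝒮 hK hres n 0 h)
      (@SClass.zero _ _ 𝒮 _ _ _ (subsingleton_HHm_of_isZero (hres n) 0))

lemma P_cycles_zero_of_resolution (hK : TermsAcyclic K)
    (hres : ∀ j, IsZero (K.homology (j + 1))) :
    ∀ j p : ℕ, 𝒮.P (HHm (K.cycles j) (p + 1)) → 𝒮.P (HHm (K.cycles 0) (j + p + 1)) := by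
  intro j
  induction j with
  | zero =>
    intro p h
    rw [Nat.zero_add]
    exact h
  | succ j ih =>
    intro p h
    have hB : 𝒮.P (HHm (kernel (K.homologyπ (j + 1))) (p + 1)) :=
      stepB 𝒮 (j + 1) p
        (@SClass.zero _ _ 𝒮 _ _ _ (subsingleton_HHm_of_isZero (hres j) p)) h
    have h2 := ih (p + 1) ((shiftB 𝒮 hK j p).1 hB)
    have e : j + (p + 1) + 1 = j + 1 + p + 1 := by omega
    rw [e] at h2
    exact h2

/-- Converse of `PQ_of_resolution`. -/
theorem homology_of_PQ_resolution (hK : TermsAcyclic K) (hres : ∀ j, IsZero (K.homology (j + 1)))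
    (n : ℕ) (h : PQ K 𝒮 n) : 𝒮.P (HHm (K.homology 0) n) := by
  have hB0 : ∀ p, Subsingleton (HHm (kernel (K.homologyπ 0)) p) := fun p =>
    subsingleton_HHm_of_isZero isZero_B0 p
  cases n with
  | zero => exact P_H0_homology_zero_of_PQ 𝒮 (hB0 1) h
  | succ n =>
    have h1 : 𝒮.P (HHm (K.cycles n) 1) := P_H1_cycles_of_PQ 𝒮 hK n h
    have h2 := P_cycles_zero_of_resolution 𝒮 hK hres n 0 h1
    refine 𝒮.of_surjective (hmap (K.homologyπ 0) (n + 1)) ?_ h2
    intro x
    exact hexact₃ (Groth.Agent.Lib.Helper13.LerayDeg.Sb K 0)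
      (Groth.Agent.Lib.Helper13.LerayDeg.Sb_shortExact K 0) (n + 1) x
      (@Subsingleton.elim _ (hB0 (n + 2)) _ _)

end Groth.Agent.Lib.Helper23.T2
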