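import Groth.Agent.Lib.Helper23.Inverse
import Groth.Agent.Lib.Helper23.T2A
import Groth.Agent.Lib.Helper3.StalkLin
import Groth.Agent.Lib.Helper9.StalkUnit

/-!
# Sections of the dual from morphisms to the structure sheaf

A morphism `u : L ⟶ O_X` gives a global section of `dual L` (the family of its stalk forms).
Two morphisms whose stalk forms at a point `a` are "independent" (one non-surjective, the other
surjective) give linearly independent classes in `H⁰(X, dual L)`.
-/

set_option autoImplicit false
universe u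
open CategoryTheory CategoryTheory.Limits AlgebraicGeometry TopologicalSpace Opposite
open Scheme.Modules

namespace Groth.Agent.Lib.Helper23.DualSec

open Groth.Agent.Lib.Helper3 Groth.Agent.Lib.Helper3.QCSec Groth.Agent.Lib.Helper3.InvGen
open Groth.Agent.Lib.Helper9 Groth.Agent.Lib.Helper23.Inverse Groth.Agent.Lib.Helper23.T2

variable {X : Scheme.{u}}

/-- the linear form on the stalk induced by a morphism `L ⟶ O_X` -/
noncomputable def stalkForm {L : X.Modules} (u : L ⟶ Coh.structureModule X) (y : X) :
    DStalk L y where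
  toFun t := StalkUnit.unitStalkHom y (QS.stalkMap u y t)
  map_add' s t := by rw [map_add, map_add]
  map_smul' r t := by
    rw [QS.stalkMap_smul, StalkUnit.unitStalkHom_smul]
    rfl

theorem stalkForm_germ {L : X.Modules} (u : L ⟶ Coh.structureModule X) (y : X) (W : X.Opens)
    (hy : y ∈ W) (s : Γ(L, W)) :
    stalkForm u y (L.presheaf.germ W y hy s) = X.presheaf.germ W y hy (toFun W (u.app W s)) := by
  change StalkUnit.unitStalkHom y (QS.stalkMap u y _) = _
  rw [QS.stalkMap_germ, StalkUnit.unitStalkHom_germ]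
  rfl

/-- the global section of the dual given by a morphism to the structure sheaf -/
noncomputable def secOfHom {L : X.Modules} (u : L ⟶ Coh.structureModule X) : Γ(dual L, ⊤) :=
  ⟨fun y => stalkForm u y.1, fun V _ l =>
    ⟨toFun V (u.app V l), fun x => (stalkForm_germ u x.1 V x.2 l).symm⟩⟩

theorem secOfHom_apply {L : X.Modules} (u : L ⟶ Coh.structureModule X) (y : (⊤ : X.Opens)) :
    (secOfHom u).1 y = stalkForm u y.1 := rfl

section Indep

variable (k : Type u) [Field k] [X.Over (Spec (CommRingCat.of k))]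

theorem eval_smul_add {L : X.Modules} (u₁ u₂ : L ⟶ Coh.structureModule X)
    (r₁ r₂ : Coh.Γtop X)
    (h : r₁ • (show Γm (dual L) from secOfHom u₁) + r₂ • (show Γm (dual L) from secOfHom u₂) = 0)
    (y : X) (t : L.presheaf.stalk y) :
    X.presheaf.germ ⊤ y trivial (show Γ(X, ⊤) from r₁) * stalkForm u₁ y t +
      X.presheaf.germ ⊤ y trivial (show Γ(X, ⊤) from r₂) * stalkForm u₂ y t = 0 := by
  have h1 := congrArg (fun s : Γ(dual L, ⊤) => s.1 ⟨y, trivial⟩ t) h
  exact h1

include k in
theorem two_le_finrank_h0_dual {L : X.Modules} [Module.Finite k (Coh.HH X (dual L) 0)]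
    (u₁ u₂ : L ⟶ Coh.structureModule X) (a b : X)
    (h1 : ∀ t, stalkForm u₁ a t ∈ IsLocalRing.maximalIdeal (X.presheaf.stalk a))
    (h2 : ∃ t, stalkForm u₂ a t = 1)
    (h3 : ∃ t, stalkForm u₁ b t = 1) :
    2 ≤ Module.finrank k (Coh.HH X (dual L) 0) := by
  classical
  have hunit : ∀ (c : k) (y : X), c ≠ 0 → IsUnit (X.presheaf.germ ⊤ y trivial
      (show Γ(X, ⊤) from Coh.toGlobal (X ↘ Spec (CommRingCat.of k)) c)) := by
    intro c y hc
    have hu : IsUnit (Coh.toGlobal (X ↘ Spec (CommRingCat.of k)) c) :=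
      (IsUnit.mk0 c hc).map _
    exact hu.map (X.presheaf.germ ⊤ y trivial).hom
  have hli : LinearIndependent k ![(H0equiv (dual L)).symm (secOfHom u₁),
      (H0equiv (dual L)).symm (secOfHom u₂)] := by
    rw [LinearIndependent.pair_iff]
    intro c₁ c₂ h
    have h' := congrArg (H0equiv (dual L)) h
    rw [map_add, map_zero] at h'
    have e1 := (H0equiv (dual L)).map_smul (Coh.toGlobal (X ↘ Spec (CommRingCat.of k)) c₁)
      ((H0equiv (dual L)).symm (secOfHom u₁))
    have e2 := (H0equiv (dual L)).map_smul (Coh.toGlobal (X ↘ Spec (CommRingCat.of k)) c₂)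
      ((H0equiv (dual L)).symm (secOfHom u₂))
    rw [LinearEquiv.apply_symm_apply] at e1 e2
    have h'' : Coh.toGlobal (X ↘ Spec (CommRingCat.of k)) c₁ •
          (show Γm (dual L) from secOfHom u₁) +
        Coh.toGlobal (X ↘ Spec (CommRingCat.of k)) c₂ •
          (show Γm (dual L) from secOfHom u₂) = 0 := by
      rw [← e1, ← e2]
      exact h'
    have hc₂ : c₂ = 0 := by
      by_contra hne
      obtain ⟨t, ht⟩ := h2
      have hev := eval_smul_add u₁ u₂ _ _ h'' a t
      rw [ht, mul_one] at hev
      have hmem : X.presheaf.germ ⊤ a trivial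
          (show Γ(X, ⊤) from Coh.toGlobal (X ↘ Spec (CommRingCat.of k)) c₂) ∈
          IsLocalRing.maximalIdeal (X.presheaf.stalk a) := by
        rw [eq_neg_of_add_eq_zero_right hev]
        exact neg_mem (Ideal.mul_mem_left _ _ (h1 t))
      exact (IsLocalRing.mem_maximalIdeal _).1 hmem (hunit c₂ a hne)
    refine ⟨?_, hc₂⟩
    by_contra hne
    obtain ⟨t, ht⟩ := h3
    have hev := eval_smul_add u₁ u₂ _ _ h'' b t
    rw [ht, mul_one, hc₂] at hev
    rw [map_zero] at hev
    have hz : X.presheaf.germ ⊤ b trivial (show Γ(X, ⊤) from (0 : Coh.Γtop X)) = 0 :=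
      map_zero _
    rw [hz, zero_mul, add_zero] at hev
    exact (hunit c₁ b hne).ne_zero hev
  have := hli.fintype_card_le_finrank
  simpa using this

end Indep

end Groth.Agent.Lib.Helper23.DualSec
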