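import Groth.Agent.Lib.Helper23.AmpleCurve14

/-!
# GammaField: cohomology groups on a proper integral `k`-scheme are vector spaces over the field
`K = Γ(X, O_X)`; consequently `[K : k]` divides all `hⁱ`, and a degree one invertible module on a
curve with `H¹(O) = 0` forces `h⁰(O) = 1`.
-/
set_option autoImplicit false
set_option linter.style.haveILetI false
universe u
open CategoryTheory CategoryTheory.Limits Opposite TopologicalSpace AlgebraicGeometry
open Groth.Agent.Lib.Helper3 Groth.Agent.Lib.Helper3.QCSec Groth.Agent.Lib.Helper3.InvGen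
open Groth.Agent.Lib.Helper23.T2

noncomputable section

namespace Groth.Agent.Lib.Helper23.GammaField

open Groth.Agent.Lib.Helper23.Curve

theorem finrank_dvd_of_isField_ring {k K V : Type*} [Field k] [Ring K] [Module k K]
    (hK : IsField K) [AddCommGroup V] [Module k V] [Module K V] [IsScalarTower k K V] :
    Module.finrank k K ∣ Module.finrank k V := by
  letI := hK.toField
  exact ⟨_, (Module.finrank_mul_finrank k K V).symm⟩

variable (k : Type u) [Field k] {X : Scheme.{u}} [X.Over (Spec (CommRingCat.of k))]

/-- the `k`-module structure on global functions -/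
@[reducible] def algΓ : Module k (Coh.Γtop X) :=
  Module.compHom (Coh.Γtop X) (Coh.toGlobal (X ↘ Spec (CommRingCat.of k)))

theorem isScalarTower (M : X.Modules) (n : ℕ) :
    letI := algΓ k (X := X)
    IsScalarTower k (Coh.Γtop X) (Coh.HH X M n) := by
  letI := algΓ k (X := X)
  exact ⟨fun c a x => mul_smul (Coh.toGlobal (X ↘ Spec (CommRingCat.of k)) c) a x⟩

theorem isScalarTower_self :
    letI := algΓ k (X := X)
    IsScalarTower k (Coh.Γtop X) (Coh.Γtop X) := by
  letI := algΓ k (X := X)
  exact ⟨fun c a x => mul_assoc (Coh.toGlobal (X ↘ Spec (CommRingCat.of k)) c) a x⟩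

/-- `O(X)` as a module over itself is the global sections of the structure module -/
def e2 : Γm (Coh.structureModule X) ≃ₗ[Coh.Γtop X] Coh.Γtop X where
  toFun a := a
  invFun a := a
  map_add' _ _ := rfl
  map_smul' _ _ := rfl
  left_inv _ := rfl
  right_inv _ := rfl

theorem finrank_h0_structure :
    letI := algΓ k (X := X)
    Module.finrank k (Coh.HH X (Coh.structureModule X) 0) = Module.finrank k (Coh.Γtop X) := by
  letI := algΓ k (X := X)
  haveI := isScalarTower k (Coh.structureModule X) 0
  haveI := isScalarTower_self k (X := X)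
  exact (((H0equiv (Coh.structureModule X)).trans e2).restrictScalars k).finrank_eq

variable [IsProper (X ↘ Spec (CommRingCat.of k))] [IsIntegral X]

theorem finrank_dvd (M : X.Modules) (n : ℕ) :
    letI := algΓ k (X := X)
    Module.finrank k (Coh.Γtop X) ∣ Module.finrank k (Coh.HH X M n) := by
  letI := algΓ k (X := X)
  haveI := isScalarTower k M n
  have hF : IsField (Coh.Γtop X) :=
    isField_of_universallyClosed k (X ↘ Spec (CommRingCat.of k))
  exact finrank_dvd_of_isField_ring hF

/-- a degree one invertible module on a curve with `H¹(O) = 0` forces `h⁰(O) = 1` -/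
theorem finrank_h0_eq_one (hdim : topologicalKrullDim X ≤ 1)
    (h1 : Subsingleton (Coh.HH X (Coh.structureModule X) 1))
    (L : X.Modules) (hL : PicF.IsInvertible L) (hdeg : Curv2.deg k X L 1 = 1) :
    Module.finrank k (Coh.HH X (Coh.structureModule X) 0) = 1 := by
  haveI := isNoetherian_of_isProper k X
  letI := algΓ k (X := X)
  obtain ⟨a, ha⟩ := finrank_dvd k L 0
  obtain ⟨b, hb⟩ := finrank_dvd k L 1
  have hO := finrank_h0_structure k (X := X)
  have e1 := euler_eq_h0_sub_h1 k hdim L (isCoh_of_isInvertible hL)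
  have e2 := euler_eq_h0_sub_h1 k hdim (Coh.structureModule X) (T2.isCoh_structureModule X)
  have h1' : Module.finrank k (Coh.HH X (Coh.structureModule X) 1) = 0 :=
    Module.finrank_zero_of_subsingleton
  unfold Curv2.deg at hdeg
  rw [e1, e2, h1', ha, hb, hO] at hdeg
  rw [hO]
  have hd : (Module.finrank k (Coh.Γtop X) : ℤ) ∣ 1 :=
    ⟨(a : ℤ) - b - 1, by push_cast at hdeg; linarith⟩
  exact_mod_cast Int.eq_one_of_dvd_one (Int.natCast_nonneg _) hd

/-- an invertible module of degree one on a proper integral curve forces `h⁰(O) = 1`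
(without any hypothesis on `H¹(O)`) -/
theorem finrank_h0_eq_one' (hdim : topologicalKrullDim X ≤ 1)
    (L : X.Modules) (hL : PicF.IsInvertible L) (hdeg : Curv2.deg k X L 1 = 1) :
    Module.finrank k (Coh.HH X (Coh.structureModule X) 0) = 1 := by
  haveI := isNoetherian_of_isProper k X
  letI := algΓ k (X := X)
  obtain ⟨a, ha⟩ := finrank_dvd k L 0
  obtain ⟨b, hb⟩ := finrank_dvd k L 1
  obtain ⟨c, hc⟩ := finrank_dvd k (Coh.structureModule X) 1
  have hO := finrank_h0_structure k (X := X)
  have e1 := euler_eq_h0_sub_h1 k hdim L (isCoh_of_isInvertible hL)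
  have e2 := euler_eq_h0_sub_h1 k hdim (Coh.structureModule X) (T2.isCoh_structureModule X)
  unfold Curv2.deg at hdeg
  rw [e1, e2, hc, ha, hb, hO] at hdeg
  rw [hO]
  have hd : (Module.finrank k (Coh.Γtop X) : ℤ) ∣ 1 :=
    ⟨(a : ℤ) - b - 1 + c, by push_cast at hdeg; linarith⟩
  exact_mod_cast Int.eq_one_of_dvd_one (Int.natCast_nonneg _) hd

end Groth.Agent.Lib.Helper23.GammaField
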