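import Groth.Agent.Lib.Helper23.AmpleCurve10

/-!
# AmpleCurve11: if `h¹(P) = h¹(O)` for an invertible module of positive degree with a section on
a proper integral curve, then `h¹(O) = 0`
-/
set_option autoImplicit false
set_option linter.style.haveILetI false
universe u
open CategoryTheory CategoryTheory.Limits Opposite TopologicalSpace AlgebraicGeometry
open Groth.Agent.Lib.Helper3 Groth.Agent.Lib.Helper3.QCSec Groth.Agent.Lib.Helper3.InvGen
  Groth.Agent.Lib.Helper3.InvTensor Groth.Agent.Lib.Helper3.InvMonoidal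
  Groth.Agent.Lib.Helper3.InvAmple
open Groth.Agent.Lib.Helper23.T2

noncomputable section

namespace Groth.Agent.Lib.Helper23.AmpleCurve

open Groth.Agent.Lib.Helper23.Curve Groth.Agent.Lib.Helper23.Dev

variable {X : Scheme.{u}}
variable (k : Type u) [Field k] [X.Over (Spec (CommRingCat.of k))]
  [IsProper (X ↘ Spec (CommRingCat.of k))] [IsIntegral X]

include k in
/-- a second section without common zeros -/
theorem exists_section_cover (hdim : topologicalKrullDim X ≤ 1) {P : X.Modules}
    (hP : PicF.IsInvertible P) (s : Coh.structureModule X ⟶ P) (hs : s ≠ 0)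
    (heq : Module.finrank k (Coh.HH X (CohB1.tensorMod (Coh.structureModule X) P) 1) =
      Module.finrank k (Coh.HH X (Coh.structureModule X) 1)) :
    ∃ t : Coh.structureModule X ⟶ P,
      ∀ x : X, x ∈ CohB1.genLocus P s ∨ x ∈ CohB1.genLocus P t := by
  have hO := isInvertible_structureModule X
  obtain ⟨hmono, -, hfl, -⟩ := invertible_map k hdim hO (isInvertible_tensorMod hO hP)
    (mulBy (Coh.structureModule X) s) (mulBy_ne_zero hO hP s hs)
  haveI := hmono
  have hsurj := surjective_H0_of_finrank_eq k hdim hO hP s hs heq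
  obtain ⟨t₀, ht₀⟩ := exists_section_isGen_all k hdim hO hP s hs hfl hsurj
  refine ⟨globalHom _ t₀ ≫ (unitorL P).hom, fun x => ?_⟩
  by_cases hx : x ∈ CohB1.genLocus P s
  · exact Or.inl hx
  · right
    rw [genLocus_comp_iso]
    obtain ⟨U, hxU, hU⟩ := ht₀ x hx
    rw [mem_genLocus_iff]
    refine ⟨U, hxU, ?_⟩
    rw [sec_globalHom]
    exact hU

include k in
theorem finrank_h1_mulBy_le (hdim : topologicalKrullDim X ≤ 1) {M P : X.Modules}
    (hM : PicF.IsInvertible M) (hP : PicF.IsInvertible P) (s : Coh.structureModule X ⟶ P)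
    (hs : s ≠ 0) :
    Module.finrank k (Coh.HH X (CohB1.tensorMod M P) 1) ≤ Module.finrank k (Coh.HH X M 1) := by
  haveI := finite_HH k M (isCoh_of_isInvertible hM) 1
  have hsurj : Function.Surjective (FBC.HmapK k (mulBy M s) 1) :=
    surjective_H1_mulBy k hdim hM hP s hs
  exact LinearMap.finrank_le_finrank_of_surjective hsurj

include k in
/-- all powers have the same `h¹` -/
theorem finrank_h1_tensorPow_eq (hdim : topologicalKrullDim X ≤ 1) {P : X.Modules}
    (hP : PicF.IsInvertible P) (s : Coh.structureModule X ⟶ P) (hs : s ≠ 0)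
    (heq : Module.finrank k (Coh.HH X (CohB1.tensorMod (Coh.structureModule X) P) 1) =
      Module.finrank k (Coh.HH X (Coh.structureModule X) 1)) (n : ℕ) :
    Module.finrank k (Coh.HH X (CohB1.tensorPow P n) 1) =
        Module.finrank k (Coh.HH X (Coh.structureModule X) 1) ∧
      Module.finrank k (Coh.HH X (CohB1.tensorPow P (n + 1)) 1) =
        Module.finrank k (Coh.HH X (Coh.structureModule X) 1) := by
  obtain ⟨t, hcov⟩ := exists_section_cover k hdim hP s hs heq
  induction n with
  | zero => exact ⟨rfl, heq⟩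
  | succ n ih =>
    refine ⟨ih.2, ?_⟩
    have h1 := koszul_ineq k hdim (isInvertible_tensorPow hP n) hP s t hs hcov
    have h2 := finrank_h1_mulBy_le k hdim (isInvertible_tensorPow hP (n + 1)) hP s hs
    have e1 : Module.finrank k (Coh.HH X (CohB1.tensorMod (CohB1.tensorPow P n) P) 1) =
        Module.finrank k (Coh.HH X (Coh.structureModule X) 1) := ih.2
    have e2 := ih.1
    have h2' : Module.finrank k
        (Coh.HH X (CohB1.tensorMod (CohB1.tensorMod (CohB1.tensorPow P n) P) P) 1) ≤
        Module.finrank k (Coh.HH X (CohB1.tensorMod (CohB1.tensorPow P n) P) 1) := h2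
    show Module.finrank k
        (Coh.HH X (CohB1.tensorMod (CohB1.tensorMod (CohB1.tensorPow P n) P) P) 1) = _
    omega

include k in
/-- the core statement: `h¹(O ⊗ P) = h¹(O)` with `deg P > 0` and a section forces `h¹(O) = 0` -/
theorem finrank_h1_structure_eq_zero (hdim : topologicalKrullDim X ≤ 1) {P : X.Modules}
    (hP : PicF.IsInvertible P) (hdeg : 0 < Curv2.deg k X P 1)
    (s : Coh.structureModule X ⟶ P) (hs : s ≠ 0)
    (heq : Module.finrank k (Coh.HH X (CohB1.tensorMod (Coh.structureModule X) P) 1) =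
      Module.finrank k (Coh.HH X (Coh.structureModule X) 1)) :
    Module.finrank k (Coh.HH X (Coh.structureModule X) 1) = 0 := by
  obtain ⟨g, hg⟩ : ∃ g : ℕ, g = Module.finrank k (Coh.HH X (Coh.structureModule X) 1) :=
    ⟨_, rfl⟩
  obtain ⟨n, hn⟩ : ∃ n : ℕ, n = (((g * g : ℕ) : ℤ) + 1 -
      Curv2.euler k X (Coh.structureModule X)).toNat + 1 := ⟨_, rfl⟩
  have hN := isInvertible_tensorPow hP n
  have hcN := isCoh_of_isInvertible hN
  have hO := isInvertible_structureModule X
  have hcO := isCoh_of_isInvertible hO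
  have hON := isInvertible_tensorMod hO hN
  have hcON := isCoh_of_isInvertible hON
  have heul := euler_eq_h0_sub_h1 k hdim _ hcN
  have hdegn := deg_tensorPow k hdim hP n
  have hd : Curv2.deg k X (CohB1.tensorPow P n) 1 = Curv2.euler k X (CohB1.tensorPow P n) -
      1 * Curv2.euler k X (Coh.structureModule X) := rfl
  have hn1 : (((g * g : ℕ) : ℤ) + 1 - Curv2.euler k X (Coh.structureModule X)) ≤
      ((((g * g : ℕ) : ℤ) + 1 - Curv2.euler k X (Coh.structureModule X)).toNat : ℤ) :=
    Int.self_le_toNat _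
  have hnn : (n : ℤ) ≤ n * Curv2.deg k X P 1 := by nlinarith
  have hbig : ((g * g : ℕ) : ℤ) < (Module.finrank k (Coh.HH X (CohB1.tensorPow P n) 0) : ℤ) := by
    have : (n : ℤ) = ((((g * g : ℕ) : ℤ) + 1 -
        Curv2.euler k X (Coh.structureModule X)).toNat : ℤ) + 1 := by
      rw [hn]; push_cast; rfl
    have h1 : (0 : ℤ) ≤ (Module.finrank k (Coh.HH X (CohB1.tensorPow P n) 1) : ℤ) := by
      positivity
    linarith
  have hbig' : g * g < Module.finrank k (Coh.HH X (CohB1.tensorPow P n) 0) := by
    exact_mod_cast hbig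
  haveI := finite_HH k _ hcN 0
  have hnt : Nontrivial (Coh.HH X (CohB1.tensorPow P n) 0) :=
    Module.nontrivial_of_finrank_pos (R := k) (by omega)
  obtain ⟨u', hu'⟩ := exists_section_of_nontrivial _ hnt
  have hle := finrank_h1_mulBy_le k hdim hO hN u' hu'
  have hlt : Module.finrank k (Coh.HH X (Coh.structureModule X) 1) *
      Module.finrank k (Coh.HH X (CohB1.tensorMod (Coh.structureModule X)
        (CohB1.tensorPow P n)) 1) < Module.finrank k (Coh.HH X (CohB1.tensorPow P n) 0) := by
    rw [← hg] at hle ⊢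
    calc g * _ ≤ g * g := Nat.mul_le_mul_left g hle
      _ < _ := hbig'
  obtain ⟨u, hu, hzero⟩ := exists_section_Hmap_eq_zero k hcO hcN hcON hlt
  have hsurj := surjective_H1_mulBy k hdim hO hN u hu
  have hsub : Subsingleton (Coh.HH X (CohB1.tensorMod (Coh.structureModule X)
      (CohB1.tensorPow P n)) 1) := by
    refine ⟨fun a b => ?_⟩
    obtain ⟨a', rfl⟩ := hsurj a
    obtain ⟨b', rfl⟩ := hsurj b
    rw [hzero, hzero]
  have h1 : Module.finrank k (Coh.HH X (CohB1.tensorPow P n) 1) =
      Module.finrank k (Coh.HH X (CohB1.tensorMod (Coh.structureModule X)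
        (CohB1.tensorPow P n)) 1) :=
    (FBC.HmapEquivK k (unitorL (CohB1.tensorPow P n)) 1).finrank_eq.symm
  have h2 : Module.finrank k (Coh.HH X (CohB1.tensorMod (Coh.structureModule X)
      (CohB1.tensorPow P n)) 1) = 0 := Module.finrank_zero_of_subsingleton
  have h3 := (finrank_h1_tensorPow_eq k hdim hP s hs heq n).1
  omega

end Groth.Agent.Lib.Helper23.AmpleCurve
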