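import Groth.Agent.Lib.Helper23.PtDiv3
import Groth.Agent.Lib.Helper23.DualSec
import Groth.Agent.Lib.Helper23.GammaFieldK
import Groth.Agent.S1564
import Groth.Agent.S6541

/-!
# PtLin: two distinct points with isomorphic ideal sheaves force the projective line
-/
set_option autoImplicit false
set_option linter.style.haveILetI false
universe u
open CategoryTheory CategoryTheory.Limits Opposite TopologicalSpace AlgebraicGeometry
open Groth.Agent.Lib.Helper3 Groth.Agent.Lib.Helper3.QCSec Groth.Agent.Lib.Helper3.InvGen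
open Groth.Agent.Lib.Helper23.T2

noncomputable section

namespace Groth.Agent.Lib.Helper23.PtDiv

open Groth.Agent.Lib.Helper23.Curve Groth.Agent.Lib.Helper23.EffCart
  Groth.Agent.Lib.Helper23.DegTensor Groth.Agent.Lib.Helper23.Inverse
  Groth.Agent.Lib.Helper23.DualSec

variable (k : Type u) [Field k] (X : Scheme.{u}) [X.Over (Spec (CommRingCat.of k))]
  [IsProper (X ↘ Spec (CommRingCat.of k))] [IsIntegral X]

attribute [local instance] Curv2.resAlgebra

/-- the ideal sheaf of a closed point with integrally closed local ring is invertible of degree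
`-[κ(x):k]` -/
theorem isInvertible_and_deg_idealMod_point (hdim : topologicalKrullDim X = 1) (x : X)
    (hx : IsClosed ({x} : Set X)) (hn : IsIntegrallyClosed (X.presheaf.stalk x)) :
    PicF.IsInvertible (ClSub.idealMod (Scheme.IdealSheafData.vanishingIdeal ⟨{x}, hx⟩)) ∧
      Curv2.deg k X (ClSub.idealMod (Scheme.IdealSheafData.vanishingIdeal ⟨{x}, hx⟩)) 1 =
        -(Module.finrank k (X.residueField x) : ℤ) := by
  haveI := isNoetherian_of_isProper k X
  have hne := ne_genericPoint_of_isClosed X hdim x hx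
  have hprin := isPrincipal_maximalIdeal_of_isIntegrallyClosed X hdim.le x hn
  have hEff := isEffCartierIdeal_point x hx hne hprin
  have hInv := (Groth.Agent.Lib.Helper17.EffCartMod.isInvertible_idealMod_iff _).mpr hEff
  have hsupp : ((Scheme.IdealSheafData.vanishingIdeal ⟨{x}, hx⟩).support : Set X) = {x} :=
    Scheme.IdealSheafData.coe_support_vanishingIdeal _
  have hdeg := deg_idealMod k X (Scheme.IdealSheafData.vanishingIdeal ⟨{x}, hx⟩)
    (isCoh_of_isInvertible hInv) (by rw [hsupp]; exact Set.finite_singleton x)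
    (by
      intro z hz
      rw [hsupp] at hz
      rw [Set.mem_singleton_iff.1 hz]
      exact hx)
  rw [finrank_h0_quotMod_point k X x hx] at hdeg
  exact ⟨hInv, hdeg⟩

omit [IsProper (X ↘ Spec (CommRingCat.of k))] [X.Over (Spec (CommRingCat.of k))] [IsIntegral X] in
/-- the inclusion of the ideal of a closed point has non-surjective stalk form at the point -/
theorem stalkForm_idealModι_mem (x : X) (hx : IsClosed ({x} : Set X))
    (t : (ClSub.idealMod (Scheme.IdealSheafData.vanishingIdeal ⟨{x}, hx⟩)).presheaf.stalk x) :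
    stalkForm (ClSub.idealModι (Scheme.IdealSheafData.vanishingIdeal ⟨{x}, hx⟩)) x t ∈
      IsLocalRing.maximalIdeal (X.presheaf.stalk x) := by
  obtain ⟨W, hxW, s, rfl⟩ := TopCat.Presheaf.exists_germ_eq _ t
  rw [stalkForm_germ]
  have hdis := IdealMod.disjoint_basicOpen_val (Scheme.IdealSheafData.vanishingIdeal ⟨{x}, hx⟩) s
  have hsupp : ((Scheme.IdealSheafData.vanishingIdeal ⟨{x}, hx⟩).support : Set X) = {x} :=
    Scheme.IdealSheafData.coe_support_vanishingIdeal _
  rw [hsupp, Set.disjoint_singleton_right] at hdis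
  rw [IsLocalRing.mem_maximalIdeal, mem_nonunits_iff]
  intro hu
  apply hdis
  exact (X.mem_basicOpen _ x hxW).2 hu

omit [IsProper (X ↘ Spec (CommRingCat.of k))] [X.Over (Spec (CommRingCat.of k))] [IsIntegral X] in
/-- away from the point, the inclusion of the ideal of a closed point (precomposed with any
isomorphism) has a surjective stalk form -/
theorem exists_stalkForm_eq_one (x y : X) (hx : IsClosed ({x} : Set X)) (hxy : y ≠ x)
    {M : X.Modules} (φ : M ≅ ClSub.idealMod (Scheme.IdealSheafData.vanishingIdeal ⟨{x}, hx⟩)) :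
    ∃ t, stalkForm (φ.hom ≫ ClSub.idealModι (Scheme.IdealSheafData.vanishingIdeal ⟨{x}, hx⟩))
      y t = 1 := by
  let U : X.Opens := ⟨({x} : Set X)ᶜ, hx.isOpen_compl⟩
  have hyU : y ∈ U := hxy
  have hsupp : ((Scheme.IdealSheafData.vanishingIdeal ⟨{x}, hx⟩).support : Set X) = {x} :=
    Scheme.IdealSheafData.coe_support_vanishingIdeal _
  have hdis : Disjoint (U : Set X)
      ((Scheme.IdealSheafData.vanishingIdeal ⟨{x}, hx⟩).support : Set X) := by
    rw [hsupp, Set.disjoint_singleton_right]
    exact fun h => h rfl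
  obtain ⟨e, he⟩ := IdealMod.exists_val_eq_one _ hdis
  refine ⟨M.presheaf.germ U y hyU (φ.inv.app U e), ?_⟩
  rw [stalkForm_germ]
  have h1 : (φ.hom ≫ ClSub.idealModι (Scheme.IdealSheafData.vanishingIdeal ⟨{x}, hx⟩)).app U
      (φ.inv.app U e) =
      (ClSub.idealModι (Scheme.IdealSheafData.vanishingIdeal ⟨{x}, hx⟩)).app U e := by
    have h2 : (φ.inv ≫ φ.hom ≫
        ClSub.idealModι (Scheme.IdealSheafData.vanishingIdeal ⟨{x}, hx⟩)).app U e =
        (ClSub.idealModι (Scheme.IdealSheafData.vanishingIdeal ⟨{x}, hx⟩)).app U e := by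
      rw [Iso.inv_hom_id_assoc]
    exact h2
  rw [h1]
  have h3 : toFun U ((ClSub.idealModι (Scheme.IdealSheafData.vanishingIdeal ⟨{x}, hx⟩)).app U e) =
      1 := he
  rw [h3, map_one]

include k in
/-- two distinct closed points with isomorphic ideal sheaves: `h⁰(O(a)) ≥ 2` -/
theorem two_le_finrank_h0_dual_of_iso (hdim : topologicalKrullDim X = 1) (a b : X)
    (ha : IsClosed ({a} : Set X)) (hb : IsClosed ({b} : Set X)) (hab : a ≠ b)
    (hna : IsIntegrallyClosed (X.presheaf.stalk a))
    (φ : ClSub.idealMod (Scheme.IdealSheafData.vanishingIdeal ⟨{a}, ha⟩) ≅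
      ClSub.idealMod (Scheme.IdealSheafData.vanishingIdeal ⟨{b}, hb⟩)) :
    2 ≤ Module.finrank k (Coh.HH X
      (dual (ClSub.idealMod (Scheme.IdealSheafData.vanishingIdeal ⟨{a}, ha⟩))) 0) := by
  haveI := isNoetherian_of_isProper k X
  obtain ⟨hInv, -⟩ := isInvertible_and_deg_idealMod_point k X hdim a ha hna
  haveI := finite_HH k _ (isCoh_of_isInvertible (isInvertible_dual hInv)) 0
  refine two_le_finrank_h0_dual k
    (ClSub.idealModι (Scheme.IdealSheafData.vanishingIdeal ⟨{a}, ha⟩))
    (φ.hom ≫ ClSub.idealModι (Scheme.IdealSheafData.vanishingIdeal ⟨{b}, hb⟩)) a b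
    (stalkForm_idealModι_mem X a ha) (exists_stalkForm_eq_one X b a hb hab φ) ?_
  obtain ⟨t, ht⟩ := exists_stalkForm_eq_one X a b ha hab.symm (Iso.refl _)
  refine ⟨t, ?_⟩
  rw [Iso.refl_hom, Category.id_comp] at ht
  exact ht

include k in
/-- a proper integral curve with two distinct closed points `a ≠ b`, `a` rational with integrally
closed local ring, whose ideal sheaves are isomorphic, is the projective line -/
theorem iso_projectiveLine_of_iso (hdim : topologicalKrullDim X = 1) (a b : X)
    (ha : IsClosed ({a} : Set X)) (hb : IsClosed ({b} : Set X)) (hab : a ≠ b)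
    (hna : IsIntegrallyClosed (X.presheaf.stalk a))
    (hrat : Module.finrank k (X.residueField a) = 1)
    (φ : ClSub.idealMod (Scheme.IdealSheafData.vanishingIdeal ⟨{a}, ha⟩) ≅
      ClSub.idealMod (Scheme.IdealSheafData.vanishingIdeal ⟨{b}, hb⟩)) :
    ∃ e : X ≅ CohB1.ProjSpace 1 k,
      e.hom ≫ CohB1.ProjSpace.toSpec 1 k = X ↘ (Spec (CommRingCat.of k)) := by
  haveI := isNoetherian_of_isProper k X
  obtain ⟨hInv, hdeg⟩ := isInvertible_and_deg_idealMod_point k X hdim a ha hna
  have hN := isInvertible_dual hInv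
  have hdegN : Curv2.deg k X
      (dual (ClSub.idealMod (Scheme.IdealSheafData.vanishingIdeal ⟨{a}, ha⟩))) 1 = 1 := by
    rw [deg_dual k hdim.le hInv, hdeg, hrat]
    simp
  have h2 := two_le_finrank_h0_dual_of_iso k X hdim a b ha hb hab hna φ
  have h0 := Groth.Agent.Lib.Helper23.GammaField.finrank_h0_eq_one' k hdim.le _ hN hdegN
  haveI := finite_HH k _ (isCoh_of_isInvertible hN) 0
  have hnt : Nontrivial (Coh.HH X
      (dual (ClSub.idealMod (Scheme.IdealSheafData.vanishingIdeal ⟨{a}, ha⟩))) 0) :=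
    Module.nontrivial_of_finrank_pos (R := k) (by omega)
  obtain ⟨hle, hgen⟩ := Groth.Agent.S1564.result k X hdim h0 _ hN hnt
  rw [hdegN] at hle hgen
  have hg : Curv2.genus k X = 0 := by
    apply hgen _ one_pos
    have : (Module.finrank k (Coh.HH X
      (dual (ClSub.idealMod (Scheme.IdealSheafData.vanishingIdeal ⟨{a}, ha⟩))) 0) : ℤ) ≤ 2 := hle
    omega
  exact Groth.Agent.S6541.result k X hdim (subsingleton_h1_of_genus_zero k hg) _ hN hdegN

end Groth.Agent.Lib.Helper23.PtDiv
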