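import Mathlib

/-!
# Residue fields of points of a fibre product (helper23)

The residue field of a point of a fibre product `X ×[S] Y` is generated, as a field, by the images
of the residue fields of its two projections.
-/

universe u

open AlgebraicGeometry CategoryTheory CategoryTheory.Limits AlgebraicGeometry.Scheme.Pullback

namespace Groth.Agent.Lib.Helper23.PullbackResField

section Gen

variable {L L' : Type*} [Field L] [Field L']

theorem gen_mono {S S' : Set L} (h : Subfield.closure S = ⊤)
    (hS : S ⊆ (Subfield.closure S' : Set L)) : Subfield.closure S' = ⊤ := by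
  rw [eq_top_iff, ← h]
  exact Subfield.closure_le.mpr hS

theorem gen_image {S : Set L} (g : L →+* L') (hg : Function.Surjective g)
    (h : Subfield.closure S = ⊤) : Subfield.closure (g '' S) = ⊤ := by
  rw [← RingHom.map_field_closure, h, eq_top_iff]
  intro y _
  obtain ⟨x, rfl⟩ := hg y
  exact Subfield.mem_map.mpr ⟨x, trivial, rfl⟩

theorem gen_of_image {S : Set L} (g : L →+* L') (h : Subfield.closure (g '' S) = ⊤) :
    Subfield.closure S = ⊤ := by
  rw [eq_top_iff]
  intro x _
  have hx : g x ∈ Subfield.closure (g '' S) := by rw [h]; trivial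
  rw [← RingHom.map_field_closure] at hx
  obtain ⟨y, hy, hxy⟩ := Subfield.mem_map.mp hx
  rw [← g.injective hxy]
  exact hy

theorem closure_range_algebraMap_residueField {R : Type*} [CommRing R] (I : Ideal R)
    [I.IsPrime] : Subfield.closure (Set.range (algebraMap R I.ResidueField)) = ⊤ := by
  rw [eq_top_iff]
  intro x _
  obtain ⟨a, b, _, rfl⟩ := IsFractionRing.div_surjective (A := R ⧸ I) x
  obtain ⟨a', rfl⟩ := Ideal.Quotient.mk_surjective a
  obtain ⟨b', rfl⟩ := Ideal.Quotient.mk_surjective b
  rw [Ideal.algebraMap_quotient_residueField_mk, Ideal.algebraMap_quotient_residueField_mk]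
  exact div_mem (Subfield.subset_closure ⟨a', rfl⟩) (Subfield.subset_closure ⟨b', rfl⟩)

end Gen

section Pullback

variable {X Y S : Scheme.{u}} (f : X ⟶ S) (g : Y ⟶ S)

/-- The canonical map from the tensor product of residue fields lands in the subfield generated by
the two residue fields. -/
theorem range_ofPointTensor_subset (t : ↑(pullback f g)) :
    Set.range (ofPointTensor t).hom ⊆
      (Subfield.closure (Set.range ((pullback.fst f g).residueFieldMap t).hom ∪
        Set.range ((pullback.snd f g).residueFieldMap t).hom) : Set _) := by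
  set K₁ := Subfield.closure (Set.range ((pullback.fst f g).residueFieldMap t).hom ∪
        Set.range ((pullback.snd f g).residueFieldMap t).hom) with hK₁
  let a₁ : X.residueField (Triplet.ofPoint t).x ⟶ CommRingCat.of K₁ :=
    CommRingCat.ofHom (((pullback.fst f g).residueFieldMap t).hom.codRestrict K₁.toSubring
      (fun x => Subfield.subset_closure (Or.inl ⟨x, rfl⟩)))
  let b₁ : Y.residueField (Triplet.ofPoint t).y ⟶ CommRingCat.of K₁ :=
    CommRingCat.ofHom (((pullback.snd f g).residueFieldMap t).hom.codRestrict K₁.toSubring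
      (fun x => Subfield.subset_closure (Or.inr ⟨x, rfl⟩)))
  let ι : CommRingCat.of K₁ ⟶ (pullback f g).residueField t := CommRingCat.ofHom K₁.subtype
  have ha : a₁ ≫ ι = (pullback.fst f g).residueFieldMap t := by
    ext x; rfl
  have hb : b₁ ≫ ι = (pullback.snd f g).residueFieldMap t := by
    ext x; rfl
  have hcond : ((S.residueFieldCongr (Triplet.ofPoint t).hx).inv ≫
      f.residueFieldMap (Triplet.ofPoint t).x) ≫ a₁ =
      ((S.residueFieldCongr (Triplet.ofPoint t).hy).inv ≫
        g.residueFieldMap (Triplet.ofPoint t).y) ≫ b₁ := by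
    ext x
    exact congrArg (fun φ => φ.hom x) (residueFieldCongr_inv_residueFieldMap_ofPoint t)
  have hd1 : pushout.inl _ _ ≫ pushout.desc a₁ b₁ hcond = a₁ := pushout.inl_desc _ _ _
  have hd2 : pushout.inr _ _ ≫ pushout.desc a₁ b₁ hcond = b₁ := pushout.inr_desc _ _ _
  have hd : pushout.desc a₁ b₁ hcond ≫ ι = ofPointTensor t := by
    apply pushout.hom_ext
    · exact (by rw [← Category.assoc, hd1] : _ = a₁ ≫ ι).trans
        (ha.trans (pushout.inl_desc _ _ _).symm)
    · exact (by rw [← Category.assoc, hd2] : _ = b₁ ≫ ι).trans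
        (hb.trans (pushout.inr_desc _ _ _).symm)
  rintro _ ⟨x, rfl⟩
  rw [← hd]
  exact ((pushout.desc a₁ b₁ hcond).hom x).2

/-- Generation at the points in the image of `Spec (κ(x) ⊗ κ(y))`. -/
theorem gen_specTensorTo (T : Triplet f g) (p : Spec T.tensor) :
    Subfield.closure (Set.range (ofPointTensor (T.SpecTensorTo p)).hom) = ⊤ := by
  have hmain := T.Spec_ofPointTensor_SpecTensorTo p
  rw [← Scheme.Spec.map_residueFieldIso_inv_eq_fromSpecResidueField, ← Spec.map_comp, ← Spec.map_comp,
    ← Spec.map_comp, Spec.map_inj] at hmain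
  -- hmain : tensorCongr.hom ≫ ofPointTensor ≫ residueFieldMap = algebraMap ≫ iso.inv
  have hcan : Subfield.closure (Set.range
      (CommRingCat.ofHom (algebraMap T.tensor p.asIdeal.ResidueField) ≫
        (Scheme.Spec.residueFieldIso T.tensor p).inv).hom) = ⊤ := by
    have h1 := closure_range_algebraMap_residueField p.asIdeal
    have h2 := gen_image (Scheme.Spec.residueFieldIso T.tensor p).inv.hom
      (ConcreteCategory.bijective_of_isIso (Scheme.Spec.residueFieldIso T.tensor p).inv).2 h1
    rw [← Set.range_comp] at h2
    exact h2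
  rw [← hmain] at hcan
  apply gen_of_image ((T.SpecTensorTo).residueFieldMap p).hom
  refine gen_mono hcan ?_
  rintro _ ⟨x, rfl⟩
  apply Subfield.subset_closure
  exact ⟨(ofPointTensor (T.SpecTensorTo p)).hom
    ((Triplet.tensorCongr (T.ofPoint_SpecTensorTo p).symm).hom.hom x), ⟨_, rfl⟩, rfl⟩

/-- The residue field of a point of a fibre product is generated by the residue fields of its
projections. -/
theorem gen_pullback (t : ↑(pullback f g)) :
    Subfield.closure (Set.range ((pullback.fst f g).residueFieldMap t).hom ∪
      Set.range ((pullback.snd f g).residueFieldMap t).hom) = ⊤ := by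
  have h := gen_specTensorTo f g (Triplet.ofPoint t) (SpecOfPoint t)
  rw [SpecTensorTo_SpecOfPoint] at h
  exact gen_mono h (range_ofPointTensor_subset f g t)

end Pullback

/-- The residue field of a point of a fibre product is generated by the residue fields of its
projections: version for an arbitrary cartesian square. -/
theorem gen_of_isPullback {P X Y S : Scheme.{u}} {fst : P ⟶ X} {snd : P ⟶ Y} {f : X ⟶ S}
    {g : Y ⟶ S} (h : IsPullback fst snd f g) (t : P) :
    Subfield.closure (Set.range (fst.residueFieldMap t).hom ∪
      Set.range (snd.residueFieldMap t).hom) = ⊤ := by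
  obtain ⟨e, he, he1, he2⟩ : ∃ e : P ⟶ pullback f g, IsIso e ∧ e ≫ pullback.fst f g = fst ∧
      e ≫ pullback.snd f g = snd :=
    ⟨h.isoPullback.hom, inferInstance, h.isoPullback_hom_fst, h.isoPullback_hom_snd⟩
  clear h
  subst he1 he2
  have h0 := gen_pullback f g (e t)
  have h1 := gen_image (e.residueFieldMap t).hom
    (ConcreteCategory.bijective_of_isIso (e.residueFieldMap t)).2 h0
  rw [Set.image_union, ← Set.range_comp, ← Set.range_comp] at h1
  rw [Scheme.residueFieldMap_comp, Scheme.residueFieldMap_comp]
  exact h1

end Groth.Agent.Lib.Helper23.PullbackResField
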