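import Mathlib

/-!
# Maps into a coskeletal simplicial set agreeing in low degrees are homotopic (helper23)
-/

set_option autoImplicit false

open CategoryTheory Opposite Simplicial MonoidalCategory SSet

universe u

namespace Groth.Agent.Lib.Helper23.CoskHtpy

/-- A simplex of `Δ[1]` is the constant `1`. -/
def IsOne {m : SimplexCategoryᵒᵖ} (α : (Δ[1] : SSet.{u}).obj m) : Prop :=
  ∀ i, (stdSimplex.objEquiv α).toOrderHom i = 1

instance {m : SimplexCategoryᵒᵖ} (α : (Δ[1] : SSet.{u}).obj m) : Decidable (IsOne α) := by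
  unfold IsOne
  infer_instance

theorem isOne_map {m m' : SimplexCategoryᵒᵖ} (θ : m ⟶ m') (α : (Δ[1] : SSet.{u}).obj m)
    (h : IsOne α) : IsOne ((Δ[1] : SSet.{u}).map θ α) := by
  intro i
  rw [stdSimplex.map_apply]
  exact h _

theorem not_epi_of_isOne_map {m m' : SimplexCategoryᵒᵖ} (θ : m ⟶ m')
    (α : (Δ[1] : SSet.{u}).obj m) (h : ¬ IsOne α) (h' : IsOne ((Δ[1] : SSet.{u}).map θ α)) :
    ¬ Epi θ.unop := by
  intro hepi
  rw [SimplexCategory.epi_iff_surjective] at hepi
  apply h
  intro i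
  obtain ⟨j, rfl⟩ := hepi i
  have := h' j
  rw [stdSimplex.map_apply] at this
  exact this

variable {U V : SSet.{u}} (f₀ f₁ : V ⟶ U) (n : ℕ)

/-- Maps agreeing in degrees `< n` agree on simplices pulled back along a non-epimorphism to an
object of length `≤ n`. -/
theorem app_map_eq_of_not_epi
    (h : ∀ i : ℕ, i < n → f₀.app (op (SimplexCategory.mk i)) = f₁.app (op (SimplexCategory.mk i)))
    {m m' : SimplexCategory} (hm : m.len ≤ n) (ψ : m' ⟶ m) (hψ : ¬ Epi ψ) (x : V.obj (op m)) :
    f₀.app (op m') (V.map ψ.op x) = f₁.app (op m') (V.map ψ.op x) := by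
  have hfac : Limits.factorThruImage ψ ≫ Limits.image.ι ψ = ψ := Limits.image.fac ψ
  have hlt : (Limits.image ψ).len < m.len := by
    apply SimplexCategory.len_lt_of_mono (Limits.image.ι ψ)
    intro heq
    apply hψ
    have key : ∀ (j : SimplexCategory) (hj : m = j) (e : m' ⟶ j) (i : j ⟶ m) [Epi e] [Mono i],
        e ≫ i = ψ → Epi ψ := by
      intro j hj e i _ _ hei
      subst hj
      have : i = 𝟙 _ := SimplexCategory.eq_id_of_mono i
      rw [this, Category.comp_id] at hei
      rw [← hei]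
      infer_instance
    exact key _ heq _ _ hfac
  have hj : (Limits.image ψ).len < n := lt_of_lt_of_le hlt hm
  have hagree : f₀.app (op (Limits.image ψ)) = f₁.app (op (Limits.image ψ)) := h _ hj
  have e1 : V.map ψ.op x =
      V.map (Limits.factorThruImage ψ).op (V.map (Limits.image.ι ψ).op x) := by
    rw [← Functor.map_comp_apply, ← op_comp, hfac]
  have n0 := NatTrans.naturality_apply f₀ (Limits.factorThruImage ψ).op
    (V.map (Limits.image.ι ψ).op x)
  have n1 := NatTrans.naturality_apply f₁ (Limits.factorThruImage ψ).op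
    (V.map (Limits.image.ι ψ).op x)
  rw [e1, n0, n1, hagree]

/-- The truncated homotopy. -/
noncomputable def tau
    (h : ∀ i : ℕ, i < n → f₀.app (op (SimplexCategory.mk i)) = f₁.app (op (SimplexCategory.mk i))) :
    (SimplexCategory.Truncated.inclusion n).op ⋙ (V ⊗ Δ[1]) ⟶
      (SimplexCategory.Truncated.inclusion n).op ⋙ U where
  app a := ↾fun (p : (V ⊗ Δ[1]).obj (op a.unop.obj)) =>
    if IsOne p.2 then f₁.app (op a.unop.obj) p.1 else f₀.app (op a.unop.obj) p.1
  naturality a b θ := by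
    ext p
    obtain ⟨x, α⟩ := p
    dsimp
    change (if IsOne ((Δ[1] : SSet.{u}).map θ.unop.hom.op α) then
        f₁.app (op (unop b).obj) (V.map θ.unop.hom.op x)
      else f₀.app (op (unop b).obj) (V.map θ.unop.hom.op x)) = _
    by_cases h1 : IsOne α
    · rw [if_pos h1, if_pos (isOne_map _ _ h1)]
      exact NatTrans.naturality_apply f₁ _ x
    · rw [if_neg h1]
      by_cases h2 : IsOne ((Δ[1] : SSet.{u}).map θ.unop.hom.op α)
      · rw [if_pos h2]
        have hne := not_epi_of_isOne_map _ _ h1 h2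
        have := app_map_eq_of_not_epi f₀ f₁ n h a.unop.2 _ hne x
        exact this.symm.trans (NatTrans.naturality_apply f₀ _ x)
      · rw [if_neg h2]
        exact NatTrans.naturality_apply f₀ _ x

theorem tau_app_apply
    (h : ∀ i : ℕ, i < n → f₀.app (op (SimplexCategory.mk i)) = f₁.app (op (SimplexCategory.mk i)))
    (a : (SimplexCategory.Truncated n)ᵒᵖ) (x : V.obj (op a.unop.obj))
    (α : (Δ[1] : SSet.{u}).obj (op a.unop.obj)) :
    (tau f₀ f₁ n h).app a (x, α) =
      if IsOne α then f₁.app (op a.unop.obj) x else f₀.app (op a.unop.obj) x := rfl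

/-- The homotopy as a morphism. -/
noncomputable def hmap
    (h : ∀ i : ℕ, i < n → f₀.app (op (SimplexCategory.mk i)) = f₁.app (op (SimplexCategory.mk i)))
    [SimplicialObject.IsCoskeletal U n] : V ⊗ Δ[1] ⟶ U :=
  Functor.liftOfIsRightKanExtension U (𝟙 _) (V ⊗ Δ[1]) (tau f₀ f₁ n h)

theorem hmap_fac
    (h : ∀ i : ℕ, i < n → f₀.app (op (SimplexCategory.mk i)) = f₁.app (op (SimplexCategory.mk i)))
    [SimplicialObject.IsCoskeletal U n] :
    Functor.whiskerLeft (SimplexCategory.Truncated.inclusion n).op (hmap f₀ f₁ n h) =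
      tau f₀ f₁ n h := by
  have := Functor.liftOfIsRightKanExtension_fac U (𝟙 _) (V ⊗ Δ[1]) (tau f₀ f₁ n h)
  rw [Category.comp_id] at this
  exact this

theorem hmap_app_apply
    (h : ∀ i : ℕ, i < n → f₀.app (op (SimplexCategory.mk i)) = f₁.app (op (SimplexCategory.mk i)))
    [SimplicialObject.IsCoskeletal U n]
    (a : (SimplexCategory.Truncated n)ᵒᵖ) (x : V.obj (op a.unop.obj))
    (α : (Δ[1] : SSet.{u}).obj (op a.unop.obj)) :
    (hmap f₀ f₁ n h).app (op a.unop.obj) (x, α) =
      if IsOne α then f₁.app (op a.unop.obj) x else f₀.app (op a.unop.obj) x := by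
  rw [← tau_app_apply, ← hmap_fac]
  rfl

theorem isOne_iota1 (V : SSet.{u}) {m : SimplexCategoryᵒᵖ} (x : V.obj m) :
    IsOne ((ι₁ : V ⟶ V ⊗ Δ[1]).app m x).2 := by
  intro i
  rfl

theorem not_isOne_iota0 (V : SSet.{u}) {m : SimplexCategoryᵒᵖ} (x : V.obj m) :
    ¬ IsOne ((ι₀ : V ⟶ V ⊗ Δ[1]).app m x).2 := by
  intro h
  have := h 0
  have h2 : (stdSimplex.objEquiv ((ι₀ : V ⟶ V ⊗ Δ[1]).app m x).2).toOrderHom 0 = 0 := rfl
  rw [h2] at this
  exact zero_ne_one this

end Groth.Agent.Lib.Helper23.CoskHtpy
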