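import Mathlib
import Groth.Agent.Lib.Helper1.TruncKan
import Groth.Agent.Lib.Helper23.CoskHtpy

/-!
# Simplicial homotopy between `cosk_n f` and `cosk_n g` in a category with finite limits (helper23)

Yoneda reduction to the case of simplicial sets (`CoskHtpy`).
-/

set_option autoImplicit false

open CategoryTheory Opposite Simplicial Limits MonoidalCategory

universe v u

namespace Groth.Agent.Lib.Helper23.CoskHtpyE

open Groth.Agent.Lib.Helper23.CoskHtpy

section SSetPart

variable {U V : SSet.{u}} (f₀ f₁ : V ⟶ U) (n : ℕ)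

/-- The homotopy of `S6799` as a definition. -/
noncomputable def homotopy
    (h : ∀ i : ℕ, i < n → f₀.app (op (SimplexCategory.mk i)) = f₁.app (op (SimplexCategory.mk i)))
    [SimplicialObject.IsCoskeletal U n] : SSet.Homotopy f₀ f₁ where
  h := hmap f₀ f₁ n h
  h₀ := by
    apply Functor.hom_ext_of_isRightKanExtension U
      (𝟙 ((SimplexCategory.Truncated.inclusion n).op ⋙ U))
    ext a x
    change (hmap f₀ f₁ n h).app (op a.unop.obj) ((SSet.ι₀ : V ⟶ V ⊗ Δ[1]).app (op a.unop.obj) x) =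
      f₀.app (op a.unop.obj) x
    have := hmap_app_apply f₀ f₁ n h a x ((SSet.ι₀ : V ⟶ V ⊗ Δ[1]).app (op a.unop.obj) x).2
    exact this.trans (if_neg (not_isOne_iota0 V x))
  h₁ := by
    apply Functor.hom_ext_of_isRightKanExtension U
      (𝟙 ((SimplexCategory.Truncated.inclusion n).op ⋙ U))
    ext a x
    change (hmap f₀ f₁ n h).app (op a.unop.obj) ((SSet.ι₁ : V ⟶ V ⊗ Δ[1]).app (op a.unop.obj) x) =
      f₁.app (op a.unop.obj) x
    have := hmap_app_apply f₀ f₁ n h a x ((SSet.ι₁ : V ⟶ V ⊗ Δ[1]).app (op a.unop.obj) x).2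
    exact this.trans (if_pos (isOne_iota1 V x))
  rel := by
    ext m ⟨⟨x, hx⟩, α⟩
    exact hx.elim

theorem homotopy_h
    (h : ∀ i : ℕ, i < n → f₀.app (op (SimplexCategory.mk i)) = f₁.app (op (SimplexCategory.mk i)))
    [SimplicialObject.IsCoskeletal U n] : (homotopy f₀ f₁ n h).h = hmap f₀ f₁ n h := rfl

end SSetPart

variable {E : Type u} [Category.{v} E]

/-- The simplicial set of `T`-points of a simplicial object. -/
abbrev pts (T : E) (W : SimplicialObject E) : SSet.{v} :=
  ((SimplicialObject.whiskering E (Type v)).obj (coyoneda.obj (op T))).obj W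

/-- The map on `T`-points. -/
abbrev ptsMap (T : E) {W Y : SimplicialObject E} (F : W ⟶ Y) : pts T W ⟶ pts T Y :=
  ((SimplicialObject.whiskering E (Type v)).obj (coyoneda.obj (op T))).map F

/-- Change of the test object. -/
abbrev ptsRes {T T' : E} (t : T' ⟶ T) (W : SimplicialObject E) : pts T W ⟶ pts T' W :=
  ((SimplicialObject.whiskering E (Type v)).map (coyoneda.map t.op)).app W

theorem ptsRes_app_apply {T T' : E} (t : T' ⟶ T) (W : SimplicialObject E)
    (m : SimplexCategoryᵒᵖ) (x : T ⟶ W.obj m) : (ptsRes t W).app m x = t ≫ x := rfl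

theorem ptsMap_app_apply (T : E) {W Y : SimplicialObject E} (F : W ⟶ Y)
    (m : SimplexCategoryᵒᵖ) (x : T ⟶ W.obj m) : (ptsMap T F).app m x = x ≫ F.app m := rfl

theorem homotopy_of_pts {W Y : SimplicialObject E} (F G : W ⟶ Y)
    (H : ∀ T : E, SimplicialObject.Homotopy (ptsMap T F) (ptsMap T G))
    (hnat : ∀ (T T' : E) (t : T' ⟶ T) (m : ℕ) (i : Fin (m + 1)) (x : T ⟶ W _⦋m⦌),
       t ≫ (H T).h i x = (H T').h i (t ≫ x)) :
    Nonempty (SimplicialObject.Homotopy F G) := by
  have key : ∀ (T : E) (m : ℕ) (i : Fin (m + 1)) (x : T ⟶ W _⦋m⦌),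
      (H T).h i x = x ≫ (H (W _⦋m⦌)).h i (𝟙 _) := by
    intro T m i x
    rw [hnat _ _ x m i (𝟙 _), Category.comp_id]
  refine ⟨{ h := fun {m} i => (H (W _⦋m⦌)).h i (𝟙 _), 
            h_zero_comp_δ_zero := ?_
            h_last_comp_δ_last := ?_
            h_succ_comp_δ_castSucc_of_lt := ?_
            h_succ_comp_δ_castSucc_succ := ?_
            h_castSucc_comp_δ_succ_of_lt := ?_
            h_comp_σ_castSucc_of_le := ?_
            h_comp_σ_succ_of_lt := ?_ }⟩
  · intro m
    have := ConcreteCategory.congr_hom ((H (W _⦋m⦌)).h_zero_comp_δ_zero m) (𝟙 (W _⦋m⦌) : (W _⦋m⦌ ⟶ W _⦋m⦌))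
    exact this.trans (Category.id_comp _)
  · intro m
    have := ConcreteCategory.congr_hom ((H (W _⦋m⦌)).h_last_comp_δ_last m) (𝟙 (W _⦋m⦌) : (W _⦋m⦌ ⟶ W _⦋m⦌))
    exact this.trans (Category.id_comp _)
  · intro m i j hij
    have := ConcreteCategory.congr_hom
      ((H (W _⦋m + 1⦌)).h_succ_comp_δ_castSucc_of_lt i j hij) (𝟙 (W _⦋m + 1⦌) : (W _⦋m + 1⦌ ⟶ W _⦋m + 1⦌))
    refine this.trans ?_
    refine (key _ _ _ _).trans ?_
    exact congrArg (· ≫ _) (Category.id_comp _)
  · intro m j
    have := ConcreteCategory.congr_hom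
      ((H (W _⦋m + 1⦌)).h_succ_comp_δ_castSucc_succ j) (𝟙 (W _⦋m + 1⦌) : (W _⦋m + 1⦌ ⟶ W _⦋m + 1⦌))
    exact this
  · intro m i j hij
    have := ConcreteCategory.congr_hom
      ((H (W _⦋m + 1⦌)).h_castSucc_comp_δ_succ_of_lt i j hij) (𝟙 (W _⦋m + 1⦌) : (W _⦋m + 1⦌ ⟶ W _⦋m + 1⦌))
    refine this.trans ?_
    refine (key _ _ _ _).trans ?_
    exact congrArg (· ≫ _) (Category.id_comp _)
  · intro m i j hij
    have := ConcreteCategory.congr_hom
      ((H (W _⦋m⦌)).h_comp_σ_castSucc_of_le i j hij) (𝟙 (W _⦋m⦌) : (W _⦋m⦌ ⟶ W _⦋m⦌))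
    refine this.trans ?_
    refine (key _ _ _ _).trans ?_
    exact congrArg (· ≫ _) (Category.id_comp _)
  · intro m i j hij
    have := ConcreteCategory.congr_hom
      ((H (W _⦋m⦌)).h_comp_σ_succ_of_lt i j hij) (𝟙 (W _⦋m⦌) : (W _⦋m⦌ ⟶ W _⦋m⦌))
    refine this.trans ?_
    refine (key _ _ _ _).trans ?_
    exact congrArg (· ≫ _) (Category.id_comp _)

theorem isCoskeletal_pts [HasFiniteLimits E] (T : E) (Y : SimplicialObject E) (n : ℕ)
    [Y.IsCoskeletal n] : SimplicialObject.IsCoskeletal (pts T Y) n := by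
  have hp := Groth.Agent.Lib.Helper1.TruncKan.hasPointwiseRightKanExtension n
    ((SimplexCategory.Truncated.inclusion n).op ⋙ Y)
  have h1 : (coyoneda.obj (op T)).PreservesRightKanExtension
      ((SimplexCategory.Truncated.inclusion n).op ⋙ Y)
      (SimplexCategory.Truncated.inclusion n).op := inferInstance
  have h2 := h1.preserves Y (𝟙 _)
  constructor
  refine Functor.isRightKanExtension_of_iso (Iso.refl (Y ⋙ coyoneda.obj (op T)))
    (((SimplexCategory.Truncated.inclusion n).op.associator Y (coyoneda.obj (op T))).inv ≫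
      Functor.whiskerRight (𝟙 ((SimplexCategory.Truncated.inclusion n).op ⋙ Y))
        (coyoneda.obj (op T))) _ ?_
  ext a x
  simp only [Iso.refl_hom, Functor.whiskerLeft_id', NatTrans.comp_app, NatTrans.id_app,
    Functor.whiskerRight_app, Functor.associator_inv_app]
  exact (Category.comp_id x).symm

section

variable [HasFiniteLimits E] {W Y : SimplicialObject E} (F G : W ⟶ Y) (n : ℕ)
  (hFG : ∀ i : ℕ, i < n → F.app (op (SimplexCategory.mk i)) = G.app (op (SimplexCategory.mk i)))

omit [HasFiniteLimits E] in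
include hFG in
theorem ptsMap_agree (T : E) : ∀ i : ℕ, i < n →
    (ptsMap T F).app (op (SimplexCategory.mk i)) = (ptsMap T G).app (op (SimplexCategory.mk i)) := by
  intro i hi
  ext x
  change x ≫ F.app _ = x ≫ G.app _
  rw [hFG i hi]

variable [Y.IsCoskeletal n]

/-- The homotopy on `T`-points. -/
noncomputable def hT (T : E) : pts T W ⊗ Δ[1] ⟶ pts T Y :=
  haveI := isCoskeletal_pts T Y n
  hmap (ptsMap T F) (ptsMap T G) n (ptsMap_agree F G n hFG T)

theorem hT_nat {T T' : E} (t : T' ⟶ T) :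
    (ptsRes t W ▷ Δ[1]) ≫ hT F G n hFG T' = hT F G n hFG T ≫ ptsRes t Y := by
  have := isCoskeletal_pts T Y n
  have := isCoskeletal_pts T' Y n
  apply Functor.hom_ext_of_isRightKanExtension (pts T' Y)
    (𝟙 ((SimplexCategory.Truncated.inclusion n).op ⋙ pts T' Y))
  ext a ⟨x, α⟩
  change (hT F G n hFG T').app (op a.unop.obj) (t ≫ x, α) =
    t ≫ (hT F G n hFG T).app (op a.unop.obj) (x, α)
  have e1 := hmap_app_apply (ptsMap T' F) (ptsMap T' G) n (ptsMap_agree F G n hFG T') a (t ≫ x) α
  have e2 := hmap_app_apply (ptsMap T F) (ptsMap T G) n (ptsMap_agree F G n hFG T) a x α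
  refine e1.trans ?_
  refine Eq.trans ?_ (congrArg (t ≫ ·) e2).symm
  by_cases hα : IsOne α
  · rw [if_pos hα, if_pos hα]
    exact Category.assoc _ _ _
  · rw [if_neg hα, if_neg hα]
    exact Category.assoc _ _ _

/-- The simplicial homotopy on `T`-points. -/
noncomputable def HT (T : E) : SimplicialObject.Homotopy (ptsMap T F) (ptsMap T G) :=
  haveI := isCoskeletal_pts T Y n
  (homotopy (ptsMap T F) (ptsMap T G) n (ptsMap_agree F G n hFG T)).toSimplicialObjectHomotopy

theorem HT_h_apply (T : E) (m : ℕ) (i : Fin (m + 1)) (x : T ⟶ W _⦋m⦌) :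
    (HT F G n hFG T).h i x =
      ((SSet.yonedaEquiv (X := pts T W)).symm x ▷ Δ[1] ≫ hT F G n hFG T).app _
        (SSet.prodStdSimplex.nonDegenerateEquiv₁ i).1 := rfl

theorem HT_nat {T T' : E} (t : T' ⟶ T) (m : ℕ) (i : Fin (m + 1)) (x : T ⟶ W _⦋m⦌) :
    t ≫ (HT F G n hFG T).h i x = (HT F G n hFG T').h i (t ≫ x) := by
  rw [HT_h_apply, HT_h_apply]
  have e1 : (SSet.yonedaEquiv (X := pts T' W)).symm (t ≫ x) =
      (SSet.yonedaEquiv (X := pts T W)).symm x ≫ ptsRes t W :=
    (SSet.yonedaEquiv_symm_comp (X := pts T W) x (ptsRes t W)).symm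
  rw [e1, MonoidalCategory.comp_whiskerRight, Category.assoc, hT_nat, ← Category.assoc]
  rfl

include hFG in
theorem nonempty_homotopy : Nonempty (SimplicialObject.Homotopy F G) :=
  homotopy_of_pts F G (HT F G n hFG) (fun _ _ t m i x => HT_nat F G n hFG t m i x)

end

section Cosk

variable [HasFiniteLimits E] (n : ℕ)
  [∀ (F : (SimplexCategory.Truncated n)ᵒᵖ ⥤ E),
    (SimplexCategory.Truncated.inclusion n).op.HasRightKanExtension F]

theorem isCoskeletal_cosk (X : SimplicialObject E) :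
    ((SimplicialObject.cosk n).obj X).IsCoskeletal n := by
  have hp : ∀ (F : (SimplexCategory.Truncated n)ᵒᵖ ⥤ E),
      (SimplexCategory.Truncated.inclusion n).op.HasPointwiseRightKanExtension F :=
    fun F => Groth.Agent.Lib.Helper1.TruncKan.hasPointwiseRightKanExtension n F
  rw [SimplicialObject.isCoskeletal_iff_isIso]
  change IsIso ((SimplicialObject.coskAdj n).unit.app
    ((SimplicialObject.Truncated.cosk n).obj ((SimplicialObject.truncation n).obj X)))
  infer_instance

theorem cosk_map_agree {X X' : SimplicialObject E} (f g : X ⟶ X')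
    (hfg : ∀ p : ℕ, p < n → f.app (op (SimplexCategory.mk p)) = g.app (op (SimplexCategory.mk p))) :
    ∀ p : ℕ, p < n → ((SimplicialObject.cosk n).map f).app (op (SimplexCategory.mk p)) =
      ((SimplicialObject.cosk n).map g).app (op (SimplexCategory.mk p)) := by
  have hp : ∀ (F : (SimplexCategory.Truncated n)ᵒᵖ ⥤ E),
      (SimplexCategory.Truncated.inclusion n).op.HasPointwiseRightKanExtension F :=
    fun F => Groth.Agent.Lib.Helper1.TruncKan.hasPointwiseRightKanExtension n F
  intro p hp'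
  have hiso : IsIso (SimplicialObject.coskAdj (C := E) n).counit := inferInstance
  -- naturality of the counit
  have nat := fun (φ : (SimplicialObject.truncation n).obj X ⟶ (SimplicialObject.truncation n).obj X') =>
    congrArg (fun ψ => ψ.app (op ⟨SimplexCategory.mk p, hp'.le⟩))
      ((SimplicialObject.coskAdj (C := E) n).counit.naturality φ)
  have nf := nat ((SimplicialObject.truncation n).map f)
  have ng := nat ((SimplicialObject.truncation n).map g)
  have hi : IsIso (((SimplicialObject.coskAdj (C := E) n).counit.app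
      ((SimplicialObject.truncation n).obj X')).app (op ⟨SimplexCategory.mk p, hp'.le⟩)) :=
    inferInstance
  have hfg' : ((SimplicialObject.truncation n).map f).app (op ⟨SimplexCategory.mk p, hp'.le⟩) =
      ((SimplicialObject.truncation n).map g).app (op ⟨SimplexCategory.mk p, hp'.le⟩) := hfg p hp'
  rw [NatTrans.comp_app, NatTrans.comp_app, Functor.id_map] at nf ng
  rw [hfg', ← ng] at nf
  have hm := @IsIso.mono_of_iso _ _ _ _ _ hi
  exact (@cancel_mono _ _ _ _ _ _ hm _ _).1 nf

theorem nonempty_homotopy_cosk {X X' : SimplicialObject E} (f g : X ⟶ X')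
    (hfg : ∀ p : ℕ, p < n → f.app (op (SimplexCategory.mk p)) = g.app (op (SimplexCategory.mk p))) :
    Nonempty (SimplicialObject.Homotopy ((SimplicialObject.cosk n).map f)
      ((SimplicialObject.cosk n).map g)) := by
  have := isCoskeletal_cosk n X'
  exact nonempty_homotopy _ _ n (cosk_map_agree n f g hfg)

end Cosk

end Groth.Agent.Lib.Helper23.CoskHtpyE
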