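import Groth.Agent.Lib.Helper23.CurveB
import Groth.Agent.Lib.Helper3.QcohStalk

/-!
# FinSuppA: global sections of a module supported at finitely many closed points are the product of
its stalks
-/
set_option autoImplicit false
set_option linter.style.haveILetI false
universe u
open CategoryTheory CategoryTheory.Limits Opposite TopologicalSpace AlgebraicGeometry
open Groth.Agent.Lib.Helper3 Groth.Agent.Lib.Helper3.QCSec Groth.Agent.Lib.Helper3.InvGen

noncomputable section

namespace Groth.Agent.Lib.Helper23.FinSupp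

variable {X : Scheme.{u}} (Q : X.Modules) (Z : Finset X)

/-- the germ map at all the points of `Z` -/
def germZ : Γ(Q, ⊤) →+ (∀ z : {z : X // z ∈ Z}, Q.presheaf.stalk z.1) where
  toFun t := fun z => Q.presheaf.germ ⊤ z.1 trivial t
  map_zero' := by
    funext z
    exact map_zero _
  map_add' a b := by
    funext z
    exact map_add _ a b

theorem germZ_apply (t : Γ(Q, ⊤)) (z : {z : X // z ∈ Z}) :
    germZ Q Z t z = Q.presheaf.germ ⊤ z.1 trivial t := rfl

variable (hZcl : ∀ z ∈ Z, IsClosed ({z} : Set X))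
  (hQ : ∀ V : X.Opens, Disjoint (V : Set X) (Z : Set X) → ∀ t : Γ(Q, V), t = 0)

include hZcl in
theorem isClosed_coe : IsClosed ((Z : Set X)) := by
  have : (Z : Set X) = ⋃ z ∈ (Z : Set X), ({z} : Set X) := by
    ext x; simp
  rw [this]
  exact Z.finite_toSet.isClosed_biUnion (fun z hz => hZcl z hz)

include hZcl hQ in
theorem germZ_injective : Function.Injective (germZ Q Z) := by
  rw [injective_iff_map_eq_zero]
  intro t ht
  apply ModBasis.eq_zero_of_locally_zero Q ⊤ t
  intro x _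
  by_cases hxZ : x ∈ Z
  · have h0 : Q.presheaf.germ ⊤ x trivial t = 0 := congrFun ht ⟨x, hxZ⟩
    obtain ⟨W, hxW, i, i', hres⟩ := TopCat.Presheaf.germ_eq Q.presheaf x
      (show x ∈ (⊤ : X.Opens) from trivial) (show x ∈ (⊤ : X.Opens) from trivial) t 0
      (by rw [h0, map_zero])
    rw [map_zero] at hres
    refine ⟨W, le_top, hxW, ?_⟩
    obtain rfl : i = homOfLE le_top := Subsingleton.elim _ _
    exact hres
  · let V : X.Opens := ⟨(Z : Set X)ᶜ, (isClosed_coe Z hZcl).isOpen_compl⟩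
    refine ⟨V, le_top, hxZ, ?_⟩
    apply hQ V
    rw [Set.disjoint_left]
    intro y hy hyZ
    exact hy hyZ

include hZcl hQ in
theorem germZ_surjective : Function.Surjective (germZ Q Z) := by
  classical
  intro q
  -- local representatives
  have hrep : ∀ z : {z : X // z ∈ Z}, ∃ (W : X.Opens) (hzW : z.1 ∈ W) (s : Γ(Q, W)),
      Q.presheaf.germ W z.1 hzW s = q z ∧ ∀ y ∈ Z, y ∈ W → y = z.1 := by
    intro z
    obtain ⟨W, hzW, s, hs⟩ := TopCat.Presheaf.exists_germ_eq Q.presheaf (q z)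
    have hcl : IsClosed (((Z.erase z.1 : Finset X) : Set X)) :=
      isClosed_coe (Z.erase z.1) (fun y hy => hZcl y (Finset.mem_of_mem_erase hy))
    let W' : X.Opens := W ⊓ ⟨((Z.erase z.1 : Finset X) : Set X)ᶜ, hcl.isOpen_compl⟩
    have hzW' : z.1 ∈ W' := ⟨hzW, fun h => (Finset.mem_erase.1 (Finset.mem_coe.1 h)).1 rfl⟩
    refine ⟨W', hzW', res Q (inf_le_left : W' ≤ W) s, ?_, ?_⟩
    · rw [← hs]
      exact TopCat.Presheaf.germ_res_apply Q.presheaf (homOfLE (inf_le_left : W' ≤ W)) z.1 hzW' s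
    · intro y hyZ hyW'
      by_contra hne
      exact hyW'.2 (Finset.mem_coe.2 (Finset.mem_erase.2 ⟨hne, hyZ⟩))
  choose W hzW s hs hW using hrep
  let V₀ : X.Opens := ⟨(Z : Set X)ᶜ, (isClosed_coe Z hZcl).isOpen_compl⟩
  let Wc : Option {z : X // z ∈ Z} → X.Opens := fun o => o.elim V₀ W
  have hcov : (⊤ : X.Opens) ≤ ⨆ o, Wc o := by
    intro x _
    rw [Opens.mem_iSup]
    by_cases hxZ : x ∈ Z
    · exact ⟨some ⟨x, hxZ⟩, hzW ⟨x, hxZ⟩⟩
    · exact ⟨none, hxZ⟩
  let a : ∀ o, Γ(Q, Wc o) := fun o =>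
    match o with
    | none => 0
    | some z => s z
  have hdisj : ∀ o o', o ≠ o' → Disjoint ((Wc o ⊓ Wc o' : X.Opens) : Set X) (Z : Set X) := by
    intro o o' hne
    rw [Set.disjoint_left]
    rintro y ⟨hy1, hy2⟩ hyZ
    cases o with
    | none => exact hy1 hyZ
    | some z =>
      cases o' with
      | none => exact hy2 hyZ
      | some z' =>
        apply hne
        have h1 := hW z y hyZ hy1
        have h2 := hW z' y hyZ hy2
        exact congrArg some (Subtype.ext (h1.symm.trans h2))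
  have hcompat : ∀ o o', res Q (inf_le_left : Wc o ⊓ Wc o' ≤ Wc o) (a o) =
      res Q (inf_le_right : Wc o ⊓ Wc o' ≤ Wc o') (a o') := by
    intro o o'
    by_cases hoo : o = o'
    · subst hoo
      rfl
    · exact (hQ _ (hdisj o o' hoo) _).trans (hQ _ (hdisj o o' hoo) _).symm
  obtain ⟨b, hb⟩ := sec_glue Q Wc ⊤ (fun _ => le_top) hcov a hcompat
  refine ⟨b, ?_⟩
  funext z
  rw [germZ_apply, ← hs z]
  have h1 := hb (some z)
  have h2 := TopCat.Presheaf.germ_res_apply Q.presheaf (homOfLE (le_top : W z ≤ ⊤)) z.1 (hzW z) b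
  rw [← h2]
  exact congrArg _ h1

end Groth.Agent.Lib.Helper23.FinSupp
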