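import Groth.Agent.Lib.Helper23.KosC
import Groth.Agent.Lib.Helper14.KoszulFun
import Groth.Prelude.Def_DTen
import Groth.Prelude.Def_Koszul

/-! `K(f) ⊗ K(g) ≅ K(f ++ g)` for the mapping-cone model of Koszul complexes. -/

set_option autoImplicit false
universe u
open CategoryTheory Limits HomologicalComplex MonoidalCategory TensorProduct DirectSum
open CochainComplex HomComplex

namespace Groth.Agent.Lib.Helper23.Kun

open Groth.Agent.Lib.Helper2.Tot
open Groth.Agent.Lib.Helper14.KoszulFun

variable {R : Type u} [CommRing R]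

lemma whisk_smul_id (a : R) (F X : Cx R) :
    whisk (a • 𝟙 F) X = a • 𝟙 (tens F X) := by
  ext n : 1
  apply ModuleCat.hom_ext
  apply tens_hom_ext
  intro i j h t
  rw [map_inc_left]
  simp only [HomologicalComplex.smul_f_apply, HomologicalComplex.id_f, ModuleCat.hom_smul,
    ModuleCat.hom_id]
  rw [LinearMap.rTensor_smul]
  simp

/-- cones of equal maps are isomorphic. -/
noncomputable def coneCongr {F G : Cx R} {φ ψ : F ⟶ G} (h : φ = ψ) :
    mappingCone φ ≅ mappingCone ψ := by
  subst h
  exact Iso.refl _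

/-- `T a` applied to an isomorphism. -/
noncomputable def coneMapIso (a : R) {Y Y' : Cx R} (e : Y ≅ Y') : T a Y ≅ T a Y' where
  hom := coneMap a e.hom
  inv := coneMap a e.inv
  hom_inv_id := by
    rw [← coneMap_comp, e.hom_inv_id]
    have := coneMap_smul_id a (X := Y) (1 : R)
    rwa [one_smul, one_smul] at this
  inv_hom_id := by
    rw [← coneMap_comp, e.inv_hom_id]
    have := coneMap_smul_id a (X := Y') (1 : R)
    rwa [one_smul, one_smul] at this

/-- `Cone(a • 𝟙 F) ⊗ X ≅ Cone(a • 𝟙 (F ⊗ X))`. -/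
noncomputable def coneSmulTensIso (a : R) (F X : Cx R) :
    tens (T a F) X ≅ T a (tens F X) :=
  coneTensIso (a • 𝟙 F) X ≪≫ coneCongr (whisk_smul_id a F X)

/-- `K(f) ⊗ K(g) ≅ K(f ++ g)`. -/
noncomputable def koszulTensIso (g : List R) :
    ∀ f : List R, tens (Koszul.koszul R f) (Koszul.koszul R g) ≅ Koszul.koszul R (f ++ g)
  | [] => MonoidalCategoryStruct.leftUnitor (C := Cx R) (Koszul.koszul R g)
  | a :: l => coneSmulTensIso a (Koszul.koszul R l) (Koszul.koszul R g) ≪≫
      coneMapIso a (koszulTensIso g l)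

end Groth.Agent.Lib.Helper23.Kun
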