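import Mathlib
import Groth.Prelude
import Groth.Agent.Lib.Helper23.HilbPR

/-!
# Semistable modules with a fixed reduced Hilbert polynomial: sub- and quotient modules (helper23)
-/

set_option autoImplicit false
set_option linter.unusedSectionVars false
set_option linter.style.haveILetI false
universe u
open CategoryTheory CategoryTheory.Limits AlgebraicGeometry Polynomial

namespace Groth.Agent.Lib.Helper23.HilbP

open Groth.Agent.Lib.Helper17 Groth.Agent.Lib.Helper17.DevBasic

section Poly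

/-- `p(A) ≤ p(B)` and `p(C) = p(B)` give `p(A) ≤ p(C)`. -/
lemma redLE_of_redLE_of_redEq {d : ℕ} {A B C : ℚ[X]} (aB : 0 < StabCat.alpha d B)
    (aC : 0 ≤ StabCat.alpha d C)
    (h1 : StabCat.RedLE d A B) (h2 : StabCat.RedEq d C B) : StabCat.RedLE d A C := by
  obtain ⟨N, hN⟩ := (redLE_iff _ _ _).1 h1
  refine (redLE_iff _ _ _).2 ⟨N, fun m hm => ?_⟩
  have e1 := hN m hm
  have e2 := redEq_eval h2 (m : ℚ)
  refine le_of_mul_le_mul_left ?_ aB
  calc StabCat.alpha d B * (StabCat.alpha d C * A.eval (m : ℚ))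
      = StabCat.alpha d C * (StabCat.alpha d B * A.eval (m : ℚ)) := by ring
    _ ≤ StabCat.alpha d C * (StabCat.alpha d A * B.eval (m : ℚ)) :=
        mul_le_mul_of_nonneg_left e1 aC
    _ = StabCat.alpha d A * (StabCat.alpha d C * B.eval (m : ℚ)) := by ring
    _ = StabCat.alpha d A * (StabCat.alpha d B * C.eval (m : ℚ)) := by rw [e2]
    _ = StabCat.alpha d B * (StabCat.alpha d A * C.eval (m : ℚ)) := by ring

/-- two-sided comparison gives equality of reduced polynomials. -/
lemma redEq_of_redLE_of_redLE {d : ℕ} {A B : ℚ[X]} (h1 : StabCat.RedLE d A B)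
    (h2 : StabCat.RedLE d B A) : StabCat.RedEq d A B := by
  obtain ⟨N1, hN1⟩ := (redLE_iff _ _ _).1 h1
  obtain ⟨N2, hN2⟩ := (redLE_iff _ _ _).1 h2
  unfold StabCat.RedEq
  refine poly_ext_nat' _ _ (max N1 N2) (fun m hm => ?_)
  have e1 := hN1 m ((le_max_left _ _).trans hm)
  have e2 := hN2 m ((le_max_right _ _).trans hm)
  simp only [eval_smul, smul_eq_mul]
  linarith

lemma redEq_symm {d : ℕ} {A B : ℚ[X]} (h : StabCat.RedEq d A B) : StabCat.RedEq d B A := by
  unfold StabCat.RedEq at h ⊢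
  exact h.symm

lemma redEq_trans {d : ℕ} {A B C : ℚ[X]} (aB : 0 < StabCat.alpha d B)
    (h1 : StabCat.RedEq d A B) (h2 : StabCat.RedEq d B C) : StabCat.RedEq d A C := by
  unfold StabCat.RedEq at h1 h2 ⊢
  have : StabCat.alpha d B • (StabCat.alpha d C • A) = StabCat.alpha d B • (StabCat.alpha d A • C) := by
    rw [smul_comm, h1, smul_smul, mul_comm, ← smul_smul, h2, smul_comm]
  exact smul_right_injective _ aB.ne' this

end Poly

variable (k : Type u) [Field k] {X : Scheme.{u}} [X.Over (Spec (CommRingCat.of k))]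
  [IsProper (X ↘ Spec (CommRingCat.of k))]

/-- a nonzero coherent submodule of a semistable module with the same reduced Hilbert polynomial is
semistable. -/
theorem isSemistable_of_sub_redEq {L : X.Modules} (hL : CohB1.IsAmple L) {E : X.Modules} {d : ℕ}
    (hE : ShStab.IsSemistable k X L E d) {K : X.Modules} (ι : K ⟶ E) [Mono ι]
    (hK : Coh.IsCoh K) (hK0 : ¬ IsZero K) {pK pE : ℚ[X]} (hpK : ShStab.IsHilbPoly k X L K pK)
    (hpE : ShStab.IsHilbPoly k X L E pE) (h : StabCat.RedEq d pK pE) :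
    ShStab.IsSemistable k X L K d := by
  refine ⟨hK, hK0, isPure_of_mono hE.2.2.1 ι, ?_⟩
  intro K' ι' hι' hK' hK'0 _ pK' pK₂ hpK' hpK₂
  haveI := hι'
  have e : pK₂ = pK := isHilbPoly_unique k hpK₂ hpK
  rw [e]
  have h1 : StabCat.RedLE d pK' pE := redLE_of_sub k hE (ι' ≫ ι) hK' hK'0 hpK' hpE
  exact redLE_of_redLE_of_redEq (alpha_pos_of_isSemistable k hL hE hpE)
    (alpha_pos_of_pure k hL hE.2.2.1 ι hK hK0 hpK).le h1 h

/-- a nonzero coherent quotient of a semistable module by a submodule with the same reduced Hilbert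
polynomial (or by zero) is semistable with the same reduced Hilbert polynomial. -/
theorem isSemistable_of_quot_redEq {L : X.Modules} (hL : CohB1.IsAmple L) {F : X.Modules} {d : ℕ}
    (hF : ShStab.IsSemistable k X L F d) {Q : X.Modules} (π : F ⟶ Q) [Epi π]
    (hQ : Coh.IsCoh Q) (hQ0 : ¬ IsZero Q) {pF pQ : ℚ[X]} (hpF : ShStab.IsHilbPoly k X L F pF)
    (hpQ : ShStab.IsHilbPoly k X L Q pQ) (h : StabCat.RedEq d (pF - pQ) pF) :
    ShStab.IsSemistable k X L Q d ∧ StabCat.RedEq d pQ pF := by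
  haveI := isNoetherian_of_isProper k X
  have aF : 0 < StabCat.alpha d pF := alpha_pos_of_isSemistable k hL hF hpF
  have hdF : topologicalKrullDim (CohB1.support F) = (d : WithBot ℕ∞) :=
    hF.2.2.1 F (𝟙 F) inferInstance hF.1 hF.2.1
  -- the kernel
  have hK : Coh.IsCoh (kernel π) := isCoh_kernel π hF.1 hQ.1
  have hpK : ShStab.IsHilbPoly k X L (kernel π) (pF - pQ) :=
    isHilbPoly_X₁ k hL.1 _ (DevKey.shortExact_of_epi π) hK hF.1 hQ hpF hpQ
  obtain ⟨NK, hNK⟩ := eventually_nonneg k X hL _ hK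
  -- equality of reduced polynomials
  have hred : StabCat.RedEq d pQ pF := by
    unfold StabCat.RedEq at h ⊢
    rw [alpha_sub, smul_sub, sub_smul] at h
    exact sub_right_inj.1 h
  -- the key estimate for nonzero coherent submodules of `Q`
  have key : ∀ (T : X.Modules) (τ : T ⟶ Q), Mono τ → Coh.IsCoh T → ¬ IsZero T →
      ∀ pT : ℚ[X], ShStab.IsHilbPoly k X L T pT →
        StabCat.RedLE d pT pF ∧ 0 < StabCat.alpha d pT := by
    intro T τ hτ hT hT0 pT hpT
    haveI := hτ
    have hC : Coh.IsCoh (cokernel τ) := isCoh_cokernel τ hT.1 hQ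
    have hpC : ShStab.IsHilbPoly k X L (cokernel τ) (pQ - pT) :=
      isHilbPoly_X₃ k hL.1 _ (DevKey.shortExact_of_mono τ) hT hQ hC hpT hpQ
    let ρ : F ⟶ cokernel τ := π ≫ cokernel.π τ
    have hI : Coh.IsCoh (kernel ρ) := isCoh_kernel ρ hF.1 hC.1
    have hpI : ShStab.IsHilbPoly k X L (kernel ρ) (pF - (pQ - pT)) :=
      isHilbPoly_X₁ k hL.1 _ (DevKey.shortExact_of_epi ρ) hI hF.1 hC hpF hpC
    obtain ⟨NT, hNT⟩ := eventually_pos k X hL T hT hT0
    have hI0 : ¬ IsZero (kernel ρ) := by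
      intro hz
      have e0 : pF - (pQ - pT) = 0 := isHilbPoly_unique k hpI (isHilbPoly_zero k hz)
      have e1 := congrArg (fun R => R.eval ((max NK NT : ℕ) : ℚ)) e0
      simp only [eval_sub, eval_zero] at e1
      have e2 : (0 : ℚ) ≤ (pF - pQ).eval ((max NK NT : ℕ) : ℚ) := by
        rw [← hpK (max NK NT)]; exact_mod_cast hNK _ (le_max_left _ _)
      have e3 : (0 : ℚ) < pT.eval ((max NK NT : ℕ) : ℚ) := by
        rw [← hpT (max NK NT)]; exact_mod_cast hNT _ (le_max_right _ _)
      rw [eval_sub] at e2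
      linarith
    have hle := redLE_of_sub k hF (kernel.ι ρ) hI hI0 hpI hpF
    obtain ⟨N, hN⟩ := (redLE_iff _ _ _).1 hle
    have hstar : ∀ m : ℕ, N ≤ m →
        StabCat.alpha d pF * pT.eval (m : ℚ) ≤ StabCat.alpha d pT * pF.eval (m : ℚ) := by
      intro m hm
      have e1 := hN m hm
      have e2 := redEq_eval h (m : ℚ)
      rw [alpha_sub, alpha_sub] at e1
      rw [alpha_sub] at e2
      simp only [eval_sub] at e1 e2
      nlinarith
    have hdT : topologicalKrullDim (CohB1.support T) ≤ (d : WithBot ℕ∞) := by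
      rw [← hdF]
      exact topologicalKrullDim_mono
        ((support_subset_of_mono τ).trans (support_subset_of_epi π))
    have aT0 : 0 ≤ StabCat.alpha d pT := alpha_nonneg_of_dim_le k hL T hT hpT d hdT
    have aT : 0 < StabCat.alpha d pT := by
      rcases aT0.lt_or_eq with h1 | h1
      · exact h1
      · exfalso
        have e1 := hstar (max N NT) (le_max_left _ _)
        have e3 : (0 : ℚ) < pT.eval ((max N NT : ℕ) : ℚ) := by
          rw [← hpT (max N NT)]; exact_mod_cast hNT _ (le_max_right _ _)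
        rw [← h1, zero_mul] at e1
        have := mul_pos aF e3
        linarith
    exact ⟨(redLE_iff _ _ _).2 ⟨N, hstar⟩, aT⟩
  -- purity
  have hpure : ShStab.IsPure X Q d := by
    intro T τ hτ hT hT0
    haveI := hτ
    obtain ⟨pT, hpT⟩ := exists_isHilbPoly k X hL T hT
    have aT := (key T τ hτ hT hT0 pT hpT).2
    have hdT : topologicalKrullDim (CohB1.support T) ≤ (d : WithBot ℕ∞) := by
      rw [← hdF]
      exact topologicalKrullDim_mono
        ((support_subset_of_mono τ).trans (support_subset_of_epi π))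
    rcases hdT.lt_or_eq with h1 | h1
    · exfalso
      have := coeff_eq_zero_of_dim_lt k hL T hT hpT d h1 d le_rfl
      unfold StabCat.alpha at aT
      rw [this, mul_zero] at aT
      exact lt_irrefl _ aT
    · exact h1
  refine ⟨⟨hQ, hQ0, hpure, ?_⟩, hred⟩
  intro T τ hτ hT hT0 _ pT pQ₂ hpT hpQ₂
  have e : pQ₂ = pQ := isHilbPoly_unique k hpQ₂ hpQ
  rw [e]
  exact redLE_of_redLE_of_redEq aF (key Q (𝟙 Q) inferInstance hQ hQ0 pQ hpQ).2.le
    (key T τ hτ hT hT0 pT hpT).1 hred

end Groth.Agent.Lib.Helper23.HilbP
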