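import Mathlib
import Groth.Prelude
import Groth.Agent.Lib.Helper23.HilbPS

/-!
# Integrality of the multiplicity, trichotomy of reduced polynomials, invariance under isomorphism
(helper23)
-/

set_option autoImplicit false
set_option linter.unusedSectionVars false
set_option linter.style.haveILetI false
universe u
open CategoryTheory CategoryTheory.Limits AlgebraicGeometry Polynomial

namespace Groth.Agent.Lib.Helper23.HilbP

open Groth.Agent.Lib.Helper17 Groth.Agent.Lib.Helper17.DevBasic

section Poly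

/-- `≤` eventually and not `<` eventually forces equality of the reduced polynomials. -/
lemma redEq_of_redLE_of_not_redLT {d : ℕ} {P Q : ℚ[X]} (h1 : StabCat.RedLE d P Q)
    (h2 : ¬ StabCat.RedLT d P Q) : StabCat.RedEq d P Q := by
  obtain ⟨N, hN⟩ := h1
  set D : ℚ[X] := StabCat.alpha d P • Q - StabCat.alpha d Q • P with hD
  by_cases hD0 : D = 0
  · unfold StabCat.RedEq
    exact (sub_eq_zero.1 hD0).symm
  · exfalso
    have hnn : ∀ m : ℕ, N ≤ m → 0 ≤ D.eval (m : ℚ) := by
      intro m hm
      have := hN m hm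
      rw [hD, eval_sub]
      linarith
    have hlc : 0 < D.leadingCoeff :=
      lt_of_le_of_ne (leadingCoeff_nonneg_of_eventually D N hnn)
        (fun h => hD0 (leadingCoeff_eq_zero.1 h.symm))
    obtain ⟨N', hN'⟩ := eventually_pos_of_leadingCoeff_pos D hlc
    apply h2
    refine ⟨N', fun m hm => ?_⟩
    have := hN' m hm
    rw [hD, eval_sub] at this
    linarith

/-- a rational polynomial with integer values at the natural numbers has
`(deg)! · (leading coefficient)` an integer. -/
lemma exists_int_factorial_mul_leadingCoeff (P : ℚ[X])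
    (hP : ∀ m : ℕ, ∃ z : ℤ, P.eval (m : ℚ) = z) :
    ∃ z : ℤ, (P.natDegree.factorial : ℚ) * P.leadingCoeff = z := by
  choose z hz using hP
  have h := congrFun (Polynomial.fwdDiff_iter_degree_eq_factorial P) 0
  rw [fwdDiff_iter_eq_sum_shift] at h
  refine ⟨∑ k ∈ Finset.range (P.natDegree + 1),
    ((-1 : ℤ) ^ (P.natDegree - k) * (P.natDegree.choose k : ℤ)) * z k, ?_⟩
  have h' : (P.leadingCoeff • (P.natDegree.factorial : ℚ → ℚ)) 0 =
      (P.natDegree.factorial : ℚ) * P.leadingCoeff := by
    simp [mul_comm]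
  rw [← h', ← h]
  push_cast
  refine Finset.sum_congr rfl (fun k _ => ?_)
  have : (0 : ℚ) + k • (1 : ℚ) = (k : ℚ) := by simp
  rw [this, hz k]
  simp [zsmul_eq_mul]

end Poly

variable (k : Type u) [Field k] {X : Scheme.{u}} [X.Over (Spec (CommRingCat.of k))]
  [IsProper (X ↘ Spec (CommRingCat.of k))]

/-- the multiplicity of a coherent module whose Hilbert polynomial has degree `d` is a positive
integer, if positive. -/
theorem exists_nat_alpha {L : X.Modules} {M : X.Modules} {P : ℚ[X]} {d : ℕ}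
    (hP : ShStab.IsHilbPoly k X L M P) (hd : P.natDegree = d) (hpos : 0 < StabCat.alpha d P) :
    ∃ n : ℕ, 0 < n ∧ StabCat.alpha d P = n := by
  obtain ⟨z, hz⟩ := exists_int_factorial_mul_leadingCoeff P (fun m => ⟨_, (hP m).symm⟩)
  have e : StabCat.alpha d P = z := by
    unfold StabCat.alpha
    rw [← hz, ← hd]
    rfl
  have hzpos : 0 < z := by
    rw [e] at hpos
    exact_mod_cast hpos
  refine ⟨z.toNat, by omega, ?_⟩
  rw [e]
  have : ((z.toNat : ℤ) : ℚ) = (z : ℚ) := by rw [Int.toNat_of_nonneg hzpos.le]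
  exact_mod_cast this.symm

omit [IsProper (X ↘ Spec (CommRingCat.of k))] in
lemma isPure_of_iso {M N : X.Modules} (e : M ≅ N) {d : ℕ} (h : ShStab.IsPure X M d) :
    ShStab.IsPure X N d := isPure_of_mono h e.inv

omit [IsProper (X ↘ Spec (CommRingCat.of k))] in
theorem isSemistable_of_iso {L M N : X.Modules} (e : M ≅ N) {d : ℕ}
    (h : ShStab.IsSemistable k X L M d) : ShStab.IsSemistable k X L N d := by
  refine ⟨isCoh_of_iso e h.1, fun hz => h.2.1 (IsZero.of_iso hz e), isPure_of_iso e h.2.2.1, ?_⟩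
  intro F ι hι hF hF0 hniso pF pN hpF hpN
  haveI := hι
  refine h.2.2.2 F (ι ≫ e.inv) inferInstance hF hF0 ?_ pF pN hpF (isHilbPoly_of_iso k e.symm hpN)
  intro hiso
  apply hniso
  have : ι = (ι ≫ e.inv) ≫ e.hom := by rw [Category.assoc, e.inv_hom_id, Category.comp_id]
  rw [this]
  infer_instance

omit [IsProper (X ↘ Spec (CommRingCat.of k))] in
theorem isStable_of_iso {L M N : X.Modules} (e : M ≅ N) {d : ℕ}
    (h : ShStab.IsStable k X L M d) : ShStab.IsStable k X L N d := by
  refine ⟨isCoh_of_iso e h.1, fun hz => h.2.1 (IsZero.of_iso hz e), isPure_of_iso e h.2.2.1, ?_⟩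
  intro F ι hι hF hF0 hniso pF pN hpF hpN
  haveI := hι
  refine h.2.2.2 F (ι ≫ e.inv) inferInstance hF hF0 ?_ pF pN hpF (isHilbPoly_of_iso k e.symm hpN)
  intro hiso
  apply hniso
  have : ι = (ι ≫ e.inv) ≫ e.hom := by rw [Category.assoc, e.inv_hom_id, Category.comp_id]
  rw [this]
  infer_instance

end Groth.Agent.Lib.Helper23.HilbP
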