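import Mathlib
import Groth.Prelude
import Groth.Agent.Lib.Helper23.HilbPZ
import Groth.Agent.Lib.Helper23.HilbPO

/-!
# Polynomial lemmas for the maximal destabilising submodule (helper23)
-/

set_option autoImplicit false
set_option linter.unusedSectionVars false
set_option linter.style.haveILetI false
universe u
open Polynomial

namespace Groth.Agent.Lib.Helper23.HilbP

/-- two rational polynomials are comparable for the eventual order. -/
lemma polyLE_or_polyLT (A B : ℚ[X]) : StabCat.PolyLE A B ∨ StabCat.PolyLT B A := by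
  by_cases h0 : A - B = 0
  · left
    refine ⟨0, fun m _ => ?_⟩
    rw [sub_eq_zero.1 h0]
  · rcases lt_trichotomy (A - B).leadingCoeff 0 with h | h | h
    · left
      have h' : 0 < (B - A).leadingCoeff := by
        rw [← neg_sub A B, leadingCoeff_neg]; linarith
      obtain ⟨N, hN⟩ := eventually_pos_of_leadingCoeff_pos (B - A) h'
      refine ⟨N, fun m hm => ?_⟩
      have := hN m hm
      rw [eval_sub] at this
      linarith
    · exact absurd (leadingCoeff_eq_zero.1 h) h0
    · right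
      obtain ⟨N, hN⟩ := eventually_pos_of_leadingCoeff_pos (A - B) h
      refine ⟨N, fun m hm => ?_⟩
      have := hN m hm
      rw [eval_sub] at this
      linarith

lemma redLE_or_redLT (d : ℕ) (P Q : ℚ[X]) : StabCat.RedLE d P Q ∨ StabCat.RedLT d Q P :=
  polyLE_or_polyLT _ _

lemma not_redLT_of_redLE {d : ℕ} {P Q : ℚ[X]} (h1 : StabCat.RedLE d P Q)
    (h2 : StabCat.RedLT d Q P) : False := by
  obtain ⟨N1, hN1⟩ := h1
  obtain ⟨N2, hN2⟩ := h2
  have e1 := hN1 (max N1 N2) (le_max_left _ _)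
  have e2 := hN2 (max N1 N2) (le_max_right _ _)
  linarith

lemma redLT_of_redLT_of_redLE {d : ℕ} {P Q R : ℚ[X]} (aP : 0 < StabCat.alpha d P)
    (aQ : 0 < StabCat.alpha d Q) (aR : 0 < StabCat.alpha d R)
    (h1 : StabCat.RedLT d P Q) (h2 : StabCat.RedLE d Q R) : StabCat.RedLT d P R :=
  redLT_of_le_lt_le aP aP aQ aR (redLE_refl d P) h1 h2

lemma redLT_of_redLE_of_redLT {d : ℕ} {P Q R : ℚ[X]} (aP : 0 < StabCat.alpha d P)
    (aQ : 0 < StabCat.alpha d Q) (aR : 0 < StabCat.alpha d R)
    (h1 : StabCat.RedLE d P Q) (h2 : StabCat.RedLT d Q R) : StabCat.RedLT d P R :=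
  redLT_of_le_lt_le aP aQ aR aR h1 h2 (redLE_refl d R)

lemma redLE_of_redEq {d : ℕ} {P Q : ℚ[X]} (h : StabCat.RedEq d P Q) : StabCat.RedLE d P Q := by
  refine ⟨0, fun m _ => ?_⟩
  unfold StabCat.RedEq at h
  rw [h]

/-- the key computation: if `P_F + P_G = P_I + P_S`, `p_F ≤ p_G` and `p_S < p_F`, then
`p_G < p_I`. -/
lemma redLT_inter {d : ℕ} {pF pG pI pS : ℚ[X]} (hsum : pF + pG = pI + pS)
    (aF : 0 < StabCat.alpha d pF) (aG : 0 < StabCat.alpha d pG)
    (hIG : StabCat.alpha d pI ≤ StabCat.alpha d pG)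
    (h1 : StabCat.RedLE d pF pG) (h2 : StabCat.RedLT d pS pF) : StabCat.RedLT d pG pI := by
  obtain ⟨N1, hN1⟩ := (redLE_iff _ _ _).1 h1
  obtain ⟨N2, hN2⟩ := (redLT_iff _ _ _).1 h2
  rw [redLT_iff]
  refine ⟨max N1 N2, fun m hm => ?_⟩
  have e1 := hN1 m ((le_max_left _ _).trans hm)
  have e2 := hN2 m ((le_max_right _ _).trans hm)
  have hs := congrArg (fun R => R.eval (m : ℚ)) hsum
  simp only [eval_add] at hs
  have ha : StabCat.alpha d pF + StabCat.alpha d pG = StabCat.alpha d pI + StabCat.alpha d pS := by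
    rw [← alpha_add, ← alpha_add, hsum]
  -- notation
  set f := pF.eval (m : ℚ)
  set g := pG.eval (m : ℚ)
  set i := pI.eval (m : ℚ)
  set s := pS.eval (m : ℚ)
  set af := StabCat.alpha d pF
  set ag := StabCat.alpha d pG
  set ai := StabCat.alpha d pI
  set as := StabCat.alpha d pS
  -- e1 : ag * f ≤ af * g ; e2 : af * s < as * f ; goal : ai * g < ag * i
  have hi : i = f + g - s := by linarith
  have has : as = af + ag - ai := by linarith
  rw [hi]
  -- multiply by af > 0
  have key : af * (ai * g) < af * (ag * (f + g - s)) := by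
    have h3 : ag * (af * s) < ag * (as * f) := mul_lt_mul_of_pos_left e2 aG
    have h4 : (ag - ai) * (ag * f) ≤ (ag - ai) * (af * g) :=
      mul_le_mul_of_nonneg_left e1 (by linarith)
    rw [has] at h3
    nlinarith
  exact lt_of_mul_lt_mul_left key aF.le

end Groth.Agent.Lib.Helper23.HilbP
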