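import Mathlib
import Groth.Prelude.Def_StabCat

/-!
# A nonzero map between factors of two chains of subobjects (helper23)
-/

set_option autoImplicit false
set_option linter.style.haveILetI false
universe v u
open CategoryTheory CategoryTheory.Limits

noncomputable section

namespace Groth.Agent.Lib.Helper23.SubCorr

variable {C : Type u} [Category.{v} C] [Abelian C]

/-- if `A ≤ S ≤ B`, `A ≤ B' ≤ B` and `S` is not contained in `B'`, then the induced morphism
`S/A ⟶ B/B'` is not zero. -/
theorem exists_nonzero_coker_map {E : C} {A S B' B : Subobject E} (hAS : A ≤ S) (hB : B' ≤ B)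
    (hSB : S ≤ B) (hAB' : A ≤ B') (hn : ¬ S ≤ B') :
    ∃ φ : cokernel (Subobject.ofLE A S hAS) ⟶ cokernel (Subobject.ofLE B' B hB), φ ≠ 0 := by
  have w : Subobject.ofLE A S hAS ≫ Subobject.ofLE S B hSB ≫
      cokernel.π (Subobject.ofLE B' B hB) = 0 := by
    have e1 : Subobject.ofLE A S hAS ≫ Subobject.ofLE S B hSB =
        Subobject.ofLE A B' hAB' ≫ Subobject.ofLE B' B hB := by
      rw [Subobject.ofLE_comp_ofLE, Subobject.ofLE_comp_ofLE]
    rw [← Category.assoc, e1, Category.assoc, cokernel.condition, comp_zero]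
  refine ⟨cokernel.desc _ _ w, ?_⟩
  intro h0
  apply hn
  have hz : Subobject.ofLE S B hSB ≫ cokernel.π (Subobject.ofLE B' B hB) = 0 := by
    rw [← cokernel.π_desc (Subobject.ofLE A S hAS) _ w, h0, comp_zero]
  have hlim := Abelian.monoIsKernelOfCokernel (f := Subobject.ofLE B' B hB) _
    (cokernelIsCokernel (Subobject.ofLE B' B hB))
  let y := hlim.lift (KernelFork.ofι _ hz)
  have hy : y ≫ Subobject.ofLE B' B hB = Subobject.ofLE S B hSB :=
    hlim.fac (KernelFork.ofι _ hz) WalkingParallelPair.zero
  refine Subobject.le_of_comm y ?_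
  have : y ≫ B'.arrow = (y ≫ Subobject.ofLE B' B hB) ≫ B.arrow := by
    rw [Category.assoc, Subobject.ofLE_arrow hB]
  rw [this, hy, Subobject.ofLE_arrow hSB]

end Groth.Agent.Lib.Helper23.SubCorr
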