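import Mathlib
import Groth.Prelude
import Groth.Agent.Lib.Helper23.HilbHNb
import Groth.Agent.Lib.Helper23.AmpleCurve5
import Groth.Agent.Lib.Helper7.TwProj
import Groth.Agent.Lib.Helper7.Mumford
import Groth.Agent.Lib.Helper3.QProj

/-!
# Hilbert polynomials on projective space with integer twists (helper23)
-/

set_option autoImplicit false
set_option linter.unusedSectionVars false
set_option linter.style.haveILetI false
universe u
open CategoryTheory CategoryTheory.Limits AlgebraicGeometry Polynomial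

noncomputable section

namespace Groth.Agent.Lib.Helper23.Simp

open Groth.Agent.Lib.Helper17 Groth.Agent.Lib.Helper17.DevBasic Groth.Agent.Lib.Helper23.HilbP
  Groth.Agent.Lib.Helper3 Groth.Agent.Lib.Helper3.InvMonoidal Groth.Agent.Lib.Helper3.TwistMul
  Groth.Agent.Lib.Helper7

variable (n : ℕ) (k : Type u) [Field k]

instance isProperPn : IsProper ((CohB1.ProjSpace n k) ↘ Spec (CommRingCat.of k)) :=
  QProj.isProper_toSpec k n

lemma hL : CohB1.IsAmple (Twist.twistProjSpace n k 1) :=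
  Groth.Agent.Lib.Helper23.AmpleCurve.isAmple_twistProjSpace n k

lemma isInvertible_O (c : ℤ) : PicF.IsInvertible (Twist.twistProjSpace n k c) :=
  TwProj.isInvertible_twist (Mumford.hU n k) c

/-- the Hilbert polynomial identity at all integers. -/
def ZHilb (M : (CohB1.ProjSpace n k).Modules) (P : ℚ[X]) : Prop :=
  ∀ m : ℤ, (Curv2.euler k (CohB1.ProjSpace n k)
    (CohB1.tensorMod M (Twist.twistProjSpace n k m)) : ℚ) = P.eval (m : ℚ)

variable {n k}

/-- `M(m) = M ⊗ O(1)^m ≅ M ⊗ O(m)`. -/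
def twistIso (M : (CohB1.ProjSpace n k).Modules) (m : ℕ) :
    ShStab.twist (CohB1.ProjSpace n k) (Twist.twistProjSpace n k 1) M m ≅
      CohB1.tensorMod M (Twist.twistProjSpace n k (m : ℤ)) :=
  tensorMapIso (Iso.refl M) (powIso (PnFinite.hunit n k 1) m).symm

/-- `(M ⊗ O(a)) ⊗ O(b) ≅ M ⊗ O(a+b)` on projective space. -/
def twAddPn (M : (CohB1.ProjSpace n k).Modules) (a b : ℤ) :
    CohB1.tensorMod (CohB1.tensorMod M (Twist.twistProjSpace n k a)) (Twist.twistProjSpace n k b) ≅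
      CohB1.tensorMod M (Twist.twistProjSpace n k (a + b)) :=
  TwProj.twAdd (Mumford.hU n k) M a b

lemma isHilbPoly_of_zHilb {M : (CohB1.ProjSpace n k).Modules} {P : ℚ[X]} (h : ZHilb n k M P) :
    ShStab.IsHilbPoly k (CohB1.ProjSpace n k) (Twist.twistProjSpace n k 1) M P := by
  intro m
  have := h (m : ℤ)
  rw [Groth.Agent.Lib.Helper23.FBC.euler_eq_of_iso' k (twistIso M m)]
  exact_mod_cast this

theorem zHilb_of_isHilbPoly {M : (CohB1.ProjSpace n k).Modules} (hM : Coh.IsCoh M) {P : ℚ[X]}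
    (h : ShStab.IsHilbPoly k (CohB1.ProjSpace n k) (Twist.twistProjSpace n k 1) M P) :
    ZHilb n k M P := by
  intro m
  -- choose `N` with `m + N ≥ 0`
  obtain ⟨N, hN⟩ : ∃ N : ℕ, 0 ≤ m + N := ⟨m.natAbs, by omega⟩
  set M' := CohB1.tensorMod M (Twist.twistProjSpace n k (-(N : ℤ))) with hM'
  have hM'c : Coh.IsCoh M' := isCoh_tensor_inv _ (isInvertible_O n k _) hM
  obtain ⟨Q, hQ⟩ := exists_isHilbPoly k _ (hL n k) M' hM'c
  -- `(M ⊗ O(-N)) ⊗ O(j) ≅ M ⊗ O(j - N)`
  have key : ∀ j : ℕ, (Curv2.euler k (CohB1.ProjSpace n k)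
      (CohB1.tensorMod M (Twist.twistProjSpace n k (-(N : ℤ) + (j : ℤ)))) : ℚ) =
      Q.eval (j : ℚ) := by
    intro j
    have e1 := Groth.Agent.Lib.Helper23.FBC.euler_eq_of_iso' k (twistIso M' j)
    have e2 := Groth.Agent.Lib.Helper23.FBC.euler_eq_of_iso' k (twAddPn M (-(N : ℤ)) (j : ℤ))
    rw [← hQ j, e1]
    exact_mod_cast e2.symm
  -- `Q = P ∘ (X - N)`
  have hQP : Q = P.comp (X - C (N : ℚ)) := by
    apply poly_ext_nat' _ _ N
    intro j hj
    obtain ⟨i, rfl⟩ : ∃ i : ℕ, j = N + i := ⟨j - N, by omega⟩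
    rw [← key (N + i), eval_comp, eval_sub, eval_X, eval_C]
    have e1 : (-(N : ℤ) + ((N + i : ℕ) : ℤ)) = (i : ℤ) := by push_cast; ring
    rw [e1, ← Groth.Agent.Lib.Helper23.FBC.euler_eq_of_iso' k (twistIso M i), h i]
    congr 1
    push_cast
    ring
  obtain ⟨j, hj⟩ : ∃ j : ℕ, (j : ℤ) = m + N := ⟨(m + N).toNat, Int.toNat_of_nonneg hN⟩
  have e2 : m = -(N : ℤ) + (j : ℤ) := by omega
  rw [e2, key j, hQP, eval_comp, eval_sub, eval_X, eval_C]
  congr 1
  push_cast
  ring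

end Groth.Agent.Lib.Helper23.Simp
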