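import Mathlib
import Groth.Prelude
import Groth.Agent.Lib.Helper23.SimpA
import Groth.Agent.Lib.Helper3.PbAmple
import Groth.Agent.Lib.Helper3.PbTensor

/-!
# Hilbert polynomials with integer twists on a closed subscheme of projective space (helper23)
-/

set_option autoImplicit false
set_option linter.unusedSectionVars false
set_option linter.style.haveILetI false
universe u
open CategoryTheory CategoryTheory.Limits AlgebraicGeometry Polynomial

noncomputable section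

namespace Groth.Agent.Lib.Helper23.XTw

open Groth.Agent.Lib.Helper17 Groth.Agent.Lib.Helper17.DevBasic Groth.Agent.Lib.Helper23.HilbP
  Groth.Agent.Lib.Helper3 Groth.Agent.Lib.Helper3.InvMonoidal Groth.Agent.Lib.Helper3.TwistMul
  Groth.Agent.Lib.Helper7 Groth.Agent.Lib.Helper23.Simp

variable {k : Type u} [Field k] {X : Scheme.{u}} [X.Over (Spec (CommRingCat.of k))]
  {N : ℕ} (ι : X ⟶ CohB1.ProjSpace N k)

/-- `ι^* O(c)`. -/
def OX (c : ℤ) : X.Modules := (Scheme.Modules.pullback ι).obj (Twist.twistProjSpace N k c)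

lemma isInvertible_OX (c : ℤ) : PicF.IsInvertible (OX ι c) :=
  PbBasic.isInvertible_pullback ι (isInvertible_O N k c)

lemma isAmple_OX_one [IsClosedImmersion ι] [CompactSpace X] : CohB1.IsAmple (OX ι 1) :=
  PbAmple.isAmple_pullback_of_isEmbedding ι ι.isClosedEmbedding.isEmbedding (hL N k)

/-- `O(a) ⊗ O(b) ≅ O(a+b)` on projective space. -/
def mulPn (a b : ℤ) :
    CohB1.tensorMod (Twist.twistProjSpace N k a) (Twist.twistProjSpace N k b) ≅
      Twist.twistProjSpace N k (a + b) :=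
  mulIsoRight a b (PnFinite.hunit N k b)

/-- `(ι^*O(1))^m ≅ ι^*O(m)`. -/
def powIsoX (m : ℕ) : CohB1.tensorPow (OX ι 1) m ≅ OX ι (m : ℤ) :=
  (PbTensor.pbPowIso ι (Twist.twistProjSpace N k 1) (isInvertible_O N k 1) m).symm ≪≫
    (Scheme.Modules.pullback ι).mapIso (powIso (PnFinite.hunit N k 1) m).symm

/-- `M ⊗ (ι^*O(1))^m ≅ M ⊗ ι^*O(m)`. -/
def twistIsoX (M : X.Modules) (m : ℕ) :
    ShStab.twist X (OX ι 1) M m ≅ CohB1.tensorMod M (OX ι (m : ℤ)) :=
  tensorMapIso (Iso.refl M) (powIsoX ι m)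

/-- `(M ⊗ ι^*O(a)) ⊗ ι^*O(b) ≅ M ⊗ ι^*O(a+b)`. -/
def twAddX (M : X.Modules) (a b : ℤ) :
    CohB1.tensorMod (CohB1.tensorMod M (OX ι a)) (OX ι b) ≅ CohB1.tensorMod M (OX ι (a + b)) :=
  assoc M (OX ι a) (OX ι b) ≪≫ tensorMapIso (Iso.refl M)
    ((PbTensor.pbTensorIso ι _ _ (isInvertible_O N k a) (isInvertible_O N k b)).symm ≪≫
      (Scheme.Modules.pullback ι).mapIso (mulPn a b))

variable (k) in
/-- the Hilbert polynomial identity at all integers. -/
def ZHilbX (M : X.Modules) (P : ℚ[X]) : Prop :=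
  ∀ m : ℤ, (Curv2.euler k X (CohB1.tensorMod M (OX ι m)) : ℚ) = P.eval (m : ℚ)

lemma zHilbX_iff (M : X.Modules) (P : ℚ[X]) :
    ZHilbX k ι M P ↔ ∀ m : ℤ, (Curv2.euler k X (Pic13.twistOn k ι M m) : ℚ) = P.eval (m : ℚ) :=
  Iff.rfl

lemma isHilbPoly_of_zHilbX {M : X.Modules} {P : ℚ[X]} (h : ZHilbX k ι M P) :
    ShStab.IsHilbPoly k X (OX ι 1) M P := by
  intro m
  have := h (m : ℤ)
  rw [Groth.Agent.Lib.Helper23.FBC.euler_eq_of_iso' k (twistIsoX ι M m)]
  exact_mod_cast this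

theorem zHilbX_of_isHilbPoly [IsProper (X ↘ Spec (CommRingCat.of k))] [IsClosedImmersion ι]
    {M : X.Modules} (hM : Coh.IsCoh M) {P : ℚ[X]}
    (h : ShStab.IsHilbPoly k X (OX ι 1) M P) : ZHilbX k ι M P := by
  haveI := isNoetherian_of_isProper k X
  intro m
  obtain ⟨N', hN⟩ : ∃ N' : ℕ, 0 ≤ m + N' := ⟨m.natAbs, by omega⟩
  set M' := CohB1.tensorMod M (OX ι (-(N' : ℤ))) with hM'
  have hM'c : Coh.IsCoh M' := isCoh_tensor_inv _ (isInvertible_OX ι _) hM
  obtain ⟨Q, hQ⟩ := exists_isHilbPoly k _ (isAmple_OX_one ι) M' hM'c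
  have key : ∀ j : ℕ, (Curv2.euler k X
      (CohB1.tensorMod M (OX ι (-(N' : ℤ) + (j : ℤ)))) : ℚ) = Q.eval (j : ℚ) := by
    intro j
    have e1 := Groth.Agent.Lib.Helper23.FBC.euler_eq_of_iso' k (twistIsoX ι M' j)
    have e2 := Groth.Agent.Lib.Helper23.FBC.euler_eq_of_iso' k (twAddX ι M (-(N' : ℤ)) (j : ℤ))
    rw [← hQ j, e1]
    exact_mod_cast e2.symm
  have hQP : Q = P.comp (Polynomial.X - C (N' : ℚ)) := by
    apply poly_ext_nat' _ _ N'
    intro j hj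
    obtain ⟨i, rfl⟩ : ∃ i : ℕ, j = N' + i := ⟨j - N', by omega⟩
    rw [← key (N' + i), eval_comp, eval_sub, eval_X, eval_C]
    have e1 : (-(N' : ℤ) + ((N' + i : ℕ) : ℤ)) = (i : ℤ) := by push_cast; ring
    rw [e1, ← Groth.Agent.Lib.Helper23.FBC.euler_eq_of_iso' k (twistIsoX ι M i), h i]
    congr 1
    push_cast
    ring
  obtain ⟨j, hj⟩ : ∃ j : ℕ, (j : ℤ) = m + N' := ⟨(m + N').toNat, Int.toNat_of_nonneg hN⟩
  have e2 : m = -(N' : ℤ) + (j : ℤ) := by omega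
  rw [e2, key j, hQP, eval_comp, eval_sub, eval_X, eval_C]
  congr 1
  push_cast
  ring

end Groth.Agent.Lib.Helper23.XTw
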