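import Mathlib
import Groth.Prelude.Def_W4bk4goldsch23FF
import Groth.Agent.Lib.Helper17.FunFldBasic

/-!
Function fields of one variable (prelude `Def_W4bk4goldsch23FF`), part 1:
polynomials in an element of positive order, linear independence over `k(t)`,
`[K : k(t)] < ∞`, residue fields are finite over `k`.
-/

set_option autoImplicit false

namespace Groth.Agent.Lib.Helper23.FF

open FunFld Polynomial
open scoped IntermediateField

universe u v
variable {k : Type u} {K : Type v} [Field k] [Field K] [Algebra k K]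

section general

variable {Γ₀ : Type*} [LinearOrderedCommGroupWithZero Γ₀] (w : Valuation K Γ₀)

theorem hk_of_hk1 (hk1 : ∀ c : k, c ≠ 0 → w (algebraMap k K c) = 1) (c : k) :
    w (algebraMap k K c) ≤ 1 := by
  by_cases hc : c = 0
  · rw [hc, map_zero, map_zero]; exact zero_le_one
  · exact (hk1 c hc).le

theorem val_aeval_le_one (hk : ∀ c : k, w (algebraMap k K c) ≤ 1) {t : K} (ht : w t ≤ 1)
    (g : k[X]) : w (aeval t g) ≤ 1 := by
  rw [Polynomial.aeval_eq_sum_range]
  apply w.map_sum_le
  intro i _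
  rw [Algebra.smul_def, map_mul, map_pow]
  calc w (algebraMap k K (g.coeff i)) * w t ^ i ≤ 1 * 1 :=
        mul_le_mul' (hk _) (pow_le_one' ht i)
    _ = 1 := one_mul 1

theorem aeval_eq_divX (t : K) (g : k[X]) :
    aeval t g = aeval t (divX g) * t + algebraMap k K (g.coeff 0) := by
  have h : aeval t (divX g * X + C (g.coeff 0))
      = aeval t (divX g) * t + algebraMap k K (g.coeff 0) := by
    rw [map_add, map_mul, aeval_X, aeval_C]
  rwa [Polynomial.divX_mul_X_add] at h

theorem val_aeval_sub_coeff_zero_lt (hk : ∀ c : k, w (algebraMap k K c) ≤ 1) {t : K}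
    (ht : w t < 1) (g : k[X]) : w (aeval t g - algebraMap k K (g.coeff 0)) < 1 := by
  rw [aeval_eq_divX t g, add_sub_cancel_right, map_mul]
  calc w (aeval t (divX g)) * w t ≤ 1 * w t :=
        mul_le_mul' (val_aeval_le_one w hk ht.le _) le_rfl
    _ = w t := one_mul _
    _ < 1 := ht

theorem val_aeval_eq_one (hk1 : ∀ c : k, c ≠ 0 → w (algebraMap k K c) = 1) {t : K}
    (ht : w t < 1) (g : k[X]) (hg : g.coeff 0 ≠ 0) : w (aeval t g) = 1 := by
  have h1 := val_aeval_sub_coeff_zero_lt w (hk_of_hk1 w hk1) ht g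
  have h2 : w (algebraMap k K (g.coeff 0)) = 1 := hk1 _ hg
  have h3 : aeval t g = (aeval t g - algebraMap k K (g.coeff 0)) + algebraMap k K (g.coeff 0) := by
    ring
  rw [h3, Valuation.map_add_eq_of_lt_right, h2]
  rw [h2]; exact h1

/-- valuation of a polynomial in `t` is a power of the valuation of `t`. -/
theorem val_aeval_eq_pow (hk1 : ∀ c : k, c ≠ 0 → w (algebraMap k K c) = 1) {t : K}
    (ht : w t < 1) (g : k[X]) (hg : g ≠ 0) : ∃ m : ℕ, w (aeval t g) = w t ^ m := by
  obtain ⟨q, hgq, hq⟩ := Polynomial.exists_eq_pow_rootMultiplicity_mul_and_not_dvd g hg 0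
  refine ⟨g.rootMultiplicity 0, ?_⟩
  have hq0 : q.coeff 0 ≠ 0 := by
    intro h0
    apply hq
    rw [C_0, sub_zero]
    exact Polynomial.X_dvd_iff.mpr h0
  conv_lhs => rw [hgq]
  rw [map_mul, map_pow, C_0, sub_zero, aeval_X, map_mul, map_pow,
    val_aeval_eq_one w hk1 ht q hq0, mul_one]

/-- Key independence lemma over polynomials. -/
theorem li_poly (hk1 : ∀ c : k, c ≠ 0 → w (algebraMap k K c) = 1) {t : K} (ht : w t < 1)
    (ht0 : t ≠ 0) {ι : Type*} [Fintype ι] (z : ι → K) (hz : ∀ i, w (z i) ≤ 1)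
    (hind : ∀ a : ι → k, w (∑ i, algebraMap k K (a i) * z i) < 1 → a = 0) :
    ∀ (n : ℕ) (f : ι → k[X]), (∀ i, (f i).natDegree ≤ n) →
      ∑ i, aeval t (f i) * z i = 0 → f = 0 := by
  have hk := hk_of_hk1 w hk1
  have hconst : ∀ f : ι → k[X], ∑ i, aeval t (f i) * z i = 0 →
      (fun i => (f i).coeff 0) = 0 := by
    intro f hrel
    apply hind
    have h1 : ∑ i, algebraMap k K ((f i).coeff 0) * z i
        = - ∑ i, (aeval t (f i) - algebraMap k K ((f i).coeff 0)) * z i := by
      rw [eq_neg_iff_add_eq_zero, ← Finset.sum_add_distrib, ← hrel]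
      exact Finset.sum_congr rfl fun i _ => by ring
    rw [h1, Valuation.map_neg]
    apply w.map_sum_lt one_ne_zero
    intro i _
    rw [map_mul]
    calc w (aeval t (f i) - algebraMap k K ((f i).coeff 0)) * w (z i)
        ≤ w (aeval t (f i) - algebraMap k K ((f i).coeff 0)) * 1 := mul_le_mul' le_rfl (hz i)
      _ = w (aeval t (f i) - algebraMap k K ((f i).coeff 0)) := mul_one _
      _ < 1 := val_aeval_sub_coeff_zero_lt w hk ht (f i)
  intro n
  induction n with
  | zero =>
    intro f hf hrel
    have ha := hconst f hrel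
    funext i
    rw [Polynomial.eq_C_of_natDegree_le_zero (hf i)]
    have : (f i).coeff 0 = 0 := congrFun ha i
    rw [this]; simp
  | succ n ih =>
    intro f hf hrel
    have ha := hconst f hrel
    have hX : ∀ i, f i = divX (f i) * X := by
      intro i
      have h := Polynomial.divX_mul_X_add (f i)
      have h0 : (f i).coeff 0 = 0 := congrFun ha i
      rw [h0, C_0, add_zero] at h
      exact h.symm
    have hrel' : ∑ i, aeval t (divX (f i)) * z i = 0 := by
      have h2 : t * ∑ i, aeval t (divX (f i)) * z i = 0 := by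
        rw [← hrel, Finset.mul_sum]
        refine Finset.sum_congr rfl fun i _ => ?_
        conv_rhs => rw [hX i, map_mul, aeval_X]
        ring
      exact (mul_eq_zero.mp h2).resolve_left ht0
    have hdiv := ih (fun i => divX (f i)) (fun i => by
      rw [Polynomial.natDegree_divX_eq_natDegree_tsub_one]; have := hf i; omega) hrel'
    funext i
    have : divX (f i) = 0 := congrFun hdiv i
    rw [hX i, this]; simp

theorem li_adjoin (hk1 : ∀ c : k, c ≠ 0 → w (algebraMap k K c) = 1) {t : K} (ht : w t < 1)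
    (ht0 : t ≠ 0) {ι : Type*} [Fintype ι] (z : ι → K) (hz : ∀ i, w (z i) ≤ 1)
    (hind : ∀ a : ι → k, w (∑ i, algebraMap k K (a i) * z i) < 1 → a = 0) :
    LinearIndependent k⟮t⟯ z := by
  open scoped IntermediateField.algebraAdjoinAdjoin in
  rw [← LinearIndependent.iff_fractionRing (R := Algebra.adjoin k ({t} : Set K)) (K := k⟮t⟯)]
  rw [Fintype.linearIndependent_iff]
  intro g hg i
  have hmem : ∀ i, ∃ f : k[X], aeval t f = (g i : K) := by
    intro i
    have h : (g i : K) ∈ (aeval (R := k) t).range := by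
      rw [← Algebra.adjoin_singleton_eq_range_aeval]; exact (g i).2
    exact h
  choose f hf using hmem
  obtain ⟨n, hn⟩ : ∃ n, ∀ i, (f i).natDegree ≤ n :=
    ⟨Finset.univ.sup fun i => (f i).natDegree, fun i =>
      Finset.le_sup (f := fun i => (f i).natDegree) (Finset.mem_univ i)⟩
  have hrel : ∑ i, aeval t (f i) * z i = 0 := by
    rw [← hg]
    refine Finset.sum_congr rfl fun i _ => ?_
    rw [hf i]; rfl
  have h0 := li_poly w hk1 ht ht0 z hz hind n f hn hrel
  apply Subtype.ext
  have : f i = 0 := congrFun h0 i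
  rw [← hf i, this]; simp

end general

/-! ### function fields -/

theorem val_const (P : Place k K) {c : k} (hc : c ≠ 0) : P.1 (algebraMap k K c) = 1 :=
  Groth.Agent.Lib.Helper17.place_val_algebraMap P hc

theorem exists_uniformizer (P : Place k K) :
    ∃ t : K, P.1 t = WithZero.exp (-1 : ℤ) ∧ t ≠ 0 ∧ P.1 t < 1 := by
  obtain ⟨t, ht⟩ := P.2.2 (WithZero.exp (-1 : ℤ))
  refine ⟨t, ht, ?_, ?_⟩
  · rintro rfl
    rw [map_zero] at ht
    exact WithZero.exp_ne_zero ht.symm
  · rw [ht, ← WithZero.exp_zero, WithZero.exp_lt_exp]; norm_num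

theorem transcendental_of_val_ne_one (hK : IsFunctionField k K) {Γ₀ : Type*}
    [LinearOrderedCommGroupWithZero Γ₀] (w : Valuation K Γ₀)
    (hk1 : ∀ c : k, c ≠ 0 → w (algebraMap k K c) = 1) {t : K} (ht0 : t ≠ 0) (ht : w t ≠ 1) :
    Transcendental k t := by
  intro halg
  obtain ⟨c, rfl⟩ := hK.2 t halg
  apply ht
  apply hk1
  rintro rfl
  exact ht0 (map_zero _)

theorem finiteDimensional_adjoin (hK : IsFunctionField k K) {x : K} (hx : Transcendental k x) :
    FiniteDimensional k⟮x⟯ K := by
  have halg := Groth.Agent.Lib.Helper17.isAlgebraic_adjoin_of_transcendental hK hx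
  obtain ⟨⟨x₀, hx₀, hfin⟩, _⟩ := hK
  have hx₀alg : IsAlgebraic k⟮x⟯ x₀ :=
    IsAlgebraic.tower_top_of_subalgebra_le (A := Algebra.adjoin k ({x} : Set K))
      (B := (k⟮x⟯).toSubalgebra) (IntermediateField.algebra_adjoin_le_adjoin k _)
      (halg.isAlgebraic x₀)
  haveI : FiniteDimensional k⟮x⟯ (k⟮x⟯⟮x₀⟯) :=
    IntermediateField.adjoin.finiteDimensional hx₀alg.isIntegral
  haveI : Module.Finite (k⟮x⟯⟮x₀⟯) K := by
    obtain ⟨s, hs⟩ := Module.finite_def.mp hfin
    refine Module.finite_def.mpr ⟨s, ?_⟩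
    rw [eq_top_iff]
    intro y _
    have hy : y ∈ Submodule.span k⟮x₀⟯ (s : Set K) := by rw [hs]; trivial
    have hle : k⟮x₀⟯ ≤ (k⟮x⟯⟮x₀⟯).restrictScalars k := by
      rw [IntermediateField.adjoin_simple_le_iff, IntermediateField.mem_restrictScalars]
      exact IntermediateField.mem_adjoin_simple_self _ _
    refine Submodule.span_induction (p := fun y _ => y ∈ Submodule.span (k⟮x⟯⟮x₀⟯) (s : Set K))
      ?_ ?_ ?_ ?_ hy
    · intro z hz; exact Submodule.subset_span hz
    · exact Submodule.zero_mem _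
    · intro a b _ _ ha hb; exact Submodule.add_mem _ ha hb
    · intro c m _ hm
      have hc : (c : K) ∈ k⟮x⟯⟮x₀⟯ := (IntermediateField.mem_restrictScalars k).mp (hle c.2)
      exact Submodule.smul_mem _ (⟨(c : K), hc⟩ : k⟮x⟯⟮x₀⟯) hm
  exact Module.Finite.trans (k⟮x⟯⟮x₀⟯) K

/-- residue is zero iff valuation `< 1`. -/
theorem residue_eq_zero_iff (P : Place k K) (z : P.O) :
    IsLocalRing.residue P.O z = 0 ↔ P.1 (z : K) < 1 := by
  rw [IsLocalRing.residue_eq_zero_iff, IsLocalRing.mem_maximalIdeal, mem_nonunits_iff,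
    (Valuation.valuationSubring.integers P.1).isUnit_iff_valuation_eq_one]
  have hle : P.1 (z : K) ≤ 1 := z.2
  constructor
  · intro h; exact lt_of_le_of_ne hle h
  · intro h; exact ne_of_lt h

theorem residue_smul (P : Place k K) (a : k) (z : P.O) :
    IsLocalRing.residue P.O (algebraMap k P.O a * z) = a • IsLocalRing.residue P.O z := by
  rw [map_mul, Algebra.smul_def]; rfl

/-- S10971: residue fields are finite-dimensional over `k`. -/
theorem finiteDimensional_residueField (hK : IsFunctionField k K) (P : Place k K) :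
    FiniteDimensional k (IsLocalRing.ResidueField P.O) := by
  classical
  obtain ⟨t, ht, ht0, htlt⟩ := exists_uniformizer P
  have hk1 : ∀ c : k, c ≠ 0 → P.1 (algebraMap k K c) = 1 := fun c hc => val_const P hc
  have httr : Transcendental k t := transcendental_of_val_ne_one hK P.1 hk1 ht0 htlt.ne
  haveI := finiteDimensional_adjoin hK httr
  have hbound : ∀ s : Finset (IsLocalRing.ResidueField P.O),
      LinearIndependent k (fun i : s => (i : IsLocalRing.ResidueField P.O)) →
      s.card ≤ Module.finrank k⟮t⟯ K := by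
    intro s hs
    have hsurj : ∀ i : s, ∃ y : P.O, IsLocalRing.residue P.O y = (i : IsLocalRing.ResidueField P.O) :=
      fun i => IsLocalRing.residue_surjective _
    choose lift hlift using hsurj
    have hLI : LinearIndependent k⟮t⟯ (fun i : s => ((lift i : P.O) : K)) := by
      refine li_adjoin P.1 hk1 htlt ht0 _ (fun i => (lift i).2) ?_
      intro a ha
      have hmem : P.1 (∑ i, algebraMap k K (a i) * ((lift i : P.O) : K)) ≤ 1 := ha.le
      have hsum : (⟨_, hmem⟩ : P.O) = ∑ i, algebraMap k P.O (a i) * lift i := by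
        apply Subtype.ext
        rw [AddSubmonoidClass.coe_finsetSum]
        rfl
      have hres : IsLocalRing.residue P.O (⟨_, hmem⟩ : P.O) = 0 :=
        (residue_eq_zero_iff P _).mpr ha
      rw [hsum, map_sum] at hres
      have hres' : ∑ i, a i • (i : IsLocalRing.ResidueField P.O) = 0 := by
        rw [← hres]
        refine Finset.sum_congr rfl fun i _ => ?_
        rw [residue_smul, hlift]
      funext i
      exact Fintype.linearIndependent_iff.mp hs a hres' i
    have h := hLI.fintype_card_le_finrank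
    simpa using h
  exact Module.rank_lt_aleph0_iff.mp
    (lt_of_le_of_lt (rank_le hbound) Cardinal.natCast_lt_aleph0)

end Groth.Agent.Lib.Helper23.FF
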