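import Mathlib
import Groth.Prelude.Def_W4bk4goldsch23FF
import Groth.Agent.Lib.Helper23.FF1

/-!
Function fields, part 2: `dim A(D₂)/A(D₁) = deg D₂ - deg D₁` and `ℓ(D₂) - ℓ(D₁) ≤ deg D₂ - deg D₁`.
-/

set_option autoImplicit false

namespace Groth.Agent.Lib.Helper23.FF

open FunFld

universe u v
variable {k : Type u} {K : Type v} [Field k] [Field K] [Algebra k K]

/-! ### arithmetic in `ℤᵐ⁰` -/

theorem exp_neg_mul_lt_one_iff (m : ℤ) (x : WithZero (Multiplicative ℤ)) :
    WithZero.exp (-m) * x < 1 ↔ x ≤ WithZero.exp (m - 1) := by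
  rcases eq_or_ne x 0 with rfl | hx
  · simp
  · obtain ⟨n, rfl⟩ : ∃ n : ℤ, x = WithZero.exp n := ⟨WithZero.log x, (WithZero.exp_log hx).symm⟩
    rw [← WithZero.exp_add, ← WithZero.exp_zero, WithZero.exp_lt_exp, WithZero.exp_le_exp]
    omega

theorem exp_neg_mul_le_one_iff (m : ℤ) (x : WithZero (Multiplicative ℤ)) :
    WithZero.exp (-m) * x ≤ 1 ↔ x ≤ WithZero.exp m := by
  rcases eq_or_ne x 0 with rfl | hx
  · simp
  · obtain ⟨n, rfl⟩ : ∃ n : ℤ, x = WithZero.exp n := ⟨WithZero.log x, (WithZero.exp_log hx).symm⟩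
    rw [← WithZero.exp_add, ← WithZero.exp_zero, WithZero.exp_le_exp, WithZero.exp_le_exp]
    omega

theorem val_zpow_uniformizer (P : Place k K) {π : K} (hπ : P.1 π = WithZero.exp (-1 : ℤ)) (m : ℤ) :
    P.1 (π ^ m) = WithZero.exp (-m) := by
  rw [map_zpow₀, hπ, ← WithZero.exp_zsmul, smul_eq_mul, mul_neg_one]

/-! ### lengths of quotients of nested submodules -/

section qlen

variable {M : Type*} [AddCommGroup M] [Module k M]

/-- length of `N₂ / (N₁ ∩ N₂)`. -/
noncomputable def qlen (N₁ N₂ : Submodule k M) : ℕ∞ :=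
  Module.length k (↥N₂ ⧸ Submodule.comap N₂.subtype N₁)

theorem qlen_self (N : Submodule k M) : qlen N N = 0 := by
  unfold qlen
  rw [Module.length_eq_zero_iff, Submodule.Quotient.subsingleton_iff, Submodule.comap_subtype_self]

theorem qlen_chain (N₁ N' N₂ : Submodule k M) (h₁ : N₁ ≤ N') (h₂ : N' ≤ N₂) :
    qlen N₁ N₂ = qlen N₁ N' + qlen N' N₂ := by
  unfold qlen
  let f : (↥N' ⧸ Submodule.comap N'.subtype N₁) →ₗ[k] (↥N₂ ⧸ Submodule.comap N₂.subtype N₁) :=
    Submodule.mapQ _ _ (Submodule.inclusion h₂) (by intro x hx; exact hx)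
  let g : (↥N₂ ⧸ Submodule.comap N₂.subtype N₁) →ₗ[k] (↥N₂ ⧸ Submodule.comap N₂.subtype N') :=
    Submodule.mapQ _ _ LinearMap.id (by intro x hx; exact h₁ hx)
  refine Module.length_eq_add_of_exact f g ?_ ?_ ?_
  · rw [← LinearMap.ker_eq_bot, LinearMap.ker_eq_bot']
    intro x hx
    obtain ⟨y, rfl⟩ := Submodule.Quotient.mk_surjective _ x
    have hx' : Submodule.Quotient.mk (p := Submodule.comap N₂.subtype N₁)
        (Submodule.inclusion h₂ y) = 0 := hx
    rw [Submodule.Quotient.mk_eq_zero] at hx'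
    rw [Submodule.Quotient.mk_eq_zero]
    exact hx'
  · intro x
    obtain ⟨y, rfl⟩ := Submodule.Quotient.mk_surjective _ x
    exact ⟨Submodule.Quotient.mk y, rfl⟩
  · intro x
    constructor
    · intro hx
      obtain ⟨y, rfl⟩ := Submodule.Quotient.mk_surjective _ x
      have hx' : Submodule.Quotient.mk (p := Submodule.comap N₂.subtype N') y = 0 := hx
      rw [Submodule.Quotient.mk_eq_zero] at hx'
      exact ⟨Submodule.Quotient.mk ⟨(y : M), hx'⟩, rfl⟩
    · rintro ⟨y, rfl⟩
      obtain ⟨y, rfl⟩ := Submodule.Quotient.mk_surjective _ y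
      show Submodule.Quotient.mk (p := Submodule.comap N₂.subtype N') (Submodule.inclusion h₂ y) = 0
      rw [Submodule.Quotient.mk_eq_zero]
      exact y.2

end qlen

/-! ### divisors -/

theorem deg_add (D E : Divisor k K) : (D + E).deg = D.deg + E.deg := by
  unfold Divisor.deg
  exact Finsupp.sum_add_index' (fun _ => zero_mul _) (fun _ _ _ => add_mul _ _ _)

theorem deg_single (P : Place k K) (n : ℤ) :
    FunFld.Divisor.deg (Finsupp.single P n : Divisor k K) = n * (P.deg : ℤ) := by
  unfold Divisor.deg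
  exact Finsupp.sum_single_index (zero_mul _)

theorem deg_zero : (0 : Divisor k K).deg = 0 := by
  unfold Divisor.deg
  exact Finsupp.sum_zero_index

theorem AD_mono {D₁ D₂ : Divisor k K} (h : D₁ ≤ D₂) : AD D₁ ≤ AD D₂ := by
  intro a ha P
  exact (ha P).trans (WithZero.exp_le_exp.mpr (h P))

theorem L_mono {D₁ D₂ : Divisor k K} (h : D₁ ≤ D₂) : L D₁ ≤ L D₂ := by
  intro a ha P
  exact (ha P).trans (WithZero.exp_le_exp.mpr (h P))

/-! ### the one-step quotient -/

theorem stepMap_mem (P : Place k K) {π : K} (hπ : P.1 π = WithZero.exp (-1 : ℤ))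
    (D : Divisor k K) (a : ↥(AD (D + Finsupp.single P 1))) :
    π ^ (D P + 1) * (a : Place k K → K) P ∈ P.O := by
  rw [Valuation.mem_valuationSubring_iff, map_mul, val_zpow_uniformizer P hπ,
    exp_neg_mul_le_one_iff]
  have h := a.2 P
  rwa [Finsupp.add_apply, Finsupp.single_eq_same] at h

/-- the map `A(D + P) → κ(P)`, `a ↦ π^{D(P)+1} a_P mod P`. -/
noncomputable def stepMap (P : Place k K) {π : K} (hπ : P.1 π = WithZero.exp (-1 : ℤ))
    (D : Divisor k K) :
    ↥(AD (D + Finsupp.single P 1)) →ₗ[k] IsLocalRing.ResidueField P.O where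
  toFun a := IsLocalRing.residue P.O ⟨π ^ (D P + 1) * (a : Place k K → K) P, stepMap_mem P hπ D a⟩
  map_add' a b := by
    rw [← map_add]
    congr 1
    apply Subtype.ext
    show π ^ (D P + 1) * ((a : Place k K → K) P + (b : Place k K → K) P)
      = π ^ (D P + 1) * (a : Place k K → K) P + π ^ (D P + 1) * (b : Place k K → K) P
    ring
  map_smul' c a := by
    rw [RingHom.id_apply]
    have h1 : (⟨π ^ (D P + 1) * ((c • a : ↥(AD (D + Finsupp.single P 1))) : Place k K → K) P,
          stepMap_mem P hπ D (c • a)⟩ : P.O)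
        = algebraMap k P.O c * ⟨π ^ (D P + 1) * (a : Place k K → K) P, stepMap_mem P hπ D a⟩ := by
      apply Subtype.ext
      show π ^ (D P + 1) * (c • (a : Place k K → K) P)
        = algebraMap k K c * (π ^ (D P + 1) * (a : Place k K → K) P)
      rw [Algebra.smul_def]
      ring
    exact (congrArg _ h1).trans (residue_smul P c _)

theorem stepMap_apply (P : Place k K) {π : K} (hπ : P.1 π = WithZero.exp (-1 : ℤ))
    (D : Divisor k K) (a : ↥(AD (D + Finsupp.single P 1))) :
    stepMap P hπ D a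
      = IsLocalRing.residue P.O ⟨π ^ (D P + 1) * (a : Place k K → K) P, stepMap_mem P hπ D a⟩ :=
  rfl

theorem stepMap_ker (P : Place k K) {π : K} (hπ : P.1 π = WithZero.exp (-1 : ℤ))
    (D : Divisor k K) :
    LinearMap.ker (stepMap P hπ D)
      = Submodule.comap (AD (D + Finsupp.single P 1)).subtype (AD D) := by
  classical
  ext a
  rw [LinearMap.mem_ker, stepMap_apply, residue_eq_zero_iff, Submodule.mem_comap]
  show P.1 (π ^ (D P + 1) * (a : Place k K → K) P) < 1 ↔ (a : Place k K → K) ∈ AD D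
  rw [map_mul, val_zpow_uniformizer P hπ, exp_neg_mul_lt_one_iff, add_sub_cancel_right]
  constructor
  · intro h Q
    by_cases hQ : Q = P
    · rw [hQ]; exact h
    · have h2 := a.2 Q
      rwa [Finsupp.add_apply, Finsupp.single_apply, if_neg (fun h => hQ h.symm), add_zero] at h2
  · intro h
    exact h P

theorem stepMap_surjective (P : Place k K) {π : K} (hπ : P.1 π = WithZero.exp (-1 : ℤ))
    (D : Divisor k K) : Function.Surjective (stepMap P hπ D) := by
  classical
  intro ξ
  obtain ⟨y, rfl⟩ := IsLocalRing.residue_surjective ξ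
  have hπ0 : π ≠ 0 := by
    rintro rfl
    rw [map_zero] at hπ
    exact WithZero.exp_ne_zero hπ.symm
  have hmem : (fun Q : Place k K => if Q = P then π ^ (-(D P + 1)) * (y : K) else 0)
      ∈ AD (D + Finsupp.single P 1) := by
    intro Q
    show Q.1 (if Q = P then π ^ (-(D P + 1)) * (y : K) else 0) ≤ _
    split_ifs with hQ
    · subst hQ
      have hy : Q.1 (y : K) ≤ 1 := (Valuation.mem_valuationSubring_iff _ _).mp y.2
      rw [Finsupp.add_apply, Finsupp.single_eq_same, map_mul, val_zpow_uniformizer Q hπ, neg_neg]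
      calc WithZero.exp (D Q + 1) * Q.1 (y : K) ≤ WithZero.exp (D Q + 1) * 1 :=
            mul_le_mul' le_rfl hy
        _ = WithZero.exp (D Q + 1) := mul_one _
    · rw [map_zero]; simp
  refine ⟨⟨_, hmem⟩, ?_⟩
  rw [stepMap_apply]
  congr 1
  apply Subtype.ext
  show π ^ (D P + 1) * (if P = P then π ^ (-(D P + 1)) * (y : K) else 0) = (y : K)
  rw [if_pos rfl, ← mul_assoc, ← zpow_add₀ hπ0, add_neg_cancel, zpow_zero, one_mul]

theorem qlen_step (hK : IsFunctionField k K) (D : Divisor k K) (P : Place k K) :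
    qlen (AD D) (AD (D + Finsupp.single P 1)) = (P.deg : ℕ∞) := by
  obtain ⟨π, hπ, -, -⟩ := exists_uniformizer P
  haveI := finiteDimensional_residueField hK P
  unfold qlen
  rw [← stepMap_ker P hπ D,
    ((stepMap P hπ D).quotKerEquivOfSurjective (stepMap_surjective P hπ D)).length_eq,
    Module.length_eq_finrank]
  rfl

theorem qlen_single (hK : IsFunctionField k K) (D : Divisor k K) (P : Place k K) (m : ℕ) :
    qlen (AD D) (AD (D + Finsupp.single P (m : ℤ))) = ((m * P.deg : ℕ) : ℕ∞) := by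
  classical
  induction m with
  | zero =>
    rw [Nat.cast_zero, Finsupp.single_zero, add_zero, qlen_self, zero_mul, Nat.cast_zero]
  | succ m ih =>
    have e : D + Finsupp.single P ((m + 1 : ℕ) : ℤ)
        = (D + Finsupp.single P (m : ℤ)) + Finsupp.single P 1 := by
      rw [Nat.cast_add, Nat.cast_one, Finsupp.single_add, add_assoc]
    have hle1 : D ≤ D + Finsupp.single P (m : ℤ) := by
      rw [le_add_iff_nonneg_right]
      intro Q
      rw [Finsupp.zero_apply]
      by_cases hQ : P = Q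
      · rw [hQ, Finsupp.single_eq_same]; exact Int.natCast_nonneg m
      · rw [Finsupp.single_apply, if_neg hQ]
    have hle2 : D + Finsupp.single P (m : ℤ) ≤ (D + Finsupp.single P (m : ℤ)) + Finsupp.single P 1 := by
      rw [le_add_iff_nonneg_right]
      intro Q
      rw [Finsupp.zero_apply]
      by_cases hQ : P = Q
      · rw [hQ, Finsupp.single_eq_same]; exact zero_le_one
      · rw [Finsupp.single_apply, if_neg hQ]
    rw [e, qlen_chain _ _ _ (AD_mono hle1) (AD_mono hle2), ih, qlen_step hK]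
    push_cast
    ring

/-- main computation of `dim A(D+E)/A(D)` for `E ≥ 0`. -/
theorem qlen_AD (hK : IsFunctionField k K) (E : Divisor k K) :
    0 ≤ E → ∃ n : ℕ, (n : ℤ) = E.deg ∧ ∀ D : Divisor k K, qlen (AD D) (AD (D + E)) = (n : ℕ∞) := by
  classical
  induction E using Finsupp.induction with
  | zero =>
    intro _
    refine ⟨0, by rw [deg_zero, Nat.cast_zero], fun D => ?_⟩
    rw [add_zero, qlen_self, Nat.cast_zero]
  | single_add a b f haf hb ih =>
    intro hE
    have hb0 : 0 ≤ b := by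
      have h := hE a
      rw [Finsupp.zero_apply, Finsupp.add_apply, Finsupp.single_eq_same,
        Finsupp.notMem_support_iff.mp haf, add_zero] at h
      exact h
    have hf0 : 0 ≤ f := by
      intro c
      rw [Finsupp.zero_apply]
      by_cases hc : a = c
      · rw [← hc, Finsupp.notMem_support_iff.mp haf]
      · have h := hE c
        rwa [Finsupp.zero_apply, Finsupp.add_apply, Finsupp.single_apply, if_neg hc, zero_add] at h
    obtain ⟨nf, hnf, hqf⟩ := ih hf0
    obtain ⟨m, rfl⟩ := Int.eq_ofNat_of_zero_le hb0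
    refine ⟨m * a.deg + nf, ?_, fun D => ?_⟩
    · rw [deg_add, deg_single, ← hnf]; push_cast; ring
    · have e : D + (Finsupp.single a (m : ℤ) + f) = (D + f) + Finsupp.single a (m : ℤ) := by abel
      have hle1 : D ≤ D + f := by rw [le_add_iff_nonneg_right]; exact hf0
      have hle2 : D + f ≤ (D + f) + Finsupp.single a (m : ℤ) := by
        rw [le_add_iff_nonneg_right]
        intro Q
        rw [Finsupp.zero_apply]
        by_cases hQ : a = Q
        · rw [hQ, Finsupp.single_eq_same]; exact Int.natCast_nonneg m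
        · rw [Finsupp.single_apply, if_neg hQ]
      rw [e, qlen_chain _ _ _ (AD_mono hle1) (AD_mono hle2), hqf, qlen_single hK]
      push_cast
      ring

/-- S10974. -/
theorem finrank_AD_quotient (hK : IsFunctionField k K) (D₁ D₂ : Divisor k K) (h : D₁ ≤ D₂) :
    AD D₁ ≤ AD D₂ ∧
    FiniteDimensional k (↥(AD D₂) ⧸ Submodule.comap (AD D₂).subtype (AD D₁)) ∧
    (Module.finrank k (↥(AD D₂) ⧸ Submodule.comap (AD D₂).subtype (AD D₁)) : ℤ)
      = D₂.deg - D₁.deg := by
  obtain ⟨E, rfl⟩ : ∃ E, D₂ = D₁ + E := ⟨D₂ - D₁, by abel⟩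
  have hE : 0 ≤ E := by rwa [le_add_iff_nonneg_right] at h
  obtain ⟨n, hn, hq⟩ := qlen_AD hK E hE
  have hlen : Module.length k (↥(AD (D₁ + E)) ⧸ Submodule.comap (AD (D₁ + E)).subtype (AD D₁))
      = (n : ℕ∞) := hq D₁
  have hfin : Module.Finite k (↥(AD (D₁ + E)) ⧸ Submodule.comap (AD (D₁ + E)).subtype (AD D₁)) := by
    rw [← Module.rank_lt_aleph0_iff, ← Cardinal.toENat_ne_top, ← Module.length_eq_rank, hlen]
    exact ENat.natCast_ne_top n
  refine ⟨AD_mono h, hfin, ?_⟩
  have h2 := Module.length_eq_finrank k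
    (↥(AD (D₁ + E)) ⧸ Submodule.comap (AD (D₁ + E)).subtype (AD D₁))
  rw [hlen] at h2
  have hnat : n = Module.finrank k
      (↥(AD (D₁ + E)) ⧸ Submodule.comap (AD (D₁ + E)).subtype (AD D₁)) := by exact_mod_cast h2
  rw [← hnat, hn, deg_add]; ring

end Groth.Agent.Lib.Helper23.FF
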