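import Mathlib
import Groth.Prelude.Def_W4bk4goldsch23FF
import Groth.Agent.Lib.Helper23.FF2

set_option autoImplicit false

namespace Groth.Agent.Lib.Helper23.FF

open FunFld

universe u v
variable {k : Type u} {K : Type v} [Field k] [Field K] [Algebra k K]

/-- the quotient `A(D₂)/A(D₁)`. -/
abbrev QAD (D₁ D₂ : Divisor k K) : Type _ :=
  ↥(AD D₂) ⧸ Submodule.comap (AD D₂).subtype (AD D₁)

/-- the natural map `L(D₂) → A(D₂)/A(D₁)`. -/
noncomputable def LtoQAD (D₁ D₂ : Divisor k K) : ↥(L D₂) →ₗ[k] QAD D₁ D₂ :=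
  (Submodule.mkQ _).comp
    (LinearMap.codRestrict (AD D₂) ((diag k K).comp (L D₂).subtype) (fun x => x.2))

theorem LtoQAD_ker (D₁ D₂ : Divisor k K) :
    LinearMap.ker (LtoQAD D₁ D₂) = Submodule.comap (L D₂).subtype (L D₁) := by
  ext x
  rw [LinearMap.mem_ker, Submodule.mem_comap]
  show Submodule.Quotient.mk _ = 0 ↔ _
  rw [Submodule.Quotient.mk_eq_zero, Submodule.mem_comap]
  exact Iff.rfl

/-- S10977. -/
theorem ell_sub_ell_le (hK : IsFunctionField k K) (D₁ D₂ : Divisor k K) (h : D₁ ≤ D₂) :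
    (ell D₂ : ℤ) - ell D₁ ≤ D₂.deg - D₁.deg := by
  obtain ⟨-, hfin, hrank⟩ := finrank_AD_quotient hK D₁ D₂ h
  haveI : Module.Finite k (QAD D₁ D₂) := hfin
  have hrank' : (Module.finrank k (QAD D₁ D₂) : ℤ) = D₂.deg - D₁.deg := hrank
  have h1 : Module.length k ↥(L D₂) = Module.length k ↥(LinearMap.ker (LtoQAD D₁ D₂))
      + Module.length k (↥(L D₂) ⧸ LinearMap.ker (LtoQAD D₁ D₂)) :=
    Module.length_eq_add_of_exact (LinearMap.ker (LtoQAD D₁ D₂)).subtype
      (LinearMap.ker (LtoQAD D₁ D₂)).mkQ (Submodule.subtype_injective _)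
      (Submodule.mkQ_surjective _) (LinearMap.exact_subtype_mkQ _)
  have h2 : Module.length k ↥(LinearMap.ker (LtoQAD D₁ D₂)) = Module.length k ↥(L D₁) := by
    rw [LtoQAD_ker]; exact (Submodule.comapSubtypeEquivOfLe (L_mono h)).length_eq
  have h3 : Module.length k (↥(L D₂) ⧸ LinearMap.ker (LtoQAD D₁ D₂))
      ≤ Module.length k (QAD D₁ D₂) :=
    Module.length_le_of_injective ((LinearMap.ker (LtoQAD D₁ D₂)).liftQ (LtoQAD D₁ D₂) le_rfl)
      (LinearMap.ker_eq_bot.mp (Submodule.ker_liftQ_eq_bot _ _ _ le_rfl))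
  have h4 : Module.length k (QAD D₁ D₂) = (Module.finrank k (QAD D₁ D₂) : ℕ∞) :=
    Module.length_eq_finrank k (QAD D₁ D₂)
  by_cases hf2 : Module.Finite k ↥(L D₂)
  · haveI := hf2
    haveI : Module.Finite k ↥(L D₁) :=
      Module.Finite.of_injective (Submodule.inclusion (L_mono h)) (Submodule.inclusion_injective _)
    rw [Module.length_eq_finrank, h2, Module.length_eq_finrank] at h1
    have h5 : (Module.finrank k ↥(L D₂) : ℕ∞)
        ≤ (Module.finrank k ↥(L D₁) : ℕ∞) + (Module.finrank k (QAD D₁ D₂) : ℕ∞) := by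
      rw [h1, ← h4]; exact add_le_add le_rfl h3
    have h6 : Module.finrank k ↥(L D₂)
        ≤ Module.finrank k ↥(L D₁) + Module.finrank k (QAD D₁ D₂) := by exact_mod_cast h5
    unfold ell
    rw [← hrank']
    omega
  · unfold ell
    rw [Module.finrank_of_not_finite hf2, ← hrank']
    have e1 : (0 : ℤ) ≤ (Module.finrank k (QAD D₁ D₂) : ℤ) := Int.natCast_nonneg _
    have e2 : (0 : ℤ) ≤ (Module.finrank k ↥(L D₁) : ℤ) := Int.natCast_nonneg _
    push_cast
    omega

end Groth.Agent.Lib.Helper23.FF
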