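import Mathlib
import Groth.Prelude.Def_W4bk4goldsch23FF
import Groth.Agent.Lib.Helper23.FF2

/-!
Function fields, part 3a: distinct places are inequivalent; weak approximation.
-/

set_option autoImplicit false

namespace Groth.Agent.Lib.Helper23.FF

open FunFld

universe u v
variable {k : Type u} {K : Type v} [Field k] [Field K] [Algebra k K]

/-! ### discreteness of `ℤᵐ⁰` -/

theorem exp_one_le_of_one_lt {x : WithZero (Multiplicative ℤ)} (hx : 1 < x) :
    WithZero.exp (1 : ℤ) ≤ x := by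
  have hx0 : x ≠ 0 := by
    rintro rfl
    exact not_lt_zero hx
  obtain ⟨n, rfl⟩ : ∃ n : ℤ, x = WithZero.exp n := ⟨WithZero.log x, (WithZero.exp_log hx0).symm⟩
  rw [← WithZero.exp_zero, WithZero.exp_lt_exp] at hx
  rw [WithZero.exp_le_exp]; omega

theorem le_exp_neg_one_of_lt_one {x : WithZero (Multiplicative ℤ)} (hx : x < 1) :
    x ≤ WithZero.exp (-1 : ℤ) := by
  rcases eq_or_ne x 0 with rfl | hx0
  · simp
  · obtain ⟨n, rfl⟩ : ∃ n : ℤ, x = WithZero.exp n := ⟨WithZero.log x, (WithZero.exp_log hx0).symm⟩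
    rw [← WithZero.exp_zero, WithZero.exp_lt_exp] at hx
    rw [WithZero.exp_le_exp]; omega

theorem exists_nat_le_exp (x : WithZero (Multiplicative ℤ)) : ∃ m : ℕ, x ≤ WithZero.exp (m : ℤ) := by
  rcases eq_or_ne x 0 with rfl | hx0
  · exact ⟨0, by simp⟩
  · obtain ⟨n, rfl⟩ : ∃ n : ℤ, x = WithZero.exp n := ⟨WithZero.log x, (WithZero.exp_log hx0).symm⟩
    exact ⟨n.toNat, by rw [WithZero.exp_le_exp]; omega⟩

/-! ### the real absolute value of a place -/

/-- `ℤᵐ⁰ → ℝ≥0`, `exp n ↦ 2^n`. -/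
noncomputable def toR : WithZero (Multiplicative ℤ) →*₀ NNReal :=
  WithZeroMulInt.toNNReal (e := 2) two_ne_zero

theorem toR_strictMono : StrictMono (toR) :=
  WithZeroMulInt.toNNReal_strictMono (e := 2) one_lt_two

/-- the real absolute value attached to a place. -/
noncomputable def absP (P : Place k K) : AbsoluteValue K ℝ where
  toFun x := ((toR (P.1 x) : NNReal) : ℝ)
  map_mul' x y := by rw [map_mul, map_mul, NNReal.coe_mul]
  nonneg' x := NNReal.coe_nonneg _
  eq_zero' x := by rw [NNReal.coe_eq_zero, map_eq_zero, map_eq_zero]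
  add_le' x y := by
    have hmono : Monotone (toR) := toR_strictMono.monotone
    have h1 : P.1 (x + y) ≤ max (P.1 x) (P.1 y) := P.1.map_add x y
    have h2 : toR (P.1 (x + y)) ≤ max (toR (P.1 x)) (toR (P.1 y)) := by
      rw [← hmono.map_max]; exact hmono h1
    have h3 : max (toR (P.1 x)) (toR (P.1 y)) ≤ toR (P.1 x) + toR (P.1 y) :=
      max_le (le_add_of_nonneg_right zero_le) (le_add_of_nonneg_left zero_le)
    exact_mod_cast h2.trans h3

theorem absP_apply (P : Place k K) (x : K) : absP P x = ((toR (P.1 x) : NNReal) : ℝ) := rfl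

theorem absP_lt_one_iff (P : Place k K) (x : K) : absP P x < 1 ↔ P.1 x < 1 := by
  rw [absP_apply, ← NNReal.coe_one, NNReal.coe_lt_coe, ← map_one toR, toR_strictMono.lt_iff_lt]

theorem one_lt_absP_iff (P : Place k K) (x : K) : 1 < absP P x ↔ 1 < P.1 x := by
  rw [absP_apply, ← NNReal.coe_one, NNReal.coe_lt_coe, ← map_one toR, toR_strictMono.lt_iff_lt]

theorem absP_isNontrivial (P : Place k K) : (absP P).IsNontrivial := by
  obtain ⟨t, -, ht0, htlt⟩ := exists_uniformizer P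
  exact ⟨t, ht0, ne_of_lt ((absP_lt_one_iff P t).mpr htlt)⟩

/-- A place is determined by its maximal ideal. -/
theorem place_eq_of_lt_one_iff (P Q : Place k K) (h : ∀ x : K, P.1 x < 1 ↔ Q.1 x < 1) : P = Q := by
  obtain ⟨tP, htP, htP0, htPlt⟩ := exists_uniformizer P
  obtain ⟨tQ, htQ, htQ0, htQlt⟩ := exists_uniformizer Q
  have hunit : ∀ u : K, u ≠ 0 → P.1 u = 1 → Q.1 u = 1 := by
    intro u hu hPu
    have h1 : ¬ Q.1 u < 1 := fun hlt => by
      have h' := (h u).mpr hlt
      rw [hPu] at h'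
      exact lt_irrefl _ h'
    have h2 : ¬ Q.1 u⁻¹ < 1 := fun hlt => by
      have h' := (h u⁻¹).mpr hlt
      rw [map_inv₀, hPu, inv_one] at h'
      exact lt_irrefl _ h'
    rw [map_inv₀] at h2
    have h3 : 1 ≤ Q.1 u := not_lt.mp h1
    have h4 : 1 ≤ (Q.1 u)⁻¹ := not_lt.mp h2
    have hpos : 0 < Q.1 u := lt_of_lt_of_le zero_lt_one h3
    have h5 : Q.1 u ≤ 1 := (one_le_inv₀ hpos).mp h4
    exact le_antisymm h5 h3
  have hQtP : Q.1 tP < 1 := (h tP).mp htPlt
  obtain ⟨e, he⟩ : ∃ e : ℤ, Q.1 tP = WithZero.exp (-e) :=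
    ⟨-WithZero.log (Q.1 tP), by rw [neg_neg, WithZero.exp_log ((Q.1.ne_zero_iff).mpr htP0)]⟩
  have he1 : 1 ≤ e := by
    rw [he, ← WithZero.exp_zero, WithZero.exp_lt_exp] at hQtP; omega
  have key : ∀ x : K, x ≠ 0 → Q.1 x = WithZero.exp (e * WithZero.log (P.1 x)) := by
    intro x hx
    obtain ⟨n, hn⟩ : ∃ n : ℤ, WithZero.log (P.1 x) = n := ⟨_, rfl⟩
    have hPx : P.1 x = WithZero.exp n := by
      rw [← hn, WithZero.exp_log ((P.1.ne_zero_iff).mpr hx)]
    have hu : P.1 (x * tP ^ n) = 1 := by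
      rw [map_mul, hPx, val_zpow_uniformizer P htP, ← WithZero.exp_add, add_neg_cancel,
        WithZero.exp_zero]
    have hQu := hunit (x * tP ^ n) (mul_ne_zero hx (zpow_ne_zero _ htP0)) hu
    rw [map_mul, map_zpow₀, he, ← WithZero.exp_zsmul, smul_eq_mul] at hQu
    have h6 : Q.1 x = (WithZero.exp (n * -e))⁻¹ := eq_inv_of_mul_eq_one_left hQu
    rw [h6, ← WithZero.exp_neg, hn]
    congr 1
    ring
  have he_eq : e = 1 := by
    have hkey := key tQ htQ0
    rw [htQ, WithZero.exp_inj] at hkey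
    obtain ⟨n', hn'⟩ : ∃ n' : ℤ, WithZero.log (P.1 tQ) = n' := ⟨_, rfl⟩
    rw [hn'] at hkey
    have h1 : n' < 0 := by
      by_contra hc
      push Not at hc
      have h2 := mul_nonneg (by omega : (0 : ℤ) ≤ e) hc
      linarith
    have h2 : e * n' ≤ e * (-1) := mul_le_mul_of_nonneg_left (by omega : n' ≤ -1) (by omega)
    have h3 : e ≤ 1 := by linarith
    omega
  apply Subtype.ext
  apply Valuation.ext
  intro x
  by_cases hx : x = 0
  · rw [hx, map_zero, map_zero]
  · rw [key x hx, he_eq, one_mul, WithZero.exp_log ((P.1.ne_zero_iff).mpr hx)]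

/-! ### weak approximation -/

section WA

variable {ι : Type*} [Fintype ι] (Pl : ι → Place k K) (hinj : Function.Injective Pl)

include hinj in
theorem exists_one_lt_lt_one (i : ι) :
    ∃ a : K, 1 < (Pl i).1 a ∧ ∀ j, j ≠ i → (Pl j).1 a < 1 := by
  have h1 : ∀ i, (absP (Pl i)).IsNontrivial := fun i => absP_isNontrivial (Pl i)
  have h2 : Pairwise fun i j => ¬ (absP (Pl i)).IsEquiv (absP (Pl j)) := by
    intro i j hij heq
    apply hij
    apply hinj
    apply place_eq_of_lt_one_iff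
    intro x
    have h3 := heq.lt_one_iff (x := x)
    rwa [absP_lt_one_iff, absP_lt_one_iff] at h3
  obtain ⟨a, ha, haj⟩ := AbsoluteValue.exists_one_lt_lt_one_pi_of_not_isEquiv h1 h2 i
  refine ⟨a, (one_lt_absP_iff _ _).mp ha, fun j hj => (absP_lt_one_iff _ _).mp (haj j hj)⟩

theorem val_div_one_add_sub_one (w : Valuation K (WithZero (Multiplicative ℤ))) {b : K}
    (hb : 1 < w b) : w (b / (1 + b) - 1) = (w b)⁻¹ := by
  have h1 : w (1 + b) = w b := by
    apply Valuation.map_add_eq_of_lt_right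
    rw [map_one]; exact hb
  have hb0 : w b ≠ 0 := ne_of_gt (lt_trans zero_lt_one hb)
  have h2 : (1 + b) ≠ 0 := by
    intro h0
    rw [h0, map_zero] at h1
    exact hb0 h1.symm
  have h3 : b / (1 + b) - 1 = -(1 + b)⁻¹ := by
    field_simp
    ring
  rw [h3, Valuation.map_neg, map_inv₀, h1]

theorem val_div_one_add (w : Valuation K (WithZero (Multiplicative ℤ))) {b : K}
    (hb : w b < 1) : w (b / (1 + b)) = w b := by
  have h1 : w (1 + b) = 1 := by
    rw [Valuation.map_add_eq_of_lt_left, map_one]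
    rw [map_one]; exact hb
  rw [map_div₀, h1, div_one]

include hinj in
theorem exists_approx_one (i : ι) (N : ℕ) :
    ∃ w : K, (Pl i).1 (w - 1) ≤ WithZero.exp (-(N : ℤ)) ∧
      ∀ j, j ≠ i → (Pl j).1 w ≤ WithZero.exp (-(N : ℤ)) := by
  obtain ⟨a, ha, haj⟩ := exists_one_lt_lt_one Pl hinj i
  refine ⟨a ^ (N + 1) / (1 + a ^ (N + 1)), ?_, ?_⟩
  · have h1 : WithZero.exp ((N : ℤ) + 1) ≤ (Pl i).1 (a ^ (N + 1)) := by
      rw [map_pow]
      calc WithZero.exp ((N : ℤ) + 1) = (WithZero.exp (1 : ℤ)) ^ (N + 1) := by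
            rw [← WithZero.exp_nsmul]; congr 1; simp
        _ ≤ (Pl i).1 a ^ (N + 1) := pow_le_pow_left' (exp_one_le_of_one_lt ha) _
    have h2 : 1 < (Pl i).1 (a ^ (N + 1)) := by
      refine lt_of_lt_of_le ?_ h1
      rw [← WithZero.exp_zero, WithZero.exp_lt_exp]; omega
    rw [val_div_one_add_sub_one _ h2]
    have hpos : (0 : WithZero (Multiplicative ℤ)) < WithZero.exp ((N : ℤ) + 1) := WithZero.exp_pos
    calc ((Pl i).1 (a ^ (N + 1)))⁻¹ ≤ (WithZero.exp ((N : ℤ) + 1))⁻¹ :=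
          (inv_le_inv₀ (lt_of_lt_of_le hpos h1) hpos).mpr h1
      _ = WithZero.exp (-((N : ℤ) + 1)) := (WithZero.exp_neg _).symm
      _ ≤ WithZero.exp (-(N : ℤ)) := by rw [WithZero.exp_le_exp]; omega
  · intro j hj
    have h1 : (Pl j).1 (a ^ (N + 1)) ≤ WithZero.exp (-((N : ℤ) + 1)) := by
      rw [map_pow]
      calc (Pl j).1 a ^ (N + 1) ≤ (WithZero.exp (-1 : ℤ)) ^ (N + 1) :=
            pow_le_pow_left' (le_exp_neg_one_of_lt_one (haj j hj)) _
        _ = WithZero.exp (-((N : ℤ) + 1)) := by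
            rw [← WithZero.exp_nsmul]; congr 1; simp
    have h2 : (Pl j).1 (a ^ (N + 1)) < 1 := by
      refine lt_of_le_of_lt h1 ?_
      rw [← WithZero.exp_zero, WithZero.exp_lt_exp]; omega
    rw [val_div_one_add _ h2]
    refine h1.trans ?_
    rw [WithZero.exp_le_exp]; omega

include hinj in
/-- Weak approximation. -/
theorem weak_approx (y : ι → K) (N : ℕ) :
    ∃ z : K, ∀ i, (Pl i).1 (z - y i) ≤ WithZero.exp (-(N : ℤ)) := by
  classical
  -- uniform bound on the valuations of the `y j`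
  have hM : ∃ M : ℕ, ∀ i j, (Pl i).1 (y j) ≤ WithZero.exp (M : ℤ) := by
    choose m hm using fun p : ι × ι => exists_nat_le_exp ((Pl p.1).1 (y p.2))
    obtain ⟨M, hM⟩ := Finset.exists_le (Finset.univ.image m)
    refine ⟨M, fun i j => (hm (i, j)).trans ?_⟩
    rw [WithZero.exp_le_exp]
    exact_mod_cast hM _ (Finset.mem_image_of_mem m (Finset.mem_univ (i, j)))
  obtain ⟨M, hM⟩ := hM
  choose w hw1 hw2 using fun j => exists_approx_one Pl hinj j (N + M)
  refine ⟨∑ j, y j * w j, fun i => ?_⟩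
  have h1 : ∑ j, y j * w j - y i = ∑ j, y j * (w j - if j = i then 1 else 0) := by
    simp only [mul_sub, Finset.sum_sub_distrib, mul_ite, mul_one, mul_zero, Finset.sum_ite_eq',
      Finset.mem_univ, if_true]
  rw [h1]
  apply Valuation.map_sum_le
  intro j _
  rw [map_mul]
  have h2 : (Pl i).1 (w j - if j = i then 1 else 0) ≤ WithZero.exp (-((N + M : ℕ) : ℤ)) := by
    split_ifs with hji
    · subst hji; exact hw1 j
    · rw [sub_zero]; exact hw2 j i (fun h => hji h.symm)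
  calc (Pl i).1 (y j) * (Pl i).1 (w j - if j = i then 1 else 0)
      ≤ WithZero.exp (M : ℤ) * WithZero.exp (-((N + M : ℕ) : ℤ)) := mul_le_mul' (hM i j) h2
    _ = WithZero.exp (-(N : ℤ)) := by
        rw [← WithZero.exp_add]; congr 1; push_cast; ring

end WA

end Groth.Agent.Lib.Helper23.FF
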