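import Mathlib
import Groth.Prelude.Def_W4bk4goldsch23FF
import Groth.Agent.Lib.Helper23.FF2b
import Groth.Agent.Lib.Helper23.FF3a

/-!
Function fields, part 3b: `∑_{zeros} ord_P(x) deg P ≤ [K : k(x)]`; finiteness of zeros and poles.
-/

set_option autoImplicit false

namespace Groth.Agent.Lib.Helper23.FF

open FunFld Polynomial
open scoped IntermediateField

universe u v
variable {k : Type u} {K : Type v} [Field k] [Field K] [Algebra k K]

/-! ### abstract independence lemma -/

theorem li_poly_abstract {x : K} (hx0 : x ≠ 0) {ι : Type*} [Fintype ι] (z : ι → K)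
    (hconst : ∀ f : ι → k[X], ∑ i, aeval x (f i) * z i = 0 → (fun i => (f i).coeff 0) = 0) :
    ∀ (n : ℕ) (f : ι → k[X]), (∀ i, (f i).natDegree ≤ n) →
      ∑ i, aeval x (f i) * z i = 0 → f = 0 := by
  intro n
  induction n with
  | zero =>
    intro f hf hrel
    have ha := hconst f hrel
    funext i
    rw [Polynomial.eq_C_of_natDegree_le_zero (hf i)]
    have : (f i).coeff 0 = 0 := congrFun ha i
    rw [this]; simp
  | succ n ih =>
    intro f hf hrel
    have ha := hconst f hrel
    have hX : ∀ i, f i = divX (f i) * X := by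
      intro i
      have h := Polynomial.divX_mul_X_add (f i)
      have h0 : (f i).coeff 0 = 0 := congrFun ha i
      rw [h0, C_0, add_zero] at h
      exact h.symm
    have hrel' : ∑ i, aeval x (divX (f i)) * z i = 0 := by
      have h2 : x * ∑ i, aeval x (divX (f i)) * z i = 0 := by
        rw [← hrel, Finset.mul_sum]
        refine Finset.sum_congr rfl fun i _ => ?_
        conv_rhs => rw [hX i, map_mul, aeval_X]
        ring
      exact (mul_eq_zero.mp h2).resolve_left hx0
    have hdiv := ih (fun i => divX (f i)) (fun i => by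
      rw [Polynomial.natDegree_divX_eq_natDegree_tsub_one]; have := hf i; omega) hrel'
    funext i
    have : divX (f i) = 0 := congrFun hdiv i
    rw [hX i, this]; simp

theorem li_adjoin_abstract {x : K} (hx0 : x ≠ 0) {ι : Type*} [Fintype ι] (z : ι → K)
    (hconst : ∀ f : ι → k[X], ∑ i, aeval x (f i) * z i = 0 → (fun i => (f i).coeff 0) = 0) :
    LinearIndependent k⟮x⟯ z := by
  open scoped IntermediateField.algebraAdjoinAdjoin in
  rw [← LinearIndependent.iff_fractionRing (R := Algebra.adjoin k ({x} : Set K)) (K := k⟮x⟯)]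
  rw [Fintype.linearIndependent_iff]
  intro g hg i
  have hmem : ∀ i, ∃ f : k[X], aeval x f = (g i : K) := by
    intro i
    have h : (g i : K) ∈ (aeval (R := k) x).range := by
      rw [← Algebra.adjoin_singleton_eq_range_aeval]; exact (g i).2
    exact h
  choose f hf using hmem
  obtain ⟨n, hn⟩ : ∃ n, ∀ i, (f i).natDegree ≤ n :=
    ⟨Finset.univ.sup fun i => (f i).natDegree, fun i =>
      Finset.le_sup (f := fun i => (f i).natDegree) (Finset.mem_univ i)⟩
  have hrel : ∑ i, aeval x (f i) * z i = 0 := by
    rw [← hg]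
    refine Finset.sum_congr rfl fun i _ => ?_
    rw [hf i]; rfl
  have h0 := li_poly_abstract hx0 z hconst n f hn hrel
  apply Subtype.ext
  have : f i = 0 := congrFun h0 i
  rw [← hf i, this]; simp

/-- independence over `k(x)` of elements that are `k`-independent modulo `x` at finitely many
zeros of `x`. -/
theorem li_of_places {x : K} (hx0 : x ≠ 0) (S : Finset (Place k K)) (hS : ∀ P ∈ S, P.1 x < 1)
    {ι : Type*} [Fintype ι] (z : ι → K) (hz : ∀ i, ∀ P ∈ S, P.1 (z i) ≤ 1)
    (hind : ∀ a : ι → k, (∀ P ∈ S, P.1 (∑ i, algebraMap k K (a i) * z i) ≤ P.1 x) → a = 0) :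
    LinearIndependent k⟮x⟯ z := by
  refine li_adjoin_abstract hx0 z ?_
  intro f hrel
  apply hind
  intro P hP
  have h1 : ∑ i, algebraMap k K ((f i).coeff 0) * z i
      = - ∑ i, (aeval x (f i) - algebraMap k K ((f i).coeff 0)) * z i := by
    rw [eq_neg_iff_add_eq_zero, ← Finset.sum_add_distrib, ← hrel]
    exact Finset.sum_congr rfl fun i _ => by ring
  rw [h1, Valuation.map_neg]
  apply Valuation.map_sum_le
  intro i _
  rw [aeval_eq_divX x (f i), add_sub_cancel_right, map_mul, map_mul]
  calc P.1 (aeval x (divX (f i))) * P.1 x * P.1 (z i) ≤ 1 * P.1 x * 1 :=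
        mul_le_mul' (mul_le_mul' (val_aeval_le_one P.1 P.2.1 (hS P hP).le _) le_rfl) (hz i P hP)
    _ = P.1 x := by rw [one_mul, mul_one]

/-! ### orders and degrees -/

theorem val_eq_exp_neg_ord (P : Place k K) {x : K} (hx : x ≠ 0) :
    P.1 x = WithZero.exp (-(P.ord x)) := by
  unfold Place.ord
  rw [neg_neg, WithZero.exp_log ((P.1.ne_zero_iff).mpr hx)]

theorem ord_pos_of_val_lt_one (P : Place k K) {x : K} (hx : x ≠ 0) (h : P.1 x < 1) :
    0 < P.ord x := by
  rw [val_eq_exp_neg_ord P hx, ← WithZero.exp_zero, WithZero.exp_lt_exp] at h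
  omega

theorem deg_neg (D : Divisor k K) : Divisor.deg (-D) = -D.deg := by
  have h := deg_add D (-D)
  rw [add_neg_cancel, deg_zero] at h
  linarith

theorem deg_finset_sum {α : Type*} (S : Finset α) (f : α → Divisor k K) :
    Divisor.deg (∑ i ∈ S, f i) = ∑ i ∈ S, (f i).deg := by
  classical
  induction S using Finset.induction_on with
  | empty => simp [deg_zero]
  | insert a s ha ih => rw [Finset.sum_insert ha, Finset.sum_insert ha, deg_add, ih]

theorem deg_pos (hK : IsFunctionField k K) (P : Place k K) : 0 < P.deg := by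
  haveI := finiteDimensional_residueField hK P
  unfold Place.deg
  exact Module.finrank_pos

theorem val_le_one_of_mem_AD_zero (a : ↥(AD (0 : Divisor k K))) (P : Place k K) :
    P.1 ((a : Place k K → K) P) ≤ 1 := by
  have h := a.2 P
  rwa [Finsupp.zero_apply, WithZero.exp_zero] at h

/-- Stichtenoth 1.3.3: zeros of `x` counted with multiplicity and degree. -/
theorem sum_ord_mul_deg_le (hK : IsFunctionField k K) {x : K} (hx : Transcendental k x)
    (S : Finset (Place k K)) (hS : ∀ P ∈ S, P.1 x < 1) :
    ∑ P ∈ S, P.ord x * (P.deg : ℤ) ≤ (Module.finrank k⟮x⟯ K : ℤ) := by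
  classical
  have hx0 : x ≠ 0 := by
    rintro rfl
    exact hx isAlgebraic_zero
  haveI := finiteDimensional_adjoin hK hx
  obtain ⟨D₁, hD₁⟩ : ∃ D₁ : Divisor k K, D₁ = -∑ Q ∈ S, Finsupp.single Q (Q.ord x) := ⟨_, rfl⟩
  have hD₁apply : ∀ P, D₁ P = if P ∈ S then -(P.ord x) else 0 := by
    intro P
    rw [hD₁, Finsupp.neg_apply, Finsupp.finsetSum_apply]
    split_ifs with hP
    · rw [Finset.sum_eq_single_of_mem P hP (fun Q _ hne => by
        rw [Finsupp.single_apply, if_neg hne]), Finsupp.single_eq_same]
    · rw [Finset.sum_eq_zero (fun Q hQ => by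
        rw [Finsupp.single_apply, if_neg (fun h : Q = P => hP (h ▸ hQ))]), neg_zero]
  have hD₁le : D₁ ≤ 0 := by
    intro P
    rw [hD₁apply, Finsupp.zero_apply]
    split_ifs with hP
    · have := ord_pos_of_val_lt_one P hx0 (hS P hP); omega
    · exact le_rfl
  obtain ⟨-, hfin, hrank⟩ := finrank_AD_quotient hK D₁ 0 hD₁le
  haveI : Module.Finite k (QAD D₁ 0) := hfin
  have hrank' : (Module.finrank k (QAD D₁ 0) : ℤ) = (0 : Divisor k K).deg - D₁.deg := hrank
  have hdeg : (0 : Divisor k K).deg - D₁.deg = ∑ P ∈ S, P.ord x * (P.deg : ℤ) := by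
    rw [deg_zero, hD₁, deg_neg, deg_finset_sum, zero_sub, neg_neg]
    exact Finset.sum_congr rfl fun P _ => deg_single P _
  have hrep : ∀ μ : Fin (Module.finrank k (QAD D₁ 0)), ∃ a : ↥(AD (0 : Divisor k K)),
      (Submodule.Quotient.mk a : QAD D₁ 0) = Module.finBasis k (QAD D₁ 0) μ :=
    fun μ => Submodule.Quotient.mk_surjective _ _
  choose a ha using hrep
  obtain ⟨N, hN⟩ : ∃ N : ℕ, ∀ P ∈ S, P.ord x ≤ N :=
    ⟨S.sup fun P => (P.ord x).toNat, fun P hP => by
      have := Finset.le_sup (f := fun P : Place k K => (P.ord x).toNat) hP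
      omega⟩
  have hWA : ∀ μ, ∃ z : K, ∀ i : ↥S, (i : Place k K).1 (z - (a μ : Place k K → K) i)
      ≤ WithZero.exp (-(N : ℤ)) := fun μ =>
    weak_approx (fun i : ↥S => (i : Place k K)) Subtype.coe_injective
      (fun i => (a μ : Place k K → K) i) N
  choose z hz using hWA
  have hvx : ∀ P ∈ S, WithZero.exp (-(N : ℤ)) ≤ P.1 x := by
    intro P hP
    rw [val_eq_exp_neg_ord P hx0, WithZero.exp_le_exp]
    have := hN P hP
    omega
  have hN1 : WithZero.exp (-(N : ℤ)) ≤ (1 : WithZero (Multiplicative ℤ)) := by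
    rw [← WithZero.exp_zero, WithZero.exp_le_exp]; omega
  have hLI : LinearIndependent k⟮x⟯ z := by
    refine li_of_places hx0 S hS z ?_ ?_
    · intro μ P hP
      have h1 := hz μ ⟨P, hP⟩
      have h2 := val_le_one_of_mem_AD_zero (a μ) P
      have h3 : z μ = (z μ - (a μ : Place k K → K) P) + (a μ : Place k K → K) P := by ring
      rw [h3]
      exact Valuation.map_add_le _ (h1.trans hN1) h2
    · intro c hc
      have hmem : ((∑ μ, c μ • a μ : ↥(AD (0 : Divisor k K))) : Place k K → K) ∈ AD D₁ := by
        intro P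
        rw [hD₁apply]
        have hcoe : ((∑ μ, c μ • a μ : ↥(AD (0 : Divisor k K))) : Place k K → K) P
            = ∑ μ, algebraMap k K (c μ) * (a μ : Place k K → K) P := by
          rw [AddSubmonoidClass.coe_finsetSum, Finset.sum_apply]
          refine Finset.sum_congr rfl fun μ _ => ?_
          rw [Submodule.coe_smul, Pi.smul_apply, Algebra.smul_def]
        split_ifs with hP
        · rw [hcoe]
          have h4 : ∑ μ, algebraMap k K (c μ) * (a μ : Place k K → K) P
              = ∑ μ, algebraMap k K (c μ) * z μ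
                - ∑ μ, algebraMap k K (c μ) * (z μ - (a μ : Place k K → K) P) := by
            rw [← Finset.sum_sub_distrib]
            exact Finset.sum_congr rfl fun μ _ => by ring
          rw [h4, ← val_eq_exp_neg_ord P hx0]
          apply Valuation.map_sub_le _ (hc P hP)
          apply Valuation.map_sum_le
          intro μ _
          rw [map_mul]
          calc P.1 (algebraMap k K (c μ)) * P.1 (z μ - (a μ : Place k K → K) P)
              ≤ 1 * WithZero.exp (-(N : ℤ)) := mul_le_mul' (P.2.1 _) (hz μ ⟨P, hP⟩)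
            _ = WithZero.exp (-(N : ℤ)) := one_mul _
            _ ≤ P.1 x := hvx P hP
        · rw [WithZero.exp_zero]
          exact val_le_one_of_mem_AD_zero _ P
      have hzero : ∑ μ, c μ • Module.finBasis k (QAD D₁ 0) μ = 0 := by
        have h5 : ∑ μ, c μ • Module.finBasis k (QAD D₁ 0) μ
            = (Submodule.mkQ _ (∑ μ, c μ • a μ) : QAD D₁ 0) := by
          rw [map_sum]
          refine Finset.sum_congr rfl fun μ _ => ?_
          rw [map_smul, Submodule.mkQ_apply, ha μ]
        rw [h5, Submodule.mkQ_apply, Submodule.Quotient.mk_eq_zero]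
        exact hmem
      funext μ
      exact Fintype.linearIndependent_iff.mp (Module.finBasis k (QAD D₁ 0)).linearIndependent
        c hzero μ
  have hcard := hLI.fintype_card_le_finrank
  rw [Fintype.card_fin] at hcard
  rw [← hdeg, ← hrank']
  exact_mod_cast hcard

/-- zeros of a transcendental element are finite in number. -/
theorem finite_zeros (hK : IsFunctionField k K) {x : K} (hx : Transcendental k x) :
    {P : Place k K | P.1 x < 1}.Finite := by
  by_contra hinf
  have hx0 : x ≠ 0 := by
    rintro rfl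
    exact hx isAlgebraic_zero
  obtain ⟨S, hS, hcard⟩ := Set.Infinite.exists_subset_card_eq hinf (Module.finrank k⟮x⟯ K + 1)
  have h1 := sum_ord_mul_deg_le hK hx S (fun P hP => hS hP)
  have h2 : (S.card : ℤ) ≤ ∑ P ∈ S, P.ord x * (P.deg : ℤ) := by
    rw [Finset.card_eq_sum_ones, Nat.cast_sum]
    apply Finset.sum_le_sum
    intro P hP
    have e1 : 1 ≤ P.ord x := ord_pos_of_val_lt_one P hx0 (hS hP)
    have e2 : 1 ≤ (P.deg : ℤ) := by exact_mod_cast deg_pos hK P
    push_cast
    nlinarith
  rw [hcard] at h2
  push_cast at h2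
  omega

/-- S10970: finitely many zeros and poles. -/
theorem finite_support_ord (hK : IsFunctionField k K) (x : K) :
    (Function.support fun P : Place k K => P.ord x).Finite := by
  by_cases hx : IsAlgebraic k x
  · obtain ⟨c, rfl⟩ := hK.2 x hx
    convert Set.finite_empty
    ext P
    simp only [Function.mem_support, ne_eq, Set.mem_empty_iff_false, iff_false, not_not]
    unfold Place.ord
    by_cases hc : c = 0
    · rw [hc, map_zero, map_zero, WithZero.log_zero, neg_zero]
    · rw [val_const P hc, WithZero.log_one, neg_zero]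
  · have hx' : Transcendental k x := hx
    have hxinv : Transcendental k x⁻¹ := by
      intro h
      apply hx
      have := h.inv
      rwa [inv_inv] at this
    refine ((finite_zeros hK hx').union (finite_zeros hK hxinv)).subset ?_
    intro P hP
    have hP' : P.ord x ≠ 0 := hP
    have hne : P.1 x ≠ 1 := by
      intro h1
      apply hP'
      unfold Place.ord
      rw [h1, WithZero.log_one, neg_zero]
    rcases lt_or_gt_of_ne hne with h | h
    · exact Or.inl h
    · right
      show P.1 x⁻¹ < 1
      rw [map_inv₀]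
      exact inv_lt_one_of_one_lt₀ h

end Groth.Agent.Lib.Helper23.FF
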