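import Mathlib
import Groth.Prelude.Def_W4bk4goldsch23FF
import Groth.Agent.Lib.Helper23.FF3b
import Groth.Agent.Lib.Helper27.FunFld7

/-!
Function fields, part 4: the degree of the zero divisor of a transcendental `x` is `[K : k(x)]`
(S10969), and `deg (x) = 0` (S10968).
-/

set_option autoImplicit false

namespace Groth.Agent.Lib.Helper23.FF

open FunFld Polynomial
open scoped IntermediateField

universe u v
variable {k : Type u} {K : Type v} [Field k] [Field K] [Algebra k K]

/-! ### `deg` as a homomorphism -/

/-- `deg` as an additive homomorphism. -/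
noncomputable def degHom : Divisor k K →+ ℤ where
  toFun := Divisor.deg
  map_zero' := deg_zero
  map_add' := deg_add

theorem degHom_apply (D : Divisor k K) : degHom D = D.deg := rfl

theorem deg_zsmul (m : ℤ) (D : Divisor k K) : Divisor.deg (m • D) = m * D.deg := by
  rw [← degHom_apply, map_zsmul, degHom_apply, smul_eq_mul]

theorem deg_sub (D E : Divisor k K) : Divisor.deg (D - E) = D.deg - E.deg := by
  rw [← degHom_apply, map_sub, degHom_apply, degHom_apply]

theorem deg_nonneg {D : Divisor k K} (h : 0 ≤ D) : 0 ≤ D.deg := by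
  unfold Divisor.deg Finsupp.sum
  apply Finset.sum_nonneg
  intro P _
  exact mul_nonneg (h P) (Int.natCast_nonneg _)

theorem deg_mono {D E : Divisor k K} (h : D ≤ E) : D.deg ≤ E.deg := by
  have := deg_nonneg (sub_nonneg.mpr h)
  rw [deg_sub] at this
  linarith

theorem div_apply (hK : IsFunctionField k K) (x : K) (P : Place k K) :
    FunFld.div k x P = P.ord x := by
  unfold FunFld.div
  rw [dif_pos (finite_support_ord hK x)]
  rfl

theorem ell_zero (hK : IsFunctionField k K) : ell (0 : Divisor k K) = 1 := by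
  unfold ell
  rw [Groth.Agent.Lib.Helper27.FF.L_zero hK, Submodule.one_eq_span]
  exact finrank_span_singleton one_ne_zero

/-! ### independence of `x^i u_j` -/

theorem li_pow_mul {x : K} (hx : Transcendental k x) {n : ℕ} (u : Fin n → K)
    (hu : LinearIndependent k⟮x⟯ u) (l : ℕ) :
    LinearIndependent k (fun p : Fin n × Fin (l + 1) => x ^ (p.2 : ℕ) * u p.1) := by
  classical
  rw [Fintype.linearIndependent_iff]
  intro g hg
  rw [Fintype.sum_prod_type] at hg
  let p : Fin n → k[X] := fun j => ∑ i : Fin (l + 1), Polynomial.monomial (i : ℕ) (g (j, i))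
  have h0 : ∀ j, ((aeval (IntermediateField.AdjoinSimple.gen k x) (p j) : k⟮x⟯) : K)
      = aeval x (p j) := by
    intro j
    rw [← IntermediateField.algebraMap_apply, ← Polynomial.aeval_algebraMap_apply,
      IntermediateField.AdjoinSimple.algebraMap_gen]
  have h1 : ∀ j, ∑ i : Fin (l + 1), g (j, i) • (x ^ (i : ℕ) * u j)
      = (aeval (IntermediateField.AdjoinSimple.gen k x) (p j) : k⟮x⟯) • u j := by
    intro j
    rw [Algebra.smul_def, IntermediateField.algebraMap_apply, h0, map_sum, Finset.sum_mul]
    refine Finset.sum_congr rfl fun i _ => ?_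
    rw [aeval_monomial, Algebra.smul_def, mul_assoc]
  have hg' : ∑ j, (aeval (IntermediateField.AdjoinSimple.gen k x) (p j) : k⟮x⟯) • u j = 0 := by
    rw [← hg]
    exact Finset.sum_congr rfl fun j _ => (h1 j).symm
  have h2 := Fintype.linearIndependent_iff.mp hu _ hg'
  have h3 : ∀ j, p j = 0 := by
    intro j
    apply transcendental_iff.mp hx
    rw [← h0, h2 j]
    rfl
  rintro ⟨j, i⟩
  have h4 : (p j).coeff (i : ℕ) = g (j, i) := by
    show (∑ i' : Fin (l + 1), Polynomial.monomial (i' : ℕ) (g (j, i'))).coeff (i : ℕ) = _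
    rw [Polynomial.finsetSum_coeff, Finset.sum_eq_single i]
    · rw [Polynomial.coeff_monomial, if_pos rfl]
    · intro i' _ hne
      rw [Polynomial.coeff_monomial, if_neg]
      intro h
      exact hne (Fin.ext h)
    · intro h
      exact absurd (Finset.mem_univ i) h
  rw [← h4, h3 j, Polynomial.coeff_zero]

/-! ### a divisor dominating the poles of finitely many elements -/

theorem exists_nonneg_mem_L (hK : IsFunctionField k K) (z : K) :
    ∃ C : Divisor k K, 0 ≤ C ∧ z ∈ L C := by
  by_cases hz : z = 0
  · exact ⟨0, le_rfl, hz ▸ (L (0 : Divisor k K)).zero_mem⟩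
  · refine ⟨(-(FunFld.div k z)) ⊔ 0, le_sup_right, ?_⟩
    intro P
    rw [val_eq_exp_neg_ord P hz, WithZero.exp_le_exp, Finsupp.sup_apply, Finsupp.neg_apply,
      div_apply hK]
    exact le_sup_left

theorem exists_nonneg_forall_mem_L (hK : IsFunctionField k K) {ι : Type*} [Fintype ι]
    (z : ι → K) : ∃ C : Divisor k K, 0 ≤ C ∧ ∀ j, z j ∈ L C := by
  classical
  choose C hC0 hC using fun j => exists_nonneg_mem_L hK (z j)
  refine ⟨∑ j, C j, Finset.sum_nonneg (fun j _ => hC0 j), fun j => ?_⟩
  exact L_mono (Finset.single_le_sum (fun i _ => hC0 i) (Finset.mem_univ j)) (hC j)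

end Groth.Agent.Lib.Helper23.FF
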