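import Mathlib
import Groth.Prelude.Def_W4bk4goldsch23FF
import Groth.Agent.Lib.Helper23.FF4

/-!
Function fields, part 4b: `ℓ(l B + C) ≥ n (l+1)` and the degree of the zero divisor.
-/

set_option autoImplicit false

namespace Groth.Agent.Lib.Helper23.FF

open FunFld Polynomial
open scoped IntermediateField

universe u v
variable {k : Type u} {K : Type v} [Field k] [Field K] [Algebra k K]

/-- The zero divisor of `x` supported on the finite set `Z`. -/
noncomputable def zdiv (x : K) (Z : Finset (Place k K)) : Divisor k K :=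
  ∑ P ∈ Z, Finsupp.single P (P.ord x)

open scoped Classical in
theorem zdiv_apply (x : K) (Z : Finset (Place k K)) (P : Place k K) :
    zdiv x Z P = if P ∈ Z then P.ord x else 0 := by
  unfold zdiv
  rw [Finsupp.finsetSum_apply]
  simp only [Finsupp.single_apply]
  rw [Finset.sum_ite_eq' Z P]

theorem deg_zdiv (x : K) (Z : Finset (Place k K)) :
    (zdiv x Z).deg = ∑ P ∈ Z, P.ord x * (P.deg : ℤ) := by
  unfold zdiv
  rw [deg_finset_sum]
  exact Finset.sum_congr rfl fun P _ => deg_single P _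

theorem val_pow_mul_inv_le (P : Place k K) {x : K} (hx0 : x ≠ 0) (Z : Finset (Place k K))
    (hZ : ∀ P, P ∈ Z ↔ P.1 x < 1) {i l : ℕ} (hil : i ≤ l) :
    P.1 x ^ i * (P.1 x ^ l)⁻¹ ≤ WithZero.exp ((l : ℤ) * zdiv x Z P) := by
  rw [zdiv_apply]
  by_cases hP : P ∈ Z
  · rw [if_pos hP]
    have h1 : P.1 x < 1 := (hZ P).mp hP
    have h2 : (P.1 x ^ l)⁻¹ = WithZero.exp ((l : ℤ) * P.ord x) := by
      rw [val_eq_exp_neg_ord P hx0, ← WithZero.exp_nsmul, ← WithZero.exp_neg]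
      congr 1
      simp
    rw [h2]
    calc P.1 x ^ i * WithZero.exp ((l : ℤ) * P.ord x)
        ≤ 1 * WithZero.exp ((l : ℤ) * P.ord x) := mul_le_mul' (pow_le_one' h1.le i) le_rfl
      _ = _ := one_mul _
  · rw [if_neg hP, mul_zero, WithZero.exp_zero]
    have h1 : 1 ≤ P.1 x := not_lt.mp (fun h => hP ((hZ P).mpr h))
    have h2 : P.1 x ^ i ≤ P.1 x ^ l := pow_le_pow_right₀ h1 hil
    have h3 : P.1 x ^ l ≠ 0 := pow_ne_zero _ ((P.1.ne_zero_iff).mpr hx0)
    calc P.1 x ^ i * (P.1 x ^ l)⁻¹ ≤ P.1 x ^ l * (P.1 x ^ l)⁻¹ := mul_le_mul' h2 le_rfl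
      _ = 1 := mul_inv_cancel₀ h3

/-- Stichtenoth 1.4.11, key estimate. -/
theorem exists_mul_le_ell (hK : IsFunctionField k K) {x : K} (hx : Transcendental k x)
    (Z : Finset (Place k K)) (hZ : ∀ P, P ∈ Z ↔ P.1 x < 1) :
    ∃ C : Divisor k K, 0 ≤ C ∧ ∀ l : ℕ,
      Module.finrank k⟮x⟯ K * (l + 1) ≤ ell ((l : ℤ) • zdiv x Z + C) := by
  classical
  have hx0 : x ≠ 0 := by
    rintro rfl
    exact hx isAlgebraic_zero
  haveI := finiteDimensional_adjoin hK hx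
  let b := Module.finBasis k⟮x⟯ K
  obtain ⟨C, hC0, hC⟩ := exists_nonneg_forall_mem_L hK (fun j => b j)
  refine ⟨C, hC0, fun l => ?_⟩
  have hli := li_pow_mul hx (fun j => b j) b.linearIndependent l
  have hc : (x ^ l)⁻¹ ≠ 0 := inv_ne_zero (pow_ne_zero _ hx0)
  have hli2 := hli.map' (LinearMap.mulRight k ((x ^ l)⁻¹))
    (LinearMap.ker_eq_bot.mpr (mul_left_injective₀ hc))
  have hmem : ∀ p : Fin (Module.finrank k⟮x⟯ K) × Fin (l + 1),
      x ^ (p.2 : ℕ) * b p.1 * (x ^ l)⁻¹ ∈ L ((l : ℤ) • zdiv x Z + C) := by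
    intro p P
    rw [Finsupp.add_apply, Finsupp.smul_apply, smul_eq_mul, WithZero.exp_add, map_mul, map_mul,
      map_inv₀, map_pow, map_pow, mul_right_comm]
    exact mul_le_mul' (val_pow_mul_inv_le P hx0 Z hZ (Nat.lt_succ_iff.mp p.2.2)) (hC p.1 P)
  haveI := Groth.Agent.Lib.Helper27.FF.finiteDimensional_L hK ((l : ℤ) • zdiv x Z + C)
  have hli3 : LinearIndependent k
      (fun p : Fin (Module.finrank k⟮x⟯ K) × Fin (l + 1) =>
        (⟨x ^ (p.2 : ℕ) * b p.1 * (x ^ l)⁻¹, hmem p⟩ : L ((l : ℤ) • zdiv x Z + C))) := by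
    apply LinearIndependent.of_comp (L ((l : ℤ) • zdiv x Z + C)).subtype
    exact hli2
  have h := hli3.fintype_card_le_finrank
  rw [Fintype.card_prod, Fintype.card_fin, Fintype.card_fin] at h
  exact h

/-- `[K : k(x)] ≤` degree of the zero divisor. -/
theorem finrank_le_deg_zdiv (hK : IsFunctionField k K) {x : K} (hx : Transcendental k x)
    (Z : Finset (Place k K)) (hZ : ∀ P, P ∈ Z ↔ P.1 x < 1) :
    (Module.finrank k⟮x⟯ K : ℤ) ≤ (zdiv x Z).deg := by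
  obtain ⟨C, hC0, hC⟩ := exists_mul_le_ell hK hx Z hZ
  haveI := finiteDimensional_adjoin hK hx
  have hn : 0 < Module.finrank k⟮x⟯ K := Module.finrank_pos
  by_contra hlt
  rw [not_le] at hlt
  have hdC : 0 ≤ C.deg := deg_nonneg hC0
  obtain ⟨l, hl⟩ : ∃ l : ℕ, (l : ℤ) = C.deg + 1 := ⟨(C.deg + 1).toNat, Int.toNat_of_nonneg (by omega)⟩
  have h1 := hC l
  have hB0 : 0 ≤ zdiv x Z := by
    intro P
    rw [zdiv_apply]
    split_ifs with hP
    · have hx0 : x ≠ 0 := by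
        rintro rfl
        exact hx isAlgebraic_zero
      exact (ord_pos_of_val_lt_one P hx0 ((hZ P).mp hP)).le
    · exact le_rfl
  have h2 := ell_sub_ell_le hK 0 ((l : ℤ) • zdiv x Z + C)
    (add_nonneg (smul_nonneg (Int.natCast_nonneg l) hB0) hC0)
  rw [ell_zero hK, deg_zero, deg_add, deg_zsmul] at h2
  have h3 : ((Module.finrank k⟮x⟯ K * (l + 1) : ℕ) : ℤ) ≤ ell ((l : ℤ) • zdiv x Z + C) := by
    exact_mod_cast h1
  push_cast at h3
  have h4 : (l : ℤ) * (zdiv x Z).deg ≤ (l : ℤ) * ((Module.finrank k⟮x⟯ K : ℤ) - 1) :=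
    mul_le_mul_of_nonneg_left (by omega) (Int.natCast_nonneg l)
  have hn' : (1 : ℤ) ≤ (Module.finrank k⟮x⟯ K : ℤ) := by exact_mod_cast hn
  have h5 : (l : ℤ) * ((Module.finrank k⟮x⟯ K : ℤ) - 1)
      = (Module.finrank k⟮x⟯ K : ℤ) * (l : ℤ) - l := by ring
  have h6 : (Module.finrank k⟮x⟯ K : ℤ) * ((l : ℤ) + 1)
      = (Module.finrank k⟮x⟯ K : ℤ) * (l : ℤ) + (Module.finrank k⟮x⟯ K : ℤ) := by ring
  rw [h5] at h4
  rw [h6] at h3
  push_cast at h2
  linarith

/-- S10969 in terms of an explicit finite set of zeros. -/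
theorem sum_ord_mul_deg_eq (hK : IsFunctionField k K) {x : K} (hx : Transcendental k x)
    (Z : Finset (Place k K)) (hZ : ∀ P, P ∈ Z ↔ P.1 x < 1) :
    ∑ P ∈ Z, P.ord x * (P.deg : ℤ) = (Module.finrank k⟮x⟯ K : ℤ) := by
  apply le_antisymm
  · exact sum_ord_mul_deg_le hK hx Z (fun P hP => (hZ P).mp hP)
  · rw [← deg_zdiv]
    exact finrank_le_deg_zdiv hK hx Z hZ

end Groth.Agent.Lib.Helper23.FF
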