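import Mathlib
import Groth.Prelude.Def_W4bk4goldsch23FF
import Groth.Agent.Lib.Helper23.FF4b

/-!
Function fields, part 4c: `deg (x) = 0` (S10968), invariance of `ℓ` and `deg` under linear
equivalence, `L(D) = 0` for `deg D < 0` (S10980).
-/

set_option autoImplicit false

namespace Groth.Agent.Lib.Helper23.FF

open FunFld Polynomial
open scoped IntermediateField

universe u v
variable {k : Type u} {K : Type v} [Field k] [Field K] [Algebra k K]

theorem adjoin_inv (x : K) : k⟮x⁻¹⟯ = k⟮x⟯ := by
  apply le_antisymm
  · rw [IntermediateField.adjoin_simple_le_iff]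
    exact inv_mem (IntermediateField.mem_adjoin_simple_self k x)
  · rw [IntermediateField.adjoin_simple_le_iff]
    have := inv_mem (IntermediateField.mem_adjoin_simple_self k x⁻¹)
    rwa [inv_inv] at this

theorem finrank_adjoin_inv (x : K) : Module.finrank k⟮x⁻¹⟯ K = Module.finrank k⟮x⟯ K := by
  rw [adjoin_inv]

theorem transcendental_inv {x : K} (hx : Transcendental k x) : Transcendental k x⁻¹ := by
  intro h
  apply hx
  have := h.inv
  rwa [inv_inv] at this

theorem ord_const (P : Place k K) (c : k) : P.ord (algebraMap k K c) = 0 := by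
  unfold Place.ord
  by_cases hc : c = 0
  · rw [hc, map_zero, map_zero, WithZero.log_zero, neg_zero]
  · rw [val_const P hc, WithZero.log_one, neg_zero]

theorem div_const (hK : IsFunctionField k K) (c : k) : FunFld.div k (algebraMap k K c) = 0 := by
  ext P
  rw [div_apply hK, ord_const, Finsupp.zero_apply]

/-- S10968. -/
theorem deg_div (hK : IsFunctionField k K) (x : K) : (FunFld.div k x).deg = 0 := by
  classical
  by_cases hx : IsAlgebraic k x
  · obtain ⟨c, rfl⟩ := hK.2 x hx
    rw [div_const hK, deg_zero]
  · have hx' : Transcendental k x := hx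
    have hx0 : x ≠ 0 := by
      rintro rfl
      exact hx isAlgebraic_zero
    have hxinv := transcendental_inv hx'
    unfold Divisor.deg Finsupp.sum
    rw [← Finset.sum_filter_add_sum_filter_not (FunFld.div k x).support
      (fun P => 0 < FunFld.div k x P)]
    have h1 : ∑ P ∈ (FunFld.div k x).support with 0 < FunFld.div k x P,
        FunFld.div k x P * (P.deg : ℤ) = (Module.finrank k⟮x⟯ K : ℤ) := by
      refine Eq.trans (Finset.sum_congr rfl ?_) (sum_ord_mul_deg_eq hK hx' _ ?_)
      · intro P _
        rw [div_apply hK]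
      · intro P
        rw [Finset.mem_filter, Finsupp.mem_support_iff, div_apply hK]
        constructor
        · rintro ⟨_, h⟩
          rw [val_eq_exp_neg_ord P hx0, ← WithZero.exp_zero, WithZero.exp_lt_exp]
          omega
        · intro h
          have := ord_pos_of_val_lt_one P hx0 h
          exact ⟨this.ne', this⟩
    have h2 : ∑ P ∈ (FunFld.div k x).support with ¬ 0 < FunFld.div k x P,
        FunFld.div k x P * (P.deg : ℤ) = -(Module.finrank k⟮x⟯ K : ℤ) := by
      rw [← finrank_adjoin_inv x, ← sum_ord_mul_deg_eq hK hxinv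
        ((FunFld.div k x).support.filter (fun P => ¬ 0 < FunFld.div k x P)), ← Finset.sum_neg_distrib]
      · refine Finset.sum_congr rfl ?_
        intro P _
        rw [div_apply hK, Groth.Agent.Lib.Helper27.FF.ord_inv, neg_mul, neg_neg]
      · intro P
        rw [Finset.mem_filter, Finsupp.mem_support_iff, div_apply hK]
        have hinv0 : x⁻¹ ≠ 0 := inv_ne_zero hx0
        constructor
        · rintro ⟨h0, h⟩
          rw [val_eq_exp_neg_ord P hinv0, ← WithZero.exp_zero, WithZero.exp_lt_exp,
            Groth.Agent.Lib.Helper27.FF.ord_inv]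
          omega
        · intro h
          have := ord_pos_of_val_lt_one P hinv0 h
          rw [Groth.Agent.Lib.Helper27.FF.ord_inv] at this
          exact ⟨by omega, by omega⟩
    rw [h1, h2, add_neg_cancel]

/-! ### linear equivalence -/

theorem div_inv (hK : IsFunctionField k K) (z : K) : FunFld.div k z⁻¹ = -FunFld.div k z := by
  ext P
  rw [Finsupp.neg_apply, div_apply hK, div_apply hK, Groth.Agent.Lib.Helper27.FF.ord_inv]

theorem deg_add_div (hK : IsFunctionField k K) (D : Divisor k K) (z : K) :
    (D + FunFld.div k z).deg = D.deg := by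
  rw [deg_add, deg_div hK, add_zero]

theorem mul_mem_L (hK : IsFunctionField k K) (D : Divisor k K) {z : K} (hz : z ≠ 0) {f : K}
    (hf : f ∈ L (D + FunFld.div k z)) : f * z ∈ L D := by
  intro P
  have h := hf P
  rw [Finsupp.add_apply, div_apply hK, WithZero.exp_add] at h
  rw [map_mul, val_eq_exp_neg_ord P hz]
  calc P.1 f * WithZero.exp (-(P.ord z))
      ≤ WithZero.exp (D P) * WithZero.exp (P.ord z) * WithZero.exp (-(P.ord z)) :=
        mul_le_mul' h le_rfl
    _ = WithZero.exp (D P) := by
        rw [mul_assoc, ← WithZero.exp_add, add_neg_cancel, WithZero.exp_zero, mul_one]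

theorem mul_inv_mem_L (hK : IsFunctionField k K) (D : Divisor k K) {z : K} (hz : z ≠ 0) {f : K}
    (hf : f ∈ L D) : f * z⁻¹ ∈ L (D + FunFld.div k z) := by
  have h : f ∈ L (D + FunFld.div k z + FunFld.div k z⁻¹) := by
    rw [div_inv hK, add_neg_cancel_right]
    exact hf
  exact mul_mem_L hK _ (inv_ne_zero hz) h

/-- Multiplication by `z` as a linear equivalence `L(D + (z)) ≃ L(D)`. -/
noncomputable def mulEquiv (hK : IsFunctionField k K) (D : Divisor k K) {z : K} (hz : z ≠ 0) :
    L (D + FunFld.div k z) ≃ₗ[k] L D :=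
  LinearEquiv.ofLinear
    ((LinearMap.mulRight k z).restrict (fun _ hf => mul_mem_L hK D hz hf))
    ((LinearMap.mulRight k z⁻¹).restrict (fun _ hf => mul_inv_mem_L hK D hz hf))
    (by
      ext f
      simp [LinearMap.restrict_apply, mul_assoc, inv_mul_cancel₀ hz])
    (by
      ext f
      simp [LinearMap.restrict_apply, mul_assoc, mul_inv_cancel₀ hz])

theorem ell_add_div (hK : IsFunctionField k K) (D : Divisor k K) {z : K} (hz : z ≠ 0) :
    ell (D + FunFld.div k z) = ell D :=
  (mulEquiv hK D hz).finrank_eq

/-- `i(D) = deg D + 1 - ℓ(D)` is invariant under linear equivalence. -/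
theorem idx_add_div (hK : IsFunctionField k K) (D : Divisor k K) {z : K} (hz : z ≠ 0) :
    (D + FunFld.div k z).deg + 1 - (ell (D + FunFld.div k z) : ℤ) = D.deg + 1 - (ell D : ℤ) := by
  rw [deg_add_div hK, ell_add_div hK D hz]

/-- `i` is monotone. -/
theorem idx_mono (hK : IsFunctionField k K) {D E : Divisor k K} (h : D ≤ E) :
    D.deg + 1 - (ell D : ℤ) ≤ E.deg + 1 - (ell E : ℤ) := by
  have := ell_sub_ell_le hK D E h
  linarith

theorem div_add_nonneg_of_mem_L (hK : IsFunctionField k K) (D : Divisor k K) {z : K} (hz : z ≠ 0)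
    (hzD : z ∈ L D) : 0 ≤ D + FunFld.div k z := by
  intro P
  have h := hzD P
  rw [val_eq_exp_neg_ord P hz, WithZero.exp_le_exp] at h
  rw [Finsupp.add_apply, div_apply hK, Finsupp.zero_apply]
  omega

/-- S10980. -/
theorem L_eq_bot_of_deg_neg (hK : IsFunctionField k K) (D : Divisor k K) (h : D.deg < 0) :
    L D = ⊥ := by
  rw [Submodule.eq_bot_iff]
  intro z hz
  by_contra hz0
  have h1 := deg_nonneg (div_add_nonneg_of_mem_L hK D hz0 hz)
  rw [deg_add_div hK] at h1
  omega

end Groth.Agent.Lib.Helper23.FF
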