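import Mathlib
import Groth.Prelude.Def_W4bk4goldsch23FF
import Groth.Agent.Lib.Helper23.FF4c

/-!
Function fields, part 5: Riemann's theorem (S10982).
-/

set_option autoImplicit false

namespace Groth.Agent.Lib.Helper23.FF

open FunFld Polynomial
open scoped IntermediateField

universe u v
variable {k : Type u} {K : Type v} [Field k] [Field K] [Algebra k K]

/-- `i(D) = deg D + 1 - ℓ(D)`. -/
noncomputable def idx (D : Divisor k K) : ℤ := D.deg + 1 - (ell D : ℤ)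

theorem idx_zero (hK : IsFunctionField k K) : idx (0 : Divisor k K) = 0 := by
  unfold idx
  rw [deg_zero, ell_zero hK]
  norm_num

theorem exists_ne_zero_mem_L (hK : IsFunctionField k K) (D : Divisor k K) (h : 0 < ell D) :
    ∃ z : K, z ≠ 0 ∧ z ∈ L D := by
  by_contra hcon
  push Not at hcon
  have : L D = ⊥ := (Submodule.eq_bot_iff _).mpr (fun z hz => by
    by_contra h0
    exact hcon z h0 hz)
  unfold ell at h
  rw [this, finrank_bot] at h
  exact lt_irrefl _ h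

/-- Boundedness of `i(D)` (Stichtenoth 1.4.14). -/
theorem exists_idx_bound (hK : IsFunctionField k K) :
    ∃ γ : ℤ, ∀ D : Divisor k K, idx D ≤ γ := by
  classical
  obtain ⟨x, hx, -⟩ := hK.1
  have hx0 : x ≠ 0 := by
    rintro rfl
    exact hx isAlgebraic_zero
  haveI := finiteDimensional_adjoin hK hx
  set n := Module.finrank k⟮x⟯ K with hn
  have hnpos : 0 < n := Module.finrank_pos
  set Z := (finite_zeros hK hx).toFinset with hZdef
  have hZ : ∀ P, P ∈ Z ↔ P.1 x < 1 := by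
    intro P
    rw [hZdef, Set.Finite.mem_toFinset]
    rfl
  set B := zdiv x Z with hB
  have hB0 : 0 ≤ B := by
    intro P
    rw [hB, zdiv_apply]
    split_ifs with hP
    · exact (ord_pos_of_val_lt_one P hx0 ((hZ P).mp hP)).le
    · exact le_rfl
  have hdegB : B.deg = n := by
    rw [hB, deg_zdiv]
    exact sum_ord_mul_deg_eq hK hx Z hZ
  obtain ⟨C, hC0, hC⟩ := exists_mul_le_ell hK hx Z hZ
  -- (i) bound along multiples of B
  have hi : ∀ l : ℕ, idx ((l : ℤ) • B) ≤ C.deg + 1 - n := by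
    intro l
    have h1 := hC l
    have h2 := ell_sub_ell_le hK ((l : ℤ) • B) ((l : ℤ) • B + C) (le_add_of_nonneg_right hC0)
    rw [deg_add] at h2
    have h3 : ((n * (l + 1) : ℕ) : ℤ) ≤ ell ((l : ℤ) • B + C) := by exact_mod_cast h1
    push_cast at h3
    unfold idx
    rw [deg_zsmul, hdegB]
    have h4 : (n : ℤ) * ((l : ℤ) + 1) = (l : ℤ) * n + n := by ring
    rw [h4] at h3
    linarith
  set γ := C.deg + 1 - (n : ℤ) with hγ
  have hγ0 : 0 ≤ γ := by
    have := hi 0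
    rw [Nat.cast_zero, zero_smul, idx_zero hK] at this
    exact this
  refine ⟨γ, fun D => ?_⟩
  -- A₁ = D ⊔ 0
  have hA₁ : D ≤ D ⊔ 0 := le_sup_left
  have hA₁0 : (0 : Divisor k K) ≤ D ⊔ 0 := le_sup_right
  set A₁ := D ⊔ 0 with hA₁def
  have hdA₁ : 0 ≤ A₁.deg := deg_nonneg hA₁0
  obtain ⟨l, hl⟩ : ∃ l : ℕ, (l : ℤ) = γ + A₁.deg :=
    ⟨(γ + A₁.deg).toNat, Int.toNat_of_nonneg (by omega)⟩
  -- ℓ(lB - A₁) > 0
  have h5 := ell_sub_ell_le hK ((l : ℤ) • B - A₁) ((l : ℤ) • B) (sub_le_self _ hA₁0)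
  rw [deg_sub] at h5
  have h6 := hi l
  unfold idx at h6
  rw [deg_zsmul, hdegB] at h6
  have h7 : (l : ℤ) ≤ (l : ℤ) * n := by
    have : (1 : ℤ) ≤ n := by exact_mod_cast hnpos
    nlinarith [Int.natCast_nonneg l]
  have h8 : 0 < ell ((l : ℤ) • B - A₁) := by
    have : (0 : ℤ) < ell ((l : ℤ) • B - A₁) := by linarith
    exact_mod_cast this
  obtain ⟨z, hz0, hz⟩ := exists_ne_zero_mem_L hK _ h8
  -- A₁ - (z) ≤ lB
  have h9 := div_add_nonneg_of_mem_L hK _ hz0 hz
  have h10 : A₁ + FunFld.div k z⁻¹ ≤ (l : ℤ) • B := by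
    rw [div_inv hK]
    have : (l : ℤ) • B - (A₁ + -FunFld.div k z) = (l : ℤ) • B - A₁ + FunFld.div k z := by abel
    rw [← sub_nonneg, this]
    exact h9
  calc idx D ≤ idx A₁ := idx_mono hK hA₁
    _ = idx (A₁ + FunFld.div k z⁻¹) := (idx_add_div hK A₁ (inv_ne_zero hz0)).symm
    _ ≤ idx ((l : ℤ) • B) := idx_mono hK h10
    _ ≤ γ := hi l

theorem bddAbove_range_idx (hK : IsFunctionField k K) :
    BddAbove (Set.range fun D : Divisor k K => (D.deg + 1 - (ell D : ℤ)).toNat) := by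
  obtain ⟨γ, hγ⟩ := exists_idx_bound hK
  refine ⟨γ.toNat, ?_⟩
  rintro _ ⟨D, rfl⟩
  exact Int.toNat_le_toNat (hγ D)

/-- Riemann's inequality. -/
theorem idx_le_genus (hK : IsFunctionField k K) (D : Divisor k K) :
    D.deg + 1 - (ell D : ℤ) ≤ genus k K := by
  have h1 : (D.deg + 1 - (ell D : ℤ)).toNat ≤ genus k K :=
    le_csSup (bddAbove_range_idx hK) ⟨D, rfl⟩
  have h2 := Int.self_le_toNat (D.deg + 1 - (ell D : ℤ))
  have h3 : ((D.deg + 1 - (ell D : ℤ)).toNat : ℤ) ≤ genus k K := by exact_mod_cast h1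
  linarith

theorem exists_idx_eq_genus (hK : IsFunctionField k K) :
    ∃ A₀ : Divisor k K, A₀.deg + 1 - (ell A₀ : ℤ) = genus k K := by
  have hne : (Set.range fun D : Divisor k K => (D.deg + 1 - (ell D : ℤ)).toNat).Nonempty :=
    ⟨_, ⟨0, rfl⟩⟩
  obtain ⟨A, hA⟩ := Nat.sSup_mem hne (bddAbove_range_idx hK)
  have hA' : (A.deg + 1 - (ell A : ℤ)).toNat = genus k K := hA
  by_cases h : 0 ≤ A.deg + 1 - (ell A : ℤ)
  · refine ⟨A, ?_⟩
    rw [← hA', Int.toNat_of_nonneg h]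
  · refine ⟨0, ?_⟩
    have h0 : (A.deg + 1 - (ell A : ℤ)).toNat = 0 := Int.toNat_eq_zero.mpr (by omega)
    rw [← hA', h0]
    exact idx_zero hK

/-- S10982: Riemann's theorem. -/
theorem riemann (hK : IsFunctionField k K) :
    (∀ D : Divisor k K, D.deg + 1 - (ell D : ℤ) ≤ genus k K) ∧
    ∃ N : ℤ, ∀ D : Divisor k K, N ≤ D.deg → D.deg + 1 - (ell D : ℤ) = genus k K := by
  refine ⟨idx_le_genus hK, ?_⟩
  obtain ⟨A₀, hA₀⟩ := exists_idx_eq_genus hK
  refine ⟨genus k K + A₀.deg, fun D hD => ?_⟩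
  apply le_antisymm (idx_le_genus hK D)
  have h1 := idx_le_genus hK (D - A₀)
  rw [deg_sub] at h1
  have h2 : 0 < ell (D - A₀) := by
    have : (0 : ℤ) < ell (D - A₀) := by linarith
    exact_mod_cast this
  obtain ⟨z, hz0, hz⟩ := exists_ne_zero_mem_L hK _ h2
  have h3 := div_add_nonneg_of_mem_L hK _ hz0 hz
  have h4 : A₀ ≤ D + FunFld.div k z := by
    have : D + FunFld.div k z - A₀ = D - A₀ + FunFld.div k z := by abel
    rw [← sub_nonneg, this]
    exact h3
  have h5 := idx_mono hK h4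
  rw [idx_add_div hK D hz0, hA₀] at h5
  exact h5

end Groth.Agent.Lib.Helper23.FF
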