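import Mathlib
import Groth.Prelude.Def_W4bk4goldsch23FF
import Groth.Agent.Lib.Helper23.FF5
import Groth.Agent.Lib.Helper27.FunFldCore

/-!
Function fields, part 6: places of degree one, pole numbers (non-gaps) at a place,
algebraically closed constant fields.
-/

set_option autoImplicit false

namespace Groth.Agent.Lib.Helper23.FF

open FunFld Polynomial
open scoped IntermediateField

universe u v
variable {k : Type u} {K : Type v} [Field k] [Field K] [Algebra k K]

theorem deg_eq_one [IsAlgClosed k] (hK : IsFunctionField k K) (P : Place k K) : P.deg = 1 := by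
  have h1 : Module.Finite k (IsLocalRing.ResidueField P.O) := finiteDimensional_residueField hK P
  have h2 : Algebra.IsIntegral k (IsLocalRing.ResidueField P.O) :=
    @Algebra.IsIntegral.of_finite k (IsLocalRing.ResidueField P.O) _ _ _ h1
  have hsurj : Function.Surjective (algebraMap k (IsLocalRing.ResidueField P.O)) :=
    (IsAlgClosed.algebraMap_bijective_of_isIntegral (k := k)).2
  unfold Place.deg
  have h3 := Subalgebra.bot_eq_top_iff_finrank_eq_one.mp
    (Algebra.surjective_algebraMap_iff.mp hsurj).symm
  exact h3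

theorem mul_mem_L_add {D E : Divisor k K} {f g : K} (hf : f ∈ L D) (hg : g ∈ L E) :
    f * g ∈ L (D + E) := by
  intro P
  rw [map_mul, Finsupp.add_apply, WithZero.exp_add]
  exact mul_le_mul' (hf P) (hg P)

theorem one_mem_L_zero : (1 : K) ∈ L (0 : Divisor k K) := by
  intro P
  rw [map_one, Finsupp.zero_apply, WithZero.exp_zero]

theorem pow_mem_L_nsmul {D : Divisor k K} {f : K} (hf : f ∈ L D) (n : ℕ) :
    f ^ n ∈ L (n • D) := by
  induction n with
  | zero => rw [pow_zero, zero_smul]; exact one_mem_L_zero
  | succ n ih => rw [pow_succ, succ_nsmul]; exact mul_mem_L_add ih hf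

/-- `ℓ(D) ≤ ℓ(D - P) + deg P`. -/
theorem ell_le_ell_sub_single_add (hK : IsFunctionField k K) (D : Divisor k K) (P : Place k K) :
    ell D ≤ ell (D - Finsupp.single P 1) + P.deg := by
  classical
  have hle : D - Finsupp.single P 1 ≤ D := by
    rw [sub_le_self_iff]
    intro Q
    rw [Finsupp.zero_apply, Finsupp.single_apply]
    split_ifs <;> norm_num
  have h := ell_sub_ell_le hK _ _ hle
  rw [deg_sub, deg_single] at h
  have : (ell D : ℤ) ≤ ell (D - Finsupp.single P 1) + P.deg := by linarith
  exact_mod_cast this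

theorem single_sub_one_le (P : Place k K) (m : ℤ) :
    (Finsupp.single P (m - 1) : Divisor k K) ≤ Finsupp.single P m := by
  classical
  intro Q
  rw [Finsupp.single_apply, Finsupp.single_apply]
  split_ifs <;> omega

/-! ### pole numbers at a place -/

/-- `m` is a pole number (non-gap) at `P`: some `f` has a pole of exact order `m` at `P` and no
other poles. -/
def IsPoleNumber (P : Place k K) (m : ℤ) : Prop :=
  ∃ f : K, f ≠ 0 ∧ f ∈ L (Finsupp.single P m) ∧ P.ord f = -m

theorem isPoleNumber_iff (P : Place k K) (m : ℤ) :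
    IsPoleNumber P m ↔ L (Finsupp.single P m) ≠ L (Finsupp.single P (m - 1)) := by
  classical
  constructor
  · rintro ⟨f, hf0, hf, hord⟩ h
    rw [h] at hf
    have := hf P
    rw [val_eq_exp_neg_ord P hf0, hord, Finsupp.single_eq_same, WithZero.exp_le_exp] at this
    omega
  · intro hne
    have hle : L (Finsupp.single P (m - 1)) ≤ L (Finsupp.single P m) :=
      L_mono (single_sub_one_le P m)
    have hlt : L (Finsupp.single P (m - 1)) < L (Finsupp.single P m) :=
      lt_of_le_of_ne hle (Ne.symm hne)
    obtain ⟨f, hf, hnf⟩ := SetLike.exists_of_lt hlt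
    have hf0 : f ≠ 0 := by
      rintro rfl
      exact hnf (Submodule.zero_mem _)
    refine ⟨f, hf0, hf, ?_⟩
    by_contra hord
    apply hnf
    intro Q
    by_cases hQ : Q = P
    · subst hQ
      have h1 := hf Q
      rw [Finsupp.single_eq_same] at h1 ⊢
      rw [val_eq_exp_neg_ord Q hf0, WithZero.exp_le_exp] at h1 ⊢
      omega
    · have h1 := hf Q
      rw [Finsupp.single_apply, if_neg (Ne.symm hQ)] at h1 ⊢
      exact h1

theorem IsPoleNumber.add {P : Place k K} {m n : ℤ} (hm : IsPoleNumber P m)
    (hn : IsPoleNumber P n) : IsPoleNumber P (m + n) := by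
  obtain ⟨f, hf0, hf, hfo⟩ := hm
  obtain ⟨g, hg0, hg, hgo⟩ := hn
  refine ⟨f * g, mul_ne_zero hf0 hg0, ?_, ?_⟩
  · rw [Finsupp.single_add]
    exact mul_mem_L_add hf hg
  · rw [Groth.Agent.Lib.Helper27.FF.ord_mul P hf0 hg0, hfo, hgo]
    ring

theorem isPoleNumber_zero (P : Place k K) : IsPoleNumber P 0 := by
  refine ⟨1, one_ne_zero, ?_, ?_⟩
  · rw [Finsupp.single_zero]
    exact one_mem_L_zero
  · rw [Groth.Agent.Lib.Helper27.FF.ord_one, neg_zero]

/-- `ℓ(mP) = ℓ((m-1)P) + 1` at a pole number (degree one place), else equal. -/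
theorem ell_single_succ (hK : IsFunctionField k K) (P : Place k K) (hP : P.deg = 1) (m : ℤ)
    [Decidable (IsPoleNumber P m)] :
    ell (Finsupp.single P m : Divisor k K) =
      ell (Finsupp.single P (m - 1) : Divisor k K) + if IsPoleNumber P m then 1 else 0 := by
  have hle : L (Finsupp.single P (m - 1)) ≤ L (Finsupp.single P m) :=
    L_mono (single_sub_one_le P m)
  haveI := Groth.Agent.Lib.Helper27.FF.finiteDimensional_L hK (Finsupp.single P m)
  have h1 := ell_le_ell_sub_single_add hK (Finsupp.single P m) P
  rw [hP, ← Finsupp.single_sub] at h1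
  have h2 : ell (Finsupp.single P (m - 1) : Divisor k K) ≤ ell (Finsupp.single P m : Divisor k K) :=
    Submodule.finrank_mono hle
  split_ifs with h
  · rw [isPoleNumber_iff] at h
    have hlt : L (Finsupp.single P (m - 1)) < L (Finsupp.single P m) :=
      lt_of_le_of_ne hle (Ne.symm h)
    have := Submodule.finrank_lt_finrank_of_lt hlt
    unfold ell at *
    omega
  · rw [isPoleNumber_iff, not_not] at h
    unfold ell
    rw [h, add_zero]

end Groth.Agent.Lib.Helper23.FF
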