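import Mathlib
import Groth.Prelude.Def_W4bk4goldsch23FF
import Groth.Agent.Lib.Helper23.FFAC

/-!
Function fields, part 6b: values at places of degree one, zeros of nonzero elements,
places with comparable maximal ideals, automorphisms acting on places.
-/

set_option autoImplicit false

namespace Groth.Agent.Lib.Helper23.FF

open FunFld Polynomial
open scoped IntermediateField

universe u v
variable {k : Type u} {K : Type v} [Field k] [Field K] [Algebra k K]

/-- At a place of degree one every integral element is congruent to a constant. -/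
theorem exists_const_val_sub_lt_one (P : Place k K) (hP : P.deg = 1) {f : K} (hf : P.1 f ≤ 1) :
    ∃ c : k, P.1 (f - algebraMap k K c) < 1 := by
  have h1 : ∀ w : IsLocalRing.ResidueField P.O, ∃ c : k, c • (1 : IsLocalRing.ResidueField P.O) = w :=
    (finrank_eq_one_iff_of_nonzero' (1 : IsLocalRing.ResidueField P.O) one_ne_zero).mp hP
  obtain ⟨c, hc⟩ := h1 (IsLocalRing.residue P.O ⟨f, hf⟩)
  refine ⟨c, ?_⟩
  have h2 : IsLocalRing.residue P.O (algebraMap k P.O c * 1) = c • IsLocalRing.residue P.O 1 :=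
    residue_smul P c 1
  rw [map_one, hc, mul_one] at h2
  have h3 : IsLocalRing.residue P.O (⟨f, hf⟩ - algebraMap k P.O c) = 0 := by
    rw [map_sub, h2, sub_self]
  rw [residue_eq_zero_iff] at h3
  exact h3

/-- The constant in `exists_const_val_sub_lt_one` is unique. -/
theorem const_unique (P : Place k K) {f : K} {c c' : k} (h : P.1 (f - algebraMap k K c) < 1)
    (h' : P.1 (f - algebraMap k K c') < 1) : c = c' := by
  by_contra hne
  have h1 : P.1 (algebraMap k K (c' - c)) < 1 := by
    have : algebraMap k K (c' - c) = (f - algebraMap k K c) - (f - algebraMap k K c') := by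
      rw [map_sub]; ring
    rw [this]
    exact lt_of_le_of_lt (Valuation.map_sub _ _ _) (max_lt h h')
  rw [val_const P (sub_ne_zero.mpr (Ne.symm hne))] at h1
  exact lt_irrefl _ h1

/-- A nonzero element has finitely many zeros. -/
theorem finite_zeros_of_ne_zero (hK : IsFunctionField k K) {x : K} (hx : x ≠ 0) :
    {P : Place k K | P.1 x < 1}.Finite := by
  by_cases hx' : IsAlgebraic k x
  · obtain ⟨c, rfl⟩ := hK.2 x hx'
    have hc : c ≠ 0 := by
      rintro rfl
      exact hx (map_zero _)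
    convert Set.finite_empty
    ext P
    simp only [Set.mem_setOf_eq, Set.mem_empty_iff_false, iff_false, not_lt]
    rw [val_const P hc]
  · exact finite_zeros hK hx'

/-- A nonconstant element is transcendental. -/
theorem transcendental_of_not_mem_range (hK : IsFunctionField k K) {x : K}
    (hx : x ∉ Set.range (algebraMap k K)) : Transcendental k x :=
  fun h => hx (hK.2 x h)

/-- Places with `m_P ⊆ m_Q` coincide. -/
theorem place_eq_of_lt_one_imp (P Q : Place k K) (h : ∀ x : K, P.1 x < 1 → Q.1 x < 1) : P = Q := by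
  apply place_eq_of_lt_one_iff
  intro x
  refine ⟨h x, fun hQ => ?_⟩
  by_contra hP
  rw [not_lt] at hP
  have hx0 : x ≠ 0 := by
    rintro rfl
    rw [map_zero] at hP
    exact absurd hP (not_le.mpr zero_lt_one)
  rcases lt_or_eq_of_le hP with hP1 | hP1
  · -- P x > 1
    have : P.1 x⁻¹ < 1 := by
      rw [map_inv₀]
      exact inv_lt_one_of_one_lt₀ hP1
    have h2 := h _ this
    rw [map_inv₀] at h2
    have h3 : 1 < Q.1 x := by
      by_contra hle
      rw [not_lt] at hle
      have hQ0 : Q.1 x ≠ 0 := (Q.1.ne_zero_iff).mpr hx0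
      have : 1 ≤ (Q.1 x)⁻¹ := (one_le_inv₀ (zero_lt_iff.mpr hQ0)).mpr hle
      exact absurd h2 (not_lt.mpr this)
    exact absurd hQ (not_lt.mpr h3.le)
  · -- P x = 1
    obtain ⟨t, ht, ht0, htlt⟩ := exists_uniformizer P
    have hQt : Q.1 t < 1 := h t htlt
    have hj : 0 < Q.ord t := ord_pos_of_val_lt_one Q ht0 hQt
    obtain ⟨n, hn⟩ : ∃ n : ℕ, (n : ℤ) = Q.ord t := ⟨(Q.ord t).toNat, Int.toNat_of_nonneg hj.le⟩
    have h1 : P.1 (t * (x ^ n)⁻¹) < 1 := by
      rw [map_mul, map_inv₀, map_pow, ← hP1, one_pow, inv_one, mul_one]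
      exact htlt
    have h2 := h _ h1
    rw [map_mul, map_inv₀, map_pow] at h2
    have hxQ : Q.1 x ≤ WithZero.exp (-1 : ℤ) := le_exp_neg_one_of_lt_one hQ
    have h3 : Q.1 x ^ n ≤ WithZero.exp (-(n : ℤ)) := by
      calc Q.1 x ^ n ≤ WithZero.exp (-1 : ℤ) ^ n := pow_le_pow_left' hxQ n
        _ = WithZero.exp (-(n : ℤ)) := by
            rw [← WithZero.exp_nsmul]; congr 1; simp
    have h4 : Q.1 t = WithZero.exp (-(n : ℤ)) := by
      rw [val_eq_exp_neg_ord Q ht0, hn]
    have hpos : Q.1 x ^ n ≠ 0 := pow_ne_zero _ ((Q.1.ne_zero_iff).mpr hx0)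
    have h5 : Q.1 t < Q.1 x ^ n := by
      have := mul_lt_mul_of_pos_right h2 (zero_lt_iff.mpr hpos)
      rwa [mul_assoc, inv_mul_cancel₀ hpos, mul_one, one_mul] at this
    rw [h4] at h5
    exact absurd h5 (not_lt.mpr h3)

/-! ### automorphisms acting on places -/

/-- The place `z ↦ P(σ z)`. -/
def Place.comapEquiv (σ : K ≃ₐ[k] K) (P : Place k K) : Place k K :=
  ⟨P.1.comap (σ : K →+* K), by
    refine ⟨fun c => ?_, fun γ => ?_⟩
    · show P.1 (σ (algebraMap k K c)) ≤ 1
      rw [σ.commutes]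
      exact P.2.1 c
    · obtain ⟨z, hz⟩ := P.2.2 γ
      refine ⟨σ.symm z, ?_⟩
      show P.1 (σ (σ.symm z)) = γ
      rw [σ.apply_symm_apply]
      exact hz⟩

theorem Place.comapEquiv_apply (σ : K ≃ₐ[k] K) (P : Place k K) (z : K) :
    (Place.comapEquiv σ P).1 z = P.1 (σ z) := rfl

theorem Place.comapEquiv_symm_comapEquiv (σ : K ≃ₐ[k] K) (P : Place k K) :
    Place.comapEquiv σ.symm (Place.comapEquiv σ P) = P := by
  apply Subtype.ext
  ext z
  rw [Place.comapEquiv_apply, Place.comapEquiv_apply, σ.apply_symm_apply]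

theorem Place.comapEquiv_comapEquiv_symm (σ : K ≃ₐ[k] K) (P : Place k K) :
    Place.comapEquiv σ (Place.comapEquiv σ.symm P) = P := by
  apply Subtype.ext
  ext z
  rw [Place.comapEquiv_apply, Place.comapEquiv_apply, σ.symm_apply_apply]

/-- A place is fixed (in the weak sense `σ(m_P) ⊆ m_P`) iff `P ∘ σ = P`. -/
theorem comapEquiv_eq_of_fixed (σ : K ≃ₐ[k] K) (P : Place k K)
    (h : ∀ x : K, P.1 x < 1 → P.1 (σ x) < 1) : Place.comapEquiv σ P = P :=
  (place_eq_of_lt_one_imp P (Place.comapEquiv σ P) h).symm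

end Groth.Agent.Lib.Helper23.FF
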