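import Mathlib
import Groth.Prelude.Def_W4bk4goldsch45
import Groth.Agent.Lib.Helper23.FFAC2

/-!
Local rings of projective maps, part 1: the localization `locAlg R P` of a subalgebra `R ⊆ K`
at the elements that are units at the place `P`, and its relation to `FunFld.InLocRing`.
-/

set_option autoImplicit false

namespace Groth.Agent.Lib.Helper23.FF

open FunFld
open scoped IntermediateField

universe u v
variable {k : Type u} {K : Type v} [Field k] [Field K] [Algebra k K]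

/-- The subalgebra of quotients `u / w` with `u, w ∈ R` and `w` a unit at `P`. -/
def locAlg (R : Subalgebra k K) (P : Place k K) : Subalgebra k K where
  carrier := {z | ∃ u ∈ R, ∃ w ∈ R, P.1 w = 1 ∧ z * w = u}
  mul_mem' := by
    rintro a b ⟨u, hu, w, hw, hPw, h⟩ ⟨u', hu', w', hw', hPw', h'⟩
    refine ⟨u * u', R.mul_mem hu hu', w * w', R.mul_mem hw hw', ?_, ?_⟩
    · rw [map_mul, hPw, hPw', one_mul]
    · rw [← h, ← h']; ring
  add_mem' := by
    rintro a b ⟨u, hu, w, hw, hPw, h⟩ ⟨u', hu', w', hw', hPw', h'⟩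
    refine ⟨u * w' + u' * w, R.add_mem (R.mul_mem hu hw') (R.mul_mem hu' hw), w * w',
      R.mul_mem hw hw', ?_, ?_⟩
    · rw [map_mul, hPw, hPw', one_mul]
    · rw [← h, ← h']; ring
  algebraMap_mem' c := ⟨algebraMap k K c, R.algebraMap_mem c, 1, R.one_mem, map_one _, mul_one _⟩

theorem mem_locAlg {R : Subalgebra k K} {P : Place k K} {z : K} :
    z ∈ locAlg R P ↔ ∃ u ∈ R, ∃ w ∈ R, P.1 w = 1 ∧ z * w = u := Iff.rfl

theorem le_locAlg (R : Subalgebra k K) (P : Place k K) : R ≤ locAlg R P :=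
  fun r hr => ⟨r, hr, 1, R.one_mem, map_one _, mul_one _⟩

theorem val_le_one_of_mem_locAlg {R : Subalgebra k K} {P : Place k K}
    (hR : ∀ r ∈ R, P.1 r ≤ 1) {z : K} (hz : z ∈ locAlg R P) : P.1 z ≤ 1 := by
  obtain ⟨u, hu, w, hw, hPw, h⟩ := hz
  have h1 : P.1 z * P.1 w = P.1 u := by rw [← map_mul, h]
  rw [hPw, mul_one] at h1
  rw [h1]
  exact hR u hu

theorem div_mem_locAlg {R : Subalgebra k K} {P : Place k K} {u w : K} (hu : u ∈ R) (hw : w ∈ R)
    (hPw : P.1 w = 1) : u / w ∈ locAlg R P := by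
  have hw0 : w ≠ 0 := by
    rintro rfl
    rw [map_zero] at hPw
    exact zero_ne_one hPw
  exact ⟨u, hu, w, hw, hPw, div_mul_cancel₀ u hw0⟩

theorem inv_mem_locAlg {R : Subalgebra k K} {P : Place k K} {z : K} (hz : z ∈ locAlg R P)
    (hPz : P.1 z = 1) : z⁻¹ ∈ locAlg R P := by
  obtain ⟨u, hu, w, hw, hPw, h⟩ := hz
  have hz0 : z ≠ 0 := by
    rintro rfl
    rw [map_zero] at hPz
    exact zero_ne_one hPz
  refine ⟨w, hw, u, hu, ?_, ?_⟩
  · rw [← h, map_mul, hPz, hPw, one_mul]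
  · rw [← h, ← mul_assoc, inv_mul_cancel₀ hz0, one_mul]

theorem div_mem_locAlg' {R : Subalgebra k K} {P : Place k K} {u w : K} (hu : u ∈ locAlg R P)
    (hw : w ∈ locAlg R P) (hPw : P.1 w = 1) : u / w ∈ locAlg R P := by
  rw [div_eq_mul_inv]
  exact (locAlg R P).mul_mem hu (inv_mem_locAlg hw hPw)

theorem locAlg_mono {R R' : Subalgebra k K} (h : R ≤ R') (P : Place k K) :
    locAlg R P ≤ locAlg R' P := by
  rintro z ⟨u, hu, w, hw, hPw, hz⟩
  exact ⟨u, h hu, w, h hw, hPw, hz⟩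

theorem locAlg_locAlg (R : Subalgebra k K) (P : Place k K) :
    locAlg (locAlg R P) P = locAlg R P := by
  apply le_antisymm
  · rintro z ⟨u, hu, w, hw, hPw, hz⟩
    have hw0 : w ≠ 0 := by
      rintro rfl
      rw [map_zero] at hPw
      exact zero_ne_one hPw
    have : z = u / w := by rw [← hz, mul_div_cancel_right₀ z hw0]
    rw [this]
    exact div_mem_locAlg' hu hw hPw
  · exact le_locAlg _ P

/-- The subalgebra generated by the ratios `φ i / φ j`. -/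
def ratioAlg {ι : Type*} (φ : ι → K) (j : ι) : Subalgebra k K :=
  Algebra.adjoin k (Set.range fun i => φ i / φ j)

theorem ratio_mem_ratioAlg {ι : Type*} (φ : ι → K) (j i : ι) :
    φ i / φ j ∈ ratioAlg (k := k) φ j :=
  Algebra.subset_adjoin ⟨i, rfl⟩

theorem inLocRing_iff {ι : Type*} (φ : ι → K) (P : Place k K) (z : K) :
    InLocRing φ P z ↔ ∃ j, φ j ≠ 0 ∧ (∀ i, P.1 (φ i) ≤ P.1 (φ j)) ∧
      z ∈ locAlg (ratioAlg (k := k) φ j) P := Iff.rfl

theorem val_le_one_of_mem_ratioAlg {ι : Type*} (φ : ι → K) (P : Place k K) {j : ι}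
    (hj0 : φ j ≠ 0) (hj : ∀ i, P.1 (φ i) ≤ P.1 (φ j)) {r : K}
    (hr : r ∈ ratioAlg (k := k) φ j) : P.1 r ≤ 1 := by
  have hv : P.1 (φ j) ≠ 0 := (P.1.ne_zero_iff).mpr hj0
  refine Algebra.adjoin_induction (p := fun r _ => P.1 r ≤ 1) ?_ ?_ ?_ ?_ hr
  · rintro _ ⟨i, rfl⟩
    show P.1 (φ i / φ j) ≤ 1
    rw [map_div₀]
    exact div_le_one_of_le₀ (hj i) zero_le'
  · intro c
    exact P.2.1 c
  · intro a b _ _ ha hb
    exact (P.1.map_add a b).trans (max_le ha hb)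
  · intro a b _ _ ha hb
    rw [map_mul]
    exact mul_le_one' ha hb

theorem ratioAlg_le_locAlg {ι : Type*} (φ : ι → K) (P : Place k K) {j j' : ι}
    (hj0 : φ j ≠ 0) (hj : ∀ i, P.1 (φ i) ≤ P.1 (φ j))
    (hj0' : φ j' ≠ 0) (hj' : ∀ i, P.1 (φ i) ≤ P.1 (φ j')) :
    ratioAlg (k := k) φ j' ≤ locAlg (ratioAlg (k := k) φ j) P := by
  apply Algebra.adjoin_le
  rintro _ ⟨i, rfl⟩
  show φ i / φ j' ∈ locAlg (ratioAlg (k := k) φ j) P
  have h1 : φ i / φ j' = (φ i / φ j) / (φ j' / φ j) := by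
    field_simp
  rw [h1]
  apply div_mem_locAlg (ratio_mem_ratioAlg φ j i) (ratio_mem_ratioAlg φ j j')
  rw [map_div₀]
  have hv : P.1 (φ j) ≠ 0 := (P.1.ne_zero_iff).mpr hj0
  rw [le_antisymm (hj j') (hj' j)]
  exact div_self hv

theorem locAlg_ratioAlg_eq {ι : Type*} (φ : ι → K) (P : Place k K) {j j' : ι}
    (hj0 : φ j ≠ 0) (hj : ∀ i, P.1 (φ i) ≤ P.1 (φ j))
    (hj0' : φ j' ≠ 0) (hj' : ∀ i, P.1 (φ i) ≤ P.1 (φ j')) :
    locAlg (ratioAlg (k := k) φ j') P = locAlg (ratioAlg (k := k) φ j) P := by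
  apply le_antisymm
  · calc locAlg (ratioAlg (k := k) φ j') P ≤ locAlg (locAlg (ratioAlg (k := k) φ j) P) P :=
        locAlg_mono (ratioAlg_le_locAlg φ P hj0 hj hj0' hj') P
      _ = _ := locAlg_locAlg _ P
  · calc locAlg (ratioAlg (k := k) φ j) P ≤ locAlg (locAlg (ratioAlg (k := k) φ j') P) P :=
        locAlg_mono (ratioAlg_le_locAlg φ P hj0' hj' hj0 hj) P
      _ = _ := locAlg_locAlg _ P

/-- With a fixed admissible index `j`, membership in the local ring is membership in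
`locAlg (ratioAlg φ j) P`. -/
theorem inLocRing_iff_of_index {ι : Type*} (φ : ι → K) (P : Place k K) {j : ι}
    (hj0 : φ j ≠ 0) (hj : ∀ i, P.1 (φ i) ≤ P.1 (φ j)) (z : K) :
    InLocRing φ P z ↔ z ∈ locAlg (ratioAlg (k := k) φ j) P := by
  constructor
  · rintro ⟨j', hj0', hj', hz⟩
    rw [← locAlg_ratioAlg_eq φ P hj0 hj hj0' hj']
    exact hz
  · intro hz
    exact ⟨j, hj0, hj, hz⟩

/-- An admissible index exists for a finite family without zero entries. -/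
theorem exists_index {ι : Type*} [Finite ι] [Nonempty ι] (φ : ι → K) (P : Place k K)
    (h0 : ∀ i, φ i ≠ 0) : ∃ j, φ j ≠ 0 ∧ ∀ i, P.1 (φ i) ≤ P.1 (φ j) := by
  obtain ⟨j, hj⟩ := Finite.exists_max (fun i => P.1 (φ i))
  exact ⟨j, h0 j, hj⟩

end Groth.Agent.Lib.Helper23.FF
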