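import Mathlib
import Groth.Prelude.Def_W4bk4goldsch45
import Groth.Agent.Lib.Helper23.FFNS1
import Groth.Agent.Lib.Helper23.FF4c

/-!
Local rings of projective maps, part 2: generic elements of finite-dimensional spaces,
pole divisors, and the finiteness of `{z | z integral outside the poles of x}` over a
subalgebra `R ∋ x` with `k(x)·R = K`.
-/

set_option autoImplicit false

namespace Groth.Agent.Lib.Helper23.FF

open FunFld
open scoped IntermediateField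

universe u v
variable {k : Type u} {K : Type v} [Field k] [Field K] [Algebra k K]

/-- The open ball `{v | Q v < m}` as a `k`-subspace. -/
def ballSub (Q : Place k K) (m : WithZero (Multiplicative ℤ)) (hm : m ≠ 0) : Submodule k K where
  carrier := {v | Q.1 v < m}
  add_mem' {a b} ha hb := lt_of_le_of_lt (Q.1.map_add a b) (max_lt ha hb)
  zero_mem' := by
    show Q.1 0 < m
    rw [map_zero]
    exact zero_lt_iff.mpr hm
  smul_mem' c a ha := by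
    show Q.1 (c • a) < m
    rw [Algebra.smul_def, map_mul]
    exact lt_of_le_of_lt ((mul_le_mul' (Q.2.1 c) le_rfl).trans_eq (one_mul _)) ha

theorem mem_ballSub {Q : Place k K} {m : WithZero (Multiplicative ℤ)} {hm : m ≠ 0} {v : K} :
    v ∈ ballSub Q m hm ↔ Q.1 v < m := Iff.rfl

/-- A generic linear combination attains prescribed lower bounds at finitely many places. -/
theorem exists_generic [Infinite k] {ι : Type*} [Fintype ι] (g : ι → K) (S : Finset (Place k K))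
    (m : Place k K → WithZero (Multiplicative ℤ)) (hm : ∀ Q ∈ S, m Q ≠ 0)
    (hS : ∀ Q ∈ S, ∃ i, m Q ≤ Q.1 (g i)) :
    ∃ c : ι → k, ∀ Q ∈ S, m Q ≤ Q.1 (∑ i, c i • g i) := by
  classical
  let p : S → Submodule k (ι → k) := fun Q =>
    Submodule.comap (Fintype.linearCombination k g) (ballSub Q.1 (m Q.1) (hm Q.1 Q.2))
  have hp : ∀ Q, p Q ≠ ⊤ := by
    intro Q h
    obtain ⟨i, hi⟩ := hS Q.1 Q.2
    have h1 : (Pi.single i 1 : ι → k) ∈ p Q := by rw [h]; trivial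
    have h2 : Q.1.1 (Fintype.linearCombination k g (Pi.single i 1)) < m Q.1 := h1
    rw [Fintype.linearCombination_apply_single, one_smul] at h2
    exact absurd h2 (not_lt.mpr hi)
  obtain ⟨c, hc⟩ := Submodule.exists_forall_notMem_of_forall_ne_top p hp
  refine ⟨c, fun Q hQ => ?_⟩
  have h1 := hc ⟨Q, hQ⟩
  have h2 : ¬ Q.1 (Fintype.linearCombination k g c) < m Q := h1
  rw [Fintype.linearCombination_apply] at h2
  exact not_lt.mp h2

/-! ### the pole divisor of `x` -/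

theorem val_inv_lt_one_iff (Q : Place k K) {x : K} (hx0 : x ≠ 0) : Q.1 x⁻¹ < 1 ↔ 1 < Q.1 x := by
  rw [map_inv₀]
  exact inv_lt_one₀ (zero_lt_iff.mpr ((Q.1.ne_zero_iff).mpr hx0))

theorem poleDiv_nonneg {x : K} (hx0 : x ≠ 0) (Z : Finset (Place k K))
    (hZ : ∀ Q, Q ∈ Z ↔ Q.1 x⁻¹ < 1) : 0 ≤ zdiv x⁻¹ Z := by
  classical
  intro Q
  rw [zdiv_apply]
  split_ifs with hQ
  · exact (ord_pos_of_val_lt_one Q (inv_ne_zero hx0) ((hZ Q).mp hQ)).le
  · exact le_rfl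

theorem one_le_poleDiv {x : K} (hx0 : x ≠ 0) (Z : Finset (Place k K))
    (hZ : ∀ Q, Q ∈ Z ↔ Q.1 x⁻¹ < 1) {Q : Place k K} (hQ : Q ∈ Z) : 1 ≤ zdiv x⁻¹ Z Q := by
  classical
  rw [zdiv_apply, if_pos hQ]
  exact ord_pos_of_val_lt_one Q (inv_ne_zero hx0) ((hZ Q).mp hQ)

theorem poleDiv_eq_zero {x : K} (hx0 : x ≠ 0) (Z : Finset (Place k K))
    (hZ : ∀ Q, Q ∈ Z ↔ Q.1 x⁻¹ < 1) {Q : Place k K} (hQ : Q.1 x ≤ 1) : zdiv x⁻¹ Z Q = 0 := by
  classical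
  rw [zdiv_apply, if_neg]
  intro h
  exact absurd ((val_inv_lt_one_iff Q hx0).mp ((hZ Q).mp h)) (not_lt.mpr hQ)

theorem mem_L_poleDiv {x : K} (hx0 : x ≠ 0) (Z : Finset (Place k K))
    (hZ : ∀ Q, Q ∈ Z ↔ Q.1 x⁻¹ < 1) : x ∈ L (zdiv x⁻¹ Z) := by
  classical
  intro Q
  by_cases hQ : Q ∈ Z
  · rw [zdiv_apply, if_pos hQ, Groth.Agent.Lib.Helper27.FF.ord_inv, ← val_eq_exp_neg_ord Q hx0]
  · rw [zdiv_apply, if_neg hQ, WithZero.exp_zero]
    by_contra h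
    exact hQ ((hZ Q).mpr ((val_inv_lt_one_iff Q hx0).mpr (not_le.mp h)))

theorem deg_poleDiv (hK : IsFunctionField k K) {x : K} (hx : Transcendental k x)
    (Z : Finset (Place k K)) (hZ : ∀ Q, Q ∈ Z ↔ Q.1 x⁻¹ < 1) :
    (zdiv x⁻¹ Z).deg = (Module.finrank k⟮x⟯ K : ℤ) := by
  rw [deg_zdiv, sum_ord_mul_deg_eq hK (transcendental_inv hx) Z hZ, finrank_adjoin_inv]

theorem exists_mem_L_nsmul_poleDiv {x : K} (hx0 : x ≠ 0) (Z : Finset (Place k K))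
    (hZ : ∀ Q, Q ∈ Z ↔ Q.1 x⁻¹ < 1) {z : K} (hz : ∀ Q : Place k K, Q.1 x ≤ 1 → Q.1 z ≤ 1) :
    ∃ m : ℕ, z ∈ L (m • zdiv x⁻¹ Z) := by
  classical
  choose mQ hmQ using fun Q : Place k K => exists_nat_le_exp (Q.1 z)
  refine ⟨∑ Q ∈ Z, mQ Q, fun Q => ?_⟩
  rw [Finsupp.smul_apply, nsmul_eq_mul]
  by_cases hQ : Q ∈ Z
  · refine (hmQ Q).trans (WithZero.exp_le_exp.mpr ?_)
    have h1 : mQ Q ≤ ∑ Q ∈ Z, mQ Q := Finset.single_le_sum (fun _ _ => Nat.zero_le _) hQ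
    have h2 := one_le_poleDiv hx0 Z hZ hQ
    have h3 : ((mQ Q : ℕ) : ℤ) ≤ ((∑ Q ∈ Z, mQ Q : ℕ) : ℤ) := by exact_mod_cast h1
    have h4 : (0 : ℤ) ≤ ((∑ Q ∈ Z, mQ Q : ℕ) : ℤ) := Int.natCast_nonneg _
    nlinarith
  · have h1 : Q.1 x ≤ 1 := by
      by_contra h
      exact hQ ((hZ Q).mpr ((val_inv_lt_one_iff Q hx0).mpr (not_le.mp h)))
    rw [poleDiv_eq_zero hx0 Z hZ h1, mul_zero, WithZero.exp_zero]
    exact hz Q h1

theorem val_le_one_of_mem_L_nsmul_poleDiv {x : K} (hx0 : x ≠ 0) (Z : Finset (Place k K))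
    (hZ : ∀ Q, Q ∈ Z ↔ Q.1 x⁻¹ < 1) {z : K} {m : ℕ} (hz : z ∈ L (m • zdiv x⁻¹ Z))
    {Q : Place k K} (hQ : Q.1 x ≤ 1) : Q.1 z ≤ 1 := by
  have h := hz Q
  rw [Finsupp.smul_apply, poleDiv_eq_zero hx0 Z hZ hQ, smul_zero, WithZero.exp_zero] at h
  exact h

theorem ell_nsmul_poleDiv_le (hK : IsFunctionField k K) {x : K} (hx : Transcendental k x)
    (Z : Finset (Place k K)) (hZ : ∀ Q, Q ∈ Z ↔ Q.1 x⁻¹ < 1) (m : ℕ) :
    ell (m • zdiv x⁻¹ Z) ≤ m * Module.finrank k⟮x⟯ K + 1 := by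
  have hx0 : x ≠ 0 := by
    rintro rfl
    exact hx isAlgebraic_zero
  have h := ell_sub_ell_le hK 0 (m • zdiv x⁻¹ Z) (nsmul_nonneg (poleDiv_nonneg hx0 Z hZ) m)
  rw [ell_zero hK, deg_zero, ← natCast_zsmul, deg_zsmul, deg_poleDiv hK hx Z hZ] at h
  have : ((ell (m • zdiv x⁻¹ Z) : ℕ) : ℤ) ≤ ((m * Module.finrank k⟮x⟯ K + 1 : ℕ) : ℤ) := by
    rw [← natCast_zsmul]
    push_cast
    push_cast at h
    linarith
  exact_mod_cast this

end Groth.Agent.Lib.Helper23.FF
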