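import Mathlib
import Groth.Prelude.Def_W4bk4goldsch45
import Groth.Agent.Lib.Helper23.FFNS2

/-!
Local rings of projective maps, part 3: finiteness of the ring of elements integral outside the
poles of `x` over a subalgebra `R ∋ x` with `k(x)·R = K`.
-/

set_option autoImplicit false

namespace Groth.Agent.Lib.Helper23.FF

open FunFld
open scoped IntermediateField

universe u v
variable {k : Type u} {K : Type v} [Field k] [Field K] [Algebra k K]

/-- A bounded sequence of natural numbers attains its maximum. -/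
theorem exists_forall_le_of_bounded (f : ℕ → ℕ) (N : ℕ) (hf : ∀ m, f m ≤ N) :
    ∃ m0, ∀ m, f m ≤ f m0 := by
  have hne : (Set.range f).Nonempty := ⟨f 0, 0, rfl⟩
  have hbdd : BddAbove (Set.range f) := ⟨N, by rintro _ ⟨m, rfl⟩; exact hf m⟩
  obtain ⟨m0, hm0⟩ := Nat.sSup_mem hne hbdd
  exact ⟨m0, fun m => hm0 ▸ le_csSup hbdd ⟨m, rfl⟩⟩

/-- A `k(x)`-basis of `K` inside a set spanning `K` over `k(x)`. -/
theorem exists_basis_in (F : Type*) [Field F] [Algebra F K] [FiniteDimensional F K]
    (R : Set K) (hspan : Submodule.span F R = ⊤) :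
    ∃ y : Fin (Module.finrank F K) → K, (∀ i, y i ∈ R) ∧ LinearIndependent F y := by
  classical
  obtain ⟨b, hbR, hbspan, hbli⟩ := exists_linearIndependent F R
  rw [hspan] at hbspan
  haveI : Fintype b := hbli.setFinite.fintype
  let B : Module.Basis b F K := Module.Basis.mk hbli (by rw [Subtype.range_coe]; exact hbspan.ge)
  have hcard : Module.finrank F K = Fintype.card b := Module.finrank_eq_card_basis B
  let e : Fin (Module.finrank F K) ≃ b := (Fintype.equivFinOfCardEq hcard.symm).symm
  refine ⟨fun i => (e i : K), fun i => hbR (e i).2, ?_⟩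
  exact hbli.comp e e.injective

/-- Finiteness: if `x ∈ R` is transcendental, every element of `R` is integral outside the poles of
`x`, and `R` spans `K` over `k(x)`, then the ring of all elements integral outside the poles of `x`
is `R + V` for a finite-dimensional `V`. -/
theorem exists_fd_sup (hK : IsFunctionField k K) {x : K} (hx : Transcendental k x)
    (R : Subalgebra k K) (hxR : x ∈ R)
    (hR : ∀ r ∈ R, ∀ Q : Place k K, Q.1 x ≤ 1 → Q.1 r ≤ 1)
    (hspan : Submodule.span k⟮x⟯ (R : Set K) = ⊤) :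
    ∃ V : Submodule k K, FiniteDimensional k V ∧
      (∀ v ∈ V, ∀ Q : Place k K, Q.1 x ≤ 1 → Q.1 v ≤ 1) ∧
      ∀ z : K, (∀ Q : Place k K, Q.1 x ≤ 1 → Q.1 z ≤ 1) →
        z ∈ Subalgebra.toSubmodule R ⊔ V := by
  classical
  have hx0 : x ≠ 0 := by
    rintro rfl
    exact hx isAlgebraic_zero
  have hfin : {Q : Place k K | Q.1 x⁻¹ < 1}.Finite := finite_zeros hK (transcendental_inv hx)
  set Z := hfin.toFinset with hZdef
  have hZ : ∀ Q, Q ∈ Z ↔ Q.1 x⁻¹ < 1 := fun Q => by
    rw [hZdef, Set.Finite.mem_toFinset]; rfl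
  set B := zdiv x⁻¹ Z with hBdef
  have hB0 : 0 ≤ B := poleDiv_nonneg hx0 Z hZ
  haveI := finiteDimensional_adjoin hK hx
  set n := Module.finrank k⟮x⟯ K with hn
  obtain ⟨y, hyR, hyli⟩ := exists_basis_in k⟮x⟯ (R : Set K) hspan
  have hyc : ∀ i, ∃ c : ℕ, y i ∈ L (c • B) := fun i =>
    exists_mem_L_nsmul_poleDiv hx0 Z hZ (fun Q hQ => hR (y i) (hyR i) Q hQ)
  choose cy hcy using hyc
  set c := ∑ i, cy i with hc
  have hLmono : ∀ {m m' : ℕ}, m ≤ m' → L (m • B) ≤ L (m' • B) := fun h =>
    L_mono (nsmul_le_nsmul_left hB0 h)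
  have hyc' : ∀ i, y i ∈ L (c • B) := fun i =>
    hLmono (Finset.single_le_sum (fun _ _ => Nat.zero_le _) (Finset.mem_univ i)) (hcy i)
  let π := (Subalgebra.toSubmodule R).mkQ
  let W : ℕ → Submodule k (K ⧸ Subalgebra.toSubmodule R) := fun m => (L (m • B)).map π
  have hWmono : ∀ {m m' : ℕ}, m ≤ m' → W m ≤ W m' := fun h => Submodule.map_mono (hLmono h)
  have hLfin : ∀ m : ℕ, FiniteDimensional k (L (m • B)) := fun m =>
    Groth.Agent.Lib.Helper27.FF.finiteDimensional_L hK _
  have hWfin : ∀ m, FiniteDimensional k (W m) := fun m => by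
    haveI := hLfin m
    exact Module.Finite.map _ _
  have hWbound : ∀ m, Module.finrank k (W m) ≤ n * c + 1 := by
    intro m
    haveI := hLfin m
    let f : L (m • B) →ₗ[k] (K ⧸ Subalgebra.toSubmodule R) := π.domRestrict (L (m • B))
    have hrange : LinearMap.range f = W m := LinearMap.range_domRestrict _ _
    have hrn := LinearMap.finrank_range_add_finrank_ker f
    rw [hrange] at hrn
    have hell : Module.finrank k (L (m • B)) ≤ m * n + 1 := ell_nsmul_poleDiv_le hK hx Z hZ m
    by_cases hmc : m < c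
    · have h1 : Module.finrank k (W m) ≤ m * n + 1 := by omega
      have h2 : m * n ≤ n * c := by
        rw [mul_comm]
        exact Nat.mul_le_mul_left n hmc.le
      omega
    · rw [not_lt] at hmc
      obtain ⟨l, hl⟩ : ∃ l, m = l + c := ⟨m - c, by omega⟩
      have hker : n * (l + 1) ≤ Module.finrank k (LinearMap.ker f) := by
        have hli := li_pow_mul hx y hyli l
        have hmemL : ∀ p : Fin n × Fin (l + 1), x ^ (p.2 : ℕ) * y p.1 ∈ L (m • B) := by
          intro p
          have h1 := mul_mem_L_add (pow_mem_L_nsmul (mem_L_poleDiv hx0 Z hZ) (p.2 : ℕ)) (hyc' p.1)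
          rw [← add_nsmul] at h1
          exact hLmono (by have := p.2.2; omega) h1
        have hmemR : ∀ p : Fin n × Fin (l + 1), x ^ (p.2 : ℕ) * y p.1 ∈ R := fun p =>
          R.mul_mem (R.pow_mem hxR _) (hyR p.1)
        have hmemker : ∀ p, (⟨x ^ (p.2 : ℕ) * y p.1, hmemL p⟩ : L (m • B)) ∈ LinearMap.ker f := by
          intro p
          rw [LinearMap.mem_ker]
          show π (x ^ (p.2 : ℕ) * y p.1) = 0
          rw [Submodule.mkQ_apply, Submodule.Quotient.mk_eq_zero]
          exact hmemR p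
        have hli3 : LinearIndependent k (fun p : Fin n × Fin (l + 1) =>
            (⟨⟨x ^ (p.2 : ℕ) * y p.1, hmemL p⟩, hmemker p⟩ : LinearMap.ker f)) := by
          apply LinearIndependent.of_comp ((L (m • B)).subtype ∘ₗ (LinearMap.ker f).subtype)
          exact hli
        have h := hli3.fintype_card_le_finrank
        rw [Fintype.card_prod, Fintype.card_fin, Fintype.card_fin] at h
        exact h
      have e1 : m * n = n * l + n * c := by rw [hl]; ring
      have e2 : n * (l + 1) = n * l + n := by ring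
      omega
  obtain ⟨m0, hm0⟩ := exists_forall_le_of_bounded (fun m => Module.finrank k (W m)) (n * c + 1)
    hWbound
  have hstab : ∀ m, m0 ≤ m → W m = W m0 := fun m hm => by
    haveI := hWfin m
    exact (Submodule.eq_of_le_of_finrank_le (hWmono hm) (hm0 m)).symm
  refine ⟨L (m0 • B), hLfin m0,
    fun v hv Q hQ => val_le_one_of_mem_L_nsmul_poleDiv hx0 Z hZ hv hQ, fun z hz => ?_⟩
  obtain ⟨m, hm⟩ := exists_mem_L_nsmul_poleDiv hx0 Z hZ hz
  have hz' : z ∈ L (max m m0 • B) := hLmono (le_max_left _ _) hm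
  have h1 : π z ∈ W (max m m0) := Submodule.mem_map_of_mem hz'
  rw [hstab _ (le_max_right _ _)] at h1
  obtain ⟨v, hv, hvz⟩ := h1
  have h2 : z - v ∈ Subalgebra.toSubmodule R := by
    rw [← Submodule.Quotient.mk_eq_zero, Submodule.Quotient.mk_sub]
    have : π v = π z := hvz
    rw [Submodule.mkQ_apply, Submodule.mkQ_apply] at this
    rw [this, sub_self]
  have h3 : z = (z - v) + v := by ring
  rw [h3]
  exact Submodule.add_mem_sup h2 hv

end Groth.Agent.Lib.Helper23.FF
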