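import Mathlib
import Groth.Prelude.Def_W4bk4goldsch45
import Groth.Agent.Lib.Helper23.FFNS3

/-!
Local rings of projective maps, part 4: the criterion. If the localization `A` of a finitely
generated subalgebra `R` with fraction field `K` at a place `P` lies in no other valuation ring
and contains a local parameter at `P`, then `A` is the whole valuation ring of `P`.
-/

set_option autoImplicit false

namespace Groth.Agent.Lib.Helper23.FF

open FunFld
open scoped IntermediateField

universe u v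
variable {k : Type u} {K : Type v} [Field k] [Field K] [Algebra k K]

theorem val_le_one_of_mem_adjoin (Q : Place k K) {ι : Type*} (g : ι → K)
    (h : ∀ i, Q.1 (g i) ≤ 1) {r : K} (hr : r ∈ Algebra.adjoin k (Set.range g)) : Q.1 r ≤ 1 := by
  refine Algebra.adjoin_induction (p := fun r _ => Q.1 r ≤ 1) ?_ ?_ ?_ ?_ hr
  · rintro _ ⟨i, rfl⟩
    exact h i
  · intro c
    exact Q.2.1 c
  · intro a b _ _ ha hb
    exact (Q.1.map_add a b).trans (max_le ha hb)
  · intro a b _ _ ha hb
    rw [map_mul]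
    exact mul_le_one' ha hb

theorem finite_poles (hK : IsFunctionField k K) (z : K) : {Q : Place k K | 1 < Q.1 z}.Finite := by
  by_cases hz : z = 0
  · subst hz
    convert Set.finite_empty
    ext Q
    simp
  · have h := finite_zeros_of_ne_zero hK (inv_ne_zero hz)
    convert h using 1
    ext Q
    exact (val_inv_lt_one_iff Q hz).symm

/-- Killing the poles of `z` outside the poles of `x` by a `P`-unit of `R`. -/
theorem exists_unit_mul_integral (R : Subalgebra k K) (P : Place k K) (x : K)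
    (hR : ∀ r ∈ R, ∀ Q : Place k K, Q.1 x ≤ 1 → Q.1 r ≤ 1)
    (H1 : ∀ Q : Place k K, (∀ z ∈ locAlg R P, Q.1 z ≤ 1) → Q = P)
    (T : Finset (Place k K)) : ∀ z : K, P.1 z ≤ 1 →
      (∀ Q : Place k K, Q.1 x ≤ 1 → 1 < Q.1 z → Q ∈ T) →
      ∃ w ∈ R, P.1 w = 1 ∧ ∀ Q : Place k K, Q.1 x ≤ 1 → Q.1 (z * w) ≤ 1 := by
  classical
  induction T using Finset.induction_on with
  | empty =>
    intro z _ hT
    refine ⟨1, R.one_mem, map_one _, fun Q hQ => ?_⟩
    rw [mul_one]
    by_contra h
    exact absurd (hT Q hQ (not_le.mp h)) (Finset.notMem_empty Q)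
  | insert Q₀ T _ ih =>
    intro z hPz hT
    by_cases hcase : Q₀.1 x ≤ 1 ∧ 1 < Q₀.1 z
    · obtain ⟨hQx, hQz⟩ := hcase
      have hne : Q₀ ≠ P := by
        rintro rfl
        exact absurd hQz (not_lt.mpr hPz)
      have h1 : ¬ ∀ z ∈ locAlg R P, Q₀.1 z ≤ 1 := fun h => hne (H1 Q₀ h)
      push Not at h1
      obtain ⟨a, ⟨u₀, hu₀, w₀, hw₀, hPw₀, haw⟩, hQa⟩ := h1
      have hQu : Q₀.1 u₀ ≤ 1 := hR u₀ hu₀ Q₀ hQx
      have hQw : Q₀.1 w₀ < 1 := by
        by_contra h
        rw [not_lt] at h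
        have h2 : Q₀.1 a * Q₀.1 w₀ = Q₀.1 u₀ := by rw [← map_mul, haw]
        have h3 : 1 < Q₀.1 a * Q₀.1 w₀ := by
          calc (1 : WithZero (Multiplicative ℤ)) < Q₀.1 a := hQa
            _ = Q₀.1 a * 1 := (mul_one _).symm
            _ ≤ Q₀.1 a * Q₀.1 w₀ := mul_le_mul' le_rfl h
        rw [h2] at h3
        exact absurd h3 (not_lt.mpr hQu)
      obtain ⟨e, he⟩ := exists_nat_le_exp (Q₀.1 z)
      have hQw' : Q₀.1 w₀ ≤ WithZero.exp (-1) := le_exp_neg_one_of_lt_one hQw
      have hz' : Q₀.1 (z * w₀ ^ e) ≤ 1 := by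
        rw [map_mul, map_pow]
        calc Q₀.1 z * Q₀.1 w₀ ^ e ≤ WithZero.exp (e : ℤ) * WithZero.exp (-1) ^ e :=
              mul_le_mul' he (pow_le_pow_left' hQw' e)
          _ = 1 := by
              rw [← WithZero.exp_nsmul, ← WithZero.exp_add]
              simp
      have hPz' : P.1 (z * w₀ ^ e) ≤ 1 := by
        rw [map_mul, map_pow, hPw₀, one_pow, mul_one]
        exact hPz
      have hT' : ∀ Q : Place k K, Q.1 x ≤ 1 → 1 < Q.1 (z * w₀ ^ e) → Q ∈ T := by
        intro Q hQ hQz'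
        have h2 : Q.1 (z * w₀ ^ e) ≤ Q.1 z := by
          rw [map_mul, map_pow]
          calc Q.1 z * Q.1 w₀ ^ e ≤ Q.1 z * 1 :=
                mul_le_mul' le_rfl (pow_le_one' (hR w₀ hw₀ Q hQ) e)
            _ = Q.1 z := mul_one _
        have h3 := hT Q hQ (lt_of_lt_of_le hQz' h2)
        rcases Finset.mem_insert.mp h3 with rfl | h4
        · exact absurd hQz' (not_lt.mpr hz')
        · exact h4
      obtain ⟨w', hw', hPw', hw'Q⟩ := ih (z * w₀ ^ e) hPz' hT'
      refine ⟨w₀ ^ e * w', R.mul_mem (R.pow_mem hw₀ e) hw', ?_, fun Q hQ => ?_⟩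
      · rw [map_mul, map_pow, hPw₀, one_pow, one_mul, hPw']
      · rw [← mul_assoc]
        exact hw'Q Q hQ
    · refine ih z hPz (fun Q hQ hQz => ?_)
      rcases Finset.mem_insert.mp (hT Q hQ hQz) with rfl | h4
      · exact absurd ⟨hQ, hQz⟩ hcase
      · exact h4

/-- Over `k(x)`, a subalgebra whose fraction field is `K` spans `K`. -/
theorem span_adjoin_eq_top (hK : IsFunctionField k K) {x : K} (hx : Transcendental k x)
    (R : Subalgebra k K) (hfrac : IntermediateField.adjoin k (R : Set K) = ⊤) :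
    Submodule.span k⟮x⟯ (R : Set K) = ⊤ := by
  haveI := finiteDimensional_adjoin hK hx
  have halg : ∀ r ∈ (R : Set K), IsAlgebraic k⟮x⟯ r := fun r _ =>
    Algebra.IsAlgebraic.isAlgebraic r
  have h1 := IntermediateField.adjoin_toSubalgebra_of_isAlgebraic halg
  have h2 : IntermediateField.adjoin k⟮x⟯ (R : Set K) = ⊤ := by
    rw [eq_top_iff]
    intro z _
    have h3 : IntermediateField.adjoin k (R : Set K) ≤
        (IntermediateField.adjoin k⟮x⟯ (R : Set K)).restrictScalars k := by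
      rw [IntermediateField.adjoin_le_iff]
      intro r hr
      exact IntermediateField.subset_adjoin k⟮x⟯ (R : Set K) hr
    have h4 : z ∈ IntermediateField.adjoin k (R : Set K) := by rw [hfrac]; trivial
    exact h3 h4
  rw [h2] at h1
  have h5 := Algebra.adjoin_eq_span k⟮x⟯ (R : Set K)
  rw [← h1] at h5
  have h6 : Submonoid.closure (R : Set K) = R.toSubsemiring.toSubmonoid :=
    Submonoid.closure_eq R.toSubsemiring.toSubmonoid
  rw [h6] at h5
  have h7 : Subalgebra.toSubmodule (⊤ : IntermediateField k⟮x⟯ K).toSubalgebra = ⊤ := by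
    rw [IntermediateField.top_toSubalgebra, Algebra.top_toSubmodule]
  rw [h7] at h5
  exact h5.symm

end Groth.Agent.Lib.Helper23.FF
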