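import Mathlib
import Groth.Prelude.Def_W4bk4goldsch45
import Groth.Agent.Lib.Helper23.FFNS4

/-!
Local rings of projective maps, part 5: the criterion (Nakayama step).
-/

set_option autoImplicit false

namespace Groth.Agent.Lib.Helper23.FF

open FunFld
open scoped IntermediateField

universe u v
variable {k : Type u} {K : Type v} [Field k] [Field K] [Algebra k K]

/-- The maximal ideal of `locAlg R P`. -/
def locIdeal (R : Subalgebra k K) (P : Place k K) (hR : ∀ r ∈ R, P.1 r ≤ 1) :
    Ideal (locAlg R P) where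
  carrier := {a | P.1 (a : K) < 1}
  add_mem' {a b} ha hb := lt_of_le_of_lt (P.1.map_add _ _) (max_lt ha hb)
  zero_mem' := by
    show P.1 ((0 : locAlg R P) : K) < 1
    rw [ZeroMemClass.coe_zero, map_zero]
    exact zero_lt_one
  smul_mem' c a ha := by
    show P.1 ((c • a : locAlg R P) : K) < 1
    rw [smul_eq_mul, MulMemClass.coe_mul, map_mul]
    calc P.1 (c : K) * P.1 (a : K) ≤ 1 * P.1 (a : K) :=
          mul_le_mul' (val_le_one_of_mem_locAlg hR c.2) le_rfl
      _ = P.1 (a : K) := one_mul _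
      _ < 1 := ha

theorem locIdeal_le_jacobson (R : Subalgebra k K) (P : Place k K) (hR : ∀ r ∈ R, P.1 r ≤ 1) :
    locIdeal R P hR ≤ Ideal.jacobson ⊥ := by
  intro a ha
  rw [Ideal.mem_jacobson_bot]
  intro y
  have h1 : P.1 ((a * y : locAlg R P) : K) < 1 := (locIdeal R P hR).mul_mem_right y ha
  have h2 : P.1 ((a * y + 1 : locAlg R P) : K) = 1 := by
    rw [AddMemClass.coe_add, OneMemClass.coe_one, add_comm]
    exact Valuation.map_one_add_of_lt P.1 h1
  have h3 : ((a * y + 1 : locAlg R P) : K) ≠ 0 := by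
    intro h
    rw [h, map_zero] at h2
    exact zero_ne_one h2
  rw [isUnit_iff_exists_inv]
  refine ⟨⟨((a * y + 1 : locAlg R P) : K)⁻¹, inv_mem_locAlg (a * y + 1).2 h2⟩, ?_⟩
  apply Subtype.ext
  rw [MulMemClass.coe_mul, OneMemClass.coe_one]
  exact mul_inv_cancel₀ h3

/-- Nakayama step: if the valuation ring of `P` is, up to `P`-units of `R`, contained in `R + V`
with `V` finite-dimensional and integral at `P`, and `locAlg R P` contains a local parameter,
then `locAlg R P` is the whole valuation ring. -/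
theorem mem_locAlg_of_fd [IsAlgClosed k] (hK : IsFunctionField k K) (R : Subalgebra k K)
    (P : Place k K) (hRP : ∀ r ∈ R, P.1 r ≤ 1)
    (V : Submodule k K) [FiniteDimensional k V] (hVP : ∀ v ∈ V, P.1 v ≤ 1)
    (hfg : ∀ z : K, P.1 z ≤ 1 → ∃ w ∈ R, P.1 w = 1 ∧ z * w ∈ Subalgebra.toSubmodule R ⊔ V)
    (H2 : ∃ t ∈ locAlg R P, P.1 t = WithZero.exp (-1))
    {z : K} (hz : P.1 z ≤ 1) : z ∈ locAlg R P := by
  classical
  obtain ⟨t, htA, hPt⟩ := H2
  obtain ⟨b, hb⟩ : ∃ b : Finset K, Submodule.span k (b : Set K) = V :=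
    (Submodule.fg_iff_finiteDimensional V).mpr inferInstance
  let N' : Submodule (locAlg R P) K := Submodule.span (locAlg R P) (insert (1 : K) (b : Set K))
  let N : Submodule (locAlg R P) K := Submodule.span (locAlg R P) {(1 : K)}
  have hN'fg : N'.FG := Submodule.fg_span (Set.Finite.insert _ b.finite_toSet)
  have hVN' : ∀ v ∈ V, v ∈ N' := by
    intro v hv
    rw [← hb] at hv
    have h1 : (Submodule.span k (b : Set K) : Set K) ⊆ Submodule.span (locAlg R P) (b : Set K) :=
      Submodule.span_subset_span k (locAlg R P) _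
    exact Submodule.span_mono (Set.subset_insert _ _) (h1 hv)
  have K1 : ∀ z : K, P.1 z ≤ 1 → z ∈ N' := by
    intro z hz
    obtain ⟨w, hwR, hPw, hzw⟩ := hfg z hz
    obtain ⟨r, hr, v, hv, hrv⟩ := Submodule.mem_sup.mp hzw
    have hw0 : w ≠ 0 := by
      rintro rfl
      rw [map_zero] at hPw
      exact zero_ne_one hPw
    have h1 : z = (⟨r / w, div_mem_locAlg hr hwR hPw⟩ : locAlg R P) • (1 : K)
        + (⟨1 / w, div_mem_locAlg R.one_mem hwR hPw⟩ : locAlg R P) • v := by
      rw [Subalgebra.smul_def, Subalgebra.smul_def]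
      show z = r / w * 1 + 1 / w * v
      have : z = (r + v) / w := by rw [hrv, mul_div_cancel_right₀ z hw0]
      rw [this]
      ring
    rw [h1]
    exact N'.add_mem (N'.smul_mem _ (Submodule.subset_span (Set.mem_insert _ _)))
      (N'.smul_mem _ (hVN' v hv))
  have K2 : ∀ z ∈ N', P.1 z ≤ 1 := by
    intro z hz
    refine Submodule.span_induction (p := fun z _ => P.1 z ≤ 1) ?_ ?_ ?_ ?_ hz
    · intro y hy
      rcases hy with rfl | hy
      · exact (map_one _).le
      · exact hVP y (hb ▸ Submodule.subset_span hy)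
    · rw [map_zero]
      exact zero_le'
    · intro a b _ _ ha hb
      exact (P.1.map_add a b).trans (max_le ha hb)
    · intro a y _ hy
      rw [Subalgebra.smul_def, smul_eq_mul, map_mul]
      exact mul_le_one' (val_le_one_of_mem_locAlg hRP a.2) hy
  have hNN : N' ≤ N ⊔ locIdeal R P hRP • N' := by
    intro z hz
    have hPz := K2 z hz
    obtain ⟨c, hc⟩ := exists_const_val_sub_lt_one P (deg_eq_one hK P) hPz
    have hc' := le_exp_neg_one_of_lt_one hc
    have ht0 : t ≠ 0 := by
      rintro rfl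
      rw [map_zero] at hPt
      exact WithZero.exp_ne_zero hPt.symm
    have hy : P.1 ((z - algebraMap k K c) / t) ≤ 1 := by
      rw [map_div₀, hPt]
      exact div_le_one_of_le₀ hc' zero_le
    have h1 : z = (algebraMap k (locAlg R P) c) • (1 : K)
        + (⟨t, htA⟩ : locAlg R P) • ((z - algebraMap k K c) / t) := by
      rw [Subalgebra.smul_def, Subalgebra.smul_def]
      show z = algebraMap k K c * 1 + t * ((z - algebraMap k K c) / t)
      rw [mul_div_cancel₀ _ ht0]
      ring
    rw [h1]
    refine Submodule.add_mem_sup (N.smul_mem _ (Submodule.subset_span rfl))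
      (Submodule.smul_mem_smul ?_ (K1 _ hy))
    show P.1 t < 1
    rw [hPt, ← WithZero.exp_zero, WithZero.exp_lt_exp]
    norm_num
  have hle := Submodule.le_of_le_smul_of_le_jacobson_bot hN'fg (locIdeal_le_jacobson R P hRP) hNN
  have h3 := hle (K1 z hz)
  obtain ⟨a, ha⟩ := Submodule.mem_span_singleton.mp h3
  rw [Subalgebra.smul_def, smul_eq_mul, mul_one] at ha
  rw [← ha]
  exact a.2

end Groth.Agent.Lib.Helper23.FF
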