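import Mathlib
import Groth.Prelude.Def_W4bk4goldsch45
import Groth.Agent.Lib.Helper23.FFNS5

/-!
Local rings of projective maps, part 6: the criterion, assembled.
-/

set_option autoImplicit false

namespace Groth.Agent.Lib.Helper23.FF

open FunFld
open scoped IntermediateField

universe u v
variable {k : Type u} {K : Type v} [Field k] [Field K] [Algebra k K]

/-- **Criterion.** Let `R = k[g₁,…,gₙ]` have fraction field `K` and lie in the valuation ring of `P`.
If the localization of `R` at `P` lies in no other valuation ring and contains a local parameter,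
then it is the whole valuation ring of `P`. -/
theorem mem_locAlg_of_val_le_one [IsAlgClosed k] (hK : IsFunctionField k K)
    {ι : Type*} [Fintype ι] (g : ι → K) (P : Place k K)
    (hgP : ∀ i, P.1 (g i) ≤ 1)
    (hfrac : IntermediateField.adjoin k (Set.range g) = ⊤)
    (H1 : ∀ Q : Place k K, (∀ z ∈ locAlg (Algebra.adjoin k (Set.range g)) P, Q.1 z ≤ 1) → Q = P)
    (H2 : ∃ t ∈ locAlg (Algebra.adjoin k (Set.range g)) P, P.1 t = WithZero.exp (-1))
    {z : K} (hz : P.1 z ≤ 1) : z ∈ locAlg (Algebra.adjoin k (Set.range g)) P := by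
  classical
  set R := Algebra.adjoin k (Set.range g) with hRdef
  have hRP : ∀ r ∈ R, P.1 r ≤ 1 := fun r hr => val_le_one_of_mem_adjoin P g hgP hr
  obtain ⟨i₀, hi₀⟩ : ∃ i, Transcendental k (g i) := by
    by_contra h
    push Not at h
    obtain ⟨⟨x₀, hx₀, _⟩, hconst⟩ := hK
    have h1 : IntermediateField.adjoin k (Set.range g) ≤ ⊥ := by
      rw [IntermediateField.adjoin_le_iff]
      rintro _ ⟨i, rfl⟩
      have h2 : IsAlgebraic k (g i) := by
        have := h i
        unfold Transcendental at this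
        exact not_not.mp this
      exact IntermediateField.mem_bot.mpr (hconst _ h2)
    rw [hfrac] at h1
    have h2 : x₀ ∈ (⊥ : IntermediateField k K) := h1 IntermediateField.mem_top
    obtain ⟨c, rfl⟩ := IntermediateField.mem_bot.mp h2
    exact hx₀ (isAlgebraic_algebraMap c)
  have hSfin : {Q : Place k K | ∃ i, 1 < Q.1 (g i)}.Finite := by
    have : {Q : Place k K | ∃ i, 1 < Q.1 (g i)} = ⋃ i, {Q : Place k K | 1 < Q.1 (g i)} := by
      ext Q
      simp
    rw [this]
    exact Set.finite_iUnion (fun i => finite_poles hK (g i))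
  set S := hSfin.toFinset with hSdef
  have hS : ∀ Q, Q ∈ S ↔ ∃ i, 1 < Q.1 (g i) := fun Q => by
    rw [hSdef, Set.Finite.mem_toFinset]; rfl
  obtain ⟨c, hc⟩ := exists_generic g S (fun _ => WithZero.exp 1) (fun _ _ => WithZero.exp_ne_zero)
    (fun Q hQ => by
      obtain ⟨i, hi⟩ := (hS Q).mp hQ
      exact ⟨i, exp_one_le_of_one_lt hi⟩)
  set x := ∑ i, c i • g i with hxdef
  have hxR : x ∈ R := R.sum_mem (fun i _ => R.smul_mem (Algebra.subset_adjoin ⟨i, rfl⟩) _)
  have hxS : ∀ Q ∈ S, 1 < Q.1 x := fun Q hQ => by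
    refine lt_of_lt_of_le ?_ (hc Q hQ)
    rw [← WithZero.exp_zero, WithZero.exp_lt_exp]
    norm_num
  have hx : Transcendental k x := by
    apply transcendental_of_not_mem_range hK
    rintro ⟨a, ha⟩
    obtain ⟨Q, hQ⟩ := Groth.Agent.Lib.Helper27.FF.exists_place_val_lt_one hK (transcendental_inv hi₀)
    have hg0 : g i₀ ≠ 0 := by
      intro h
      rw [h] at hi₀
      exact hi₀ isAlgebraic_zero
    have hQS : Q ∈ S := (hS Q).mpr ⟨i₀, (val_inv_lt_one_iff Q hg0).mp hQ⟩
    have h1 := hxS Q hQS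
    rw [← ha] at h1
    exact absurd h1 (not_lt.mpr (Q.2.1 a))
  have hR : ∀ r ∈ R, ∀ Q : Place k K, Q.1 x ≤ 1 → Q.1 r ≤ 1 := by
    intro r hr Q hQ
    refine val_le_one_of_mem_adjoin Q g ?_ hr
    intro i
    by_contra h
    exact absurd (hxS Q ((hS Q).mpr ⟨i, not_le.mp h⟩)) (not_lt.mpr hQ)
  have hfrac' : IntermediateField.adjoin k (R : Set K) = ⊤ := by
    rw [eq_top_iff, ← hfrac]
    exact IntermediateField.adjoin.mono k _ _ Algebra.subset_adjoin
  have hspan := span_adjoin_eq_top hK hx R hfrac'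
  obtain ⟨V, hVfin, hVx, hVsup⟩ := exists_fd_sup hK hx R hxR hR hspan
  haveI := hVfin
  have hPx : P.1 x ≤ 1 := hRP x hxR
  refine mem_locAlg_of_fd hK R P hRP V (fun v hv => hVx v hv P hPx) ?_ H2 hz
  intro z hz
  obtain ⟨w, hw, hPw, hwQ⟩ := exists_unit_mul_integral R P x hR H1 (finite_poles hK z).toFinset z hz
    (fun Q _ hQz => by
      rw [Set.Finite.mem_toFinset]
      exact hQz)
  exact ⟨w, hw, hPw, hVsup _ hwQ⟩

theorem adjoin_ratio_eq_top {ι : Type*} (φ : ι → K) (j₀ j : ι) (hj : φ j ≠ 0)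
    (h : IntermediateField.adjoin k (Set.range fun i => φ i / φ j₀) = ⊤) :
    IntermediateField.adjoin k (Set.range fun i => φ i / φ j) = ⊤ := by
  rw [eq_top_iff, ← h, IntermediateField.adjoin_le_iff]
  rintro _ ⟨i, rfl⟩
  show φ i / φ j₀ ∈ IntermediateField.adjoin k _
  have h1 : φ i / φ j₀ = (φ i / φ j) / (φ j₀ / φ j) := by
    by_cases h0 : φ j₀ = 0
    · rw [h0, zero_div, div_zero, div_zero]
    · field_simp
  rw [h1]
  exact div_mem (IntermediateField.subset_adjoin _ _ ⟨i, rfl⟩)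
    (IntermediateField.subset_adjoin _ _ ⟨j₀, rfl⟩)

/-- The criterion for a projective map, with a fixed admissible index. -/
theorem mem_locAlg_ratioAlg [IsAlgClosed k] (hK : IsFunctionField k K)
    {ι : Type*} [Fintype ι] (φ : ι → K) (P : Place k K) {j : ι}
    (hj0 : φ j ≠ 0) (hj : ∀ i, P.1 (φ i) ≤ P.1 (φ j))
    (hfrac : IntermediateField.adjoin k (Set.range fun i => φ i / φ j) = ⊤)
    (H1 : ∀ Q : Place k K, (∀ z ∈ locAlg (ratioAlg (k := k) φ j) P, Q.1 z ≤ 1) → Q = P)
    (H2 : ∃ t ∈ locAlg (ratioAlg (k := k) φ j) P, P.1 t = WithZero.exp (-1))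
    {z : K} (hz : P.1 z ≤ 1) : z ∈ locAlg (ratioAlg (k := k) φ j) P :=
  mem_locAlg_of_val_le_one hK (fun i => φ i / φ j) P
    (fun i => val_le_one_of_mem_ratioAlg φ P hj0 hj (ratio_mem_ratioAlg φ j i)) hfrac H1 H2 hz

end Groth.Agent.Lib.Helper23.FF
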