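import Mathlib
import Groth.Prelude.Def_W4bk4goldsch45
import Groth.Agent.Lib.Helper23.FFNS6

/-!
Embeddings, part 1: base-point-free divisors, generic sections, and functions of exact degree.
-/

set_option autoImplicit false

namespace Groth.Agent.Lib.Helper23.FF

open FunFld
open scoped IntermediateField

universe u v
variable {k : Type u} {K : Type v} [Field k] [Field K] [Algebra k K]

theorem lt_exp_iff_le_exp_sub_one (x : WithZero (Multiplicative ℤ)) (n : ℤ) :
    x < WithZero.exp n ↔ x ≤ WithZero.exp (n - 1) := by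
  rcases eq_or_ne x 0 with rfl | hx0
  · simp
  · obtain ⟨m, rfl⟩ : ∃ m : ℤ, x = WithZero.exp m := ⟨WithZero.log x, (WithZero.exp_log hx0).symm⟩
    rw [WithZero.exp_lt_exp, WithZero.exp_le_exp]
    omega

/-- If `ℓ(E - P) < ℓ(E)`, some element of `L(E)` has exact value `exp (E P)` at `P`. -/
theorem exists_mem_L_val_eq (E : Divisor k K) (P : Place k K)
    (h : ell (E - Finsupp.single P 1) < ell E) : ∃ f ∈ L E, P.1 f = WithZero.exp (E P) := by
  classical
  have hle : L (E - Finsupp.single P 1) ≤ L E := by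
    apply L_mono
    rw [sub_le_self_iff]
    exact Finsupp.single_nonneg.mpr zero_le_one
  by_contra hcon
  push Not at hcon
  have h2 : L E ≤ L (E - Finsupp.single P 1) := by
    intro f hf Q
    by_cases hQ : Q = P
    · subst hQ
      have h3 : Q.1 f < WithZero.exp (E Q) := lt_of_le_of_ne (hf Q) (hcon f hf)
      rw [Finsupp.sub_apply, Finsupp.single_eq_same]
      exact (lt_exp_iff_le_exp_sub_one _ _).mp h3
    · rw [Finsupp.sub_apply, Finsupp.single_apply, if_neg (fun h => hQ h.symm), sub_zero]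
      exact hf Q
  have h3 := le_antisymm h2 hle
  unfold ell at h
  rw [h3] at h
  exact lt_irrefl _ h

/-- If `φ` spans `L(E)` and `ℓ(E - P) < ℓ(E)`, some `φ j` has exact value `exp (E P)` at `P`. -/
theorem exists_index_val_eq {ι : Type*} (φ : ι → K) (E : Divisor k K) (P : Place k K)
    (hspan : Submodule.span k (Set.range φ) = L E)
    (h : ell (E - Finsupp.single P 1) < ell E) : ∃ j, P.1 (φ j) = WithZero.exp (E P) := by
  by_contra hcon
  push Not at hcon
  obtain ⟨f, hf, hPf⟩ := exists_mem_L_val_eq E P h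
  have h1 : Submodule.span k (Set.range φ) ≤ ballSub P (WithZero.exp (E P)) WithZero.exp_ne_zero := by
    rw [Submodule.span_le]
    rintro _ ⟨j, rfl⟩
    have h2 : φ j ∈ L E := hspan ▸ Submodule.subset_span ⟨j, rfl⟩
    exact lt_of_le_of_ne (h2 P) (hcon j)
  rw [hspan] at h1
  have h3 : P.1 f < WithZero.exp (E P) := h1 hf
  rw [hPf] at h3
  exact lt_irrefl _ h3

/-- degree of the quotient of two sections with disjoint divisors of zeros -/
theorem finrank_adjoin_div_eq_deg (hK : IsFunctionField k K) (E : Divisor k K) {f f₀ : K}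
    (hf : f ∈ L E) (hf₀ : f₀ ∈ L E) (hf0 : f ≠ 0) (hf₀0 : f₀ ≠ 0)
    (hdis : ∀ Q : Place k K, Q.1 f = WithZero.exp (E Q) ∨ Q.1 f₀ = WithZero.exp (E Q))
    (hy : Transcendental k (f / f₀)) :
    (Module.finrank k⟮f / f₀⟯ K : ℤ) = E.deg := by
  classical
  have hfin := finite_zeros hK hy
  set Z := hfin.toFinset with hZdef
  have hZ : ∀ Q, Q ∈ Z ↔ Q.1 (f / f₀) < 1 := fun Q => by
    rw [hZdef, Set.Finite.mem_toFinset]; rfl
  have h1 := sum_ord_mul_deg_eq hK hy Z hZ
  rw [← deg_zdiv] at h1
  rw [← h1]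
  have h2 : zdiv (f / f₀) Z = FunFld.div k f + E := by
    ext Q
    rw [zdiv_apply, Finsupp.add_apply, div_apply hK]
    have hval : ∀ {g : K}, g ≠ 0 → Q.1 g = WithZero.exp (E Q) → Q.ord g = -E Q := by
      intro g hg hgv
      rw [val_eq_exp_neg_ord Q hg] at hgv
      have := WithZero.exp_injective hgv
      omega
    have hv0 : Q.1 f₀ ≠ 0 := (Q.1.ne_zero_iff).mpr hf₀0
    by_cases hQ : Q ∈ Z
    · rw [if_pos hQ]
      have h3 : Q.1 (f / f₀) < 1 := (hZ Q).mp hQ
      rw [map_div₀, div_lt_one₀ (zero_lt_iff.mpr hv0)] at h3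
      have h4 : Q.1 f₀ = WithZero.exp (E Q) := by
        rcases hdis Q with h5 | h5
        · exfalso
          have := hf₀ Q
          rw [← h5] at this
          exact absurd h3 (not_lt.mpr this)
        · exact h5
      rw [div_eq_mul_inv, Groth.Agent.Lib.Helper27.FF.ord_mul Q hf0 (inv_ne_zero hf₀0),
        Groth.Agent.Lib.Helper27.FF.ord_inv, hval hf₀0 h4]
      ring
    · rw [if_neg hQ]
      have h3 : ¬ Q.1 (f / f₀) < 1 := fun h => hQ ((hZ Q).mpr h)
      rw [map_div₀, div_lt_one₀ (zero_lt_iff.mpr hv0), not_lt] at h3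
      have h4 : Q.1 f = WithZero.exp (E Q) := by
        rcases hdis Q with h5 | h5
        · exact h5
        · exact le_antisymm (hf Q) (h5 ▸ h3)
      rw [hval hf0 h4]
      ring
  rw [h2, deg_add, deg_div hK, zero_add]

end Groth.Agent.Lib.Helper23.FF
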