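import Mathlib
import Groth.Prelude.Def_W4bk4goldsch23FF
import Groth.Agent.Lib.Helper23.FFAC

/-!
Function fields, part 9: independence of elements with distinct orders at a place.
-/

set_option autoImplicit false

namespace Groth.Agent.Lib.Helper23.FF

open FunFld Polynomial
open scoped IntermediateField

universe u v
variable {k : Type u} {K : Type v} [Field k] [Field K] [Algebra k K]

theorem val_smul_of_ne_zero (P : Place k K) {c : k} (hc : c ≠ 0) (x : K) :
    P.1 (c • x) = P.1 x := by
  rw [Algebra.smul_def, map_mul, val_const P hc, one_mul]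

/-- Nonzero elements with pairwise distinct orders at `P` are linearly independent over `k`. -/
theorem li_of_ord_injective (P : Place k K) {ι : Type*} (v : ι → K) (hv : ∀ i, v i ≠ 0)
    (hinj : Function.Injective (fun i => P.ord (v i))) : LinearIndependent k v := by
  classical
  rw [linearIndependent_iff']
  intro s g hsum
  by_contra hno
  push Not at hno
  obtain ⟨i₁, hi₁s, hi₁⟩ := hno
  set s' := s.filter (fun i => g i ≠ 0) with hs'
  have hne : s'.Nonempty := ⟨i₁, Finset.mem_filter.mpr ⟨hi₁s, hi₁⟩⟩
  obtain ⟨i₀, hi₀, hmax⟩ := Finset.exists_max_image s' (fun i => P.1 (v i)) hne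
  have hsum' : ∑ i ∈ s', g i • v i = 0 := by
    rw [← hsum, hs']
    apply Finset.sum_filter_of_ne
    intro i _ h h0
    apply h
    rw [h0, zero_smul]
  have hval : ∀ i ∈ s', P.1 (g i • v i) = P.1 (v i) := fun i hi =>
    val_smul_of_ne_zero P (Finset.mem_filter.mp hi).2 _
  have h1 : P.1 (∑ i ∈ s', g i • v i) = P.1 (g i₀ • v i₀) := by
    apply Valuation.map_sum_eq_of_lt _ hi₀
    intro i hi
    rw [Finset.mem_sdiff, Finset.mem_singleton] at hi
    rw [hval i hi.1, hval i₀ hi₀]
    refine lt_of_le_of_ne (hmax i hi.1) ?_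
    intro heq
    apply hi.2
    apply hinj
    show P.ord (v i) = P.ord (v i₀)
    unfold Place.ord
    rw [heq]
  rw [hsum', map_zero, hval i₀ hi₀] at h1
  exact (P.1.ne_zero_iff.mpr (hv i₀)) h1.symm

theorem ord_pow (P : Place k K) {x : K} (hx : x ≠ 0) (n : ℕ) : P.ord (x ^ n) = n * P.ord x := by
  induction n with
  | zero => rw [pow_zero, Groth.Agent.Lib.Helper27.FF.ord_one]; simp
  | succ n ih =>
    rw [pow_succ, Groth.Agent.Lib.Helper27.FF.ord_mul P (pow_ne_zero _ hx) hx, ih]
    push_cast
    ring

theorem ne_zero_of_ord_ne_zero (P : Place k K) {x : K} (h : P.ord x ≠ 0) : x ≠ 0 := by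
  rintro rfl
  exact h (Groth.Agent.Lib.Helper27.FF.ord_zero P)

/-- A linearly independent family inside a finite-dimensional subspace, of the right size,
spans it. -/
theorem span_eq_of_li_of_card {ι : Type*} [Fintype ι] {V : Type*} [AddCommGroup V] [Module k V]
    (S : Submodule k V) [FiniteDimensional k S] (w : ι → V) (hw : ∀ i, w i ∈ S)
    (hli : LinearIndependent k w) (hcard : Fintype.card ι = Module.finrank k S) :
    Submodule.span k (Set.range w) = S := by
  have hle : Submodule.span k (Set.range w) ≤ S := by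
    rw [Submodule.span_le]
    rintro _ ⟨i, rfl⟩
    exact hw i
  apply Submodule.eq_of_le_of_finrank_eq hle
  rw [finrank_span_eq_card hli, hcard]

end Groth.Agent.Lib.Helper23.FF
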