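import Mathlib
import Groth.Prelude.Def_W4bk4goldsch45
import Groth.Agent.Lib.Helper23.FFEmb1
import Groth.Agent.Lib.Helper23.FFOrd

/-!
Embeddings, part 2: functions of exact degree from base-point-free divisors.
-/

set_option autoImplicit false

namespace Groth.Agent.Lib.Helper23.FF

open FunFld
open scoped IntermediateField

universe u v
variable {k : Type u} {K : Type v} [Field k] [Field K] [Algebra k K]

/-- For a base-point-free divisor `E` there are two sections with disjoint divisors of zeros. -/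
theorem exists_disjoint_pair [Infinite k] (hK : IsFunctionField k K) (E : Divisor k K)
    (hbpf : ∀ Q : Place k K, ell (E - Finsupp.single Q 1) < ell E) :
    ∃ f ∈ L E, ∃ f₀ ∈ L E, f ≠ 0 ∧ f₀ ≠ 0 ∧
      ∀ Q : Place k K, Q.1 f = WithZero.exp (E Q) ∨ Q.1 f₀ = WithZero.exp (E Q) := by
  classical
  obtain ⟨⟨x₀, hx₀, _⟩, _⟩ := id hK
  obtain ⟨P₀, _⟩ := Groth.Agent.Lib.Helper27.FF.exists_place_val_lt_one hK hx₀
  have hpos : 0 < ell E := lt_of_le_of_lt (Nat.zero_le _) (hbpf P₀)
  obtain ⟨f₀, hf₀0, hf₀⟩ := exists_ne_zero_mem_L hK E hpos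
  have hTfin : {Q : Place k K | Q.1 f₀ ≠ WithZero.exp (E Q)}.Finite := by
    refine Set.Finite.subset ((finite_support_ord hK f₀).union E.finite_support) ?_
    intro Q hQ
    by_contra hcon
    rw [Set.mem_union, not_or] at hcon
    obtain ⟨h1, h2⟩ := hcon
    rw [Function.mem_support, not_not] at h1
    have h3 : E Q = 0 := by
      by_contra h
      exact h2 (Function.mem_support.mpr h)
    apply hQ
    rw [val_eq_exp_neg_ord Q hf₀0, h1, h3, neg_zero]
  set T := hTfin.toFinset with hTdef
  have hT : ∀ Q, Q ∈ T ↔ Q.1 f₀ ≠ WithZero.exp (E Q) := fun Q => by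
    rw [hTdef, Set.Finite.mem_toFinset]; rfl
  haveI : FiniteDimensional k (L E) := Groth.Agent.Lib.Helper27.FF.finiteDimensional_L hK E
  let b := Module.finBasis k (L E)
  let g : Fin (Module.finrank k (L E)) → K := fun i => ((b i : L E) : K)
  have hg : Submodule.span k (Set.range g) = L E := by
    have h1 : Set.range g = (L E).subtype '' Set.range b := by
      rw [← Set.range_comp]
      rfl
    rw [h1, Submodule.span_image, b.span_eq, Submodule.map_subtype_top]
  by_cases hne : T.Nonempty
  · obtain ⟨c, hc⟩ := exists_generic g T (fun Q => WithZero.exp (E Q))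
      (fun _ _ => WithZero.exp_ne_zero)
      (fun Q _ => by
        obtain ⟨j, hj⟩ := exists_index_val_eq g E Q hg (hbpf Q)
        exact ⟨j, hj.ge⟩)
    have hf : ∑ i, c i • g i ∈ L E :=
      (L E).sum_mem (fun i _ => (L E).smul_mem _ (b i).2)
    refine ⟨∑ i, c i • g i, hf, f₀, hf₀, ?_, hf₀0, fun Q => ?_⟩
    · obtain ⟨Q₁, hQ₁⟩ := hne
      intro h0
      have := hc Q₁ hQ₁
      rw [h0, map_zero] at this
      exact WithZero.exp_ne_zero (le_antisymm this zero_le)
    · by_cases hQ : Q ∈ T
      · exact Or.inl (le_antisymm (hf Q) (hc Q hQ))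
      · right
        by_contra h
        exact hQ ((hT Q).mpr h)
  · refine ⟨f₀, hf₀, f₀, hf₀, hf₀0, hf₀0, fun Q => ?_⟩
    right
    by_contra h
    exact hne ⟨Q, (hT Q).mpr h⟩

/-- For a base-point-free divisor of positive degree there is a quotient of two sections of degree
exactly `deg E`. -/
theorem exists_transcendental_finrank_eq_deg [Infinite k] (hK : IsFunctionField k K)
    (E : Divisor k K) (hbpf : ∀ Q : Place k K, ell (E - Finsupp.single Q 1) < ell E)
    (hdeg : 1 ≤ E.deg) :
    ∃ f ∈ L E, ∃ f₀ ∈ L E, f₀ ≠ 0 ∧ Transcendental k (f / f₀) ∧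
      (Module.finrank k⟮f / f₀⟯ K : ℤ) = E.deg := by
  obtain ⟨f, hf, f₀, hf₀, hf0, hf₀0, hdis⟩ := exists_disjoint_pair hK E hbpf
  have hy : Transcendental k (f / f₀) := by
    intro halg
    obtain ⟨c, hc⟩ := hK.2 _ halg
    have hc0 : c ≠ 0 := by
      rintro rfl
      rw [map_zero] at hc
      exact (div_ne_zero hf0 hf₀0) hc.symm
    have hfc : f = c • f₀ := by
      rw [Algebra.smul_def, hc, div_mul_cancel₀ f hf₀0]
    have hall : ∀ Q : Place k K, Q.1 f₀ = WithZero.exp (E Q) := by
      intro Q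
      rcases hdis Q with h | h
      · rw [hfc, val_smul_of_ne_zero Q hc0] at h
        exact h
      · exact h
    have hE : E = -FunFld.div k f₀ := by
      ext Q
      rw [Finsupp.neg_apply, div_apply hK]
      have := hall Q
      rw [val_eq_exp_neg_ord Q hf₀0] at this
      have := WithZero.exp_injective this
      omega
    rw [hE, deg_neg, deg_div hK] at hdeg
    norm_num at hdeg
  exact ⟨f, hf, f₀, hf₀, hf₀0, hy, finrank_adjoin_div_eq_deg hK E hf hf₀ hf0 hf₀0 hdis hy⟩

end Groth.Agent.Lib.Helper23.FF
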