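import Mathlib
import Groth.Prelude.Def_W4bk4goldsch45
import Groth.Agent.Lib.Helper23.FFEmb2

/-!
Embeddings, part 3: a complete linear system separating points and tangent vectors gives an
embedding.
-/

set_option autoImplicit false

namespace Groth.Agent.Lib.Helper23.FF

open FunFld
open scoped IntermediateField

universe u v
variable {k : Type u} {K : Type v} [Field k] [Field K] [Algebra k K]

theorem div_mem_ratioAlg {ι : Type*} (φ : ι → K) (j : ι) {f : K}
    (hf : f ∈ Submodule.span k (Set.range φ)) : f / φ j ∈ ratioAlg (k := k) φ j := by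
  refine Submodule.span_induction (p := fun f _ => f / φ j ∈ ratioAlg (k := k) φ j) ?_ ?_ ?_ ?_ hf
  · rintro _ ⟨i, rfl⟩
    exact ratio_mem_ratioAlg φ j i
  · rw [zero_div]
    exact Subalgebra.zero_mem _
  · intro a b _ _ ha hb
    rw [add_div]
    exact Subalgebra.add_mem _ ha hb
  · intro c a _ ha
    rw [smul_div_assoc]
    exact Subalgebra.smul_mem _ ha c

theorem one_le_deg_of_two_le_ell [IsAlgClosed k] (hK : IsFunctionField k K) (D : Divisor k K)
    (P : Place k K) (h : 2 ≤ ell D) : 1 ≤ D.deg := by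
  by_contra hcon
  rw [not_le] at hcon
  have h1 := ell_le_ell_sub_single_add hK D P
  rw [deg_eq_one hK P] at h1
  have h2 : (D - Finsupp.single P 1).deg < 0 := by
    rw [deg_sub, deg_single, deg_eq_one hK P]
    norm_num
    omega
  have h3 : ell (D - Finsupp.single P 1) = 0 := by
    unfold ell
    rw [L_eq_bot_of_deg_neg hK _ h2, finrank_bot]
  omega

/-- Birationality from separation of points and tangent vectors. -/
theorem adjoin_ratio_eq_top_of_sep [IsAlgClosed k] (hK : IsFunctionField k K) (D : Divisor k K)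
    {ι : Type*} (φ : ι → K) (hspan : Submodule.span k (Set.range φ) = L D)
    (hsep : ∀ P Q : Place k K, ell (D - Finsupp.single P 1 - Finsupp.single Q 1) + 2 = ell D)
    (P : Place k K) (j : ι) (hj0 : φ j ≠ 0) :
    IntermediateField.adjoin k (Set.range fun i => φ i / φ j) = ⊤ := by
  have h1 : ∀ P : Place k K, ell (D - Finsupp.single P 1) + 1 = ell D := by
    intro P
    have a1 := ell_le_ell_sub_single_add hK D P
    have a2 := ell_le_ell_sub_single_add hK (D - Finsupp.single P 1) P
    rw [deg_eq_one hK P] at a1 a2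
    have a3 := hsep P P
    omega
  have h2 : ∀ P Q : Place k K,
      ell (D - Finsupp.single P 1 - Finsupp.single Q 1) + 1 = ell (D - Finsupp.single P 1) := by
    intro P Q
    have := hsep P Q
    have := h1 P
    omega
  set K' := IntermediateField.adjoin k (Set.range fun i => φ i / φ j) with hK'def
  have hmem : ∀ f ∈ L D, ∀ f₀ ∈ L D, f₀ ≠ 0 → f / f₀ ∈ K' := by
    intro f hf f₀ hf₀ hf₀0
    have e1 : f / f₀ = (f / φ j) / (f₀ / φ j) := by
      field_simp
    rw [e1]
    have hsub := IntermediateField.algebra_adjoin_le_adjoin k (Set.range fun i => φ i / φ j)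
    exact div_mem (hsub (div_mem_ratioAlg φ j (hspan ▸ hf)))
      (hsub (div_mem_ratioAlg φ j (hspan ▸ hf₀)))
  have hdeg : 1 ≤ D.deg := one_le_deg_of_two_le_ell hK D P (by have := hsep P P; omega)
  obtain ⟨f, hf, f₀, hf₀, hf₀0, hy, hfr⟩ := exists_transcendental_finrank_eq_deg hK D
    (fun Q => by have := h1 Q; omega) hdeg
  have hdvd1 : Module.finrank K' K ∣ Module.finrank k⟮f / f₀⟯ K :=
    IntermediateField.finrank_dvd_of_le_left
      ((IntermediateField.adjoin_simple_le_iff).mpr (hmem f hf f₀ hf₀ hf₀0))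
  have hone : Module.finrank K' K = 1 := by
    by_cases hd1 : D.deg = 1
    · rw [hd1] at hfr
      have : Module.finrank k⟮f / f₀⟯ K = 1 := by exact_mod_cast hfr
      rw [this] at hdvd1
      exact Nat.dvd_one.mp hdvd1
    · have hle : L (D - Finsupp.single P 1) ≤ L D := by
        apply L_mono
        rw [sub_le_self_iff]
        exact Finsupp.single_nonneg.mpr zero_le_one
      have hdeg' : (D - Finsupp.single P 1).deg = D.deg - 1 := by
        rw [deg_sub, deg_single, deg_eq_one hK P]
        norm_num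
      obtain ⟨f', hf', f₀', hf₀', hf₀0', hy', hfr'⟩ :=
        exists_transcendental_finrank_eq_deg hK (D - Finsupp.single P 1)
          (fun Q => by have := h2 P Q; omega) (by rw [hdeg']; omega)
      have hdvd2 : Module.finrank K' K ∣ Module.finrank k⟮f' / f₀'⟯ K :=
        IntermediateField.finrank_dvd_of_le_left
          ((IntermediateField.adjoin_simple_le_iff).mpr
            (hmem f' (hle hf') f₀' (hle hf₀') hf₀0'))
      rw [hdeg'] at hfr'
      have e1 : Module.finrank k⟮f / f₀⟯ K = Module.finrank k⟮f' / f₀'⟯ K + 1 := by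
        have : (Module.finrank k⟮f / f₀⟯ K : ℤ) = (Module.finrank k⟮f' / f₀'⟯ K : ℤ) + 1 := by
          rw [hfr, hfr']
          ring
        exact_mod_cast this
      rw [e1] at hdvd1
      exact Nat.dvd_one.mp ((Nat.dvd_add_right hdvd2).mp hdvd1)
  haveI : FiniteDimensional K' K := Module.finite_of_finrank_pos (by rw [hone]; exact zero_lt_one)
  exact IntermediateField.eq_of_le_of_finrank_eq' le_top
    (by rw [hone, IntermediateField.finrank_top])

/-- **Embedding criterion.** If `φ` spans `L(D)` and `ℓ(D - P - Q) = ℓ(D) - 2` for all places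
`P`, `Q`, then the projective map `φ` is nonsingular at every place. -/
theorem isNonsingularAt_of_sep [IsAlgClosed k] (hK : IsFunctionField k K) (D : Divisor k K)
    {ι : Type*} [Fintype ι] (φ : ι → K) (hspan : Submodule.span k (Set.range φ) = L D)
    (hsep : ∀ P Q : Place k K, ell (D - Finsupp.single P 1 - Finsupp.single Q 1) + 2 = ell D)
    (P : Place k K) : IsNonsingularAt φ P := by
  classical
  have h1 : ∀ P : Place k K, ell (D - Finsupp.single P 1) + 1 = ell D := by
    intro P
    have a1 := ell_le_ell_sub_single_add hK D P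
    have a2 := ell_le_ell_sub_single_add hK (D - Finsupp.single P 1) P
    rw [deg_eq_one hK P] at a1 a2
    have a3 := hsep P P
    omega
  have h2 : ∀ P Q : Place k K,
      ell (D - Finsupp.single P 1 - Finsupp.single Q 1) + 1 = ell (D - Finsupp.single P 1) := by
    intro P Q
    have := hsep P Q
    have := h1 P
    omega
  obtain ⟨j, hjv⟩ := exists_index_val_eq φ D P hspan (by have := h1 P; omega)
  have hj0 : φ j ≠ 0 := by
    intro h
    rw [h, map_zero] at hjv
    exact WithZero.exp_ne_zero hjv.symm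
  have hφL : ∀ i, φ i ∈ L D := fun i => hspan ▸ Submodule.subset_span ⟨i, rfl⟩
  have hj : ∀ i, P.1 (φ i) ≤ P.1 (φ j) := fun i => by
    rw [hjv]
    exact hφL i P
  have hfrac := adjoin_ratio_eq_top_of_sep hK D φ hspan hsep P j hj0
  have hratio : ∀ f ∈ L D, f / φ j ∈ ratioAlg (k := k) φ j := fun f hf =>
    div_mem_ratioAlg φ j (hspan ▸ hf)
  have hleP : ∀ Q : Place k K, L (D - Finsupp.single Q 1) ≤ L D := by
    intro Q
    apply L_mono
    rw [sub_le_self_iff]
    exact Finsupp.single_nonneg.mpr zero_le_one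
  have H2 : ∃ t ∈ locAlg (ratioAlg (k := k) φ j) P, P.1 t = WithZero.exp (-1) := by
    obtain ⟨f, hf, hPf⟩ := exists_mem_L_val_eq (D - Finsupp.single P 1) P
      (by have := h2 P P; omega)
    refine ⟨f / φ j, le_locAlg _ P (hratio f (hleP P hf)), ?_⟩
    rw [map_div₀, hPf, hjv, Finsupp.sub_apply, Finsupp.single_eq_same, ← WithZero.exp_sub]
    congr 1
    ring
  have H1 : ∀ Q : Place k K, (∀ z ∈ locAlg (ratioAlg (k := k) φ j) P, Q.1 z ≤ 1) → Q = P := by
    intro Q hQ
    by_contra hne
    obtain ⟨f, hf, hPf⟩ := exists_mem_L_val_eq (D - Finsupp.single Q 1) P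
      (by have := h2 Q P; omega)
    obtain ⟨h, hh, hQh⟩ := exists_mem_L_val_eq (D - Finsupp.single P 1) Q
      (by have := h2 P Q; omega)
    rw [Finsupp.sub_apply, Finsupp.single_apply, if_neg hne, sub_zero] at hPf
    rw [Finsupp.sub_apply, Finsupp.single_apply, if_neg (Ne.symm hne), sub_zero] at hQh
    have hf0 : f ≠ 0 := by
      intro h0
      rw [h0, map_zero] at hPf
      exact WithZero.exp_ne_zero hPf.symm
    have hw : P.1 (f / φ j) = 1 := by
      rw [map_div₀, hPf, hjv]
      exact div_self WithZero.exp_ne_zero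
    have hz := hQ _ (div_mem_locAlg (hratio h (hleP P hh)) (hratio f (hleP Q hf)) hw)
    have e1 : (h / φ j) / (f / φ j) = h / f := by
      field_simp
    rw [e1, map_div₀] at hz
    have hQf : Q.1 f ≤ WithZero.exp (D Q - 1) := by
      have := hf Q
      rwa [Finsupp.sub_apply, Finsupp.single_eq_same] at this
    have hQf0 : Q.1 f ≠ 0 := (Q.1.ne_zero_iff).mpr hf0
    have h3 : Q.1 h ≤ Q.1 f := (div_le_one₀ (zero_lt_iff.mpr hQf0)).mp hz
    rw [hQh] at h3
    have h4 := h3.trans hQf
    rw [WithZero.exp_le_exp] at h4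
    omega
  intro z hz
  exact ⟨j, hj0, hj, mem_locAlg_ratioAlg hK φ P hj0 hj hfrac H1 H2 hz⟩

end Groth.Agent.Lib.Helper23.FF
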