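import Mathlib
import Groth.Prelude.Def_W4bk4goldsch45
import Groth.Agent.Lib.Helper23.FFEmb3

/-!
Embeddings, part 4: `ℓ(P + Q) = 1` when there are no functions of degree `≤ 2`; degree bound
`[K : k(x)] ≤ deg D` for nonconstant `x ∈ L(D)`, `D ≥ 0`.
-/

set_option autoImplicit false

namespace Groth.Agent.Lib.Helper23.FF

open FunFld
open scoped IntermediateField

universe u v
variable {k : Type u} {K : Type v} [Field k] [Field K] [Algebra k K]

/-- A nonconstant element of `L(D)`, `D ≥ 0`, has degree at most `deg D`. -/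
theorem finrank_adjoin_le_deg (hK : IsFunctionField k K) {D : Divisor k K} (hD : 0 ≤ D) {x : K}
    (hx : Transcendental k x) (hxD : x ∈ L D) : (Module.finrank k⟮x⟯ K : ℤ) ≤ D.deg := by
  classical
  have hx0 : x ≠ 0 := by
    rintro rfl
    exact hx isAlgebraic_zero
  have hfin : {Q : Place k K | Q.1 x⁻¹ < 1}.Finite := finite_zeros hK (transcendental_inv hx)
  set Z := hfin.toFinset with hZdef
  have hZ : ∀ Q, Q ∈ Z ↔ Q.1 x⁻¹ < 1 := fun Q => by
    rw [hZdef, Set.Finite.mem_toFinset]; rfl
  rw [← deg_poleDiv hK hx Z hZ]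
  apply deg_mono
  intro R
  rw [zdiv_apply]
  split_ifs with hR
  · rw [Groth.Agent.Lib.Helper27.FF.ord_inv]
    have h := hxD R
    rw [val_eq_exp_neg_ord R hx0, WithZero.exp_le_exp] at h
    exact h
  · exact hD R

theorem ell_eq_one_of_no_small [IsAlgClosed k] (hK : IsFunctionField k K) {D : Divisor k K}
    (hD : 0 ≤ D) (hsmall : ∀ x : K, Transcendental k x → D.deg < Module.finrank k⟮x⟯ K) :
    ell D = 1 := by
  have hle : L (0 : Divisor k K) ≤ L D := L_mono hD
  haveI : FiniteDimensional k (L D) := Groth.Agent.Lib.Helper27.FF.finiteDimensional_L hK D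
  have h1 : 1 ≤ ell D := by
    rw [← ell_zero hK]
    exact Submodule.finrank_mono hle
  apply le_antisymm _ h1
  by_contra hcon
  rw [not_le] at hcon
  have hex : ∃ x ∈ L D, x ∉ Set.range (algebraMap k K) := by
    by_contra hno
    push Not at hno
    have h3 : L D ≤ L (0 : Divisor k K) := by
      intro x hx
      obtain ⟨c, rfl⟩ := hno x hx
      intro Q
      rw [Finsupp.zero_apply, WithZero.exp_zero]
      exact Q.2.1 c
    haveI : FiniteDimensional k (L (0 : Divisor k K)) :=
      Groth.Agent.Lib.Helper27.FF.finiteDimensional_L hK 0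
    have h4 : ell D ≤ ell (0 : Divisor k K) := Submodule.finrank_mono h3
    rw [ell_zero hK] at h4
    omega
  obtain ⟨x, hxD, hxk⟩ := hex
  have hx := transcendental_of_not_mem_range hK hxk
  have h5 := finrank_adjoin_le_deg hK hD hx hxD
  have h6 := hsmall x hx
  omega

end Groth.Agent.Lib.Helper23.FF
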