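import Mathlib
import Groth.Prelude.Def_W4bk4goldsch45
import Groth.Agent.Lib.Helper23.FFEmb4

/-!
The divisor `[φ]` of a projective map: basic API.
-/

set_option autoImplicit false

namespace Groth.Agent.Lib.Helper23.FF

open FunFld
open scoped IntermediateField

universe u v
variable {k : Type u} {K : Type v} [Field k] [Field K] [Algebra k K]

theorem mapDiv_support_finite (hK : IsFunctionField k K) {ι : Type*} [Fintype ι] [Nonempty ι]
    (φ : ι → K) :
    (Function.support fun P : Place k K =>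
      -Finset.univ.inf' Finset.univ_nonempty (fun i => P.ord (φ i))).Finite := by
  classical
  refine Set.Finite.subset (Set.finite_iUnion (fun i => finite_support_ord hK (φ i))) ?_
  intro Q hQ
  rw [Function.mem_support] at hQ
  by_contra hcon
  rw [Set.mem_iUnion, not_exists] at hcon
  apply hQ
  have h1 : ∀ i, Q.ord (φ i) = 0 := fun i => by
    have := hcon i
    rwa [Function.mem_support, not_not] at this
  simp [h1]

theorem mapDiv_apply (hK : IsFunctionField k K) {ι : Type*} [Fintype ι] [Nonempty ι]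
    (φ : ι → K) (Q : Place k K) :
    mapDiv k φ Q = -Finset.univ.inf' Finset.univ_nonempty (fun i => Q.ord (φ i)) := by
  unfold mapDiv
  rw [dif_pos (mapDiv_support_finite hK φ)]
  rfl

theorem neg_ord_le_mapDiv (hK : IsFunctionField k K) {ι : Type*} [Fintype ι] [Nonempty ι]
    (φ : ι → K) (Q : Place k K) (i : ι) : -Q.ord (φ i) ≤ mapDiv k φ Q := by
  rw [mapDiv_apply hK, neg_le_neg_iff]
  exact Finset.inf'_le _ (Finset.mem_univ i)

theorem exists_mapDiv_eq (hK : IsFunctionField k K) {ι : Type*} [Fintype ι] [Nonempty ι]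
    (φ : ι → K) (Q : Place k K) : ∃ i, mapDiv k φ Q = -Q.ord (φ i) := by
  obtain ⟨i, -, hi⟩ := Finset.exists_mem_eq_inf' Finset.univ_nonempty (fun i => Q.ord (φ i))
  exact ⟨i, by rw [mapDiv_apply hK, hi]⟩

theorem mem_L_mapDiv (hK : IsFunctionField k K) {ι : Type*} [Fintype ι] [Nonempty ι]
    (φ : ι → K) (i : ι) : φ i ∈ L (mapDiv k φ) := by
  intro Q
  by_cases h0 : φ i = 0
  · rw [h0, map_zero]
    exact zero_le
  · rw [val_eq_exp_neg_ord Q h0, WithZero.exp_le_exp]
    exact neg_ord_le_mapDiv hK φ Q i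

theorem span_le_L_mapDiv (hK : IsFunctionField k K) {ι : Type*} [Fintype ι] [Nonempty ι]
    (φ : ι → K) : Submodule.span k (Set.range φ) ≤ L (mapDiv k φ) := by
  rw [Submodule.span_le]
  rintro _ ⟨i, rfl⟩
  exact mem_L_mapDiv hK φ i

/-- If no entry is zero, some entry attains the value `exp ([φ] Q)` at `Q`. -/
theorem exists_val_eq_exp_mapDiv (hK : IsFunctionField k K) {ι : Type*} [Fintype ι] [Nonempty ι]
    (φ : ι → K) (h0 : ∀ i, φ i ≠ 0) (Q : Place k K) :
    ∃ i, Q.1 (φ i) = WithZero.exp (mapDiv k φ Q) := by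
  obtain ⟨i, hi⟩ := exists_mapDiv_eq hK φ Q
  exact ⟨i, by rw [val_eq_exp_neg_ord Q (h0 i), hi]⟩

end Groth.Agent.Lib.Helper23.FF
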