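import Mathlib
import Groth.Prelude.Def_W4bk4goldsch45
import Groth.Agent.Lib.Helper23.FFMap1

/-!
Subspaces of `L(E)` and vanishing conditions at places (codimension counts).
-/

set_option autoImplicit false

namespace Groth.Agent.Lib.Helper23.FF

open FunFld
open scoped IntermediateField

universe u v
variable {k : Type u} {K : Type v} [Field k] [Field K] [Algebra k K]

theorem mem_L_sub_single_iff (E : Divisor k K) (P : Place k K) (f : K) :
    f ∈ L (E - Finsupp.single P 1) ↔ f ∈ L E ∧ P.1 f < WithZero.exp (E P) := by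
  classical
  constructor
  · intro hf
    refine ⟨L_mono (by rw [sub_le_self_iff]; exact Finsupp.single_nonneg.mpr zero_le_one) hf, ?_⟩
    have h := hf P
    rw [Finsupp.sub_apply, Finsupp.single_eq_same] at h
    exact (lt_exp_iff_le_exp_sub_one _ _).mpr h
  · rintro ⟨hf, hP⟩ Q
    by_cases hQ : Q = P
    · subst hQ
      rw [Finsupp.sub_apply, Finsupp.single_eq_same]
      exact (lt_exp_iff_le_exp_sub_one _ _).mp hP
    · rw [Finsupp.sub_apply, Finsupp.single_apply, if_neg (fun h => hQ h.symm), sub_zero]
      exact hf Q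

theorem val_eq_of_mem_of_not_mem {E : Divisor k K} {P : Place k K} {f : K} (hf : f ∈ L E)
    (hf' : f ∉ L (E - Finsupp.single P 1)) : P.1 f = WithZero.exp (E P) := by
  rw [mem_L_sub_single_iff, not_and, not_lt] at hf'
  exact le_antisymm (hf P) (hf' hf)

/-- Imposing one more vanishing condition at a place of degree one drops the dimension by at most
one. -/
theorem finrank_le_finrank_inf_add_one (P : Place k K) (hP : P.deg = 1)
    (W' : Submodule k K) [FiniteDimensional k W'] (E : Divisor k K) (hW' : W' ≤ L E) :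
    Module.finrank k W' ≤ Module.finrank k ↥(W' ⊓ L (E - Finsupp.single P 1)) + 1 := by
  by_cases h : W' ≤ L (E - Finsupp.single P 1)
  · rw [inf_eq_left.mpr h]
    exact Nat.le_succ _
  · rw [SetLike.not_le_iff_exists] at h
    obtain ⟨h₀, hh₀W, hh₀⟩ := h
    have hPh₀ : P.1 h₀ = WithZero.exp (E P) := val_eq_of_mem_of_not_mem (hW' hh₀W) hh₀
    have hh₀0 : h₀ ≠ 0 := by
      rintro rfl
      rw [map_zero] at hPh₀
      exact WithZero.exp_ne_zero hPh₀.symm
    have hle : W' ≤ (W' ⊓ L (E - Finsupp.single P 1)) ⊔ Submodule.span k {h₀} := by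
      intro f hf
      have h1 : P.1 (f / h₀) ≤ 1 := by
        rw [map_div₀, hPh₀]
        exact div_le_one_of_le₀ (hW' hf P) zero_le
      obtain ⟨c, hc⟩ := exists_const_val_sub_lt_one P hP h1
      have h2 : f - c • h₀ = h₀ * (f / h₀ - algebraMap k K c) := by
        rw [Algebra.smul_def]
        field_simp
      have h3 : f - c • h₀ ∈ W' := W'.sub_mem hf (W'.smul_mem c hh₀W)
      have h4 : f - c • h₀ ∈ L (E - Finsupp.single P 1) := by
        rw [mem_L_sub_single_iff]
        refine ⟨hW' h3, ?_⟩
        rw [h2, map_mul, hPh₀]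
        calc WithZero.exp (E P) * P.1 (f / h₀ - algebraMap k K c)
            < WithZero.exp (E P) * 1 := by
              exact mul_lt_mul_of_pos_left hc (zero_lt_iff.mpr WithZero.exp_ne_zero)
          _ = WithZero.exp (E P) := mul_one _
      have h5 : f = (f - c • h₀) + c • h₀ := by ring
      rw [h5]
      exact Submodule.add_mem_sup ⟨h3, h4⟩
        (Submodule.smul_mem _ c (Submodule.subset_span rfl))
    calc Module.finrank k W'
        ≤ Module.finrank k ↥((W' ⊓ L (E - Finsupp.single P 1)) ⊔ Submodule.span k {h₀}) :=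
          Submodule.finrank_mono hle
      _ ≤ Module.finrank k ↥(W' ⊓ L (E - Finsupp.single P 1))
            + Module.finrank k ↥(Submodule.span k {h₀}) :=
          Submodule.finrank_add_le_finrank_add_finrank _ _
      _ ≤ Module.finrank k ↥(W' ⊓ L (E - Finsupp.single P 1)) + 1 := by
          rw [finrank_span_singleton hh₀0]

theorem exists_mem_val_eq_of_finrank_lt {W' : Submodule k K} {E : Divisor k K} {P : Place k K}
    (hW' : W' ≤ L E)
    (hlt : Module.finrank k ↥(W' ⊓ L (E - Finsupp.single P 1)) < Module.finrank k W') :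
    ∃ h ∈ W', P.1 h = WithZero.exp (E P) := by
  by_contra hcon
  push Not at hcon
  have h1 : W' ≤ L (E - Finsupp.single P 1) := by
    intro f hf
    rw [mem_L_sub_single_iff]
    exact ⟨hW' hf, lt_of_le_of_ne (hW' hf P) (hcon f hf)⟩
  rw [inf_eq_left.mpr h1] at hlt
  exact lt_irrefl _ hlt

end Groth.Agent.Lib.Helper23.FF
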