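import Mathlib
import Groth.Prelude.Def_W4bk4goldsch23FF
import Groth.Agent.Lib.Helper23.FFAC

/-!
Function fields, part 7: counting pole numbers and gaps at a place of degree one.
-/

set_option autoImplicit false

namespace Groth.Agent.Lib.Helper23.FF

open FunFld Polynomial
open scoped IntermediateField

universe u v
variable {k : Type u} {K : Type v} [Field k] [Field K] [Algebra k K]

/-! ### numerical semigroups: pure combinatorics -/

section comb

variable (H : ℕ → Prop) [DecidablePred H]

/-- gaps `≤ n`. -/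
def gapsLE (n : ℕ) : Finset ℕ := (Finset.range (n + 1)).filter (fun m => ¬ H m)

theorem mem_gapsLE {n m : ℕ} : m ∈ gapsLE H n ↔ m ≤ n ∧ ¬ H m := by
  unfold gapsLE
  rw [Finset.mem_filter, Finset.mem_range, Nat.lt_succ_iff]

theorem card_gapsLE_mono {n n' : ℕ} (h : n ≤ n') : (gapsLE H n).card ≤ (gapsLE H n').card := by
  apply Finset.card_le_card
  intro m hm
  rw [mem_gapsLE] at hm ⊢
  exact ⟨hm.1.trans h, hm.2⟩

theorem succ_le_two_mul_card_gapsLE (hadd : ∀ a b, H a → H b → H (a + b)) {γ : ℕ} (hγ : ¬ H γ) :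
    γ + 1 ≤ 2 * (gapsLE H γ).card := by
  have h1 : ((Finset.range (γ + 1)).filter (fun m => H m)).card + (gapsLE H γ).card = γ + 1 := by
    unfold gapsLE
    rw [Finset.card_filter_add_card_filter_not, Finset.card_range]
  have h2 : ((Finset.range (γ + 1)).filter (fun m => H m)).card ≤ (gapsLE H γ).card := by
    apply Finset.card_le_card_of_injOn (fun m => γ - m)
    · intro m hm
      rw [Finset.mem_coe, Finset.mem_filter, Finset.mem_range] at hm
      rw [Finset.mem_coe, mem_gapsLE]
      refine ⟨Nat.sub_le _ _, fun hH => hγ ?_⟩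
      have := hadd _ _ hm.2 hH
      rwa [Nat.add_sub_cancel' (Nat.lt_succ_iff.mp hm.1)] at this
    · intro m hm m' hm' heq
      rw [Finset.mem_coe, Finset.mem_filter, Finset.mem_range] at hm hm'
      simp only at heq
      omega
  omega

theorem le_card_gapsLE (hadd : ∀ a b, H a → H b → H (a + b)) {l : ℕ} (hl : 1 ≤ l) {M : ℕ}
    (hM : l ≤ (gapsLE H M).card) : l ≤ (gapsLE H (2 * l - 1)).card := by
  by_contra hlt
  rw [not_le] at hlt
  have hex : ∃ γ, ¬ H γ ∧ 2 * l ≤ γ := by
    by_contra hno
    push Not at hno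
    have hsub : gapsLE H M ⊆ gapsLE H (2 * l - 1) := by
      intro m hm
      rw [mem_gapsLE] at hm ⊢
      have := hno m hm.2
      exact ⟨by omega, hm.2⟩
    have := Finset.card_le_card hsub
    omega
  classical
  let γ := Nat.find hex
  have hγ : ¬ H γ ∧ 2 * l ≤ γ := Nat.find_spec hex
  have hmin : ∀ m, ¬ H m → 2 * l ≤ m → γ ≤ m := fun m h1 h2 => Nat.find_min' hex ⟨h1, h2⟩
  have hsub : gapsLE H γ ⊆ insert γ (gapsLE H (2 * l - 1)) := by
    intro m hm
    rw [mem_gapsLE] at hm
    rw [Finset.mem_insert, mem_gapsLE]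
    by_cases h : 2 * l ≤ m
    · left
      exact le_antisymm hm.1 (hmin m hm.2 h)
    · right
      exact ⟨by omega, hm.2⟩
  have h1 := Finset.card_le_card hsub
  have h2 := Finset.card_insert_le γ (gapsLE H (2 * l - 1))
  have h3 := succ_le_two_mul_card_gapsLE H hadd hγ.1
  omega

end comb

/-! ### counting -/

open scoped Classical in
theorem ell_single_nat (hK : IsFunctionField k K) (P : Place k K) (hP : P.deg = 1) (n : ℕ) :
    ell (Finsupp.single P (n : ℤ) : Divisor k K) =
      ((Finset.range (n + 1)).filter (fun m : ℕ => IsPoleNumber P (m : ℤ))).card := by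
  induction n with
  | zero =>
    rw [Nat.cast_zero, Finsupp.single_zero, ell_zero hK]
    have : (Finset.range (0 + 1)).filter (fun m : ℕ => IsPoleNumber P (m : ℤ)) = {0} := by
      ext m
      rw [Finset.mem_filter, Finset.mem_range, Finset.mem_singleton]
      constructor
      · rintro ⟨h, -⟩; omega
      · rintro rfl
        exact ⟨by omega, by rw [Nat.cast_zero]; exact isPoleNumber_zero P⟩
    rw [this, Finset.card_singleton]
  | succ n ih =>
    rw [ell_single_succ hK P hP ((n + 1 : ℕ) : ℤ)]
    have e : ((n + 1 : ℕ) : ℤ) - 1 = (n : ℤ) := by push_cast; ring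
    rw [e, ih, Finset.range_add_one (n := n + 1), Finset.filter_insert]
    split_ifs with h
    · rw [Finset.card_insert_of_notMem]
      intro hmem
      rw [Finset.mem_filter, Finset.mem_range] at hmem
      omega
    · rfl

open scoped Classical in
/-- `ℓ(nP) + #gaps ≤ n = n + 1`. -/
theorem ell_single_add_card_gaps (hK : IsFunctionField k K) (P : Place k K) (hP : P.deg = 1)
    (n : ℕ) :
    ell (Finsupp.single P (n : ℤ) : Divisor k K) +
      (gapsLE (fun m : ℕ => IsPoleNumber P (m : ℤ)) n).card = n + 1 := by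
  rw [ell_single_nat hK P hP]
  unfold gapsLE
  rw [Finset.card_filter_add_card_filter_not, Finset.card_range]

theorem isPoleNumber_nat_add (P : Place k K) (a b : ℕ) (ha : IsPoleNumber P (a : ℤ))
    (hb : IsPoleNumber P (b : ℤ)) : IsPoleNumber P ((a + b : ℕ) : ℤ) := by
  rw [Nat.cast_add]
  exact ha.add hb

open scoped Classical in
/-- For `n` large the number of gaps `≤ n` is the genus. -/
theorem exists_card_gaps_eq_genus (hK : IsFunctionField k K) (P : Place k K) (hP : P.deg = 1) :
    ∃ N : ℕ, ∀ n : ℕ, N ≤ n →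
      (gapsLE (fun m : ℕ => IsPoleNumber P (m : ℤ)) n).card = genus k K := by
  obtain ⟨N, hN⟩ := (riemann hK).2
  refine ⟨N.toNat, fun n hn => ?_⟩
  have h1 := hN (Finsupp.single P (n : ℤ)) (by
    rw [deg_single, hP]
    have := Int.self_le_toNat N
    push_cast
    omega)
  rw [deg_single, hP] at h1
  have h2 := ell_single_add_card_gaps hK P hP n
  have h3 : ((ell (Finsupp.single P (n : ℤ) : Divisor k K) : ℕ) : ℤ) +
      ((gapsLE (fun m : ℕ => IsPoleNumber P (m : ℤ)) n).card : ℤ) = (n : ℤ) + 1 := by
    exact_mod_cast h2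
  have h4 : ((gapsLE (fun m : ℕ => IsPoleNumber P (m : ℤ)) n).card : ℤ) = genus k K := by
    push_cast at h1
    linarith
  exact_mod_cast h4

open scoped Classical in
/-- The number of gaps `≤ n` never exceeds the genus. -/
theorem card_gaps_le_genus (hK : IsFunctionField k K) (P : Place k K) (hP : P.deg = 1) (n : ℕ) :
    (gapsLE (fun m : ℕ => IsPoleNumber P (m : ℤ)) n).card ≤ genus k K := by
  obtain ⟨N, hN⟩ := exists_card_gaps_eq_genus hK P hP
  rw [← hN (max N n) (le_max_left _ _)]
  exact card_gapsLE_mono _ (le_max_right _ _)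

open scoped Classical in
/-- The `l`-th gap is at most `2l - 1`. -/
theorem le_card_gaps_two_mul_sub_one (hK : IsFunctionField k K) (P : Place k K) (hP : P.deg = 1)
    {l : ℕ} (hl : 1 ≤ l) (hlg : l ≤ genus k K) :
    l ≤ (gapsLE (fun m : ℕ => IsPoleNumber P (m : ℤ)) (2 * l - 1)).card := by
  obtain ⟨N, hN⟩ := exists_card_gaps_eq_genus hK P hP
  apply le_card_gapsLE (fun m : ℕ => IsPoleNumber P (m : ℤ)) (isPoleNumber_nat_add P) hl (M := N)
  rw [hN N le_rfl]
  exact hlg

open scoped Classical in
/-- If `ℓ(P) ≥ 2` for a place of degree one then the genus is `0`. -/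
theorem genus_eq_zero_of_two_le_ell_single (hK : IsFunctionField k K) (P : Place k K)
    (hP : P.deg = 1) (h : 2 ≤ ell (Finsupp.single P (1 : ℤ) : Divisor k K)) : genus k K = 0 := by
  have h1 := ell_single_succ hK P hP 1
  rw [sub_self, Finsupp.single_zero, ell_zero hK] at h1
  have hp1 : IsPoleNumber P 1 := by
    by_contra hno
    rw [if_neg hno] at h1
    omega
  have hall : ∀ n : ℕ, IsPoleNumber P (n : ℤ) := by
    intro n
    induction n with
    | zero => rw [Nat.cast_zero]; exact isPoleNumber_zero P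
    | succ n ih =>
      rw [Nat.cast_succ]
      exact ih.add hp1
  obtain ⟨N, hN⟩ := exists_card_gaps_eq_genus hK P hP
  rw [← hN N le_rfl, Finset.card_eq_zero]
  ext m
  rw [mem_gapsLE]
  simp only [Finset.notMem_empty, iff_false, not_and, not_not]
  exact fun _ => hall m

end Groth.Agent.Lib.Helper23.FF
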