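import Mathlib
import Groth.Prelude.Def_W4c6gradedringsgwSect
import Groth.Agent.Lib.Helper23.FFCod1

/-!
Section rings, part 1: the residue ("leading coefficient") map at a place of degree one.
-/

set_option autoImplicit false

namespace Groth.Agent.Lib.Helper23.FF

open FunFld

universe u v
variable {k : Type u} {K : Type v} [Field k] [Field K] [Algebra k K]

open scoped Classical in
/-- The residue of `z` at `P`, as an element of `k` (`0` if `z` is not integral at `P`). -/
noncomputable def lc (P : Place k K) (z : K) : k :=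
  if h : ∃ c : k, P.1 (z - algebraMap k K c) < 1 then h.choose else 0

theorem lc_eq (P : Place k K) {z : K} {c : k} (h : P.1 (z - algebraMap k K c) < 1) :
    lc P z = c := by
  have hex : ∃ c : k, P.1 (z - algebraMap k K c) < 1 := ⟨c, h⟩
  unfold lc
  rw [dif_pos hex]
  exact const_unique P hex.choose_spec h

theorem lc_spec (P : Place k K) (hP : P.deg = 1) {z : K} (hz : P.1 z ≤ 1) :
    P.1 (z - algebraMap k K (lc P z)) < 1 := by
  obtain ⟨c, hc⟩ := exists_const_val_sub_lt_one P hP hz
  rw [lc_eq P hc]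
  exact hc

theorem lc_algebraMap (P : Place k K) (c : k) : lc P (algebraMap k K c) = c := by
  apply lc_eq
  rw [sub_self, map_zero]
  exact zero_lt_one

theorem lc_zero (P : Place k K) : lc P (0 : K) = 0 := by
  have := lc_algebraMap P (0 : k)
  rwa [map_zero] at this

theorem lc_one (P : Place k K) : lc P (1 : K) = 1 := by
  have := lc_algebraMap P (1 : k)
  rwa [map_one] at this

theorem lc_of_lt (P : Place k K) {z : K} (h : P.1 z < 1) : lc P z = 0 := by
  apply lc_eq
  rwa [map_zero, sub_zero]

theorem lc_eq_zero_iff (P : Place k K) (hP : P.deg = 1) {z : K} (hz : P.1 z ≤ 1) :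
    lc P z = 0 ↔ P.1 z < 1 := by
  constructor
  · intro h
    have := lc_spec P hP hz
    rwa [h, map_zero, sub_zero] at this
  · exact lc_of_lt P

theorem lc_add (P : Place k K) (hP : P.deg = 1) {z w : K} (hz : P.1 z ≤ 1) (hw : P.1 w ≤ 1) :
    lc P (z + w) = lc P z + lc P w := by
  apply lc_eq
  have h1 := lc_spec P hP hz
  have h2 := lc_spec P hP hw
  have e : z + w - algebraMap k K (lc P z + lc P w)
      = (z - algebraMap k K (lc P z)) + (w - algebraMap k K (lc P w)) := by
    rw [map_add]; ring
  rw [e]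
  exact lt_of_le_of_lt (P.1.map_add _ _) (max_lt h1 h2)

theorem lc_mul (P : Place k K) (hP : P.deg = 1) {z w : K} (hz : P.1 z ≤ 1) (hw : P.1 w ≤ 1) :
    lc P (z * w) = lc P z * lc P w := by
  apply lc_eq
  have h1 := lc_spec P hP hz
  have h2 := lc_spec P hP hw
  have e : z * w - algebraMap k K (lc P z * lc P w)
      = (z - algebraMap k K (lc P z)) * w + algebraMap k K (lc P z) * (w - algebraMap k K (lc P w)) := by
    rw [map_mul]; ring
  rw [e]
  refine lt_of_le_of_lt (P.1.map_add _ _) (max_lt ?_ ?_)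
  · rw [map_mul]
    calc P.1 (z - algebraMap k K (lc P z)) * P.1 w
        ≤ P.1 (z - algebraMap k K (lc P z)) * 1 := mul_le_mul' le_rfl hw
      _ = P.1 (z - algebraMap k K (lc P z)) := mul_one _
      _ < 1 := h1
  · rw [map_mul]
    calc P.1 (algebraMap k K (lc P z)) * P.1 (w - algebraMap k K (lc P w))
        ≤ 1 * P.1 (w - algebraMap k K (lc P w)) := mul_le_mul' (P.2.1 _) le_rfl
      _ = P.1 (w - algebraMap k K (lc P w)) := one_mul _
      _ < 1 := h2

theorem lc_smul (P : Place k K) (hP : P.deg = 1) (c : k) {z : K} (hz : P.1 z ≤ 1) :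
    lc P (c • z) = c * lc P z := by
  rw [Algebra.smul_def, lc_mul P hP (P.2.1 c) hz, lc_algebraMap]

theorem lc_sum (P : Place k K) (hP : P.deg = 1) {ι : Type*} (s : Finset ι) (f : ι → K)
    (hf : ∀ i ∈ s, P.1 (f i) ≤ 1) : lc P (∑ i ∈ s, f i) = ∑ i ∈ s, lc P (f i) := by
  classical
  induction s using Finset.induction_on with
  | empty => simp [lc_zero]
  | insert a s ha ih =>
    rw [Finset.sum_insert ha, Finset.sum_insert ha]
    have h1 : P.1 (∑ i ∈ s, f i) ≤ 1 :=
      Valuation.map_sum_le P.1 (fun i hi => hf i (Finset.mem_insert_of_mem hi))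
    rw [lc_add P hP (hf a (Finset.mem_insert_self a s)) h1,
      ih (fun i hi => hf i (Finset.mem_insert_of_mem hi))]

end Groth.Agent.Lib.Helper23.FF
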