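import Mathlib
import Groth.Prelude.Def_W4c6gradedringsgwSect
import Groth.Agent.Lib.Helper23.FFSect1

/-!
Section rings, part 2: the leading-coefficient homomorphism `R_P → k[X]`.
-/

set_option autoImplicit false

namespace Groth.Agent.Lib.Helper23.FF

open FunFld Polynomial W4c6gradedringsgw

universe u v
variable {k : Type u} {K : Type v} [Field k] [Field K] [Algebra k K]

/-- The underlying function of the leading-coefficient map. -/
noncomputable def psiFun (P : Place k K) (π : K) (p : K[X]) : k[X] :=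
  ∑ n ∈ Finset.range (p.natDegree + 1), Polynomial.monomial n (lc P (p.coeff n * π ^ n))

theorem coeff_psiFun (P : Place k K) (π : K) (p : K[X]) (n : ℕ) :
    (psiFun P π p).coeff n = lc P (p.coeff n * π ^ n) := by
  classical
  unfold psiFun
  rw [Polynomial.finsetSum_coeff]
  simp only [Polynomial.coeff_monomial]
  rw [Finset.sum_ite_eq' (Finset.range (p.natDegree + 1)) n]
  split_ifs with h
  · rfl
  · rw [Finset.mem_range, not_lt] at h
    rw [Polynomial.coeff_eq_zero_of_natDegree_lt (by omega), zero_mul, lc_zero]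

theorem single_smul_apply_self (P : Place k K) (n : ℕ) :
    ((n : ℤ) • (Finsupp.single P 1 : Divisor k K)) P = n := by
  rw [Finsupp.smul_apply, Finsupp.single_eq_same, smul_eq_mul, mul_one]

theorem val_coeff_mul_pow_le_one (P : Place k K) {π : K} (hπ : P.1 π = WithZero.exp (-1))
    {p : K[X]} (hp : p ∈ sectRing (Finsupp.single P 1 : Divisor k K)) (n : ℕ) :
    P.1 (p.coeff n * π ^ n) ≤ 1 := by
  have h1 := hp n P
  rw [single_smul_apply_self] at h1
  rw [map_mul, map_pow, hπ, ← WithZero.exp_nsmul]
  calc P.1 (p.coeff n) * WithZero.exp (n • (-1 : ℤ))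
      ≤ WithZero.exp (n : ℤ) * WithZero.exp (n • (-1 : ℤ)) := mul_le_mul' h1 le_rfl
    _ = 1 := by
        rw [← WithZero.exp_add]
        simp

/-- The leading-coefficient homomorphism. -/
noncomputable def psi (P : Place k K) (hP : P.deg = 1) (π : K) (hπ : P.1 π = WithZero.exp (-1)) :
    ↥(sectRing (Finsupp.single P 1 : Divisor k K)) →ₐ[k] k[X] where
  toFun p := psiFun P π p.1
  map_one' := by
    ext n
    rw [coeff_psiFun]
    show lc P ((1 : K[X]).coeff n * π ^ n) = (1 : k[X]).coeff n
    rw [Polynomial.coeff_one, Polynomial.coeff_one]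
    split_ifs with h
    · subst h
      rw [pow_zero, mul_one, lc_one]
    · rw [zero_mul, lc_zero]
  map_mul' p q := by
    ext n
    rw [coeff_psiFun, Polynomial.coeff_mul]
    show lc P ((p.1 * q.1).coeff n * π ^ n) = _
    rw [Polynomial.coeff_mul, Finset.sum_mul]
    have h1 : ∀ x ∈ Finset.HasAntidiagonal.antidiagonal n, p.1.coeff x.1 * q.1.coeff x.2 * π ^ n
        = (p.1.coeff x.1 * π ^ x.1) * (q.1.coeff x.2 * π ^ x.2) := by
      intro x hx
      rw [← Finset.HasAntidiagonal.mem_antidiagonal.mp hx, pow_add]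
      ring
    rw [Finset.sum_congr rfl h1, lc_sum P hP]
    · refine Finset.sum_congr rfl fun x _ => ?_
      rw [lc_mul P hP (val_coeff_mul_pow_le_one P hπ p.2 x.1)
        (val_coeff_mul_pow_le_one P hπ q.2 x.2), coeff_psiFun, coeff_psiFun]
    · intro x _
      rw [map_mul]
      exact mul_le_one' (val_coeff_mul_pow_le_one P hπ p.2 x.1)
        (val_coeff_mul_pow_le_one P hπ q.2 x.2)
  map_zero' := by
    ext n
    rw [coeff_psiFun]
    show lc P ((0 : K[X]).coeff n * π ^ n) = (0 : k[X]).coeff n
    rw [Polynomial.coeff_zero, zero_mul, lc_zero, Polynomial.coeff_zero]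
  map_add' p q := by
    ext n
    rw [coeff_psiFun, Polynomial.coeff_add, coeff_psiFun, coeff_psiFun]
    show lc P ((p.1 + q.1).coeff n * π ^ n) = _
    rw [Polynomial.coeff_add, add_mul, lc_add P hP (val_coeff_mul_pow_le_one P hπ p.2 n)
      (val_coeff_mul_pow_le_one P hπ q.2 n)]
  commutes' c := by
    ext n
    rw [coeff_psiFun]
    show lc P ((algebraMap k K[X] c).coeff n * π ^ n) = (algebraMap k k[X] c).coeff n
    rw [Polynomial.algebraMap_apply, Polynomial.algebraMap_apply, Polynomial.coeff_C,
      Polynomial.coeff_C]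
    split_ifs with h
    · subst h
      rw [pow_zero, mul_one, lc_algebraMap]
      rfl
    · rw [zero_mul, lc_zero]

theorem coeff_psi (P : Place k K) (hP : P.deg = 1) (π : K) (hπ : P.1 π = WithZero.exp (-1))
    (p : ↥(sectRing (Finsupp.single P 1 : Divisor k K))) (n : ℕ) :
    (psi P hP π hπ p).coeff n = lc P (p.1.coeff n * π ^ n) :=
  coeff_psiFun P π p.1 n

end Groth.Agent.Lib.Helper23.FF
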