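import Mathlib
import Groth.Prelude.Def_W4c6gradedringsgwSect
import Groth.Agent.Lib.Helper23.FFSect2
import Groth.Agent.Lib.Helper23.FFGap

/-!
Section rings, part 3: the kernel of the leading-coefficient homomorphism.
-/

set_option autoImplicit false

namespace Groth.Agent.Lib.Helper23.FF

open FunFld Polynomial W4c6gradedringsgw

universe u v
variable {k : Type u} {K : Type v} [Field k] [Field K] [Algebra k K]

theorem smul_single_one (P : Place k K) (m : ℤ) :
    m • (Finsupp.single P 1 : Divisor k K) = Finsupp.single P m := by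
  rw [Finsupp.smul_single, smul_eq_mul, mul_one]

/-- For positive genus, `L(P) = k`. -/
theorem mem_range_of_mem_L_single_one (hK : IsFunctionField k K) (hg : 1 ≤ genus k K)
    (P : Place k K) (hP : P.deg = 1) {a : K} (ha : a ∈ L (Finsupp.single P (1 : ℤ) : Divisor k K)) :
    a ∈ Set.range (algebraMap k K) := by
  have h1 : ell (Finsupp.single P (1 : ℤ) : Divisor k K) ≤ 1 := by
    by_contra h
    have := genus_eq_zero_of_two_le_ell_single hK P hP (by omega)
    omega
  have hle : L (0 : Divisor k K) ≤ L (Finsupp.single P (1 : ℤ) : Divisor k K) :=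
    L_mono (Finsupp.single_nonneg.mpr zero_le_one)
  haveI := Groth.Agent.Lib.Helper27.FF.finiteDimensional_L hK (Finsupp.single P (1 : ℤ))
  have heq : L (0 : Divisor k K) = L (Finsupp.single P (1 : ℤ) : Divisor k K) :=
    Submodule.eq_of_le_of_finrank_le hle (by
      have := ell_zero hK (k := k) (K := K)
      unfold ell at this h1
      omega)
  rw [← heq, Groth.Agent.Lib.Helper27.FF.L_zero hK] at ha
  obtain ⟨c, rfl⟩ := Submodule.mem_one.mp ha
  exact ⟨c, rfl⟩

/-- membership in the kernel, coefficientwise -/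
theorem psi_eq_zero_iff (P : Place k K) (hP : P.deg = 1) (π : K) (hπ : P.1 π = WithZero.exp (-1))
    (p : ↥(sectRing (Finsupp.single P 1 : Divisor k K))) :
    psi P hP π hπ p = 0 ↔ ∀ n : ℕ, P.1 (p.1.coeff n) < WithZero.exp (n : ℤ) := by
  have hπ0 : π ≠ 0 := by
    rintro rfl
    rw [map_zero] at hπ
    exact WithZero.exp_ne_zero hπ.symm
  have key : ∀ n : ℕ, lc P (p.1.coeff n * π ^ n) = 0 ↔ P.1 (p.1.coeff n) < WithZero.exp (n : ℤ) := by
    intro n
    rw [lc_eq_zero_iff P hP (val_coeff_mul_pow_le_one P hπ p.2 n), map_mul, map_pow, hπ,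
      ← WithZero.exp_nsmul]
    have h2 : WithZero.exp (n • (-1 : ℤ)) = (WithZero.exp (n : ℤ))⁻¹ := by
      rw [← WithZero.exp_neg]
      congr 1
      simp
    rw [h2, ← div_eq_mul_inv, div_lt_one₀ (zero_lt_iff.mpr WithZero.exp_ne_zero)]
  constructor
  · intro h n
    rw [← key n, ← coeff_psi P hP π hπ p n, h, Polynomial.coeff_zero]
  · intro h
    ext n
    rw [coeff_psi, Polynomial.coeff_zero]
    exact (key n).mpr (h n)

theorem ker_psi (hK : IsFunctionField k K) (hg : 1 ≤ genus k K)
    (P : Place k K) (hP : P.deg = 1) (π : K) (hπ : P.1 π = WithZero.exp (-1))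
    (t : ↥(sectRing (Finsupp.single P 1 : Divisor k K))) (a : K) (ha : a ≠ 0)
    (ht : (t : K[X]) = Polynomial.C a * Polynomial.X) :
    RingHom.ker (psi P hP π hπ) = Ideal.span {t} := by
  classical
  -- `a` is a nonzero constant
  have haL : a ∈ L (Finsupp.single P (1 : ℤ) : Divisor k K) := by
    have h1 := t.2 1
    rw [ht, Polynomial.coeff_C_mul, Polynomial.coeff_X_one, mul_one, Nat.cast_one, one_smul] at h1
    exact h1
  obtain ⟨c, rfl⟩ := mem_range_of_mem_L_single_one hK hg P hP haL
  have hc0 : c ≠ 0 := by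
    rintro rfl
    exact ha (map_zero _)
  have hPa : P.1 (algebraMap k K c) = 1 := val_const P hc0
  apply le_antisymm
  · intro p hp
    rw [RingHom.mem_ker] at hp
    have hp' := (psi_eq_zero_iff P hP π hπ p).mp hp
    -- constant coefficient vanishes
    have h0 : p.1.coeff 0 = 0 := by
      have h1 := p.2 0
      rw [Nat.cast_zero, zero_smul, Groth.Agent.Lib.Helper27.FF.L_zero hK] at h1
      obtain ⟨d, hd⟩ := Submodule.mem_one.mp h1
      have h2 := hp' 0
      rw [← hd, Nat.cast_zero, WithZero.exp_zero] at h2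
      by_contra hne
      have hd0 : d ≠ 0 := by
        rintro rfl
        rw [map_zero] at hd
        exact hne hd.symm
      rw [val_const P hd0] at h2
      exact lt_irrefl _ h2
    -- the quotient
    have hq : Polynomial.C (algebraMap k K c⁻¹) * Polynomial.divX p.1 ∈
        sectRing (Finsupp.single P 1 : Divisor k K) := by
      intro n
      rw [Polynomial.coeff_C_mul, Polynomial.coeff_divX, ← Algebra.smul_def]
      apply Submodule.smul_mem
      rw [smul_single_one]
      have h1 := p.2 (n + 1)
      rw [smul_single_one] at h1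
      have h2 := hp' (n + 1)
      have h3 : p.1.coeff (n + 1) ∈ L (Finsupp.single P ((n + 1 : ℕ) : ℤ) - Finsupp.single P 1) := by
        rw [mem_L_sub_single_iff]
        refine ⟨h1, ?_⟩
        rw [Finsupp.single_eq_same]
        exact h2
      rw [← Finsupp.single_sub] at h3
      have e : (((n + 1 : ℕ) : ℤ) - 1) = (n : ℤ) := by push_cast; ring
      rwa [e] at h3
    rw [Ideal.mem_span_singleton']
    refine ⟨⟨_, hq⟩, ?_⟩
    apply Subtype.ext
    show Polynomial.C (algebraMap k K c⁻¹) * Polynomial.divX p.1 * t.1 = p.1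
    rw [ht]
    have h1 := Polynomial.divX_mul_X_add p.1
    rw [h0, map_zero, add_zero] at h1
    calc Polynomial.C (algebraMap k K c⁻¹) * Polynomial.divX p.1 *
          (Polynomial.C (algebraMap k K c) * Polynomial.X)
        = Polynomial.C (algebraMap k K c⁻¹ * algebraMap k K c) * (Polynomial.divX p.1 * Polynomial.X) := by
          rw [map_mul]; ring
      _ = p.1 := by
          rw [← map_mul, inv_mul_cancel₀ hc0, map_one, map_one, one_mul, h1]
  · rw [Ideal.span_le, Set.singleton_subset_iff]
    show t ∈ RingHom.ker (psi P hP π hπ)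
    rw [RingHom.mem_ker, psi_eq_zero_iff]
    intro n
    rw [ht, Polynomial.coeff_C_mul, Polynomial.coeff_X]
    split_ifs with h
    · subst h
      rw [mul_one, hPa, ← WithZero.exp_zero, WithZero.exp_lt_exp]
      norm_num
    · rw [mul_zero, map_zero]
      exact zero_lt_iff.mpr WithZero.exp_ne_zero

end Groth.Agent.Lib.Helper23.FF
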