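import Mathlib
import Groth.Prelude.Def_W4c6gradedringsgwSect
import Groth.Agent.Lib.Helper23.FFSect3

/-!
Section rings, part 4: the range of the leading-coefficient homomorphism.
-/

set_option autoImplicit false

namespace Groth.Agent.Lib.Helper23.FF

open FunFld Polynomial W4c6gradedringsgw

universe u v
variable {k : Type u} {K : Type v} [Field k] [Field K] [Algebra k K]

/-- The inclusion of the semigroup algebra of a submonoid of `ℕ` into `k[X]`. -/
noncomputable def iota (k : Type u) [Field k] (H' : AddSubmonoid ℕ) :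
    AddMonoidAlgebra k ↥H' →ₐ[k] k[X] :=
  (Polynomial.toFinsuppIsoAlg k).symm.toAlgHom.comp
    (AddMonoidAlgebra.mapDomainAlgHom k k H'.subtype)

theorem iota_single (H' : AddSubmonoid ℕ) (h : ↥H') (c : k) :
    iota k H' (AddMonoidAlgebra.single h c) = Polynomial.monomial (h : ℕ) c := by
  unfold iota
  simp only [AlgHom.coe_comp, Function.comp_apply, AddMonoidAlgebra.mapDomainAlgHom_apply,
    AddMonoidAlgebra.mapDomain_single]
  show (Polynomial.toFinsuppIsoAlg k).symm (AddMonoidAlgebra.single (h : ℕ) c) = _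
  rw [AlgEquiv.symm_apply_eq]
  simp [Polynomial.toFinsuppIsoAlg]

theorem iota_injective (H' : AddSubmonoid ℕ) : Function.Injective (iota k H') := by
  unfold iota
  simp only [AlgHom.coe_comp]
  apply Function.Injective.comp
  · exact (Polynomial.toFinsuppIsoAlg k).symm.injective
  · intro x y hxy
    simp only [AddMonoidAlgebra.mapDomainAlgHom_apply] at hxy
    exact AddMonoidAlgebra.mapDomain_injective Subtype.val_injective hxy

theorem mem_poleOrders_iff (hK : IsFunctionField k K) (P : Place k K) (hP : P.deg = 1) (n : ℕ) :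
    n ∈ poleOrders P ↔ IsPoleNumber P (n : ℤ) := by
  classical
  unfold poleOrders
  rw [Set.mem_setOf_eq, smul_single_one, smul_single_one, ell_single_succ hK P hP (n : ℤ)]
  split_ifs with h
  · simp [h]
  · simp [h]

/-- A coefficient with nonzero residue gives a pole order. -/
theorem mem_poleOrders_of_lc_ne_zero (hK : IsFunctionField k K) (P : Place k K) (hP : P.deg = 1)
    (π : K) (hπ : P.1 π = WithZero.exp (-1))
    (p : ↥(sectRing (Finsupp.single P 1 : Divisor k K))) (n : ℕ)
    (h : lc P (p.1.coeff n * π ^ n) ≠ 0) : n ∈ poleOrders P := by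
  rw [mem_poleOrders_iff hK P hP]
  have h1 := p.2 n
  rw [smul_single_one] at h1
  have h2 : ¬ P.1 (p.1.coeff n * π ^ n) < 1 := fun hlt => h (lc_of_lt P hlt)
  have hf0 : p.1.coeff n ≠ 0 := by
    intro h0
    apply h
    rw [h0, zero_mul, lc_zero]
  refine ⟨p.1.coeff n, hf0, h1, ?_⟩
  have h3 := h1 P
  rw [Finsupp.single_eq_same] at h3
  rw [not_lt, map_mul, map_pow, hπ, ← WithZero.exp_nsmul, val_eq_exp_neg_ord P hf0,
    ← WithZero.exp_add, ← WithZero.exp_zero, WithZero.exp_le_exp] at h2
  rw [val_eq_exp_neg_ord P hf0, WithZero.exp_le_exp] at h3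
  simp only [smul_eq_mul, nsmul_eq_mul, mul_neg, mul_one] at h2
  omega

theorem monomial_mem_sectRing (P : Place k K) (n : ℕ) {f : K}
    (hf : f ∈ L (Finsupp.single P (n : ℤ) : Divisor k K)) :
    Polynomial.monomial n f ∈ sectRing (Finsupp.single P 1 : Divisor k K) := by
  intro m
  rw [Polynomial.coeff_monomial]
  split_ifs with h
  · subst h
    rw [smul_single_one]
    exact hf
  · exact Submodule.zero_mem _

theorem X_pow_mem_range_psi (hK : IsFunctionField k K) (P : Place k K) (hP : P.deg = 1)
    (π : K) (hπ : P.1 π = WithZero.exp (-1)) {h : ℕ}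
    (hh : h ∈ AddSubmonoid.closure (poleOrders P)) :
    (Polynomial.X : k[X]) ^ h ∈ (psi P hP π hπ).range := by
  classical
  refine AddSubmonoid.closure_induction
    (motive := fun h _ => (Polynomial.X : k[X]) ^ h ∈ (psi P hP π hπ).range) ?_ ?_ ?_ hh
  · intro n hn
    rw [mem_poleOrders_iff hK P hP] at hn
    obtain ⟨f, hf0, hfL, hford⟩ := hn
    have hval : P.1 (f * π ^ n) = 1 := by
      rw [map_mul, map_pow, hπ, ← WithZero.exp_nsmul, val_eq_exp_neg_ord P hf0, hford,
        ← WithZero.exp_add, ← WithZero.exp_zero]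
      congr 1
      simp
    have hc0 : lc P (f * π ^ n) ≠ 0 := by
      intro h0
      have := (lc_eq_zero_iff P hP hval.le).mp h0
      rw [hval] at this
      exact lt_irrefl _ this
    set c := lc P (f * π ^ n) with hc
    have hmem : Polynomial.monomial n (c⁻¹ • f) ∈ sectRing (Finsupp.single P 1 : Divisor k K) :=
      monomial_mem_sectRing P n (Submodule.smul_mem _ _ hfL)
    refine ⟨⟨_, hmem⟩, ?_⟩
    show psi P hP π hπ ⟨_, hmem⟩ = _
    ext m
    rw [coeff_psi]
    show lc P ((Polynomial.monomial n (c⁻¹ • f)).coeff m * π ^ m) = _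
    rw [Polynomial.coeff_monomial, Polynomial.coeff_X_pow]
    by_cases hmn : m = n
    · subst hmn
      rw [if_pos rfl, if_pos rfl, smul_mul_assoc, lc_smul P hP _ hval.le, ← hc,
        inv_mul_cancel₀ hc0]
    · rw [if_neg (Ne.symm hmn), if_neg hmn, zero_mul, lc_zero]
  · rw [pow_zero]
    exact Subalgebra.one_mem _
  · intro a b _ _ ha hb
    rw [pow_add]
    exact Subalgebra.mul_mem _ ha hb

theorem range_psi_eq (hK : IsFunctionField k K) (P : Place k K) (hP : P.deg = 1)
    (π : K) (hπ : P.1 π = WithZero.exp (-1)) :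
    (psi P hP π hπ).range = (iota k (AddSubmonoid.closure (poleOrders P))).range := by
  classical
  apply le_antisymm
  · rintro _ ⟨p, rfl⟩
    show psi P hP π hπ p ∈ _
    rw [(psi P hP π hπ p).as_sum_support]
    refine Subalgebra.sum_mem _ fun n hn => ?_
    rw [Polynomial.mem_support_iff, coeff_psi] at hn
    have hnH := mem_poleOrders_of_lc_ne_zero hK P hP π hπ p n hn
    have hnH' : n ∈ AddSubmonoid.closure (poleOrders P) := AddSubmonoid.subset_closure hnH
    exact ⟨AddMonoidAlgebra.single ⟨n, hnH'⟩ ((psi P hP π hπ p).coeff n), iota_single _ _ _⟩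
  · rintro _ ⟨x, rfl⟩
    show iota k (AddSubmonoid.closure (poleOrders P)) x ∈ _
    induction x using AddMonoidAlgebra.induction_linear with
    | zero =>
      rw [map_zero]
      exact Subalgebra.zero_mem _
    | add x y hx hy =>
      rw [map_add]
      exact Subalgebra.add_mem _ hx hy
    | single h c =>
      rw [iota_single, ← Polynomial.C_mul_X_pow_eq_monomial, ← Polynomial.algebraMap_eq,
        ← Algebra.smul_def]
      exact Subalgebra.smul_mem _ (X_pow_mem_range_psi hK P hP π hπ h.2) c

end Groth.Agent.Lib.Helper23.FF
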