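import Mathlib
import Groth.Prelude.Def_W4c6gradedringsgwSect
import Groth.Agent.Lib.Helper23.FFSect4
import Groth.Agent.Lib.Helper23.FFCod1

/-!
Section rings, part 5: the irrelevant ideal of `R_{X,P}` and its generators.
-/

set_option autoImplicit false

namespace Groth.Agent.Lib.Helper23.FF

open FunFld Polynomial W4c6gradedringsgw

universe u v
variable {k : Type u} {K : Type v} [Field k] [Field K] [Algebra k K]

/-- Eventually every natural number is a pole order. -/
theorem exists_forall_mem_poleOrders (hK : IsFunctionField k K) (P : Place k K) (hP : P.deg = 1) :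
    ∃ N : ℕ, ∀ n : ℕ, N ≤ n → n ∈ poleOrders P := by
  obtain ⟨N, hN⟩ := (riemann hK).2
  refine ⟨N.toNat + 1, fun n hn => ?_⟩
  have hle := Int.self_le_toNat N
  have h1 := hN (Finsupp.single P (n : ℤ)) (by rw [deg_single, hP]; push_cast; omega)
  have h2 := hN (Finsupp.single P ((n : ℤ) - 1)) (by rw [deg_single, hP]; push_cast; omega)
  rw [deg_single, hP] at h1 h2
  unfold poleOrders
  rw [Set.mem_setOf_eq, smul_single_one, smul_single_one]
  push_cast at h1 h2
  omega

/-- The set of minimal generators of the Weierstrass semigroup is finite. -/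
theorem minGens_finite (hK : IsFunctionField k K) (P : Place k K) (hP : P.deg = 1) :
    (minGens (poleOrders P)).Finite := by
  obtain ⟨N, hN⟩ := exists_forall_mem_poleOrders hK P hP
  apply Set.Finite.subset (Set.finite_lt_nat (2 * N + 2))
  intro h hh
  rw [Set.mem_setOf_eq]
  by_contra hlt
  rw [not_lt] at hlt
  obtain ⟨_, _, hmin⟩ := hh
  exact hmin (N + 1) (hN _ (by omega)) (h - (N + 1)) (hN _ (by omega)) (by omega) (by omega)
    (by omega)

theorem one_notMem_poleOrders (hK : IsFunctionField k K) (hg : 1 ≤ genus k K)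
    (P : Place k K) (hP : P.deg = 1) : 1 ∉ poleOrders P := by
  intro h
  unfold poleOrders at h
  rw [Set.mem_setOf_eq, smul_single_one, smul_single_one, Nat.cast_one, sub_self,
    Finsupp.single_zero, ell_zero hK] at h
  have := genus_eq_zero_of_two_le_ell_single hK P hP (by omega)
  omega

theorem exists_sub_smul_mem_L (P : Place k K) (hP : P.deg = 1) (E : Divisor k K) {f g : K}
    (hf : f ∈ L E) (hg : g ∈ L E) (hgP : P.1 g = WithZero.exp (E P)) :
    ∃ c : k, f - c • g ∈ L (E - Finsupp.single P 1) := by
  have hg0 : g ≠ 0 := by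
    rintro rfl
    rw [map_zero] at hgP
    exact WithZero.exp_ne_zero hgP.symm
  have h1 : P.1 (f / g) ≤ 1 := by
    rw [map_div₀, hgP]
    exact div_le_one_of_le₀ (hf P) zero_le
  obtain ⟨c, hc⟩ := exists_const_val_sub_lt_one P hP h1
  refine ⟨c, ?_⟩
  have h2 : f - c • g = g * (f / g - algebraMap k K c) := by
    rw [Algebra.smul_def]
    field_simp
  rw [mem_L_sub_single_iff]
  refine ⟨(L E).sub_mem hf ((L E).smul_mem c hg), ?_⟩
  rw [h2, map_mul, hgP]
  calc WithZero.exp (E P) * P.1 (f / g - algebraMap k K c)
      < WithZero.exp (E P) * 1 := by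
        exact mul_lt_mul_of_pos_left hc (zero_lt_iff.mpr WithZero.exp_ne_zero)
    _ = WithZero.exp (E P) := mul_one _

/-- The irrelevant ideal of the section ring. -/
noncomputable def irr (P : Place k K) : Ideal ↥(sectRing (Finsupp.single P 1 : Divisor k K)) :=
  RingHom.ker (Polynomial.constantCoeff.comp
    (sectRing (Finsupp.single P 1 : Divisor k K)).val.toRingHom)

theorem mem_irr (P : Place k K) (p : ↥(sectRing (Finsupp.single P 1 : Divisor k K))) :
    p ∈ irr P ↔ p.1.coeff 0 = 0 := by
  unfold irr
  rw [RingHom.mem_ker]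
  rfl

/-- The homogeneous element `f T^n`. -/
noncomputable def mono (P : Place k K) (n : ℕ) (f : K)
    (hf : f ∈ L (Finsupp.single P (n : ℤ) : Divisor k K)) :
    ↥(sectRing (Finsupp.single P 1 : Divisor k K)) :=
  ⟨Polynomial.monomial n f, monomial_mem_sectRing P n hf⟩

theorem mono_mul (P : Place k K) (a b : ℕ) (f g : K)
    (hf : f ∈ L (Finsupp.single P (a : ℤ) : Divisor k K))
    (hg : g ∈ L (Finsupp.single P (b : ℤ) : Divisor k K))
    (hfg : f * g ∈ L (Finsupp.single P ((a + b : ℕ) : ℤ) : Divisor k K)) :
    mono P (a + b) (f * g) hfg = mono P a f hf * mono P b g hg := by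
  apply Subtype.ext
  show Polynomial.monomial (a + b) (f * g) = Polynomial.monomial a f * Polynomial.monomial b g
  rw [Polynomial.monomial_mul_monomial]

theorem mono_add (P : Place k K) (n : ℕ) (f g : K)
    (hf : f ∈ L (Finsupp.single P (n : ℤ) : Divisor k K))
    (hg : g ∈ L (Finsupp.single P (n : ℤ) : Divisor k K)) :
    mono P n (f + g) (Submodule.add_mem _ hf hg) = mono P n f hf + mono P n g hg := by
  apply Subtype.ext
  show Polynomial.monomial n (f + g) = Polynomial.monomial n f + Polynomial.monomial n g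
  rw [map_add]

theorem mono_smul (P : Place k K) (n : ℕ) (c : k) (f : K)
    (hf : f ∈ L (Finsupp.single P (n : ℤ) : Divisor k K)) :
    mono P n (c • f) (Submodule.smul_mem _ c hf) = c • mono P n f hf := by
  apply Subtype.ext
  show Polynomial.monomial n (c • f) = c • Polynomial.monomial n f
  rw [Polynomial.smul_monomial]

theorem one_mem_L_single_one (P : Place k K) :
    (1 : K) ∈ L (Finsupp.single P ((1 : ℕ) : ℤ) : Divisor k K) :=
  L_mono (Finsupp.single_nonneg.mpr (by positivity)) one_mem_L_zero

/-- The degree one element `T`. -/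
noncomputable def tElt (P : Place k K) : ↥(sectRing (Finsupp.single P 1 : Divisor k K)) :=
  mono P 1 1 (one_mem_L_single_one P)

/-- Elements of lower pole order are multiples of `T`. -/
theorem mono_eq_tElt_mul (P : Place k K) (n : ℕ) (hn : 1 ≤ n) (f : K)
    (hf : f ∈ L (Finsupp.single P (n : ℤ) : Divisor k K))
    (hf' : f ∈ L (Finsupp.single P ((n - 1 : ℕ) : ℤ) : Divisor k K)) :
    mono P n f hf = tElt P * mono P (n - 1) f hf' := by
  apply Subtype.ext
  show Polynomial.monomial n f = Polynomial.monomial 1 1 * Polynomial.monomial (n - 1) f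
  rw [Polynomial.monomial_mul_monomial, one_mul, show 1 + (n - 1) = n by omega]

end Groth.Agent.Lib.Helper23.FF
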