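import Mathlib
import Groth.Prelude.Def_W4c6gradedringsgwSect
import Groth.Agent.Lib.Helper23.FFSect5

/-!
Section rings, part 6: generators of the irrelevant ideal (upper bound for the embedding
dimension).
-/

set_option autoImplicit false

namespace Groth.Agent.Lib.Helper23.FF

open FunFld Polynomial W4c6gradedringsgw

universe u v
variable {k : Type u} {K : Type v} [Field k] [Field K] [Algebra k K]

theorem mono_mem_of_gens (hK : IsFunctionField k K) (P : Place k K) (hP : P.deg = 1)
    (I : Ideal ↥(sectRing (Finsupp.single P 1 : Divisor k K)))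
    (ht : tElt P ∈ I)
    (hM : ∀ h ∈ minGens (poleOrders P),
      ∃ (f : K) (hf : f ∈ L (Finsupp.single P (h : ℤ) : Divisor k K)),
        P.1 f = WithZero.exp (h : ℤ) ∧ mono P h f hf ∈ I) :
    ∀ n : ℕ, 1 ≤ n → ∀ (f : K) (hf : f ∈ L (Finsupp.single P (n : ℤ) : Divisor k K)),
      mono P n f hf ∈ I := by
  classical
  intro n
  induction n using Nat.strong_induction_on with
  | _ n ih =>
    intro hn f hf
    have hlow : ∀ (f' : K) (hf' : f' ∈ L (Finsupp.single P (n : ℤ) : Divisor k K)),
        f' ∈ L (Finsupp.single P ((n - 1 : ℕ) : ℤ) : Divisor k K) → mono P n f' hf' ∈ I := by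
      intro f' hf' hf''
      rw [mono_eq_tElt_mul P n hn f' hf' hf'']
      exact I.mul_mem_right _ ht
    have htop : ∀ (g : K) (hg : g ∈ L (Finsupp.single P (n : ℤ) : Divisor k K)),
        P.1 g = WithZero.exp (n : ℤ) → mono P n g hg ∈ I → mono P n f hf ∈ I := by
      intro g hg hgP hgI
      obtain ⟨c, hc⟩ := exists_sub_smul_mem_L P hP (Finsupp.single P (n : ℤ)) hf hg
        (by rw [Finsupp.single_eq_same]; exact hgP)
      rw [← Finsupp.single_sub] at hc
      have hc' : f - c • g ∈ L (Finsupp.single P ((n - 1 : ℕ) : ℤ) : Divisor k K) := by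
        rw [Nat.cast_sub hn, Nat.cast_one]
        exact hc
      have hfg : f - c • g ∈ L (Finsupp.single P (n : ℤ) : Divisor k K) :=
        Submodule.sub_mem _ hf (Submodule.smul_mem _ c hg)
      have e : mono P n f hf = mono P n (f - c • g) hfg + c • mono P n g hg := by
        apply Subtype.ext
        show Polynomial.monomial n f
          = Polynomial.monomial n (f - c • g) + c • Polynomial.monomial n g
        rw [Polynomial.smul_monomial, ← map_add]
        congr 1
        ring
      rw [e]
      exact I.add_mem (hlow _ hfg hc') (I.smul_of_tower_mem c hgI)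
    by_cases hpn : n ∈ poleOrders P
    · by_cases hmin : n ∈ minGens (poleOrders P)
      · obtain ⟨g, hg, hgP, hgI⟩ := hM n hmin
        exact htop g hg hgP hgI
      · have hex : ∃ a ∈ poleOrders P, ∃ b ∈ poleOrders P, a ≠ 0 ∧ b ≠ 0 ∧ a + b = n := by
          by_contra hcon
          push Not at hcon
          exact hmin ⟨hpn, by omega, fun a ha b hb ha0 hb0 => hcon a ha b hb ha0 hb0⟩
        obtain ⟨a, ha, b, hb, ha0, hb0, rfl⟩ := hex
        rw [mem_poleOrders_iff hK P hP] at ha hb
        obtain ⟨fa, hfa0, hfa, hfao⟩ := ha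
        obtain ⟨fb, hfb0, hfb, hfbo⟩ := hb
        have hfab : fa * fb ∈ L (Finsupp.single P ((a + b : ℕ) : ℤ) : Divisor k K) := by
          rw [Nat.cast_add, Finsupp.single_add]
          exact mul_mem_L_add hfa hfb
        refine htop (fa * fb) hfab ?_ ?_
        · rw [map_mul, val_eq_exp_neg_ord P hfa0, val_eq_exp_neg_ord P hfb0, hfao, hfbo, neg_neg,
            neg_neg, ← WithZero.exp_add, Nat.cast_add]
        · rw [mono_mul P a b fa fb hfa hfb hfab]
          exact I.mul_mem_right _ (ih a (by omega) (by omega) fa hfa)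
    · rw [mem_poleOrders_iff hK P hP, isPoleNumber_iff, not_not] at hpn
      apply hlow f hf
      rw [Nat.cast_sub hn, Nat.cast_one, ← hpn]
      exact hf

theorem mono_mem_irr (P : Place k K) (n : ℕ) (hn : 1 ≤ n) (f : K)
    (hf : f ∈ L (Finsupp.single P (n : ℤ) : Divisor k K)) : mono P n f hf ∈ irr P := by
  rw [mem_irr]
  show (Polynomial.monomial n f).coeff 0 = 0
  rw [Polynomial.coeff_monomial, if_neg (by omega)]

theorem coeff_mem_L_single (P : Place k K) (p : ↥(sectRing (Finsupp.single P 1 : Divisor k K)))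
    (n : ℕ) : p.1.coeff n ∈ L (Finsupp.single P (n : ℤ) : Divisor k K) := by
  have := p.2 n
  rwa [smul_single_one] at this

theorem eq_sum_mono (P : Place k K) (p : ↥(sectRing (Finsupp.single P 1 : Divisor k K))) :
    p = ∑ n ∈ p.1.support, mono P n (p.1.coeff n) (coeff_mem_L_single P p n) := by
  apply Subtype.ext
  rw [AddSubmonoidClass.coe_finset_sum]
  exact p.1.as_sum_support

theorem irr_le_of_gens (hK : IsFunctionField k K) (P : Place k K) (hP : P.deg = 1)
    (I : Ideal ↥(sectRing (Finsupp.single P 1 : Divisor k K)))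
    (ht : tElt P ∈ I)
    (hM : ∀ h ∈ minGens (poleOrders P),
      ∃ (f : K) (hf : f ∈ L (Finsupp.single P (h : ℤ) : Divisor k K)),
        P.1 f = WithZero.exp (h : ℤ) ∧ mono P h f hf ∈ I) :
    irr P ≤ I := by
  intro p hp
  rw [mem_irr] at hp
  rw [eq_sum_mono P p]
  refine I.sum_mem fun n hn => ?_
  apply mono_mem_of_gens hK P hP I ht hM
  rw [Polynomial.mem_support_iff] at hn
  by_contra h0
  have : n = 0 := by omega
  subst this
  exact hn hp

/-- A pole order has a witness of the exact valuation. -/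
theorem exists_mem_L_val_eq_of_mem_poleOrders (hK : IsFunctionField k K) (P : Place k K)
    (hP : P.deg = 1) {h : ℕ} (hh : h ∈ poleOrders P) :
    ∃ f : K, f ∈ L (Finsupp.single P (h : ℤ) : Divisor k K) ∧ P.1 f = WithZero.exp (h : ℤ) := by
  rw [mem_poleOrders_iff hK P hP] at hh
  obtain ⟨f, hf0, hf, hfo⟩ := hh
  exact ⟨f, hf, by rw [val_eq_exp_neg_ord P hf0, hfo, neg_neg]⟩

/-- The irrelevant ideal is generated by `T` and one element for each minimal generator of the
Weierstrass semigroup. -/
theorem irr_fg_and_spanFinrank_le (hK : IsFunctionField k K) (P : Place k K) (hP : P.deg = 1) :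
    (irr P).FG ∧ (irr P).spanFinrank ≤ (minGens (poleOrders P)).ncard + 1 := by
  classical
  have hfin := minGens_finite hK P hP
  haveI : Finite ↥(minGens (poleOrders P)) := hfin.to_subtype
  have hw : ∀ h : ↥(minGens (poleOrders P)), ∃ f : K,
      f ∈ L (Finsupp.single P ((h : ℕ) : ℤ) : Divisor k K) ∧ P.1 f = WithZero.exp ((h : ℕ) : ℤ) :=
    fun h => exists_mem_L_val_eq_of_mem_poleOrders hK P hP h.2.1
  choose f hfL hfP using hw
  set G : Set ↥(sectRing (Finsupp.single P 1 : Divisor k K)) :=
    insert (tElt P) (Set.range fun h : ↥(minGens (poleOrders P)) => mono P h (f h) (hfL h))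
    with hG
  have hGfin : G.Finite := (Set.finite_range _).insert _
  have hspan : Ideal.span G = irr P := by
    apply le_antisymm
    · rw [Ideal.span_le]
      rintro x (rfl | ⟨h, rfl⟩)
      · exact mono_mem_irr P 1 le_rfl _ _
      · exact mono_mem_irr P h (Nat.one_le_iff_ne_zero.mpr h.2.2.1) _ _
    · apply irr_le_of_gens hK P hP
      · exact Ideal.subset_span (Set.mem_insert _ _)
      · intro h hh
        exact ⟨f ⟨h, hh⟩, hfL ⟨h, hh⟩, hfP ⟨h, hh⟩,
          Ideal.subset_span (Set.mem_insert_of_mem _ ⟨⟨h, hh⟩, rfl⟩)⟩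
  constructor
  · rw [← hspan]
    exact Submodule.fg_span hGfin
  · rw [← hspan]
    refine (Submodule.spanFinrank_span_le_ncard_of_finite hGfin).trans ?_
    refine (Set.ncard_insert_le _ _).trans ?_
    rw [add_le_add_iff_right, ← Set.image_univ]
    refine (Set.ncard_image_le (Set.finite_univ)).trans ?_
    rw [Set.ncard_univ, Nat.card_coe_set_eq]

end Groth.Agent.Lib.Helper23.FF
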