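import Mathlib
import Groth.Prelude.Def_W4c6gradedringsgwSect
import Groth.Agent.Lib.Helper23.FFSect6

/-!
Section rings, part 7: the cotangent map of the irrelevant ideal (lower bound for the embedding
dimension).
-/

set_option autoImplicit false

namespace Groth.Agent.Lib.Helper23.FF

open FunFld Polynomial W4c6gradedringsgw

universe u v
variable {k : Type u} {K : Type v} [Field k] [Field K] [Algebra k K]

theorem val_coeff_one_le_one (hK : IsFunctionField k K) (hg : 1 ≤ genus k K)
    (P : Place k K) (hP : P.deg = 1) (p : ↥(sectRing (Finsupp.single P 1 : Divisor k K))) :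
    P.1 (p.1.coeff 1) ≤ 1 := by
  have h1 := coeff_mem_L_single P p 1
  rw [Nat.cast_one] at h1
  obtain ⟨c, hc⟩ := mem_range_of_mem_L_single_one hK hg P hP h1
  rw [← hc]
  exact P.2.1 c

/-- The cotangent map: the degree one coefficient together with the leading coefficients at the
minimal generators of the semigroup. -/
noncomputable def cot (hK : IsFunctionField k K) (hg : 1 ≤ genus k K)
    (P : Place k K) (hP : P.deg = 1) (π : K) (hπ : P.1 π = WithZero.exp (-1)) :
    ↥(sectRing (Finsupp.single P 1 : Divisor k K)) →ₗ[k]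
      (Option ↥(minGens (poleOrders P)) → k) where
  toFun p i := match i with
    | none => lc P (p.1.coeff 1)
    | some h => (psi P hP π hπ p).coeff (h : ℕ)
  map_add' p q := by
    funext i
    cases i with
    | none =>
      show lc P ((p.1 + q.1).coeff 1) = lc P (p.1.coeff 1) + lc P (q.1.coeff 1)
      rw [Polynomial.coeff_add, lc_add P hP (val_coeff_one_le_one hK hg P hP p)
        (val_coeff_one_le_one hK hg P hP q)]
    | some h =>
      show (psi P hP π hπ (p + q)).coeff (h : ℕ)
        = (psi P hP π hπ p).coeff (h : ℕ) + (psi P hP π hπ q).coeff (h : ℕ)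
      rw [map_add, Polynomial.coeff_add]
  map_smul' c p := by
    funext i
    cases i with
    | none =>
      show lc P ((c • p.1).coeff 1) = c • lc P (p.1.coeff 1)
      rw [Polynomial.coeff_smul, lc_smul P hP c (val_coeff_one_le_one hK hg P hP p), smul_eq_mul]
    | some h =>
      show (psi P hP π hπ (c • p)).coeff (h : ℕ) = c • (psi P hP π hπ p).coeff (h : ℕ)
      rw [map_smul, Polynomial.coeff_smul]

theorem cot_none (hK : IsFunctionField k K) (hg : 1 ≤ genus k K)
    (P : Place k K) (hP : P.deg = 1) (π : K) (hπ : P.1 π = WithZero.exp (-1))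
    (p : ↥(sectRing (Finsupp.single P 1 : Divisor k K))) :
    cot hK hg P hP π hπ p none = lc P (p.1.coeff 1) := rfl

theorem cot_some (hK : IsFunctionField k K) (hg : 1 ≤ genus k K)
    (P : Place k K) (hP : P.deg = 1) (π : K) (hπ : P.1 π = WithZero.exp (-1))
    (p : ↥(sectRing (Finsupp.single P 1 : Divisor k K))) (h : ↥(minGens (poleOrders P))) :
    cot hK hg P hP π hπ p (some h) = lc P (p.1.coeff (h : ℕ) * π ^ (h : ℕ)) :=
  coeff_psi P hP π hπ p h

/-- The cotangent map kills the square of the irrelevant ideal. -/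
theorem cot_mul (hK : IsFunctionField k K) (hg : 1 ≤ genus k K)
    (P : Place k K) (hP : P.deg = 1) (π : K) (hπ : P.1 π = WithZero.exp (-1))
    {p q : ↥(sectRing (Finsupp.single P 1 : Divisor k K))} (hp : p ∈ irr P) (hq : q ∈ irr P) :
    cot hK hg P hP π hπ (p * q) = 0 := by
  classical
  rw [mem_irr] at hp hq
  funext i
  cases i with
  | none =>
    rw [cot_none]
    show lc P ((p.1 * q.1).coeff 1) = 0
    rw [Polynomial.mul_coeff_one, hp, hq, zero_mul, mul_zero, add_zero, lc_zero]
  | some h =>
    show (psi P hP π hπ (p * q)).coeff (h : ℕ) = 0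
    rw [map_mul, Polynomial.coeff_mul]
    apply Finset.sum_eq_zero
    rintro ⟨i, j⟩ hij
    rw [Finset.HasAntidiagonal.mem_antidiagonal] at hij
    simp only at hij ⊢
    by_contra hne
    have hi : (psi P hP π hπ p).coeff i ≠ 0 := left_ne_zero_of_mul hne
    have hj : (psi P hP π hπ q).coeff j ≠ 0 := right_ne_zero_of_mul hne
    rw [coeff_psi] at hi hj
    have hiH := mem_poleOrders_of_lc_ne_zero hK P hP π hπ p i hi
    have hjH := mem_poleOrders_of_lc_ne_zero hK P hP π hπ q j hj
    have hi0 : i ≠ 0 := by
      rintro rfl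
      rw [hp, zero_mul, lc_zero] at hi
      exact hi rfl
    have hj0 : j ≠ 0 := by
      rintro rfl
      rw [hq, zero_mul, lc_zero] at hj
      exact hj rfl
    exact h.2.2.2 i hiH j hjH hi0 hj0 hij

theorem cot_tElt (hK : IsFunctionField k K) (hg : 1 ≤ genus k K)
    (P : Place k K) (hP : P.deg = 1) (π : K) (hπ : P.1 π = WithZero.exp (-1)) :
    cot hK hg P hP π hπ (tElt P) = Pi.single none 1 := by
  classical
  funext i
  cases i with
  | none =>
    rw [cot_none, Pi.single_eq_same]
    show lc P ((Polynomial.monomial 1 (1 : K)).coeff 1) = 1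
    rw [Polynomial.coeff_monomial, if_pos rfl, lc_one]
  | some h =>
    rw [cot_some, Pi.single_eq_of_ne (by simp)]
    show lc P ((Polynomial.monomial 1 (1 : K)).coeff (h : ℕ) * π ^ (h : ℕ)) = 0
    rw [Polynomial.coeff_monomial]
    split_ifs with h1
    · apply lc_of_lt
      rw [one_mul, map_pow, hπ, ← h1, pow_one, ← WithZero.exp_zero, WithZero.exp_lt_exp]
      omega
    · rw [zero_mul, lc_zero]

theorem cot_mono (hK : IsFunctionField k K) (hg : 1 ≤ genus k K)
    (P : Place k K) (hP : P.deg = 1) (π : K) (hπ : P.1 π = WithZero.exp (-1))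
    (h : ↥(minGens (poleOrders P))) (f : K)
    (hf : f ∈ L (Finsupp.single P ((h : ℕ) : ℤ) : Divisor k K)) :
    cot hK hg P hP π hπ (mono P h f hf) = lc P (f * π ^ (h : ℕ)) • Pi.single (some h) 1 := by
  classical
  funext i
  cases i with
  | none =>
    rw [cot_none, Pi.smul_apply, Pi.single_eq_of_ne (by simp), smul_zero]
    show lc P ((Polynomial.monomial (h : ℕ) f).coeff 1) = 0
    rw [Polynomial.coeff_monomial, if_neg, lc_zero]
    intro h1
    exact one_notMem_poleOrders hK hg P hP (h1 ▸ h.2.1)
  | some h' =>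
    rw [cot_some, Pi.smul_apply]
    show lc P ((Polynomial.monomial (h : ℕ) f).coeff (h' : ℕ) * π ^ (h' : ℕ)) = _
    rw [Polynomial.coeff_monomial]
    by_cases hh : h = h'
    · subst hh
      rw [if_pos rfl, Pi.single_eq_same, smul_eq_mul, mul_one]
    · rw [if_neg (fun e => hh (Subtype.ext e)), zero_mul, lc_zero,
        Pi.single_eq_of_ne (fun e => hh (Option.some_injective _ e).symm), smul_zero]

end Groth.Agent.Lib.Helper23.FF
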