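import Mathlib
import Groth.Prelude.Def_W4c6gradedringsgwSect
import Groth.Agent.Lib.Helper23.FFSect7

/-!
Section rings, part 8: the embedding dimension of `R_{X,P}`.
-/

set_option autoImplicit false

namespace Groth.Agent.Lib.Helper23.FF

open FunFld Polynomial W4c6gradedringsgw

universe u v
variable {k : Type u} {K : Type v} [Field k] [Field K] [Algebra k K]

theorem exists_sub_algebraMap_mem_irr (hK : IsFunctionField k K) (P : Place k K)
    (r : ↥(sectRing (Finsupp.single P 1 : Divisor k K))) :
    ∃ c : k, r - algebraMap k ↥(sectRing (Finsupp.single P 1 : Divisor k K)) c ∈ irr P := by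
  have h1 := r.2 0
  rw [Nat.cast_zero, zero_smul, Groth.Agent.Lib.Helper27.FF.L_zero hK] at h1
  obtain ⟨c, hc⟩ := Submodule.mem_one.mp h1
  refine ⟨c, ?_⟩
  rw [mem_irr]
  show (r.1 - algebraMap k K[X] c).coeff 0 = 0
  rw [Polynomial.coeff_sub, Polynomial.algebraMap_apply, Polynomial.coeff_C_zero, hc, sub_self]

theorem cot_mem_span (hK : IsFunctionField k K) (hg : 1 ≤ genus k K)
    (P : Place k K) (hP : P.deg = 1) (π : K) (hπ : P.1 π = WithZero.exp (-1))
    (s : Set ↥(sectRing (Finsupp.single P 1 : Divisor k K))) (hs : Ideal.span s = irr P)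
    {p : ↥(sectRing (Finsupp.single P 1 : Divisor k K))} (hp : p ∈ irr P) :
    cot hK hg P hP π hπ p ∈ Submodule.span k (cot hK hg P hP π hπ '' s) := by
  rw [← hs] at hp
  induction hp using Submodule.span_induction with
  | mem x hx => exact Submodule.subset_span ⟨x, hx, rfl⟩
  | zero =>
    rw [map_zero]
    exact Submodule.zero_mem _
  | add x y _ _ hx hy =>
    rw [map_add]
    exact Submodule.add_mem _ hx hy
  | smul r x hx ih =>
    obtain ⟨c, hc⟩ := exists_sub_algebraMap_mem_irr hK P r
    have hx' : x ∈ irr P := hs ▸ hx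
    have e : r • x = (r - algebraMap k ↥(sectRing (Finsupp.single P 1 : Divisor k K)) c) * x
        + c • x := by
      rw [smul_eq_mul, Algebra.smul_def]
      ring
    rw [e, map_add, cot_mul hK hg P hP π hπ hc hx', zero_add, map_smul]
    exact Submodule.smul_mem _ c ih

theorem le_spanFinrank_irr (hK : IsFunctionField k K) (hg : 1 ≤ genus k K)
    (P : Place k K) (hP : P.deg = 1) :
    (minGens (poleOrders P)).ncard + 1 ≤ (irr P).spanFinrank := by
  classical
  obtain ⟨π, hπ⟩ := P.2.2 (WithZero.exp (-1))
  have hfin := minGens_finite hK P hP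
  haveI : Fintype ↥(minGens (poleOrders P)) := hfin.fintype
  obtain ⟨hfg, _⟩ := irr_fg_and_spanFinrank_le hK P hP
  obtain ⟨s, hscard, hs⟩ := Submodule.FG.exists_span_finset_card_eq_spanFinrank hfg
  rw [← hscard]
  have hW : Submodule.span k (cot hK hg P hP π hπ '' (s : Set _)) = ⊤ := by
    rw [eq_top_iff, ← (Pi.basisFun k (Option ↥(minGens (poleOrders P)))).span_eq, Submodule.span_le]
    rintro _ ⟨i, rfl⟩
    rw [Pi.basisFun_apply]
    cases i with
    | none =>
      rw [← cot_tElt hK hg P hP π hπ]
      exact cot_mem_span hK hg P hP π hπ (s : Set _) hs (mono_mem_irr P 1 le_rfl _ _)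
    | some h =>
      obtain ⟨f, hfL, hfP⟩ := exists_mem_L_val_eq_of_mem_poleOrders hK P hP h.2.1
      have h1 := cot_mem_span hK hg P hP π hπ (s : Set _) hs
        (mono_mem_irr P h (Nat.one_le_iff_ne_zero.mpr h.2.2.1) f hfL)
      rw [cot_mono] at h1
      have hc : lc P (f * π ^ (h : ℕ)) ≠ 0 := by
        intro h0
        have hval : P.1 (f * π ^ (h : ℕ)) = 1 := by
          rw [map_mul, map_pow, hπ, hfP, ← WithZero.exp_nsmul, ← WithZero.exp_add,
            ← WithZero.exp_zero]
          congr 1
          simp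
        have := (lc_eq_zero_iff P hP hval.le).mp h0
        rw [hval] at this
        exact lt_irrefl _ this
      have h2 := Submodule.smul_mem _ (lc P (f * π ^ (h : ℕ)))⁻¹ h1
      rwa [smul_smul, inv_mul_cancel₀ hc, one_smul] at h2
  have h1 : Module.finrank k ↥(Submodule.span k (cot hK hg P hP π hπ '' (s : Set _)))
      = Fintype.card (Option ↥(minGens (poleOrders P))) := by
    rw [hW, finrank_top, Module.finrank_fintype_fun_eq_card]
  have h2 : Module.finrank k ↥(Submodule.span k (cot hK hg P hP π hπ '' (s : Set _)))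
      ≤ s.card := by
    rw [← Finset.coe_image]
    exact (finrank_span_finset_le_card _).trans Finset.card_image_le
  rw [Fintype.card_option] at h1
  have h3 : Fintype.card ↥(minGens (poleOrders P)) = (minGens (poleOrders P)).ncard := by
    rw [← Nat.card_eq_fintype_card, Nat.card_coe_set_eq]
  omega

/-- The embedding dimension of `R_{X,P}` is one more than that of the Weierstrass semigroup. -/
theorem spanFinrank_irr (hK : IsFunctionField k K) (hg : 1 ≤ genus k K)
    (P : Place k K) (hP : P.deg = 1) :
    (irr P).spanFinrank = (minGens (poleOrders P)).ncard + 1 :=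
  le_antisymm (irr_fg_and_spanFinrank_le hK P hP).2 (le_spanFinrank_irr hK hg P hP)

end Groth.Agent.Lib.Helper23.FF
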