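import Groth.Agent.Lib.Helper23.SmoothCurve
import Groth.Agent.Lib.Helper23.VBMaps

/-!
# Regular integral curves: local rings are PIDs
-/
set_option autoImplicit false
set_option linter.style.haveILetI false
universe u
open CategoryTheory CategoryTheory.Limits AlgebraicGeometry TopologicalSpace Opposite
open Groth.Agent.Lib.Helper23.Curve

noncomputable section

namespace Groth.Agent.Lib.Helper23.RegCurve

/-- a regular local domain of dimension `≤ 1` is a PID -/
theorem isPrincipalIdealRing_of_regular (R : Type*) [CommRing R] [IsDomain R]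
    [IsRegularLocalRing R] (h : Ring.DimensionLEOne R) : IsPrincipalIdealRing R := by
  by_cases hf : IsField R
  · exact hf.isPrincipalIdealRing
  · have hle : Ring.KrullDimLE 1 R :=
      Ring.krullDimLE_one_iff_of_noZeroDivisors.mpr (fun I hI hI' => h.maximalOfPrime hI hI')
    have h1 : ringKrullDim R ≤ 1 := Ring.krullDimLE_iff.mp hle
    have h2 : (Module.finrank (IsLocalRing.ResidueField R) (IsLocalRing.CotangentSpace R) : WithBot ℕ∞) =
        ringKrullDim R := (IsRegularLocalRing.iff_finrank_cotangentSpace R).mp inferInstance
    have h3 : Module.finrank (IsLocalRing.ResidueField R) (IsLocalRing.CotangentSpace R) ≤ 1 := by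
      have : (Module.finrank (IsLocalRing.ResidueField R) (IsLocalRing.CotangentSpace R) :
          WithBot ℕ∞) ≤ 1 := h2 ▸ h1
      exact_mod_cast this
    have h4 : Module.finrank (IsLocalRing.ResidueField R) (IsLocalRing.CotangentSpace R) = 1 := by
      rcases Nat.le_one_iff_eq_zero_or_eq_one.mp h3 with h0 | h1'
      · exfalso
        exact hf (IsLocalRing.finrank_cotangentSpace_eq_zero_iff.mp h0)
      · exact h1'
    have hdvr : IsDiscreteValuationRing R := ((IsDiscreteValuationRing.TFAE R hf).out 5 0).mp h4
    infer_instance

/-- local rings of an integral locally Noetherian scheme of dimension `≤ 1` have dimension `≤ 1` -/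
theorem dimensionLEOne_stalk {X : Scheme.{u}} [IsIntegral X] [IsLocallyNoetherian X]
    (hdim : topologicalKrullDim X ≤ 1) (x : X) : Ring.DimensionLEOne (X.presheaf.stalk x) := by
  set R := X.presheaf.stalk x with hR
  have hinj : Function.Injective (X.fromSpecStalk x) :=
    (X.fromSpecStalk x).isEmbedding.injective
  have hbot : (⊥ : Ideal R).IsPrime := Ideal.isPrime_bot
  constructor
  intro q hq hqp
  let q' : PrimeSpectrum R := ⟨q, hqp⟩
  let b' : PrimeSpectrum R := ⟨⊥, hbot⟩
  set y := X.fromSpecStalk x q' with hy
  have hyx : y ⤳ x := by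
    have : y ∈ Set.range (X.fromSpecStalk x) := ⟨q', rfl⟩
    rw [Scheme.range_fromSpecStalk] at this
    exact this
  by_cases hcl : closure ({y} : Set X) = Set.univ
  · exfalso
    set y₀ := X.fromSpecStalk x b' with hy₀
    have h1 : b' ⤳ q' := by
      rw [← PrimeSpectrum.le_iff_specializes]
      exact (bot_le : (⊥ : Ideal R) ≤ q)
    have h2 : y₀ ⤳ y := h1.map (X.fromSpecStalk x).continuous
    have h3 : y ⤳ y₀ := by
      rw [specializes_iff_mem_closure, hcl]; trivial
    have h4 : y₀ = y := (h2.antisymm h3).eq
    have h5 : b' = q' := hinj h4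
    exact hq (congrArg PrimeSpectrum.asIdeal h5).symm
  · have h1 : closure ({x} : Set X) = closure ({y} : Set X) :=
      closure_singleton_eq_of_irreducible hdim (closure {y}) isIrreducible_singleton.closure
        isClosed_closure hcl x (specializes_iff_mem_closure.mp hyx)
    have h2 : x = y := ((inseparable_iff_closure_eq).mpr h1).eq
    have h3 : X.fromSpecStalk x (IsLocalRing.closedPoint R) = y := by
      rw [Scheme.fromSpecStalk_closedPoint]; exact h2
    have h4 : IsLocalRing.closedPoint R = q' := hinj h3
    have h5 : IsLocalRing.maximalIdeal R = q := congrArg PrimeSpectrum.asIdeal h4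
    rw [← h5]
    exact IsLocalRing.maximalIdeal.isMaximal R

/-- local rings of a regular integral curve are PIDs -/
theorem isPrincipalIdealRing_stalk_of_regular {X : Scheme.{u}} [IsIntegral X]
    [IsLocallyNoetherian X] (hdim : topologicalKrullDim X ≤ 1) (x : X)
    (hreg : IsRegularLocalRing (X.presheaf.stalk x)) :
    IsPrincipalIdealRing (X.presheaf.stalk x) :=
  isPrincipalIdealRing_of_regular _ (dimensionLEOne_stalk hdim x)

end Groth.Agent.Lib.Helper23.RegCurve
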