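import Mathlib
import Groth.Prelude.Def_W4bk4goldsch45
import Groth.Agent.Lib.Helper23.FFAC2
import Groth.Agent.Lib.Helper23.FFGap
import Groth.Agent.Lib.Helper23.FFOrd

/-!
Bombieri's proof of the upper bound for the number of rational places, with a twist by a
Frobenius-semilinear automorphism: local lemmas.
-/

set_option autoImplicit false

namespace Groth.Agent.Lib.Helper23.FF

open FunFld
open Groth.Agent.Lib.Helper27.FF

universe u v
variable {k : Type u} {K : Type v} [Field k] [Field K] [Algebra k K]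

/-- A sum `∑ u_j z_j^{q₀}` whose `u_j` have distinct pole orders `j < q₀` at a place does not
vanish unless all `z_j` do. -/
theorem sum_ne_zero_of_ord_distinct (P : Place k K) (q₀ : ℕ) (J : Finset ℕ)
    (hJ : ∀ j ∈ J, j < q₀) (u z : ℕ → K)
    (hu : ∀ j ∈ J, u j ≠ 0 ∧ P.ord (u j) = -(j : ℤ)) (hz : ∃ j ∈ J, z j ≠ 0) :
    ∑ j ∈ J, u j * z j ^ q₀ ≠ 0 := by
  classical
  set t : ℕ → K := fun j => u j * z j ^ q₀ with ht
  set J' := J.filter (fun j => z j ≠ 0) with hJ'
  have hJ'ne : J'.Nonempty := by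
    obtain ⟨j, hj, hzj⟩ := hz
    exact ⟨j, Finset.mem_filter.mpr ⟨hj, hzj⟩⟩
  have hsum : ∑ j ∈ J, t j = ∑ j ∈ J', t j := by
    rw [hJ', Finset.sum_filter]
    apply Finset.sum_congr rfl
    intro j _
    split_ifs with h
    · rfl
    · rw [not_not] at h
      show u j * z j ^ q₀ = 0
      have hq0 : q₀ ≠ 0 := by
        obtain ⟨j', hj', _⟩ := hz
        have := hJ j' hj'
        omega
      rw [h, zero_pow hq0, mul_zero]
  have htne : ∀ j ∈ J', t j ≠ 0 := by
    intro j hj
    rw [hJ', Finset.mem_filter] at hj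
    exact mul_ne_zero (hu j hj.1).1 (pow_ne_zero _ hj.2)
  have hord : ∀ j ∈ J', P.ord (t j) = -(j : ℤ) + q₀ * P.ord (z j) := by
    intro j hj
    rw [hJ', Finset.mem_filter] at hj
    show P.ord (u j * z j ^ q₀) = _
    rw [ord_mul P (hu j hj.1).1 (pow_ne_zero _ hj.2), (hu j hj.1).2, ord_pow P hj.2]
  have hdist : ∀ j ∈ J', ∀ j' ∈ J', j ≠ j' → P.1 (t j) ≠ P.1 (t j') := by
    intro j hj j' hj' hne heq
    rw [val_eq_exp_neg_ord P (htne j hj), val_eq_exp_neg_ord P (htne j' hj'), WithZero.exp_inj,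
      neg_inj, hord j hj, hord j' hj'] at heq
    have h1 := hJ j (Finset.mem_filter.mp hj).1
    have h2 := hJ j' (Finset.mem_filter.mp hj').1
    have h3 : (q₀ : ℤ) ∣ (j : ℤ) - j' := by
      refine ⟨P.ord (z j) - P.ord (z j'), ?_⟩
      linarith
    have h4 : ((j : ℤ) - j') = 0 := by
      apply Int.eq_zero_of_abs_lt_dvd h3
      rw [abs_lt]
      constructor <;> omega
    apply hne
    omega
  obtain ⟨j₀, hj₀, hmax⟩ := Finset.exists_max_image J' (fun j => P.1 (t j)) hJ'ne
  rw [hsum, ← Finset.add_sum_erase J' t hj₀]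
  have hlt : P.1 (∑ j ∈ J'.erase j₀, t j) < P.1 (t j₀) := by
    apply Valuation.map_sum_lt
    · rw [Ne, Valuation.zero_iff]
      exact htne j₀ hj₀
    · intro j hj
      rw [Finset.mem_erase] at hj
      exact lt_of_le_of_ne (hmax j hj.2) (hdist j hj.2 j₀ hj₀ hj.1)
  intro h0
  have := Valuation.map_add_eq_of_lt_left P.1 hlt
  rw [h0, map_zero] at this
  exact htne j₀ hj₀ ((Valuation.zero_iff _).mp this.symm)

end Groth.Agent.Lib.Helper23.FF
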