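import Mathlib
import Groth.Prelude.Def_W4bk4goldsch45
import Groth.Agent.Lib.Helper23.FFBom1

/-!
Bombieri's argument: the auxiliary function vanishes at the twisted-rational places.
-/

set_option autoImplicit false

namespace Groth.Agent.Lib.Helper23.FF

open FunFld
open Groth.Agent.Lib.Helper27.FF

universe u v
variable {k : Type u} {K : Type v} [Field k] [Field K] [Algebra k K]

/-- Reduction modulo a rational place fixed by `θ`: `z^Q ≡ θ z`. -/
theorem val_pow_sub_theta_lt_one (θ : K ≃+* K) (Q : ℕ)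
    (hθ : ∀ c : k, θ (algebraMap k K c) = algebraMap k K (c ^ Q))
    (P : Place k K) (hP : P.deg = 1) (hPθ : ∀ z : K, P.1 (θ z) = P.1 z) {z : K}
    (hz : P.1 z ≤ 1) : P.1 (z ^ Q - θ z) < 1 := by
  obtain ⟨c, hc⟩ := exists_const_val_sub_lt_one P hP hz
  have h1 : z ^ Q - θ z = (z ^ Q - (algebraMap k K c) ^ Q) - θ (z - algebraMap k K c) := by
    rw [map_sub, hθ, map_pow]
    ring
  rw [h1]
  refine (Valuation.map_sub _ _ _).trans_lt (max_lt ?_ ?_)
  · rw [← Commute.geom_sum₂_mul (Commute.all _ _), map_mul]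
    refine mul_lt_of_le_one_of_lt ?_ hc
    apply Valuation.map_sum_le
    intro i _
    rw [map_mul, map_pow, map_pow]
    exact mul_le_one' (pow_le_one₀ zero_le hz) (pow_le_one₀ zero_le (P.2.1 c))
  · rw [hPθ]
    exact hc

/-- The auxiliary function of Bombieri's argument vanishes at every rational place fixed by the
twist, other than the base place. -/
theorem val_sum_lt_one_of_fixed (p a : ℕ) [hp : Fact p.Prime] [CharP K p] (θ : K ≃+* K)
    (hθ : ∀ c : k, θ (algebraMap k K c) = algebraMap k K (c ^ ((p ^ a) ^ 2)))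
    (P : Place k K) (hP : P.deg = 1) (hPθ : ∀ z : K, P.1 (θ z) = P.1 z)
    (J : Finset ℕ) (u z : ℕ → K) (hu : ∀ j ∈ J, P.1 (u j) ≤ 1) (hz : ∀ j ∈ J, P.1 (z j) ≤ 1)
    (hB : ∑ j ∈ J, u j ^ (p ^ a) * θ (z j) = 0) :
    P.1 (∑ j ∈ J, u j * z j ^ (p ^ a)) < 1 := by
  set q₀ := p ^ a with hq₀
  have hq₀pos : 0 < q₀ := pow_pos hp.out.pos a
  have h1 : (∑ j ∈ J, u j * z j ^ q₀) ^ q₀ = ∑ j ∈ J, u j ^ q₀ * (z j ^ (q₀ ^ 2) - θ (z j)) := by
    rw [hq₀, sum_pow_char_pow]
    have h2 : ∑ j ∈ J, u j ^ p ^ a * (z j ^ ((p ^ a) ^ 2) - θ (z j)) =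
        ∑ j ∈ J, u j ^ p ^ a * z j ^ ((p ^ a) ^ 2) - ∑ j ∈ J, u j ^ p ^ a * θ (z j) := by
      rw [← Finset.sum_sub_distrib]
      apply Finset.sum_congr rfl
      intro j _
      ring
    rw [h2, hB, sub_zero]
    apply Finset.sum_congr rfl
    intro j _
    rw [mul_pow, ← pow_mul, sq]
  have h3 : P.1 ((∑ j ∈ J, u j * z j ^ q₀) ^ q₀) < 1 := by
    rw [h1]
    apply Valuation.map_sum_lt _ one_ne_zero
    intro j hj
    rw [map_mul, map_pow]
    exact mul_lt_of_le_one_of_lt (pow_le_one₀ zero_le (hu j hj))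
      (val_pow_sub_theta_lt_one θ _ hθ P hP hPθ (hz j hj))
  rw [map_pow] at h3
  by_contra hge
  rw [not_lt] at hge
  exact absurd h3 (not_lt.mpr (one_le_pow₀ hge))

end Groth.Agent.Lib.Helper23.FF
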