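import Mathlib
import Groth.Prelude.Def_W4bk4goldsch45
import Groth.Agent.Lib.Helper23.FFMap1

/-!
Plane models `(1 : x : y)`: generic coordinates and the genus bound `g ≤ (d-1)(d-2)/2`.
-/

set_option autoImplicit false

namespace Groth.Agent.Lib.Helper23.FF

open FunFld
open scoped IntermediateField

universe u v
variable {k : Type u} {K : Type v} [Field k] [Field K] [Algebra k K]

theorem sum_triangle (m n : ℕ) (hn : n ≤ m + 1) :
    2 * ((∑ j : Fin n, (m + 1 - (j : ℕ)) : ℕ) : ℤ) = 2 * n * (m + 1) - n * (n - 1) := by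
  rw [Fin.sum_univ_eq_sum_range (fun j => m + 1 - j) n]
  induction n with
  | zero => simp
  | succ n ih =>
    rw [Finset.sum_range_succ]
    have h1 := ih (by omega)
    push_cast at h1 ⊢
    have h2 : ((m + 1 - n : ℕ) : ℤ) = (m : ℤ) + 1 - n := by
      rw [Nat.cast_sub (by omega)]
      push_cast
      ring
    rw [h2]
    linarith [h1]

theorem plane_mapDiv_nonneg (hK : IsFunctionField k K) (x y : K) :
    0 ≤ mapDiv k ![(1 : K), x, y] := by
  intro Q
  have h := neg_ord_le_mapDiv hK ![(1 : K), x, y] Q 0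
  rw [Matrix.cons_val_zero, Groth.Agent.Lib.Helper27.FF.ord_one, neg_zero] at h
  exact h

theorem plane_x_mem (hK : IsFunctionField k K) (x y : K) : x ∈ L (mapDiv k ![(1 : K), x, y]) :=
  mem_L_mapDiv hK ![(1 : K), x, y] 1

theorem plane_y_mem (hK : IsFunctionField k K) (x y : K) : y ∈ L (mapDiv k ![(1 : K), x, y]) :=
  mem_L_mapDiv hK ![(1 : K), x, y] 2

theorem plane_exists_le (hK : IsFunctionField k K) (x y : K) (Q : Place k K)
    (hQ : mapDiv k ![(1 : K), x, y] Q ≠ 0) :
    ∃ i : Fin 2, WithZero.exp (mapDiv k ![(1 : K), x, y] Q) ≤ Q.1 (![x, y] i) := by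
  obtain ⟨i, hi⟩ := exists_mapDiv_eq hK ![(1 : K), x, y] Q
  have key : ∀ z : K, mapDiv k ![(1 : K), x, y] Q = -Q.ord z →
      WithZero.exp (mapDiv k ![(1 : K), x, y] Q) ≤ Q.1 z := by
    intro z hz
    have hz0 : z ≠ 0 := by
      rintro rfl
      rw [Groth.Agent.Lib.Helper27.FF.ord_zero, neg_zero] at hz
      exact hQ hz
    rw [val_eq_exp_neg_ord Q hz0, hz]
  fin_cases i
  · exfalso
    simp only [Fin.zero_eta, Matrix.cons_val_zero] at hi
    rw [Groth.Agent.Lib.Helper27.FF.ord_one, neg_zero] at hi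
    exact hQ hi
  · exact ⟨0, key x hi⟩
  · exact ⟨1, key y hi⟩

end Groth.Agent.Lib.Helper23.FF
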