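import Mathlib
import Groth.Prelude.Def_W4bk4goldsch45
import Groth.Agent.Lib.Helper23.FFPlane1

/-!
Plane models `(1 : x : y)`: generic coordinates.
-/

set_option autoImplicit false

namespace Groth.Agent.Lib.Helper23.FF

open FunFld
open scoped IntermediateField

universe u v
variable {k : Type u} {K : Type v} [Field k] [Field K] [Algebra k K]

/-- Generic coordinates for a plane model: `x'` has pole divisor exactly `[1 : x : y]`. -/
theorem plane_exists_generic [IsAlgClosed k] (hK : IsFunctionField k K) (x y : K)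
    (hxy : IntermediateField.adjoin k ({x, y} : Set K) = ⊤) :
    ∃ x' y' : K, x' ∈ L (mapDiv k ![(1 : K), x, y]) ∧ y' ∈ L (mapDiv k ![(1 : K), x, y]) ∧
      IntermediateField.adjoin k ({x', y'} : Set K) = ⊤ ∧ Transcendental k x' ∧
      (Module.finrank k⟮x'⟯ K : ℤ) = (mapDiv k ![(1 : K), x, y]).deg := by
  classical
  set D := mapDiv k ![(1 : K), x, y] with hD
  have hD0 : 0 ≤ D := plane_mapDiv_nonneg hK x y
  have hxL : x ∈ L D := plane_x_mem hK x y
  have hyL : y ∈ L D := plane_y_mem hK x y
  obtain ⟨c, hc⟩ := exists_generic ![x, y] D.support (fun Q => WithZero.exp (D Q))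
    (fun _ _ => WithZero.exp_ne_zero)
    (fun Q hQ => plane_exists_le hK x y Q (Finsupp.mem_support_iff.mp hQ))
  have hsum : ∑ i, c i • ![x, y] i = c 0 • x + c 1 • y := by
    rw [Fin.sum_univ_two]
    rfl
  rw [hsum] at hc
  set x' := c 0 • x + c 1 • y with hx'def
  have hx'L : x' ∈ L D := (L D).add_mem ((L D).smul_mem _ hxL) ((L D).smul_mem _ hyL)
  have hx'S : ∀ Q ∈ D.support, Q.1 x' = WithZero.exp (D Q) := fun Q hQ =>
    le_antisymm (hx'L Q) (hc Q hQ)
  -- the support is nonempty
  have hSne : D.support.Nonempty := by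
    by_contra hemp
    rw [Finset.not_nonempty_iff_eq_empty, Finsupp.support_eq_empty] at hemp
    rw [hemp] at hxL hyL
    rw [Groth.Agent.Lib.Helper27.FF.L_zero hK] at hxL hyL
    obtain ⟨⟨x₀, hx₀, _⟩, _⟩ := id hK
    have h1 : IntermediateField.adjoin k ({x, y} : Set K) ≤ ⊥ := by
      rw [IntermediateField.adjoin_le_iff]
      intro z hz
      rcases hz with rfl | rfl
      · obtain ⟨a, rfl⟩ := Submodule.mem_one.mp hxL
        exact IntermediateField.mem_bot.mpr ⟨a, rfl⟩
      · obtain ⟨a, rfl⟩ := Submodule.mem_one.mp hyL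
        exact IntermediateField.mem_bot.mpr ⟨a, rfl⟩
    rw [hxy] at h1
    have h2 : x₀ ∈ (⊥ : IntermediateField k K) := h1 IntermediateField.mem_top
    obtain ⟨a, rfl⟩ := IntermediateField.mem_bot.mp h2
    exact hx₀ (isAlgebraic_algebraMap a)
  obtain ⟨Q₁, hQ₁⟩ := hSne
  have hDpos : ∀ Q ∈ D.support, 0 < D Q := fun Q hQ =>
    lt_of_le_of_ne (hD0 Q) (Ne.symm (Finsupp.mem_support_iff.mp hQ))
  have hx' : Transcendental k x' := by
    apply transcendental_of_not_mem_range hK
    rintro ⟨a, ha⟩
    have h1 := hx'S Q₁ hQ₁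
    rw [← ha] at h1
    have h2 := Q₁.2.1 a
    rw [h1, ← WithZero.exp_zero, WithZero.exp_le_exp] at h2
    have := hDpos Q₁ hQ₁
    omega
  have hx'0 : x' ≠ 0 := by
    intro h
    rw [h] at hx'
    exact hx' isAlgebraic_zero
  -- the degree
  have hfin : {Q : Place k K | Q.1 x'⁻¹ < 1}.Finite := finite_zeros hK (transcendental_inv hx')
  set Z := hfin.toFinset with hZdef
  have hZ : ∀ Q, Q ∈ Z ↔ Q.1 x'⁻¹ < 1 := fun Q => by
    rw [hZdef, Set.Finite.mem_toFinset]; rfl
  have hzd : zdiv x'⁻¹ Z = D := by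
    ext Q
    rw [zdiv_apply]
    by_cases hQ : Q ∈ D.support
    · have h1 := hx'S Q hQ
      have h2 : Q ∈ Z := by
        rw [hZ, val_inv_lt_one_iff Q hx'0, h1, ← WithZero.exp_zero, WithZero.exp_lt_exp]
        exact hDpos Q hQ
      rw [if_pos h2, Groth.Agent.Lib.Helper27.FF.ord_inv]
      rw [val_eq_exp_neg_ord Q hx'0] at h1
      exact WithZero.exp_injective h1
    · have h0 : D Q = 0 := by
        by_contra h
        exact hQ (Finsupp.mem_support_iff.mpr h)
      have h2 : Q ∉ Z := by
        rw [hZ, val_inv_lt_one_iff Q hx'0, not_lt]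
        have := hx'L Q
        rwa [h0, WithZero.exp_zero] at this
      rw [if_neg h2, h0]
  have hdeg : (Module.finrank k⟮x'⟯ K : ℤ) = D.deg := by
    rw [← deg_poleDiv hK hx' Z hZ, hzd]
  -- the second coordinate
  by_cases hc0 : c 0 = 0
  · have hc1 : c 1 ≠ 0 := by
      intro h
      apply hx'0
      rw [hx'def, hc0, h, zero_smul, zero_smul, add_zero]
    refine ⟨x', x, hx'L, hxL, ?_, hx', hdeg⟩
    rw [eq_top_iff, ← hxy, IntermediateField.adjoin_le_iff]
    intro z hz
    rcases hz with rfl | rfl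
    · exact IntermediateField.subset_adjoin k _ (by simp)
    · have : z = (c 1)⁻¹ • x' := by
        rw [hx'def, hc0, zero_smul, zero_add, smul_smul, inv_mul_cancel₀ hc1, one_smul]
      rw [this]
      exact IntermediateField.smul_mem _ (IntermediateField.subset_adjoin k _ (by simp))
  · refine ⟨x', y, hx'L, hyL, ?_, hx', hdeg⟩
    rw [eq_top_iff, ← hxy, IntermediateField.adjoin_le_iff]
    intro z hz
    rcases hz with rfl | rfl
    · have : z = (c 0)⁻¹ • (x' - c 1 • y) := by
        rw [hx'def, add_sub_cancel_right, smul_smul, inv_mul_cancel₀ hc0, one_smul]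
      rw [this]
      exact IntermediateField.smul_mem _ (sub_mem (IntermediateField.subset_adjoin k _ (by simp))
        (IntermediateField.smul_mem _ (IntermediateField.subset_adjoin k _ (by simp))))
    · exact IntermediateField.subset_adjoin k _ (by simp)

end Groth.Agent.Lib.Helper23.FF
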