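import Mathlib
import Groth.Prelude.Def_W4bk4goldsch45
import Groth.Agent.Lib.Helper23.FFPlane2

/-!
Plane models `(1 : x : y)`: the genus bound.
-/

set_option autoImplicit false

namespace Groth.Agent.Lib.Helper23.FF

open FunFld
open scoped IntermediateField

universe u v
variable {k : Type u} {K : Type v} [Field k] [Field K] [Algebra k K]

theorem plane_count (hK : IsFunctionField k K) {D : Divisor k K} (hD0 : 0 ≤ D) {x' y' : K}
    (hx'L : x' ∈ L D) (hy'L : y' ∈ L D) (hx' : Transcendental k x')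
    (hgen : IntermediateField.adjoin k ({x', y'} : Set K) = ⊤) (m : ℕ) :
    ∑ j : Fin (Module.finrank k⟮x'⟯ K), (m + 1 - (j : ℕ)) ≤ ell (m • D) := by
  classical
  haveI := finiteDimensional_adjoin hK hx'
  have hint : IsIntegral k⟮x'⟯ y' := Algebra.IsIntegral.isIntegral y'
  have htop : IntermediateField.adjoin k⟮x'⟯ ({y'} : Set K) = ⊤ := by
    apply IntermediateField.restrictScalars_injective k
    rw [IntermediateField.adjoin_adjoin_left, IntermediateField.restrictScalars_top, ← hgen]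
    rfl
  have hnat : (minpoly k⟮x'⟯ y').natDegree = Module.finrank k⟮x'⟯ K := by
    rw [← IntermediateField.adjoin.finrank hint, htop, IntermediateField.finrank_top']
  have hli0 := linearIndependent_pow (K := k⟮x'⟯) y'
  have hli1 : LinearIndependent k⟮x'⟯ (fun j : Fin (Module.finrank k⟮x'⟯ K) => y' ^ (j : ℕ)) :=
    hli0.comp (Fin.cast hnat.symm) (Fin.cast_injective _)
  have hli2 := li_pow_mul hx' (fun j : Fin (Module.finrank k⟮x'⟯ K) => y' ^ (j : ℕ)) hli1 m
  let ι : (Σ j : Fin (Module.finrank k⟮x'⟯ K), Fin (m + 1 - (j : ℕ))) →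
      Fin (Module.finrank k⟮x'⟯ K) × Fin (m + 1) :=
    fun t => (t.1, ⟨t.2, by have := t.2.2; omega⟩)
  have hι : Function.Injective ι := by
    rintro ⟨j, i⟩ ⟨j', i'⟩ h
    simp only [ι, Prod.mk.injEq, Fin.mk.injEq] at h
    obtain ⟨rfl, h2⟩ := h
    congr
    exact Fin.ext h2
  have hli3 := hli2.comp ι hι
  have hmem : ∀ t : (Σ j : Fin (Module.finrank k⟮x'⟯ K), Fin (m + 1 - (j : ℕ))),
      x' ^ ((t.2 : ℕ)) * y' ^ ((t.1 : ℕ)) ∈ L (m • D) := by
    intro t
    have h1 := mul_mem_L_add (pow_mem_L_nsmul hx'L (t.2 : ℕ)) (pow_mem_L_nsmul hy'L (t.1 : ℕ))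
    rw [← add_nsmul] at h1
    exact L_mono (nsmul_le_nsmul_left hD0 (by have := t.2.2; omega)) h1
  haveI := Groth.Agent.Lib.Helper27.FF.finiteDimensional_L hK (m • D)
  have hli4 : LinearIndependent k
      (fun t : (Σ j : Fin (Module.finrank k⟮x'⟯ K), Fin (m + 1 - (j : ℕ))) =>
        (⟨_, hmem t⟩ : L (m • D))) := by
    apply LinearIndependent.of_comp (L (m • D)).subtype
    exact hli3
  have h := hli4.fintype_card_le_finrank
  rw [Fintype.card_sigma] at h
  unfold ell
  simpa using h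

/-- The genus of a function field with a plane model of degree `d` is at most
`(d-1)(d-2)/2`. -/
theorem plane_two_genus_le [IsAlgClosed k] (hK : IsFunctionField k K) (x y : K)
    (hxy : IntermediateField.adjoin k ({x, y} : Set K) = ⊤) :
    2 * (genus k K : ℤ) ≤
      ((mapDiv k ![(1 : K), x, y]).deg - 1) * ((mapDiv k ![(1 : K), x, y]).deg - 2) := by
  obtain ⟨x', y', hx'L, hy'L, hgen, hx', hdeg⟩ := plane_exists_generic hK x y hxy
  set D := mapDiv k ![(1 : K), x, y] with hD
  have hD0 : 0 ≤ D := plane_mapDiv_nonneg hK x y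
  haveI := finiteDimensional_adjoin hK hx'
  have hdpos : 0 < Module.finrank k⟮x'⟯ K := Module.finrank_pos
  set d' := Module.finrank k⟮x'⟯ K with hd'
  set m := d' + 2 * genus k K with hm
  have hcount := plane_count hK hD0 hx'L hy'L hx' hgen m
  have C := Groth.Agent.Lib.Helper27.FF.core_of hK
  have hmdeg : (m • D).deg = m * D.deg := by
    rw [← natCast_zsmul, deg_zsmul]
  have hd1 : (1 : ℤ) ≤ D.deg := by
    rw [← hdeg]
    exact_mod_cast hdpos
  have hell := C.ell_eq_of_deg_ge (D := m • D) (by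
    rw [hmdeg, hm]
    push_cast
    nlinarith [Int.natCast_nonneg d', Int.natCast_nonneg (genus k K)])
  rw [hmdeg] at hell
  have htri := sum_triangle m d' (by omega)
  have hcount' : ((∑ j : Fin d', (m + 1 - (j : ℕ)) : ℕ) : ℤ) ≤ (ell (m • D) : ℤ) := by
    exact_mod_cast hcount
  rw [hell] at hcount'
  rw [← hdeg]
  nlinarith [hcount', htri]

end Groth.Agent.Lib.Helper23.FF
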