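import Mathlib
import Groth.Prelude.Def_W4bk4goldsch45
import Groth.Agent.Lib.Helper23.FFPlane3

/-!
Plane models: the spaces `V_m = W^m`, `W = span (1, x, y)`, as images of polynomials of bounded
total degree.
-/

set_option autoImplicit false

namespace Groth.Agent.Lib.Helper23.FF

open FunFld
open scoped IntermediateField

universe u v
variable {k : Type u} {K : Type v} [Field k] [Field K] [Algebra k K]

/-- The span of `1, x, y`. -/
def planeW (k : Type u) {K : Type v} [Field k] [Field K] [Algebra k K] (x y : K) :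
    Submodule k K :=
  Submodule.span k {1, x, y}

theorem one_mem_planeW (x y : K) : (1 : K) ∈ planeW k x y :=
  Submodule.subset_span (by simp)

theorem x_mem_planeW (x y : K) : x ∈ planeW k x y :=
  Submodule.subset_span (by simp)

theorem y_mem_planeW (x y : K) : y ∈ planeW k x y :=
  Submodule.subset_span (by simp)

theorem one_le_planeW (x y : K) : (1 : Submodule k K) ≤ planeW k x y :=
  Submodule.one_le.mpr (one_mem_planeW x y)

theorem planeW_pow_mono (x y : K) {a b : ℕ} (h : a ≤ b) :
    planeW k x y ^ a ≤ planeW k x y ^ b :=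
  pow_le_pow_right' (one_le_planeW x y) h

theorem L_pow_le (D : Divisor k K) (m : ℕ) : L D ^ m ≤ L (m • D) := by
  induction m with
  | zero =>
    rw [pow_zero, zero_smul]
    exact Submodule.one_le.mpr one_mem_L_zero
  | succ m ih =>
    rw [pow_succ, succ_nsmul]
    exact (mul_le_mul' ih le_rfl).trans
      (Submodule.mul_le.mpr fun a ha b hb => mul_mem_L_add ha hb)

theorem planeW_le_L (hK : IsFunctionField k K) (x y : K) :
    planeW k x y ≤ L (mapDiv k ![(1 : K), x, y]) := by
  unfold planeW
  rw [Submodule.span_le]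
  rintro z (rfl | rfl | rfl)
  · exact L_mono (plane_mapDiv_nonneg hK x y) one_mem_L_zero
  · exact plane_x_mem hK _ y
  · exact plane_y_mem hK x _

theorem planeW_pow_le_L (hK : IsFunctionField k K) (x y : K) (m : ℕ) :
    planeW k x y ^ m ≤ L (m • mapDiv k ![(1 : K), x, y]) :=
  (pow_le_pow_left' (planeW_le_L hK x y) m).trans (L_pow_le _ m)

theorem finiteDimensional_planeW_pow (hK : IsFunctionField k K) (x y : K) (m : ℕ) :
    FiniteDimensional k ↥(planeW k x y ^ m) := by
  haveI := Groth.Agent.Lib.Helper27.FF.finiteDimensional_L hK (m • mapDiv k ![(1 : K), x, y])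
  exact Submodule.finiteDimensional_of_le (planeW_pow_le_L hK x y m)

/-- The evaluation map `k[X,Y] → K`. -/
noncomputable def planeEv (k : Type u) {K : Type v} [Field k] [Field K] [Algebra k K] (x y : K) :
    MvPolynomial (Fin 2) k →ₐ[k] K :=
  MvPolynomial.aeval ![x, y]

theorem planeEv_monomial (x y : K) (n : Fin 2 →₀ ℕ) (c : k) :
    planeEv k x y (MvPolynomial.monomial n c) = algebraMap k K c * (x ^ n 0 * y ^ n 1) := by
  unfold planeEv
  rw [MvPolynomial.aeval_monomial, Finsupp.prod_fintype _ _ (fun i => pow_zero _),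
    Fin.prod_univ_two]
  rfl

theorem sum_fin_two (n : Fin 2 →₀ ℕ) : (n.sum fun _ e => e) = n 0 + n 1 := by
  rw [Finsupp.sum_fintype _ _ (fun _ => rfl), Fin.sum_univ_two]

theorem map_restrictTotalDegree_le (x y : K) (m : ℕ) :
    Submodule.map (planeEv k x y).toLinearMap (MvPolynomial.restrictTotalDegree (Fin 2) k m)
      ≤ planeW k x y ^ m := by
  unfold MvPolynomial.restrictTotalDegree
  rw [MvPolynomial.restrictSupport_eq_span, Submodule.map_span, Submodule.span_le]
  rintro _ ⟨_, ⟨n, hn, rfl⟩, rfl⟩
  rw [Set.mem_setOf_eq, sum_fin_two] at hn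
  show planeEv k x y (MvPolynomial.monomial n 1) ∈ planeW k x y ^ m
  rw [planeEv_monomial, map_one, one_mul]
  apply planeW_pow_mono x y hn
  rw [pow_add]
  exact Submodule.mul_mem_mul (Submodule.pow_mem_pow _ (x_mem_planeW x y) _)
    (Submodule.pow_mem_pow _ (y_mem_planeW x y) _)

theorem planeW_le_map (x y : K) :
    planeW k x y ≤
      Submodule.map (planeEv k x y).toLinearMap (MvPolynomial.restrictTotalDegree (Fin 2) k 1) := by
  unfold planeW
  rw [Submodule.span_le]
  rintro z (rfl | rfl | rfl)
  · refine ⟨1, ?_, map_one (planeEv k x y)⟩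
    rw [SetLike.mem_coe, MvPolynomial.mem_restrictTotalDegree, MvPolynomial.totalDegree_one]
    exact Nat.zero_le _
  · refine ⟨MvPolynomial.X 0, ?_, ?_⟩
    · rw [SetLike.mem_coe, MvPolynomial.mem_restrictTotalDegree, MvPolynomial.totalDegree_X]
    · show planeEv k _ y (MvPolynomial.X 0) = _
      unfold planeEv
      rw [MvPolynomial.aeval_X]
      rfl
  · refine ⟨MvPolynomial.X 1, ?_, ?_⟩
    · rw [SetLike.mem_coe, MvPolynomial.mem_restrictTotalDegree, MvPolynomial.totalDegree_X]
    · show planeEv k x _ (MvPolynomial.X 1) = _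
      unfold planeEv
      rw [MvPolynomial.aeval_X]
      rfl

theorem restrictTotalDegree_mul_le (a b : ℕ) :
    MvPolynomial.restrictTotalDegree (Fin 2) k a * MvPolynomial.restrictTotalDegree (Fin 2) k b
      ≤ MvPolynomial.restrictTotalDegree (Fin 2) k (a + b) := by
  rw [Submodule.mul_le]
  intro p hp q hq
  rw [MvPolynomial.mem_restrictTotalDegree] at hp hq ⊢
  exact (MvPolynomial.totalDegree_mul p q).trans (add_le_add hp hq)

theorem planeW_pow_le_map (x y : K) (m : ℕ) :
    planeW k x y ^ m ≤
      Submodule.map (planeEv k x y).toLinearMap (MvPolynomial.restrictTotalDegree (Fin 2) k m) := by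
  induction m with
  | zero =>
    rw [pow_zero, Submodule.one_le]
    refine ⟨1, ?_, map_one (planeEv k x y)⟩
    rw [SetLike.mem_coe, MvPolynomial.mem_restrictTotalDegree, MvPolynomial.totalDegree_one]
  | succ m ih =>
    rw [pow_succ]
    refine (mul_le_mul' ih (planeW_le_map x y)).trans ?_
    rw [← Submodule.map_mul]
    exact Submodule.map_mono (restrictTotalDegree_mul_le m 1)

theorem map_restrictTotalDegree_eq (x y : K) (m : ℕ) :
    Submodule.map (planeEv k x y).toLinearMap (MvPolynomial.restrictTotalDegree (Fin 2) k m)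
      = planeW k x y ^ m :=
  le_antisymm (map_restrictTotalDegree_le x y m) (planeW_pow_le_map x y m)

/-- The monomials `x^b y^c`, `b + c ≤ m`, span `W^m`. -/
theorem planeW_pow_eq_span (x y : K) (m : ℕ) :
    planeW k x y ^ m = Submodule.span k {z | ∃ b c : ℕ, b + c ≤ m ∧ z = x ^ b * y ^ c} := by
  apply le_antisymm
  · rw [← map_restrictTotalDegree_eq]
    unfold MvPolynomial.restrictTotalDegree
    rw [MvPolynomial.restrictSupport_eq_span, Submodule.map_span, Submodule.span_le]
    rintro _ ⟨_, ⟨n, hn, rfl⟩, rfl⟩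
    rw [Set.mem_setOf_eq, sum_fin_two] at hn
    apply Submodule.subset_span
    refine ⟨n 0, n 1, hn, ?_⟩
    show planeEv k x y (MvPolynomial.monomial n 1) = _
    rw [planeEv_monomial, map_one, one_mul]
  · rw [Submodule.span_le]
    rintro _ ⟨b, c, hbc, rfl⟩
    apply planeW_pow_mono x y hbc
    rw [pow_add]
    exact Submodule.mul_mem_mul (Submodule.pow_mem_pow _ (x_mem_planeW x y) _)
      (Submodule.pow_mem_pow _ (y_mem_planeW x y) _)

end Groth.Agent.Lib.Helper23.FF
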