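import Mathlib
import Groth.Prelude.Def_W4bk4goldsch45
import Groth.Agent.Lib.Helper23.FFHilb1
import Groth.Agent.Lib.Helper27.FunFld9

/-!
Plane models: counting monomials, and the ideal of the plane curve is principal.
-/

set_option autoImplicit false

namespace Groth.Agent.Lib.Helper23.FF

open FunFld
open scoped IntermediateField

universe u v
variable {k : Type u} {K : Type v} [Field k] [Field K] [Algebra k K]

/-- Exponent vectors of total degree `≤ m` in two variables. -/
noncomputable def degLEEquiv (m : ℕ) :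
    {n : Fin 2 →₀ ℕ | (n.sum fun _ e => e) ≤ m} ≃ (Σ a : Fin (m + 1), Fin (m + 1 - (a : ℕ))) where
  toFun n := ⟨⟨n.1 0, by
      have := n.2
      rw [Set.mem_setOf_eq, sum_fin_two] at this
      omega⟩, ⟨n.1 1, by
      have := n.2
      rw [Set.mem_setOf_eq, sum_fin_two] at this
      show n.1 1 < m + 1 - n.1 0
      omega⟩⟩
  invFun t := ⟨Finsupp.equivFunOnFinite.symm ![(t.1 : ℕ), (t.2 : ℕ)], by
      rw [Set.mem_setOf_eq, sum_fin_two]
      have h1 := t.1.2
      have h2 := t.2.2
      simp
      omega⟩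
  left_inv n := by
    apply Subtype.ext
    ext i
    fin_cases i <;> simp
  right_inv t := by
    rcases t with ⟨a, b⟩
    simp

theorem finrank_restrictTotalDegree (m : ℕ) :
    Module.finrank k (MvPolynomial.restrictTotalDegree (Fin 2) k m)
      = ∑ a : Fin (m + 1), (m + 1 - (a : ℕ)) := by
  have B := MvPolynomial.basisRestrictSupport k {n : Fin 2 →₀ ℕ | (n.sum fun _ e => e) ≤ m}
  show Module.finrank k (MvPolynomial.restrictSupport k {n : Fin 2 →₀ ℕ | (n.sum fun _ e => e) ≤ m})
    = _
  rw [Module.finrank_eq_nat_card_basis B, Nat.card_congr (degLEEquiv m), Nat.card_eq_fintype_card,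
    Fintype.card_sigma]
  simp

theorem two_mul_finrank_restrictTotalDegree (m : ℕ) :
    2 * (Module.finrank k (MvPolynomial.restrictTotalDegree (Fin 2) k m) : ℤ)
      = ((m : ℤ) + 1) * (m + 2) := by
  rw [finrank_restrictTotalDegree, sum_triangle m (m + 1) le_rfl]
  push_cast
  ring

/-- `x` and `y` are algebraically dependent. -/
theorem ker_planeEv_ne_bot (hK : IsFunctionField k K) (x y : K) :
    RingHom.ker (planeEv k x y) ≠ ⊥ := by
  intro hbot
  have hinj : Function.Injective (planeEv k x y) :=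
    (RingHom.injective_iff_ker_eq_bot _).mpr hbot
  set D := mapDiv k ![(1 : K), x, y] with hD
  have hD0 : 0 ≤ D := plane_mapDiv_nonneg hK x y
  have hdeg0 : 0 ≤ D.deg := deg_nonneg hD0
  set m := 2 * D.deg.toNat + 1 with hm
  have h1 : Module.finrank k ↥(planeW k x y ^ m)
      = Module.finrank k (MvPolynomial.restrictTotalDegree (Fin 2) k m) := by
    rw [← map_restrictTotalDegree_eq]
    exact (Submodule.equivMapOfInjective (planeEv k x y).toLinearMap hinj _).finrank_eq.symm
  haveI := Groth.Agent.Lib.Helper27.FF.finiteDimensional_L hK (m • D)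
  have h2 : Module.finrank k ↥(planeW k x y ^ m) ≤ ell (m • D) :=
    Submodule.finrank_mono (planeW_pow_le_L hK x y m)
  have h3 := Groth.Agent.Lib.Helper27.FF.ell_le_deg_add_one hK (D := m • D) (nsmul_nonneg hD0 m)
  rw [← natCast_zsmul, deg_zsmul] at h3
  have h4 := two_mul_finrank_restrictTotalDegree (k := k) m
  rw [← h1] at h4
  have h5 : (Module.finrank k ↥(planeW k x y ^ m) : ℤ) ≤ (ell (m • D) : ℤ) := by exact_mod_cast h2
  have h6 : (m : ℤ) = 2 * D.deg + 1 := by
    rw [hm]
    push_cast
    rw [Int.toNat_of_nonneg hdeg0]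
  rw [natCast_zsmul] at h3
  nlinarith

/-- The ideal of the affine plane curve is principal, generated by a prime element. -/
theorem exists_prime_ker_planeEv [IsAlgClosed k] (hK : IsFunctionField k K) (x y : K)
    (hxy : IntermediateField.adjoin k ({x, y} : Set K) = ⊤) :
    ∃ f : MvPolynomial (Fin 2) k, Prime f ∧ RingHom.ker (planeEv k x y) = Ideal.span {f} := by
  haveI hp : (RingHom.ker (planeEv k x y)).IsPrime := RingHom.ker_isPrime _
  obtain ⟨f, hfp, hf⟩ := Ideal.IsPrime.exists_mem_prime_of_ne_bot hp (ker_planeEv_ne_bot hK x y)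
  refine ⟨f, hf, ?_⟩
  by_contra hne
  have hle : Ideal.span {f} ≤ RingHom.ker (planeEv k x y) :=
    (Ideal.span_singleton_le_iff_mem _).mpr hfp
  have hlt : Ideal.span {f} < RingHom.ker (planeEv k x y) := lt_of_le_of_ne hle (Ne.symm hne)
  haveI : (Ideal.span {f}).IsPrime := (Ideal.span_singleton_prime hf.ne_zero).mpr hf
  have hbot : (⊥ : Ideal (MvPolynomial (Fin 2) k)) < Ideal.span {f} := by
    rw [bot_lt_iff_ne_bot, Ne, Ideal.span_singleton_eq_bot]
    exact hf.ne_zero
  have hmax : (RingHom.ker (planeEv k x y)).IsMaximal := by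
    by_contra hnm
    obtain ⟨M, hM, hpM⟩ := Ideal.exists_le_maximal _ hp.ne_top
    have hpM' : RingHom.ker (planeEv k x y) < M :=
      lt_of_le_of_ne hpM (by rintro h; exact hnm (h ▸ hM))
    haveI := hM.isPrime
    have h1 := Ideal.height_add_one_le_of_lt_of_isPrime hbot
    have h2 := Ideal.height_add_one_le_of_lt_of_isPrime hlt
    have h3 := Ideal.height_add_one_le_of_lt_of_isPrime hpM'
    have h4 := Ideal.height_le_ringKrullDim_of_ne_top hM.ne_top
    rw [MvPolynomial.ringKrullDim_of_isNoetherianRing, ringKrullDim_eq_zero_of_field] at h4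
    have h5 : (3 : ℕ∞) ≤ M.height := by
      calc (3 : ℕ∞) = 0 + 1 + 1 + 1 := by norm_num
        _ ≤ (⊥ : Ideal (MvPolynomial (Fin 2) k)).height + 1 + 1 + 1 := by
            gcongr
            exact zero_le
        _ ≤ (Ideal.span {f}).height + 1 + 1 := by gcongr
        _ ≤ (RingHom.ker (planeEv k x y)).height + 1 := by gcongr
        _ ≤ M.height := h3
    have h6 : (M.height : WithBot ℕ∞) ≤ 2 := by
      simpa using h4
    have h7 : ((3 : ℕ∞) : WithBot ℕ∞) ≤ (M.height : WithBot ℕ∞) := WithBot.coe_le_coe.mpr h5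
    have h8 := h7.trans h6
    have h9 : ((3 : ℕ∞) : WithBot ℕ∞) ≤ ((2 : ℕ∞) : WithBot ℕ∞) := h8
    rw [WithBot.coe_le_coe] at h9
    exact absurd h9 (by norm_num)
  obtain ⟨a, ha⟩ := (MvPolynomial.isMaximal_iff_eq_vanishingIdeal_singleton).mp hmax
  have hx : x = algebraMap k K (a 0) := by
    have h1 : (MvPolynomial.X 0 - MvPolynomial.C (a 0) : MvPolynomial (Fin 2) k)
        ∈ RingHom.ker (planeEv k x y) := by
      rw [ha, MvPolynomial.mem_vanishingIdeal_singleton_iff]
      simp
    rw [RingHom.mem_ker] at h1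
    unfold planeEv at h1
    rw [map_sub, MvPolynomial.aeval_X, MvPolynomial.aeval_C, sub_eq_zero] at h1
    exact h1
  have hy : y = algebraMap k K (a 1) := by
    have h1 : (MvPolynomial.X 1 - MvPolynomial.C (a 1) : MvPolynomial (Fin 2) k)
        ∈ RingHom.ker (planeEv k x y) := by
      rw [ha, MvPolynomial.mem_vanishingIdeal_singleton_iff]
      simp
    rw [RingHom.mem_ker] at h1
    unfold planeEv at h1
    rw [map_sub, MvPolynomial.aeval_X, MvPolynomial.aeval_C, sub_eq_zero] at h1
    exact h1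
  obtain ⟨⟨x₀, hx₀, _⟩, _⟩ := id hK
  have h1 : IntermediateField.adjoin k ({x, y} : Set K) ≤ ⊥ := by
    rw [IntermediateField.adjoin_le_iff]
    intro z hz
    rcases hz with rfl | rfl
    · exact IntermediateField.mem_bot.mpr ⟨a 0, hx.symm⟩
    · exact IntermediateField.mem_bot.mpr ⟨a 1, hy.symm⟩
  rw [hxy] at h1
  have h2 : x₀ ∈ (⊥ : IntermediateField k K) := h1 IntermediateField.mem_top
  obtain ⟨c, rfl⟩ := IntermediateField.mem_bot.mp h2
  exact hx₀ (isAlgebraic_algebraMap c)

end Groth.Agent.Lib.Helper23.FF
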