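import Mathlib
import Groth.Prelude.Def_W4bk4goldsch45
import Groth.Agent.Lib.Helper23.FFHilb2

/-!
Plane models: the Hilbert function of `W^m` and the degree of the plane curve.
-/

set_option autoImplicit false

namespace Groth.Agent.Lib.Helper23.FF

open FunFld
open scoped IntermediateField

universe u v
variable {k : Type u} {K : Type v} [Field k] [Field K] [Algebra k K]

theorem plane_exists_generic' [IsAlgClosed k] (hK : IsFunctionField k K) (x y : K)
    (hxy : IntermediateField.adjoin k ({x, y} : Set K) = ⊤) :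
    ∃ x' y' : K, x' ∈ planeW k x y ∧ y' ∈ planeW k x y ∧
      IntermediateField.adjoin k ({x', y'} : Set K) = ⊤ ∧ Transcendental k x' ∧
      (Module.finrank k⟮x'⟯ K : ℤ) = (mapDiv k ![(1 : K), x, y]).deg ∧
      ∀ Q : Place k K, mapDiv k ![(1 : K), x, y] Q ≠ 0 →
        Q.1 x' = WithZero.exp (mapDiv k ![(1 : K), x, y] Q) := by
  classical
  set D := mapDiv k ![(1 : K), x, y] with hD
  have hD0 : 0 ≤ D := plane_mapDiv_nonneg hK x y
  have hxL : x ∈ L D := plane_x_mem hK x y
  have hyL : y ∈ L D := plane_y_mem hK x y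
  obtain ⟨c, hc⟩ := exists_generic ![x, y] D.support (fun Q => WithZero.exp (D Q))
    (fun _ _ => WithZero.exp_ne_zero)
    (fun Q hQ => plane_exists_le hK x y Q (Finsupp.mem_support_iff.mp hQ))
  have hsum : ∑ i, c i • ![x, y] i = c 0 • x + c 1 • y := by
    rw [Fin.sum_univ_two]
    rfl
  rw [hsum] at hc
  set x' := c 0 • x + c 1 • y with hx'def
  have hx'L : x' ∈ L D := (L D).add_mem ((L D).smul_mem _ hxL) ((L D).smul_mem _ hyL)
  have hx'S : ∀ Q ∈ D.support, Q.1 x' = WithZero.exp (D Q) := fun Q hQ =>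
    le_antisymm (hx'L Q) (hc Q hQ)
  -- the support is nonempty
  have hSne : D.support.Nonempty := by
    by_contra hemp
    rw [Finset.not_nonempty_iff_eq_empty, Finsupp.support_eq_empty] at hemp
    rw [hemp] at hxL hyL
    rw [Groth.Agent.Lib.Helper27.FF.L_zero hK] at hxL hyL
    obtain ⟨⟨x₀, hx₀, _⟩, _⟩ := id hK
    have h1 : IntermediateField.adjoin k ({x, y} : Set K) ≤ ⊥ := by
      rw [IntermediateField.adjoin_le_iff]
      intro z hz
      rcases hz with rfl | rfl
      · obtain ⟨a, rfl⟩ := Submodule.mem_one.mp hxL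
        exact IntermediateField.mem_bot.mpr ⟨a, rfl⟩
      · obtain ⟨a, rfl⟩ := Submodule.mem_one.mp hyL
        exact IntermediateField.mem_bot.mpr ⟨a, rfl⟩
    rw [hxy] at h1
    have h2 : x₀ ∈ (⊥ : IntermediateField k K) := h1 IntermediateField.mem_top
    obtain ⟨a, rfl⟩ := IntermediateField.mem_bot.mp h2
    exact hx₀ (isAlgebraic_algebraMap a)
  obtain ⟨Q₁, hQ₁⟩ := hSne
  have hDpos : ∀ Q ∈ D.support, 0 < D Q := fun Q hQ =>
    lt_of_le_of_ne (hD0 Q) (Ne.symm (Finsupp.mem_support_iff.mp hQ))
  have hx' : Transcendental k x' := by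
    apply transcendental_of_not_mem_range hK
    rintro ⟨a, ha⟩
    have h1 := hx'S Q₁ hQ₁
    rw [← ha] at h1
    have h2 := Q₁.2.1 a
    rw [h1, ← WithZero.exp_zero, WithZero.exp_le_exp] at h2
    have := hDpos Q₁ hQ₁
    omega
  have hx'0 : x' ≠ 0 := by
    intro h
    rw [h] at hx'
    exact hx' isAlgebraic_zero
  -- the degree
  have hfin : {Q : Place k K | Q.1 x'⁻¹ < 1}.Finite := finite_zeros hK (transcendental_inv hx')
  set Z := hfin.toFinset with hZdef
  have hZ : ∀ Q, Q ∈ Z ↔ Q.1 x'⁻¹ < 1 := fun Q => by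
    rw [hZdef, Set.Finite.mem_toFinset]; rfl
  have hzd : zdiv x'⁻¹ Z = D := by
    ext Q
    rw [zdiv_apply]
    by_cases hQ : Q ∈ D.support
    · have h1 := hx'S Q hQ
      have h2 : Q ∈ Z := by
        rw [hZ, val_inv_lt_one_iff Q hx'0, h1, ← WithZero.exp_zero, WithZero.exp_lt_exp]
        exact hDpos Q hQ
      rw [if_pos h2, Groth.Agent.Lib.Helper27.FF.ord_inv]
      rw [val_eq_exp_neg_ord Q hx'0] at h1
      exact WithZero.exp_injective h1
    · have h0 : D Q = 0 := by
        by_contra h
        exact hQ (Finsupp.mem_support_iff.mpr h)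
      have h2 : Q ∉ Z := by
        rw [hZ, val_inv_lt_one_iff Q hx'0, not_lt]
        have := hx'L Q
        rwa [h0, WithZero.exp_zero] at this
      rw [if_neg h2, h0]
  have hdeg : (Module.finrank k⟮x'⟯ K : ℤ) = D.deg := by
    rw [← deg_poleDiv hK hx' Z hZ, hzd]
  have hx'W : x' ∈ planeW k x y :=
    Submodule.add_mem _ (Submodule.smul_mem _ _ (x_mem_planeW x y))
      (Submodule.smul_mem _ _ (y_mem_planeW x y))
  have hx'S' : ∀ Q : Place k K, D Q ≠ 0 → Q.1 x' = WithZero.exp (D Q) :=
    fun Q hQ => hx'S Q (Finsupp.mem_support_iff.mpr hQ)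
  -- the second coordinate
  by_cases hc0 : c 0 = 0
  · have hc1 : c 1 ≠ 0 := by
      intro h
      apply hx'0
      rw [hx'def, hc0, h, zero_smul, zero_smul, add_zero]
    refine ⟨x', x, hx'W, x_mem_planeW x y, ?_, hx', hdeg, hx'S'⟩
    rw [eq_top_iff, ← hxy, IntermediateField.adjoin_le_iff]
    intro z hz
    rcases hz with rfl | rfl
    · exact IntermediateField.subset_adjoin k _ (by simp)
    · have : z = (c 1)⁻¹ • x' := by
        rw [hx'def, hc0, zero_smul, zero_add, smul_smul, inv_mul_cancel₀ hc1, one_smul]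
      rw [this]
      exact IntermediateField.smul_mem _ (IntermediateField.subset_adjoin k _ (by simp))
  · refine ⟨x', y, hx'W, y_mem_planeW x y, ?_, hx', hdeg, hx'S'⟩
    rw [eq_top_iff, ← hxy, IntermediateField.adjoin_le_iff]
    intro z hz
    rcases hz with rfl | rfl
    · have : z = (c 0)⁻¹ • (x' - c 1 • y) := by
        rw [hx'def, add_sub_cancel_right, smul_smul, inv_mul_cancel₀ hc0, one_smul]
      rw [this]
      exact IntermediateField.smul_mem _ (sub_mem (IntermediateField.subset_adjoin k _ (by simp))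
        (IntermediateField.smul_mem _ (IntermediateField.subset_adjoin k _ (by simp))))
    · exact IntermediateField.subset_adjoin k _ (by simp)


/-- Independent monomials inside any space containing the monomials of degree `≤ m`. -/
theorem plane_count' (hK : IsFunctionField k K) {x' y' : K} (hx' : Transcendental k x')
    (hgen : IntermediateField.adjoin k ({x', y'} : Set K) = ⊤) (m : ℕ)
    (V : Submodule k K) [FiniteDimensional k V]
    (hV : ∀ i j : ℕ, i + j ≤ m → x' ^ i * y' ^ j ∈ V) :
    ∑ j : Fin (Module.finrank k⟮x'⟯ K), (m + 1 - (j : ℕ)) ≤ Module.finrank k V := by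
  classical
  haveI := finiteDimensional_adjoin hK hx'
  have hint : IsIntegral k⟮x'⟯ y' := Algebra.IsIntegral.isIntegral y'
  have htop : IntermediateField.adjoin k⟮x'⟯ ({y'} : Set K) = ⊤ := by
    apply IntermediateField.restrictScalars_injective k
    rw [IntermediateField.adjoin_adjoin_left, IntermediateField.restrictScalars_top, ← hgen]
    rfl
  have hnat : (minpoly k⟮x'⟯ y').natDegree = Module.finrank k⟮x'⟯ K := by
    rw [← IntermediateField.adjoin.finrank hint, htop, IntermediateField.finrank_top']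
  have hli0 := linearIndependent_pow (K := k⟮x'⟯) y'
  have hli1 : LinearIndependent k⟮x'⟯ (fun j : Fin (Module.finrank k⟮x'⟯ K) => y' ^ (j : ℕ)) :=
    hli0.comp (Fin.cast hnat.symm) (Fin.cast_injective _)
  have hli2 := li_pow_mul hx' (fun j : Fin (Module.finrank k⟮x'⟯ K) => y' ^ (j : ℕ)) hli1 m
  let ι : (Σ j : Fin (Module.finrank k⟮x'⟯ K), Fin (m + 1 - (j : ℕ))) →
      Fin (Module.finrank k⟮x'⟯ K) × Fin (m + 1) :=
    fun t => (t.1, ⟨t.2, by have := t.2.2; omega⟩)
  have hι : Function.Injective ι := by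
    rintro ⟨j, i⟩ ⟨j', i'⟩ h
    simp only [ι, Prod.mk.injEq, Fin.mk.injEq] at h
    obtain ⟨rfl, h2⟩ := h
    congr
    exact Fin.ext h2
  have hli3 := hli2.comp ι hι
  have hmem : ∀ t : (Σ j : Fin (Module.finrank k⟮x'⟯ K), Fin (m + 1 - (j : ℕ))),
      x' ^ ((t.2 : ℕ)) * y' ^ ((t.1 : ℕ)) ∈ V := by
    intro t
    exact hV _ _ (by have := t.2.2; omega)
  have hli4 : LinearIndependent k
      (fun t : (Σ j : Fin (Module.finrank k⟮x'⟯ K), Fin (m + 1 - (j : ℕ))) =>
        (⟨_, hmem t⟩ : V)) := by
    apply LinearIndependent.of_comp V.subtype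
    exact hli3
  have h := hli4.fintype_card_le_finrank
  rw [Fintype.card_sigma] at h
  simpa using h

/-- rank–nullity for `W^m`. -/
theorem finrank_planeW_pow (x y : K) (f : MvPolynomial (Fin 2) k) (hf0 : f ≠ 0)
    (hker : RingHom.ker (planeEv k x y) = Ideal.span {f}) (m : ℕ) (hm : f.totalDegree ≤ m) :
    Module.finrank k ↥(planeW k x y ^ m)
      + Module.finrank k (MvPolynomial.restrictTotalDegree (Fin 2) k (m - f.totalDegree))
      = Module.finrank k (MvPolynomial.restrictTotalDegree (Fin 2) k m) := by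
  have hfker : planeEv k x y f = 0 := by
    have : f ∈ RingHom.ker (planeEv k x y) := hker ▸ Ideal.subset_span rfl
    exact this
  let evm : ↥(MvPolynomial.restrictTotalDegree (Fin 2) k m) →ₗ[k] K :=
    (planeEv k x y).toLinearMap.comp (MvPolynomial.restrictTotalDegree (Fin 2) k m).subtype
  have hrange : LinearMap.range evm = planeW k x y ^ m := by
    rw [LinearMap.range_comp, Submodule.range_subtype, map_restrictTotalDegree_eq]
  let μ : ↥(MvPolynomial.restrictTotalDegree (Fin 2) k (m - f.totalDegree)) →ₗ[k]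
      ↥(MvPolynomial.restrictTotalDegree (Fin 2) k m) :=
    LinearMap.codRestrict (MvPolynomial.restrictTotalDegree (Fin 2) k m)
      ((LinearMap.mulLeft k f).comp (Submodule.subtype _)) (by
        intro g
        rw [MvPolynomial.mem_restrictTotalDegree]
        have h1 := (MvPolynomial.mem_restrictTotalDegree _ _ _).mp g.2
        exact (MvPolynomial.totalDegree_mul f g.1).trans (by omega))
  have hμinj : Function.Injective μ := by
    intro g g' h
    have h1 : f * g.1 = f * g'.1 := congrArg Subtype.val h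
    exact Subtype.ext (mul_left_cancel₀ hf0 h1)
  have hμrange : LinearMap.range μ = LinearMap.ker evm := by
    apply le_antisymm
    · rintro _ ⟨g, rfl⟩
      rw [LinearMap.mem_ker]
      show planeEv k x y (f * g.1) = 0
      rw [map_mul, hfker, zero_mul]
    · intro p hp
      rw [LinearMap.mem_ker] at hp
      have hp' : p.1 ∈ RingHom.ker (planeEv k x y) := hp
      rw [hker, Ideal.mem_span_singleton'] at hp'
      obtain ⟨g, hg⟩ := hp'
      by_cases hg0 : g = 0
      · refine ⟨0, ?_⟩
        apply Subtype.ext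
        rw [map_zero]
        show (0 : MvPolynomial (Fin 2) k) = p.1
        rw [← hg, hg0, zero_mul]
      · have hdeg : g.totalDegree ≤ m - f.totalDegree := by
          have h1 := MvPolynomial.totalDegree_mul_of_isDomain hg0 hf0
          rw [hg] at h1
          have h2 := (MvPolynomial.mem_restrictTotalDegree _ _ _).mp p.2
          omega
        refine ⟨⟨g, (MvPolynomial.mem_restrictTotalDegree _ _ _).mpr hdeg⟩, ?_⟩
        apply Subtype.ext
        show f * g = p.1
        rw [mul_comm, hg]
  have h1 := LinearMap.finrank_range_add_finrank_ker evm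
  rw [hrange, ← hμrange, LinearMap.finrank_range_of_inj hμinj] at h1
  exact h1

theorem two_mul_finrank_planeW_pow_aux (x y : K) (f : MvPolynomial (Fin 2) k) (hf0 : f ≠ 0)
    (hker : RingHom.ker (planeEv k x y) = Ideal.span {f}) (m : ℕ) (hm : f.totalDegree ≤ m) :
    2 * (Module.finrank k ↥(planeW k x y ^ m) : ℤ)
      = 2 * (f.totalDegree : ℤ) * (m + 1) - f.totalDegree * (f.totalDegree - 1) := by
  have h1 := finrank_planeW_pow x y f hf0 hker m hm
  have h2 := two_mul_finrank_restrictTotalDegree (k := k) m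
  have h3 := two_mul_finrank_restrictTotalDegree (k := k) (m - f.totalDegree)
  rw [Nat.cast_sub hm] at h3
  have h4 : (Module.finrank k ↥(planeW k x y ^ m) : ℤ)
      + (Module.finrank k (MvPolynomial.restrictTotalDegree (Fin 2) k (m - f.totalDegree)) : ℤ)
      = (Module.finrank k (MvPolynomial.restrictTotalDegree (Fin 2) k m) : ℤ) := by
    exact_mod_cast h1
  linear_combination 2 * h4 + h2 - h3

/-- The degree of the plane curve is the degree of the divisor of the map. -/
theorem totalDegree_eq_deg [IsAlgClosed k] (hK : IsFunctionField k K) (x y : K)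
    (hxy : IntermediateField.adjoin k ({x, y} : Set K) = ⊤)
    (f : MvPolynomial (Fin 2) k) (hf0 : f ≠ 0)
    (hker : RingHom.ker (planeEv k x y) = Ideal.span {f}) :
    (f.totalDegree : ℤ) = (mapDiv k ![(1 : K), x, y]).deg := by
  obtain ⟨x', y', hx'W, hy'W, hgen, hx', hdeg, -⟩ := plane_exists_generic' hK x y hxy
  set D := mapDiv k ![(1 : K), x, y] with hD
  have hD0 : 0 ≤ D := plane_mapDiv_nonneg hK x y
  set d' := Module.finrank k⟮x'⟯ K with hd'
  set e := f.totalDegree with he
  rw [← hdeg]
  set m := e * e + d' * d' + e + d' + 2 with hm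
  have hme : e ≤ m := by rw [hm]; nlinarith
  have hmd : d' ≤ m + 1 := by rw [hm]; nlinarith
  haveI := finiteDimensional_planeW_pow hK x y m
  have hlow := plane_count' hK hx' hgen m (planeW k x y ^ m) (by
    intro i j hij
    apply planeW_pow_mono x y hij
    rw [pow_add]
    exact Submodule.mul_mem_mul (Submodule.pow_mem_pow _ hx'W _) (Submodule.pow_mem_pow _ hy'W _))
  have htri := sum_triangle m d' hmd
  have hlow' : ((∑ j : Fin d', (m + 1 - (j : ℕ)) : ℕ) : ℤ)
      ≤ (Module.finrank k ↥(planeW k x y ^ m) : ℤ) := by exact_mod_cast hlow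
  have hexact := two_mul_finrank_planeW_pow_aux x y f hf0 hker m hme
  haveI := Groth.Agent.Lib.Helper27.FF.finiteDimensional_L hK (m • D)
  have hup : Module.finrank k ↥(planeW k x y ^ m) ≤ ell (m • D) :=
    Submodule.finrank_mono (planeW_pow_le_L hK x y m)
  have hup' : (Module.finrank k ↥(planeW k x y ^ m) : ℤ) ≤ (ell (m • D) : ℤ) := by
    exact_mod_cast hup
  have hell := Groth.Agent.Lib.Helper27.FF.ell_le_deg_add_one hK (D := m • D) (nsmul_nonneg hD0 m)
  rw [← natCast_zsmul, deg_zsmul, ← hdeg] at hell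
  rw [natCast_zsmul] at hell
  have hmZ : (m : ℤ) = (e : ℤ) * e + (d' : ℤ) * d' + e + d' + 2 := by
    rw [hm]; push_cast; ring
  have he0 : (0 : ℤ) ≤ e := Int.natCast_nonneg e
  have hd0 : (0 : ℤ) ≤ d' := Int.natCast_nonneg d'
  rcases lt_trichotomy (e : ℤ) (d' : ℤ) with hlt | heq | hgt
  · exfalso
    have h1 : (d' : ℤ) - e ≥ 1 := by omega
    nlinarith [mul_nonneg he0 he0, mul_nonneg hd0 hd0, mul_nonneg he0 hd0]
  · exact heq
  · exfalso
    have h1 : (e : ℤ) - d' ≥ 1 := by omega
    nlinarith [mul_nonneg he0 he0, mul_nonneg hd0 hd0, mul_nonneg he0 hd0]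

/-- The Hilbert function of the plane model. -/
theorem two_mul_finrank_planeW_pow [IsAlgClosed k] (hK : IsFunctionField k K) (x y : K)
    (hxy : IntermediateField.adjoin k ({x, y} : Set K) = ⊤) (m : ℕ)
    (hm : (mapDiv k ![(1 : K), x, y]).deg ≤ m) :
    2 * (Module.finrank k ↥(planeW k x y ^ m) : ℤ)
      = 2 * (mapDiv k ![(1 : K), x, y]).deg * (m + 1)
        - (mapDiv k ![(1 : K), x, y]).deg * ((mapDiv k ![(1 : K), x, y]).deg - 1) := by
  obtain ⟨f, hf, hker⟩ := exists_prime_ker_planeEv hK x y hxy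
  have h1 := totalDegree_eq_deg hK x y hxy f hf.ne_zero hker
  rw [← h1] at hm ⊢
  exact two_mul_finrank_planeW_pow_aux x y f hf.ne_zero hker m (by exact_mod_cast hm)

end Groth.Agent.Lib.Helper23.FF
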