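import Mathlib
import Groth.Prelude.Def_W4bk4goldsch45
import Groth.Agent.Lib.Helper23.FFHilb3

/-!
Plane models: the base-point-free pencil trick.
-/

set_option autoImplicit false

namespace Groth.Agent.Lib.Helper23.FF

open FunFld
open scoped IntermediateField

universe u v
variable {k : Type u} {K : Type v} [Field k] [Field K] [Algebra k K]

theorem deg_nsmul' (m : ℕ) (D : Divisor k K) : (m • D).deg = (m : ℤ) * D.deg := by
  rw [← natCast_zsmul, deg_zsmul]

/-- The base-point-free pencil trick for the pencil `(1, t)`. -/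
theorem L_le_sup_of_pencil (hK : IsFunctionField k K) (D : Divisor k K) (hD0 : 0 ≤ D) (t : K)
    (ht : t ∈ L D) (hgen : ∀ Q : Place k K, D Q ≠ 0 → Q.1 t = WithZero.exp (D Q))
    (m : ℕ) (hdeg : 2 * (genus k K : ℤ) - 1 ≤ (m : ℤ) * D.deg) :
    L ((m + 2) • D) ≤
      L ((m + 1) • D) ⊔ Submodule.map (LinearMap.mulLeft k t) (L ((m + 1) • D)) := by
  classical
  have C := Groth.Agent.Lib.Helper27.FF.core_of hK
  have hd0 : 0 ≤ D.deg := deg_nonneg hD0
  by_cases ht0 : t = 0
  · -- then `D = 0`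
    have hDz : D = 0 := by
      ext Q
      by_contra hQ
      have := hgen Q hQ
      rw [ht0, map_zero] at this
      exact WithZero.exp_ne_zero this.symm
    rw [hDz, smul_zero, smul_zero]
    exact le_sup_left
  haveI := Groth.Agent.Lib.Helper27.FF.finiteDimensional_L hK ((m + 1) • D)
  haveI := Groth.Agent.Lib.Helper27.FF.finiteDimensional_L hK ((m + 2) • D)
  haveI := Groth.Agent.Lib.Helper27.FF.finiteDimensional_L hK (m • D)
  set A := L ((m + 1) • D) with hA
  set B := Submodule.map (LinearMap.mulLeft k t) A with hB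
  have hAle : A ≤ L ((m + 2) • D) :=
    L_mono (nsmul_le_nsmul_left hD0 (by omega))
  have hBle : B ≤ L ((m + 2) • D) := by
    rintro _ ⟨a, ha, rfl⟩
    have h1 := mul_mem_L_add ht ha
    rw [← succ_nsmul'] at h1
    exact h1
  have hinj : Function.Injective (LinearMap.mulLeft k t) := by
    intro a b hab
    exact mul_left_cancel₀ ht0 hab
  have hBrank : Module.finrank k ↥B = Module.finrank k ↥A :=
    (Submodule.equivMapOfInjective (LinearMap.mulLeft k t) hinj A).finrank_eq.symm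
  have hinf : A ⊓ B ≤ Submodule.map (LinearMap.mulLeft k t) (L (m • D)) := by
    rintro z ⟨hzA, a, haA, rfl⟩
    refine ⟨a, ?_, rfl⟩
    intro Q
    rw [Finsupp.smul_apply, nsmul_eq_mul]
    by_cases hQ : D Q = 0
    · have h1 := haA Q
      rw [Finsupp.smul_apply, hQ, smul_zero] at h1
      rw [hQ, mul_zero]
      exact h1
    · have h1 : Q.1 (t * a) ≤ WithZero.exp (((m + 1 : ℕ) : ℤ) * D Q) := by
        have := hzA Q
        rw [Finsupp.smul_apply, nsmul_eq_mul] at this
        exact this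
      rw [map_mul, hgen Q hQ] at h1
      have h2 : WithZero.exp (((m + 1 : ℕ) : ℤ) * D Q)
          = WithZero.exp (D Q) * WithZero.exp ((m : ℤ) * D Q) := by
        rw [← WithZero.exp_add]
        congr 1
        push_cast
        ring
      rw [h2] at h1
      exact le_of_mul_le_mul_left h1 (zero_lt_iff.mpr WithZero.exp_ne_zero)
  have hinfrank : Module.finrank k ↥(A ⊓ B) ≤ ell (m • D) :=
    (Submodule.finrank_mono hinf).trans (Submodule.finrank_map_le _ _)
  have hsup := Submodule.finrank_sup_add_finrank_inf_eq A B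
  have e0 := C.ell_eq_of_deg_ge (D := m • D) (by rw [deg_nsmul']; exact hdeg)
  have e1 := C.ell_eq_of_deg_ge (D := (m + 1) • D) (by
    rw [deg_nsmul']; push_cast; nlinarith)
  have e2 := C.ell_eq_of_deg_ge (D := (m + 2) • D) (by
    rw [deg_nsmul']; push_cast; nlinarith)
  rw [deg_nsmul'] at e0 e1 e2
  have hAell : Module.finrank k ↥A = ell ((m + 1) • D) := rfl
  have hle : A ⊔ B ≤ L ((m + 2) • D) := sup_le hAle hBle
  have hfin : Module.finrank k ↥(L ((m + 2) • D)) ≤ Module.finrank k ↥(A ⊔ B) := by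
    have h3 : (Module.finrank k ↥(L ((m + 2) • D)) : ℤ) = (ell ((m + 2) • D) : ℤ) := rfl
    have h4 : (Module.finrank k ↥(A ⊔ B) : ℤ) + (Module.finrank k ↥(A ⊓ B) : ℤ)
        = (Module.finrank k ↥A : ℤ) + (Module.finrank k ↥B : ℤ) := by exact_mod_cast hsup
    have h5 : (Module.finrank k ↥(A ⊓ B) : ℤ) ≤ (ell (m • D) : ℤ) := by exact_mod_cast hinfrank
    rw [hBrank, hAell] at h4
    have h6 : (Module.finrank k ↥(L ((m + 2) • D)) : ℤ) ≤ (Module.finrank k ↥(A ⊔ B) : ℤ) := by
      rw [h3, e2]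
      push_cast at e0 e1 e2 ⊢
      linarith
    exact_mod_cast h6
  exact (Submodule.eq_of_le_of_finrank_le hle hfin).ge

/-- Consequence: `L((m+2)D) ⊆ W · L((m+1)D)` whenever `1, t ∈ W`. -/
theorem L_le_mul_of_pencil (hK : IsFunctionField k K) (D : Divisor k K) (hD0 : 0 ≤ D) (t : K)
    (ht : t ∈ L D) (hgen : ∀ Q : Place k K, D Q ≠ 0 → Q.1 t = WithZero.exp (D Q))
    (W : Submodule k K) (h1W : (1 : K) ∈ W) (htW : t ∈ W)
    (m : ℕ) (hdeg : 2 * (genus k K : ℤ) - 1 ≤ (m : ℤ) * D.deg) :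
    L ((m + 2) • D) ≤ W * L ((m + 1) • D) := by
  refine (L_le_sup_of_pencil hK D hD0 t ht hgen m hdeg).trans (sup_le ?_ ?_)
  · intro a ha
    have := Submodule.mul_mem_mul h1W ha
    rwa [one_mul] at this
  · rintro _ ⟨a, ha, rfl⟩
    exact Submodule.mul_mem_mul htW ha

/-- Iterating: `L((m₁+j)D) ⊆ W^j · L(m₁ D)`. -/
theorem L_le_pow_mul_of_pencil (hK : IsFunctionField k K) (D : Divisor k K) (hD0 : 0 ≤ D) (t : K)
    (ht : t ∈ L D) (hgen : ∀ Q : Place k K, D Q ≠ 0 → Q.1 t = WithZero.exp (D Q))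
    (W : Submodule k K) (h1W : (1 : K) ∈ W) (htW : t ∈ W)
    (m₁ : ℕ) (hm₁ : 1 ≤ m₁) (hdeg : 2 * (genus k K : ℤ) - 1 ≤ ((m₁ : ℤ) - 1) * D.deg) (j : ℕ) :
    L ((m₁ + j) • D) ≤ W ^ j * L (m₁ • D) := by
  have hd0 : 0 ≤ D.deg := deg_nonneg hD0
  induction j with
  | zero =>
    rw [pow_zero, one_mul, add_zero]
  | succ j ih =>
    have h1 := L_le_mul_of_pencil hK D hD0 t ht hgen W h1W htW (m₁ + j - 1) (by
      rw [Nat.cast_sub (by omega)]
      push_cast
      nlinarith)
    rw [show m₁ + j - 1 + 2 = m₁ + (j + 1) from by omega,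
      show m₁ + j - 1 + 1 = m₁ + j from by omega] at h1
    refine h1.trans ?_
    rw [pow_succ', mul_assoc]
    exact mul_le_mul' le_rfl ih

end Groth.Agent.Lib.Helper23.FF
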