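import Mathlib
import Groth.Prelude.Def_W4bk4goldsch45
import Groth.Agent.Lib.Helper23.FFProjN1
import Groth.Agent.Lib.Helper23.FFNS6

/-!
Plane models: a function that is locally in the coordinate ring is in the coordinate ring.
-/

set_option autoImplicit false

namespace Groth.Agent.Lib.Helper23.FF

open FunFld
open scoped IntermediateField

universe u v
variable {k : Type u} {K : Type v} [Field k] [Field K] [Algebra k K]

/-- An element lying in every localisation of `A`, at the places where `A` is integral, lies in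
`A`. -/
theorem mem_of_forall_mem_locAlg (hK : IsFunctionField k K) (A : Subalgebra k K)
    (hfrac : IntermediateField.adjoin k (A : Set K) = ⊤) (g : K)
    (h : ∀ P : Place k K, (∀ a ∈ A, P.1 a ≤ 1) → g ∈ locAlg A P) : g ∈ A := by
  by_contra hg
  let I : Ideal A.toSubring :=
    { carrier := {b | (b : K) * g ∈ A}
      add_mem' := by
        intro a b ha hb
        show ((a + b : A.toSubring) : K) * g ∈ A
        rw [Subring.coe_add, add_mul]
        exact A.add_mem ha hb
      zero_mem' := by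
        show ((0 : A.toSubring) : K) * g ∈ A
        rw [Subring.coe_zero, zero_mul]
        exact A.zero_mem
      smul_mem' := by
        intro c b hb
        show ((c * b : A.toSubring) : K) * g ∈ A
        rw [Subring.coe_mul, mul_assoc]
        exact A.mul_mem c.2 hb }
  have hI : I ≠ ⊤ := by
    intro htop
    have h1 : (1 : A.toSubring) ∈ I := htop ▸ Submodule.mem_top
    have h2 : ((1 : A.toSubring) : K) * g ∈ A := h1
    rw [Subring.coe_one, one_mul] at h2
    exact hg h2
  have hgK : g ∈ IntermediateField.adjoin k (A : Set K) := hfrac ▸ IntermediateField.mem_top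
  rw [IntermediateField.mem_adjoin_iff_div] at hgK
  obtain ⟨u, hu, w, hw, hguw⟩ := hgK
  rw [Algebra.adjoin_eq] at hu hw
  have hw0 : w ≠ 0 := by
    rintro rfl
    rw [div_zero] at hguw
    exact hg (hguw ▸ A.zero_mem)
  have hwI : (⟨w, hw⟩ : A.toSubring) ∈ I := by
    show w * g ∈ A
    rw [hguw, mul_div_cancel₀ u hw0]
    exact hu
  obtain ⟨B, hAB, hIB⟩ := Ideal.image_subset_nonunits_valuationSubring I hI
  have hk : ∀ c : k, algebraMap k K c ∈ B := fun c => hAB (A.algebraMap_mem c)
  have hwB : w ∈ B.nonunits := hIB ⟨⟨w, hw⟩, hwI, rfl⟩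
  have hw1 : B.valuation w < 1 := hwB
  obtain ⟨P, hP⟩ := Groth.Agent.Lib.Helper27.FF.exists_place_of_valuationSubring hK B hk hw0 hw1
  have hAP : ∀ a ∈ A, P.1 a ≤ 1 := fun a ha => (hP a).mpr (hAB ha)
  obtain ⟨u', hu', w', hw', hPw', hgw'⟩ := h P hAP
  have hw'I : (⟨w', hw'⟩ : A.toSubring) ∈ I := by
    show w' * g ∈ A
    rw [mul_comm, hgw']
    exact hu'
  have hw'B : w' ∈ B.nonunits := hIB ⟨⟨w', hw'⟩, hw'I, rfl⟩
  have hw'1 : B.valuation w' < 1 := hw'B
  have hw'0 : w' ≠ 0 := by
    rintro rfl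
    rw [map_zero] at hPw'
    exact zero_ne_one hPw'
  have hinv : P.1 w'⁻¹ ≤ 1 := by rw [map_inv₀, hPw', inv_one]
  have hinvB : w'⁻¹ ∈ B := (hP _).mp hinv
  have h3 : B.valuation w'⁻¹ ≤ 1 := (B.valuation_le_one_iff _).mpr hinvB
  rw [map_inv₀] at h3
  have hpos : 0 < B.valuation w' := zero_lt_iff.mpr ((Valuation.ne_zero_iff _).mpr hw'0)
  have h4 : 1 ≤ B.valuation w' := (inv_le_one₀ hpos).mp h3
  exact absurd hw'1 (not_lt.mpr h4)

/-- For the plane map `(1 : x : y)`, an entry of least order at `P` has value `exp ([φ] P)`. -/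
theorem plane_val_eq_exp_mapDiv_of_index (hK : IsFunctionField k K) (x y : K) (P : Place k K)
    {j : Fin 3} (hj : ∀ i, P.1 (![(1 : K), x, y] i) ≤ P.1 (![(1 : K), x, y] j)) :
    P.1 (![(1 : K), x, y] j) = WithZero.exp (mapDiv k ![(1 : K), x, y] P) := by
  apply le_antisymm (mem_L_mapDiv hK ![(1 : K), x, y] j P)
  obtain ⟨i, hi⟩ := exists_mapDiv_eq hK ![(1 : K), x, y] P
  rw [hi]
  by_cases h0 : ![(1 : K), x, y] i = 0
  · rw [h0, Groth.Agent.Lib.Helper27.FF.ord_zero, neg_zero, WithZero.exp_zero]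
    have := hj 0
    rwa [Matrix.cons_val_zero, map_one] at this
  · rw [← val_eq_exp_neg_ord P h0]
    exact hj i

theorem plane_adjoin_ratio_eq_top (x y : K)
    (hxy : IntermediateField.adjoin k ({x, y} : Set K) = ⊤) (j : Fin 3)
    (hj0 : ![(1 : K), x, y] j ≠ 0) :
    IntermediateField.adjoin k ((ratioAlg (k := k) ![(1 : K), x, y] j : Subalgebra k K) : Set K)
      = ⊤ := by
  have h0 : IntermediateField.adjoin k
      (Set.range fun i => ![(1 : K), x, y] i / ![(1 : K), x, y] 0) = ⊤ := by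
    rw [eq_top_iff, ← hxy]
    apply IntermediateField.adjoin.mono
    rintro z (rfl | rfl)
    · exact ⟨1, by simp⟩
    · exact ⟨2, by simp⟩
  have h1 := adjoin_ratio_eq_top (k := k) ![(1 : K), x, y] 0 j hj0 h0
  rw [eq_top_iff, ← h1]
  apply IntermediateField.adjoin.mono
  exact Algebra.subset_adjoin

/-- Under nonsingularity, `f / φ_j^m` is a polynomial in the ratios, for `f ∈ L(mD)`. -/
theorem div_pow_mem_ratioAlg (hK : IsFunctionField k K) (x y : K)
    (hxy : IntermediateField.adjoin k ({x, y} : Set K) = ⊤)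
    (hns : ∀ P : Place k K, IsNonsingularAt ![(1 : K), x, y] P) (j : Fin 3)
    (hj0 : ![(1 : K), x, y] j ≠ 0) (m : ℕ) {f : K}
    (hf : f ∈ L (m • mapDiv k ![(1 : K), x, y])) :
    f / (![(1 : K), x, y] j) ^ m ∈ ratioAlg (k := k) ![(1 : K), x, y] j := by
  apply mem_of_forall_mem_locAlg hK _ (plane_adjoin_ratio_eq_top x y hxy j hj0)
  intro P hP
  have hpos : 0 < P.1 (![(1 : K), x, y] j) := zero_lt_iff.mpr ((P.1.ne_zero_iff).mpr hj0)
  have hj : ∀ i, P.1 (![(1 : K), x, y] i) ≤ P.1 (![(1 : K), x, y] j) := by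
    intro i
    have h1 := hP _ (ratio_mem_ratioAlg (k := k) ![(1 : K), x, y] j i)
    rw [map_div₀] at h1
    exact (div_le_one₀ hpos).mp h1
  have hval := plane_val_eq_exp_mapDiv_of_index hK x y P hj
  have hg : P.1 (f / (![(1 : K), x, y] j) ^ m) ≤ 1 := by
    rw [map_div₀, map_pow, hval, ← WithZero.exp_nsmul]
    have h1 := hf P
    rw [Finsupp.smul_apply] at h1
    exact div_le_one_of_le₀ h1 zero_le
  exact (inLocRing_iff_of_index _ P hj0 hj _).mp (hns P _ hg)

end Groth.Agent.Lib.Helper23.FF
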