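import Mathlib
import Groth.Prelude.Def_W4bk4goldsch45
import Groth.Agent.Lib.Helper23.FFProjN2

/-!
Plane models: for a nonsingular plane model, `L(mD) = W^m` for large `m`.
-/

set_option autoImplicit false

namespace Groth.Agent.Lib.Helper23.FF

open FunFld
open scoped IntermediateField

universe u v
variable {k : Type u} {K : Type v} [Field k] [Field K] [Algebra k K]

theorem entry_mem_planeW (x y : K) (i : Fin 3) : ![(1 : K), x, y] i ∈ planeW k x y := by
  fin_cases i
  · exact one_mem_planeW x y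
  · exact x_mem_planeW x y
  · exact y_mem_planeW x y

/-- Homogenisation: an element of the ratio algebra times a high power of `φ_j` lies in the
corresponding power of `W`. -/
theorem exists_mul_pow_mem_of_mem_ratioAlg (x y : K) (j : Fin 3) {a : K}
    (ha : a ∈ ratioAlg (k := k) ![(1 : K), x, y] j) :
    ∃ N : ℕ, ∀ N' : ℕ, N ≤ N' → a * (![(1 : K), x, y] j) ^ N' ∈ planeW k x y ^ N' := by
  have hjW := entry_mem_planeW (k := k) x y j
  refine Algebra.adjoin_induction (p := fun a _ => ∃ N : ℕ, ∀ N' : ℕ, N ≤ N' →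
    a * (![(1 : K), x, y] j) ^ N' ∈ planeW k x y ^ N') ?_ ?_ ?_ ?_ ha
  · rintro _ ⟨i, rfl⟩
    refine ⟨1, fun N' hN' => ?_⟩
    obtain ⟨n, rfl⟩ : ∃ n, N' = n + 1 := ⟨N' - 1, by omega⟩
    show ![(1 : K), x, y] i / ![(1 : K), x, y] j * ![(1 : K), x, y] j ^ (n + 1) ∈ _
    rw [pow_succ' (planeW k x y), pow_succ' (![(1 : K), x, y] j), ← mul_assoc]
    apply Submodule.mul_mem_mul _ (Submodule.pow_mem_pow _ hjW n)
    by_cases hj0 : ![(1 : K), x, y] j = 0
    · rw [hj0, mul_zero]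
      exact Submodule.zero_mem _
    · rw [div_mul_cancel₀ _ hj0]
      exact entry_mem_planeW x y i
  · intro c
    refine ⟨0, fun N' _ => ?_⟩
    rw [← Algebra.smul_def]
    exact Submodule.smul_mem _ c (Submodule.pow_mem_pow _ hjW N')
  · rintro a b _ _ ⟨Na, hNa⟩ ⟨Nb, hNb⟩
    refine ⟨max Na Nb, fun N' hN' => ?_⟩
    rw [add_mul]
    exact Submodule.add_mem _ (hNa N' (le_trans (le_max_left _ _) hN'))
      (hNb N' (le_trans (le_max_right _ _) hN'))
  · rintro a b _ _ ⟨Na, hNa⟩ ⟨Nb, hNb⟩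
    refine ⟨Na + Nb, fun N' hN' => ?_⟩
    obtain ⟨n, rfl⟩ : ∃ n, N' = Na + n := ⟨N' - Na, by omega⟩
    have h1 := Submodule.mul_mem_mul (hNa Na le_rfl) (hNb n (by omega))
    rw [← pow_add] at h1
    convert h1 using 1
    rw [pow_add]
    ring

/-- For `f ∈ L(m₁ D)`, high powers of each coordinate move `f` into the powers of `W`. -/
theorem exists_mul_pow_mem_of_mem_L (hK : IsFunctionField k K) (x y : K)
    (hxy : IntermediateField.adjoin k ({x, y} : Set K) = ⊤)
    (hns : ∀ P : Place k K, IsNonsingularAt ![(1 : K), x, y] P) (m₁ : ℕ) {f : K}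
    (hf : f ∈ L (m₁ • mapDiv k ![(1 : K), x, y])) (j : Fin 3) :
    ∃ N : ℕ, ∀ N' : ℕ, N ≤ N' →
      f * (![(1 : K), x, y] j) ^ N' ∈ planeW k x y ^ (N' + m₁) := by
  by_cases hj0 : ![(1 : K), x, y] j = 0
  · refine ⟨1, fun N' hN' => ?_⟩
    rw [hj0, zero_pow (by omega), mul_zero]
    exact Submodule.zero_mem _
  · obtain ⟨N, hN⟩ := exists_mul_pow_mem_of_mem_ratioAlg (k := k) x y j
      (div_pow_mem_ratioAlg hK x y hxy hns j hj0 m₁ hf)
    refine ⟨N, fun N' hN' => ?_⟩
    have h1 := Submodule.mul_mem_mul (hN N' hN')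
      (Submodule.pow_mem_pow _ (entry_mem_planeW (k := k) x y j) m₁)
    rw [← pow_add] at h1
    convert h1 using 1
    field_simp

theorem exists_forall_mul_mem (hK : IsFunctionField k K) (x y : K)
    (hxy : IntermediateField.adjoin k ({x, y} : Set K) = ⊤)
    (hns : ∀ P : Place k K, IsNonsingularAt ![(1 : K), x, y] P) (m₁ : ℕ) {f : K}
    (hf : f ∈ L (m₁ • mapDiv k ![(1 : K), x, y])) :
    ∃ N : ℕ, ∀ N' : ℕ, N ≤ N' → ∀ w ∈ planeW k x y ^ N', w * f ∈ planeW k x y ^ (N' + m₁) := by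
  obtain ⟨N₀, hN₀⟩ := exists_mul_pow_mem_of_mem_L hK x y hxy hns m₁ hf 0
  obtain ⟨N₁, hN₁⟩ := exists_mul_pow_mem_of_mem_L hK x y hxy hns m₁ hf 1
  obtain ⟨N₂, hN₂⟩ := exists_mul_pow_mem_of_mem_L hK x y hxy hns m₁ hf 2
  simp only [Matrix.cons_val_zero, Matrix.cons_val_one, one_pow, mul_one] at hN₀ hN₁
  have hN₂' : ∀ N' : ℕ, N₂ ≤ N' → f * y ^ N' ∈ planeW k x y ^ (N' + m₁) := hN₂
  refine ⟨N₀ + N₁ + N₂, fun N' hN' w hw => ?_⟩
  rw [planeW_pow_eq_span] at hw
  induction hw using Submodule.span_induction with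
  | mem w hw =>
    obtain ⟨b, c, hbc, rfl⟩ := hw
    by_cases hb : N₁ ≤ b
    · have h1 := Submodule.mul_mem_mul (hN₁ b hb)
        (Submodule.pow_mem_pow _ (y_mem_planeW (k := k) x y) c)
      rw [← pow_add] at h1
      have h2 : f * x ^ b * y ^ c = x ^ b * y ^ c * f := by ring
      rw [h2] at h1
      exact planeW_pow_mono x y (by omega) h1
    · by_cases hc : N₂ ≤ c
      · have h1 := Submodule.mul_mem_mul (hN₂' c hc)
          (Submodule.pow_mem_pow _ (x_mem_planeW (k := k) x y) b)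
        rw [← pow_add] at h1
        have h2 : f * y ^ c * x ^ b = x ^ b * y ^ c * f := by ring
        rw [h2] at h1
        exact planeW_pow_mono x y (by omega) h1
      · have h0 := hN₀ (N' - b - c) (by omega)
        have h1 := Submodule.mul_mem_mul (Submodule.mul_mem_mul
          (Submodule.pow_mem_pow _ (x_mem_planeW (k := k) x y) b)
          (Submodule.pow_mem_pow _ (y_mem_planeW (k := k) x y) c)) h0
        rw [← pow_add, ← pow_add] at h1
        exact planeW_pow_mono x y (by omega) h1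
  | zero =>
    rw [zero_mul]
    exact Submodule.zero_mem _
  | add a b _ _ ha hb =>
    rw [add_mul]
    exact Submodule.add_mem _ ha hb
  | smul c a _ ha =>
    rw [smul_mul_assoc]
    exact Submodule.smul_mem _ c ha

theorem exists_forall_pow_mul_le (hK : IsFunctionField k K) (x y : K)
    (hxy : IntermediateField.adjoin k ({x, y} : Set K) = ⊤)
    (hns : ∀ P : Place k K, IsNonsingularAt ![(1 : K), x, y] P) (m₁ : ℕ) :
    ∃ N : ℕ, ∀ N' : ℕ, N ≤ N' →
      planeW k x y ^ N' * L (m₁ • mapDiv k ![(1 : K), x, y]) ≤ planeW k x y ^ (N' + m₁) := by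
  classical
  haveI := Groth.Agent.Lib.Helper27.FF.finiteDimensional_L hK (m₁ • mapDiv k ![(1 : K), x, y])
  obtain ⟨b, hb⟩ : ∃ b : Finset K, Submodule.span k (b : Set K)
      = L (m₁ • mapDiv k ![(1 : K), x, y]) :=
    (Submodule.fg_iff_finiteDimensional _).mpr inferInstance
  have hbL : ∀ f ∈ b, f ∈ L (m₁ • mapDiv k ![(1 : K), x, y]) := fun f hf =>
    hb ▸ Submodule.subset_span hf
  have hex : ∀ f : K, ∃ N : ℕ, f ∈ b → ∀ N' : ℕ, N ≤ N' → ∀ w ∈ planeW k x y ^ N',
      w * f ∈ planeW k x y ^ (N' + m₁) := by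
    intro f
    by_cases hf : f ∈ b
    · obtain ⟨N, hN⟩ := exists_forall_mul_mem hK x y hxy hns m₁ (hbL f hf)
      exact ⟨N, fun _ => hN⟩
    · exact ⟨0, fun h => absurd h hf⟩
  choose Nf hNf using hex
  refine ⟨b.sup Nf, fun N' hN' => ?_⟩
  rw [Submodule.mul_le]
  intro w hw f hf
  rw [← hb] at hf
  induction hf using Submodule.span_induction with
  | mem f hf => exact hNf f hf N' (le_trans (Finset.le_sup hf) hN') w hw
  | zero =>
    rw [mul_zero]
    exact Submodule.zero_mem _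
  | add a b _ _ ha hb =>
    rw [mul_add]
    exact Submodule.add_mem _ ha hb
  | smul c a _ ha =>
    rw [mul_smul_comm]
    exact Submodule.smul_mem _ c ha

/-- For a nonsingular plane model, `L(mD) = W^m` for all large `m`. -/
theorem exists_forall_L_eq_planeW_pow [IsAlgClosed k] (hK : IsFunctionField k K) (x y : K)
    (hxy : IntermediateField.adjoin k ({x, y} : Set K) = ⊤)
    (hns : ∀ P : Place k K, IsNonsingularAt ![(1 : K), x, y] P) :
    ∃ m₀ : ℕ, ∀ m : ℕ, m₀ ≤ m → L (m • mapDiv k ![(1 : K), x, y]) = planeW k x y ^ m := by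
  obtain ⟨x', y', hx'W, -, -, hx', hdeg, hgen⟩ := plane_exists_generic' hK x y hxy
  set D := mapDiv k ![(1 : K), x, y] with hD
  have hD0 : 0 ≤ D := plane_mapDiv_nonneg hK x y
  haveI := finiteDimensional_adjoin hK hx'
  have hdpos : 0 < Module.finrank k⟮x'⟯ K := Module.finrank_pos
  have hd1 : (1 : ℤ) ≤ D.deg := by
    rw [← hdeg]
    exact_mod_cast hdpos
  set m₁ := 2 * genus k K + 1 with hm₁
  obtain ⟨N, hN⟩ := exists_forall_pow_mul_le hK x y hxy hns m₁
  refine ⟨m₁ + N, fun m hm => le_antisymm ?_ (planeW_pow_le_L hK x y m)⟩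
  obtain ⟨j, rfl⟩ : ∃ j, m = m₁ + j := ⟨m - m₁, by omega⟩
  have h1 := L_le_pow_mul_of_pencil hK D hD0 x' (planeW_le_L hK x y hx'W) hgen (planeW k x y)
    (one_mem_planeW x y) hx'W m₁ (by omega) (by
      rw [hm₁]
      push_cast
      nlinarith [Int.natCast_nonneg (genus k K)]) j
  refine h1.trans ((hN j (by omega)).trans ?_)
  rw [add_comm]

end Groth.Agent.Lib.Helper23.FF
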