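import Mathlib
import Groth.Prelude.Def_W4bk4goldsch45
import Groth.Agent.Lib.Helper23.FFProjN3

/-!
Plane models: the genus formula for nonsingular plane models.
-/

set_option autoImplicit false

namespace Groth.Agent.Lib.Helper23.FF

open FunFld
open scoped IntermediateField

universe u v
variable {k : Type u} {K : Type v} [Field k] [Field K] [Algebra k K]

theorem plane_one_le_deg [IsAlgClosed k] (hK : IsFunctionField k K) (x y : K)
    (hxy : IntermediateField.adjoin k ({x, y} : Set K) = ⊤) :
    (1 : ℤ) ≤ (mapDiv k ![(1 : K), x, y]).deg := by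
  obtain ⟨x', y', -, -, -, hx', hdeg, -⟩ := plane_exists_generic' hK x y hxy
  haveI := finiteDimensional_adjoin hK hx'
  have hdpos : 0 < Module.finrank k⟮x'⟯ K := Module.finrank_pos
  rw [← hdeg]
  exact_mod_cast hdpos

/-- If `L(mD) = W^m` for all large `m` then `2g = (d-1)(d-2)`. -/
theorem two_genus_eq_of_L_eq [IsAlgClosed k] (hK : IsFunctionField k K) (x y : K)
    (hxy : IntermediateField.adjoin k ({x, y} : Set K) = ⊤) (m₀ : ℕ)
    (h : ∀ m : ℕ, m₀ ≤ m → L (m • mapDiv k ![(1 : K), x, y]) = planeW k x y ^ m) :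
    2 * (genus k K : ℤ) =
      ((mapDiv k ![(1 : K), x, y]).deg - 1) * ((mapDiv k ![(1 : K), x, y]).deg - 2) := by
  have C := Groth.Agent.Lib.Helper27.FF.core_of hK
  have hd1 := plane_one_le_deg hK x y hxy
  set D := mapDiv k ![(1 : K), x, y] with hD
  set m := m₀ + D.deg.toNat + 2 * genus k K with hm
  have hdn : (D.deg.toNat : ℤ) = D.deg := Int.toNat_of_nonneg (by omega)
  have hmd : D.deg ≤ (m : ℤ) := by
    rw [hm]
    push_cast
    rw [hdn]
    have := Int.natCast_nonneg m₀
    have := Int.natCast_nonneg (genus k K)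
    omega
  have h1 := two_mul_finrank_planeW_pow hK x y hxy m hmd
  rw [← h m (by omega)] at h1
  have h2 := C.ell_eq_of_deg_ge (D := m • D) (by
    rw [deg_nsmul']
    have h3 : (2 * genus k K : ℤ) ≤ m := by
      rw [hm]
      push_cast
      have := Int.natCast_nonneg m₀
      omega
    nlinarith [Int.natCast_nonneg (genus k K)])
  rw [deg_nsmul'] at h2
  have h3 : (Module.finrank k ↥(L (m • D)) : ℤ) = (ell (m • D) : ℤ) := rfl
  rw [h3, h2] at h1
  linarith

/-- The genus formula for a nonsingular plane model. -/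
theorem two_genus_eq_of_nonsingular [IsAlgClosed k] (hK : IsFunctionField k K) (x y : K)
    (hxy : IntermediateField.adjoin k ({x, y} : Set K) = ⊤)
    (hns : ∀ P : Place k K, IsNonsingularAt ![(1 : K), x, y] P) :
    2 * (genus k K : ℤ) =
      ((mapDiv k ![(1 : K), x, y]).deg - 1) * ((mapDiv k ![(1 : K), x, y]).deg - 2) := by
  obtain ⟨m₀, hm₀⟩ := exists_forall_L_eq_planeW_pow hK x y hxy hns
  exact two_genus_eq_of_L_eq hK x y hxy m₀ hm₀

end Groth.Agent.Lib.Helper23.FF
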