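import Mathlib
import Groth.Prelude.Def_W4bk4goldsch45
import Groth.Agent.Lib.Helper23.FFProjN4
import Groth.Agent.Lib.Helper23.FFEmb1

/-!
Plane models: if `L(mD) = W^m` for all large `m`, the plane model is nonsingular everywhere;
the genus formula characterises nonsingular plane models.
-/

set_option autoImplicit false

namespace Groth.Agent.Lib.Helper23.FF

open FunFld
open scoped IntermediateField

universe u v
variable {k : Type u} {K : Type v} [Field k] [Field K] [Algebra k K]

/-- Dehomogenisation: `W^m / φ_j^m` lies in the ratio algebra. -/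
theorem div_pow_mem_ratioAlg_of_mem_planeW_pow (x y : K) (j : Fin 3)
    (hj0 : ![(1 : K), x, y] j ≠ 0) (m : ℕ) {w : K} (hw : w ∈ planeW k x y ^ m) :
    w / (![(1 : K), x, y] j) ^ m ∈ ratioAlg (k := k) ![(1 : K), x, y] j := by
  rw [planeW_pow_eq_span] at hw
  induction hw using Submodule.span_induction with
  | mem w hw =>
    obtain ⟨b, c, hbc, rfl⟩ := hw
    have h0 := ratio_mem_ratioAlg (k := k) ![(1 : K), x, y] j 0
    have h1 := ratio_mem_ratioAlg (k := k) ![(1 : K), x, y] j 1
    have h2 := ratio_mem_ratioAlg (k := k) ![(1 : K), x, y] j 2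
    simp only [Matrix.cons_val_zero, Matrix.cons_val_one] at h0 h1
    have h2' : y / ![(1 : K), x, y] j ∈ ratioAlg (k := k) ![(1 : K), x, y] j := h2
    have h3 := Subalgebra.mul_mem _ (Subalgebra.mul_mem _ (Subalgebra.pow_mem _ h1 b)
      (Subalgebra.pow_mem _ h2' c)) (Subalgebra.pow_mem _ h0 (m - b - c))
    convert h3 using 1
    obtain ⟨n, rfl⟩ : ∃ n, m = b + c + n := ⟨m - b - c, by omega⟩
    rw [show b + c + n - b - c = n from by omega, div_pow, div_pow, div_pow, one_pow, pow_add,
      pow_add]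
    field_simp
  | zero =>
    rw [zero_div]
    exact Subalgebra.zero_mem _
  | add a b _ _ ha hb =>
    rw [add_div]
    exact Subalgebra.add_mem _ ha hb
  | smul c a _ ha =>
    rw [smul_div_assoc]
    exact Subalgebra.smul_mem _ ha c

/-- If `L(mD) = W^m` for all large `m`, the plane model is nonsingular at every place. -/
theorem isNonsingularAt_of_L_eq [IsAlgClosed k] (hK : IsFunctionField k K) (x y : K)
    (hxy : IntermediateField.adjoin k ({x, y} : Set K) = ⊤) (m₀ : ℕ)
    (h : ∀ m : ℕ, m₀ ≤ m → L (m • mapDiv k ![(1 : K), x, y]) = planeW k x y ^ m)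
    (P : Place k K) : IsNonsingularAt ![(1 : K), x, y] P := by
  classical
  have C := Groth.Agent.Lib.Helper27.FF.core_of hK
  have hd1 := plane_one_le_deg hK x y hxy
  set D := mapDiv k ![(1 : K), x, y] with hD
  have hD0 : 0 ≤ D := plane_mapDiv_nonneg hK x y
  obtain ⟨j, hj⟩ := Finite.exists_max (fun i => P.1 (![(1 : K), x, y] i))
  have hj0 : ![(1 : K), x, y] j ≠ 0 := by
    intro h0
    have h1 := hj 0
    simp only [Matrix.cons_val_zero, map_one] at h1
    rw [h0, map_zero] at h1
    exact absurd h1 (not_le.mpr zero_lt_one)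
  have hval := plane_val_eq_exp_mapDiv_of_index hK x y P hj
  intro u hu
  by_cases hu0 : u = 0
  · refine ⟨j, hj0, hj, 0, Subalgebra.zero_mem _, 1, Subalgebra.one_mem _, map_one _, ?_⟩
    rw [hu0, zero_mul]
  have hfin : {Q : Place k K | Q.1 u⁻¹ < 1}.Finite := finite_zeros_of_ne_zero hK (inv_ne_zero hu0)
  set Z := hfin.toFinset with hZdef
  have hZ : ∀ Q, Q ∈ Z ↔ Q.1 u⁻¹ < 1 := fun Q => by
    rw [hZdef, Set.Finite.mem_toFinset]; rfl
  set E' := zdiv u⁻¹ Z with hE'
  have hE'0 : 0 ≤ E' := poleDiv_nonneg hu0 Z hZ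
  have huE' : u ∈ L E' := mem_L_poleDiv hu0 Z hZ
  have hE'P : E' P = 0 := poleDiv_eq_zero hu0 Z hZ hu
  have hE'deg : 0 ≤ E'.deg := deg_nonneg hE'0
  set m := m₀ + (2 * genus k K + 1 + E'.deg.toNat) with hm
  set E := m • D - E' with hE
  have hdegE : 2 * (genus k K : ℤ) ≤ E.deg := by
    rw [hE, deg_sub, deg_nsmul']
    have h1 : (m : ℤ) = m₀ + (2 * genus k K + 1 + E'.deg) := by
      rw [hm]
      push_cast
      rw [Int.toNat_of_nonneg hE'deg]
    have h2 : (m : ℤ) ≤ m * D.deg := by
      nlinarith [Int.natCast_nonneg m]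
    have := Int.natCast_nonneg m₀
    omega
  have hP1 : P.deg = 1 := deg_eq_one hK P
  have hlt : ell (E - Finsupp.single P 1) < ell E := by
    have e1 := C.ell_eq_of_deg_ge (D := E) (by omega)
    have e2 := C.ell_eq_of_deg_ge (D := E - Finsupp.single P 1) (by
      rw [deg_sub, deg_single, hP1]
      push_cast
      omega)
    rw [deg_sub, deg_single, hP1] at e2
    push_cast at e2
    have : (ell (E - Finsupp.single P 1) : ℤ) < (ell E : ℤ) := by omega
    exact_mod_cast this
  obtain ⟨g, hgE, hgP⟩ := exists_mem_L_val_eq E P hlt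
  have hEP : E P = (m : ℤ) * D P := by
    rw [hE, Finsupp.sub_apply, hE'P, sub_zero, Finsupp.smul_apply, nsmul_eq_mul]
  have hgL : g ∈ L (m • D) := L_mono (by rw [hE]; exact sub_le_self _ hE'0) hgE
  have hguL : g * u ∈ L (m • D) := by
    have h1 := mul_mem_L_add hgE huE'
    rwa [hE, sub_add_cancel] at h1
  rw [h m (by omega)] at hgL hguL
  refine ⟨j, hj0, hj, (g * u) / (![(1 : K), x, y] j) ^ m,
    div_pow_mem_ratioAlg_of_mem_planeW_pow x y j hj0 m hguL,
    g / (![(1 : K), x, y] j) ^ m, div_pow_mem_ratioAlg_of_mem_planeW_pow x y j hj0 m hgL, ?_, ?_⟩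
  · rw [map_div₀, map_pow, hval, hgP, hEP, ← WithZero.exp_nsmul, nsmul_eq_mul]
    exact div_self WithZero.exp_ne_zero
  · rw [mul_div_assoc', mul_comm]

/-- A plane model of degree `d` of a function field of genus `g` is nonsingular everywhere iff
`2g = (d-1)(d-2)`. -/
theorem two_genus_eq_iff_nonsingular [IsAlgClosed k] (hK : IsFunctionField k K) (x y : K)
    (hxy : IntermediateField.adjoin k ({x, y} : Set K) = ⊤) :
    2 * (genus k K : ℤ) =
        ((mapDiv k ![(1 : K), x, y]).deg - 1) * ((mapDiv k ![(1 : K), x, y]).deg - 2) ↔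
      ∀ P : Place k K, IsNonsingularAt ![(1 : K), x, y] P := by
  constructor
  · intro hg
    have C := Groth.Agent.Lib.Helper27.FF.core_of hK
    have hd1 := plane_one_le_deg hK x y hxy
    set D := mapDiv k ![(1 : K), x, y] with hD
    have hdn : (D.deg.toNat : ℤ) = D.deg := Int.toNat_of_nonneg (by omega)
    have key : ∀ m : ℕ, D.deg.toNat + 2 * genus k K ≤ m → L (m • D) = planeW k x y ^ m := by
      intro m hm
      have hmZ : D.deg + 2 * (genus k K : ℤ) ≤ m := by
        rw [← hdn]
        exact_mod_cast hm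
      have h1 := two_mul_finrank_planeW_pow hK x y hxy m (by
        show D.deg ≤ (m : ℤ)
        have := Int.natCast_nonneg (genus k K)
        omega)
      have h2 := C.ell_eq_of_deg_ge (D := m • D) (by
        rw [deg_nsmul']
        nlinarith [Int.natCast_nonneg (genus k K)])
      rw [deg_nsmul'] at h2
      haveI := Groth.Agent.Lib.Helper27.FF.finiteDimensional_L hK (m • D)
      symm
      apply Submodule.eq_of_le_of_finrank_le (planeW_pow_le_L hK x y m)
      have h3 : (Module.finrank k ↥(L (m • D)) : ℤ) = (ell (m • D) : ℤ) := rfl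
      have h4 : (Module.finrank k ↥(L (m • D)) : ℤ)
          ≤ (Module.finrank k ↥(planeW k x y ^ m) : ℤ) := by
        rw [h3, h2]
        nlinarith
      exact_mod_cast h4
    exact fun P => isNonsingularAt_of_L_eq hK x y hxy _ key P
  · exact two_genus_eq_of_nonsingular hK x y hxy

end Groth.Agent.Lib.Helper23.FF
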