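import Mathlib
import Groth.Prelude.Def_W4bk4goldsch45
import Groth.Agent.Lib.Helper23.FFProjN5

/-!
Plane curves: first-order Taylor expansion of a polynomial at a place, homogeneity.
-/

set_option autoImplicit false

namespace Groth.Agent.Lib.Helper23.FF

open FunFld
open scoped IntermediateField

universe u v
variable {k : Type u} {K : Type v} [Field k] [Field K] [Algebra k K]

/-- A homogeneous polynomial scales by the power of its degree. -/
theorem aeval_mul_of_isHomogeneous {σ : Type*} {f : MvPolynomial σ k} {n : ℕ}
    (hf : f.IsHomogeneous n) (c : K) (g : σ → K) :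
    MvPolynomial.aeval (fun i => c * g i) f = c ^ n * MvPolynomial.aeval g f := by
  rw [MvPolynomial.aeval_def, MvPolynomial.aeval_def, MvPolynomial.eval₂_eq, MvPolynomial.eval₂_eq,
    Finset.mul_sum]
  refine Finset.sum_congr rfl fun d hd => ?_
  have h1 : (∏ i ∈ d.support, (c * g i) ^ d i) = c ^ n * ∏ i ∈ d.support, g i ^ d i := by
    simp_rw [mul_pow]
    rw [Finset.prod_mul_distrib, Finset.prod_pow_eq_pow_sum, ← hf.degree_eq_sum_deg_support hd]
  rw [h1]
  ring

theorem val_le_exp_neg_one_of_lt_one (P : Place k K) {z : K} (h : P.1 z < 1) :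
    P.1 z ≤ WithZero.exp (-1) := by
  have h' : P.1 z < WithZero.exp 0 := by rwa [WithZero.exp_zero]
  have := (lt_exp_iff_le_exp_sub_one (P.1 z) 0).mp h'
  simpa using this

/-- First order Taylor expansion at a place: the error has order at least two. -/
theorem taylor_val_le (P : Place k K) {σ : Type*} [Fintype σ] [DecidableEq σ] (α : σ → k)
    (z : σ → K) (hz : ∀ l, P.1 (z l - algebraMap k K (α l)) < 1) (g : MvPolynomial σ k) :
    P.1 (MvPolynomial.aeval z g - algebraMap k K (MvPolynomial.eval α g)
      - ∑ i, algebraMap k K (MvPolynomial.eval α (MvPolynomial.pderiv i g))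
          * (z i - algebraMap k K (α i))) ≤ WithZero.exp (-2) := by
  have hε : ∀ l, P.1 (z l - algebraMap k K (α l)) ≤ WithZero.exp (-1) := fun l =>
    val_le_exp_neg_one_of_lt_one P (hz l)
  have hzle : ∀ l, P.1 (z l) ≤ 1 := by
    intro l
    have : z l = (z l - algebraMap k K (α l)) + algebraMap k K (α l) := by ring
    rw [this]
    exact (P.1.map_add _ _).trans (max_le (hz l).le (P.2.1 _))
  induction g using MvPolynomial.induction_on with
  | C c =>
    simp
  | add p q hp hq =>
    have e : MvPolynomial.aeval z (p + q) - algebraMap k K (MvPolynomial.eval α (p + q))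
        - ∑ i, algebraMap k K (MvPolynomial.eval α (MvPolynomial.pderiv i (p + q)))
          * (z i - algebraMap k K (α i))
        = (MvPolynomial.aeval z p - algebraMap k K (MvPolynomial.eval α p)
          - ∑ i, algebraMap k K (MvPolynomial.eval α (MvPolynomial.pderiv i p))
            * (z i - algebraMap k K (α i)))
        + (MvPolynomial.aeval z q - algebraMap k K (MvPolynomial.eval α q)
          - ∑ i, algebraMap k K (MvPolynomial.eval α (MvPolynomial.pderiv i q))
            * (z i - algebraMap k K (α i))) := by
      simp only [map_add, add_mul, Finset.sum_add_distrib]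
      ring
    rw [e]
    exact (P.1.map_add _ _).trans (max_le hp hq)
  | mul_X p n hp =>
    set A := MvPolynomial.aeval z p with hA
    set A₀ := algebraMap k K (MvPolynomial.eval α p) with hA₀
    set Dp := ∑ i, algebraMap k K (MvPolynomial.eval α (MvPolynomial.pderiv i p))
          * (z i - algebraMap k K (α i)) with hDp
    have hsum : ∑ i, algebraMap k K (MvPolynomial.eval α (MvPolynomial.pderiv i (p * MvPolynomial.X n)))
          * (z i - algebraMap k K (α i))
        = algebraMap k K (α n) * Dp + A₀ * (z n - algebraMap k K (α n)) := by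
      rw [hDp, Finset.mul_sum]
      have h1 : ∀ i, algebraMap k K (MvPolynomial.eval α
            (MvPolynomial.pderiv i (p * MvPolynomial.X n))) * (z i - algebraMap k K (α i))
          = algebraMap k K (α n) * (algebraMap k K (MvPolynomial.eval α (MvPolynomial.pderiv i p))
              * (z i - algebraMap k K (α i)))
            + (if i = n then A₀ * (z i - algebraMap k K (α i)) else 0) := by
        intro i
        rw [MvPolynomial.pderiv_mul, MvPolynomial.pderiv_X, map_add, map_mul, map_mul,
          MvPolynomial.eval_X, map_add, map_mul, map_mul, add_mul]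
        congr 1
        · ring
        · by_cases hin : i = n
          · subst hin
            rw [Pi.single_eq_same, map_one, map_one, mul_one, if_pos rfl]
          · rw [Pi.single_eq_of_ne (Ne.symm hin), map_zero, map_zero, mul_zero, zero_mul,
              if_neg hin]
      rw [Finset.sum_congr rfl fun i _ => h1 i, Finset.sum_add_distrib,
        Finset.sum_ite_eq' Finset.univ n, if_pos (Finset.mem_univ n)]
    have key : MvPolynomial.aeval z (p * MvPolynomial.X n)
        - algebraMap k K (MvPolynomial.eval α (p * MvPolynomial.X n))
        - ∑ i, algebraMap k K (MvPolynomial.eval α (MvPolynomial.pderiv i (p * MvPolynomial.X n)))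
          * (z i - algebraMap k K (α i))
        = Dp * (z n - algebraMap k K (α n)) + (A - A₀ - Dp) * z n := by
      rw [hsum, map_mul, MvPolynomial.aeval_X, map_mul, MvPolynomial.eval_X, map_mul]
      ring
    rw [key]
    have hDpv : P.1 Dp ≤ WithZero.exp (-1) := by
      apply Valuation.map_sum_le
      intro i _
      rw [map_mul]
      calc P.1 (algebraMap k K _) * P.1 (z i - algebraMap k K (α i))
          ≤ 1 * WithZero.exp (-1) := mul_le_mul' (P.2.1 _) (hε i)
        _ = WithZero.exp (-1) := one_mul _
    refine (P.1.map_add _ _).trans (max_le ?_ ?_)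
    · rw [map_mul]
      calc P.1 Dp * P.1 (z n - algebraMap k K (α n))
          ≤ WithZero.exp (-1) * WithZero.exp (-1) := mul_le_mul' hDpv (hε n)
        _ = WithZero.exp (-2) := by rw [← WithZero.exp_add]; rfl
    · rw [map_mul]
      calc P.1 (A - A₀ - Dp) * P.1 (z n) ≤ WithZero.exp (-2) * 1 := mul_le_mul' hp (hzle n)
        _ = WithZero.exp (-2) := mul_one _

end Groth.Agent.Lib.Helper23.FF
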