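import Mathlib
import Groth.Prelude.Def_W4bk4goldsch45
import Groth.Agent.Lib.Helper23.FFTan1

/-!
Plane curves: the tangent line at a point.
-/

set_option autoImplicit false

namespace Groth.Agent.Lib.Helper23.FF

open FunFld
open scoped IntermediateField

universe u v
variable {k : Type u} {K : Type v} [Field k] [Field K] [Algebra k K]

theorem coe_algebraMap_O (P : Place k K) (c : k) :
    ((algebraMap k P.O c : P.O) : K) = algebraMap k K c := rfl

theorem residue_eq_algebraMap_of_val_sub_lt (P : Place k K) (a : P.O) (c : k)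
    (h : P.1 ((a : K) - algebraMap k K c) < 1) :
    IsLocalRing.residue P.O a = algebraMap k (IsLocalRing.ResidueField P.O) c := by
  have h1 : IsLocalRing.residue P.O (a - algebraMap k P.O c) = 0 := by
    rw [residue_eq_zero_iff]
    exact h
  rw [map_sub, sub_eq_zero] at h1
  rw [h1]
  rfl

theorem algebraMap_eval_eq_aeval {σ : Type*} {A : Type*} [CommRing A] [Algebra k A] (α : σ → k)
    (g : MvPolynomial σ k) :
    algebraMap k A (MvPolynomial.eval α g)
      = MvPolynomial.aeval (fun l => algebraMap k A (α l)) g := by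
  rw [MvPolynomial.aeval_def, MvPolynomial.eval, MvPolynomial.coe_eval₂Hom,
    MvPolynomial.eval₂_comp_left]
  rfl

/-- Data at a point of a plane curve: the constants `α`, with `f(α) = 0`, and the first-order
relation among the local coordinates. -/
theorem plane_point_data [IsAlgClosed k] (hK : IsFunctionField k K) (φ : Fin 3 → K)
    (f : MvPolynomial (Fin 3) k) (hhom : f.IsHomogeneous f.totalDegree)
    (hfφ : MvPolynomial.aeval φ f = 0) (P : Place k K) (j : Fin 3) (hj0 : φ j ≠ 0)
    (α : Fin 3 → k) (hα : ∀ l, P.1 (φ l / φ j - algebraMap k K (α l)) < 1) :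
    MvPolynomial.eval α f = 0 ∧
    P.1 (∑ i, algebraMap k K (MvPolynomial.eval α (MvPolynomial.pderiv i f))
        * (φ i / φ j - algebraMap k K (α i))) ≤ WithZero.exp (-2) ∧
    ∑ i, α i * MvPolynomial.eval α (MvPolynomial.pderiv i f) = 0 := by
  classical
  have hz0 : MvPolynomial.aeval (fun l => φ l / φ j) f = 0 := by
    have h1 : (fun l => φ l / φ j) = fun l => (φ j)⁻¹ * φ l := by
      funext l
      rw [div_eq_mul_inv, mul_comm]
    rw [h1, aeval_mul_of_isHomogeneous hhom, hfφ, mul_zero]
  have hT := taylor_val_le P α (fun l => φ l / φ j) hα f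
  rw [hz0, zero_sub] at hT
  set S := ∑ i, algebraMap k K (MvPolynomial.eval α (MvPolynomial.pderiv i f))
        * (φ i / φ j - algebraMap k K (α i)) with hS
  have hSv : P.1 S ≤ WithZero.exp (-1) := by
    apply Valuation.map_sum_le
    intro i _
    rw [map_mul]
    calc P.1 (algebraMap k K _) * P.1 (φ i / φ j - algebraMap k K (α i))
        ≤ 1 * WithZero.exp (-1) :=
          mul_le_mul' (P.2.1 _) (val_le_exp_neg_one_of_lt_one P (hα i))
      _ = WithZero.exp (-1) := one_mul _
  have he : MvPolynomial.eval α f = 0 := by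
    by_contra hne
    have h1 : P.1 (algebraMap k K (MvPolynomial.eval α f)) = 1 := val_const P hne
    have h2 : algebraMap k K (MvPolynomial.eval α f)
        = -((-algebraMap k K (MvPolynomial.eval α f) - S) + S) := by ring
    have h3 : P.1 (algebraMap k K (MvPolynomial.eval α f)) < 1 := by
      rw [h2, Valuation.map_neg]
      refine lt_of_le_of_lt (P.1.map_add _ _) (max_lt ?_ ?_)
      · refine lt_of_le_of_lt hT ?_
        rw [← WithZero.exp_zero, WithZero.exp_lt_exp]
        norm_num
      · refine lt_of_le_of_lt hSv ?_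
        rw [← WithZero.exp_zero, WithZero.exp_lt_exp]
        norm_num
    rw [h1] at h3
    exact lt_irrefl _ h3
  refine ⟨he, ?_, ?_⟩
  · rw [he, map_zero, neg_zero, zero_sub, Valuation.map_neg] at hT
    exact hT
  · have h1 := congrArg (MvPolynomial.eval α) hhom.sum_X_mul_pderiv
    rw [map_sum, map_nsmul, he, smul_zero] at h1
    simp only [map_mul, MvPolynomial.eval_X] at h1
    exact h1

/-- The tangent line at a point of a plane curve vanishes to order at least two. -/
theorem tangent_val_le [IsAlgClosed k] (hK : IsFunctionField k K) (φ : Fin 3 → K)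
    (f : MvPolynomial (Fin 3) k) (hhom : f.IsHomogeneous f.totalDegree)
    (hfφ : MvPolynomial.aeval φ f = 0) (P : Place k K) (j : Fin 3) (hj0 : φ j ≠ 0)
    (a : Fin 3 → P.O) (ha : ∀ i, ((a i : P.O) : K) = φ i / φ j) (c : Fin 3 → k)
    (hc : ∀ i, algebraMap k (IsLocalRing.ResidueField P.O) (c i) =
      MvPolynomial.aeval (fun l => IsLocalRing.residue P.O (a l)) (MvPolynomial.pderiv i f)) :
    P.1 (∑ i, c i • (φ i / φ j)) ≤ WithZero.exp (-2) := by
  classical
  have hP1 : P.deg = 1 := deg_eq_one hK P
  have hle : ∀ l, P.1 (φ l / φ j) ≤ 1 := fun l => by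
    rw [← ha l]
    exact (a l).2
  choose α hα using fun l => exists_const_val_sub_lt_one P hP1 (hle l)
  have hres : ∀ l, IsLocalRing.residue P.O (a l)
      = algebraMap k (IsLocalRing.ResidueField P.O) (α l) := fun l =>
    residue_eq_algebraMap_of_val_sub_lt P (a l) (α l) (by rw [ha l]; exact hα l)
  have hcα : ∀ i, c i = MvPolynomial.eval α (MvPolynomial.pderiv i f) := by
    intro i
    apply (algebraMap k (IsLocalRing.ResidueField P.O)).injective
    rw [hc i, algebraMap_eval_eq_aeval]
    have hfun : (fun l => IsLocalRing.residue P.O (a l))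
        = fun l => algebraMap k (IsLocalRing.ResidueField P.O) (α l) := funext hres
    rw [hfun]
  obtain ⟨-, h2, h3⟩ := plane_point_data hK φ f hhom hfφ P j hj0 α hα
  have e : ∑ i, c i • (φ i / φ j)
      = ∑ i, algebraMap k K (MvPolynomial.eval α (MvPolynomial.pderiv i f))
        * (φ i / φ j - algebraMap k K (α i)) := by
    have h4 : ∑ i, algebraMap k K (MvPolynomial.eval α (MvPolynomial.pderiv i f))
        * algebraMap k K (α i) = 0 := by
      rw [← map_zero (algebraMap k K), ← h3, map_sum]
      refine Finset.sum_congr rfl fun i _ => ?_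
      rw [map_mul, mul_comm]
    simp_rw [mul_sub]
    rw [Finset.sum_sub_distrib, h4, sub_zero]
    refine Finset.sum_congr rfl fun i _ => ?_
    rw [Algebra.smul_def, hcα i]
  rw [e]
  exact h2

end Groth.Agent.Lib.Helper23.FF
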