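import Mathlib
import Groth.Prelude.Def_W4bk4goldsch45
import Groth.Agent.Lib.Helper23.FFTan2

/-!
Polynomial algebra for the Jacobian criterion on plane curves: homogeneous scaling with a general
target, the graded evaluation `X i ↦ φ i * T`, homogenisation, and the zeroth-order Taylor
expansion with polynomial coefficients.
-/

set_option autoImplicit false

namespace Groth.Agent.Lib.Helper23.FF

open FunFld
open scoped IntermediateField

universe u v
variable {k : Type u} {K : Type v} [Field k] [Field K] [Algebra k K]

/-- A homogeneous polynomial scales by the power of its degree (general target). -/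
theorem aeval_mul_of_isHomogeneous' {σ : Type*} {B : Type*} [CommRing B] [Algebra k B]
    {f : MvPolynomial σ k} {n : ℕ}
    (hf : f.IsHomogeneous n) (c : B) (g : σ → B) :
    MvPolynomial.aeval (fun i => c * g i) f = c ^ n * MvPolynomial.aeval g f := by
  rw [MvPolynomial.aeval_def, MvPolynomial.aeval_def, MvPolynomial.eval₂_eq, MvPolynomial.eval₂_eq,
    Finset.mul_sum]
  refine Finset.sum_congr rfl fun d hd => ?_
  have h1 : (∏ i ∈ d.support, (c * g i) ^ d i) = c ^ n * ∏ i ∈ d.support, g i ^ d i := by
    simp_rw [mul_pow]
    rw [Finset.prod_mul_distrib, Finset.prod_pow_eq_pow_sum, ← hf.degree_eq_sum_deg_support hd]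
  rw [h1]
  ring

/-- The graded evaluation on a homogeneous polynomial. -/
theorem aeval_C_mul_X_of_isHomogeneous {σ : Type*} {G : MvPolynomial σ k} {e : ℕ}
    (hG : G.IsHomogeneous e) (φ : σ → K) :
    MvPolynomial.aeval (fun i => Polynomial.C (φ i) * (Polynomial.X : Polynomial K)) G
      = Polynomial.C (MvPolynomial.aeval φ G) * Polynomial.X ^ e := by
  have h1 : (fun i => Polynomial.C (φ i) * (Polynomial.X : Polynomial K))
      = fun i => (Polynomial.X : Polynomial K) * Polynomial.C (φ i) := by
    funext i
    rw [mul_comm]
  rw [h1, aeval_mul_of_isHomogeneous' hG]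
  have h2 : MvPolynomial.aeval (fun i => (Polynomial.C (φ i) : Polynomial K)) G
      = Polynomial.C (MvPolynomial.aeval φ G) := by
    have := MvPolynomial.aeval_algebraMap_apply (A := K) (B := Polynomial K) φ G
    rw [← Polynomial.algebraMap_eq] 
    rw [← this]
    rfl
  rw [h2, mul_comm]

/-- The graded evaluation in terms of homogeneous components. -/
theorem aeval_C_mul_X_eq_sum {σ : Type*} (φ : σ → K) (G : MvPolynomial σ k) :
    MvPolynomial.aeval (fun i => Polynomial.C (φ i) * (Polynomial.X : Polynomial K)) G
      = ∑ e ∈ Finset.range (G.totalDegree + 1),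
        Polynomial.C (MvPolynomial.aeval φ (MvPolynomial.homogeneousComponent e G))
          * Polynomial.X ^ e := by
  conv_lhs => rw [← MvPolynomial.sum_homogeneousComponent G]
  rw [map_sum]
  refine Finset.sum_congr rfl fun e _ => ?_
  exact aeval_C_mul_X_of_isHomogeneous (MvPolynomial.homogeneousComponent_isHomogeneous e G) φ

/-- Membership in the graded kernel kills every homogeneous component. -/
theorem aeval_homogeneousComponent_eq_zero {σ : Type*} (φ : σ → K) (G : MvPolynomial σ k)
    (hG : MvPolynomial.aeval (fun i => Polynomial.C (φ i) * (Polynomial.X : Polynomial K)) G = 0)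
    (e : ℕ) : MvPolynomial.aeval φ (MvPolynomial.homogeneousComponent e G) = 0 := by
  by_cases he : G.totalDegree < e
  · rw [MvPolynomial.homogeneousComponent_eq_zero e G he, map_zero]
  · rw [aeval_C_mul_X_eq_sum] at hG
    have h1 := congrArg (fun p => Polynomial.coeff p e) hG
    simp only [Polynomial.finset_sum_coeff, Polynomial.coeff_C_mul_X_pow, Polynomial.coeff_zero] at h1
    rw [Finset.sum_eq_single e] at h1
    · simpa using h1
    · intro b _ hb
      rw [if_neg (Ne.symm hb)]
    · intro h
      exact absurd (Finset.mem_range.mpr (by omega)) h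

/-- Zeroth-order Taylor expansion with polynomial coefficients. -/
theorem exists_sub_C_eq_sum {σ : Type*} [Fintype σ] [DecidableEq σ] (α : σ → k)
    (g : MvPolynomial σ k) :
    ∃ q : σ → MvPolynomial σ k, g - MvPolynomial.C (MvPolynomial.eval α g)
      = ∑ l, (MvPolynomial.X l - MvPolynomial.C (α l)) * q l := by
  induction g using MvPolynomial.induction_on with
  | C c => exact ⟨0, by simp⟩
  | add p q hp hq =>
    obtain ⟨a, ha⟩ := hp
    obtain ⟨b, hb⟩ := hq
    refine ⟨a + b, ?_⟩
    simp only [Pi.add_apply, mul_add, Finset.sum_add_distrib, ← ha, ← hb, map_add]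
    ring
  | mul_X p n hp =>
    obtain ⟨a, ha⟩ := hp
    refine ⟨fun l => a l * MvPolynomial.X n
      + (Pi.single n (MvPolynomial.C (MvPolynomial.eval α p)) : σ → MvPolynomial σ k) l, ?_⟩
    simp only [mul_add, Finset.sum_add_distrib]
    have h1 : ∑ l, (MvPolynomial.X l - MvPolynomial.C (α l)) * (a l * MvPolynomial.X n)
        = (p - MvPolynomial.C (MvPolynomial.eval α p)) * MvPolynomial.X n := by
      rw [ha, Finset.sum_mul]
      refine Finset.sum_congr rfl fun l _ => ?_
      ring
    have h2 : ∑ l, (MvPolynomial.X l - MvPolynomial.C (α l))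
          * (Pi.single n (MvPolynomial.C (MvPolynomial.eval α p)) : σ → MvPolynomial σ k) l
        = (MvPolynomial.X n - MvPolynomial.C (α n)) * MvPolynomial.C (MvPolynomial.eval α p) := by
      rw [Finset.sum_eq_single n]
      · rw [Pi.single_eq_same]
      · intro b _ hb
        rw [Pi.single_eq_of_ne hb, mul_zero]
      · intro h
        exact absurd (Finset.mem_univ n) h
    rw [h1, h2, map_mul, MvPolynomial.eval_X, map_mul]
    ring

/-- The coefficients of the zeroth-order expansion have the partial derivatives as values. -/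
theorem eval_pderiv_eq_of_sub_C_eq_sum {σ : Type*} [Fintype σ] [DecidableEq σ] (α : σ → k)
    (g : MvPolynomial σ k) (q : σ → MvPolynomial σ k)
    (hq : g - MvPolynomial.C (MvPolynomial.eval α g)
      = ∑ l, (MvPolynomial.X l - MvPolynomial.C (α l)) * q l) (i : σ) :
    MvPolynomial.eval α (MvPolynomial.pderiv i g) = MvPolynomial.eval α (q i) := by
  have h1 := congrArg (fun h => MvPolynomial.eval α (MvPolynomial.pderiv i h)) hq
  simp only [map_sub, MvPolynomial.pderiv_C, map_zero, sub_zero, map_sum, Derivation.leibniz,
    MvPolynomial.pderiv_X, smul_eq_mul, map_add, map_mul, MvPolynomial.eval_X,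
    MvPolynomial.eval_C, sub_self, zero_mul, zero_add] at h1
  rw [h1, Finset.sum_eq_single i]
  · rw [Pi.single_eq_same, map_one, mul_one]
  · intro b _ hb
    rw [Pi.single_eq_of_ne hb, map_zero, mul_zero]
  · intro h
    exact absurd (Finset.mem_univ i) h

/-- Homogenisation with respect to the variable `X j`. -/
noncomputable def homog {σ : Type*} (j : σ) (G : MvPolynomial σ k) : MvPolynomial σ k :=
  ∑ e ∈ Finset.range (G.totalDegree + 1),
    MvPolynomial.homogeneousComponent e G * MvPolynomial.X j ^ (G.totalDegree - e)

theorem aeval_homog {σ : Type*} (φ : σ → K) (j : σ) (hj : φ j ≠ 0) (G : MvPolynomial σ k) :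
    MvPolynomial.aeval (fun i => Polynomial.C (φ i) * (Polynomial.X : Polynomial K)) (homog j G)
      = Polynomial.C (φ j ^ G.totalDegree * MvPolynomial.aeval (fun i => φ i / φ j) G)
        * Polynomial.X ^ G.totalDegree := by
  unfold homog
  rw [map_sum]
  have h1 : ∀ e ∈ Finset.range (G.totalDegree + 1),
      MvPolynomial.aeval (fun i => Polynomial.C (φ i) * (Polynomial.X : Polynomial K))
        (MvPolynomial.homogeneousComponent e G * MvPolynomial.X j ^ (G.totalDegree - e))
      = Polynomial.C (φ j ^ G.totalDegree
          * MvPolynomial.aeval (fun i => φ i / φ j) (MvPolynomial.homogeneousComponent e G))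
        * Polynomial.X ^ G.totalDegree := by
    intro e he
    have he' : e ≤ G.totalDegree := by
      have := Finset.mem_range.mp he
      omega
    have hh := MvPolynomial.homogeneousComponent_isHomogeneous e G
    rw [map_mul, map_pow, MvPolynomial.aeval_X, aeval_C_mul_X_of_isHomogeneous hh]
    have h2 : MvPolynomial.aeval φ (MvPolynomial.homogeneousComponent e G)
        = φ j ^ e * MvPolynomial.aeval (fun i => φ i / φ j)
          (MvPolynomial.homogeneousComponent e G) := by
      have h4 : φ = fun i => φ j * (φ i / φ j) := by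
        funext i
        field_simp
      rw [← aeval_mul_of_isHomogeneous hh, ← h4]
    rw [h2, mul_pow, ← Polynomial.C_pow]
    have h3 : G.totalDegree = e + (G.totalDegree - e) := by omega
    conv_rhs => rw [h3, pow_add, pow_add]
    simp only [map_mul, map_pow]
    ring
  rw [Finset.sum_congr rfl h1, ← Finset.sum_mul, ← map_sum, ← Finset.mul_sum, ← map_sum,
    MvPolynomial.sum_homogeneousComponent]

theorem eval_pderiv_homog {σ : Type*} [DecidableEq σ] {i j : σ} (hij : i ≠ j) (α : σ → k)
    (hα : α j = 1) (G : MvPolynomial σ k) :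
    MvPolynomial.eval α (MvPolynomial.pderiv i (homog j G))
      = MvPolynomial.eval α (MvPolynomial.pderiv i G) := by
  unfold homog
  rw [map_sum, map_sum]
  have h1 : ∀ e ∈ Finset.range (G.totalDegree + 1),
      MvPolynomial.eval α (MvPolynomial.pderiv i
        (MvPolynomial.homogeneousComponent e G * MvPolynomial.X j ^ (G.totalDegree - e)))
      = MvPolynomial.eval α (MvPolynomial.pderiv i (MvPolynomial.homogeneousComponent e G)) := by
    intro e _
    rw [Derivation.leibniz, Derivation.leibniz_pow, MvPolynomial.pderiv_X,
      Pi.single_eq_of_ne hij.symm, smul_zero, smul_zero, smul_zero, zero_add, smul_eq_mul, map_mul,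
      map_pow, MvPolynomial.eval_X, hα, one_pow, one_mul]
  rw [Finset.sum_congr rfl h1, ← map_sum, ← map_sum, MvPolynomial.sum_homogeneousComponent]

end Groth.Agent.Lib.Helper23.FF
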