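import Mathlib
import Groth.Prelude.Def_W4bk4goldsch45
import Groth.Agent.Lib.Helper23.FFJac1

/-!
The ideal of a plane curve is generated by its irreducible equation; consequences for the
first-order behaviour of relations at a point.
-/

set_option autoImplicit false

namespace Groth.Agent.Lib.Helper23.FF

open FunFld
open scoped IntermediateField

universe u v
variable {k : Type u} {K : Type v} [Field k] [Field K] [Algebra k K]

theorem val_mvAeval_le_one (P : Place k K) {σ : Type*} (z : σ → K) (hz : ∀ l, P.1 (z l) ≤ 1)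
    (g : MvPolynomial σ k) : P.1 (MvPolynomial.aeval z g) ≤ 1 := by
  induction g using MvPolynomial.induction_on with
  | C c =>
    rw [MvPolynomial.aeval_C]
    exact P.2.1 c
  | add p q hp hq =>
    rw [map_add]
    exact (P.1.map_add _ _).trans (max_le hp hq)
  | mul_X p n hp =>
    rw [map_mul, MvPolynomial.aeval_X, map_mul]
    exact mul_le_one' hp (hz n)

theorem val_le_one_of_val_sub_const_lt (P : Place k K) {x : K} {c : k}
    (h : P.1 (x - algebraMap k K c) < 1) : P.1 x ≤ 1 := by
  have : x = (x - algebraMap k K c) + algebraMap k K c := by ring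
  rw [this]
  exact (P.1.map_add _ _).trans (max_le h.le (P.2.1 _))

/-- A polynomial in elements congruent to constants is congruent to its value. -/
theorem val_aeval_sub_eval_lt (P : Place k K) {σ : Type*} [Fintype σ] [DecidableEq σ]
    (α : σ → k) (z : σ → K) (hz : ∀ l, P.1 (z l - algebraMap k K (α l)) < 1)
    (g : MvPolynomial σ k) :
    P.1 (MvPolynomial.aeval z g - algebraMap k K (MvPolynomial.eval α g)) < 1 := by
  obtain ⟨q, hq⟩ := exists_sub_C_eq_sum α g
  have h1 := congrArg (MvPolynomial.aeval z) hq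
  rw [map_sub, MvPolynomial.aeval_C, map_sum] at h1
  rw [h1]
  apply Valuation.map_sum_lt _ one_ne_zero
  intro l _
  rw [map_mul, map_sub, MvPolynomial.aeval_X, MvPolynomial.aeval_C, map_mul]
  calc P.1 (z l - algebraMap k K (α l)) * P.1 (MvPolynomial.aeval z (q l))
      ≤ P.1 (z l - algebraMap k K (α l)) * 1 :=
        mul_le_mul' le_rfl
          (val_mvAeval_le_one P z (fun l => val_le_one_of_val_sub_const_lt P (hz l)) (q l))
    _ < 1 := by rw [mul_one]; exact hz l

theorem const_eq_zero_of_val_lt_one (P : Place k K) {c : k} (h : P.1 (algebraMap k K c) < 1) :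
    c = 0 := by
  by_contra hne
  rw [val_const P hne] at h
  exact lt_irrefl _ h

theorem eval_eq_zero_of_aeval_eq_zero (P : Place k K) {σ : Type*} [Fintype σ] [DecidableEq σ]
    (α : σ → k) (z : σ → K) (hz : ∀ l, P.1 (z l - algebraMap k K (α l)) < 1)
    (g : MvPolynomial σ k) (hg : P.1 (MvPolynomial.aeval z g) < 1) : MvPolynomial.eval α g = 0 := by
  apply const_eq_zero_of_val_lt_one P
  have h1 := val_aeval_sub_eval_lt P α z hz g
  have h2 : algebraMap k K (MvPolynomial.eval α g)
      = MvPolynomial.aeval z g - (MvPolynomial.aeval z g - algebraMap k K (MvPolynomial.eval α g)) := by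
    ring
  rw [h2]
  exact lt_of_le_of_lt (P.1.map_sub _ _) (max_lt hg h1)

theorem ratio_sub_const_ne_zero {ι : Type*} (φ : ι → K) (hφ : LinearIndependent k φ) {i j : ι}
    (hij : i ≠ j) (c : k) : φ i / φ j - algebraMap k K c ≠ 0 := by
  intro h
  have hj0 : φ j ≠ 0 := hφ.ne_zero j
  have h1 : φ i = c • φ j := by
    rw [sub_eq_zero, div_eq_iff hj0] at h
    rw [h, Algebra.smul_def]
  have h2 := hφ.notMem_span_image (s := {j}) (x := i) (by
    rw [Set.mem_singleton_iff]
    exact hij)
  apply h2
  rw [h1]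
  exact Submodule.smul_mem _ _ (Submodule.subset_span ⟨j, rfl, rfl⟩)

theorem const_eq_one_of_index (P : Place k K) {ι : Type*} (φ : ι → K) {j : ι} (hj0 : φ j ≠ 0)
    {c : k} (h : P.1 (φ j / φ j - algebraMap k K c) < 1) : c = 1 := by
  rw [div_self hj0] at h
  have h1 : (1 : K) - algebraMap k K c = algebraMap k K (1 - c) := by
    rw [map_sub, map_one]
  rw [h1] at h
  have := const_eq_zero_of_val_lt_one P h
  exact (sub_eq_zero.mp this).symm

/-- A prime element of the ideal of a plane curve generates it. -/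
theorem gradedKer_eq_span_of_prime (φ : Fin 3 → K) (f : MvPolynomial (Fin 3) k)
    (hfprime : Prime f)
    (hfp : f ∈ RingHom.ker (MvPolynomial.aeval (R := k)
        fun i => Polynomial.C (φ i) * (Polynomial.X : Polynomial K)))
    (P : Place k K) (j : Fin 3) (hj0 : φ j ≠ 0) (i₀ : Fin 3)
    (hnc : ∀ c : k, φ i₀ / φ j - algebraMap k K c ≠ 0)
    (α : Fin 3 → k) (hα : ∀ l, P.1 (φ l / φ j - algebraMap k K (α l)) < 1) :
    RingHom.ker (MvPolynomial.aeval (R := k)
        fun i => Polynomial.C (φ i) * (Polynomial.X : Polynomial K))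
      = Ideal.span {f} := by
  classical
  set ψ := MvPolynomial.aeval (R := k)
    (fun i => Polynomial.C (φ i) * (Polynomial.X : Polynomial K)) with hψ
  have hp : (RingHom.ker ψ).IsPrime := RingHom.ker_isPrime _
  by_contra hne
  have hle : Ideal.span {f} ≤ RingHom.ker ψ := (Ideal.span_singleton_le_iff_mem _).mpr hfp
  have hlt : Ideal.span {f} < RingHom.ker ψ := lt_of_le_of_ne hle (Ne.symm hne)
  have : (Ideal.span {f}).IsPrime := (Ideal.span_singleton_prime hfprime.ne_zero).mpr hfprime
  have hbot : (⊥ : Ideal (MvPolynomial (Fin 3) k)) < Ideal.span {f} := by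
    rw [bot_lt_iff_ne_bot, Ne, Ideal.span_singleton_eq_bot]
    exact hfprime.ne_zero
  set z : Fin 3 → K := fun i => φ i / φ j with hz
  set ev : MvPolynomial (Fin 3) k →ₐ[k] K := MvPolynomial.aeval z with hev
  have hp' : (RingHom.ker ev).IsPrime := RingHom.ker_isPrime _
  have hzφ : z = fun i => (φ j)⁻¹ * φ i := by
    funext i
    show φ i / φ j = _
    rw [div_eq_mul_inv, mul_comm]
  have h12 : RingHom.ker ψ < RingHom.ker ev := by
    refine lt_of_le_of_ne ?_ ?_
    · intro G hG
      rw [RingHom.mem_ker] at hG ⊢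
      have hc := aeval_homogeneousComponent_eq_zero φ G hG
      rw [hev, ← MvPolynomial.sum_homogeneousComponent G, map_sum]
      refine Finset.sum_eq_zero fun e _ => ?_
      rw [hzφ, aeval_mul_of_isHomogeneous (MvPolynomial.homogeneousComponent_isHomogeneous e G),
        hc e, mul_zero]
    · intro heq
      have h1 : (MvPolynomial.X j - 1 : MvPolynomial (Fin 3) k) ∈ RingHom.ker ev := by
        rw [RingHom.mem_ker, hev, map_sub, MvPolynomial.aeval_X, map_one, hz]
        show φ j / φ j - 1 = 0
        rw [div_self hj0, sub_self]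
      rw [← heq, RingHom.mem_ker, hψ, map_sub, MvPolynomial.aeval_X, map_one] at h1
      have h2 := congrArg (fun p => Polynomial.coeff p 0) h1
      simp at h2
  set M := RingHom.ker (MvPolynomial.eval α) with hM
  have hMp : M.IsPrime := RingHom.ker_isPrime _
  have hMtop : M ≠ ⊤ := RingHom.ker_ne_top _
  have h23 : RingHom.ker ev < M := by
    refine lt_of_le_of_ne ?_ ?_
    · intro G hG
      rw [RingHom.mem_ker] at hG
      rw [hM, RingHom.mem_ker]
      apply eval_eq_zero_of_aeval_eq_zero P α z hα G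
      have : MvPolynomial.aeval z G = 0 := hG
      rw [this, map_zero]
      exact zero_lt_one
    · intro heq
      have h1 : (MvPolynomial.X i₀ - MvPolynomial.C (α i₀) : MvPolynomial (Fin 3) k) ∈ M := by
        rw [hM, RingHom.mem_ker, map_sub, MvPolynomial.eval_X, MvPolynomial.eval_C, sub_self]
      rw [← heq, RingHom.mem_ker, hev, map_sub, MvPolynomial.aeval_X, MvPolynomial.aeval_C] at h1
      exact hnc (α i₀) h1
  have h1 := Ideal.height_add_one_le_of_lt_of_isPrime hbot
  have h2 := Ideal.height_add_one_le_of_lt_of_isPrime hlt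
  have h3 := Ideal.height_add_one_le_of_lt_of_isPrime h12
  have h4 := Ideal.height_add_one_le_of_lt_of_isPrime h23
  have h5 := Ideal.height_le_ringKrullDim_of_ne_top hMtop
  rw [MvPolynomial.ringKrullDim_of_isNoetherianRing, ringKrullDim_eq_zero_of_field] at h5
  have h6 : (4 : ℕ∞) ≤ M.height := by
    calc (4 : ℕ∞) = 0 + 1 + 1 + 1 + 1 := by norm_num
      _ ≤ (⊥ : Ideal (MvPolynomial (Fin 3) k)).height + 1 + 1 + 1 + 1 := by
          gcongr
          exact zero_le
      _ ≤ (Ideal.span {f}).height + 1 + 1 + 1 := by gcongr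
      _ ≤ (RingHom.ker ψ).height + 1 + 1 := by gcongr
      _ ≤ (RingHom.ker ev).height + 1 := by gcongr
      _ ≤ M.height := h4
  have h7 : (M.height : WithBot ℕ∞) ≤ 3 := by
    simpa using h5
  have h8 : ((4 : ℕ∞) : WithBot ℕ∞) ≤ (M.height : WithBot ℕ∞) := WithBot.coe_le_coe.mpr h6
  have h9 : ((4 : ℕ∞) : WithBot ℕ∞) ≤ ((3 : ℕ∞) : WithBot ℕ∞) := h8.trans h7
  rw [WithBot.coe_le_coe] at h9
  exact absurd h9 (by norm_num)

/-- The ideal of a plane curve is generated by its irreducible homogeneous equation. -/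
theorem gradedKer_eq_span (φ : Fin 3 → K)
    (hφ : LinearIndependent k φ) (f : MvPolynomial (Fin 3) k) (hf : Irreducible f)
    (hhom : f.IsHomogeneous f.totalDegree) (hfφ : MvPolynomial.aeval φ f = 0)
    (P : Place k K) (j : Fin 3)
    (α : Fin 3 → k) (hα : ∀ l, P.1 (φ l / φ j - algebraMap k K (α l)) < 1) :
    RingHom.ker (MvPolynomial.aeval (R := k)
        fun i => Polynomial.C (φ i) * (Polynomial.X : Polynomial K))
      = Ideal.span {f} := by
  have hj0 : φ j ≠ 0 := hφ.ne_zero j
  have hfp : f ∈ RingHom.ker (MvPolynomial.aeval (R := k)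
        fun i => Polynomial.C (φ i) * (Polynomial.X : Polynomial K)) := by
    rw [RingHom.mem_ker, aeval_C_mul_X_of_isHomogeneous hhom, hfφ, map_zero, zero_mul]
  have hex : ∀ j : Fin 3, ∃ i : Fin 3, i ≠ j := by decide
  obtain ⟨i, hij⟩ := hex j
  exact gradedKer_eq_span_of_prime φ f hf.prime hfp P j hj0 i
    (fun c => ratio_sub_const_ne_zero φ hφ hij c) α hα

end Groth.Agent.Lib.Helper23.FF
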