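import Mathlib
import Groth.Prelude.Def_W4bk4goldsch45
import Groth.Agent.Lib.Helper23.FFJac2

/-!
The Jacobian criterion at a point of a plane curve.
-/

set_option autoImplicit false

namespace Groth.Agent.Lib.Helper23.FF

open FunFld
open scoped IntermediateField

universe u v
variable {k : Type u} {K : Type v} [Field k] [Field K] [Algebra k K]

/-- If the gradient of `f` vanishes at the point, every relation among the affine coordinates has
vanishing affine gradient there. -/
theorem eval_pderiv_eq_zero_of_relation (φ : Fin 3 → K) (j : Fin 3) (hj0 : φ j ≠ 0)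
    (f : MvPolynomial (Fin 3) k)
    (hker : RingHom.ker (MvPolynomial.aeval (R := k)
        fun i => Polynomial.C (φ i) * (Polynomial.X : Polynomial K)) = Ideal.span {f})
    (α : Fin 3 → k) (hαj : α j = 1) (hfα : MvPolynomial.eval α f = 0)
    (hgrad : ∀ l, MvPolynomial.eval α (MvPolynomial.pderiv l f) = 0)
    (G : MvPolynomial (Fin 3) k) (hG : MvPolynomial.aeval (fun i => φ i / φ j) G = 0)
    {i : Fin 3} (hij : i ≠ j) :
    MvPolynomial.eval α (MvPolynomial.pderiv i G) = 0 := by
  have h1 : homog j G ∈ RingHom.ker (MvPolynomial.aeval (R := k)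
        fun i => Polynomial.C (φ i) * (Polynomial.X : Polynomial K)) := by
    rw [RingHom.mem_ker, aeval_homog φ j hj0, hG, mul_zero, map_zero, zero_mul]
  rw [hker, Ideal.mem_span_singleton'] at h1
  obtain ⟨H, hH⟩ := h1
  rw [← eval_pderiv_homog hij α hαj G, ← hH, Derivation.leibniz, map_add, smul_eq_mul,
    smul_eq_mul, map_mul, map_mul, hfα, hgrad i, mul_zero, zero_mul, add_zero]

theorem exists_other_indices (j : Fin 3) : ∃ i i' : Fin 3, i ≠ j ∧ i' ≠ j ∧ i ≠ i' := by
  revert j
  decide

theorem exists_third_index (i j : Fin 3) (hij : i ≠ j) :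
    ∃ i' : Fin 3, i' ≠ i ∧ i' ≠ j ∧ ∀ l, l = j ∨ l = i ∨ l = i' := by
  revert i j
  decide

/-- Vanishing gradient forces a singular point. -/
theorem not_isNonsingularAt_of_grad_eq_zero (φ : Fin 3 → K)
    (hφ : LinearIndependent k φ) (f : MvPolynomial (Fin 3) k) (hf : Irreducible f)
    (hhom : f.IsHomogeneous f.totalDegree) (hfφ : MvPolynomial.aeval φ f = 0)
    (P : Place k K) (j : Fin 3) (hj : ∀ i, P.1 (φ i) ≤ P.1 (φ j))
    (α : Fin 3 → k) (hα : ∀ l, P.1 (φ l / φ j - algebraMap k K (α l)) < 1)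
    (hgrad : ∀ l, MvPolynomial.eval α (MvPolynomial.pderiv l f) = 0) :
    ¬ IsNonsingularAt φ P := by
  classical
  intro hNS
  have hj0 : φ j ≠ 0 := hφ.ne_zero j
  have hker := gradedKer_eq_span φ hφ f hf hhom hfφ P j α hα
  have hαj : α j = 1 := const_eq_one_of_index P φ hj0 (hα j)
  set z : Fin 3 → K := fun i => φ i / φ j with hz
  have hz0 : MvPolynomial.aeval z f = 0 := by
    have h1 : z = fun l => (φ j)⁻¹ * φ l := by
      funext l
      show φ l / φ j = _
      rw [div_eq_mul_inv, mul_comm]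
    rw [h1, aeval_mul_of_isHomogeneous hhom, hfφ, mul_zero]
  have hfα : MvPolynomial.eval α f = 0 :=
    eval_eq_zero_of_aeval_eq_zero P α z hα f (by rw [hz0, map_zero]; exact zero_lt_one)
  have key : ∀ i i' : Fin 3, i ≠ j → i' ≠ j → i ≠ i' →
      P.1 (z i - algebraMap k K (α i)) ≤ P.1 (z i' - algebraMap k K (α i')) → False := by
    intro i i' hi hi' hii' hle
    have hε' : z i' - algebraMap k K (α i') ≠ 0 := ratio_sub_const_ne_zero φ hφ hi' (α i')
    have hu : P.1 ((z i - algebraMap k K (α i)) / (z i' - algebraMap k K (α i'))) ≤ 1 := by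
      rw [map_div₀]
      exact div_le_one_of_le₀ hle zero_le
    have hmem := (inLocRing_iff_of_index φ P hj0 hj _).mp (hNS _ hu)
    obtain ⟨v, hv, w, hw, hPw, huw⟩ := hmem
    have hrange : ratioAlg (k := k) φ j = (MvPolynomial.aeval z).range :=
      Algebra.adjoin_range_eq_range_aeval k z
    rw [hrange] at hv hw
    obtain ⟨V, rfl⟩ := hv
    obtain ⟨W, rfl⟩ := hw
    set G : MvPolynomial (Fin 3) k := (MvPolynomial.X i - MvPolynomial.C (α i)) * W
      - (MvPolynomial.X i' - MvPolynomial.C (α i')) * V with hGdef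
    have hG : MvPolynomial.aeval z G = 0 := by
      rw [hGdef, map_sub, map_mul, map_mul, map_sub, map_sub, MvPolynomial.aeval_X,
        MvPolynomial.aeval_X, MvPolynomial.aeval_C, MvPolynomial.aeval_C]
      have : MvPolynomial.aeval z V = (z i - algebraMap k K (α i))
          / (z i' - algebraMap k K (α i')) * MvPolynomial.aeval z W := huw.symm
      rw [this]
      field_simp
      ring
    have hd : MvPolynomial.eval α (MvPolynomial.pderiv i G) = MvPolynomial.eval α W := by
      rw [hGdef]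
      simp only [map_sub, Derivation.leibniz, MvPolynomial.pderiv_X, MvPolynomial.pderiv_C,
        smul_eq_mul, map_add, map_mul, MvPolynomial.eval_X, MvPolynomial.eval_C, sub_self,
        zero_mul, Pi.single_eq_same, Pi.single_eq_of_ne hii'.symm, map_one, map_zero, mul_zero,
        mul_one, sub_zero, zero_add, add_zero]
    have h0 := eval_pderiv_eq_zero_of_relation φ j hj0 f hker α hαj hfα hgrad G hG hi
    rw [hd] at h0
    have h3 := val_aeval_sub_eval_lt P α z hα W
    have hPw' : P.1 (MvPolynomial.aeval z W) = 1 := hPw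
    rw [h0, map_zero, sub_zero, hPw'] at h3
    exact lt_irrefl _ h3
  obtain ⟨i1, i2, h1, h2, h12⟩ := exists_other_indices j
  rcases le_total (P.1 (z i1 - algebraMap k K (α i1))) (P.1 (z i2 - algebraMap k K (α i2)))
    with h | h
  · exact key i1 i2 h1 h2 h12 h
  · exact key i2 i1 h2 h1 h12.symm h

theorem exists_exp_neg_le {x : WithZero (Multiplicative ℤ)} (hx : x ≠ 0) :
    ∃ n : ℕ, WithZero.exp (-(n : ℤ)) ≤ x := by
  refine ⟨(-(WithZero.log x)).toNat, ?_⟩
  conv_rhs => rw [← WithZero.exp_log hx]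
  rw [WithZero.exp_le_exp]
  have := Int.self_le_toNat (-(WithZero.log x))
  omega

/-- A local algebra whose maximal ideal is generated by one element is the whole valuation ring. -/
theorem mem_locAlg_of_principal (P : Place k K) (A : Subalgebra k K)
    (hA : ∀ a ∈ A, P.1 a ≤ 1)
    (hfrac : ∀ u : K, ∃ a ∈ A, ∃ b ∈ A, u = a / b)
    (t : K) (ht : t ∈ locAlg A P) (htv : P.1 t < 1)
    (H : ∀ a ∈ A, P.1 a < 1 → ∃ r ∈ locAlg A P, a = t * r)
    {u : K} (hu : P.1 u ≤ 1) : u ∈ locAlg A P := by
  have claim : ∀ n : ℕ, ∀ a ∈ A, a ≠ 0 → WithZero.exp (-(n : ℤ)) ≤ P.1 a →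
      ∃ m : ℕ, ∃ v ∈ locAlg A P, P.1 v = 1 ∧ a = t ^ m * v := by
    intro n
    induction n with
    | zero =>
      intro a ha ha0 hle
      refine ⟨0, a, le_locAlg A P ha, le_antisymm (hA a ha) ?_, by simp⟩
      simpa using hle
    | succ n ih =>
      intro a ha ha0 hle
      rcases (hA a ha).eq_or_lt with h1 | h1
      · exact ⟨0, a, le_locAlg A P ha, h1, by simp⟩
      · obtain ⟨r, hr, har⟩ := H a ha h1
        obtain ⟨x, hx, w, hw, hPw, hrw⟩ := hr
        have hr0 : r ≠ 0 := by
          rintro rfl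
          exact ha0 (by rw [har, mul_zero])
        have hw0 : w ≠ 0 := by
          rintro rfl
          rw [map_zero] at hPw
          exact zero_ne_one hPw
        have hx0 : x ≠ 0 := by
          rw [← hrw]
          exact mul_ne_zero hr0 hw0
        have hPx : P.1 x = P.1 r := by rw [← hrw, map_mul, hPw, mul_one]
        have h2 : WithZero.exp (-((n + 1 : ℕ) : ℤ)) ≤ WithZero.exp (-1) * P.1 r := by
          refine hle.trans ?_
          rw [har, map_mul]
          exact mul_le_mul' (val_le_exp_neg_one_of_lt_one P htv) le_rfl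
        have h3 := mul_le_mul' (le_refl (WithZero.exp 1)) h2
        rw [← mul_assoc, ← WithZero.exp_add, ← WithZero.exp_add] at h3
        have e1 : (1 : ℤ) + -((n + 1 : ℕ) : ℤ) = -(n : ℤ) := by push_cast; ring
        have e2 : (1 : ℤ) + -1 = 0 := by ring
        rw [e1, e2, WithZero.exp_zero, one_mul, ← hPx] at h3
        obtain ⟨m, v, hv, hPv, hxv⟩ := ih x hx hx0 h3
        refine ⟨m + 1, v / w, div_mem_locAlg' hv (le_locAlg A P hw) hPw, ?_, ?_⟩
        · rw [map_div₀, hPv, hPw, div_one]
        · have : r = x / w := by rw [← hrw, mul_div_cancel_right₀ r hw0]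
          rw [har, this, hxv, pow_succ]
          field_simp
  by_cases hu0 : u = 0
  · rw [hu0]
    exact (locAlg A P).zero_mem
  obtain ⟨a, ha, b, hb, hab⟩ := hfrac u
  have hb0 : b ≠ 0 := by
    rintro rfl
    exact hu0 (by rw [hab, div_zero])
  have ha0 : a ≠ 0 := by
    rintro rfl
    exact hu0 (by rw [hab, zero_div])
  obtain ⟨n₁, hn₁⟩ := exists_exp_neg_le ((P.1.ne_zero_iff).mpr ha0)
  obtain ⟨n₂, hn₂⟩ := exists_exp_neg_le ((P.1.ne_zero_iff).mpr hb0)
  obtain ⟨m, v, hv, hPv, hav⟩ := claim n₁ a ha ha0 hn₁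
  obtain ⟨m', v', hv', hPv', hbv⟩ := claim n₂ b hb hb0 hn₂
  have hv0 : v ≠ 0 := by
    rintro rfl
    exact ha0 (by rw [hav, mul_zero])
  have hv'0 : v' ≠ 0 := by
    rintro rfl
    exact hb0 (by rw [hbv, mul_zero])
  have htm : t ^ m ≠ 0 := by
    intro h
    exact ha0 (by rw [hav, h, zero_mul])
  have htm' : t ^ m' ≠ 0 := by
    intro h
    exact hb0 (by rw [hbv, h, zero_mul])
  rcases le_or_gt m' m with hmm | hmm
  · have e : u = t ^ (m - m') * (v / v') := by
      rw [hab, hav, hbv, ← pow_sub_mul_pow t hmm]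
      field_simp
    rw [e]
    exact (locAlg A P).mul_mem ((locAlg A P).pow_mem ht _) (div_mem_locAlg' hv hv' hPv')
  · exfalso
    have htd : t ^ (m' - m) ≠ 0 := by
      intro h
      apply htm'
      rw [← pow_sub_mul_pow t hmm.le, h, zero_mul]
    have e : u * t ^ (m' - m) * v' = v := by
      rw [hab, hav, hbv, ← pow_sub_mul_pow t hmm.le]
      field_simp
    have h1 := congrArg P.1 e
    rw [map_mul, map_mul, hPv, hPv', mul_one, map_pow] at h1
    have h2 : P.1 t ^ (m' - m) < 1 := pow_lt_one₀ zero_le htv (by omega)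
    have h3 : P.1 u * P.1 t ^ (m' - m) < 1 :=
      mul_lt_one_of_nonneg_of_lt_one_right hu zero_le h2
    rw [h1] at h3
    exact lt_irrefl _ h3

end Groth.Agent.Lib.Helper23.FF
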