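import Mathlib
import Groth.Prelude.Def_W4bk4goldsch45
import Groth.Agent.Lib.Helper23.FFJac3

/-!
The Jacobian criterion at a point of a plane curve: a non-vanishing partial derivative gives a
nonsingular point.
-/

set_option autoImplicit false

namespace Groth.Agent.Lib.Helper23.FF

open FunFld
open scoped IntermediateField

universe u v
variable {k : Type u} {K : Type v} [Field k] [Field K] [Algebra k K]

theorem val_eq_one_of_val_sub_const_lt (P : Place k K) {x : K} {c : k} (hc : c ≠ 0)
    (h : P.1 (x - algebraMap k K c) < 1) : P.1 x = 1 := by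
  have h1 : x = (x - algebraMap k K c) + algebraMap k K c := by ring
  rw [h1, Valuation.map_add_eq_of_lt_right, val_const P hc]
  rw [val_const P hc]
  exact h

/-- A non-vanishing partial derivative gives a nonsingular point. -/
theorem isNonsingularAt_of_pderiv_ne_zero (φ : Fin 3 → K)
    (hφ : LinearIndependent k φ) (f : MvPolynomial (Fin 3) k)
    (hhom : f.IsHomogeneous f.totalDegree) (hfφ : MvPolynomial.aeval φ f = 0)
    (P : Place k K) (j : Fin 3) (hj : ∀ i, P.1 (φ i) ≤ P.1 (φ j))
    (hbir : IntermediateField.adjoin k (Set.range fun i => φ i / φ j) = ⊤)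
    (α : Fin 3 → k) (hα : ∀ l, P.1 (φ l / φ j - algebraMap k K (α l)) < 1)
    (l₀ : Fin 3) (hl₀ : MvPolynomial.eval α (MvPolynomial.pderiv l₀ f) ≠ 0) :
    IsNonsingularAt φ P := by
  classical
  have hj0 : φ j ≠ 0 := hφ.ne_zero j
  have hαj : α j = 1 := const_eq_one_of_index P φ hj0 (hα j)
  set z : Fin 3 → K := fun i => φ i / φ j with hz
  have hz0 : MvPolynomial.aeval z f = 0 := by
    have h1 : z = fun l => (φ j)⁻¹ * φ l := by
      funext l
      show φ l / φ j = _
      rw [div_eq_mul_inv, mul_comm]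
    rw [h1, aeval_mul_of_isHomogeneous hhom, hfφ, mul_zero]
  have hfα : MvPolynomial.eval α f = 0 :=
    eval_eq_zero_of_aeval_eq_zero P α z hα f (by rw [hz0, map_zero]; exact zero_lt_one)
  have hzj : z j - algebraMap k K (α j) = 0 := by
    show φ j / φ j - _ = 0
    rw [div_self hj0, hαj, map_one, sub_self]
  -- Euler's relation
  have hEuler : ∑ l, α l * MvPolynomial.eval α (MvPolynomial.pderiv l f) = 0 := by
    have h1 := congrArg (MvPolynomial.eval α) hhom.sum_X_mul_pderiv
    rw [map_sum, map_nsmul, hfα, smul_zero] at h1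
    simp only [map_mul, MvPolynomial.eval_X] at h1
    exact h1
  obtain ⟨i, hij, hci⟩ : ∃ i, i ≠ j ∧ MvPolynomial.eval α (MvPolynomial.pderiv i f) ≠ 0 := by
    by_contra hcon
    push Not at hcon
    rw [Finset.sum_eq_single j] at hEuler
    · rw [hαj, one_mul] at hEuler
      by_cases h : l₀ = j
      · rw [h] at hl₀
        exact hl₀ hEuler
      · exact hl₀ (hcon l₀ h)
    · intro b _ hb
      rw [hcon b hb, mul_zero]
    · intro h
      exact absurd (Finset.mem_univ j) h
  obtain ⟨i', hi'i, hi'j, tri⟩ := exists_third_index i j hij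
  set A : Subalgebra k K := ratioAlg (k := k) φ j with hAdef
  have hrange : A = (MvPolynomial.aeval z).range := Algebra.adjoin_range_eq_range_aeval k z
  have hA : ∀ a ∈ A, P.1 a ≤ 1 := fun a ha => val_le_one_of_mem_ratioAlg φ P hj0 hj ha
  have hmemA : ∀ g : MvPolynomial (Fin 3) k, MvPolynomial.aeval z g ∈ A := by
    intro g
    rw [hrange]
    exact ⟨g, rfl⟩
  have expand : ∀ g : MvPolynomial (Fin 3) k, ∃ b b' : K, b ∈ A ∧ b' ∈ A ∧
      P.1 (b - algebraMap k K (MvPolynomial.eval α (MvPolynomial.pderiv i g))) < 1 ∧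
      MvPolynomial.aeval z g - algebraMap k K (MvPolynomial.eval α g)
        = (z i - algebraMap k K (α i)) * b + (z i' - algebraMap k K (α i')) * b' := by
    intro g
    obtain ⟨q, hq⟩ := exists_sub_C_eq_sum α g
    have h1 := congrArg (MvPolynomial.aeval z) hq
    rw [map_sub, MvPolynomial.aeval_C, map_sum,
      Finset.sum_eq_add i i' hi'i.symm] at h1
    · refine ⟨MvPolynomial.aeval z (q i), MvPolynomial.aeval z (q i'), hmemA _, hmemA _, ?_, ?_⟩
      · rw [eval_pderiv_eq_of_sub_C_eq_sum α g q hq i]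
        exact val_aeval_sub_eval_lt P α z hα (q i)
      · rw [h1, map_mul, map_mul, map_sub, map_sub, MvPolynomial.aeval_X, MvPolynomial.aeval_X,
          MvPolynomial.aeval_C, MvPolynomial.aeval_C]
    · intro c _ hc
      rcases tri c with rfl | rfl | rfl
      · rw [map_mul, map_sub, MvPolynomial.aeval_X, MvPolynomial.aeval_C, hzj, zero_mul]
      · exact absurd rfl hc.1
      · exact absurd rfl hc.2
    · intro h
      exact absurd (Finset.mem_univ i) h
    · intro h
      exact absurd (Finset.mem_univ i') h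
  obtain ⟨b, b', hb, hb', hbv, hexp⟩ := expand f
  rw [hz0, hfα, map_zero, sub_zero] at hexp
  have hPb : P.1 b = 1 := val_eq_one_of_val_sub_const_lt P hci hbv
  have hb0 : b ≠ 0 := by
    rintro rfl
    rw [map_zero] at hPb
    exact zero_ne_one hPb
  set ρ : K := (-b') / b with hρ
  have hρmem : ρ ∈ locAlg A P := div_mem_locAlg (A.neg_mem hb') hb hPb
  have hερ : z i - algebraMap k K (α i) = (z i' - algebraMap k K (α i')) * ρ := by
    rw [hρ]
    field_simp
    linear_combination hexp.symm
  have H : ∀ a ∈ A, P.1 a < 1 → ∃ r ∈ locAlg A P, a = (z i' - algebraMap k K (α i')) * r := by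
    intro a ha hPa
    rw [hrange] at ha
    obtain ⟨g, rfl⟩ := ha
    have hPa' : P.1 (MvPolynomial.aeval z g) < 1 := hPa
    have hgα : MvPolynomial.eval α g = 0 := eval_eq_zero_of_aeval_eq_zero P α z hα g hPa'
    obtain ⟨d, d', hd, hd', -, hexp'⟩ := expand g
    rw [hgα, map_zero, sub_zero] at hexp'
    refine ⟨ρ * d + d', (locAlg A P).add_mem ((locAlg A P).mul_mem hρmem (le_locAlg A P hd))
      (le_locAlg A P hd'), ?_⟩
    show MvPolynomial.aeval z g = _
    rw [hexp', hερ]
    ring
  have hfrac : ∀ u : K, ∃ a ∈ A, ∃ b ∈ A, u = a / b := by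
    intro u
    have hu : u ∈ IntermediateField.adjoin k (Set.range fun i => φ i / φ j) := by
      rw [hbir]
      trivial
    rw [IntermediateField.mem_adjoin_iff_div] at hu
    exact hu
  have htA : z i' - algebraMap k K (α i') ∈ A :=
    A.sub_mem (ratio_mem_ratioAlg φ j i') (A.algebraMap_mem _)
  intro u hu
  rw [inLocRing_iff_of_index φ P hj0 hj]
  exact mem_locAlg_of_principal P A hA hfrac _ (le_locAlg A P htA) (hα i') H hu

end Groth.Agent.Lib.Helper23.FF
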