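import Mathlib
import Groth.Prelude.Def_W4bk4goldsch45
import Groth.Agent.Lib.Helper23.FFJac4
import Groth.Agent.Lib.Helper23.FFHilb3

/-!
The ideal of homogeneous relations of a plane curve is principal with an irreducible homogeneous
generator.
-/

set_option autoImplicit false

namespace Groth.Agent.Lib.Helper23.FF

open FunFld
open scoped IntermediateField

universe u v
variable {k : Type u} {K : Type v} [Field k] [Field K] [Algebra k K]

theorem homogeneousComponent_totalDegree_ne_zero {σ : Type*} {f : MvPolynomial σ k} (hf : f ≠ 0) :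
    MvPolynomial.homogeneousComponent f.totalDegree f ≠ 0 := by
  classical
  have hne : f.support.Nonempty := MvPolynomial.support_nonempty.mpr hf
  obtain ⟨d, hd, hdeg⟩ := Finset.exists_mem_eq_sup f.support hne (fun s => s.sum fun _ e => e)
  intro h0
  have h1 := congrArg (MvPolynomial.coeff d) h0
  rw [MvPolynomial.coeff_homogeneousComponent, MvPolynomial.coeff_zero] at h1
  have h2 : d.degree = f.totalDegree := by
    unfold MvPolynomial.totalDegree
    rw [hdeg]
    rfl
  rw [if_pos h2] at h1
  exact (MvPolynomial.mem_support_iff.mp hd) h1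

/-- A generator of an ideal containing the top homogeneous component is homogeneous. -/
theorem isHomogeneous_of_top_mem {σ : Type*} {f : MvPolynomial σ k} (hf : f ≠ 0)
    (htop : MvPolynomial.homogeneousComponent f.totalDegree f ∈ Ideal.span {f}) :
    f.IsHomogeneous f.totalDegree := by
  have hne := homogeneousComponent_totalDegree_ne_zero hf
  have hhom := MvPolynomial.homogeneousComponent_isHomogeneous f.totalDegree f
  rw [Ideal.mem_span_singleton'] at htop
  obtain ⟨h, hh⟩ := htop
  have hh0 : h ≠ 0 := by
    rintro rfl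
    rw [zero_mul] at hh
    exact hne hh.symm
  have h1 : (h * f).totalDegree = h.totalDegree + f.totalDegree :=
    MvPolynomial.totalDegree_mul_of_isDomain hh0 hf
  rw [hh, hhom.totalDegree hne] at h1
  have h2 : h.totalDegree = 0 := by omega
  rw [MvPolynomial.totalDegree_eq_zero_iff_eq_C] at h2
  set c := MvPolynomial.coeff 0 h with hc
  have hc0 : c ≠ 0 := by
    intro h0
    rw [h0, map_zero] at h2
    exact hh0 h2
  have h3 : f = MvPolynomial.C c⁻¹ * MvPolynomial.homogeneousComponent f.totalDegree f := by
    rw [← hh, h2, ← mul_assoc, ← map_mul, inv_mul_cancel₀ hc0, map_one, one_mul]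
  have h4 := hhom.C_mul c⁻¹
  rw [← h3] at h4
  exact h4

theorem homog_ne_zero_of_rename (g : MvPolynomial (Fin 2) k) (hg : g ≠ 0) :
    homog (0 : Fin 3) (MvPolynomial.rename Fin.succ g) ≠ 0 := by
  classical
  set G := MvPolynomial.rename (R := k) (Fin.succ : Fin 2 → Fin 3) g with hG
  have hG0 : G ≠ 0 := by
    intro h
    apply hg
    apply MvPolynomial.rename_injective _ (Fin.succ_injective 2)
    rw [map_zero]
    exact h
  set s : MvPolynomial (Fin 3) k →ₐ[k] MvPolynomial (Fin 3) k :=
    MvPolynomial.aeval (fun i : Fin 3 => if i = 0 then (1 : MvPolynomial (Fin 3) k)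
      else MvPolynomial.X i) with hs
  have hsG : s G = G := by
    rw [hs, hG, MvPolynomial.aeval_rename]
    have h1 : ((fun i : Fin 3 => if i = 0 then (1 : MvPolynomial (Fin 3) k)
        else MvPolynomial.X i) ∘ (Fin.succ : Fin 2 → Fin 3))
        = (MvPolynomial.X ∘ (Fin.succ : Fin 2 → Fin 3)) := by
      funext i
      simp [Fin.succ_ne_zero]
    rw [h1, ← MvPolynomial.rename_eq_aeval]
  intro h0
  have h1 := congrArg s h0
  unfold homog at h1
  rw [map_sum, map_zero] at h1
  have h2 : ∀ e ∈ Finset.range (G.totalDegree + 1),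
      s (MvPolynomial.homogeneousComponent e G * MvPolynomial.X 0 ^ (G.totalDegree - e))
        = s (MvPolynomial.homogeneousComponent e G) := by
    intro e _
    rw [map_mul, map_pow, hs, MvPolynomial.aeval_X, if_pos rfl, one_pow, mul_one]
  rw [Finset.sum_congr rfl h2, ← map_sum, MvPolynomial.sum_homogeneousComponent, hsG] at h1
  exact hG0 h1

/-- The ideal of homogeneous relations of a plane curve is principal, with an irreducible
homogeneous generator. -/
theorem exists_irreducible_ker_plane [IsAlgClosed k] (hK : IsFunctionField k K) (x y : K)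
    (hxy : IntermediateField.adjoin k ({x, y} : Set K) = ⊤) :
    ∃ f : MvPolynomial (Fin 3) k, Irreducible f ∧ f.IsHomogeneous f.totalDegree ∧
      RingHom.ker (MvPolynomial.aeval (R := k)
        fun i => Polynomial.C (![(1 : K), x, y] i) * (Polynomial.X : Polynomial K)) =
        Ideal.span {f} := by
  classical
  set φ : Fin 3 → K := ![(1 : K), x, y] with hφ
  obtain ⟨⟨x₀, hx₀, _⟩, _⟩ := id hK
  obtain ⟨P, _⟩ := Groth.Agent.Lib.Helper27.FF.exists_place_val_lt_one hK hx₀
  obtain ⟨j, hj⟩ := Finite.exists_max (fun i => P.1 (φ i))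
  have hj0 : φ j ≠ 0 := by
    intro h
    have h1 := hj 0
    simp only [h, map_zero] at h1
    have h2 : P.1 (φ 0) = 1 := by
      show P.1 1 = 1
      exact map_one _
    rw [h2] at h1
    exact not_le.mpr zero_lt_one h1
  have hP1 := deg_eq_one hK P
  have hle : ∀ l, P.1 (φ l / φ j) ≤ 1 := by
    intro l
    rw [map_div₀]
    exact div_le_one_of_le₀ (hj l) zero_le
  choose α hα using fun l => exists_const_val_sub_lt_one P hP1 (hle l)
  have hnc : ∃ i₀, ∀ c : k, φ i₀ / φ j - algebraMap k K c ≠ 0 := by
    by_contra hcon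
    push Not at hcon
    choose c hc using hcon
    have hc' : ∀ i, φ i = algebraMap k K (c i) * φ j := fun i => by
      have h1 := sub_eq_zero.mp (hc i)
      rw [div_eq_iff hj0] at h1
      exact h1
    have h0 : (1 : K) = algebraMap k K (c 0) * φ j := hc' 0
    have hc0 : c 0 ≠ 0 := by
      intro h
      rw [h, map_zero, zero_mul] at h0
      exact one_ne_zero h0
    have hc0' : algebraMap k K (c 0) ≠ 0 := by
      rwa [Ne, map_eq_zero_iff _ (algebraMap k K).injective]
    have hφj : φ j = algebraMap k K (c 0)⁻¹ := by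
      rw [map_inv₀]
      field_simp
      rw [mul_comm]
      exact h0.symm
    have hx : x = algebraMap k K (c 1 * (c 0)⁻¹) := by
      have h1 : x = algebraMap k K (c 1) * φ j := hc' 1
      rw [h1, hφj, map_mul]
    have hy : y = algebraMap k K (c 2 * (c 0)⁻¹) := by
      have h1 : y = algebraMap k K (c 2) * φ j := hc' 2
      rw [h1, hφj, map_mul]
    have h1 : IntermediateField.adjoin k ({x, y} : Set K) ≤ ⊥ := by
      rw [IntermediateField.adjoin_le_iff]
      intro z hz
      rcases hz with rfl | rfl
      · exact IntermediateField.mem_bot.mpr ⟨_, hx.symm⟩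
      · exact IntermediateField.mem_bot.mpr ⟨_, hy.symm⟩
    rw [hxy] at h1
    have h2 : x₀ ∈ (⊥ : IntermediateField k K) := h1 IntermediateField.mem_top
    obtain ⟨c', rfl⟩ := IntermediateField.mem_bot.mp h2
    exact hx₀ (isAlgebraic_algebraMap c')
  obtain ⟨i₀, hi₀⟩ := hnc
  have hp : (RingHom.ker (MvPolynomial.aeval (R := k)
        fun i => Polynomial.C (φ i) * (Polynomial.X : Polynomial K))).IsPrime :=
    RingHom.ker_isPrime _
  have hne : RingHom.ker (MvPolynomial.aeval (R := k)
        fun i => Polynomial.C (φ i) * (Polynomial.X : Polynomial K)) ≠ ⊥ := by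
    obtain ⟨g, hgker, hg0⟩ := Submodule.exists_mem_ne_zero_of_ne_bot (ker_planeEv_ne_bot hK x y)
    intro hbot
    have h1 : homog (0 : Fin 3) (MvPolynomial.rename Fin.succ g)
        ∈ RingHom.ker (MvPolynomial.aeval (R := k)
          fun i => Polynomial.C (φ i) * (Polynomial.X : Polynomial K)) := by
      have h2 : φ 0 ≠ 0 := by
        show (1 : K) ≠ 0
        exact one_ne_zero
      rw [RingHom.mem_ker, aeval_homog φ 0 h2, MvPolynomial.aeval_rename]
      have h3 : (fun i => φ i / φ 0) ∘ (Fin.succ : Fin 2 → Fin 3) = ![x, y] := by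
        funext i
        fin_cases i
        · show x / 1 = x
          rw [div_one]
        · show y / 1 = y
          rw [div_one]
      rw [h3]
      have h4 : MvPolynomial.aeval ![x, y] g = 0 := hgker
      rw [h4, mul_zero, map_zero, zero_mul]
    rw [hbot, Ideal.mem_bot] at h1
    exact homog_ne_zero_of_rename g hg0 h1
  obtain ⟨f, hfp, hf⟩ := Ideal.IsPrime.exists_mem_prime_of_ne_bot hp hne
  have hker := gradedKer_eq_span_of_prime φ f hf hfp P j hj0 i₀ hi₀ α hα
  refine ⟨f, hf.irreducible, ?_, hker⟩
  apply isHomogeneous_of_top_mem hf.ne_zero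
  rw [← hker, RingHom.mem_ker,
    aeval_C_mul_X_of_isHomogeneous (MvPolynomial.homogeneousComponent_isHomogeneous _ _),
    aeval_homogeneousComponent_eq_zero φ f (RingHom.mem_ker.mp hfp), map_zero, zero_mul]

end Groth.Agent.Lib.Helper23.FF
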