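import Mathlib
import Groth.Prelude.Def_W4bk4goldsch45
import Groth.Agent.Lib.Helper23.FFJac5

/-!
Linear equivalence helpers for Riemann–Roch style arguments over an algebraically closed field.
-/

set_option autoImplicit false

namespace Groth.Agent.Lib.Helper23.FF

open FunFld
open scoped IntermediateField

universe u v
variable {k : Type u} {K : Type v} [Field k] [Field K] [Algebra k K]

theorem deg_single' [IsAlgClosed k] (hK : IsFunctionField k K) (P : Place k K) (n : ℤ) :
    Divisor.deg (Finsupp.single P n : Divisor k K) = n := by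
  rw [Groth.Agent.Lib.Helper27.FF.deg_single, deg_eq_one hK P]
  simp

theorem mem_L_of_div_nonneg (hK : IsFunctionField k K) {D : Divisor k K} {x : K} (hx0 : x ≠ 0)
    (h : 0 ≤ D + FunFld.div k x) : x ∈ L D := by
  intro P
  rw [Groth.Agent.Lib.Helper27.FF.val_eq_exp_neg_div' hK hx0, WithZero.exp_le_exp]
  have h1 := h P
  rw [Finsupp.add_apply] at h1
  have h2 : (0 : ℤ) ≤ D P + FunFld.div k x P := h1
  linarith

theorem div_algebraMap (hK : IsFunctionField k K) {c : k} (hc : c ≠ 0) :
    FunFld.div k (algebraMap k K c) = 0 := by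
  ext P
  rw [Groth.Agent.Lib.Helper27.FF.div_apply' hK, Place.ord, val_const P hc]
  simp

theorem one_mem_L {D : Divisor k K} (hD : 0 ≤ D) : (1 : K) ∈ L D := by
  intro P
  rw [map_one, ← WithZero.exp_zero, WithZero.exp_le_exp]
  exact hD P

theorem eq_algebraMap_of_mem_L_of_ell_eq_one {D : Divisor k K} (hD : 0 ≤ D)
    (hell : ell D = 1) {x : K} (hx : x ∈ L D) : ∃ c : k, x = algebraMap k K c := by
  have h1 : (⟨1, one_mem_L hD⟩ : ↥(L D)) ≠ 0 := by
    intro h
    have := congrArg Subtype.val h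
    exact one_ne_zero this
  obtain ⟨c, hc⟩ := (finrank_eq_one_iff_of_nonzero' _ h1).mp hell ⟨x, hx⟩
  refine ⟨c, ?_⟩
  have h2 : c • (1 : K) = x := congrArg Subtype.val hc
  rw [← h2, Algebra.smul_def, mul_one]

/-- If `D₂ - D₁` is principal with `D₁, D₂` effective and `ℓ(D₁) = 1`, then `D₂ = D₁`. -/
theorem eq_of_div_eq_sub (hK : IsFunctionField k K) {D₁ D₂ : Divisor k K} (h1 : 0 ≤ D₁)
    (hell : ell D₁ = 1) (h2 : 0 ≤ D₂) {x : K} (hx0 : x ≠ 0)
    (hx : FunFld.div k x = D₂ - D₁) : D₂ = D₁ := by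
  have hxL : x ∈ L D₁ := by
    apply mem_L_of_div_nonneg hK hx0
    rw [hx]
    have : D₁ + (D₂ - D₁) = D₂ := by abel
    rw [this]
    exact h2
  obtain ⟨c, rfl⟩ := eq_algebraMap_of_mem_L_of_ell_eq_one h1 hell hxL
  have hc : c ≠ 0 := by
    rintro rfl
    exact hx0 (map_zero _)
  rw [div_algebraMap hK hc] at hx
  exact (sub_eq_zero.mp hx.symm)

/-- A divisor of degree `2g - 2` with `ℓ = g` differs from a canonical divisor by a principal
divisor. -/
theorem exists_div_eq_of_deg_ell (hK : IsFunctionField k K) {C D : Divisor k K}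
    (hC : IsCanonical k K C) (hdeg : D.deg = 2 * (genus k K : ℤ) - 2) (hell : ell D = genus k K) :
    ∃ x : K, x ≠ 0 ∧ D = C + FunFld.div k x := by
  have core := Groth.Agent.Lib.Helper27.FF.core_of hK
  have hcan : IsCanonical k K D := (core.isCanonical_iff D).mpr ⟨hell, hdeg⟩
  exact core.canonical_equiv hC hcan

/-- A divisor of degree `0` with `ℓ ≥ 1` is principal (up to sign). -/
theorem exists_div_eq_neg_of_deg_zero (hK : IsFunctionField k K) {D : Divisor k K}
    (hdeg : D.deg = 0) (hell : 0 < ell D) : ∃ x : K, x ≠ 0 ∧ FunFld.div k x = -D := by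
  have core := Groth.Agent.Lib.Helper27.FF.core_of hK
  obtain ⟨x, hx0, hx⟩ := core.exists_ne_zero_of_ell_pos hell
  refine ⟨x, hx0, ?_⟩
  have hnn := core.le_div_of_mem_L hx0 hx
  have hdeg0 : (D + FunFld.div k x).deg = 0 := by
    rw [Groth.Agent.Lib.Helper27.FF.deg_add, core.deg_div, hdeg, add_zero]
  have hzero := Groth.Agent.Lib.Helper27.FF.eq_zero_of_nonneg_of_deg_eq_zero core.one_le_deg hnn hdeg0
  have : FunFld.div k x = -D := by
    have h3 : D + FunFld.div k x = 0 := hzero
    exact eq_neg_of_add_eq_zero_right h3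
  exact this

end Groth.Agent.Lib.Helper23.FF
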