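import Mathlib
import Groth.Prelude.Def_W4bk4goldsch45
import Groth.Agent.Lib.Helper23.FF1
import Groth.Agent.Lib.Helper27.FunFldCore

/-!
Function fields over finite fields: there are finitely many places of bounded degree.
-/

set_option autoImplicit false

namespace Groth.Agent.Lib.Helper23.FF

open FunFld
open scoped IntermediateField

universe u v
variable {k : Type u} {K : Type v} [Field k] [Field K] [Algebra k K]

/-- The coercion `P.O → K` commutes with polynomial evaluation. -/
theorem coe_aeval_O (P : Place k K) (a : P.O) (m : Polynomial k) :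
    ((Polynomial.aeval a m : P.O) : K) = Polynomial.aeval (a : K) m := by
  induction m using Polynomial.induction_on' with
  | add p q hp hq => rw [map_add, map_add, ← hp, ← hq]; rfl
  | monomial n c =>
    rw [Polynomial.aeval_monomial, Polynomial.aeval_monomial]
    rfl

/-- The residue map commutes with polynomial evaluation. -/
theorem residue_aeval_O (P : Place k K) (a : P.O) (m : Polynomial k) :
    IsLocalRing.residue P.O (Polynomial.aeval a m) =
      Polynomial.aeval (IsLocalRing.residue P.O a) m := by
  induction m using Polynomial.induction_on' with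
  | add p q hp hq => rw [map_add, map_add, map_add, hp, hq]
  | monomial n c =>
    rw [Polynomial.aeval_monomial, Polynomial.aeval_monomial, map_mul, map_pow]
    rfl

/-- An element integral at `P` is killed modulo `P` by a monic polynomial of degree at most
`deg P`. -/
theorem exists_monic_val_aeval_lt_one (hK : IsFunctionField k K) (P : Place k K) {x : K}
    (hx : P.1 x ≤ 1) :
    ∃ m : Polynomial k, m.Monic ∧ m.natDegree ≤ P.deg ∧ P.1 (Polynomial.aeval x m) < 1 := by
  have h1 : Module.Finite k (IsLocalRing.ResidueField P.O) := finiteDimensional_residueField hK P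
  have h2 : Algebra.IsIntegral k (IsLocalRing.ResidueField P.O) :=
    @Algebra.IsIntegral.of_finite k (IsLocalRing.ResidueField P.O) _ _ _ h1
  set a : P.O := ⟨x, hx⟩ with ha
  have hint : IsIntegral k (IsLocalRing.residue P.O a) := Algebra.IsIntegral.isIntegral _
  refine ⟨minpoly k (IsLocalRing.residue P.O a), minpoly.monic hint,
    @minpoly.natDegree_le k (IsLocalRing.ResidueField P.O) _ _ _ h1 _ _, ?_⟩
  have h1 : IsLocalRing.residue P.O (Polynomial.aeval a (minpoly k (IsLocalRing.residue P.O a)))
      = 0 := by
    rw [residue_aeval_O, minpoly.aeval]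
  rw [residue_eq_zero_iff, coe_aeval_O] at h1
  exact h1

/-- Over a finite field there are finitely many polynomials of bounded degree. -/
theorem finite_natDegree_le [Finite k] (d : ℕ) :
    Set.Finite {m : Polynomial k | m.natDegree ≤ d} := by
  have : Finite ↥(Polynomial.degreeLT k (d + 1)) :=
    Finite.of_equiv _ (Polynomial.degreeLTEquiv k (d + 1)).symm.toEquiv
  have h : {m : Polynomial k | m.natDegree ≤ d} ⊆ (Polynomial.degreeLT k (d + 1) : Set _) := by
    intro m hm
    rw [SetLike.mem_coe, Polynomial.mem_degreeLT]
    exact lt_of_le_of_lt (Polynomial.degree_le_natDegree) (by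
      exact_mod_cast Nat.lt_succ_of_le hm)
  exact Set.Finite.subset (Set.toFinite _) h

/-- A nonzero element has finitely many zeros and poles. -/
theorem finite_val_ne_one (hK : IsFunctionField k K) {y : K} (hy : y ≠ 0) :
    Set.Finite {P : Place k K | P.1 y ≠ 1} := by
  have C := Groth.Agent.Lib.Helper27.FF.core_of hK
  refine Set.Finite.subset (C.finite_support y) ?_
  intro P hP
  rw [Function.mem_support]
  intro h0
  apply hP
  rw [C.val_eq_exp_neg_div hy P, C.div_apply, h0, neg_zero, WithZero.exp_zero]

/-- Over a finite constant field there are finitely many places of bounded degree. -/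
theorem finite_places_deg_le [Finite k] (hK : IsFunctionField k K) (d : ℕ) :
    Set.Finite {P : Place k K | P.deg ≤ d} := by
  obtain ⟨⟨x, hx, _⟩, _⟩ := id hK
  have hx0 : x ≠ 0 := fun h => hx (h ▸ isAlgebraic_zero)
  have hm0 : ∀ m : Polynomial k, m.Monic → Polynomial.aeval x m ≠ 0 := fun m hm h =>
    hx ⟨m, hm.ne_zero, h⟩
  have hfin1 : Set.Finite (⋃ m ∈ {m : Polynomial k | m.natDegree ≤ d ∧ m.Monic},
      {P : Place k K | P.1 (Polynomial.aeval x m) ≠ 1}) := by
    apply Set.Finite.biUnion
    · exact Set.Finite.subset (finite_natDegree_le d) fun m hm => hm.1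
    · intro m hm
      exact finite_val_ne_one hK (hm0 m hm.2)
  refine Set.Finite.subset (hfin1.union (finite_val_ne_one hK hx0)) ?_
  intro P hP
  have hP : P.deg ≤ d := hP
  by_cases hx1 : P.1 x ≤ 1
  · left
    obtain ⟨m, hmon, hdeg, hval⟩ := exists_monic_val_aeval_lt_one hK P hx1
    rw [Set.mem_iUnion₂]
    exact ⟨m, ⟨hdeg.trans hP, hmon⟩, hval.ne⟩
  · right
    intro h1
    exact hx1 h1.le

end Groth.Agent.Lib.Helper23.FF
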