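import Mathlib
import Groth.Prelude.Def_W4bk4goldsch45
import Groth.Agent.Lib.Helper23.FFZeta1

/-!
Function fields over finite fields: there are finitely many effective divisors of bounded degree.
-/

set_option autoImplicit false

namespace Groth.Agent.Lib.Helper23.FF

open FunFld
open scoped IntermediateField

universe u v
variable {k : Type u} {K : Type v} [Field k] [Field K] [Algebra k K]

/-- One term of the degree of an effective divisor is bounded by the degree. -/
theorem coeff_mul_deg_le_deg {D : Divisor k K} (hD : 0 ≤ D) (P : Place k K) :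
    D P * (P.deg : ℤ) ≤ D.deg := by
  have hnn : ∀ Q ∈ D.support, 0 ≤ D Q * (Q.deg : ℤ) := fun Q _ =>
    mul_nonneg (hD Q) (Int.natCast_nonneg _)
  by_cases hP : P ∈ D.support
  · exact Finset.single_le_sum hnn hP
  · rw [Finsupp.notMem_support_iff] at hP
    rw [hP, zero_mul]
    exact Finset.sum_nonneg hnn

/-- Over a finite constant field there are finitely many effective divisors of bounded degree. -/
theorem finite_effective_deg_le [Finite k] (hK : IsFunctionField k K) (n : ℕ) :
    Set.Finite {D : Divisor k K | 0 ≤ D ∧ D.deg ≤ n} := by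
  classical
  have C := Groth.Agent.Lib.Helper27.FF.core_of hK
  set S : Set (Place k K) := {P : Place k K | P.deg ≤ n} with hS
  have hSfin : S.Finite := finite_places_deg_le hK n
  haveI : Finite ↥S := hSfin.to_subtype
  have hbound : ∀ D : Divisor k K, 0 ≤ D → D.deg ≤ n → ∀ P, D P ≠ 0 → P ∈ S ∧ D P ≤ n := by
    intro D hD hdeg P hP
    have h1 : 0 < D P := lt_of_le_of_ne (hD P) (Ne.symm hP)
    have h2 : 1 ≤ (P.deg : ℤ) := by exact_mod_cast C.one_le_deg P
    have h3 := (coeff_mul_deg_le_deg hD P).trans hdeg
    constructor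
    · show P.deg ≤ n
      have : (P.deg : ℤ) ≤ n := by nlinarith
      exact_mod_cast this
    · nlinarith
  let f : Divisor k K → (↥S → ℤ) := fun D P => D P.1
  apply Set.Finite.of_finite_image (f := f)
  · refine Set.Finite.subset (Set.Finite.pi (t := fun _ : ↥S => Set.Icc (0 : ℤ) n)
      (fun _ => Set.finite_Icc _ _)) ?_
    rintro _ ⟨D, ⟨hD, hdeg⟩, rfl⟩
    intro P _
    refine ⟨hD P.1, ?_⟩
    by_cases h0 : D P.1 = 0
    · show D P.1 ≤ n
      rw [h0]
      exact Int.natCast_nonneg n
    · exact (hbound D hD hdeg P.1 h0).2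
  · rintro D ⟨hD, hdeg⟩ D' ⟨hD', hdeg'⟩ hff
    ext P
    by_cases hPS : P ∈ S
    · exact congrFun hff ⟨P, hPS⟩
    · have h1 : D P = 0 := by
        by_contra h
        exact hPS (hbound D hD hdeg P h).1
      have h2 : D' P = 0 := by
        by_contra h
        exact hPS (hbound D' hD' hdeg' P h).1
      rw [h1, h2]

/-- Over a finite constant field there are finitely many effective divisors of given degree. -/
theorem finite_effective_deg_eq [Finite k] (hK : IsFunctionField k K) (n : ℕ) :
    Finite {D : Divisor k K // 0 ≤ D ∧ D.deg = n} := by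
  apply Set.Finite.to_subtype
  exact Set.Finite.subset (finite_effective_deg_le hK n) fun D hD => ⟨hD.1, hD.2.le⟩

end Groth.Agent.Lib.Helper23.FF
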