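import Mathlib
import Groth.Prelude.Def_W4bk4goldsch45
import Groth.Agent.Lib.Helper23.FFZeta2
import Groth.Agent.Lib.Helper23.FFLin1

/-!
Function fields over finite fields: the number of effective divisors in a divisor class.
-/

set_option autoImplicit false

namespace Groth.Agent.Lib.Helper23.FF

open FunFld
open scoped IntermediateField

universe u v
variable {k : Type u} {K : Type v} [Field k] [Field K] [Algebra k K]

theorem div_zero_eq : FunFld.div k (0 : K) = 0 := by
  classical
  have h0 : (fun P : Place k K => P.ord (0 : K)) = 0 := by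
    funext P
    show -WithZero.log (P.1 0) = 0
    rw [map_zero, WithZero.log_zero, neg_zero]
  ext P
  unfold FunFld.div
  split_ifs with h
  · show P.ord (0 : K) = 0
    exact congrFun h0 P
  · rfl

/-- Membership in the group of principal divisors. -/
theorem mem_prinDivs_iff (hK : IsFunctionField k K) (D : Divisor k K) :
    D ∈ prinDivs k K ↔ ∃ x : K, x ≠ 0 ∧ D = FunFld.div k x := by
  have C := Groth.Agent.Lib.Helper27.FF.core_of hK
  constructor
  · intro h
    unfold prinDivs at h
    induction h using AddSubgroup.closure_induction with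
    | mem D hD =>
      obtain ⟨x, rfl⟩ := hD
      by_cases hx : x = 0
      · exact ⟨1, one_ne_zero, by rw [hx, div_zero_eq, C.div_one]⟩
      · exact ⟨x, hx, rfl⟩
    | zero => exact ⟨1, one_ne_zero, C.div_one.symm⟩
    | add D₁ D₂ _ _ h₁ h₂ =>
      obtain ⟨x, hx, rfl⟩ := h₁
      obtain ⟨y, hy, rfl⟩ := h₂
      exact ⟨x * y, mul_ne_zero hx hy, (C.div_mul hx hy).symm⟩
    | neg D _ h₁ =>
      obtain ⟨x, hx, rfl⟩ := h₁
      exact ⟨x⁻¹, inv_ne_zero hx, (C.div_inv x).symm⟩
  · rintro ⟨x, _, rfl⟩
    exact AddSubgroup.subset_closure ⟨x, rfl⟩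

/-- Two nonzero elements with the same divisor differ by a nonzero constant. -/
theorem exists_const_of_div_eq (hK : IsFunctionField k K) {x y : K} (hx : x ≠ 0) (hy : y ≠ 0)
    (h : FunFld.div k x = FunFld.div k y) : ∃ c : kˣ, y = algebraMap k K c * x := by
  have C := Groth.Agent.Lib.Helper27.FF.core_of hK
  have hyx : y / x ≠ 0 := div_ne_zero hy hx
  have h1 : FunFld.div k (y / x) = 0 := by
    rw [div_eq_mul_inv, C.div_mul hy (inv_ne_zero hx), C.div_inv, h, add_neg_cancel]
  have h2 : y / x ∈ L (0 : Divisor k K) := mem_L_of_div_nonneg hK hyx (by rw [h1, add_zero])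
  obtain ⟨c, hc⟩ := eq_algebraMap_of_mem_L_of_ell_eq_one (le_refl (0 : Divisor k K)) C.ell_zero h2
  have hc0 : c ≠ 0 := by
    rintro rfl
    rw [map_zero] at hc
    exact hyx hc
  refine ⟨Units.mk0 c hc0, ?_⟩
  rw [Units.val_mk0, ← hc, div_mul_cancel₀ _ hx]

theorem div_const_mul (hK : IsFunctionField k K) (c : kˣ) {x : K} (hx : x ≠ 0) :
    FunFld.div k (algebraMap k K c * x) = FunFld.div k x := by
  have C := Groth.Agent.Lib.Helper27.FF.core_of hK
  have hc0 : algebraMap k K (c : k) ≠ 0 := by
    rw [Ne, map_eq_zero_iff _ (algebraMap k K).injective]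
    exact c.ne_zero
  rw [C.div_mul hc0 hx]
  have : FunFld.div k (algebraMap k K (c : k)) = 0 := by
    ext P
    rw [C.div_apply]
    show -WithZero.log (P.1 _) = 0
    have h1 : P.1 (algebraMap k K (c : k)) = 1 := by
      apply le_antisymm (P.2.1 _)
      have h2 := P.2.1 ((c : k)⁻¹)
      rw [map_inv₀, map_inv₀] at h2
      by_contra hlt
      push_neg at hlt
      have h3 : P.1 (algebraMap k K (c : k)) ≠ 0 := by
        rw [Ne, map_eq_zero]
        exact hc0
      have := (one_lt_inv₀ (zero_lt_iff.mpr h3)).mpr hlt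
      exact absurd h2 (not_le.mpr this)
    rw [h1, WithZero.log_one, neg_zero]
  rw [this, zero_add]

/-- The effective divisors linearly equivalent to `D`. -/
def linSys (D : Divisor k K) : Set (Divisor k K) :=
  {E | 0 ≤ E ∧ ∃ x : K, x ≠ 0 ∧ E = D + FunFld.div k x}

theorem card_nonzero {V : Type*} [AddCommGroup V] [Finite V] :
    Nat.card {x : V // x ≠ 0} = Nat.card V - 1 := by
  classical
  have h := Nat.card_congr (Equiv.sumCompl (· = (0 : V)))
  rw [Nat.card_sum, Nat.card_unique] at h
  have : Nat.card {x : V // x ≠ 0} = Nat.card {a : V // ¬ a = 0} := rfl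
  omega

/-- The number of effective divisors in the class of `D`. -/
theorem card_linSys [Finite k] (hK : IsFunctionField k K) (D : Divisor k K) :
    (Nat.card k - 1) * Nat.card (linSys D) = Nat.card k ^ ell D - 1 := by
  classical
  have C := Groth.Agent.Lib.Helper27.FF.core_of hK
  have : Module.Finite k ↥(L D) := C.finDimL D
  have : Finite ↥(L D) := Module.finite_of_finite k
  have hL : Nat.card ↥(L D) = Nat.card k ^ ell D := Module.natCard_eq_pow_finrank
  rw [← hL, ← Nat.card_units k, ← card_nonzero, mul_comm, ← Nat.card_prod]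
  -- choose representatives
  have hrep : ∀ E : linSys D, ∃ x : K, x ≠ 0 ∧ (E : Divisor k K) = D + FunFld.div k x :=
    fun E => E.2.2
  choose rep hrep0 hrepE using hrep
  have hrepL : ∀ E : linSys D, rep E ∈ L D := fun E =>
    mem_L_of_div_nonneg hK (hrep0 E) (by rw [← hrepE E]; exact E.2.1)
  refine Nat.card_congr (Equiv.ofBijective
    (fun p : linSys D × kˣ => (⟨⟨algebraMap k K p.2 * rep p.1, ?_⟩, ?_⟩ : {x : ↥(L D) // x ≠ 0}))
    ⟨?_, ?_⟩)
  · rw [← Algebra.smul_def]
    exact (L D).smul_mem _ (hrepL p.1)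
  · intro h
    have h1 := congrArg Subtype.val h
    have h2 : algebraMap k K (p.2 : k) * rep p.1 = 0 := h1
    rcases mul_eq_zero.mp h2 with h3 | h3
    · rw [map_eq_zero_iff _ (algebraMap k K).injective] at h3
      exact p.2.ne_zero h3
    · exact hrep0 p.1 h3
  · rintro ⟨E, c⟩ ⟨E', c'⟩ h
    have h1 : algebraMap k K (c : k) * rep E = algebraMap k K (c' : k) * rep E' := by
      have := congrArg (fun z : {x : ↥(L D) // x ≠ 0} => ((z : ↥(L D)) : K)) h
      exact this
    have h2 : FunFld.div k (rep E) = FunFld.div k (rep E') := by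
      rw [← div_const_mul hK c (hrep0 E), h1, div_const_mul hK c' (hrep0 E')]
    have hEE : E = E' := by
      apply Subtype.ext
      rw [hrepE E, hrepE E', h2]
    subst hEE
    have h3 : algebraMap k K (c : k) = algebraMap k K (c' : k) :=
      mul_right_cancel₀ (hrep0 E) h1
    have h4 : (c : k) = c' := (algebraMap k K).injective h3
    rw [Units.ext h4]
  · rintro ⟨⟨x, hxL⟩, hx0⟩
    have hx0' : x ≠ 0 := fun h => hx0 (Subtype.ext h)
    have hE : D + FunFld.div k x ∈ linSys D := ⟨C.le_div_of_mem_L hx0' hxL, x, hx0', rfl⟩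
    have h1 : FunFld.div k (rep ⟨_, hE⟩) = FunFld.div k x := by
      have := hrepE ⟨_, hE⟩
      exact (add_left_cancel this).symm
    obtain ⟨c, hc⟩ := exists_const_of_div_eq hK (hrep0 ⟨_, hE⟩) hx0' h1
    refine ⟨(⟨_, hE⟩, c), ?_⟩
    apply Subtype.ext
    apply Subtype.ext
    exact hc.symm

end Groth.Agent.Lib.Helper23.FF
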