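import Mathlib
import Groth.Prelude.Def_W4bk4goldsch45
import Groth.Agent.Lib.Helper23.FFZeta3

/-!
Function fields over finite fields: finiteness of the class number, and the number of effective
divisors of large degree.
-/

set_option autoImplicit false

namespace Groth.Agent.Lib.Helper23.FF

open FunFld
open scoped IntermediateField

universe u v
variable {k : Type u} {K : Type v} [Field k] [Field K] [Algebra k K]

theorem prelude_degHom_apply (D : Divisor k K) : FunFld.degHom k K D = D.deg := by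
  unfold FunFld.degHom Divisor.deg
  rw [Finsupp.liftAddHom_apply]
  rfl

variable (k K) in
/-- The group of degree-zero divisor classes. -/
abbrev Cl0 : Type _ := (FunFld.degHom k K).ker ⧸ (prinDivs k K).addSubgroupOf (FunFld.degHom k K).ker

/-- The class of `E - D₀`, for `E` effective of the same degree as `D₀`. -/
noncomputable def classMap (D₀ : Divisor k K) (n : ℕ) (h₀ : D₀.deg = n) :
    {D : Divisor k K // 0 ≤ D ∧ D.deg = n} → Cl0 k K :=
  fun E => QuotientAddGroup.mk ⟨E.1 - D₀, by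
    rw [AddMonoidHom.mem_ker, prelude_degHom_apply, Groth.Agent.Lib.Helper27.FF.deg_sub, E.2.2, h₀,
      sub_self]⟩

theorem classMap_eq_iff (hK : IsFunctionField k K) (D₀ : Divisor k K) (n : ℕ) (h₀ : D₀.deg = n)
    (E : {D : Divisor k K // 0 ≤ D ∧ D.deg = n}) (C : (FunFld.degHom k K).ker) :
    classMap D₀ n h₀ E = QuotientAddGroup.mk C ↔ E.1 ∈ linSys (D₀ + C.1) := by
  have CC := Groth.Agent.Lib.Helper27.FF.core_of hK
  unfold classMap
  rw [QuotientAddGroup.eq, AddSubgroup.mem_addSubgroupOf]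
  rw [mem_prinDivs_iff hK]
  show (∃ x : K, x ≠ 0 ∧ -(E.1 - D₀) + C.1 = FunFld.div k x) ↔ _
  constructor
  · rintro ⟨x, hx, hxe⟩
    refine ⟨E.2.1, x⁻¹, inv_ne_zero hx, ?_⟩
    rw [CC.div_inv, ← hxe]
    abel
  · rintro ⟨_, x, hx, hxe⟩
    refine ⟨x⁻¹, inv_ne_zero hx, ?_⟩
    rw [CC.div_inv, hxe]
    abel

/-- Every class contains an effective divisor once the degree is large. -/
theorem classMap_surjective (hK : IsFunctionField k K) (D₀ : Divisor k K) (n : ℕ)
    (h₀ : D₀.deg = n) (hn : genus k K ≤ n) : Function.Surjective (classMap D₀ n h₀) := by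
  have CC := Groth.Agent.Lib.Helper27.FF.core_of hK
  intro c
  obtain ⟨C, rfl⟩ := QuotientAddGroup.mk_surjective c
  have hC : C.1.deg = 0 := by
    have := C.2
    rwa [AddMonoidHom.mem_ker, prelude_degHom_apply] at this
  have hdeg : (D₀ + C.1).deg = n := by
    rw [Groth.Agent.Lib.Helper27.FF.deg_add, h₀, hC, add_zero]
  have hell : 0 < ell (D₀ + C.1) := by
    have h1 := CC.riemann.1 (D₀ + C.1)
    rw [hdeg] at h1
    have h2 : (0 : ℤ) < ell (D₀ + C.1) := by
      have : (genus k K : ℤ) ≤ n := by exact_mod_cast hn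
      linarith
    exact_mod_cast h2
  obtain ⟨x, hx0, hxL⟩ := CC.exists_ne_zero_of_ell_pos hell
  have hE0 : 0 ≤ D₀ + C.1 + FunFld.div k x := CC.le_div_of_mem_L hx0 hxL
  have hEdeg : (D₀ + C.1 + FunFld.div k x).deg = n := by
    rw [Groth.Agent.Lib.Helper27.FF.deg_add, hdeg, CC.deg_div, add_zero]
  refine ⟨⟨D₀ + C.1 + FunFld.div k x, hE0, hEdeg⟩, ?_⟩
  rw [classMap_eq_iff hK]
  exact ⟨hE0, x, hx0, rfl⟩

/-- The class number of a function field over a finite field is finite. -/
theorem finite_Cl0 [Finite k] (hK : IsFunctionField k K) : Finite (Cl0 k K) := by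
  have CC := Groth.Agent.Lib.Helper27.FF.core_of hK
  obtain ⟨P₀⟩ := CC.exists_place
  set D₀ : Divisor k K := Finsupp.single P₀ ((genus k K : ℤ)) with hD₀
  have h₀ : D₀.deg = ((genus k K * P₀.deg : ℕ) : ℤ) := by
    rw [hD₀, Groth.Agent.Lib.Helper27.FF.deg_single]
    push_cast
    ring
  have hn : genus k K ≤ genus k K * P₀.deg := Nat.le_mul_of_pos_right _ (CC.one_le_deg P₀)
  haveI := finite_effective_deg_eq hK (genus k K * P₀.deg)
  exact Finite.of_surjective _ (classMap_surjective hK D₀ _ h₀ hn)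

/-- The number of effective divisors of degree `n ≥ 2g - 1`, when some divisor has degree `n`. -/
theorem card_effective_eq [Finite k] (hK : IsFunctionField k K) (n : ℕ)
    (hn : 2 * genus k K ≤ n + 1) (D₀ : Divisor k K) (h₀ : D₀.deg = n) :
    (Nat.card k - 1) * Nat.card {D : Divisor k K // 0 ≤ D ∧ D.deg = n}
      = Nat.card (Cl0 k K) * (Nat.card k ^ (n + 1 - genus k K) - 1) := by
  classical
  have CC := Groth.Agent.Lib.Helper27.FF.core_of hK
  haveI := finite_Cl0 (k := k) hK
  haveI := finite_effective_deg_eq hK n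
  letI : Fintype (Cl0 k K) := Fintype.ofFinite _
  have hfib : ∀ c : Cl0 k K,
      (Nat.card k - 1) * Nat.card {E : {D : Divisor k K // 0 ≤ D ∧ D.deg = n} //
        classMap D₀ n h₀ E = c} = Nat.card k ^ (n + 1 - genus k K) - 1 := by
    intro c
    obtain ⟨C, rfl⟩ := QuotientAddGroup.mk_surjective c
    have hC : C.1.deg = 0 := by
      have := C.2
      rwa [AddMonoidHom.mem_ker, prelude_degHom_apply] at this
    have hdeg : (D₀ + C.1).deg = n := by
      rw [Groth.Agent.Lib.Helper27.FF.deg_add, h₀, hC, add_zero]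
    have hell : ell (D₀ + C.1) = n + 1 - genus k K := by
      have h1 := CC.ell_eq_of_deg_ge (D := D₀ + C.1) (by rw [hdeg]; push_cast; omega)
      rw [hdeg] at h1
      omega
    rw [← hell, ← card_linSys hK (D₀ + C.1)]
    congr 1
    refine Nat.card_congr ⟨fun E => ⟨E.1.1, (classMap_eq_iff hK D₀ n h₀ E.1 C).mp E.2⟩,
      fun E' => ⟨⟨E'.1, E'.2.1, ?_⟩, ?_⟩, ?_, ?_⟩
    · obtain ⟨x, _, hxe⟩ := E'.2.2
      rw [hxe, Groth.Agent.Lib.Helper27.FF.deg_add, hdeg, CC.deg_div, add_zero]
    · rw [classMap_eq_iff hK]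
      exact E'.2
    · intro E
      rfl
    · intro E'
      rfl
  rw [Nat.card_congr (Equiv.sigmaFiberEquiv (classMap D₀ n h₀)).symm, Nat.card_sigma,
    Finset.mul_sum, Finset.sum_congr rfl (fun c _ => hfib c), Finset.sum_const, Finset.card_univ,
    smul_eq_mul, ← Nat.card_eq_fintype_card]

end Groth.Agent.Lib.Helper23.FF
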