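import Mathlib
import Groth.Prelude.Def_W4bk4goldsch45
import Groth.Agent.Lib.Helper23.FFBom2
import Groth.Agent.Lib.Helper23.FFZeta4
import Groth.Agent.Lib.Helper23.FFEmb1

/-!
Bombieri's argument: counting zeros, stability of `L(nP)` under the twist, existence of a kernel
element.
-/

set_option autoImplicit false

namespace Groth.Agent.Lib.Helper23.FF

open FunFld
open Groth.Agent.Lib.Helper27.FF

universe u v
variable {k : Type u} {K : Type v} [Field k] [Field K] [Algebra k K]

/-- The degree of a sum of distinct places. -/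
theorem deg_sum_single (T : Finset (Place k K)) :
    Divisor.deg (∑ P ∈ T, (Finsupp.single P (1 : ℤ) : Divisor k K)) = ∑ P ∈ T, (P.deg : ℤ) := by
  rw [← prelude_degHom_apply, map_sum]
  apply Finset.sum_congr rfl
  intro P _
  rw [prelude_degHom_apply, deg_single, one_mul]

open scoped Classical in
theorem sum_single_apply (T : Finset (Place k K)) (R : Place k K) :
    (∑ P ∈ T, (Finsupp.single P (1 : ℤ) : Divisor k K)) R = if R ∈ T then 1 else 0 := by
  rw [Finsupp.finsetSum_apply]
  simp only [Finsupp.single_apply]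
  rw [Finset.sum_ite_eq']

/-- A nonzero function with poles only at `P∞`, of order at most `N`, has at most `N` rational
zeros. -/
theorem card_le_of_zeros (hK : IsFunctionField k K) (Pinf : Place k K) (hPinf : Pinf.deg = 1)
    (N : ℕ) {x : K} (hx0 : x ≠ 0) (hx : x ∈ L (Finsupp.single Pinf (N : ℤ)))
    (T : Finset (Place k K)) (hT : ∀ P ∈ T, P ≠ Pinf ∧ P.deg = 1 ∧ P.1 x < 1) :
    T.card ≤ N := by
  classical
  have C := core_of hK
  set D : Divisor k K := Finsupp.single Pinf (N : ℤ) - ∑ P ∈ T, Finsupp.single P (1 : ℤ) with hD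
  have hxD : x ∈ L D := by
    intro R
    rw [hD, Finsupp.sub_apply, sum_single_apply]
    by_cases hRT : R ∈ T
    · obtain ⟨hne, _, hlt⟩ := hT R hRT
      rw [if_pos hRT, Finsupp.single_apply, if_neg (Ne.symm hne), zero_sub]
      have hlt' : R.1 x < WithZero.exp (0 : ℤ) := by rw [WithZero.exp_zero]; exact hlt
      rw [lt_exp_iff_le_exp_sub_one] at hlt'
      simpa using hlt'
    · rw [if_neg hRT, sub_zero]
      exact hx R
  have hdeg : D.deg = (N : ℤ) - T.card := by
    rw [hD, deg_sub, deg_single, hPinf, deg_sum_single]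
    have : ∑ P ∈ T, (P.deg : ℤ) = ∑ _P ∈ T, (1 : ℤ) := by
      apply Finset.sum_congr rfl
      intro P hP
      rw [(hT P hP).2.1]
      rfl
    rw [this, Finset.sum_const]
    simp
  by_contra hlt
  rw [not_le] at hlt
  have hneg : D.deg < 0 := by
    rw [hdeg]
    have : (N : ℤ) < T.card := by exact_mod_cast hlt
    linarith
  have := C.L_neg D hneg
  rw [this, Submodule.mem_bot] at hxD
  exact hx0 hxD

/-- A twist fixing the place `P∞` maps `L(n P∞)` into itself. -/
theorem theta_mem_L (θ : K ≃+* K) (Q : ℕ)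
    (hθ : ∀ c : k, θ (algebraMap k K c) = algebraMap k K (c ^ Q))
    (Pinf : Place k K) (hPθ : ∀ z : K, Pinf.1 (θ z) = Pinf.1 z) (n : ℕ) {z : K}
    (hz : z ∈ L (Finsupp.single Pinf (n : ℤ))) : θ z ∈ L (Finsupp.single Pinf (n : ℤ)) := by
  classical
  intro R
  let R' : Place k K := ⟨R.1.comap (θ : K →+* K), fun c => by
    show R.1 (θ (algebraMap k K c)) ≤ 1
    rw [hθ]
    exact R.2.1 _, fun γ => by
    obtain ⟨y, hy⟩ := R.2.2 γ
    refine ⟨θ.symm y, ?_⟩
    show R.1 (θ (θ.symm y)) = γ
    rw [θ.apply_symm_apply, hy]⟩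
  have h1 : R.1 (θ z) = R'.1 z := rfl
  have h2 := hz R'
  rw [h1]
  by_cases hR' : R' = Pinf
  · have hR : R = Pinf := by
      apply Subtype.ext
      ext y
      have h3 : R.1 y = R'.1 (θ.symm y) := by
        show R.1 y = R.1 (θ (θ.symm y))
        rw [θ.apply_symm_apply]
      rw [h3, hR', ← hPθ, θ.apply_symm_apply]
    rw [hR'] at h2 ⊢
    rw [hR]
    exact h2
  · rw [Finsupp.single_apply, if_neg (Ne.symm hR')] at h2
    refine h2.trans ?_
    rw [WithZero.exp_le_exp, Finsupp.single_apply]
    split_ifs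
    · exact Int.natCast_nonneg n
    · exact le_refl _

/-- An additive map between finite groups with a larger source has a nonzero kernel element. -/
theorem exists_ne_zero_map_eq_zero {A B : Type*} [AddCommGroup A] [AddCommGroup B] [Finite A]
    [Finite B] (f : A →+ B) (h : Nat.card B < Nat.card A) : ∃ a : A, a ≠ 0 ∧ f a = 0 := by
  have hninj : ¬ Function.Injective f := fun hinj =>
    absurd (Nat.card_le_card_of_injective f hinj) (not_le.mpr h)
  rw [Function.Injective] at hninj
  push Not at hninj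
  obtain ⟨a, b, hab, hne⟩ := hninj
  exact ⟨a - b, sub_ne_zero.mpr hne, by rw [map_sub, hab, sub_self]⟩

end Groth.Agent.Lib.Helper23.FF
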