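import Mathlib
import Groth.Prelude.Def_W4bk4goldsch45
import Groth.Agent.Lib.Helper23.FFBom3

/-!
**Bombieri's upper bound**, twisted by a Frobenius-semilinear automorphism.
-/

set_option autoImplicit false

namespace Groth.Agent.Lib.Helper23.FF

open FunFld
open Groth.Agent.Lib.Helper27.FF

universe u v
variable {k : Type u} {K : Type v} [Field k] [Field K] [Algebra k K]

/-- Bombieri's auxiliary function. -/
theorem exists_bombieri_function [Finite k] (hK : IsFunctionField k K) (p a : ℕ)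
    [hp : Fact p.Prime] [CharP K p] (θ : K ≃+* K)
    (hθ : ∀ c : k, θ (algebraMap k K c) = algebraMap k K (c ^ ((p ^ a) ^ 2)))
    (hg : (genus k K + 1) ^ 2 < p ^ a)
    (Pinf : Place k K) (hP1 : Pinf.deg = 1) (hPθ : ∀ z : K, Pinf.1 (θ z) = Pinf.1 z) :
    ∃ x : K, x ≠ 0 ∧
      x ∈ L (Finsupp.single Pinf ((p ^ a - 1 + p ^ a * (2 * genus k K + p ^ a) : ℕ) : ℤ)) ∧
      ∀ P : Place k K, P ≠ Pinf → P.deg = 1 → (∀ z : K, P.1 (θ z) = P.1 z) → P.1 x < 1 := by
  classical
  have C := core_of hK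
  obtain ⟨g, hgdef⟩ : ∃ g, g = genus k K := ⟨_, rfl⟩
  obtain ⟨q₀, hq₀⟩ : ∃ q₀, q₀ = p ^ a := ⟨_, rfl⟩
  rw [← hgdef, ← hq₀] at hg ⊢
  have hq₀1 : 1 ≤ q₀ := by rw [hq₀]; exact Nat.one_le_pow _ _ hp.out.pos
  have hq₀g : g + 1 < q₀ := by
    have : g + 1 ≤ (g + 1) ^ 2 := Nat.le_self_pow (by norm_num) _
    omega
  -- pole numbers
  let H : ℕ → Prop := fun j => IsPoleNumber Pinf (j : ℤ)
  let J : Finset ℕ := (Finset.range q₀).filter H
  have hJcard : q₀ ≤ J.card + g := by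
    have h1 : J.card + (gapsLE H (q₀ - 1)).card = q₀ := by
      have h := Finset.card_filter_add_card_filter_not (s := Finset.range q₀) H
      rw [Finset.card_range] at h
      have h3 : gapsLE H (q₀ - 1) = (Finset.range q₀).filter (fun j => ¬ H j) := by
        unfold gapsLE
        have : q₀ - 1 + 1 = q₀ := Nat.sub_add_cancel hq₀1
        rw [this]
      rw [h3]; exact h
    have h2 : (gapsLE H (q₀ - 1)).card ≤ g := by
      rw [hgdef]
      exact card_gaps_le_genus hK Pinf hP1 (q₀ - 1)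
    omega
  have hJlt : ∀ j ∈ J, j < q₀ := fun j hj => Finset.mem_range.mp (Finset.mem_filter.mp hj).1
  -- the functions `u_j`
  have hex : ∀ j : ℕ, H j → ∃ f : K, f ≠ 0 ∧ f ∈ L (Finsupp.single Pinf (j : ℤ)) ∧
      Pinf.ord f = -(j : ℤ) := fun j hj => hj
  let u : ℕ → K := fun j => if h : H j then Classical.choose (hex j h) else 0
  have huspec : ∀ j ∈ J, u j ≠ 0 ∧ u j ∈ L (Finsupp.single Pinf (j : ℤ)) ∧
      Pinf.ord (u j) = -(j : ℤ) := by
    intro j hj
    have hj2 : H j := (Finset.mem_filter.mp hj).2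
    have : u j = Classical.choose (hex j hj2) := dif_pos hj2
    rw [this]
    exact Classical.choose_spec (hex j hj2)
  have hum : ∀ j ∈ J, u j ∈ L (Finsupp.single Pinf ((q₀ - 1 : ℕ) : ℤ)) := by
    intro j hj
    refine L_mono ?_ (huspec j hj).2.1
    rw [Finsupp.single_le_single]
    have := hJlt j hj
    omega
  -- the spaces
  obtain ⟨n', hn'⟩ : ∃ n', n' = 2 * g + q₀ := ⟨_, rfl⟩
  obtain ⟨N, hN⟩ : ∃ N, N = q₀ * (q₀ - 1) + n' := ⟨_, rfl⟩
  let Ln : Submodule k K := L (Finsupp.single Pinf (n' : ℤ))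
  let Lbig : Submodule k K := L (Finsupp.single Pinf (N : ℤ))
  haveI : FiniteDimensional k Ln := C.finDimL _
  haveI : FiniteDimensional k Lbig := C.finDimL _
  have hell : ∀ n : ℕ, 2 * g ≤ n + 1 →
      Module.finrank k (L (Finsupp.single Pinf (n : ℤ))) + g = n + 1 := by
    intro n hn
    have h1 := C.ell_eq_of_deg_ge (D := (Finsupp.single Pinf (n : ℤ) : Divisor k K))
      (by rw [deg_single, hP1, ← hgdef]; push_cast; omega)
    rw [deg_single, hP1, ← hgdef] at h1
    unfold ell at h1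
    push_cast at h1
    omega
  have hmemf : ∀ (z : ↥J → ↥Ln), (∑ j : ↥J, u j ^ q₀ * θ (z j : K)) ∈ Lbig := by
    intro z
    apply Submodule.sum_mem
    intro j _
    have h1 : u j ^ q₀ ∈ L (q₀ • (Finsupp.single Pinf ((q₀ - 1 : ℕ) : ℤ) : Divisor k K)) :=
      pow_mem_L_nsmul (hum j j.2) q₀
    have h2 : θ (z j : K) ∈ L (Finsupp.single Pinf (n' : ℤ)) :=
      theta_mem_L θ _ hθ Pinf hPθ n' (z j).2
    have h3 := mul_mem_L_add h1 h2
    have h4 : q₀ • (Finsupp.single Pinf ((q₀ - 1 : ℕ) : ℤ) : Divisor k K) +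
        Finsupp.single Pinf (n' : ℤ) = Finsupp.single Pinf (N : ℤ) := by
      rw [Finsupp.smul_single, ← Finsupp.single_add, hN, nsmul_eq_mul]
      push_cast
      rfl
    rw [h4] at h3
    exact h3
  let f : (↥J → ↥Ln) →+ ↥Lbig :=
    { toFun := fun z => ⟨∑ j : ↥J, u j ^ q₀ * θ (z j : K), hmemf z⟩
      map_zero' := by
        apply Subtype.ext
        simp
      map_add' := by
        intro z w
        apply Subtype.ext
        simp [mul_add, Finset.sum_add_distrib] }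
  haveI : Finite ↥Ln := Module.finite_of_finite k
  haveI : Finite ↥Lbig := Module.finite_of_finite k
  have hcard : Nat.card ↥Lbig < Nat.card (↥J → ↥Ln) := by
    rw [Nat.card_fun, Module.natCard_eq_pow_finrank (K := k) (V := ↥Ln),
      Module.natCard_eq_pow_finrank (K := k) (V := ↥Lbig), ← pow_mul, Nat.card_eq_fintype_card (α := ↥J),
      Fintype.card_coe]
    apply Nat.pow_lt_pow_right Finite.one_lt_card
    have e1 := hell n' (by omega)
    have e2 := hell N (by omega)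
    have hqq : q₀ * (q₀ - 1) + q₀ = q₀ * q₀ := by
      rw [Nat.mul_sub_one, Nat.sub_add_cancel (Nat.le_mul_self q₀)]
    have e1' : Module.finrank k ↥Ln = g + q₀ + 1 := by
      show Module.finrank k (L (Finsupp.single Pinf (n' : ℤ))) = _
      omega
    have e2' : Module.finrank k ↥Lbig = q₀ * q₀ + g + 1 := by
      show Module.finrank k (L (Finsupp.single Pinf (N : ℤ))) = _
      omega
    rw [e1', e2']
    obtain ⟨d, hd⟩ : ∃ d, q₀ = g + d := ⟨q₀ - g, by omega⟩
    have hJd : d ≤ J.card := by omega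
    have key : (g + q₀ + 1) * d ≤ (g + q₀ + 1) * J.card := Nat.mul_le_mul_left _ hJd
    refine lt_of_lt_of_le ?_ key
    rw [hd] at hg ⊢
    nlinarith
  obtain ⟨z, hz0, hfz⟩ := exists_ne_zero_map_eq_zero f hcard
  let z' : ℕ → K := fun j => if h : j ∈ J then (z ⟨j, h⟩ : K) else 0
  have hz'eq : ∀ j : ↥J, z' j = (z j : K) := fun j => dif_pos j.2
  have hz'mem : ∀ j ∈ J, z' j ∈ L (Finsupp.single Pinf (n' : ℤ)) := by
    intro j hj
    rw [hz'eq ⟨j, hj⟩]
    exact (z ⟨j, hj⟩).2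
  have hz'ne : ∃ j ∈ J, z' j ≠ 0 := by
    obtain ⟨j, hj⟩ := Function.ne_iff.mp hz0
    refine ⟨j, j.2, ?_⟩
    rw [hz'eq j]
    intro h
    apply hj
    apply Subtype.ext
    rw [h]
    rfl
  have hB : ∑ j ∈ J, u j ^ q₀ * θ (z' j) = 0 := by
    rw [← Finset.sum_coe_sort J (fun j => u j ^ q₀ * θ (z' j))]
    have h1 : ((f z : ↥Lbig) : K) = ∑ j : ↥J, u j ^ q₀ * θ (z j : K) := rfl
    rw [hfz] at h1
    rw [show ((0 : ↥Lbig) : K) = 0 from rfl] at h1
    rw [h1]
    apply Finset.sum_congr rfl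
    intro j _
    rw [hz'eq j]
  refine ⟨∑ j ∈ J, u j * z' j ^ q₀, ?_, ?_, ?_⟩
  · exact sum_ne_zero_of_ord_distinct Pinf q₀ J hJlt u z'
      (fun j hj => ⟨(huspec j hj).1, (huspec j hj).2.2⟩) hz'ne
  · apply Submodule.sum_mem
    intro j hj
    have h1 : z' j ^ q₀ ∈ L (q₀ • (Finsupp.single Pinf (n' : ℤ) : Divisor k K)) :=
      pow_mem_L_nsmul (hz'mem j hj) q₀
    have h3 := mul_mem_L_add (hum j hj) h1
    have h4 : (Finsupp.single Pinf ((q₀ - 1 : ℕ) : ℤ) : Divisor k K) +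
        q₀ • (Finsupp.single Pinf (n' : ℤ) : Divisor k K) =
        Finsupp.single Pinf ((q₀ - 1 + q₀ * (2 * g + q₀) : ℕ) : ℤ) := by
      rw [Finsupp.smul_single, ← Finsupp.single_add, hn', nsmul_eq_mul]
      push_cast
      rfl
    rw [h4] at h3
    exact h3
  · intro P hPne hPdeg hPfix
    have hu : ∀ j ∈ J, P.1 (u j) ≤ 1 := by
      intro j hj
      have := hum j hj P
      rw [Finsupp.single_apply, if_neg (Ne.symm hPne), WithZero.exp_zero] at this
      exact this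
    have hz : ∀ j ∈ J, P.1 (z' j) ≤ 1 := by
      intro j hj
      have := hz'mem j hj P
      rw [Finsupp.single_apply, if_neg (Ne.symm hPne), WithZero.exp_zero] at this
      exact this
    subst hq₀
    exact val_sum_lt_one_of_fixed p a θ hθ P hPdeg hPfix J u z' hu hz hB

/-- Let `θ` be an automorphism of `K` acting on the constants as `c ↦ c^Q`, `Q = q₀²`, `q₀ = p^a`
a power of the characteristic with `q₀ > (g+1)²`. Then at most `Q + (2g+1) q₀` places of degree
one are fixed by `θ`. -/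
theorem bombieri_twisted [Finite k] (hK : IsFunctionField k K) (p a : ℕ) [hp : Fact p.Prime]
    [CharP K p] (θ : K ≃+* K)
    (hθ : ∀ c : k, θ (algebraMap k K c) = algebraMap k K (c ^ ((p ^ a) ^ 2)))
    (hg : (genus k K + 1) ^ 2 < p ^ a)
    (T : Finset (Place k K)) (hT : ∀ P ∈ T, P.deg = 1 ∧ ∀ z : K, P.1 (θ z) = P.1 z) :
    T.card ≤ (p ^ a) ^ 2 + (2 * genus k K + 1) * p ^ a := by
  classical
  rcases T.eq_empty_or_nonempty with hemp | ⟨Pinf, hPinfT⟩
  · rw [hemp, Finset.card_empty]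
    exact Nat.zero_le _
  obtain ⟨hP1, hPθ⟩ := hT Pinf hPinfT
  obtain ⟨x, hx0, hx, hzero⟩ := exists_bombieri_function hK p a θ hθ hg Pinf hP1 hPθ
  have h1 := card_le_of_zeros hK Pinf hP1 _ hx0 hx (T.erase Pinf) (by
    intro P hP
    rw [Finset.mem_erase] at hP
    exact ⟨hP.1, (hT P hP.2).1, hzero P hP.1 (hT P hP.2).1 (hT P hP.2).2⟩)
  rw [Finset.card_erase_of_mem hPinfT] at h1
  have hq₀1 : 1 ≤ p ^ a := Nat.one_le_pow _ _ hp.out.pos
  have h2 : T.card ≤ p ^ a + p ^ a * (2 * genus k K + p ^ a) := by omega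
  refine h2.trans (le_of_eq ?_)
  ring

end Groth.Agent.Lib.Helper23.FF
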