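import Mathlib

/-!
Finite fields: roots of `X^(q^r) - X` in an extension of degree divisible by `r`.
-/

set_option autoImplicit false

namespace Groth.Agent.Lib.Helper23.FF

open Polynomial

/-- In a finite extension `κ` of a finite field `k` with `q` elements, of degree divisible by `r`,
there are `q ^ r` distinct solutions of `x ^ (q ^ r) = x`. -/
theorem exists_finset_pow_card_pow_eq {k κ : Type*} [Field k] [Finite k] [Field κ] [Algebra k κ]
    [Finite κ] {r : ℕ} (hr0 : r ≠ 0) (hr : r ∣ Module.finrank k κ) :
    ∃ S : Finset κ, S.card = Nat.card k ^ r ∧ ∀ x ∈ S, x ^ (Nat.card k ^ r) = x := by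
  classical
  letI := Fintype.ofFinite κ
  letI := Fintype.ofFinite k
  obtain ⟨p, hp⟩ := CharP.exists k
  haveI : Fact p.Prime := ⟨CharP.char_is_prime k p⟩
  haveI : CharP κ p := charP_of_injective_algebraMap (algebraMap k κ).injective p
  set q := Nat.card k with hq
  have hq1 : 1 < q := Finite.one_lt_card
  obtain ⟨a, hpa, hqa⟩ := FiniteField.card k p
  have hqp : p ∣ q ^ r := by
    rw [hq, Nat.card_eq_fintype_card, hqa]
    exact dvd_pow (dvd_pow_self p a.ne_zero) hr0
  set g : κ[X] := X ^ (q ^ r) - X with hg
  have hsep : g.Separable := galois_poly_separable p (q ^ r) hqp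
  have hcard : Fintype.card κ = q ^ Module.finrank k κ := by
    rw [hq, Nat.card_eq_fintype_card]
    exact Module.card_eq_pow_finrank
  have hdvd : g ∣ (X ^ Fintype.card κ - X : κ[X]) := by
    rw [hcard, hg]
    exact dvd_pow_pow_sub_self_of_dvd hr
  have hsplit0 : (X ^ Fintype.card κ - X : κ[X]).Splits := by
    have := (FiniteField.isSplittingField_sub κ κ).splits
    simpa using this
  have hne : (X ^ Fintype.card κ - X : κ[X]) ≠ 0 :=
    FiniteField.X_pow_card_sub_X_ne_zero κ Fintype.one_lt_card
  have hsplit : (g.map (algebraMap κ κ)).Splits := by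
    rw [Algebra.algebraMap_self, Polynomial.map_id]
    exact hsplit0.of_dvd hne hdvd
  have hdeg : g.natDegree = q ^ r :=
    FiniteField.X_pow_card_pow_sub_X_natDegree_eq κ hr0 hq1
  have hcardroots := card_rootSet_eq_natDegree hsep hsplit
  rw [hdeg] at hcardroots
  refine ⟨(g.rootSet κ).toFinset, ?_, ?_⟩
  · rw [Set.toFinset_card]
    convert hcardroots
  · intro x hx
    rw [Set.mem_toFinset, mem_rootSet] at hx
    have h2 := hx.2
    rw [hg, map_sub, map_pow, aeval_X, sub_eq_zero] at h2
    exact h2

end Groth.Agent.Lib.Helper23.FF
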