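import Mathlib
import Groth.Prelude.Def_W4bk4goldsch45
import Groth.Agent.Lib.Helper23.FFKS1
import Groth.Agent.Lib.Helper23.FF1
import Groth.Agent.Lib.Helper27.FFExt8

/-!
Constant field extensions of function fields over finite fields: places of degree divisible by `r`
split completely in the extension generated by the roots of `X^(q^r) - X`.
-/

set_option autoImplicit false

namespace Groth.Agent.Lib.Helper23.FF

open FunFld Polynomial
open Groth.Agent.Lib.Helper27.FF

universe u v w
variable {k : Type u} {K : Type v} {K' : Type w} [Field k] [Field K] [Field K'] [Algebra k K]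
  [Algebra K K'] [Algebra k K'] [IsScalarTower k K K']

/-- A nonzero element algebraic over the constants is a unit at every place. -/
theorem val_eq_one_of_isAlgebraic' (Q : Place k K') {δ : K'} (hδ : IsAlgebraic k δ) (h0 : δ ≠ 0) :
    Q.1 δ = 1 := by
  have h1 : Q.1 δ ≤ 1 := val_le_one_of_isIntegral (R := k) Q.1 Q.2.1 hδ.isIntegral
  have h2 : Q.1 δ⁻¹ ≤ 1 := val_le_one_of_isIntegral (R := k) Q.1 Q.2.1 hδ.inv.isIntegral
  rw [map_inv₀] at h2
  have hpos : 0 < Q.1 δ := by
    rw [zero_lt_iff, Valuation.ne_zero_iff]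
    exact h0
  have h3 : 1 ≤ Q.1 δ := (inv_le_one₀ hpos).mp h2
  exact le_antisymm h1 h3

/-- A solution of `θ ^ N = θ` (`N ≥ 2`) is algebraic over the constants. -/
theorem isAlgebraic_of_pow_eq {N : ℕ} (hN : 1 < N) {θ : K'} (hθ : θ ^ N = θ) : IsAlgebraic k θ := by
  refine ⟨X ^ N - X, FiniteField.X_pow_card_sub_X_ne_zero k hN, ?_⟩
  rw [map_sub, map_pow, aeval_X, hθ, sub_self]

theorem val_le_one_of_pow_eq (Q : Place k K') {N : ℕ} (hN : 1 < N) {θ : K'} (hθ : θ ^ N = θ) :
    Q.1 θ ≤ 1 :=
  val_le_one_of_isIntegral (R := k) Q.1 Q.2.1 (isAlgebraic_of_pow_eq (k := k) hN hθ).isIntegral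

/-- Every solution of `θ ^ (q^r) = θ` in `K'` is congruent modulo `Q` to an element of `O_P`, when
`r` divides the degree of `P`. -/
theorem exists_congr_of_pow_eq [Finite k] (hK : IsFunctionField k K) {r : ℕ} (hr0 : r ≠ 0)
    (hsplit : ((X ^ (Nat.card k ^ r) - X : K[X]).map (algebraMap K K')).Splits)
    {P : Place k K} (hrP : r ∣ P.deg) {Q : Place k K'} {e : ℕ} (hQP : IsOverWith Q P e)
    {θ : K'} (hθ : θ ^ (Nat.card k ^ r) = θ) :
    ∃ a : K, Q.1 (θ - algebraMap K K' a) < 1 := by
  classical
  set N := Nat.card k ^ r with hN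
  have hq1 : 1 < Nat.card k := Finite.one_lt_card
  have hN1 : 1 < N := Nat.one_lt_pow hr0 hq1
  have he1 : 1 ≤ e := isOverWith_pos hQP
  have hfd : Module.Finite k (IsLocalRing.ResidueField P.O) := finiteDimensional_residueField hK P
  haveI : Finite (IsLocalRing.ResidueField P.O) := Module.finite_of_finite k
  obtain ⟨S, hScard, hS⟩ := exists_finset_pow_card_pow_eq (k := k)
    (κ := IsLocalRing.ResidueField P.O) hr0 hrP
  -- lifts
  have hlift : ∀ x : IsLocalRing.ResidueField P.O, ∃ a : P.O, IsLocalRing.residue P.O a = x :=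
    fun x => IsLocalRing.residue_surjective x
  choose lift hlift' using hlift
  -- the polynomial over K'
  set g : K'[X] := X ^ N - X with hg
  have hgmap : (X ^ N - X : K[X]).map (algebraMap K K') = g := by
    rw [Polynomial.map_sub, Polynomial.map_pow, map_X]
  rw [hgmap] at hsplit
  have hgne : g ≠ 0 := FiniteField.X_pow_card_sub_X_ne_zero K' hN1
  have hgmonic : g.Monic := by
    rw [hg]
    exact monic_X_pow_sub (by rw [degree_X]; exact_mod_cast hN1)
  have hgdeg : g.natDegree = N := FiniteField.X_pow_card_sub_X_natDegree_eq K' hN1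
  have hprod : g = (g.roots.map fun a => X - C a).prod := by
    have := hsplit.eq_prod_roots
    rw [hgmonic.leadingCoeff, C_1, one_mul] at this
    exact this
  -- each root has valuation ≤ 1
  have hroot_le : ∀ ρ ∈ g.roots, Q.1 ρ ≤ 1 := by
    intro ρ hρ
    rw [mem_roots hgne, IsRoot, hg, eval_sub, eval_pow, eval_X, sub_eq_zero] at hρ
    exact val_le_one_of_pow_eq (k := k) Q hN1 hρ
  -- for each x ∈ S a root congruent to the lift
  have hex : ∀ x ∈ S, ∃ ρ ∈ g.roots, Q.1 (algebraMap K K' (lift x : K) - ρ) < 1 := by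
    intro x hx
    have h1 : P.1 (((lift x : P.O) : K) ^ N - (lift x : K)) < 1 := by
      have h2 : IsLocalRing.residue P.O ((lift x) ^ N - lift x) = 0 := by
        rw [map_sub, map_pow, hlift', hS x hx, sub_self]
      rw [residue_eq_zero_iff] at h2
      exact h2
    have h3 : Q.1 (eval (algebraMap K K' (lift x : K)) g) < 1 := by
      rw [hg, eval_sub, eval_pow, eval_X, ← map_pow, ← map_sub, hQP]
      exact pow_lt_one₀ zero_le h1 (by omega)
    rw [hprod, eval_multiset_prod, Multiset.map_map] at h3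
    by_contra hcon
    push_neg at hcon
    have h4 : ∀ ρ ∈ g.roots, Q.1 (algebraMap K K' (lift x : K) - ρ) = 1 := by
      intro ρ hρ
      apply le_antisymm _ (hcon ρ hρ)
      apply (Q.1.map_sub _ _).trans
      apply max_le _ (hroot_le ρ hρ)
      rw [hQP]
      exact pow_le_one₀ zero_le (lift x).2
    have h5 : Q.1 ((g.roots.map ((fun p : K'[X] => eval (algebraMap K K' (lift x : K)) p) ∘
        fun a => X - C a)).prod) = 1 := by
      rw [map_multiset_prod, Multiset.map_map]
      apply Multiset.prod_eq_one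
      intro y hy
      rw [Multiset.mem_map] at hy
      obtain ⟨ρ, hρ, rfl⟩ := hy
      simp only [Function.comp_apply, eval_sub, eval_X, eval_C]
      exact h4 ρ hρ
    rw [h5] at h3
    exact lt_irrefl _ h3
  choose! ρ hρroot hρval using hex
  -- injectivity
  have hinj : Set.InjOn ρ (S : Set (IsLocalRing.ResidueField P.O)) := by
    intro x hx y hy hxy
    have h1 : Q.1 (algebraMap K K' ((lift x : K) - (lift y : K))) < 1 := by
      have h2 : algebraMap K K' ((lift x : K) - (lift y : K)) =
          (algebraMap K K' (lift x : K) - ρ x) - (algebraMap K K' (lift y : K) - ρ y) := by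
        rw [hxy, map_sub]
        ring
      rw [h2]
      exact (Q.1.map_sub _ _).trans_lt (max_lt (hρval x hx) (hρval y hy))
    rw [hQP] at h1
    have h3 : P.1 ((lift x : K) - (lift y : K)) < 1 := by
      by_contra hge
      rw [not_lt] at hge
      exact absurd h1 (not_lt.mpr (one_le_pow₀ hge))
    have h4 : IsLocalRing.residue P.O (lift x - lift y) = 0 := by
      rw [residue_eq_zero_iff]
      exact h3
    rw [map_sub, hlift', hlift', sub_eq_zero] at h4
    exact h4
  -- the image is all roots
  have himg : S.image ρ = g.roots.toFinset := by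
    apply Finset.eq_of_subset_of_card_le
    · intro y hy
      rw [Finset.mem_image] at hy
      obtain ⟨x, hx, rfl⟩ := hy
      rw [Multiset.mem_toFinset]
      exact hρroot x hx
    · rw [Finset.card_image_of_injOn hinj, hScard]
      calc g.roots.toFinset.card ≤ Multiset.card g.roots := Multiset.toFinset_card_le _
        _ ≤ g.natDegree := card_roots' g
        _ = N := hgdeg
  have hθroot : θ ∈ g.roots.toFinset := by
    rw [Multiset.mem_toFinset, mem_roots hgne, IsRoot, hg, eval_sub, eval_pow, eval_X, hθ, sub_self]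
  rw [← himg, Finset.mem_image] at hθroot
  obtain ⟨x, hx, hxθ⟩ := hθroot
  refine ⟨(lift x : K), ?_⟩
  rw [← hxθ, ← Valuation.map_neg, neg_sub]
  exact hρval x hx

/-- The decomposition group of a place over a place of degree divisible by `r` is trivial. -/
theorem eq_one_of_actP_eq [Finite k] (hK : IsFunctionField k K) {r : ℕ} (hr0 : r ≠ 0)
    (hsplit : ((X ^ (Nat.card k ^ r) - X : K[X]).map (algebraMap K K')).Splits)
    (hgen : Algebra.adjoin K ((X ^ (Nat.card k ^ r) - X : K[X]).rootSet K') = ⊤)
    {P : Place k K} (hrP : r ∣ P.deg) {Q : Place k K'} {e : ℕ} (hQP : IsOverWith Q P e)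
    (σ : K' ≃ₐ[K] K') (hσ : actP σ Q = Q) : σ = 1 := by
  have hq1 : 1 < Nat.card k := Finite.one_lt_card
  have hN1 : 1 < Nat.card k ^ r := Nat.one_lt_pow hr0 hq1
  have hval : ∀ z : K', Q.1 (σ z) = Q.1 z := by
    intro z
    rw [← actP_apply (k := k) σ Q z, hσ]
  have hfix : ∀ θ ∈ (X ^ (Nat.card k ^ r) - X : K[X]).rootSet K', σ θ = θ := by
    intro θ hθ
    rw [mem_rootSet] at hθ
    have hθ' : θ ^ (Nat.card k ^ r) = θ := by
      have := hθ.2
      rwa [map_sub, map_pow, aeval_X, sub_eq_zero] at this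
    obtain ⟨a, ha⟩ := exists_congr_of_pow_eq hK hr0 hsplit hrP hQP hθ'
    by_contra hne
    have hδ0 : σ θ - θ ≠ 0 := sub_ne_zero.mpr hne
    have hσθ : (σ θ) ^ (Nat.card k ^ r) = σ θ := by rw [← map_pow, hθ']
    have halg : IsAlgebraic k (σ θ - θ) :=
      (isAlgebraic_of_pow_eq (k := k) hN1 hσθ).sub (isAlgebraic_of_pow_eq (k := k) hN1 hθ')
    have h1 := val_eq_one_of_isAlgebraic' Q halg hδ0
    have h2 : σ θ - θ = σ (θ - algebraMap K K' a) - (θ - algebraMap K K' a) := by
      rw [map_sub, σ.commutes]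
      ring
    rw [h2] at h1
    have h3 : Q.1 (σ (θ - algebraMap K K' a) - (θ - algebraMap K K' a)) < 1 :=
      (Q.1.map_sub _ _).trans_lt (max_lt (by rw [hval]; exact ha) ha)
    rw [h1] at h3
    exact lt_irrefl _ h3
  have hle : Algebra.adjoin K ((X ^ (Nat.card k ^ r) - X : K[X]).rootSet K') ≤
      AlgHom.equalizer (σ : K' →ₐ[K] K') (AlgHom.id K K') := by
    apply Algebra.adjoin_le
    intro θ hθ
    exact hfix θ hθ
  rw [hgen] at hle
  ext z
  have := hle (Algebra.mem_top (x := z))
  exact this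

end Groth.Agent.Lib.Helper23.FF
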