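import Mathlib
import Groth.Prelude.Def_W4bk4goldsch45
import Groth.Agent.Lib.Helper23.FFKS2

/-!
Constant field extensions of function fields over finite fields: complete splitting.
-/

set_option autoImplicit false

namespace Groth.Agent.Lib.Helper23.FF

open FunFld Polynomial
open Groth.Agent.Lib.Helper27.FF

universe u v w
variable {k : Type u} {K : Type v} {K' : Type w} [Field k] [Field K] [Field K'] [Algebra k K]
  [Algebra K K'] [Algebra k K'] [IsScalarTower k K K']

/-- Places of a finite extension have finite-dimensional residue fields over `k`. -/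
theorem finiteDimensional_residueField' (hK : IsFunctionField k K) [FiniteDimensional K K']
    (Q : Place k K') : Module.Finite k (IsLocalRing.ResidueField Q.O) := by
  obtain ⟨hK', hfin⟩ := isFunctionField_algebraicClosure (K' := K') hK
  haveI := hfin
  haveI : Algebra.IsAlgebraic k (algebraicClosure k K') := Algebra.IsAlgebraic.of_finite _ _
  have h1 := Place.deg_down (k := k) (Place.up (k' := algebraicClosure k K') Q)
  rw [Place.down_up] at h1
  have h2 : 1 ≤ (Place.up (k' := algebraicClosure k K') Q).deg :=
    (core_of hK').one_le_deg _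
  have h3 : 0 < Module.finrank k (algebraicClosure k K') := Module.finrank_pos
  have h4 : 0 < Q.deg := by
    rw [h1]
    exact Nat.mul_pos h3 h2
  exact Module.finite_of_finrank_pos h4

/-- The residue degree of a place over `P` is at least the degree of `P`. -/
theorem deg_le_deg_of_isOverWith (hK : IsFunctionField k K) [FiniteDimensional K K']
    {Q : Place k K'} {P : Place k K} {e : ℕ} (h : IsOverWith Q P e) : P.deg ≤ Q.deg := by
  classical
  have he1 : 1 ≤ e := isOverWith_pos h
  have hfdP : Module.Finite k (IsLocalRing.ResidueField P.O) := finiteDimensional_residueField hK P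
  have hfdQ : Module.Finite k (IsLocalRing.ResidueField Q.O) :=
    finiteDimensional_residueField' hK Q
  have hle : ∀ a : P.O, Q.1 (algebraMap K K' (a : K)) ≤ 1 := fun a => by
    rw [h]
    exact pow_le_one₀ zero_le a.2
  let ι : P.O → Q.O := fun a => ⟨algebraMap K K' (a : K), hle a⟩
  let b := Module.finBasis k (IsLocalRing.ResidueField P.O)
  have hlift : ∀ x : IsLocalRing.ResidueField P.O, ∃ a : P.O, IsLocalRing.residue P.O a = x :=
    fun x => IsLocalRing.residue_surjective x
  choose lift hlift' using hlift
  let c : Fin (Module.finrank k (IsLocalRing.ResidueField P.O)) → IsLocalRing.ResidueField Q.O :=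
    fun i => IsLocalRing.residue Q.O (ι (lift (b i)))
  have hc : LinearIndependent k c := by
    rw [Fintype.linearIndependent_iff]
    intro l hl
    have h1 : ∑ i, l i • c i = IsLocalRing.residue Q.O
        (ι (∑ i, algebraMap k P.O (l i) * lift (b i))) := by
      have h2 : ι (∑ i, algebraMap k P.O (l i) * lift (b i))
          = ∑ i, algebraMap k Q.O (l i) * ι (lift (b i)) := by
        apply Subtype.ext
        show algebraMap K K' ((∑ i, algebraMap k P.O (l i) * lift (b i) : P.O) : K) = _
        rw [AddSubmonoidClass.coe_finsetSum, AddSubmonoidClass.coe_finsetSum, map_sum]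
        apply Finset.sum_congr rfl
        intro i _
        show algebraMap K K' (algebraMap k K (l i) * (lift (b i) : K)) =
          algebraMap k K' (l i) * algebraMap K K' (lift (b i) : K)
        rw [map_mul, ← IsScalarTower.algebraMap_apply]
      rw [h2, map_sum]
      apply Finset.sum_congr rfl
      intro i _
      rw [map_mul, Algebra.smul_def]
      rfl
    have hl' : IsLocalRing.residue Q.O
        (ι (∑ i, algebraMap k P.O (l i) * lift (b i))) = 0 := h1.symm.trans hl
    rw [residue_eq_zero_iff] at hl'
    have hl := hl'
    have h3 : P.1 ((∑ i, algebraMap k P.O (l i) * lift (b i) : P.O) : K) < 1 := by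
      have h4 : Q.1 (algebraMap K K' ((∑ i, algebraMap k P.O (l i) * lift (b i) : P.O) : K)) < 1 :=
        hl
      rw [h] at h4
      by_contra hge
      rw [not_lt] at hge
      exact absurd h4 (not_lt.mpr (one_le_pow₀ hge))
    rw [← residue_eq_zero_iff, map_sum] at h3
    have h5 : ∑ i, l i • b i = 0 := by
      rw [← h3]
      apply Finset.sum_congr rfl
      intro i _
      rw [map_mul, hlift', Algebra.smul_def]
      rfl
    exact Fintype.linearIndependent_iff.mp b.linearIndependent l h5
  have := @LinearIndependent.fintype_card_le_finrank k (IsLocalRing.ResidueField Q.O) _ _ _ _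
    hfdQ _ _ c hc
  rw [Fintype.card_fin] at this
  exact this

attribute [local instance] Groth.Agent.Lib.Helper27.FF.placeAction

/-- Places of degree divisible by `r` split completely in the field generated by the roots of
`X^(q^r) - X`. -/
theorem card_over_and_deg [Finite k] (hK : IsFunctionField k K) [FiniteDimensional K K']
    [IsGalois K K'] {r : ℕ} (hr0 : r ≠ 0)
    (hsplit : ((X ^ (Nat.card k ^ r) - X : K[X]).map (algebraMap K K')).Splits)
    (hgen : Algebra.adjoin K ((X ^ (Nat.card k ^ r) - X : K[X]).rootSet K') = ⊤)
    {P : Place k K} (hrP : r ∣ P.deg) :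
    Nat.card {Q : Place k K' // IsOver Q P} = Module.finrank K K' ∧
    ∀ Q : Place k K', IsOver Q P → Q.deg = P.deg := by
  classical
  have C := core_of hK
  obtain ⟨hfin, hsum⟩ := sum_ramIdx_mul_deg (K' := K') hK P
  have h1 := hsum hfin.toFinset (fun Q => hfin.mem_toFinset)
  have hn : 0 < Module.finrank K K' := Module.finrank_pos
  have hP1 : 1 ≤ P.deg := C.one_le_deg P
  have hne : hfin.toFinset.Nonempty := by
    by_contra hemp
    rw [Finset.not_nonempty_iff_eq_empty] at hemp
    rw [hemp, Finset.sum_empty] at h1
    have : 0 < Module.finrank K K' * P.deg := Nat.mul_pos hn hP1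
    omega
  obtain ⟨Q₀, hQ₀⟩ := hne
  rw [hfin.mem_toFinset] at hQ₀
  have hdec : ∀ Q : Place k K', IsOver Q P →
      Nat.card ((Q.O).decompositionSubgroup K) = 1 := by
    intro Q hQ
    obtain ⟨e, he⟩ := hQ
    rw [decompositionSubgroup_eq (k := k) Q]
    have hbot : MulAction.stabilizer (K' ≃ₐ[K] K') Q = ⊥ := by
      rw [eq_bot_iff]
      intro σ hσ
      rw [MulAction.mem_stabilizer_iff] at hσ
      have h2 : actP σ⁻¹ Q = Q := hσ
      have h3 := eq_one_of_actP_eq hK hr0 hsplit hgen hrP he σ⁻¹ h2
      rw [Subgroup.mem_bot]
      exact inv_eq_one.mp h3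
    rw [hbot]
    exact Subgroup.card_bot
  constructor
  · have h2 := card_over_mul_card_decomposition hK hQ₀
    rw [hdec Q₀ hQ₀, mul_one] at h2
    exact h2
  · intro Q hQ
    obtain ⟨e, he⟩ := id hQ
    have h2 := card_decomposition_mul_deg hK he
    rw [hdec Q hQ, one_mul] at h2
    have h3 := deg_le_deg_of_isOverWith hK he
    have he1 : 1 ≤ e := isOverWith_pos he
    have h4 : Q.deg ≤ e * Q.deg := Nat.le_mul_of_pos_left _ he1
    omega

end Groth.Agent.Lib.Helper23.FF
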