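import Mathlib
import Groth.Prelude.Def_W4bk4goldsch45
import Groth.Agent.Lib.Helper23.FFKS3

/-!
Constant field extensions of a function field over a finite field: Galois structure.
-/

set_option autoImplicit false

namespace Groth.Agent.Lib.Helper23.FF

open FunFld Polynomial
open Groth.Agent.Lib.Helper27.FF

universe u v w z

/-- A nonzero polynomial with at least `natDegree` distinct roots splits. -/
theorem splits_of_finset_roots {F : Type*} [Field F] (p : F[X]) (hp : p ≠ 0) (S : Finset F)
    (hS : ∀ x ∈ S, p.IsRoot x) (hcard : p.natDegree ≤ S.card) : p.Splits := by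
  classical
  rw [splits_iff_card_roots]
  have h1 : S.val ≤ p.roots := by
    rw [Finset.val_le_iff_val_subset]
    intro x hx
    rw [mem_roots hp]
    exact hS x hx
  have h2 := Multiset.card_le_card h1
  have h3 := card_roots' p
  rw [Finset.card_val] at h2
  omega

section

variable {k : Type u} {K : Type v} {k' : Type w} {K' : Type z} [Field k] [Field K] [Field k']
  [Field K'] [Algebra k K] [Algebra k k'] [Algebra K K'] [Algebra k' K'] [Algebra k K']
  [IsScalarTower k K K'] [IsScalarTower k k' K']

/-- If `r` divides `[k':k]`, then `X^(q^r) - X` splits in `K'`. -/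
theorem splits_X_pow_sub_X_of_dvd [Finite k] [Finite k'] {r : ℕ} (hr0 : r ≠ 0)
    (hr : r ∣ Module.finrank k k') :
    ((X ^ (Nat.card k ^ r) - X : K[X]).map (algebraMap K K')).Splits := by
  classical
  have hq1 : 1 < Nat.card k := Finite.one_lt_card
  have hN1 : 1 < Nat.card k ^ r := Nat.one_lt_pow hr0 hq1
  obtain ⟨S, hScard, hS⟩ := exists_finset_pow_card_pow_eq (k := k) (κ := k') hr0 hr
  have h1 : (X ^ (Nat.card k ^ r) - X : k'[X]).Splits := by
    refine splits_of_finset_roots _ (FiniteField.X_pow_card_sub_X_ne_zero k' hN1) S ?_ ?_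
    · intro x hx
      rw [IsRoot, eval_sub, eval_pow, eval_X, hS x hx, sub_self]
    · rw [FiniteField.X_pow_card_sub_X_natDegree_eq k' hN1, hScard]
  have h2 := h1.map (algebraMap k' K')
  have h3 : (X ^ (Nat.card k ^ r) - X : K[X]).map (algebraMap K K') =
      (X ^ (Nat.card k ^ r) - X : k'[X]).map (algebraMap k' K') := by
    simp only [Polynomial.map_sub, Polynomial.map_pow, map_X]
  rw [h3]
  exact h2

/-- A constant field extension by a finite field is a splitting field of `X^N - X`, `N = |k'|`. -/
theorem isSplittingField_constExt [Finite k] [Finite k']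
    (hgen : Algebra.adjoin K (Set.range (algebraMap k' K')) = ⊤) :
    IsSplittingField K K' (X ^ (Nat.card k') - X : K[X]) := by
  classical
  have hN1 : 1 < Nat.card k' := Finite.one_lt_card
  have hfd : Module.Finite k k' := Module.Finite.of_finite
  have hcard : Nat.card k' = Nat.card k ^ Module.finrank k k' := Module.natCard_eq_pow_finrank
  have hr0 : Module.finrank k k' ≠ 0 := Module.finrank_pos.ne'
  refine ⟨?_, ?_⟩
  · rw [hcard]
    exact splits_X_pow_sub_X_of_dvd hr0 dvd_rfl
  · rw [eq_top_iff, ← hgen]
    apply Algebra.adjoin_mono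
    rintro _ ⟨c, rfl⟩
    rw [mem_rootSet]
    refine ⟨FiniteField.X_pow_card_sub_X_ne_zero K hN1, ?_⟩
    letI := Fintype.ofFinite k'
    rw [map_sub, map_pow, aeval_X, ← map_pow, Nat.card_eq_fintype_card, FiniteField.pow_card c,
      sub_self]

theorem isGalois_constExt [Finite k] [Finite k']
    (hgen : Algebra.adjoin K (Set.range (algebraMap k' K')) = ⊤) : IsGalois K K' := by
  classical
  haveI := isSplittingField_constExt (k := k) (K := K) hgen
  obtain ⟨p, hp⟩ := CharP.exists k
  haveI : Fact p.Prime := ⟨CharP.char_is_prime k p⟩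
  haveI : CharP K p := charP_of_injective_algebraMap (algebraMap k K).injective p
  haveI : CharP k' p := charP_of_injective_algebraMap (algebraMap k k').injective p
  letI := Fintype.ofFinite k'
  obtain ⟨a, hpa, hqa⟩ := FiniteField.card k' p
  have hqp : p ∣ Nat.card k' := by
    rw [Nat.card_eq_fintype_card, hqa]
    exact dvd_pow_self p a.ne_zero
  have hsep : (X ^ (Nat.card k') - X : K[X]).Separable := galois_poly_separable p _ hqp
  exact IsGalois.of_separable_splitting_field (p := (X ^ (Nat.card k') - X : K[X])) hsep

theorem finiteDimensional_constExt [Finite k] [Finite k']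
    (hgen : Algebra.adjoin K (Set.range (algebraMap k' K')) = ⊤) : FiniteDimensional K K' := by
  haveI := isSplittingField_constExt (k := k) (K := K) hgen
  exact IsSplittingField.finiteDimensional K' (X ^ (Nat.card k') - X : K[X])

/-- Each automorphism of `K'/K` restricts to an automorphism of `k'/k`. -/
theorem exists_restrict [Finite k] [Finite k'] (σ : K' ≃ₐ[K] K') :
    ∃ τ : k' ≃ₐ[k] k', ∀ c : k', algebraMap k' K' (τ c) = σ (algebraMap k' K' c) := by
  haveI : Module.Finite k k' := Module.Finite.of_finite
  haveI : IsGalois k k' := inferInstance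
  refine ⟨(σ.restrictScalars k).restrictNormal k', fun c => ?_⟩
  exact AlgEquiv.restrictNormal_commutes (σ.restrictScalars k) k' c

/-- An automorphism of `K'/K` is determined by its action on the constants. -/
theorem eq_of_eq_on_const (hgen : Algebra.adjoin K (Set.range (algebraMap k' K')) = ⊤)
    (σ τ : K' ≃ₐ[K] K') (h : ∀ c : k', σ (algebraMap k' K' c) = τ (algebraMap k' K' c)) :
    σ = τ := by
  have hle : Algebra.adjoin K (Set.range (algebraMap k' K')) ≤
      AlgHom.equalizer (σ : K' →ₐ[K] K') (τ : K' →ₐ[K] K') := by
    apply Algebra.adjoin_le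
    rintro _ ⟨c, rfl⟩
    exact h c
  rw [hgen] at hle
  ext x
  exact hle (Algebra.mem_top (x := x))

end

end Groth.Agent.Lib.Helper23.FF
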