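import Mathlib
import Groth.Prelude.Def_W4bk4goldsch45
import Groth.Agent.Lib.Helper23.FFCE1

/-!
Constant field extensions over a finite field: decomposition groups.
-/

set_option autoImplicit false

namespace Groth.Agent.Lib.Helper23.FF

open FunFld Polynomial
open Groth.Agent.Lib.Helper27.FF

universe u v w z

section

variable {k : Type u} {K : Type v} {K' : Type w} [Field k] [Field K] [Field K'] [Algebra k K]
  [Algebra K K'] [Algebra k K'] [IsScalarTower k K K']

/-- An automorphism in the decomposition group of `Q` fixes every solution of `θ^(q^r) = θ`, when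
`r` divides the degree of the place below. -/
theorem fix_of_actP_eq [Finite k] (hK : IsFunctionField k K) {r : ℕ} (hr0 : r ≠ 0)
    (hsplit : ((X ^ (Nat.card k ^ r) - X : K[X]).map (algebraMap K K')).Splits)
    {P : Place k K} (hrP : r ∣ P.deg) {Q : Place k K'} {e : ℕ} (hQP : IsOverWith Q P e)
    (σ : K' ≃ₐ[K] K') (hσ : actP σ Q = Q) {θ : K'} (hθ' : θ ^ (Nat.card k ^ r) = θ) :
    σ θ = θ := by
  have hq1 : 1 < Nat.card k := Finite.one_lt_card
  have hN1 : 1 < Nat.card k ^ r := Nat.one_lt_pow hr0 hq1
  have hval : ∀ z : K', Q.1 (σ z) = Q.1 z := by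
    intro z
    rw [← actP_apply (k := k) σ Q z, hσ]
  obtain ⟨a, ha⟩ := exists_congr_of_pow_eq hK hr0 hsplit hrP hQP hθ'
  by_contra hne
  have hδ0 : σ θ - θ ≠ 0 := sub_ne_zero.mpr hne
  have hσθ : (σ θ) ^ (Nat.card k ^ r) = σ θ := by rw [← map_pow, hθ']
  have halg : IsAlgebraic k (σ θ - θ) :=
    (isAlgebraic_of_pow_eq (k := k) hN1 hσθ).sub (isAlgebraic_of_pow_eq (k := k) hN1 hθ')
  have h1 := val_eq_one_of_isAlgebraic' Q halg hδ0
  have h2 : σ θ - θ = σ (θ - algebraMap K K' a) - (θ - algebraMap K K' a) := by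
    rw [map_sub, σ.commutes]
    ring
  rw [h2] at h1
  have h3 : Q.1 (σ (θ - algebraMap K K' a) - (θ - algebraMap K K' a)) < 1 :=
    (Q.1.map_sub _ _).trans_lt (max_lt (by rw [hval]; exact ha) ha)
  rw [h1] at h3
  exact lt_irrefl _ h3

/-- The inclusion of valuation rings `O_P → O_Q`. -/
def ringHomO {Q : Place k K'} {P : Place k K} {e : ℕ} (h : IsOverWith Q P e) : P.O →+* Q.O where
  toFun a := ⟨algebraMap K K' (a : K), by
    rw [Valuation.mem_valuationSubring_iff, h]
    exact pow_le_one₀ zero_le a.2⟩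
  map_one' := Subtype.ext (map_one _)
  map_mul' a b := Subtype.ext (map_mul _ _ _)
  map_zero' := Subtype.ext (map_zero _)
  map_add' a b := Subtype.ext (map_add _ _ _)

theorem ringHomO_coe {Q : Place k K'} {P : Place k K} {e : ℕ} (h : IsOverWith Q P e) (a : P.O) :
    ((ringHomO h a : Q.O) : K') = algebraMap K K' (a : K) := rfl

theorem isLocalHom_ringHomO {Q : Place k K'} {P : Place k K} {e : ℕ} (h : IsOverWith Q P e) :
    IsLocalHom (ringHomO h) := by
  constructor
  intro a ha
  have he1 : 1 ≤ e := isOverWith_pos h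
  rw [← IsLocalRing.residue_ne_zero_iff_isUnit, Ne, residue_eq_zero_iff] at ha ⊢
  intro hlt
  apply ha
  rw [ringHomO_coe, h]
  exact pow_lt_one₀ zero_le hlt (by omega)

/-- The degree of a place divides the degree of every place above it. -/
theorem deg_dvd_deg_of_isOverWith {Q : Place k K'} {P : Place k K} {e : ℕ}
    (h : IsOverWith Q P e) : P.deg ∣ Q.deg := by
  haveI := isLocalHom_ringHomO h
  let φ : IsLocalRing.ResidueField P.O →+* IsLocalRing.ResidueField Q.O :=
    IsLocalRing.ResidueField.map (ringHomO h)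
  have key := finrank_tower_aux (F := k) (F' := IsLocalRing.ResidueField P.O)
    (R := IsLocalRing.ResidueField Q.O) (Place.algRes Q) φ.toAlgebra (fun c => ?_)
  · unfold Place.deg
    exact ⟨_, key⟩
  · show IsLocalRing.residue Q.O (algebraMap k Q.O c) =
      φ (IsLocalRing.residue P.O (algebraMap k P.O c))
    rw [IsLocalRing.ResidueField.map_residue]
    congr 1
    apply Subtype.ext
    show algebraMap k K' c = algebraMap K K' (algebraMap k K c)
    exact IsScalarTower.algebraMap_apply k K K' c

end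

end Groth.Agent.Lib.Helper23.FF
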