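import Mathlib
import Groth.Prelude.Def_W4bk4goldsch45
import Groth.Agent.Lib.Helper23.FFCE2

/-!
Constant field extensions over a finite field: the splitting of places.
-/

set_option autoImplicit false

namespace Groth.Agent.Lib.Helper23.FF

open FunFld Polynomial
open Groth.Agent.Lib.Helper27.FF

universe u v w z

/-- Iterating `c ↦ c^(q^g)`. -/
theorem pow_pow_mul_add_of_pow_eq {F : Type*} [Monoid F] {c : F} {N : ℕ} (q g : ℕ)
    (hN : N = q ^ g) (hc : c ^ N = c) (t j : ℕ) : c ^ (q ^ (g * t + j)) = c ^ (q ^ j) := by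
  induction t with
  | zero => simp
  | succ t ih =>
    have : q ^ (g * (t + 1) + j) = q ^ g * q ^ (g * t + j) := by
      rw [← pow_add]
      congr 1
      ring
    rw [this, pow_mul, ← hN, hc, ih]

/-- The automorphisms of `k'/k` fixing the subfield with `q^g` elements number at most `n / g`. -/
theorem card_fixing_le {k : Type u} {k' : Type w} [Field k] [Field k'] [Algebra k k'] [Finite k]
    [Finite k'] {g : ℕ} (hg0 : g ≠ 0) (hg : g ∣ Module.finrank k k') :
    Nat.card {τ : k' ≃ₐ[k] k' // ∀ c : k', c ^ (Nat.card k ^ g) = c → τ c = c} ≤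
      Module.finrank k k' / g := by
  classical
  letI := Fintype.ofFinite k
  haveI : Module.Finite k k' := Module.Finite.of_finite
  set n := Module.finrank k k' with hn
  set q := Nat.card k with hq
  have hq1 : 1 < q := Finite.one_lt_card
  have hqcard : Fintype.card k = q := by rw [hq, Nat.card_eq_fintype_card]
  obtain ⟨S, hScard, hS⟩ := exists_finset_pow_card_pow_eq (k := k) (κ := k') hg0 hg
  set Fr := FiniteField.frobeniusAlgEquivOfAlgebraic k k' with hFr
  have hFrpow : ∀ (j : ℕ) (c : k'), (Fr ^ j) c = c ^ (q ^ j) := by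
    intro j c
    rw [AlgEquiv.coe_pow, hFr, FiniteField.coe_frobeniusAlgEquivOfAlgebraic_iterate, hqcard]
  have hsurj := (FiniteField.bijective_frobeniusAlgEquivOfAlgebraic_pow k k').2
  have key : ∀ τ : {τ : k' ≃ₐ[k] k' // ∀ c : k', c ^ (q ^ g) = c → τ c = c},
      ∃ j : Fin n, Fr ^ j.1 = τ.1 ∧ g ∣ j.1 := by
    intro τ
    obtain ⟨j, hj⟩ := hsurj τ.1
    refine ⟨j, hj, ?_⟩
    rw [Nat.dvd_iff_mod_eq_zero]
    by_contra hj'
    set j' := j.1 % g with hj'def
    have hj'lt : j' < g := Nat.mod_lt _ (Nat.pos_of_ne_zero hg0)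
    have hdecomp : j.1 = g * (j.1 / g) + j' := (Nat.div_add_mod _ _).symm
    have hN1 : 1 < q ^ j' := Nat.one_lt_pow hj' hq1
    have hroots : ∀ c ∈ S, (X ^ (q ^ j') - X : k'[X]).IsRoot c := by
      intro c hc
      have h1 : τ.1 c = c := τ.2 c (hS c hc)
      have h1' : (Fr ^ j.1) c = c := by
        have : Fr ^ j.1 = τ.1 := hj
        rw [this, h1]
      rw [hFrpow, hdecomp, pow_pow_mul_add_of_pow_eq q g rfl (hS c hc)] at h1'
      rw [IsRoot, eval_sub, eval_pow, eval_X, h1', sub_self]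
    have hne : (X ^ (q ^ j') - X : k'[X]) ≠ 0 := FiniteField.X_pow_card_sub_X_ne_zero k' hN1
    have h2 : S.val ≤ (X ^ (q ^ j') - X : k'[X]).roots := by
      rw [Finset.val_le_iff_val_subset]
      intro x hx
      rw [mem_roots hne]
      exact hroots x hx
    have h3 := Multiset.card_le_card h2
    have h4 := card_roots' (X ^ (q ^ j') - X : k'[X])
    rw [FiniteField.X_pow_card_sub_X_natDegree_eq k' hN1] at h4
    rw [Finset.card_val, hScard] at h3
    have h5 : q ^ j' < q ^ g := Nat.pow_lt_pow_right hq1 hj'lt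
    have h6 : q ^ g ≤ q ^ j' := h3.trans h4
    exact absurd h6 (not_le.mpr h5)
  choose j hj hgj using key
  have hng : 0 < n / g := Nat.div_pos (Nat.le_of_dvd Module.finrank_pos hg) (Nat.pos_of_ne_zero hg0)
  let f : {τ : k' ≃ₐ[k] k' // ∀ c : k', c ^ (q ^ g) = c → τ c = c} → Fin (n / g) := fun τ =>
    ⟨(j τ).1 / g, by
      obtain ⟨t, ht⟩ := hgj τ
      rw [ht, Nat.mul_div_cancel_left _ (Nat.pos_of_ne_zero hg0)]
      obtain ⟨s, hs⟩ := hg
      rw [hs, Nat.mul_div_cancel_left _ (Nat.pos_of_ne_zero hg0)]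
      have := (j τ).2
      rw [ht, hs] at this
      exact Nat.lt_of_mul_lt_mul_left this⟩
  have hf : Function.Injective f := by
    intro τ τ' h
    have h1 : (j τ).1 / g = (j τ').1 / g := congrArg Fin.val h
    obtain ⟨t, ht⟩ := hgj τ
    obtain ⟨t', ht'⟩ := hgj τ'
    rw [ht, ht', Nat.mul_div_cancel_left _ (Nat.pos_of_ne_zero hg0),
      Nat.mul_div_cancel_left _ (Nat.pos_of_ne_zero hg0)] at h1
    apply Subtype.ext
    rw [← hj τ, ← hj τ', ht, ht', h1]
  have := Nat.card_le_card_of_injective f hf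
  rwa [Nat.card_fin] at this

end Groth.Agent.Lib.Helper23.FF
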