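import Mathlib
import Groth.Prelude.Def_W4bk4goldsch45
import Groth.Agent.Lib.Helper23.FFCE3

/-!
Constant field extensions over a finite field: a place of degree `m` splits into `gcd(m, n)` places,
each unramified of degree `lcm(m, n)` over `k`.
-/

set_option autoImplicit false

namespace Groth.Agent.Lib.Helper23.FF

open FunFld Polynomial
open Groth.Agent.Lib.Helper27.FF

universe u v w z

variable {k : Type u} {K : Type v} {k' : Type w} {K' : Type z} [Field k] [Field K] [Field k']
  [Field K'] [Algebra k K] [Algebra k k'] [Algebra K K'] [Algebra k' K'] [Algebra k K']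
  [IsScalarTower k K K'] [IsScalarTower k k' K']

attribute [local instance] Groth.Agent.Lib.Helper27.FF.placeAction

/-- The decomposition group of a place in a constant field extension of degree `n` over a place of
degree `m` has at most `n / gcd(m, n)` elements. -/
theorem card_decomposition_le [Finite k] [Finite k'] (hK : IsFunctionField k K)
    (hgen : Algebra.adjoin K (Set.range (algebraMap k' K')) = ⊤)
    {P : Place k K} {Q : Place k K'} {e : ℕ} (hQP : IsOverWith Q P e) :
    Nat.card ((Q.O).decompositionSubgroup K) ≤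
      Module.finrank k k' / Nat.gcd P.deg (Module.finrank k k') := by
  classical
  haveI : Module.Finite k k' := Module.Finite.of_finite
  set n := Module.finrank k k' with hn
  have hn0 : 0 < n := Module.finrank_pos
  set g := Nat.gcd P.deg n with hg
  have hg0 : g ≠ 0 := (Nat.gcd_pos_of_pos_right _ hn0).ne'
  have hgn : g ∣ n := Nat.gcd_dvd_right _ _
  have hgm : g ∣ P.deg := Nat.gcd_dvd_left _ _
  have hsplit : ((X ^ (Nat.card k ^ g) - X : K[X]).map (algebraMap K K')).Splits :=
    splits_X_pow_sub_X_of_dvd (k := k) (K := K) (k' := k') (K' := K') hg0 hgn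
  rw [decompositionSubgroup_eq (k := k) Q]
  have hact : ∀ σ : MulAction.stabilizer (K' ≃ₐ[K] K') Q, actP (σ : K' ≃ₐ[K] K') Q = Q := by
    intro σ
    have h1 : (σ : K' ≃ₐ[K] K')⁻¹ ∈ MulAction.stabilizer (K' ≃ₐ[K] K') Q := inv_mem σ.2
    rw [MulAction.mem_stabilizer_iff] at h1
    have h2 : actP ((σ : K' ≃ₐ[K] K')⁻¹)⁻¹ Q = Q := h1
    rwa [inv_inv] at h2
  have hτ : ∀ σ : MulAction.stabilizer (K' ≃ₐ[K] K') Q, ∃ τ : k' ≃ₐ[k] k',
      ∀ c : k', algebraMap k' K' (τ c) = (σ : K' ≃ₐ[K] K') (algebraMap k' K' c) :=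
    fun σ => exists_restrict (k := k) (σ : K' ≃ₐ[K] K')
  choose τ hτ' using hτ
  have hfix : ∀ σ : MulAction.stabilizer (K' ≃ₐ[K] K') Q, ∀ c : k',
      c ^ (Nat.card k ^ g) = c → τ σ c = c := by
    intro σ c hc
    apply (algebraMap k' K').injective
    rw [hτ']
    apply fix_of_actP_eq hK hg0 hsplit hgm hQP _ (hact σ)
    rw [← map_pow, hc]
  let f : MulAction.stabilizer (K' ≃ₐ[K] K') Q →
      {τ : k' ≃ₐ[k] k' // ∀ c : k', c ^ (Nat.card k ^ g) = c → τ c = c} :=
    fun σ => ⟨τ σ, hfix σ⟩
  have hf : Function.Injective f := by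
    intro σ σ' h
    have h1 : τ σ = τ σ' := congrArg Subtype.val h
    apply Subtype.ext
    apply eq_of_eq_on_const hgen
    intro c
    rw [← hτ', ← hτ', h1]
  haveI : Finite (k' ≃ₐ[k] k') := inferInstance
  exact (Nat.card_le_card_of_injective f hf).trans (card_fixing_le hg0 hgn)

/-- **Splitting of places in a constant field extension of finite fields.** -/
theorem constExt_split [Finite k] [Finite k'] (hK : IsFunctionField k K)
    (hgen : Algebra.adjoin K (Set.range (algebraMap k' K')) = ⊤)
    (hrank : Module.finrank K K' = Module.finrank k k') (P : Place k K) :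
    Nat.card {Q : Place k K' // IsOver Q P} = Nat.gcd P.deg (Module.finrank k k') ∧
    ∀ Q : Place k K', IsOver Q P →
      IsOverWith Q P 1 ∧ Q.deg = Nat.lcm P.deg (Module.finrank k k') := by
  classical
  haveI : Module.Finite k k' := Module.Finite.of_finite
  haveI : Algebra.IsAlgebraic k k' := Algebra.IsAlgebraic.of_finite _ _
  haveI := finiteDimensional_constExt (k := k) (K := K) hgen
  haveI := isGalois_constExt (k := k) (K := K) hgen
  have C := core_of hK
  set n := Module.finrank k k' with hn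
  set m := P.deg with hm
  have hn0 : 0 < n := Module.finrank_pos
  have hm0 : 0 < m := C.one_le_deg P
  set g := Nat.gcd m n with hg
  have hg0 : 0 < g := Nat.gcd_pos_of_pos_right _ hn0
  have hgn : g ∣ n := Nat.gcd_dvd_right _ _
  have hlcm : n / g * m = Nat.lcm m n := by
    obtain ⟨t, ht⟩ := hgn
    have h1 : Nat.lcm m n = m * n / g := rfl
    rw [h1, ht, Nat.mul_div_cancel_left _ hg0, Nat.mul_div_assoc m (dvd_mul_right g t),
      Nat.mul_div_cancel_left _ hg0, mul_comm]
  have hmain : ∀ (Q : Place k K') (e : ℕ), IsOverWith Q P e →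
      e = 1 ∧ Q.deg = Nat.lcm m n ∧ Nat.card ((Q.O).decompositionSubgroup K) = n / g := by
    intro Q e he
    have h1 := card_decomposition_mul_deg hK he
    have h2 := card_decomposition_le hK hgen he
    have h3 : m ∣ Q.deg := deg_dvd_deg_of_isOverWith he
    have h4 : n ∣ Q.deg := by
      have := Place.deg_down (k := k) (Place.up (k' := k') Q)
      rw [Place.down_up] at this
      exact ⟨_, this⟩
    have h5 : Nat.lcm m n ∣ Q.deg := Nat.lcm_dvd h3 h4
    have h6 : m ≤ Q.deg := deg_le_deg_of_isOverWith hK he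
    have hQ0 : 0 < Q.deg := by omega
    have h7 : Nat.lcm m n ≤ Q.deg := Nat.le_of_dvd hQ0 h5
    have he1 : 1 ≤ e := isOverWith_pos he
    have h8 : Nat.card ((Q.O).decompositionSubgroup K) * m ≤ n / g * m :=
      Nat.mul_le_mul_right _ h2
    rw [hlcm] at h8
    have h9 : e * Q.deg ≤ Q.deg := by
      rw [← h1]
      exact h8.trans h7
    have he' : e = 1 := by
      by_contra hne
      have h2e : 2 ≤ e := by omega
      have : 2 * Q.deg ≤ e * Q.deg := Nat.mul_le_mul_right _ h2e
      omega
    subst he'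
    rw [one_mul] at h1
    have h10 : Q.deg = Nat.lcm m n := le_antisymm (by rw [← h1]; exact h8) h7
    refine ⟨rfl, h10, ?_⟩
    have h11 : Nat.card ((Q.O).decompositionSubgroup K) * m = n / g * m := by
      rw [hlcm, h1, h10]
    exact Nat.eq_of_mul_eq_mul_right hm0 h11
  obtain ⟨hfin, hsum⟩ := sum_ramIdx_mul_deg (K' := K') hK P
  have h1 := hsum hfin.toFinset (fun Q => hfin.mem_toFinset)
  have hne : hfin.toFinset.Nonempty := by
    by_contra hemp
    rw [Finset.not_nonempty_iff_eq_empty] at hemp
    rw [hemp, Finset.sum_empty, hrank] at h1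
    have hpos : 0 < n * m := Nat.mul_pos hn0 hm0
    have h0 : n * m = 0 := h1.symm
    exact absurd h0 hpos.ne'
  obtain ⟨Q₀, hQ₀⟩ := hne
  rw [hfin.mem_toFinset] at hQ₀
  constructor
  · obtain ⟨e, he⟩ := id hQ₀
    have h2 := card_over_mul_card_decomposition hK hQ₀
    rw [(hmain Q₀ e he).2.2, hrank] at h2
    have h3 : g * (n / g) = n := Nat.mul_div_cancel' hgn
    have h4 : 0 < n / g := Nat.div_pos (Nat.le_of_dvd hn0 hgn) hg0
    have h5 : Nat.card {Q' : Place k K' // IsOver Q' P} * (n / g) = g * (n / g) := by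
      rw [h2, h3]
    exact Nat.eq_of_mul_eq_mul_right h4 h5
  · intro Q hQ
    obtain ⟨e, he⟩ := id hQ
    obtain ⟨he1, hdeg, _⟩ := hmain Q e he
    subst he1
    exact ⟨he, hdeg⟩

end Groth.Agent.Lib.Helper23.FF
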