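import Mathlib
import Groth.Prelude.Def_W4bk4goldsch45
import Groth.Agent.Lib.Helper23.FFZeta2

/-!
The logarithmic derivative of the zeta function: `n a_n = ∑_{j=1}^n N_j a_{n-j}` where
`N_j = ∑_{deg P ∣ j} deg P`.
-/

set_option autoImplicit false

namespace Groth.Agent.Lib.Helper23.FF

open FunFld
open scoped Classical

universe u v
variable {k : Type u} {K : Type v} [Field k] [Field K] [Algebra k K]

theorem finite_effSet [Finite k] (hK : IsFunctionField k K) (n : ℕ) :
    {D : Divisor k K | 0 ≤ D ∧ D.deg = n}.Finite :=
  Set.Finite.subset (finite_effective_deg_le hK n) (fun _ hD => ⟨hD.1, hD.2.le⟩)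

/-- The finset of effective divisors of degree `n`. -/
noncomputable def effFinset [Finite k] (hK : IsFunctionField k K) (n : ℕ) :
    Finset (Divisor k K) := (finite_effSet hK n).toFinset

theorem mem_effFinset [Finite k] (hK : IsFunctionField k K) {n : ℕ} {D : Divisor k K} :
    D ∈ effFinset hK n ↔ 0 ≤ D ∧ D.deg = n := by
  unfold effFinset
  rw [Set.Finite.mem_toFinset]
  rfl

theorem card_effFinset [Finite k] (hK : IsFunctionField k K) (n : ℕ) :
    (effFinset hK n).card = effDivCount k K n := by
  unfold effFinset effDivCount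
  show _ = Nat.card ↥{D : Divisor k K | 0 ≤ D ∧ D.deg = n}
  rw [Nat.card_coe_set_eq, Set.ncard_eq_toFinset_card _ (finite_effSet hK n)]

/-- The finset of places of degree at most `n`. -/
noncomputable def placeFinset [Finite k] (hK : IsFunctionField k K) (n : ℕ) :
    Finset (Place k K) := (finite_places_deg_le hK n).toFinset

theorem mem_placeFinset [Finite k] (hK : IsFunctionField k K) {n : ℕ} {P : Place k K} :
    P ∈ placeFinset hK n ↔ P.deg ≤ n := by
  unfold placeFinset
  rw [Set.Finite.mem_toFinset]
  rfl

/-- `N_j = ∑_{deg P ∣ j} deg P`; for `j ≥ 1` this is the number of rational places of the constant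
field extension of degree `j`. -/
noncomputable def Nw [Finite k] (hK : IsFunctionField k K) (j : ℕ) : ℕ :=
  ∑ P ∈ (placeFinset hK j).filter (fun P => P.deg ∣ j), P.deg

/-- Shifting by `i P` identifies the effective divisors of degree `n` with `D(P) ≥ i` with the
effective divisors of degree `n - i deg P`. -/
theorem card_filter_effFinset [Finite k] (hK : IsFunctionField k K) (n i : ℕ) (P : Place k K) :
    ((effFinset hK n).filter (fun D => (i : ℤ) ≤ D P)).card =
      if i * P.deg ≤ n then effDivCount k K (n - i * P.deg) else 0 := by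
  have C := Groth.Agent.Lib.Helper27.FF.core_of hK
  split_ifs with h
  · rw [← card_effFinset hK]
    refine Finset.card_nbij' (fun D => D - Finsupp.single P (i : ℤ))
      (fun D => D + Finsupp.single P (i : ℤ)) ?_ ?_ ?_ ?_
    · intro D hD
      rw [Finset.mem_coe, Finset.mem_filter, mem_effFinset] at hD
      rw [Finset.mem_coe, mem_effFinset]
      obtain ⟨⟨hD0, hDdeg⟩, hDi⟩ := hD
      refine ⟨?_, ?_⟩
      · intro R
        rw [Finsupp.sub_apply, Finsupp.single_apply]
        show (0 : ℤ) ≤ _
        split_ifs with hR
        · subst hR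
          linarith
        · have := hD0 R
          have h0 : (0 : ℤ) ≤ D R := this
          linarith
      · rw [Groth.Agent.Lib.Helper27.FF.deg_sub, Groth.Agent.Lib.Helper27.FF.deg_single, hDdeg,
          Nat.cast_sub h]
        push_cast
        ring
    · intro D hD
      rw [Finset.mem_coe, mem_effFinset] at hD
      rw [Finset.mem_coe, Finset.mem_filter, mem_effFinset]
      obtain ⟨hD0, hDdeg⟩ := hD
      refine ⟨⟨?_, ?_⟩, ?_⟩
      · exact add_nonneg hD0 (Finsupp.single_nonneg.mpr (Int.natCast_nonneg i))
      · rw [Groth.Agent.Lib.Helper27.FF.deg_add, Groth.Agent.Lib.Helper27.FF.deg_single, hDdeg,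
          Nat.cast_sub h]
        push_cast
        ring
      · rw [Finsupp.add_apply, Finsupp.single_eq_same]
        have h0 : (0 : ℤ) ≤ D P := hD0 P
        linarith
    · intro D _
      simp
    · intro D _
      simp
  · rw [Finset.card_eq_zero, Finset.filter_eq_empty_iff]
    intro D hD hi
    rw [mem_effFinset] at hD
    have h1 := coeff_mul_deg_le_deg hD.1 P
    rw [hD.2] at h1
    have h2 : ((i * P.deg : ℕ) : ℤ) ≤ n := by
      push_cast
      calc (i : ℤ) * (P.deg : ℤ) ≤ D P * (P.deg : ℤ) :=
            mul_le_mul_of_nonneg_right hi (Int.natCast_nonneg _)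
        _ ≤ n := h1
    exact h (by exact_mod_cast h2)

end Groth.Agent.Lib.Helper23.FF
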