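import Mathlib
import Groth.Prelude.Def_W4bk4goldsch45
import Groth.Agent.Lib.Helper23.FFDlog1

/-!
The logarithmic derivative of the zeta function, part 2.
-/

set_option autoImplicit false

namespace Groth.Agent.Lib.Helper23.FF

open FunFld
open scoped Classical

universe u v
variable {k : Type u} {K : Type v} [Field k] [Field K] [Algebra k K]

theorem sum_reindex_mul (a : ℕ → ℕ) (n d : ℕ) (hd : 1 ≤ d) :
    ∑ i ∈ Finset.Icc 1 n, (if i * d ≤ n then a (n - i * d) else 0) * d =
      ∑ j ∈ Finset.Icc 1 n, (if d ∣ j then d * a (n - j) else 0) := by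
  have h1 : ∑ i ∈ Finset.Icc 1 n, (if i * d ≤ n then a (n - i * d) else 0) * d =
      ∑ i ∈ (Finset.Icc 1 n).filter (fun i => i * d ≤ n), a (n - i * d) * d := by
    rw [Finset.sum_filter]
    apply Finset.sum_congr rfl
    intro i _
    split_ifs <;> simp
  have h2 : ∑ j ∈ Finset.Icc 1 n, (if d ∣ j then d * a (n - j) else 0) =
      ∑ j ∈ (Finset.Icc 1 n).filter (fun j => d ∣ j), d * a (n - j) := by
    rw [Finset.sum_filter]
  rw [h1, h2]
  refine Finset.sum_nbij' (fun i => i * d) (fun j => j / d) ?_ ?_ ?_ ?_ ?_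
  · intro i hi
    rw [Finset.mem_filter, Finset.mem_Icc] at hi
    rw [Finset.mem_filter, Finset.mem_Icc]
    refine ⟨⟨?_, hi.2⟩, dvd_mul_left d i⟩
    exact Nat.one_le_iff_ne_zero.mpr (Nat.mul_ne_zero (by omega) (by omega))
  · intro j hj
    rw [Finset.mem_filter, Finset.mem_Icc] at hj
    rw [Finset.mem_filter, Finset.mem_Icc]
    obtain ⟨⟨hj1, hjn⟩, t, rfl⟩ := hj
    rw [Nat.mul_div_cancel_left _ (by omega : 0 < d)]
    have ht1 : 1 ≤ t := by
      rcases Nat.eq_zero_or_pos t with h | h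
      · subst h; simp at hj1
      · exact h
    refine ⟨⟨ht1, ?_⟩, ?_⟩
    · calc t = 1 * t := (one_mul t).symm
        _ ≤ d * t := Nat.mul_le_mul_right _ hd
        _ ≤ n := hjn
    · rw [mul_comm]; exact hjn
  · intro i _
    exact Nat.mul_div_cancel _ (by omega : 0 < d)
  · intro j hj
    rw [Finset.mem_filter] at hj
    exact Nat.div_mul_cancel hj.2
  · intro i _
    ring

/-- `deg D` as a sum over the places of degree at most `n`, counted with multiplicities. -/
theorem deg_eq_sum_sum [Finite k] (hK : IsFunctionField k K) {n : ℕ} {D : Divisor k K}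
    (hD : D ∈ effFinset hK n) :
    n = ∑ P ∈ placeFinset hK n, ∑ i ∈ Finset.Icc 1 n, (if (i : ℤ) ≤ D P then P.deg else 0) := by
  have C := Groth.Agent.Lib.Helper27.FF.core_of hK
  rw [mem_effFinset] at hD
  obtain ⟨hD0, hDdeg⟩ := hD
  have hsupp : D.support ⊆ placeFinset hK n := by
    intro P hP
    rw [Finsupp.mem_support_iff] at hP
    rw [mem_placeFinset]
    have h1 := coeff_mul_deg_le_deg hD0 P
    rw [hDdeg] at h1
    have h2 : (0 : ℤ) ≤ D P := hD0 P
    have h3 : (1 : ℤ) ≤ D P := by omega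
    have h4 : (P.deg : ℤ) ≤ D P * P.deg := by
      calc (P.deg : ℤ) = 1 * P.deg := (one_mul _).symm
        _ ≤ D P * P.deg := mul_le_mul_of_nonneg_right h3 (Int.natCast_nonneg _)
    exact_mod_cast h4.trans h1
  have hdeg : D.deg = ∑ P ∈ placeFinset hK n, D P * (P.deg : ℤ) := by
    unfold Divisor.deg Finsupp.sum
    apply Finset.sum_subset hsupp
    intro P _ hP
    rw [Finsupp.notMem_support_iff] at hP
    show D P * (P.deg : ℤ) = 0
    rw [hP, zero_mul]
  have hinner : ∀ P ∈ placeFinset hK n,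
      ((∑ i ∈ Finset.Icc 1 n, (if (i : ℤ) ≤ D P then P.deg else 0) : ℕ) : ℤ) =
        D P * (P.deg : ℤ) := by
    intro P _
    have h1 := coeff_mul_deg_le_deg hD0 P
    rw [hDdeg] at h1
    have h2 : (0 : ℤ) ≤ D P := hD0 P
    have hP1 : 1 ≤ P.deg := C.one_le_deg P
    have h3 : D P ≤ n := by
      have h4 : D P * 1 ≤ D P * (P.deg : ℤ) :=
        mul_le_mul_of_nonneg_left (by exact_mod_cast hP1) h2
      linarith
    obtain ⟨d, hd⟩ : ∃ d : ℕ, D P = d := ⟨(D P).toNat, (Int.toNat_of_nonneg h2).symm⟩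
    rw [hd] at h3 ⊢
    have h5 : d ≤ n := by exact_mod_cast h3
    have h6 : (Finset.Icc 1 n).filter (fun i : ℕ => (i : ℤ) ≤ (d : ℤ)) = Finset.Icc 1 d := by
      ext i
      rw [Finset.mem_filter, Finset.mem_Icc, Finset.mem_Icc]
      constructor
      · rintro ⟨⟨h7, _⟩, h8⟩
        exact ⟨h7, by exact_mod_cast h8⟩
      · rintro ⟨h7, h8⟩
        exact ⟨⟨h7, h8.trans h5⟩, by exact_mod_cast h8⟩
    rw [Finset.sum_ite, Finset.sum_const_zero, add_zero, Finset.sum_const, h6, Nat.card_Icc,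
      smul_eq_mul]
    push_cast
    simp
  have : ((∑ P ∈ placeFinset hK n, ∑ i ∈ Finset.Icc 1 n,
      (if (i : ℤ) ≤ D P then P.deg else 0) : ℕ) : ℤ) = (n : ℤ) := by
    rw [Nat.cast_sum, Finset.sum_congr rfl hinner, ← hdeg, hDdeg]
  exact_mod_cast this.symm

/-- **The logarithmic derivative identity** `n a_n = ∑_{j=1}^n N_j a_{n-j}`. -/
theorem dlog_identity [Finite k] (hK : IsFunctionField k K) (n : ℕ) :
    n * effDivCount k K n = ∑ j ∈ Finset.Icc 1 n, Nw hK j * effDivCount k K (n - j) := by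
  have C := Groth.Agent.Lib.Helper27.FF.core_of hK
  have h1 : n * effDivCount k K n =
      ∑ D ∈ effFinset hK n, ∑ P ∈ placeFinset hK n, ∑ i ∈ Finset.Icc 1 n,
        (if (i : ℤ) ≤ D P then P.deg else 0) := by
    rw [← Finset.sum_congr rfl (fun D hD => deg_eq_sum_sum hK hD), Finset.sum_const,
      card_effFinset, smul_eq_mul, mul_comm]
  have h2 : ∑ D ∈ effFinset hK n, ∑ P ∈ placeFinset hK n, ∑ i ∈ Finset.Icc 1 n,
        (if (i : ℤ) ≤ D P then P.deg else 0) =
      ∑ P ∈ placeFinset hK n, ∑ i ∈ Finset.Icc 1 n,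
        (if i * P.deg ≤ n then effDivCount k K (n - i * P.deg) else 0) * P.deg := by
    rw [Finset.sum_comm]
    apply Finset.sum_congr rfl
    intro P _
    rw [Finset.sum_comm]
    apply Finset.sum_congr rfl
    intro i _
    rw [Finset.sum_ite, Finset.sum_const_zero, add_zero, Finset.sum_const, smul_eq_mul,
      card_filter_effFinset]
  have h3 : ∑ j ∈ Finset.Icc 1 n, Nw hK j * effDivCount k K (n - j) =
      ∑ P ∈ placeFinset hK n, ∑ j ∈ Finset.Icc 1 n,
        (if P.deg ∣ j then P.deg * effDivCount k K (n - j) else 0) := by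
    rw [Finset.sum_comm]
    apply Finset.sum_congr rfl
    intro j hj
    rw [Finset.mem_Icc] at hj
    unfold Nw
    rw [Finset.sum_mul]
    have h4 : (placeFinset hK j).filter (fun P => P.deg ∣ j) =
        (placeFinset hK n).filter (fun P => P.deg ∣ j) := by
      ext P
      rw [Finset.mem_filter, Finset.mem_filter, mem_placeFinset, mem_placeFinset]
      constructor
      · rintro ⟨h5, h6⟩
        exact ⟨h5.trans hj.2, h6⟩
      · rintro ⟨_, h6⟩
        exact ⟨Nat.le_of_dvd (by omega) h6, h6⟩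
    rw [h4, Finset.sum_filter]
  rw [h1, h2, h3]
  apply Finset.sum_congr rfl
  intro P _
  exact sum_reindex_mul (fun m => effDivCount k K m) n P.deg (C.one_le_deg P)

end Groth.Agent.Lib.Helper23.FF
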