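import Mathlib
import Groth.Prelude.Def_W4bk4goldsch45
import Groth.Agent.Lib.Helper23.FFCE4
import Groth.Agent.Lib.Helper23.FFDlog2

/-!
Constant field extensions over a finite field: the weighted place counts `N_r` upstairs are the
counts `N_{rn}` downstairs.
-/

set_option autoImplicit false

namespace Groth.Agent.Lib.Helper23.FF

open FunFld Polynomial
open Groth.Agent.Lib.Helper27.FF
open scoped Classical

universe u v w z

variable {k : Type u} {K : Type v} {k' : Type w} {K' : Type z} [Field k] [Field K] [Field k']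
  [Field K'] [Algebra k K] [Algebra k k'] [Algebra K K'] [Algebra k' K'] [Algebra k K']
  [IsScalarTower k K K'] [IsScalarTower k k' K']

/-- Arithmetic: with `g = gcd(m, n)`, `(m / g) ∣ r ↔ m ∣ r n`. -/
theorem div_gcd_dvd_iff (m n r : ℕ) (hn : 0 < n) :
    m / Nat.gcd m n ∣ r ↔ m ∣ r * n := by
  set g := Nat.gcd m n with hg
  have hg0 : 0 < g := Nat.gcd_pos_of_pos_right _ hn
  obtain ⟨m', hm'⟩ : g ∣ m := Nat.gcd_dvd_left _ _
  obtain ⟨n', hn'⟩ : g ∣ n := Nat.gcd_dvd_right _ _
  have hcop : Nat.Coprime m' n' := by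
    have := Nat.coprime_div_gcd_div_gcd (m := m) (n := n) hg0
    rwa [← hg, hm', hn', Nat.mul_div_cancel_left _ hg0, Nat.mul_div_cancel_left _ hg0] at this
  rw [hm', Nat.mul_div_cancel_left _ hg0, hn']
  constructor
  · rintro ⟨t, rfl⟩
    exact ⟨t * n', by ring⟩
  · intro h
    have h1 : g * m' ∣ g * (r * n') := by
      have : r * (g * n') = g * (r * n') := by ring
      rwa [this] at h
    have h2 : m' ∣ r * n' := (Nat.mul_dvd_mul_iff_left hg0).mp h1
    exact (Nat.Coprime.dvd_mul_right hcop).mp h2

/-- The degree over `k'` of a place of a constant field extension. -/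
theorem deg_up_mul [Algebra.IsAlgebraic k k'] (Q : Place k K') :
    Module.finrank k k' * (Place.up (k' := k') Q).deg = Q.deg := by
  have := Place.deg_down (k := k) (Place.up (k' := k') Q)
  rw [Place.down_up] at this
  exact this.symm

theorem Nw_constExt [Finite k] [Finite k'] (hK : IsFunctionField k K)
    (hK' : IsFunctionField k' K')
    (hgen : Algebra.adjoin K (Set.range (algebraMap k' K')) = ⊤)
    (hrank : Module.finrank K K' = Module.finrank k k') (r : ℕ) (hr : 1 ≤ r) :
    Nw hK' r = Nw hK (r * Module.finrank k k') := by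
  haveI : Module.Finite k k' := Module.Finite.of_finite
  haveI : Algebra.IsAlgebraic k k' := Algebra.IsAlgebraic.of_finite _ _
  haveI := finiteDimensional_constExt (k := k) (K := K) hgen
  have C := core_of hK
  set n := Module.finrank k k' with hn
  have hn0 : 0 < n := Module.finrank_pos
  -- the place below
  have hbelow : ∀ Q' : Place k' K', ∃ P : Place k K, IsOver (Place.down (k := k) Q') P := by
    intro Q'
    obtain ⟨P, e, he⟩ := exists_isOverWith hK (Place.down (k := k) Q')
    exact ⟨P, e, he⟩
  choose π hπ using hbelow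
  have hπuniq : ∀ (Q' : Place k' K') (P : Place k K), IsOver (Place.down (k := k) Q') P →
      π Q' = P := by
    intro Q' P hP
    obtain ⟨e, he⟩ := hP
    obtain ⟨e', he'⟩ := hπ Q'
    exact (isOverWith_unique he' he).1
  -- degrees
  have hdeg : ∀ Q' : Place k' K', Q'.deg = (π Q').deg / Nat.gcd (π Q').deg n := by
    intro Q'
    have h1 := ((constExt_split hK hgen hrank (π Q')).2 _ (hπ Q')).2
    have h2 := Place.deg_down (k := k) Q'
    rw [h1] at h2
    have hg0 : 0 < Nat.gcd (π Q').deg n := Nat.gcd_pos_of_pos_right _ hn0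
    have h3 : Nat.lcm (π Q').deg n = n * ((π Q').deg / Nat.gcd (π Q').deg n) := by
      rw [Nat.lcm, mul_comm (π Q').deg n, Nat.mul_div_assoc _ (Nat.gcd_dvd_left _ _)]
    rw [h3] at h2
    exact (Nat.eq_of_mul_eq_mul_left hn0 h2).symm
  unfold Nw
  rw [← Finset.sum_fiberwise_of_maps_to (g := π)
    (t := (placeFinset hK (r * n)).filter (fun P => P.deg ∣ r * n))]
  · apply Finset.sum_congr rfl
    intro P hP
    rw [Finset.mem_filter, mem_placeFinset] at hP
    obtain ⟨hcard, hall⟩ := constExt_split hK hgen hrank P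
    set g := Nat.gcd P.deg n with hg
    have hg0 : 0 < g := Nat.gcd_pos_of_pos_right _ hn0
    have hm0 : 0 < P.deg := C.one_le_deg P
    set F := ((placeFinset hK' r).filter (fun Q' => Q'.deg ∣ r)).filter
        (fun Q' => π Q' = P) with hF
    have hmemF : ∀ Q' : Place k' K', Q' ∈ F ↔ IsOver (Place.down (k := k) Q') P := by
      intro Q'
      rw [hF, Finset.mem_filter, Finset.mem_filter, mem_placeFinset]
      constructor
      · rintro ⟨_, h2⟩
        rw [← h2]
        exact hπ Q'
      · intro h
        have h2 := hπuniq Q' P h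
        have h3 : Q'.deg ∣ r := by
          rw [hdeg, h2, div_gcd_dvd_iff _ _ _ hn0]
          exact hP.2
        exact ⟨⟨Nat.le_of_dvd hr h3, h3⟩, h2⟩
    have hFcard : F.card = g := by
      rw [← hcard, ← Nat.card_eq_finsetCard F]
      refine Nat.card_congr
        { toFun := fun Q' => ⟨Place.down (k := k) Q'.1, (hmemF Q'.1).mp Q'.2⟩
          invFun := fun Q => ⟨Place.up (k' := k') Q.1, (hmemF _).mpr (by
            rw [Place.down_up]; exact Q.2)⟩
          left_inv := fun Q' => Subtype.ext (Place.up_down Q'.1)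
          right_inv := fun Q => Subtype.ext (Place.down_up Q.1) }
    have hsum : ∑ Q' ∈ F, Q'.deg = ∑ _Q' ∈ F, P.deg / g := by
      apply Finset.sum_congr rfl
      intro Q' hQ'
      rw [hdeg, hπuniq Q' P ((hmemF Q').mp hQ')]
    rw [hsum, Finset.sum_const, hFcard, smul_eq_mul]
    exact Nat.mul_div_cancel' (Nat.gcd_dvd_left _ _)
  · intro Q' hQ'
    rw [Finset.mem_filter, mem_placeFinset] at hQ' ⊢
    have h1 : (π Q').deg ∣ r * n := by
      rw [← div_gcd_dvd_iff _ _ _ hn0, ← hdeg]
      exact hQ'.2
    exact ⟨Nat.le_of_dvd (Nat.mul_pos hr hn0) h1, h1⟩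

end Groth.Agent.Lib.Helper23.FF
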