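import Mathlib

/-!
Formal logarithmic derivatives of power series: `eD f = X f'`, and the relation `eD f = f M`.
-/

set_option autoImplicit false

namespace Groth.Agent.Lib.Helper23.PS

open PowerSeries

variable {F : Type*} [Field F]

/-- The Euler operator `f ↦ X f'`. -/
noncomputable def eD (f : F⟦X⟧) : F⟦X⟧ := X * d⁄dX F f

theorem coeff_eD (f : F⟦X⟧) (n : ℕ) : coeff n (eD f) = (n : F) * coeff n f := by
  unfold eD
  cases n with
  | zero => simp
  | succ n =>
    rw [coeff_succ_X_mul, coeff_derivative]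
    push_cast
    ring

theorem eD_mul (f g : F⟦X⟧) : eD (f * g) = eD f * g + f * eD g := by
  unfold eD
  rw [Derivation.leibniz, smul_eq_mul, smul_eq_mul]
  ring

theorem eD_one : eD (1 : F⟦X⟧) = 0 := by
  unfold eD
  rw [derivative_one, mul_zero]

theorem eD_mul_of {f g M M' : F⟦X⟧} (hf : eD f = f * M) (hg : eD g = g * M') :
    eD (f * g) = (f * g) * (M + M') := by
  rw [eD_mul, hf, hg]
  ring

theorem eD_prod {ι : Type*} (s : Finset ι) (f M : ι → F⟦X⟧)
    (h : ∀ i ∈ s, eD (f i) = f i * M i) :
    eD (∏ i ∈ s, f i) = (∏ i ∈ s, f i) * ∑ i ∈ s, M i := by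
  classical
  induction s using Finset.induction_on with
  | empty => simp [eD_one]
  | insert a s ha ih =>
    rw [Finset.prod_insert ha, Finset.sum_insert ha]
    exact eD_mul_of (h a (Finset.mem_insert_self a s))
      (ih (fun i hi => h i (Finset.mem_insert_of_mem hi)))

/-- `-∑_{j ≥ 1} β^j X^j`, the logarithmic derivative of `1 - β X`. -/
noncomputable def geo (β : F) : F⟦X⟧ := mk (fun j => if j = 0 then 0 else -β ^ j)

theorem coeff_geo (β : F) (j : ℕ) : coeff j (geo β) = if j = 0 then 0 else -β ^ j := by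
  unfold geo
  rw [coeff_mk]

theorem constantCoeff_geo (β : F) : constantCoeff (geo β) = 0 := by
  rw [← coeff_zero_eq_constantCoeff_apply, coeff_geo, if_pos rfl]

theorem eD_one_sub (β : F) : eD (1 - C β * X) = (1 - C β * X) * geo β := by
  ext n
  have hL : coeff n (eD (1 - C β * X)) = (n : F) * (coeff n (1 : F⟦X⟧) - β * coeff n (X : F⟦X⟧)) := by
    rw [coeff_eD, map_sub, coeff_C_mul]
  have hR : coeff n ((1 - C β * X) * geo β) =
      coeff n (geo β) - β * coeff n (X * geo β) := by
    rw [sub_mul, one_mul, map_sub, mul_assoc, coeff_C_mul]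
  rw [hL, hR]
  cases n with
  | zero => simp [coeff_geo]
  | succ n =>
    rw [coeff_succ_X_mul, coeff_geo, coeff_geo, if_neg (Nat.succ_ne_zero n), coeff_one,
      if_neg (Nat.succ_ne_zero n), coeff_X]
    by_cases hn : n = 0
    · subst hn
      simp
    · rw [if_neg hn, if_neg (by omega : ¬ n + 1 = 1)]
      ring

/-- A power series with `eD f = f M`, `M(0) = 0`, is determined by `M` and `f(0)`. -/
theorem eq_of_eD [CharZero F] {f g M : F⟦X⟧} (hM : constantCoeff M = 0)
    (h0 : constantCoeff f = constantCoeff g) (hf : eD f = f * M) (hg : eD g = g * M) :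
    f = g := by
  ext n
  induction n using Nat.strong_induction_on with
  | _ n ih =>
    rcases Nat.eq_zero_or_pos n with hn | hn
    · subst hn
      rw [coeff_zero_eq_constantCoeff_apply, coeff_zero_eq_constantCoeff_apply, h0]
    · have h1 := congrArg (coeff n) hf
      have h2 := congrArg (coeff n) hg
      rw [coeff_eD, coeff_mul] at h1 h2
      have h3 : ∑ p ∈ Finset.HasAntidiagonal.antidiagonal n, coeff p.1 f * coeff p.2 M =
          ∑ p ∈ Finset.HasAntidiagonal.antidiagonal n, coeff p.1 g * coeff p.2 M := by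
        apply Finset.sum_congr rfl
        intro p hp
        rw [Finset.HasAntidiagonal.mem_antidiagonal] at hp
        by_cases hp1 : p.1 < n
        · rw [ih p.1 hp1]
        · have hp2 : p.2 = 0 := by omega
          rw [hp2, coeff_zero_eq_constantCoeff_apply, hM, mul_zero, mul_zero]
      rw [h3, ← h2] at h1
      have hn0 : (n : F) ≠ 0 := Nat.cast_ne_zero.mpr hn.ne'
      exact mul_left_cancel₀ hn0 h1

/-- Cancelling a nonzero factor. -/
theorem eq_of_mul_eq {f M M' : F⟦X⟧} (hf : f ≠ 0) (h : f * M = f * M') : M = M' :=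
  mul_left_cancel₀ hf h

end Groth.Agent.Lib.Helper23.PS
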