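import Mathlib
import Groth.Prelude.Def_W4bk4goldsch45
import Groth.Agent.Lib.Helper23.FFKS3
import Groth.Agent.Lib.Helper23.FFZeta4

/-!
Completely split extensions of function fields over finite fields: pairs of effective divisors
downstairs inject into effective divisors upstairs.
-/

set_option autoImplicit false

namespace Groth.Agent.Lib.Helper23.FF

open FunFld Polynomial
open Groth.Agent.Lib.Helper27.FF

universe u v w z
variable {k : Type u} {K : Type v} {K' : Type w} {k' : Type z} [Field k] [Field K] [Field K']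
  [Algebra k K] [Algebra K K'] [Algebra k K'] [IsScalarTower k K K']
  [Field k'] [Algebra k k'] [Algebra k' K'] [IsScalarTower k k' K'] [Algebra.IsAlgebraic k k']

/-- Data: two sections of the "place below" map. -/
structure TwoSections (k : Type u) (K : Type v) (K' : Type w) (k' : Type z) [Field k] [Field K]
    [Field K'] [Algebra k K] [Algebra K K'] [Algebra k K'] [Field k'] [Algebra k k']
    [Algebra k' K'] [IsScalarTower k k' K'] where
  Q₁ : Place k K → Place k' K'
  Q₂ : Place k K → Place k' K'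
  over₁ : ∀ P, IsOver (Place.down (k := k) (Q₁ P)) P
  over₂ : ∀ P, IsOver (Place.down (k := k) (Q₂ P)) P
  deg₁ : ∀ P, (Place.down (k := k) (Q₁ P)).deg = P.deg
  deg₂ : ∀ P, (Place.down (k := k) (Q₂ P)).deg = P.deg
  ne : ∀ P, Q₁ P ≠ Q₂ P

namespace TwoSections

variable (T : TwoSections k K K' k')

include T in
theorem eq_of_over {Q : Place k' K'} {P P' : Place k K}
    (h : IsOver (Place.down (k := k) Q) P) (h' : IsOver (Place.down (k := k) Q) P') : P = P' := by
  obtain ⟨e, he⟩ := h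
  obtain ⟨e', he'⟩ := h'
  exact (isOverWith_unique he he').1

theorem inj₁ : Function.Injective T.Q₁ := by
  intro P P' h
  exact T.eq_of_over (T.over₁ P) (h ▸ T.over₁ P')

theorem inj₂ : Function.Injective T.Q₂ := by
  intro P P' h
  exact T.eq_of_over (T.over₂ P) (h ▸ T.over₂ P')

theorem ne' (P P' : Place k K) : T.Q₁ P ≠ T.Q₂ P' := by
  intro h
  have hPP' : P = P' := T.eq_of_over (T.over₁ P) (h ▸ T.over₂ P')
  subst hPP'
  exact T.ne P h

/-- The divisor upstairs attached to a pair of divisors downstairs. -/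
noncomputable def lift (D₁ D₂ : Divisor k K) : Divisor k' K' :=
  Finsupp.mapDomain T.Q₁ D₁ + Finsupp.mapDomain T.Q₂ D₂

theorem lift_apply₁ (D₁ D₂ : Divisor k K) (P : Place k K) : T.lift D₁ D₂ (T.Q₁ P) = D₁ P := by
  unfold lift
  rw [Finsupp.add_apply, Finsupp.mapDomain_apply T.inj₁, Finsupp.mapDomain_of_notMem_range,
    add_zero]
  rintro ⟨P', hP'⟩
  exact T.ne' P P' hP'.symm

theorem lift_apply₂ (D₁ D₂ : Divisor k K) (P : Place k K) : T.lift D₁ D₂ (T.Q₂ P) = D₂ P := by
  unfold lift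
  rw [Finsupp.add_apply, Finsupp.mapDomain_apply T.inj₂, Finsupp.mapDomain_of_notMem_range,
    zero_add]
  rintro ⟨P', hP'⟩
  exact T.ne' P' P hP'

theorem mapDomain_nonneg {α β : Type*} (f : α → β) {D : α →₀ ℤ} (hD : 0 ≤ D) :
    0 ≤ Finsupp.mapDomain f D := by
  classical
  intro b
  rw [Finsupp.mapDomain, Finsupp.sum, Finsupp.finset_sum_apply]
  apply Finset.sum_nonneg
  intro a _
  rw [Finsupp.single_apply]
  split_ifs
  · exact hD a
  · exact le_refl _

theorem lift_nonneg {D₁ D₂ : Divisor k K} (h₁ : 0 ≤ D₁) (h₂ : 0 ≤ D₂) : 0 ≤ T.lift D₁ D₂ :=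
  add_nonneg (mapDomain_nonneg _ h₁) (mapDomain_nonneg _ h₂)

theorem deg_mapDomain (Q : Place k K → Place k' K')
    (hdeg : ∀ P, (Place.down (k := k) (Q P)).deg = P.deg) (D : Divisor k K) :
    (Module.finrank k k' : ℤ) * FunFld.Divisor.deg (Finsupp.mapDomain Q D : Divisor k' K')
      = D.deg := by
  unfold Divisor.deg
  rw [Finsupp.sum_mapDomain_index (fun _ => zero_mul _) (fun _ _ _ => add_mul _ _ _),
    Finsupp.sum, Finsupp.sum, Finset.mul_sum]
  apply Finset.sum_congr rfl
  intro P _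
  have h1 := Place.deg_down (k := k) (Q P)
  rw [hdeg P] at h1
  rw [h1]
  push_cast
  ring

theorem deg_lift (D₁ D₂ : Divisor k K) :
    (Module.finrank k k' : ℤ) * (T.lift D₁ D₂).deg = D₁.deg + D₂.deg := by
  unfold lift
  rw [Groth.Agent.Lib.Helper27.FF.deg_add, mul_add, deg_mapDomain T.Q₁ T.deg₁,
    deg_mapDomain T.Q₂ T.deg₂]

include T in
/-- The counting inequality: sums of products of numbers of effective divisors downstairs are
bounded by numbers of effective divisors upstairs. -/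
theorem sum_effDivCount_mul_le [Finite k] [Finite k'] (hK : IsFunctionField k K)
    (hK' : IsFunctionField k' K') (N : ℕ) (J : Finset ℕ)
    (hJ : ∀ m ∈ J, m ≤ Module.finrank k k' * N) :
    ∑ m ∈ J, effDivCount k K m * effDivCount k K (Module.finrank k k' * N - m)
      ≤ effDivCount k' K' N := by
  classical
  set s := Module.finrank k k' with hs
  have hfin : Finite {D : Divisor k' K' // 0 ≤ D ∧ D.deg = N} := finite_effective_deg_eq hK' N
  have hfin' : ∀ n : ℕ, Finite {D : Divisor k K // 0 ≤ D ∧ D.deg = n} := fun n =>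
    finite_effective_deg_eq hK n
  have hs0 : (s : ℤ) ≠ 0 := by
    have : 0 < s := Module.finrank_pos
    exact_mod_cast this.ne'
  unfold effDivCount
  have h1 : ∑ m ∈ J, Nat.card {D : Divisor k K // 0 ≤ D ∧ D.deg = m} *
      Nat.card {D : Divisor k K // 0 ≤ D ∧ D.deg = ((s * N - m : ℕ) : ℤ)}
      = Nat.card (Σ m : J, {D : Divisor k K // 0 ≤ D ∧ D.deg = (m : ℕ)} ×
        {D : Divisor k K // 0 ≤ D ∧ D.deg = ((s * N - (m : ℕ) : ℕ) : ℤ)}) := by
    rw [Nat.card_sigma, ← Finset.sum_coe_sort J]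
    apply Finset.sum_congr rfl
    intro m _
    rw [Nat.card_prod]
  rw [h1]
  refine Nat.card_le_card_of_injective
    (fun x => (⟨T.lift x.2.1.1 x.2.2.1, T.lift_nonneg x.2.1.2.1 x.2.2.2.1, ?_⟩ :
      {D : Divisor k' K' // 0 ≤ D ∧ D.deg = N})) ?_
  · have h2 := T.deg_lift x.2.1.1 x.2.2.1
    rw [x.2.1.2.2, x.2.2.2.2] at h2
    have h3 : ((x.1 : ℕ) : ℤ) + ((s * N - (x.1 : ℕ) : ℕ) : ℤ) = (s : ℤ) * N := by
      have := hJ x.1 x.1.2
      push_cast [Nat.cast_sub this]
      ring
    rw [h3] at h2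
    exact mul_left_cancel₀ hs0 h2
  · rintro ⟨m, D₁, D₂⟩ ⟨m', D₁', D₂'⟩ h
    have h' : T.lift D₁.1 D₂.1 = T.lift D₁'.1 D₂'.1 := congrArg Subtype.val h
    have e1 : D₁.1 = D₁'.1 := by
      ext P
      rw [← T.lift_apply₁ D₁.1 D₂.1 P, h', T.lift_apply₁]
    have e2 : D₂.1 = D₂'.1 := by
      ext P
      rw [← T.lift_apply₂ D₁.1 D₂.1 P, h', T.lift_apply₂]
    have e3 : m = m' := by
      apply Subtype.ext
      have h4 := D₁.2.2
      rw [e1, D₁'.2.2] at h4
      exact_mod_cast h4.symm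
    subst e3
    have e1' : D₁ = D₁' := Subtype.ext e1
    have e2' : D₂ = D₂' := Subtype.ext e2
    rw [e1', e2']

end TwoSections

end Groth.Agent.Lib.Helper23.FF
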