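import Mathlib
import Groth.Prelude.Def_W4bk4goldsch45
import Groth.Agent.Lib.Helper23.FFKS4
import Groth.Agent.Lib.Helper23.FF4

/-!
Completely split extensions of function fields over finite fields do not exist: the counting
contradiction behind F. K. Schmidt's theorem.
-/

set_option autoImplicit false

namespace Groth.Agent.Lib.Helper23.FF

open FunFld Polynomial
open Groth.Agent.Lib.Helper27.FF

universe u v w z
variable {k : Type u} {K : Type v} [Field k] [Field K] [Algebra k K]

/-- Lower bound for the number of effective divisors of large degree divisible by `d`. -/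
theorem pow_le_effDivCount [Finite k] (hK : IsFunctionField k K) {d : ℕ} (Dd : Divisor k K)
    (hDd : Dd.deg = d) {m : ℕ} (hm : 2 * genus k K ≤ m) (hdm : d ∣ m) :
    Nat.card k ^ m ≤ (Nat.card k - 1) * effDivCount k K m * Nat.card k ^ genus k K := by
  obtain ⟨c, rfl⟩ := hdm
  have h₀ : Divisor.deg ((c : ℤ) • Dd) = ((d * c : ℕ) : ℤ) := by
    rw [deg_zsmul, hDd]
    push_cast
    ring
  have h1 := card_effective_eq hK (d * c) (by omega) _ h₀
  haveI := finite_Cl0 (k := k) hK
  have hh : 1 ≤ Nat.card (Cl0 k K) := Nat.card_pos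
  have hq : 2 ≤ Nat.card k := Finite.one_lt_card
  set q := Nat.card k with hqdef
  set g := genus k K with hgdef
  have h2 : d * c + 1 - g = (d * c - g) + 1 := by omega
  have h3 : q ^ (d * c - g) ≤ q ^ (d * c + 1 - g) - 1 := by
    rw [h2, pow_succ]
    have h5 : 1 ≤ q ^ (d * c - g) := Nat.one_le_pow _ _ (by omega)
    have h6 : q ^ (d * c - g) * 2 ≤ q ^ (d * c - g) * q := Nat.mul_le_mul_left _ hq
    omega
  have h4 : q ^ (d * c - g) ≤ (q - 1) * effDivCount k K (d * c) := by
    unfold effDivCount
    rw [h1]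
    calc q ^ (d * c - g) ≤ q ^ (d * c + 1 - g) - 1 := h3
      _ = 1 * (q ^ (d * c + 1 - g) - 1) := (one_mul _).symm
      _ ≤ Nat.card (Cl0 k K) * (q ^ (d * c + 1 - g) - 1) := Nat.mul_le_mul_right _ hh
  calc q ^ (d * c) = q ^ (d * c - g) * q ^ g := by
        rw [← pow_add]
        congr 1
        omega
    _ ≤ (q - 1) * effDivCount k K (d * c) * q ^ g := Nat.mul_le_mul_right _ h4

/-- Upper bound for the number of effective divisors of large degree. -/
theorem effDivCount_le [Finite k] (hK : IsFunctionField k K) (N : ℕ)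
    (hN : 2 * genus k K ≤ N + 1) :
    effDivCount k K N ≤ Nat.card (Cl0 k K) * Nat.card k ^ (N + 1) := by
  have hq : 2 ≤ Nat.card k := Finite.one_lt_card
  by_cases hex : ∃ D : Divisor k K, D.deg = N
  · obtain ⟨D₀, h₀⟩ := hex
    have h1 := card_effective_eq hK N hN D₀ h₀
    have h2 : effDivCount k K N ≤ (Nat.card k - 1) * effDivCount k K N :=
      Nat.le_mul_of_pos_left _ (by omega)
    unfold effDivCount at h2 ⊢
    rw [h1] at h2
    refine h2.trans (Nat.mul_le_mul_left _ ?_)
    exact (Nat.sub_le _ _).trans (Nat.pow_le_pow_right (by omega) (by omega))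
  · unfold effDivCount
    haveI : IsEmpty {D : Divisor k K // 0 ≤ D ∧ D.deg = N} := ⟨fun D => hex ⟨D.1, D.2.2⟩⟩
    rw [Nat.card_of_isEmpty]
    exact Nat.zero_le _

variable {K' : Type w} {k' : Type z} [Field K'] [Algebra K K'] [Algebra k K']
  [IsScalarTower k K K'] [Field k'] [Algebra k k'] [Algebra k' K'] [IsScalarTower k k' K']
  [Algebra.IsAlgebraic k k']

/-- Two disjoint degree-preserving sections of the "place below" map cannot exist. -/
theorem TwoSections.false [Finite k] [Finite k'] [FiniteDimensional k k']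
    (hK : IsFunctionField k K)
    (hK' : IsFunctionField k' K') (T : TwoSections k K K' k') {d : ℕ} (hd : 0 < d)
    (Dd : Divisor k K) (hDd : Dd.deg = d) : False := by
  classical
  set q := Nat.card k with hqdef
  set s := Module.finrank k k' with hsdef
  set g := genus k K with hgdef
  set g' := genus k' K' with hg'def
  set h' := Nat.card (Cl0 k' K') with hh'def
  have hq : 2 ≤ q := Finite.one_lt_card
  have hs : 1 ≤ s := Module.finrank_pos
  have hQ : Nat.card k' = q ^ s := Module.natCard_eq_pow_finrank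
  set j₀ := 2 * g + 1 with hj₀
  set B₀ := (q - 1) * (q - 1) * q ^ (2 * g) * h' * q ^ s with hB₀
  set T₀ := 2 * j₀ + B₀ + 2 * g' + 1 with hT₀
  set N := d * T₀ with hN
  have hsT : T₀ ≤ s * T₀ := Nat.le_mul_of_pos_left _ hs
  -- upper bound
  have hup : effDivCount k' K' N ≤ h' * q ^ (s * N) * q ^ s := by
    have h1 := effDivCount_le hK' N (by
      have : T₀ ≤ d * T₀ := Nat.le_mul_of_pos_left _ hd
      omega)
    rw [hQ, ← pow_mul, mul_add, mul_one, pow_add, ← mul_assoc] at h1
    exact h1
  -- the index set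
  set J : Finset ℕ := (Finset.Icc j₀ (s * T₀ - j₀)).image (fun j => d * j) with hJ
  have hJle : ∀ m ∈ J, m ≤ s * N := by
    intro m hm
    rw [hJ, Finset.mem_image] at hm
    obtain ⟨j, hj, rfl⟩ := hm
    rw [Finset.mem_Icc] at hj
    rw [hN, ← mul_assoc, mul_comm s d, mul_assoc]
    exact Nat.mul_le_mul_left _ (by omega)
  have hsum := T.sum_effDivCount_mul_le hK hK' N J hJle
  -- lower bound for each term
  have hterm : ∀ m ∈ J, q ^ (s * N) ≤ (q - 1) * (q - 1) * q ^ (2 * g) *
      (effDivCount k K m * effDivCount k K (s * N - m)) := by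
    intro m hm
    have hmle := hJle m hm
    rw [hJ, Finset.mem_image] at hm
    obtain ⟨j, hj, rfl⟩ := hm
    rw [Finset.mem_Icc] at hj
    have hdj : j ≤ d * j := Nat.le_mul_of_pos_left _ hd
    have e1 : s * N - d * j = d * (s * T₀ - j) := by
      rw [hN, ← mul_assoc, mul_comm s d, mul_assoc, ← Nat.mul_sub]
    have hdj' : s * T₀ - j ≤ d * (s * T₀ - j) := Nat.le_mul_of_pos_left _ hd
    have h1 := pow_le_effDivCount hK Dd hDd (m := d * j) (by omega) (dvd_mul_right _ _)
    have h2 := pow_le_effDivCount hK Dd hDd (m := d * (s * T₀ - j)) (by omega) (dvd_mul_right _ _)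
    rw [e1]
    have e2 : s * N = d * j + d * (s * T₀ - j) := by
      rw [← e1]
      omega
    calc q ^ (s * N) = q ^ (d * j) * q ^ (d * (s * T₀ - j)) := by rw [e2, pow_add]
      _ ≤ ((q - 1) * effDivCount k K (d * j) * q ^ g) *
          ((q - 1) * effDivCount k K (d * (s * T₀ - j)) * q ^ g) := Nat.mul_le_mul h1 h2
      _ = _ := by
        rw [two_mul, pow_add]
        ring
  have hcard : J.card = s * T₀ - j₀ + 1 - j₀ := by
    rw [hJ, Finset.card_image_of_injective _ (fun a b hab => Nat.eq_of_mul_eq_mul_left hd hab),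
      Nat.card_Icc]
  have hfinal : J.card * q ^ (s * N) ≤ B₀ * q ^ (s * N) := by
    calc J.card * q ^ (s * N) = ∑ _m ∈ J, q ^ (s * N) := by
          rw [Finset.sum_const, smul_eq_mul]
      _ ≤ ∑ m ∈ J, (q - 1) * (q - 1) * q ^ (2 * g) *
          (effDivCount k K m * effDivCount k K (s * N - m)) := Finset.sum_le_sum hterm
      _ = (q - 1) * (q - 1) * q ^ (2 * g) *
          ∑ m ∈ J, effDivCount k K m * effDivCount k K (s * N - m) := by rw [Finset.mul_sum]
      _ ≤ (q - 1) * (q - 1) * q ^ (2 * g) * effDivCount k' K' N := Nat.mul_le_mul_left _ hsum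
      _ ≤ (q - 1) * (q - 1) * q ^ (2 * g) * (h' * q ^ (s * N) * q ^ s) :=
          Nat.mul_le_mul_left _ hup
      _ = B₀ * q ^ (s * N) := by
        rw [hB₀]
        ring
  have hpos : 0 < q ^ (s * N) := Nat.pow_pos (by omega)
  have := Nat.le_of_mul_le_mul_right hfinal hpos
  rw [hcard] at this
  omega

end Groth.Agent.Lib.Helper23.FF
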