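import Mathlib
import Groth.Prelude.Def_W4bk4goldsch45
import Groth.Agent.Lib.Helper23.FFKS5

/-!
F. K. Schmidt's theorem: the degrees of the places of a function field over a finite field have
greatest common divisor one.
-/

set_option autoImplicit false

namespace Groth.Agent.Lib.Helper23.FF

open FunFld Polynomial
open Groth.Agent.Lib.Helper27.FF

universe u v
variable {k : Type u} {K : Type v} [Field k] [Field K] [Algebra k K]

/-- The degrees of the places cannot all be divisible by `d ≥ 2`. -/
theorem false_of_dvd_deg [Finite k] (hK : IsFunctionField k K) {d : ℕ} (hd : 2 ≤ d)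
    (hdvd : ∀ P : Place k K, d ∣ P.deg) (Dd : Divisor k K) (hDd : Dd.deg = d) : False := by
  classical
  have hd0 : d ≠ 0 := by omega
  set q := Nat.card k with hq
  have hq1 : 1 < q := Finite.one_lt_card
  have hN1 : 1 < q ^ d := Nat.one_lt_pow hd0 hq1
  set f : K[X] := X ^ (q ^ d) - X with hf
  obtain ⟨p, hp⟩ := CharP.exists k
  haveI : Fact p.Prime := ⟨CharP.char_is_prime k p⟩
  haveI : CharP K p := charP_of_injective_algebraMap (algebraMap k K).injective p
  letI := Fintype.ofFinite k
  obtain ⟨a, hpa, hqa⟩ := FiniteField.card k p
  have hqp : p ∣ q ^ d := by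
    rw [hq, Nat.card_eq_fintype_card, hqa]
    exact dvd_pow (dvd_pow_self p a.ne_zero) hd0
  have hsep : f.Separable := galois_poly_separable p (q ^ d) hqp
  haveI : IsGalois K f.SplittingField := IsGalois.of_separable_splitting_field (p := f) hsep
  have hsplit : (f.map (algebraMap K f.SplittingField)).Splits := SplittingField.splits f
  have hgen : Algebra.adjoin K (f.rootSet f.SplittingField) = ⊤ := SplittingField.adjoin_rootSet f
  -- the degree is at least two
  have hdeg : f.natDegree = q ^ d := FiniteField.X_pow_card_sub_X_natDegree_eq K hN1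
  have hcardroots : Fintype.card (f.rootSet f.SplittingField) = q ^ d := by
    rw [card_rootSet_eq_natDegree hsep hsplit, hdeg]
  have hn : 2 ≤ Module.finrank K f.SplittingField := by
    have hpos : 0 < Module.finrank K f.SplittingField := Module.finrank_pos
    by_contra hlt
    have h1 : Module.finrank K f.SplittingField = 1 := by omega
    -- every root is in the image of k
    have hroot : ∀ θ : f.rootSet f.SplittingField, ∃ c : k,
        algebraMap k f.SplittingField c = (θ : f.SplittingField) := by
      intro θ
      have hθ := θ.2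
      rw [mem_rootSet] at hθ
      have hθ' : (θ : f.SplittingField) ^ (q ^ d) = θ := by
        have h2 := hθ.2
        have h3 : aeval (θ : f.SplittingField) f = (θ : f.SplittingField) ^ (q ^ d) - θ := by
          simp [f]
        rwa [h3, sub_eq_zero] at h2
      have hsurj : Function.Surjective (algebraMap K f.SplittingField) := by
        have hbot : (⊥ : Subalgebra K f.SplittingField) = ⊤ :=
          Subalgebra.bot_eq_top_of_finrank_eq_one h1
        intro z
        have : z ∈ (⊥ : Subalgebra K f.SplittingField) := by rw [hbot]; exact Algebra.mem_top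
        exact Algebra.mem_bot.mp this
      obtain ⟨y, hy⟩ := hsurj θ
      have hyalg : IsAlgebraic k y := by
        have hy' : y ^ (q ^ d) = y := by
          apply (algebraMap K f.SplittingField).injective
          rw [map_pow, hy, hθ']
        exact isAlgebraic_of_pow_eq (k := k) hN1 hy'
      obtain ⟨c, hc⟩ := hK.2 y hyalg
      refine ⟨c, ?_⟩
      rw [IsScalarTower.algebraMap_apply k K f.SplittingField, hc, hy]
    choose c hc using hroot
    have hinj : Function.Injective c := by
      intro θ θ' h
      apply Subtype.ext
      rw [← hc θ, ← hc θ', h]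
    have hle := Fintype.card_le_of_injective c hinj
    rw [hcardroots, ← Nat.card_eq_fintype_card, ← hq] at hle
    have : q < q ^ d := by
      calc q = q ^ 1 := (pow_one q).symm
        _ < q ^ d := Nat.pow_lt_pow_right hq1 (by omega)
    omega
  -- the constant field upstairs
  obtain ⟨hK', hfin⟩ := isFunctionField_algebraicClosure (K' := f.SplittingField) hK
  haveI := hfin
  haveI : Algebra.IsAlgebraic k (algebraicClosure k f.SplittingField) :=
    Algebra.IsAlgebraic.of_finite _ _
  haveI : Finite (algebraicClosure k f.SplittingField) := Module.finite_of_finite k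
  -- two sections
  have hsec : ∀ P : Place k K, ∃ Q₁ Q₂ : Place k f.SplittingField,
      IsOver Q₁ P ∧ IsOver Q₂ P ∧ Q₁.deg = P.deg ∧ Q₂.deg = P.deg ∧ Q₁ ≠ Q₂ := by
    intro P
    obtain ⟨h1, h2⟩ := card_over_and_deg (K' := f.SplittingField) hK hd0 hsplit hgen (hdvd P)
    have h3 : 1 < Nat.card {Q : Place k f.SplittingField // IsOver Q P} := by
      rw [h1]
      omega
    haveI : Finite {Q : Place k f.SplittingField // IsOver Q P} :=
      Nat.finite_of_card_ne_zero (by omega)
    rw [Finite.one_lt_card_iff_nontrivial] at h3
    obtain ⟨Q₁, Q₂, hne⟩ := exists_pair_ne {Q : Place k f.SplittingField // IsOver Q P}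
    exact ⟨Q₁.1, Q₂.1, Q₁.2, Q₂.2, h2 _ Q₁.2, h2 _ Q₂.2, fun h => hne (Subtype.ext h)⟩
  choose Q₁ Q₂ hover₁ hover₂ hdeg₁ hdeg₂ hne using hsec
  let T : TwoSections k K f.SplittingField (algebraicClosure k f.SplittingField) :=
    { Q₁ := fun P => Place.up (Q₁ P)
      Q₂ := fun P => Place.up (Q₂ P)
      over₁ := fun P => by rw [Place.down_up]; exact hover₁ P
      over₂ := fun P => by rw [Place.down_up]; exact hover₂ P
      deg₁ := fun P => by rw [Place.down_up]; exact hdeg₁ P
      deg₂ := fun P => by rw [Place.down_up]; exact hdeg₂ P
      ne := fun P h => hne P (by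
        have := congrArg (Place.down (k := k)) h
        rwa [Place.down_up, Place.down_up] at this) }
  exact T.false hK hK' (by omega : 0 < d) Dd hDd

end Groth.Agent.Lib.Helper23.FF
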