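import Mathlib
import Groth.Prelude.Def_W4bk4goldsch45
import Groth.Agent.Lib.Helper23.FFKS6

/-!
F. K. Schmidt's theorem: over a finite constant field there are divisors of every degree.
-/

set_option autoImplicit false

namespace Groth.Agent.Lib.Helper23.FF

open FunFld

universe u v
variable {k : Type u} {K : Type v} [Field k] [Field K] [Algebra k K]

theorem exists_divisor_deg_eq_one [Finite k] (hK : IsFunctionField k K) :
    ∃ D : Divisor k K, D.deg = 1 := by
  classical
  have C := Groth.Agent.Lib.Helper27.FF.core_of hK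
  obtain ⟨P₀⟩ := C.exists_place
  have hP₀ : 1 ≤ P₀.deg := C.one_le_deg P₀
  have hex : ∃ n : ℕ, 0 < n ∧ ∃ D : FunFld.Divisor k K, D.deg = n := by
    refine ⟨P₀.deg, hP₀, Finsupp.single P₀ 1, ?_⟩
    rw [Groth.Agent.Lib.Helper27.FF.deg_single, one_mul]
  set d := Nat.find hex with hd
  obtain ⟨hd0, Dd, hDd⟩ := Nat.find_spec hex
  have hDd' : Dd.deg = (d : ℤ) := hDd
  have hmin : ∀ n : ℕ, 0 < n → (∃ D : FunFld.Divisor k K, D.deg = n) → d ≤ n := fun n h0 h =>
    Nat.find_min' hex ⟨h0, h⟩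
  have hdvd : ∀ D : FunFld.Divisor k K, (d : ℤ) ∣ D.deg := by
    intro D
    have hdpos : (0 : ℤ) < d := by exact_mod_cast hd0
    have h1 := Int.emod_add_mul_ediv D.deg d
    have h2 := Int.emod_nonneg D.deg hdpos.ne'
    have h3 := Int.emod_lt_of_pos D.deg hdpos
    by_contra hnd
    have h4 : D.deg % d ≠ 0 := fun h => hnd (Int.dvd_of_emod_eq_zero h)
    have h5 : 0 < D.deg % d := lt_of_le_of_ne h2 (Ne.symm h4)
    have h6 : (D - (D.deg / d) • Dd).deg = ((D.deg % d).toNat : ℤ) := by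
      rw [deg_sub, deg_zsmul, hDd', Int.toNat_of_nonneg h2]
      linarith
    have h7 := hmin (D.deg % d).toNat (by omega) ⟨_, h6⟩
    omega
  have hdvdP : ∀ P : FunFld.Place k K, d ∣ P.deg := by
    intro P
    have h1 := hdvd (Finsupp.single P 1)
    rw [Groth.Agent.Lib.Helper27.FF.deg_single, one_mul] at h1
    exact_mod_cast h1
  have hd1 : d = 1 := by
    by_contra hne
    have hd2 : 2 ≤ d := by omega
    exact false_of_dvd_deg hK hd2 hdvdP Dd hDd'
  refine ⟨Dd, ?_⟩
  rw [hDd', hd1]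
  rfl

end Groth.Agent.Lib.Helper23.FF
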