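import Mathlib
import Groth.Prelude.Def_W4bk4goldsch45
import Groth.Agent.Lib.Helper23.FFZeta4
import Groth.Agent.Lib.Helper23.FF4

/-!
Function fields over finite fields: the number of effective divisors of any degree as a sum over
divisor classes, and the symmetry coming from the Riemann–Roch theorem.
-/

set_option autoImplicit false

namespace Groth.Agent.Lib.Helper23.FF

open FunFld
open scoped IntermediateField

universe u v
variable {k : Type u} {K : Type v} [Field k] [Field K] [Algebra k K]

/-- Linearly equivalent divisors have the same `ℓ`. -/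
theorem ell_eq_of_sub_mem_prinDivs (hK : IsFunctionField k K) {D D' : Divisor k K}
    (h : D - D' ∈ prinDivs k K) : ell D = ell D' := by
  rw [mem_prinDivs_iff hK] at h
  obtain ⟨x, hx, hxe⟩ := h
  have : D = D' + FunFld.div k x := by rw [← hxe]; abel
  rw [this, Groth.Agent.Lib.Helper27.FF.ell_add_div hK D' hx]

/-- An element of the degree-zero group with trivial class is principal. -/
theorem mem_prinDivs_of_mk_eq_zero {C : (FunFld.degHom k K).ker}
    (h : (QuotientAddGroup.mk C : Cl0 k K) = 0) : C.1 ∈ prinDivs k K := by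
  rw [QuotientAddGroup.eq_zero_iff, AddSubgroup.mem_addSubgroupOf] at h
  exact h

section
variable [Fintype (Cl0 k K)]

/-- The sum of `q ^ ℓ(c)` over the classes `c` of the degree of `D₀`. -/
noncomputable def classSum (D₀ : Divisor k K) : ℕ :=
  ∑ c : Cl0 k K, Nat.card k ^ ell (D₀ + (Quotient.out c : (FunFld.degHom k K).ker).1)

theorem deg_out (c : Cl0 k K) : (Quotient.out c : (FunFld.degHom k K).ker).1.deg = 0 := by
  have := (Quotient.out c : (FunFld.degHom k K).ker).2
  rwa [AddMonoidHom.mem_ker, prelude_degHom_apply] at this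

theorem classSum_of_deg_neg (hK : IsFunctionField k K) {D₀ : Divisor k K} (h : D₀.deg < 0) :
    classSum D₀ = Fintype.card (Cl0 k K) := by
  have C := Groth.Agent.Lib.Helper27.FF.core_of hK
  unfold classSum
  rw [Finset.card_univ.symm, Finset.card_eq_sum_ones]
  apply Finset.sum_congr rfl
  intro c _
  have hdeg : (D₀ + (Quotient.out c : (FunFld.degHom k K).ker).1).deg < 0 := by
    rw [Groth.Agent.Lib.Helper27.FF.deg_add, deg_out, add_zero]
    exact h
  rw [C.ell_eq_zero_of_deg_neg hdeg, pow_zero]

/-- Reindexing a class sum. -/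
theorem classSum_eq_of_equiv (D D' : Divisor k K) (φ : Cl0 k K ≃ Cl0 k K)
    (h : ∀ c, ell (D + (Quotient.out c : (FunFld.degHom k K).ker).1)
      = ell (D' + (Quotient.out (φ c) : (FunFld.degHom k K).ker).1)) :
    classSum D = classSum D' := by
  unfold classSum
  apply Fintype.sum_equiv φ
  intro c
  rw [h c]

/-- The number of effective divisors of degree `n` as a class sum. -/
theorem card_effective_general [Finite k] (hK : IsFunctionField k K) (n : ℕ)
    (D₀ : Divisor k K) (h₀ : D₀.deg = n) :
    (Nat.card k - 1) * effDivCount k K n + Fintype.card (Cl0 k K) = classSum D₀ := by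
  classical
  have CC := Groth.Agent.Lib.Helper27.FF.core_of hK
  haveI := finite_effective_deg_eq hK n
  have hq : 1 ≤ Nat.card k := Nat.card_pos
  have hfib : ∀ c : Cl0 k K,
      (Nat.card k - 1) * Nat.card {E : {D : Divisor k K // 0 ≤ D ∧ D.deg = n} //
        classMap D₀ n h₀ E = c} + 1
        = Nat.card k ^ ell (D₀ + (Quotient.out c : (FunFld.degHom k K).ker).1) := by
    intro c
    set C := (Quotient.out c : (FunFld.degHom k K).ker) with hC
    have hCc : (QuotientAddGroup.mk C : Cl0 k K) = c := QuotientAddGroup.out_eq' c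
    have hdeg : (D₀ + C.1).deg = n := by
      rw [Groth.Agent.Lib.Helper27.FF.deg_add, h₀, hC, deg_out, add_zero]
    have h1 := card_linSys hK (D₀ + C.1)
    have h2 : Nat.card {E : {D : Divisor k K // 0 ≤ D ∧ D.deg = n} //
        classMap D₀ n h₀ E = c} = Nat.card (linSys (D₀ + C.1)) := by
      refine Nat.card_congr ⟨fun E => ⟨E.1.1, (classMap_eq_iff hK D₀ n h₀ E.1 C).mp
          (E.2.trans hCc.symm)⟩,
        fun E' => ⟨⟨E'.1, E'.2.1, ?_⟩, ?_⟩, ?_, ?_⟩
      · obtain ⟨x, _, hxe⟩ := E'.2.2
        rw [hxe, Groth.Agent.Lib.Helper27.FF.deg_add, hdeg, CC.deg_div, add_zero]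
      · rw [← hCc, classMap_eq_iff hK]
        exact E'.2
      · intro E
        rfl
      · intro E'
        rfl
    rw [h2, h1]
    have : 1 ≤ Nat.card k ^ ell (D₀ + C.1) := Nat.one_le_pow _ _ hq
    omega
  unfold effDivCount classSum
  rw [Nat.card_congr (Equiv.sigmaFiberEquiv (classMap D₀ n h₀)).symm, Nat.card_sigma,
    Finset.mul_sum, Finset.card_univ.symm, Finset.card_eq_sum_ones, ← Finset.sum_add_distrib]
  exact Finset.sum_congr rfl (fun c _ => hfib c)

/-- The Riemann–Roch symmetry of class sums. -/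
theorem classSum_symm [Finite k] (hK : IsFunctionField k K) (D₁ : Divisor k K) (hD₁ : D₁.deg = 1)
    (n : ℤ) :
    (classSum (n • D₁) : ℚ) = (Nat.card k : ℚ) ^ (n + 1 - (genus k K : ℤ)) *
      classSum ((2 * (genus k K : ℤ) - 2 - n) • D₁) := by
  classical
  have CC := Groth.Agent.Lib.Helper27.FF.core_of hK
  obtain ⟨W, hW⟩ := CC.exists_isCanonical
  have hWdeg := CC.deg_canonical hW
  have hq0 : (Nat.card k : ℚ) ≠ 0 := by
    have : 0 < Nat.card k := Nat.card_pos
    exact_mod_cast this.ne'
  -- the class of W - (2g-2) D₁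
  have hw₀ : W - (2 * (genus k K : ℤ) - 2) • D₁ ∈ (FunFld.degHom k K).ker := by
    rw [AddMonoidHom.mem_ker, prelude_degHom_apply, deg_sub, deg_zsmul, hD₁, hWdeg]
    ring
  set w₀ : Cl0 k K := QuotientAddGroup.mk ⟨_, hw₀⟩ with hw₀def
  have hkey : ∀ c : Cl0 k K,
      (ell (n • D₁ + (Quotient.out c : (FunFld.degHom k K).ker).1) : ℤ)
        = n + 1 - genus k K + ell ((2 * (genus k K : ℤ) - 2 - n) • D₁ +
          (Quotient.out (w₀ - c) : (FunFld.degHom k K).ker).1) := by
    intro c
    have h1 := CC.riemann_roch hW (n • D₁ + (Quotient.out c : (FunFld.degHom k K).ker).1)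
    rw [Groth.Agent.Lib.Helper27.FF.deg_add, deg_zsmul, hD₁, deg_out, add_zero, mul_one] at h1
    rw [h1]
    congr 2
    apply ell_eq_of_sub_mem_prinDivs hK
    have h2 : W - (n • D₁ + (Quotient.out c : (FunFld.degHom k K).ker).1) -
        ((2 * (genus k K : ℤ) - 2 - n) • D₁ +
          (Quotient.out (w₀ - c) : (FunFld.degHom k K).ker).1)
        = ((⟨_, hw₀⟩ - Quotient.out c - Quotient.out (w₀ - c) : (FunFld.degHom k K).ker) :
          Divisor k K) := by
      show _ = (W - (2 * (genus k K : ℤ) - 2) • D₁) -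
        (Quotient.out c : (FunFld.degHom k K).ker).1 -
        (Quotient.out (w₀ - c) : (FunFld.degHom k K).ker).1
      rw [sub_smul, sub_smul]
      abel
    rw [h2]
    apply mem_prinDivs_of_mk_eq_zero
    rw [QuotientAddGroup.mk_sub, QuotientAddGroup.mk_sub, QuotientAddGroup.out_eq',
      QuotientAddGroup.out_eq', ← hw₀def]
    abel
  unfold classSum
  push_cast
  rw [Finset.mul_sum]
  rw [← Fintype.sum_equiv (Equiv.subLeft w₀) _ (fun c' => (Nat.card k : ℚ) ^
      (n + 1 - (genus k K : ℤ)) * (Nat.card k : ℚ) ^ ell ((2 * (genus k K : ℤ) - 2 - n) • D₁ +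
          (Quotient.out c' : (FunFld.degHom k K).ker).1)) (fun c => rfl)]
  apply Finset.sum_congr rfl
  intro c _
  rw [Equiv.subLeft_apply, ← zpow_natCast, ← zpow_natCast, ← zpow_add₀ hq0, hkey c]

end

end Groth.Agent.Lib.Helper23.FF
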