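import Mathlib
import Groth.Prelude.Def_W4bk4goldsch45
import Groth.Agent.Lib.Helper23.FFZeta5
import Groth.Agent.Lib.Helper23.FFKS7

/-!
The numerator of the zeta function of a function field over a finite field: coefficients,
functional equation, value at one.
-/

set_option autoImplicit false

namespace Groth.Agent.Lib.Helper23.FF

open FunFld PowerSeries

universe u v
variable {k : Type u} {K : Type v} [Field k] [Field K] [Algebra k K]

theorem coeff_numer_aux (a : ℕ → ℤ) (q : ℤ) :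
    let L : PowerSeries ℤ := (1 - X) * (1 - C q * X) * PowerSeries.mk a
    coeff 0 L = a 0 ∧ coeff 1 L = a 1 - (q + 1) * a 0 ∧
    ∀ n, coeff (n + 2) L = a (n + 2) - (q + 1) * a (n + 1) + q * a n := by
  intro L
  have hL : L = PowerSeries.mk a - X * PowerSeries.mk a - C q * (X * PowerSeries.mk a)
      + C q * (X * (X * PowerSeries.mk a)) := by
    show (1 - X) * (1 - C q * X) * PowerSeries.mk a = _
    ring
  refine ⟨?_, ?_, ?_⟩
  · rw [hL]
    simp only [map_add, map_sub, coeff_C_mul, coeff_zero_X_mul, coeff_mk]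
    ring
  · rw [hL]
    show coeff (0 + 1) _ = _
    simp only [map_add, map_sub, coeff_C_mul, coeff_succ_X_mul, coeff_zero_X_mul, coeff_mk]
    ring
  · intro n
    rw [hL]
    show coeff ((n + 1) + 1) _ = _
    simp only [map_add, map_sub, coeff_C_mul, coeff_succ_X_mul, coeff_mk]
    ring

variable (k K) in
/-- The number of effective divisors of degree `n`, extended by zero to negative `n`. -/
noncomputable def aExt (n : ℤ) : ℤ := if 0 ≤ n then (effDivCount k K n.toNat : ℤ) else 0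

theorem aExt_natCast (n : ℕ) : aExt k K (n : ℤ) = effDivCount k K n := by
  unfold aExt
  rw [if_pos (Int.natCast_nonneg n), Int.toNat_natCast]

theorem aExt_of_neg {n : ℤ} (hn : n < 0) : aExt k K n = 0 := by
  unfold aExt
  rw [if_neg (not_le.mpr hn)]

/-- The coefficients of the numerator of the zeta function. -/
theorem coeff_numerZ (n : ℕ) :
    coeff n (numerZ k K) = aExt k K n - ((Nat.card k : ℤ) + 1) * aExt k K ((n : ℤ) - 1)
      + (Nat.card k : ℤ) * aExt k K ((n : ℤ) - 2) := by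
  obtain ⟨h0, h1, h2⟩ := coeff_numer_aux (fun n => (effDivCount k K n : ℤ)) (Nat.card k : ℤ)
  have hdef : numerZ k K = (1 - X) * (1 - C (Nat.card k : ℤ) * X) *
      PowerSeries.mk (fun n => (effDivCount k K n : ℤ)) := rfl
  rcases n with _ | _ | m
  · rw [hdef, h0, aExt_natCast, aExt_of_neg (n := ((0 : ℕ) : ℤ) - 1) (by norm_num),
      aExt_of_neg (n := ((0 : ℕ) : ℤ) - 2) (by norm_num)]
    ring
  · have e1 : (((0 + 1 : ℕ) : ℤ) - 1) = ((0 : ℕ) : ℤ) := by norm_num
    rw [hdef, h1, aExt_natCast, e1, aExt_natCast,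
      aExt_of_neg (n := ((0 + 1 : ℕ) : ℤ) - 2) (by norm_num)]
    ring
  · rw [hdef, h2 m]
    have e1 : (((m + 1 + 1 : ℕ) : ℤ) - 1) = ((m + 1 : ℕ) : ℤ) := by push_cast; ring
    have e2 : (((m + 1 + 1 : ℕ) : ℤ) - 2) = ((m : ℕ) : ℤ) := by push_cast; ring
    rw [e1, e2, aExt_natCast, aExt_natCast, aExt_natCast]

section
variable [Fintype (Cl0 k K)]

/-- Class sums indexed by the degree. -/
noncomputable def Bz (D₁ : Divisor k K) (n : ℤ) : ℤ := (classSum (n • D₁) : ℤ)

theorem Bz_of_neg (hK : IsFunctionField k K) (D₁ : Divisor k K) (hD₁ : D₁.deg = 1) {n : ℤ}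
    (hn : n < 0) : Bz D₁ n = Fintype.card (Cl0 k K) := by
  unfold Bz
  rw [classSum_of_deg_neg hK (by rw [deg_zsmul, hD₁, mul_one]; exact hn)]

theorem aExt_eq [Finite k] (hK : IsFunctionField k K) (D₁ : Divisor k K) (hD₁ : D₁.deg = 1)
    (n : ℤ) :
    ((Nat.card k : ℤ) - 1) * aExt k K n = Bz D₁ n - Fintype.card (Cl0 k K) := by
  by_cases hn : 0 ≤ n
  · obtain ⟨m, rfl⟩ := Int.eq_ofNat_of_zero_le hn
    have h1 := card_effective_general hK m ((m : ℤ) • D₁) (by rw [deg_zsmul, hD₁, mul_one])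
    have hq : 1 ≤ Nat.card k := Nat.card_pos
    rw [aExt_natCast]
    unfold Bz
    rw [← h1]
    push_cast [Nat.cast_sub hq]
    ring
  · rw [not_le] at hn
    rw [aExt_of_neg hn, Bz_of_neg hK D₁ hD₁ hn]
    ring

theorem Bz_symm [Finite k] (hK : IsFunctionField k K) (D₁ : Divisor k K) (hD₁ : D₁.deg = 1)
    (n : ℤ) :
    (Bz D₁ n : ℚ) = (Nat.card k : ℚ) ^ (n + 1 - (genus k K : ℤ)) *
      Bz D₁ (2 * (genus k K : ℤ) - 2 - n) := by
  unfold Bz
  have := classSum_symm hK D₁ hD₁ n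
  push_cast
  exact this

/-- `(q - 1)` times the `n`-th coefficient of the numerator, in terms of class sums. -/
noncomputable def betaz (D₁ : Divisor k K) (n : ℤ) : ℤ :=
  Bz D₁ n - ((Nat.card k : ℤ) + 1) * Bz D₁ (n - 1) + (Nat.card k : ℤ) * Bz D₁ (n - 2)

theorem coeff_numerZ_eq [Finite k] (hK : IsFunctionField k K) (D₁ : Divisor k K)
    (hD₁ : D₁.deg = 1) (n : ℕ) :
    ((Nat.card k : ℤ) - 1) * coeff n (numerZ k K) = betaz D₁ n := by
  rw [coeff_numerZ, mul_add, mul_sub, mul_left_comm, mul_left_comm _ (Nat.card k : ℤ),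
    aExt_eq hK D₁ hD₁, aExt_eq hK D₁ hD₁, aExt_eq hK D₁ hD₁]
  unfold betaz
  ring

theorem betaz_of_neg (hK : IsFunctionField k K) (D₁ : Divisor k K) (hD₁ : D₁.deg = 1) {n : ℤ}
    (hn : n < 0) : betaz D₁ n = 0 := by
  unfold betaz
  rw [Bz_of_neg hK D₁ hD₁ hn, Bz_of_neg hK D₁ hD₁ (by omega : n - 1 < 0),
    Bz_of_neg hK D₁ hD₁ (by omega : n - 2 < 0)]
  ring

theorem betaz_symm [Finite k] (hK : IsFunctionField k K) (D₁ : Divisor k K) (hD₁ : D₁.deg = 1)
    (n : ℤ) :
    (betaz D₁ n : ℚ) = (Nat.card k : ℚ) ^ (n - (genus k K : ℤ)) *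
      betaz D₁ (2 * (genus k K : ℤ) - n) := by
  have hq0 : (Nat.card k : ℚ) ≠ 0 := by
    have : 0 < Nat.card k := Nat.card_pos
    exact_mod_cast this.ne'
  unfold betaz
  push_cast
  rw [Bz_symm hK D₁ hD₁ n, Bz_symm hK D₁ hD₁ (n - 1), Bz_symm hK D₁ hD₁ (n - 2)]
  have e1 : n + 1 - (genus k K : ℤ) = (n - (genus k K : ℤ)) + 1 := by ring
  have e2 : n - 1 + 1 - (genus k K : ℤ) = n - (genus k K : ℤ) := by ring
  have e3 : n - 2 + 1 - (genus k K : ℤ) = (n - (genus k K : ℤ)) - 1 := by ring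
  have e4 : 2 * (genus k K : ℤ) - 2 - n = 2 * (genus k K : ℤ) - n - 2 := by ring
  have e5 : 2 * (genus k K : ℤ) - 2 - (n - 1) = 2 * (genus k K : ℤ) - n - 1 := by ring
  have e6 : 2 * (genus k K : ℤ) - 2 - (n - 2) = 2 * (genus k K : ℤ) - n := by ring
  rw [e1, e2, e3, e4, e5, e6, zpow_add_one₀ hq0, zpow_sub_one₀ hq0]
  field_simp
  ring

end

end Groth.Agent.Lib.Helper23.FF
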