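import Mathlib
import Groth.Prelude.Def_W4bk4goldsch45
import Groth.Agent.Lib.Helper23.FFZeta6

/-!
The numerator of the zeta function of a function field over a finite field: it is a polynomial of
degree `2g`, satisfies the functional equation, and its value at `1` is the class number.
-/

set_option autoImplicit false

namespace Groth.Agent.Lib.Helper23.FF

open FunFld PowerSeries

universe u v
variable {k : Type u} {K : Type v} [Field k] [Field K] [Algebra k K]

theorem card_sub_one_ne_zero [Finite k] : ((Nat.card k : ℤ) - 1) ≠ 0 := by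
  have : 1 < Nat.card k := Finite.one_lt_card
  omega

/-- The coefficients of the numerator beyond `2g` vanish. -/
theorem coeff_numerZ_eq_zero [Finite k] (hK : IsFunctionField k K) {n : ℕ}
    (hn : 2 * genus k K < n) : coeff n (numerZ k K) = 0 := by
  haveI := finite_Cl0 (k := k) hK
  letI := Fintype.ofFinite (Cl0 k K)
  obtain ⟨D₁, hD₁⟩ := exists_divisor_deg_eq_one hK
  have h1 := coeff_numerZ_eq hK D₁ hD₁ n
  have h2 := betaz_symm hK D₁ hD₁ n
  rw [betaz_of_neg hK D₁ hD₁ (by omega : 2 * (genus k K : ℤ) - n < 0)] at h2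
  rw [Int.cast_zero, mul_zero] at h2
  have h3 : betaz D₁ (n : ℤ) = 0 := by exact_mod_cast h2
  rw [h3] at h1
  exact (mul_eq_zero.mp h1).resolve_left card_sub_one_ne_zero

theorem effDivCount_zero (hK : IsFunctionField k K) : effDivCount k K 0 = 1 := by
  have C := Groth.Agent.Lib.Helper27.FF.core_of hK
  unfold effDivCount
  rw [Nat.card_eq_one_iff_unique]
  refine ⟨⟨?_⟩, ⟨⟨0, le_refl _, Groth.Agent.Lib.Helper27.FF.deg_zero⟩⟩⟩
  intro D D'
  apply Subtype.ext
  have h1 := Groth.Agent.Lib.Helper27.FF.eq_zero_of_nonneg_of_deg_eq_zero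
    (fun P => C.one_le_deg P) D.2.1 (by exact_mod_cast D.2.2)
  have h2 := Groth.Agent.Lib.Helper27.FF.eq_zero_of_nonneg_of_deg_eq_zero
    (fun P => C.one_le_deg P) D'.2.1 (by exact_mod_cast D'.2.2)
  rw [h1, h2]

theorem coeff_numerZ_zero (hK : IsFunctionField k K) : coeff 0 (numerZ k K) = 1 := by
  rw [coeff_numerZ, aExt_natCast, aExt_of_neg (n := ((0 : ℕ) : ℤ) - 1) (by norm_num),
    aExt_of_neg (n := ((0 : ℕ) : ℤ) - 2) (by norm_num), effDivCount_zero hK]
  norm_num

/-- The functional equation for the coefficients of the numerator. -/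
theorem coeff_numerZ_symm [Finite k] (hK : IsFunctionField k K) {i : ℕ}
    (hi : i ≤ 2 * genus k K) :
    ((coeff (2 * genus k K - i) (numerZ k K) : ℤ) : ℚ) =
      (Nat.card k : ℚ) ^ ((genus k K : ℤ) - i) * ((coeff i (numerZ k K) : ℤ) : ℚ) := by
  haveI := finite_Cl0 (k := k) hK
  letI := Fintype.ofFinite (Cl0 k K)
  obtain ⟨D₁, hD₁⟩ := exists_divisor_deg_eq_one hK
  have h1 := coeff_numerZ_eq hK D₁ hD₁ (2 * genus k K - i)
  have h2 := coeff_numerZ_eq hK D₁ hD₁ i
  have e1 : ((2 * genus k K - i : ℕ) : ℤ) = 2 * (genus k K : ℤ) - i := by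
    push_cast [Nat.cast_sub hi]
    ring
  have h3 := betaz_symm hK D₁ hD₁ (2 * (genus k K : ℤ) - i)
  rw [e1] at h1
  have e2 : 2 * (genus k K : ℤ) - (2 * (genus k K : ℤ) - i) = i := by ring
  have e3 : 2 * (genus k K : ℤ) - i - genus k K = (genus k K : ℤ) - i := by ring
  rw [e2, e3, ← h1, ← h2] at h3
  push_cast at h3
  have hq : ((Nat.card k : ℚ) - 1) ≠ 0 := by
    have := card_sub_one_ne_zero (k := k)
    exact_mod_cast this
  have h4 : ((Nat.card k : ℚ) - 1) * ((coeff (2 * genus k K - i) (numerZ k K) : ℤ) : ℚ) =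
      ((Nat.card k : ℚ) - 1) * ((Nat.card k : ℚ) ^ ((genus k K : ℤ) - i) *
        ((coeff i (numerZ k K) : ℤ) : ℚ)) := by
    rw [h3]
    ring
  exact mul_left_cancel₀ hq h4

theorem coeff_numerZ_top [Finite k] (hK : IsFunctionField k K) :
    coeff (2 * genus k K) (numerZ k K) = (Nat.card k : ℤ) ^ genus k K := by
  have h := coeff_numerZ_symm hK (i := 0) (Nat.zero_le _)
  rw [coeff_numerZ_zero hK] at h
  have h' : ((coeff (2 * genus k K) (numerZ k K) : ℤ) : ℚ) = (Nat.card k : ℚ) ^ genus k K := by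
    simpa using h
  exact_mod_cast h'

/-- Partial sums of the coefficients of the numerator telescope. -/
theorem sum_coeff_numerZ_telescope (M : ℕ) :
    ∑ n ∈ Finset.range (M + 1), coeff n (numerZ k K) =
      aExt k K M - (Nat.card k : ℤ) * aExt k K ((M : ℤ) - 1) := by
  induction M with
  | zero =>
    rw [Finset.sum_range_one, coeff_numerZ]
    rw [aExt_of_neg (n := ((0 : ℕ) : ℤ) - 1) (by norm_num),
      aExt_of_neg (n := ((0 : ℕ) : ℤ) - 2) (by norm_num)]
    ring
  | succ M ih =>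
    rw [Finset.sum_range_succ, ih, coeff_numerZ]
    have e1 : ((M + 1 : ℕ) : ℤ) - 1 = (M : ℤ) := by push_cast; ring
    have e2 : ((M + 1 : ℕ) : ℤ) - 2 = (M : ℤ) - 1 := by push_cast; ring
    rw [e1, e2]
    ring

/-- The sum of the coefficients of the numerator is the class number. -/
theorem sum_coeff_numerZ [Finite k] (hK : IsFunctionField k K) :
    ∑ n ∈ Finset.range (2 * genus k K + 1), coeff n (numerZ k K) = (classNum k K : ℤ) := by
  haveI := finite_Cl0 (k := k) hK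
  letI := Fintype.ofFinite (Cl0 k K)
  obtain ⟨D₁, hD₁⟩ := exists_divisor_deg_eq_one hK
  rw [sum_coeff_numerZ_telescope]
  have hcn : (classNum k K : ℤ) = (Fintype.card (Cl0 k K) : ℤ) := by
    unfold classNum
    rw [Nat.card_eq_fintype_card]
  have h1 := aExt_eq hK D₁ hD₁ ((2 * genus k K : ℕ) : ℤ)
  have h2 := aExt_eq hK D₁ hD₁ (((2 * genus k K : ℕ) : ℤ) - 1)
  have h3 := Bz_symm hK D₁ hD₁ ((2 * genus k K : ℕ) : ℤ)
  have h4 := Bz_symm hK D₁ hD₁ (((2 * genus k K : ℕ) : ℤ) - 1)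
  have e1 : 2 * (genus k K : ℤ) - 2 - ((2 * genus k K : ℕ) : ℤ) = -2 := by push_cast; ring
  have e2 : 2 * (genus k K : ℤ) - 2 - (((2 * genus k K : ℕ) : ℤ) - 1) = -1 := by push_cast; ring
  have e3 : ((2 * genus k K : ℕ) : ℤ) + 1 - (genus k K : ℤ) = (genus k K : ℤ) + 1 := by
    push_cast; ring
  have e4 : ((2 * genus k K : ℕ) : ℤ) - 1 + 1 - (genus k K : ℤ) = (genus k K : ℤ) := by
    push_cast; ring
  rw [e1, e3, Bz_of_neg hK D₁ hD₁ (n := -2) (by norm_num)] at h3
  rw [e2, e4, Bz_of_neg hK D₁ hD₁ (n := -1) (by norm_num)] at h4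
  have hq0 : (Nat.card k : ℚ) ≠ 0 := by
    have : 0 < Nat.card k := Nat.card_pos
    exact_mod_cast this.ne'
  have hq : ((Nat.card k : ℚ) - 1) ≠ 0 := by
    have := card_sub_one_ne_zero (k := k)
    exact_mod_cast this
  rw [zpow_add_one₀ hq0] at h3
  have h5 : (((Nat.card k : ℤ) - 1) * (aExt k K ((2 * genus k K : ℕ) : ℤ) -
      (Nat.card k : ℤ) * aExt k K (((2 * genus k K : ℕ) : ℤ) - 1)) : ℚ) =
      ((Nat.card k : ℤ) - 1) * (Fintype.card (Cl0 k K) : ℤ) := by
    have h1' : (((Nat.card k : ℤ) - 1) * aExt k K ((2 * genus k K : ℕ) : ℤ) : ℚ) =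
        Bz D₁ ((2 * genus k K : ℕ) : ℤ) - Fintype.card (Cl0 k K) := by exact_mod_cast h1
    have h2' : (((Nat.card k : ℤ) - 1) * aExt k K (((2 * genus k K : ℕ) : ℤ) - 1) : ℚ) =
        Bz D₁ (((2 * genus k K : ℕ) : ℤ) - 1) - Fintype.card (Cl0 k K) := by exact_mod_cast h2
    rw [mul_sub, mul_left_comm, h1', h2', h3, h4]
    push_cast
    ring
  rw [hcn]
  have h6 : ((Nat.card k : ℤ) - 1) * (aExt k K ((2 * genus k K : ℕ) : ℤ) -
      (Nat.card k : ℤ) * aExt k K (((2 * genus k K : ℕ) : ℤ) - 1)) =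
      ((Nat.card k : ℤ) - 1) * (Fintype.card (Cl0 k K) : ℤ) := by exact_mod_cast h5
  exact mul_left_cancel₀ card_sub_one_ne_zero h6

end Groth.Agent.Lib.Helper23.FF
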