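import Mathlib
import Groth.Prelude.Def_W4bk4goldsch45
import Groth.Agent.Lib.Helper23.FFDlog2
import Groth.Agent.Lib.Helper23.FFDlog3
import Groth.Agent.Lib.Helper23.FFZeta7

/-!
The logarithmic derivative of the zeta function over `ℂ`, and power sums of the reciprocal roots.
-/

set_option autoImplicit false

namespace Groth.Agent.Lib.Helper23.FF

open FunFld PowerSeries
open Groth.Agent.Lib.Helper23.PS

universe u v
variable {k : Type u} {K : Type v} [Field k] [Field K] [Algebra k K]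

/-- The zeta series over `ℂ`. -/
noncomputable def ZC (k : Type u) (K : Type v) [Field k] [Field K] [Algebra k K] : ℂ⟦X⟧ :=
  PowerSeries.map (Int.castRingHom ℂ) (zetaZ k K)

theorem coeff_ZC (n : ℕ) : coeff n (ZC k K) = (effDivCount k K n : ℂ) := by
  unfold ZC zetaZ
  rw [coeff_map, coeff_mk]
  simp

/-- The series `∑_{j ≥ 1} N_j X^j`. -/
noncomputable def MK [Finite k] (hK : IsFunctionField k K) : ℂ⟦X⟧ :=
  mk (fun j => if j = 0 then 0 else (Nw hK j : ℂ))

theorem coeff_MK [Finite k] (hK : IsFunctionField k K) (j : ℕ) :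
    coeff j (MK hK) = if j = 0 then 0 else (Nw hK j : ℂ) := by
  unfold MK
  rw [coeff_mk]

theorem constantCoeff_MK [Finite k] (hK : IsFunctionField k K) : constantCoeff (MK hK) = 0 := by
  rw [← coeff_zero_eq_constantCoeff_apply, coeff_MK, if_pos rfl]

theorem eD_ZC [Finite k] (hK : IsFunctionField k K) : eD (ZC k K) = ZC k K * MK hK := by
  ext n
  rw [coeff_eD, coeff_ZC, mul_comm (ZC k K), coeff_mul,
    Finset.Nat.sum_antidiagonal_eq_sum_range_succ (fun i j => coeff i (MK hK) * coeff j (ZC k K)),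
    Finset.sum_range_succ', coeff_MK, if_pos rfl, zero_mul, add_zero]
  have h := dlog_identity hK n
  have h2 : ∑ j ∈ Finset.Icc 1 n, Nw hK j * effDivCount k K (n - j) =
      ∑ j ∈ Finset.range n, Nw hK (j + 1) * effDivCount k K (n - (j + 1)) := by
    refine Finset.sum_nbij' (fun j => j - 1) (fun j => j + 1) ?_ ?_ ?_ ?_ ?_
    · intro j hj
      rw [Finset.mem_Icc] at hj
      rw [Finset.mem_range]
      omega
    · intro j hj
      rw [Finset.mem_range] at hj
      rw [Finset.mem_Icc]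
      omega
    · intro j hj
      rw [Finset.mem_Icc] at hj
      omega
    · intro j _
      omega
    · intro j hj
      rw [Finset.mem_Icc] at hj
      rw [Nat.sub_add_cancel hj.1]
  rw [h2] at h
  have h3 : ((n * effDivCount k K n : ℕ) : ℂ) =
      ((∑ j ∈ Finset.range n, Nw hK (j + 1) * effDivCount k K (n - (j + 1)) : ℕ) : ℂ) := by
    rw [h]
  push_cast at h3
  rw [h3]
  apply Finset.sum_congr rfl
  intro j _
  rw [coeff_MK, if_neg (Nat.succ_ne_zero j), coeff_ZC]

theorem constantCoeff_ZC (hK : IsFunctionField k K) : constantCoeff (ZC k K) = 1 := by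
  rw [← coeff_zero_eq_constantCoeff_apply, coeff_ZC, effDivCount_zero hK, Nat.cast_one]

/-- The numerator of the zeta series over `ℂ`. -/
theorem map_numerZ : PowerSeries.map (Int.castRingHom ℂ) (numerZ k K) =
    (1 - C (1 : ℂ) * X) * (1 - C (Nat.card k : ℂ) * X) * ZC k K := by
  unfold numerZ ZC
  rw [map_mul, map_mul, map_sub, map_sub, map_one, map_mul, PowerSeries.map_X,
    PowerSeries.map_C]
  simp

/-- The product `∏ (1 - αᵢ X)` as a power series. -/
theorem coe_prod_one_sub {n : ℕ} (α : Fin n → ℂ) :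
    ((∏ i, (1 - Polynomial.C (α i) * Polynomial.X) : Polynomial ℂ) : ℂ⟦X⟧) =
      ∏ i, (1 - C (α i) * X) := by
  rw [← Polynomial.coeToPowerSeries.ringHom_apply, map_prod]
  apply Finset.prod_congr rfl
  intro i _
  rw [Polynomial.coeToPowerSeries.ringHom_apply]
  simp

theorem constantCoeff_prod_one_sub {n : ℕ} (α : Fin n → ℂ) :
    constantCoeff (∏ i, (1 - C (α i) * X) : ℂ⟦X⟧) = 1 := by
  rw [map_prod]
  apply Finset.prod_eq_one
  intro i _
  simp

theorem eD_prod_one_sub {n : ℕ} (α : Fin n → ℂ) :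
    eD (∏ i, (1 - C (α i) * X) : ℂ⟦X⟧) = (∏ i, (1 - C (α i) * X)) * ∑ i, geo (α i) :=
  eD_prod Finset.univ _ _ (fun i _ => eD_one_sub (α i))

/-- **Power sums.** If `L_K(t) = ∏ (1 - αᵢ t)` then `N_j = 1 + q^j - ∑ αᵢ^j`. -/
theorem MK_eq [Finite k] (hK : IsFunctionField k K) {n : ℕ} (α : Fin n → ℂ)
    (hα : PowerSeries.map (Int.castRingHom ℂ) (numerZ k K) =
      ((∏ i, (1 - Polynomial.C (α i) * Polynomial.X) : Polynomial ℂ) : ℂ⟦X⟧)) :
    MK hK = ∑ i, geo (α i) - geo 1 - geo (Nat.card k : ℂ) := by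
  rw [map_numerZ, coe_prod_one_sub] at hα
  have h1 : eD ((1 - C (1 : ℂ) * X) * (1 - C (Nat.card k : ℂ) * X) * ZC k K) =
      ((1 - C (1 : ℂ) * X) * (1 - C (Nat.card k : ℂ) * X) * ZC k K) *
        (geo 1 + geo (Nat.card k : ℂ) + MK hK) :=
    eD_mul_of (eD_mul_of (eD_one_sub 1) (eD_one_sub _)) (eD_ZC hK)
  rw [hα, eD_prod_one_sub] at h1
  have hne : (∏ i, (1 - C (α i) * X) : ℂ⟦X⟧) ≠ 0 := by
    intro h
    have := constantCoeff_prod_one_sub α
    rw [h, map_zero] at this
    exact zero_ne_one this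
  have h2 := eq_of_mul_eq hne h1
  rw [h2]
  ring

theorem Nw_eq [Finite k] (hK : IsFunctionField k K) {n : ℕ} (α : Fin n → ℂ)
    (hα : PowerSeries.map (Int.castRingHom ℂ) (numerZ k K) =
      ((∏ i, (1 - Polynomial.C (α i) * Polynomial.X) : Polynomial ℂ) : ℂ⟦X⟧))
    {j : ℕ} (hj : j ≠ 0) :
    (Nw hK j : ℂ) = 1 + (Nat.card k : ℂ) ^ j - ∑ i, α i ^ j := by
  have h := congrArg (coeff j) (MK_eq hK α hα)
  rw [coeff_MK, if_neg hj, map_sub, map_sub, map_sum, coeff_geo, coeff_geo, if_neg hj,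
    if_neg hj] at h
  rw [h, one_pow]
  have : ∑ i, coeff j (geo (α i)) = -∑ i, α i ^ j := by
    rw [← Finset.sum_neg_distrib]
    apply Finset.sum_congr rfl
    intro i _
    rw [coeff_geo, if_neg hj]
  rw [this]
  ring

end Groth.Agent.Lib.Helper23.FF
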