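import Mathlib
import Groth.Prelude.Def_W4bk4goldsch45
import Groth.Agent.Lib.Helper23.FFCE5
import Groth.Agent.Lib.Helper23.FFDlog4

/-!
The zeta function of a constant field extension.
-/

set_option autoImplicit false

namespace Groth.Agent.Lib.Helper23.FF

open FunFld PowerSeries
open Groth.Agent.Lib.Helper23.PS
open Groth.Agent.Lib.Helper27.FF

universe u v w z

variable {k : Type u} {K : Type v} {k' : Type w} {K' : Type z} [Field k] [Field K] [Field k']
  [Field K'] [Algebra k K] [Algebra k k'] [Algebra K K'] [Algebra k' K'] [Algebra k K']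
  [IsScalarTower k K K'] [IsScalarTower k k' K']

theorem numerZ_constExt_aux [Finite k] [Finite k'] (hK : IsFunctionField k K)
    (hK' : IsFunctionField k' K')
    (hgen : Algebra.adjoin K (Set.range (algebraMap k' K')) = ⊤)
    (hrank : Module.finrank K K' = Module.finrank k k') {N : ℕ} (α : Fin N → ℂ)
    (hα : PowerSeries.map (Int.castRingHom ℂ) (numerZ k K) =
      ((∏ i, (1 - Polynomial.C (α i) * Polynomial.X) : Polynomial ℂ) : ℂ⟦X⟧)) :
    PowerSeries.map (Int.castRingHom ℂ) (numerZ k' K') =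
      ((∏ i, (1 - Polynomial.C (α i ^ Module.finrank k k') * Polynomial.X) : Polynomial ℂ) :
        ℂ⟦X⟧) := by
  haveI : Module.Finite k k' := Module.Finite.of_finite
  set n := Module.finrank k k' with hn
  have hn0 : 0 < n := Module.finrank_pos
  have hcard : (Nat.card k' : ℂ) = (Nat.card k : ℂ) ^ n := by
    rw [Module.natCard_eq_pow_finrank (K := k) (V := k')]
    push_cast
    rfl
  have hMK' : MK hK' = ∑ i, geo (α i ^ n) - geo 1 - geo ((Nat.card k : ℂ) ^ n) := by
    ext j
    rw [coeff_MK, map_sub, map_sub, map_sum, coeff_geo, coeff_geo]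
    by_cases hj : j = 0
    · rw [if_pos hj, if_pos hj, if_pos hj]
      have : ∑ i, coeff j (geo (α i ^ n)) = 0 := by
        apply Finset.sum_eq_zero
        intro i _
        rw [coeff_geo, if_pos hj]
      rw [this]
      ring
    · rw [if_neg hj, if_neg hj, if_neg hj,
        Nw_constExt hK hK' hgen hrank j (Nat.one_le_iff_ne_zero.mpr hj),
        Nw_eq hK α hα (Nat.mul_ne_zero hj hn0.ne')]
      have : ∑ i, coeff j (geo (α i ^ n)) = -∑ i, α i ^ (j * n) := by
        rw [← Finset.sum_neg_distrib]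
        apply Finset.sum_congr rfl
        intro i _
        rw [coeff_geo, if_neg hj, ← pow_mul, mul_comm n j]
      rw [this, one_pow, ← pow_mul, mul_comm n j]
      ring
  rw [map_numerZ, coe_prod_one_sub, hcard]
  have h1 : eD ((1 - C (1 : ℂ) * X) * (1 - C ((Nat.card k : ℂ) ^ n) * X) * ZC k' K') =
      ((1 - C (1 : ℂ) * X) * (1 - C ((Nat.card k : ℂ) ^ n) * X) * ZC k' K') *
        (geo 1 + geo ((Nat.card k : ℂ) ^ n) + MK hK') :=
    eD_mul_of (eD_mul_of (eD_one_sub 1) (eD_one_sub _)) (eD_ZC hK')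
  have h2 : geo 1 + geo ((Nat.card k : ℂ) ^ n) + MK hK' = ∑ i, geo (α i ^ n) := by
    rw [hMK']
    ring
  rw [h2] at h1
  have h3 := eD_prod_one_sub (fun i => α i ^ n)
  refine eq_of_eD (M := ∑ i, geo (α i ^ n)) ?_ ?_ h1 h3
  · rw [map_sum]
    apply Finset.sum_eq_zero
    intro i _
    exact constantCoeff_geo _
  · rw [constantCoeff_prod_one_sub, map_mul, map_mul, constantCoeff_ZC hK']
    simp

end Groth.Agent.Lib.Helper23.FF
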