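import Mathlib
import Groth.Prelude.Def_W4bk4goldsch45
import Groth.Agent.Lib.Helper23.FFCE6

/-!
The number of rational places of a constant field extension.
-/

set_option autoImplicit false

namespace Groth.Agent.Lib.Helper23.FF

open FunFld PowerSeries
open Groth.Agent.Lib.Helper23.PS
open Groth.Agent.Lib.Helper27.FF
open scoped Classical

universe u v w z

theorem Nw_one {k : Type u} {K : Type v} [Field k] [Field K] [Algebra k K] [Finite k]
    (hK : IsFunctionField k K) :
    Nw hK 1 = Nat.card {P : Place k K // P.deg = 1} := by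
  have h1 : ∀ P ∈ (placeFinset hK 1).filter (fun P => P.deg ∣ 1), P.deg = 1 := by
    intro P hP
    rw [Finset.mem_filter] at hP
    exact Nat.dvd_one.mp hP.2
  unfold Nw
  rw [Finset.sum_congr rfl h1, Finset.sum_const, smul_eq_mul, mul_one,
    ← Nat.card_eq_finsetCard]
  refine Nat.card_congr (Equiv.subtypeEquivRight (fun P => ?_))
  rw [Finset.mem_filter, mem_placeFinset, Nat.dvd_one]
  constructor
  · exact fun h => h.2
  · exact fun h => ⟨h.le, h⟩

variable {k : Type u} {K : Type v} {k' : Type w} {K' : Type z} [Field k] [Field K] [Field k']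
  [Field K'] [Algebra k K] [Algebra k k'] [Algebra K K'] [Algebra k' K'] [Algebra k K']
  [IsScalarTower k K K'] [IsScalarTower k k' K']

theorem card_places_deg_one_constExt_aux [Finite k] [Finite k'] (hK : IsFunctionField k K)
    (hK' : IsFunctionField k' K')
    (hgen : Algebra.adjoin K (Set.range (algebraMap k' K')) = ⊤)
    (hrank : Module.finrank K K' = Module.finrank k k') {N : ℕ} (α : Fin N → ℂ)
    (hα : PowerSeries.map (Int.castRingHom ℂ) (numerZ k K) =
      ((∏ i, (1 - Polynomial.C (α i) * Polynomial.X) : Polynomial ℂ) : ℂ⟦X⟧)) :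
    (Nat.card {P : Place k' K' // P.deg = 1} : ℂ) =
      1 + (Nat.card k : ℂ) ^ Module.finrank k k' - ∑ i, α i ^ Module.finrank k k' := by
  haveI : Module.Finite k k' := Module.Finite.of_finite
  have hn0 : 0 < Module.finrank k k' := Module.finrank_pos
  rw [← Nw_one hK', Nw_constExt hK hK' hgen hrank 1 le_rfl, one_mul, Nw_eq hK α hα hn0.ne']

end Groth.Agent.Lib.Helper23.FF
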