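import Mathlib
import Groth.Prelude.Def_W4bk4goldsch45
import Groth.Agent.S11000
import Groth.Agent.Lib.Helper23.FFCE7

/-!
Hasse–Weil program, part E: constant field extensions of a function field over a finite field
constructed as splitting fields of `X^(q^s) - X`.
-/

set_option autoImplicit false

namespace Groth.Agent.Lib.Helper23.FF

open FunFld Polynomial IntermediateField
open Groth.Agent.Lib.Helper27.FF

universe u v w

section E1

variable {k : Type u} {K : Type v} {L : Type w} [Field k] [Field K] [Field L] [Algebra k K]
  [Algebra K L] [Algebra k L] [IsScalarTower k K L]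

/-- If `k` is algebraically closed in `K`, the minimal polynomial over `K` of an element algebraic
over `k` has coefficients in `k`. -/
theorem minpoly_eq_map_of_closed
    (hcl : ∀ y : K, IsAlgebraic k y → y ∈ Set.range (algebraMap k K)) {θ : L}
    (hθ : IsIntegral k θ) : minpoly K θ = (minpoly k θ).map (algebraMap k K) := by
  have hirr := Groth.Agent.S11000.irreducible_map hcl (minpoly.monic hθ) (minpoly.irreducible hθ)
  refine (minpoly.eq_of_irreducible_of_monic hirr ?_ ((minpoly.monic hθ).map _)).symm
  rw [aeval_map_algebraMap, minpoly.aeval]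

/-- If `L = K(θ)` with `θ` algebraic over `k`, then `[L : K] = [k(θ) : k]`. -/
theorem finrank_eq_natDegree_of_adjoin_eq_top
    (hcl : ∀ y : K, IsAlgebraic k y → y ∈ Set.range (algebraMap k K)) {θ : L}
    (hθ : IsIntegral k θ) (htop : K⟮θ⟯ = ⊤) :
    Module.finrank K L = (minpoly k θ).natDegree := by
  have h1 : Module.finrank K K⟮θ⟯ = (minpoly K θ).natDegree :=
    IntermediateField.adjoin.finrank hθ.tower_top
  rw [htop, IntermediateField.finrank_top', minpoly_eq_map_of_closed hcl hθ,
    natDegree_map] at h1
  exact h1

end E1

/-- Over a finite field there is an irreducible polynomial of every positive degree `s`; it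
divides `X^(q^s) - X`. -/
theorem exists_irreducible_natDegree_eq (k : Type u) [Field k] [Finite k] {s : ℕ} (hs : s ≠ 0) :
    ∃ g : k[X], g.Monic ∧ Irreducible g ∧ g.natDegree = s ∧ g ∣ X ^ (Nat.card k ^ s) - X := by
  obtain ⟨p, hp⟩ := CharP.exists k
  haveI : Fact p.Prime := ⟨CharP.char_is_prime k p⟩
  haveI : NeZero s := ⟨hs⟩
  obtain ⟨θ, hθ⟩ := Field.exists_primitive_element k (FiniteField.Extension k p s)
  have hint : IsIntegral k θ := Algebra.IsIntegral.isIntegral θ
  have hdeg : (minpoly k θ).natDegree = s := by
    rw [← IntermediateField.adjoin.finrank hint, hθ, IntermediateField.finrank_top',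
      FiniteField.finrank_extension]
  refine ⟨minpoly k θ, minpoly.monic hint, minpoly.irreducible hint, hdeg, ?_⟩
  rw [← (minpoly.irreducible hint).natDegree_dvd_iff_dvd_X_pow_card_pow_sub_X, hdeg]

end Groth.Agent.Lib.Helper23.FF
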