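import Mathlib
import Groth.Prelude.Def_W4bk4goldsch45
import Groth.Agent.Lib.Helper23.FFHW1

/-!
Hasse–Weil program, part E: the constant field extension `CE k K s` of degree `s`.
-/

set_option autoImplicit false

namespace Groth.Agent.Lib.Helper23.FF

open FunFld Polynomial IntermediateField
open Groth.Agent.Lib.Helper27.FF

universe u v w

/-- The constant field extension of degree `s` of a function field over a finite field. -/
def CE (k : Type u) (K : Type v) [Field k] [Field K] [Algebra k K] (s : ℕ) : Type v :=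
  (X ^ (Nat.card k ^ s) - X : K[X]).SplittingField

namespace CE

variable {k : Type u} {K : Type v} [Field k] [Field K] [Algebra k K] {s : ℕ}

noncomputable instance : Field (CE k K s) :=
  inferInstanceAs (Field (X ^ (Nat.card k ^ s) - X : K[X]).SplittingField)

noncomputable instance {R : Type*} [CommSemiring R] [Algebra R K] : Algebra R (CE k K s) :=
  inferInstanceAs (Algebra R (X ^ (Nat.card k ^ s) - X : K[X]).SplittingField)

instance {R : Type*} [CommSemiring R] [Algebra R K] : IsScalarTower R K (CE k K s) :=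
  inferInstanceAs (IsScalarTower R K (X ^ (Nat.card k ^ s) - X : K[X]).SplittingField)

instance {R R' : Type*} [CommSemiring R] [CommSemiring R'] [Algebra R K] [Algebra R' K]
    [Algebra R R'] [IsScalarTower R R' K] : IsScalarTower R R' (CE k K s) := by
  apply IsScalarTower.of_algebraMap_eq
  intro x
  rw [IsScalarTower.algebraMap_apply R K (CE k K s), IsScalarTower.algebraMap_apply R' K (CE k K s),
    IsScalarTower.algebraMap_apply R R' K]

instance : FiniteDimensional K (CE k K s) :=
  inferInstanceAs (FiniteDimensional K (X ^ (Nat.card k ^ s) - X : K[X]).SplittingField)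

instance (p : ℕ) [CharP K p] : CharP (CE k K s) p :=
  inferInstanceAs (CharP (X ^ (Nat.card k ^ s) - X : K[X]).SplittingField p)

theorem splits : ((X ^ (Nat.card k ^ s) - X : K[X]).map (algebraMap K (CE k K s))).Splits :=
  SplittingField.splits _

theorem adjoin_rootSet :
    Algebra.adjoin K ((X ^ (Nat.card k ^ s) - X : K[X]).rootSet (CE k K s)) = ⊤ :=
  SplittingField.adjoin_rootSet _

end CE

section

variable {k : Type u} {K : Type v} [Field k] [Field K] [Algebra k K]

/-- `[CE k K s : K] = s`, and `CE k K s = K(θ)` with `θ` of degree `s` over `k`. -/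
theorem CE_exists_gen [Finite k] (hK : IsFunctionField k K) {s : ℕ} (hs : s ≠ 0) :
    ∃ θ : CE k K s, IsIntegral k θ ∧ K⟮θ⟯ = ⊤ ∧ (minpoly k θ).natDegree = s := by
  classical
  have hq1 : 1 < Nat.card k := Finite.one_lt_card
  have hQ1 : 1 < Nat.card k ^ s := Nat.one_lt_pow hs hq1
  set f : K[X] := X ^ (Nat.card k ^ s) - X with hf
  have hf0 : f ≠ 0 := FiniteField.X_pow_card_sub_X_ne_zero K hQ1
  have hfdeg : f.natDegree = Nat.card k ^ s := FiniteField.X_pow_card_sub_X_natDegree_eq K hQ1
  have hsplit : (f.map (algebraMap K (CE k K s))).Splits := CE.splits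
  have hadj : Algebra.adjoin K (f.rootSet (CE k K s)) = ⊤ := CE.adjoin_rootSet
  obtain ⟨g, hgm, hgirr, hgdeg, hgdvd⟩ := exists_irreducible_natDegree_eq k hs
  -- a root of `g`
  have hfmap : f.map (algebraMap K (CE k K s)) =
      (X ^ (Nat.card k ^ s) - X : k[X]).map (algebraMap k (CE k K s)) := by
    simp only [hf, Polynomial.map_sub, Polynomial.map_pow, map_X]
  have hgsplit : (g.map (algebraMap k (CE k K s))).Splits := by
    refine Splits.of_dvd hsplit (map_ne_zero hf0) ?_
    rw [hfmap]
    exact Polynomial.map_dvd _ hgdvd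
  obtain ⟨θ, hθ⟩ := hgsplit.exists_eval_eq_zero (by
    rw [degree_map, degree_eq_natDegree hgm.ne_zero, hgdeg]
    exact_mod_cast hs)
  have hθ' : aeval θ g = 0 := by rw [aeval_def, eval₂_eq_eval_map]; exact hθ
  have hint : IsIntegral k θ := ⟨g, hgm, hθ'⟩
  have hmin : minpoly k θ = g := (minpoly.eq_of_irreducible_of_monic hgirr hθ' hgm).symm
  refine ⟨θ, hint, ?_, by rw [hmin, hgdeg]⟩
  -- the field `k(θ)` has `q^s` elements, all roots of `f`
  haveI : FiniteDimensional k k⟮θ⟯ := IntermediateField.adjoin.finiteDimensional hint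
  haveI : Finite k⟮θ⟯ := Module.finite_of_finite k
  have hcard : Nat.card k⟮θ⟯ = Nat.card k ^ s := by
    rw [Module.natCard_eq_pow_finrank (K := k) (V := k⟮θ⟯), IntermediateField.adjoin.finrank hint,
      hmin, hgdeg]
  have hsub : ((k⟮θ⟯ : IntermediateField k (CE k K s)) : Set (CE k K s)) ⊆ f.rootSet (CE k K s) := by
    intro x hx
    rw [mem_rootSet]
    refine ⟨hf0, ?_⟩
    letI := Fintype.ofFinite k⟮θ⟯
    have h1 : (⟨x, hx⟩ : k⟮θ⟯) ^ (Nat.card k ^ s) = ⟨x, hx⟩ := by
      rw [← hcard, Nat.card_eq_fintype_card]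
      exact FiniteField.pow_card _
    have h2 : x ^ (Nat.card k ^ s) = x := congrArg Subtype.val h1
    rw [hf, map_sub, map_pow, aeval_X, h2, sub_self]
  have heq : ((k⟮θ⟯ : IntermediateField k (CE k K s)) : Set (CE k K s)) = f.rootSet (CE k K s) := by
    apply Set.eq_of_subset_of_ncard_le hsub ?_ (rootSet_finite f _)
    have h1 : (f.rootSet (CE k K s)).ncard ≤ Nat.card k ^ s := by
      rw [rootSet_def, Set.ncard_coe_finset, ← hfdeg, ← natDegree_map (algebraMap K (CE k K s))]
      exact (Multiset.toFinset_card_le _).trans (card_roots' _)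
    have h2 : ((k⟮θ⟯ : IntermediateField k (CE k K s)) : Set (CE k K s)).ncard = Nat.card k ^ s := by
      rw [← hcard]
      rfl
    rw [h2]
    exact h1
  rw [eq_top_iff, ← IntermediateField.toSubalgebra_le_toSubalgebra, IntermediateField.top_toSubalgebra,
    ← hadj]
  apply Algebra.adjoin_le
  intro x hx
  rw [← heq] at hx
  have h1 : (k⟮θ⟯ : IntermediateField k (CE k K s)) ≤ (K⟮θ⟯).restrictScalars k := by
    rw [IntermediateField.adjoin_simple_le_iff]
    exact mem_adjoin_simple_self K θ
  exact h1 hx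

end

end Groth.Agent.Lib.Helper23.FF

namespace Groth.Agent.Lib.Helper23.FF

open FunFld Polynomial IntermediateField
open Groth.Agent.Lib.Helper27.FF

universe u v

section

variable {k : Type u} {K : Type v} [Field k] [Field K] [Algebra k K]

/-- The constant field of `CE k K s`. -/
noncomputable abbrev CEκ (k : Type u) (K : Type v) [Field k] [Field K] [Algebra k K] (s : ℕ) :
    IntermediateField k (CE k K s) := algebraicClosure k (CE k K s)

theorem CE_isFunctionField (hK : IsFunctionField k K) (s : ℕ) :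
    IsFunctionField (CEκ k K s) (CE k K s) ∧ FiniteDimensional k (CEκ k K s) :=
  isFunctionField_algebraicClosure hK

theorem CE_finrank [Finite k] (hK : IsFunctionField k K) {s : ℕ} (hs : s ≠ 0) :
    Module.finrank K (CE k K s) = s := by
  obtain ⟨θ, hint, htop, hdeg⟩ := CE_exists_gen hK hs
  rw [finrank_eq_natDegree_of_adjoin_eq_top hK.2 hint htop, hdeg]

theorem CE_hgen [Finite k] (hK : IsFunctionField k K) {s : ℕ} (hs : s ≠ 0) :
    Algebra.adjoin K (Set.range (algebraMap (CEκ k K s) (CE k K s))) = ⊤ := by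
  obtain ⟨θ, hint, htop, hdeg⟩ := CE_exists_gen hK hs
  have h1 : Algebra.adjoin K {θ} = ⊤ := by
    rw [← IntermediateField.adjoin_simple_toSubalgebra_of_isAlgebraic hint.tower_top.isAlgebraic, htop,
      IntermediateField.top_toSubalgebra]
  rw [eq_top_iff, ← h1]
  apply Algebra.adjoin_mono
  intro x hx
  rw [Set.mem_singleton_iff] at hx
  rw [hx]
  exact ⟨⟨θ, (mem_algebraicClosure_iff).mpr hint.isAlgebraic⟩, rfl⟩

theorem CE_finrank_κ [Finite k] (hK : IsFunctionField k K) {s : ℕ} (hs : s ≠ 0) :
    Module.finrank k (CEκ k K s) = s := by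
  obtain ⟨θ, hint, htop, hdeg⟩ := CE_exists_gen hK hs
  obtain ⟨-, hfin⟩ := CE_isFunctionField hK s
  haveI := hfin
  haveI : Finite (CEκ k K s) := Module.finite_of_finite k
  obtain ⟨δ, hδ⟩ := Field.exists_primitive_element k (CEκ k K s)
  have hδint : IsIntegral k δ := Algebra.IsIntegral.isIntegral δ
  have hδ'int : IsIntegral k (δ : CE k K s) := by
    have := hδint.map (CEκ k K s).val
    exact this
  have hmin : minpoly k (δ : CE k K s) = minpoly k δ :=
    minpoly.algebraMap_eq (algebraMap (CEκ k K s) (CE k K s)).injective δ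
  have h1 : Module.finrank k (CEκ k K s) = (minpoly k δ).natDegree := by
    rw [← IntermediateField.adjoin.finrank hδint, hδ, IntermediateField.finrank_top']
  have hθmem : θ ∈ (k⟮(δ : CE k K s)⟯ : IntermediateField k (CE k K s)) := by
    have h2 : (k⟮δ⟯ : IntermediateField k (CEκ k K s)).map (CEκ k K s).val =
        k⟮(δ : CE k K s)⟯ := by
      rw [IntermediateField.adjoin_map, Set.image_singleton]
      rfl
    rw [← h2, hδ]
    exact ⟨⟨θ, (mem_algebraicClosure_iff).mpr hint.isAlgebraic⟩, trivial, rfl⟩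
  have htop' : K⟮(δ : CE k K s)⟯ = ⊤ := by
    rw [eq_top_iff, ← htop, IntermediateField.adjoin_simple_le_iff]
    have h3 : (k⟮(δ : CE k K s)⟯ : IntermediateField k (CE k K s)) ≤
        (K⟮(δ : CE k K s)⟯).restrictScalars k := by
      rw [IntermediateField.adjoin_simple_le_iff]
      exact mem_adjoin_simple_self K _
    exact h3 hθmem
  have h4 := finrank_eq_natDegree_of_adjoin_eq_top hK.2 hδ'int htop'
  rw [h1, ← hmin, ← h4, CE_finrank hK hs]

end

end Groth.Agent.Lib.Helper23.FF
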