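import Mathlib

/-!
Self-reciprocal polynomials: `∑ cᵢ Xⁱ` with `c_{2g-i} = q^{g-i} cᵢ` is `X^g S(1/X + qX)` for a
polynomial `S` of degree `g`.
-/

set_option autoImplicit false

namespace Groth.Agent.Lib.Helper23.Pal

open Polynomial

variable {F : Type*} [CommRing F]

/-- `psi q m S = X^m S((1 + q X²)/X)`. -/
noncomputable def psi (q : F) (m : ℕ) (S : F[X]) : F[X] :=
  MvPolynomial.aeval ![1 + C q * X ^ 2, X] (S.homogenize m)

theorem psi_add (q : F) (m : ℕ) (S T : F[X]) : psi q m (S + T) = psi q m S + psi q m T := by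
  unfold psi
  rw [homogenize_add, map_add]

theorem psi_sub (q : F) (m : ℕ) (S T : F[X]) : psi q m (S - T) = psi q m S - psi q m T := by
  unfold psi
  rw [homogenize_sub, map_sub]

theorem psi_C_mul (q : F) (m : ℕ) (a : F) (S : F[X]) : psi q m (C a * S) = C a * psi q m S := by
  unfold psi
  rw [homogenize_C_mul, map_mul, MvPolynomial.aeval_C]
  rfl

theorem psi_finsetSum {ι : Type*} (q : F) (m : ℕ) (s : Finset ι) (S : ι → F[X]) :
    psi q m (∑ i ∈ s, S i) = ∑ i ∈ s, psi q m (S i) := by
  unfold psi
  rw [homogenize_finsetSum, map_sum]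

theorem psi_C (q : F) (m : ℕ) (a : F) : psi q m (C a) = C a * X ^ m := by
  unfold psi
  rw [homogenize_C, map_mul, map_pow, MvPolynomial.aeval_C, MvPolynomial.aeval_X]
  rfl

theorem psi_X_mul (q : F) {m : ℕ} {S : F[X]} (hS : S.natDegree ≤ m) :
    psi q (m + 1) (X * S) = (1 + C q * X ^ 2) * psi q m S := by
  unfold psi
  rw [Nat.add_comm m 1, homogenize_mul X S (natDegree_X_le) hS, homogenize_X one_ne_zero, map_mul,
    map_mul, map_pow, MvPolynomial.aeval_X, MvPolynomial.aeval_X]
  simp

theorem psi_succ (q : F) {m : ℕ} {S : F[X]} (hS : S.natDegree ≤ m) :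
    psi q (m + 1) S = X * psi q m S := by
  unfold psi
  have h1 : S = 1 * S := (one_mul S).symm
  conv_lhs => rw [h1]
  rw [Nat.add_comm m 1, homogenize_mul 1 S (by simp) hS, homogenize_one, map_mul, map_pow,
    MvPolynomial.aeval_X]
  simp

theorem psi_add_lift (q : F) {m : ℕ} {S : F[X]} (hS : S.natDegree ≤ m) (j : ℕ) :
    psi q (m + j) S = X ^ j * psi q m S := by
  induction j with
  | zero => simp
  | succ j ih =>
    rw [← Nat.add_assoc, psi_succ q (hS.trans (Nat.le_add_right m j)), ih, pow_succ]
    ring

/-- Dickson polynomials. -/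
noncomputable def dick (q : F) : ℕ → F[X]
  | 0 => 2
  | 1 => X
  | (m + 2) => X * dick q (m + 1) - C q * dick q m

theorem dick_zero (q : F) : dick q 0 = 2 := by
  unfold dick
  rfl

theorem dick_one (q : F) : dick q 1 = X := by
  unfold dick
  rfl

theorem dick_succ_succ (q : F) (m : ℕ) :
    dick q (m + 2) = X * dick q (m + 1) - C q * dick q m := by
  conv_lhs => unfold dick

theorem natDegree_dick_le (q : F) (m : ℕ) : (dick q m).natDegree ≤ m := by
  induction m using Nat.strong_induction_on with
  | _ m ih =>
    rcases m with _ | _ | m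
    · rw [dick_zero]
      have h2 : (2 : F[X]) = C 2 := (map_ofNat C 2).symm
      rw [h2, natDegree_C]
    · rw [dick_one]
      exact natDegree_X_le
    · rw [dick_succ_succ]
      apply (natDegree_sub_le _ _).trans
      apply max_le
      · apply natDegree_mul_le.trans
        have := ih (m + 1) (by omega)
        have h2 : (X : F[X]).natDegree ≤ 1 := natDegree_X_le
        omega
      · apply (natDegree_C_mul_le _ _).trans
        have := ih m (by omega)
        omega

theorem coeff_dick (q : F) {m : ℕ} (hm : 1 ≤ m) : (dick q m).coeff m = 1 := by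
  induction m using Nat.strong_induction_on with
  | _ m ih =>
    rcases m with _ | _ | m
    · omega
    · rw [dick_one, coeff_X_one]
    · rw [dick_succ_succ, coeff_sub, coeff_X_mul, coeff_C_mul, ih (m + 1) (by omega) (by omega),
        coeff_eq_zero_of_natDegree_lt (lt_of_le_of_lt (natDegree_dick_le q m) (by omega))]
      ring

theorem psi_dick (q : F) (m : ℕ) : psi q m (dick q m) = 1 + C (q ^ m) * X ^ (2 * m) := by
  induction m using Nat.strong_induction_on with
  | _ m ih =>
    rcases m with _ | _ | m
    · rw [dick_zero]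
      have h2 : (2 : F[X]) = C 2 := (map_ofNat C 2).symm
      rw [h2, psi_C, ← h2]
      simp
      norm_num
    · rw [dick_one]
      have h1 : (X : F[X]) = X * 1 := (mul_one X).symm
      conv_lhs => rw [h1]
      rw [psi_X_mul q (S := 1) (by simp)]
      have : (1 : F[X]) = C 1 := by simp
      rw [this, psi_C]
      simp
    · rw [dick_succ_succ, psi_sub, psi_C_mul, psi_X_mul q (natDegree_dick_le q (m + 1)),
        ih (m + 1) (by omega)]
      have h2 : m + 2 = m + 1 + 1 := rfl
      rw [h2, psi_succ q ((natDegree_dick_le q m).trans (Nat.le_succ m)),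
        psi_succ q (natDegree_dick_le q m), ih m (by omega)]
      simp only [map_pow]
      ring

end Groth.Agent.Lib.Helper23.Pal
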