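import Mathlib
import Groth.Agent.Lib.Helper23.FFPal1

/-!
Self-reciprocal polynomials: decomposition and factorization into quadratic factors.
-/

set_option autoImplicit false

namespace Groth.Agent.Lib.Helper23.Pal

open Polynomial

variable {F : Type*} [CommRing F]

theorem psi_mul (q : F) {m n : ℕ} {S T : F[X]} (hS : S.natDegree ≤ m) (hT : T.natDegree ≤ n) :
    psi q (m + n) (S * T) = psi q m S * psi q n T := by
  unfold psi
  rw [homogenize_mul S T hS hT, map_mul]

theorem psi_one (q : F) : psi q 0 (1 : F[X]) = 1 := by
  have : (1 : F[X]) = C 1 := by simp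
  rw [this, psi_C]
  simp

theorem psi_X_sub_C (q β : F) : psi q 1 (X - C β) = 1 - C β * X + C q * X ^ 2 := by
  rw [psi_sub, psi_C]
  have h1 : (X : F[X]) = X * 1 := (mul_one X).symm
  conv_lhs => rw [h1]
  rw [show (1 : ℕ) = 0 + 1 from rfl, psi_X_mul q (S := 1) (by simp), psi_one]
  ring

/-- The substitution applied to a product of linear factors. -/
theorem psi_multiset_prod (q : F) (M : Multiset F) :
    psi q (Multiset.card M) ((M.map fun β => X - C β).prod) =
      (M.map fun β => 1 - C β * X + C q * X ^ 2).prod := by
  induction M using Multiset.induction_on with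
  | empty => simp [psi_one]
  | cons β M ih =>
    rw [Multiset.map_cons, Multiset.prod_cons, Multiset.map_cons, Multiset.prod_cons,
      Multiset.card_cons, Nat.add_comm, psi_mul q (m := 1) (natDegree_X_sub_C_le β) ?_, ih,
      psi_X_sub_C]
    apply (natDegree_multiset_prod_le _).trans
    rw [Multiset.map_map]
    apply (Multiset.sum_le_card_nsmul _ 1 ?_).trans
    · simp
    · intro x hx
      rw [Multiset.mem_map] at hx
      obtain ⟨b, _, rfl⟩ := hx
      exact natDegree_X_sub_C_le b

/-- A self-reciprocal polynomial is obtained by the substitution from a polynomial of half the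
degree. -/
theorem exists_psi_eq (q : F) (g : ℕ) (c : ℕ → F)
    (hc : ∀ i ≤ g, c (2 * g - i) = q ^ (g - i) * c i) :
    ∃ S : F[X], S.natDegree ≤ g ∧ S.coeff g = c 0 ∧
      ∑ i ∈ Finset.range (2 * g + 1), C (c i) * X ^ i = psi q g S := by
  refine ⟨C (c g) + ∑ m ∈ Finset.range g, C (c (g - 1 - m)) * dick q (m + 1), ?_, ?_, ?_⟩
  · apply (natDegree_add_le _ _).trans
    apply max_le
    · rw [natDegree_C]
      exact Nat.zero_le _
    · apply natDegree_sum_le_of_forall_le
      intro m hm
      rw [Finset.mem_range] at hm
      apply (natDegree_C_mul_le _ _).trans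
      exact (natDegree_dick_le q (m + 1)).trans (by omega)
  · rcases g with _ | g
    · simp
    · rw [coeff_add, coeff_C_ne_zero (by omega), zero_add, finset_sum_coeff,
        Finset.sum_eq_single g]
      · rw [coeff_C_mul, coeff_dick q (by omega)]
        simp
      · intro m hm hmg
        rw [Finset.mem_range] at hm
        rw [coeff_C_mul, coeff_eq_zero_of_natDegree_lt
          (lt_of_le_of_lt (natDegree_dick_le q (m + 1)) (by omega)), mul_zero]
      · intro h
        exact absurd (Finset.mem_range.mpr (Nat.lt_succ_self g)) h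
  · rw [psi_add, psi_C, psi_finsetSum]
    have h1 : 2 * g + 1 = g + (g + 1) := by ring
    rw [h1, Finset.sum_range_add, Finset.sum_range_succ', ← Finset.sum_range_reflect]
    rw [add_zero, ← add_assoc, ← Finset.sum_add_distrib, add_comm]
    congr 1
    apply Finset.sum_congr rfl
    intro m hm
    rw [Finset.mem_range] at hm
    have h2 : g = (m + 1) + (g - 1 - m) := by omega
    rw [psi_C_mul]
    conv_rhs => rw [h2, psi_add_lift q (natDegree_dick_le q (m + 1)), psi_dick]
    have h3 : c (g + (m + 1)) = q ^ (m + 1) * c (g - 1 - m) := by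
      have := hc (g - 1 - m) (by omega)
      have e1 : 2 * g - (g - 1 - m) = g + (m + 1) := by omega
      have e2 : g - (g - 1 - m) = m + 1 := by omega
      rw [e1, e2] at this
      exact this
    rw [h3]
    have e3 : g + (m + 1) = (g - 1 - m) + 2 * (m + 1) := by omega
    have e4 : (m + 1 + (g - 1 - m) - 1 - m) = g - 1 - m := by omega
    rw [e3, e4, pow_add]
    simp only [map_mul, map_pow]
    ring

end Groth.Agent.Lib.Helper23.Pal
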