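import Mathlib
import Groth.Agent.Lib.Helper23.FFPal2

/-!
Self-reciprocal polynomials over an algebraically closed field: reciprocal roots come in pairs
with product `q`.
-/

set_option autoImplicit false

namespace Groth.Agent.Lib.Helper23.Pal

open Polynomial

variable {F : Type*} [Field F] [IsAlgClosed F]

theorem exists_quadratic_roots (q β : F) : ∃ a a' : F, a + a' = β ∧ a * a' = q := by
  obtain ⟨a, ha⟩ := IsAlgClosed.exists_root (X ^ 2 - C β * X + C q : F[X]) (by
    have h1 : (X ^ 2 - C β * X + C q : F[X]).degree = 2 := by
      rw [sub_add, degree_sub_eq_left_of_degree_lt]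
      · exact degree_X_pow 2
      · rw [degree_X_pow]
        apply (degree_sub_le _ _).trans_lt
        apply max_lt
        · exact (degree_C_mul_X_le β).trans_lt (by norm_num)
        · exact degree_C_le.trans_lt (by norm_num)
    rw [h1]
    norm_num)
  refine ⟨a, β - a, by ring, ?_⟩
  simp only [IsRoot, eval_add, eval_sub, eval_pow, eval_X, eval_mul, eval_C] at ha
  linear_combination -ha

/-- List version. -/
theorem exists_list_reciprocal (q : F) (g : ℕ) (c : ℕ → F) (hc0 : c 0 = 1)
    (hc : ∀ i ≤ g, c (2 * g - i) = q ^ (g - i) * c i) :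
    ∃ l : List F, l.length = 2 * g ∧
      ∑ i ∈ Finset.range (2 * g + 1), C (c i) * X ^ i = (l.map fun a => 1 - C a * X).prod ∧
      ∀ (i : ℕ) (hi : i < l.length), l[i] * l[l.length - 1 - i]'(by omega) = q := by
  obtain ⟨S, hSdeg, hScoeff, hS⟩ := exists_psi_eq q g c hc
  rw [hc0] at hScoeff
  have hmonic : S.Monic := monic_of_natDegree_le_of_coeff_eq_one g hSdeg hScoeff
  have hsplit : S.Splits := IsAlgClosed.splits S
  have hSdeg' : S.natDegree = g := by
    apply le_antisymm hSdeg
    by_contra hlt
    rw [not_le] at hlt
    rw [coeff_eq_zero_of_natDegree_lt hlt] at hScoeff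
    exact zero_ne_one hScoeff
  have hcard : Multiset.card S.roots = g := by
    rw [← hsplit.natDegree_eq_card_roots, hSdeg']
  have hprod := hsplit.eq_prod_roots_of_monic hmonic
  choose a a' hsum hmul using exists_quadratic_roots q
  set l₀ := S.roots.toList with hl₀
  have hl₀len : l₀.length = g := by rw [hl₀, Multiset.length_toList, hcard]
  have hroots : S.roots = (l₀ : Multiset F) := by rw [hl₀, Multiset.coe_toList]
  refine ⟨l₀.map a ++ (l₀.map a').reverse, ?_, ?_, ?_⟩
  · rw [List.length_append, List.length_reverse, List.length_map, List.length_map, hl₀len]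
    ring
  · rw [hS]
    conv_lhs => rw [hprod, ← hcard, psi_multiset_prod, hroots]
    rw [Multiset.map_coe, Multiset.prod_coe, List.map_append, List.prod_append,
      List.map_reverse, List.prod_reverse, List.map_map, List.map_map, ← List.prod_map_mul]
    congr 1
    apply List.map_congr_left
    intro β _
    simp only [Function.comp_apply]
    have h1 : (C β : F[X]) = C (a β) + C (a' β) := by rw [← map_add, hsum]
    have h2 : (C q : F[X]) = C (a β) * C (a' β) := by rw [← map_mul, hmul]
    rw [h1, h2]
    ring
  · intro i hi
    have hlen : (l₀.map a ++ (l₀.map a').reverse).length = 2 * g := by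
      rw [List.length_append, List.length_reverse, List.length_map, List.length_map, hl₀len]
      ring
    have hi' : i < 2 * g := hlen ▸ hi
    simp only [hlen]
    by_cases hig : i < g
    · rw [List.getElem_append_left (by rw [List.length_map, hl₀len]; exact hig),
        List.getElem_append_right (by rw [List.length_map, hl₀len]; omega),
        List.getElem_reverse, List.getElem_map, List.getElem_map]
      have e1 : (l₀.map a').length - 1 - (2 * g - 1 - i - (l₀.map a).length) = i := by
        rw [List.length_map, List.length_map, hl₀len]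
        omega
      simp only [e1]
      exact hmul _
    · rw [not_lt] at hig
      rw [List.getElem_append_right (by rw [List.length_map, hl₀len]; exact hig),
        List.getElem_append_left (by rw [List.length_map, hl₀len]; omega),
        List.getElem_reverse, List.getElem_map, List.getElem_map]
      have e1 : (l₀.map a').length - 1 - (i - (l₀.map a).length) = 2 * g - 1 - i := by
        rw [List.length_map, List.length_map, hl₀len]
        omega
      simp only [e1]
      rw [mul_comm]
      exact hmul _

/-- Reciprocal roots of a self-reciprocal polynomial, numbered so that `αᵢ α_{2g-1-i} = q`. -/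
theorem exists_reciprocal_roots (q : F) (g : ℕ) (c : ℕ → F) (hc0 : c 0 = 1)
    (hc : ∀ i ≤ g, c (2 * g - i) = q ^ (g - i) * c i) :
    ∃ α : Fin (2 * g) → F,
      ∑ i ∈ Finset.range (2 * g + 1), C (c i) * X ^ i = ∏ i, (1 - C (α i) * X) ∧
      ∀ i, α i * α (Fin.rev i) = q := by
  obtain ⟨l, hlen, hprod, hpair⟩ := exists_list_reciprocal q g c hc0 hc
  refine ⟨fun i => l[i.1]'(lt_of_lt_of_eq i.2 hlen.symm), ?_, ?_⟩
  · rw [hprod, ← Fin.prod_univ_fun_getElem]
    exact Fintype.prod_equiv (finCongr hlen) _ _ (fun i => rfl)
  · intro i
    have h1 := hpair i.1 (lt_of_lt_of_eq i.2 hlen.symm)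
    simp only [hlen] at h1
    have h2 : ((Fin.rev i : Fin (2 * g)) : ℕ) = 2 * g - 1 - i.1 := by
      rw [Fin.val_rev]
      omega
    simp only [h2]
    exact h1

end Groth.Agent.Lib.Helper23.Pal
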