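import Mathlib
import Groth.Prelude.Def_W4bk4goldsch45
import Groth.Agent.S11039
import Groth.Agent.S11040
import Groth.Agent.Lib.Helper23.FFHW2

/-!
Hasse–Weil program: the genus does not change under constant field extensions (finite constant
fields), via the degree of the `L`-polynomial.
-/

set_option autoImplicit false

namespace Groth.Agent.Lib.Helper23.FF

open FunFld
open Groth.Agent.Lib.Helper27.FF

universe u v w z

theorem natDegree_prod_one_sub {N : ℕ} (β : Fin N → ℂ) (hβ : ∀ i, β i ≠ 0) :
    (∏ i, (1 - Polynomial.C (β i) * Polynomial.X) : Polynomial ℂ).natDegree = N := by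
  have h1 : ∀ i, (1 - Polynomial.C (β i) * Polynomial.X : Polynomial ℂ) =
      Polynomial.C (-β i) * Polynomial.X + Polynomial.C 1 := by
    intro i
    rw [Polynomial.C_neg, Polynomial.C_1]
    ring
  have h2 : ∀ i, (1 - Polynomial.C (β i) * Polynomial.X : Polynomial ℂ).natDegree = 1 := by
    intro i
    rw [h1 i]
    exact Polynomial.natDegree_linear (neg_ne_zero.mpr (hβ i))
  rw [Polynomial.natDegree_prod]
  · simp only [h2, Finset.sum_const, Finset.card_univ, Fintype.card_fin, smul_eq_mul, mul_one]
  · intro i _ h0
    have := h2 i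
    rw [h0, Polynomial.natDegree_zero] at this
    exact absurd this (by norm_num)

section

variable {k : Type u} {K : Type v} {k' : Type w} {K' : Type z} [Field k] [Field K] [Field k']
  [Field K'] [Algebra k K] [Algebra k k'] [Algebra K K'] [Algebra k' K'] [Algebra k K']
  [IsScalarTower k K K'] [IsScalarTower k k' K']

theorem genus_constExt [Finite k] [Finite k'] (hK : IsFunctionField k K)
    (hK' : IsFunctionField k' K')
    (hgen : Algebra.adjoin K (Set.range (algebraMap k' K')) = ⊤)
    (hrank : Module.finrank K K' = Module.finrank k k') : genus k' K' = genus k K := by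
  obtain ⟨α, -, hα, hpair⟩ := Groth.Agent.S11040.result k K hK
  have h' := numerZ_constExt_aux hK hK' hgen hrank α hα
  obtain ⟨h1, h2, -⟩ := Groth.Agent.S11039.result k' K' hK'
  have hq0 : (Nat.card k : ℂ) ≠ 0 := by
    have : 0 < Nat.card k := Nat.card_pos
    exact_mod_cast this.ne'
  have hα0 : ∀ i, α i ≠ 0 := by
    intro i h0
    have := hpair i
    rw [h0, zero_mul] at this
    exact hq0 this.symm
  set n := Module.finrank k k' with hn
  set P : Polynomial ℂ := ∏ i, (1 - Polynomial.C (α i ^ n) * Polynomial.X) with hP
  have hPdeg : P.natDegree = 2 * genus k K :=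
    natDegree_prod_one_sub (fun i => α i ^ n) (fun i => pow_ne_zero _ (hα0 i))
  have hcoeff : ∀ j, ((PowerSeries.coeff j (numerZ k' K') : ℤ) : ℂ) = P.coeff j := by
    intro j
    have := congrArg (PowerSeries.coeff j) h'
    rw [PowerSeries.coeff_map, Polynomial.coeff_coe] at this
    exact this
  have hP0 : P ≠ 0 := by
    intro h0
    have := hcoeff (2 * genus k' K')
    rw [h0, Polynomial.coeff_zero] at this
    exact h2 (by exact_mod_cast this)
  rcases lt_trichotomy (genus k' K') (genus k K) with hlt | heq | hgt
  · exfalso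
    have h3 := h1 (2 * genus k K) (by omega)
    have h4 := hcoeff (2 * genus k K)
    rw [h3, Int.cast_zero, ← hPdeg] at h4
    exact (Polynomial.leadingCoeff_ne_zero.mpr hP0) h4.symm
  · exact heq
  · exfalso
    have h4 := hcoeff (2 * genus k' K')
    rw [Polynomial.coeff_eq_zero_of_natDegree_lt (by rw [hPdeg]; omega)] at h4
    exact h2 (by exact_mod_cast h4)

end

section

variable {k : Type u} {K : Type v} [Field k] [Field K] [Algebra k K]

theorem CE_genus [Finite k] (hK : IsFunctionField k K) {s : ℕ} (hs : s ≠ 0) :
    genus (CEκ k K s) (CE k K s) = genus k K := by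
  obtain ⟨hfun, hfin⟩ := CE_isFunctionField hK s
  haveI := hfin
  haveI : Finite (CEκ k K s) := Module.finite_of_finite k
  exact genus_constExt hK hfun (CE_hgen hK hs) (by rw [CE_finrank hK hs, CE_finrank_κ hK hs])

end

end Groth.Agent.Lib.Helper23.FF
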