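import Mathlib
import Groth.Prelude.Def_W4bk4goldsch45
import Groth.Agent.Lib.Helper23.FFHW3
import Groth.Agent.Lib.Helper23.FFBom4

/-!
Hasse–Weil program: Bombieri's upper bound for `N_r`.
-/

set_option autoImplicit false

namespace Groth.Agent.Lib.Helper23.FF

open FunFld
open Groth.Agent.Lib.Helper27.FF

universe u v

variable {k : Type u} {K : Type v} [Field k] [Field K] [Algebra k K]

open scoped Classical in
/-- Bombieri's upper bound: `N_r ≤ q^r + (2g+1) q^{r/2}` for even `r` with `q^{r/2} > (g+1)²`. -/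
theorem Nw_le_of_even [Finite k] (hK : IsFunctionField k K) (p b : ℕ) [hp : Fact p.Prime]
    [CharP k p] (hq : Nat.card k = p ^ b) {r : ℕ} (hr : r ≠ 0) (hev : Even r)
    (hg : (genus k K + 1) ^ 2 < p ^ (b * (r / 2))) :
    Nw hK r ≤ Nat.card k ^ r + (2 * genus k K + 1) * p ^ (b * (r / 2)) := by
  obtain ⟨hfun, hfin⟩ := CE_isFunctionField hK r
  haveI := hfin
  haveI : Finite (CEκ k K r) := Module.finite_of_finite k
  haveI : CharP K p := charP_of_injective_algebraMap (algebraMap k K).injective p
  have hrank : Module.finrank K (CE k K r) = Module.finrank k (CEκ k K r) := by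
    rw [CE_finrank hK hr, CE_finrank_κ hK hr]
  have h1 := Nw_constExt hK hfun (CE_hgen hK hr) hrank 1 le_rfl
  rw [CE_finrank_κ hK hr, one_mul] at h1
  rw [← h1, Nw_one hfun]
  set a := b * (r / 2) with ha
  have hcardκ : Nat.card (CEκ k K r) = (p ^ a) ^ 2 := by
    rw [Module.natCard_eq_pow_finrank (K := k) (V := CEκ k K r), CE_finrank_κ hK hr, hq, ha,
      ← pow_mul, ← pow_mul]
    congr 1
    obtain ⟨t, rfl⟩ := hev
    have : (t + t) / 2 = t := by omega
    rw [this]
    ring
  have hfinS := finite_places_deg_le hfun 1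
  set T : Finset (Place (CEκ k K r) (CE k K r)) :=
    hfinS.toFinset.filter (fun P => P.deg = 1) with hT
  have hTmem : ∀ P, P ∈ T ↔ P.deg = 1 := by
    intro P
    rw [hT, Finset.mem_filter, Set.Finite.mem_toFinset]
    constructor
    · exact fun h => h.2
    · exact fun h => ⟨le_of_eq h, h⟩
  have hcardT : Nat.card {P : Place (CEκ k K r) (CE k K r) // P.deg = 1} = T.card := by
    rw [← Nat.card_eq_finsetCard T]
    apply Nat.card_congr
    exact Equiv.subtypeEquivRight (fun P => (hTmem P).symm)
  rw [hcardT]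
  have hbom := bombieri_twisted hfun p a (RingEquiv.refl (CE k K r)) (by
      intro c
      letI := Fintype.ofFinite (CEκ k K r)
      have : c ^ ((p ^ a) ^ 2) = c := by
        rw [← hcardκ, Nat.card_eq_fintype_card]
        exact FiniteField.pow_card c
      rw [this]
      rfl) (by rw [CE_genus hK hr]; exact hg) T (by
      intro P hP
      exact ⟨(hTmem P).mp hP, fun z => rfl⟩)
  rw [CE_genus hK hr] at hbom
  have hqr : Nat.card k ^ r = (p ^ a) ^ 2 := by
    rw [← hcardκ, Module.natCard_eq_pow_finrank (K := k) (V := CEκ k K r), CE_finrank_κ hK hr]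
  rw [hqr]
  exact hbom

end Groth.Agent.Lib.Helper23.FF
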