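import Mathlib
import Groth.Prelude.Def_W4bk4goldsch45
import Groth.Agent.Lib.Helper23.FFHW4

/-!
Hasse–Weil program: rigidity of automorphisms at unramified rational places, and the degree of a
place below a fixed point.
-/

set_option autoImplicit false

namespace Groth.Agent.Lib.Helper23.FF

open FunFld
open Groth.Agent.Lib.Helper27.FF

universe u v

section rigidity

variable {κ : Type u} {L : Type v} [Field κ] [Field L] [Algebra κ L]

/-- An automorphism fixing the constants, a rational place and a uniformizer of it is trivial. -/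
theorem eq_self_of_fixed (Q : Place κ L) (hdeg : Q.deg = 1) (γ : L ≃+* L)
    (hκ : ∀ c : κ, γ (algebraMap κ L c) = algebraMap κ L c)
    (hQ : ∀ z : L, Q.1 (γ z) = Q.1 z) {t : L} (ht : Q.1 t = WithZero.exp (-1 : ℤ))
    (hγt : γ t = t) : ∀ z : L, γ z = z := by
  have ht0 : t ≠ 0 := by
    intro h0
    rw [h0, map_zero] at ht
    exact WithZero.exp_ne_zero ht.symm
  have key : ∀ N : ℕ, ∀ z : L, Q.1 z ≤ 1 → Q.1 (γ z - z) ≤ WithZero.exp (-(N : ℤ)) := by
    intro N
    induction N with
    | zero =>
      intro z hz
      rw [Nat.cast_zero, neg_zero, WithZero.exp_zero]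
      exact (Q.1.map_sub _ _).trans (max_le (by rw [hQ]; exact hz) hz)
    | succ N ih =>
      intro z hz
      obtain ⟨c, hc⟩ := exists_const_val_sub_lt_one Q hdeg hz
      have hc' : Q.1 (z - algebraMap κ L c) < WithZero.exp (0 : ℤ) := by
        rw [WithZero.exp_zero]; exact hc
      rw [lt_exp_iff_le_exp_sub_one] at hc'
      set w := (z - algebraMap κ L c) / t with hw
      have hwle : Q.1 w ≤ 1 := by
        rw [hw, map_div₀, ht, div_le_iff₀ (WithZero.exp_pos), one_mul]
        simpa using hc'
      have hz' : z = algebraMap κ L c + t * w := by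
        rw [hw]
        field_simp
        ring
      have h1 : γ z - z = t * (γ w - w) := by
        conv_lhs => rw [hz']
        rw [map_add, map_mul, hκ, hγt]
        ring
      rw [h1, map_mul, ht]
      have h2 := ih w hwle
      calc WithZero.exp (-1 : ℤ) * Q.1 (γ w - w)
          ≤ WithZero.exp (-1 : ℤ) * WithZero.exp (-(N : ℤ)) := mul_le_mul_right h2 _
        _ = WithZero.exp (-((N + 1 : ℕ) : ℤ)) := by
          rw [← WithZero.exp_add]
          congr 1
          push_cast
          ring
  have hint : ∀ z : L, Q.1 z ≤ 1 → γ z = z := by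
    intro z hz
    by_contra hne
    have hx0 : γ z - z ≠ 0 := sub_ne_zero.mpr hne
    have h1 := key ((Q.ord (γ z - z)).toNat + 1) z hz
    rw [val_eq_exp_neg_ord Q hx0, WithZero.exp_le_exp] at h1
    have h2 : Q.ord (γ z - z) ≤ (Q.ord (γ z - z)).toNat := Int.self_le_toNat _
    push_cast at h1
    omega
  intro z
  by_cases hz : Q.1 z ≤ 1
  · exact hint z hz
  · push Not at hz
    have hz0 : z ≠ 0 := by
      intro h0
      rw [h0, map_zero] at hz
      exact not_lt.mpr zero_le hz
    have h1 : Q.1 z⁻¹ ≤ 1 := by
      rw [map_inv₀]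
      exact inv_le_one_of_one_le₀ hz.le
    have h2 := hint z⁻¹ h1
    rw [map_inv₀, inv_inj] at h2
    exact h2

end rigidity

section degree

variable {k : Type u} {K : Type v} [Field k] [Field K] [Algebra k K]

/-- If every element of the residue field of `P` is fixed by the `q^r`-power map, then
`deg P ∣ r`. -/
theorem deg_dvd_of_pow_sub_lt_one [Finite k] (hK : IsFunctionField k K) (P : Place k K) {r : ℕ}
    (h : ∀ a : K, P.1 a ≤ 1 → P.1 (a ^ (Nat.card k ^ r) - a) < 1) : P.deg ∣ r := by
  haveI := finiteDimensional_residueField hK P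
  haveI : Finite (IsLocalRing.ResidueField P.O) := Module.finite_of_finite k
  letI := Fintype.ofFinite k
  have hx : ∀ x : IsLocalRing.ResidueField P.O, x ^ (Nat.card k ^ r) = x := by
    intro x
    obtain ⟨a, rfl⟩ := IsLocalRing.residue_surjective x
    rw [← map_pow, ← sub_eq_zero, ← map_sub, residue_eq_zero_iff]
    exact h a a.2
  have h1 : (FiniteField.frobeniusAlgEquivOfAlgebraic k (IsLocalRing.ResidueField P.O)) ^ r = 1 := by
    ext x
    rw [AlgEquiv.coe_pow, FiniteField.coe_frobeniusAlgEquivOfAlgebraic_iterate, AlgEquiv.one_apply,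
      ← Nat.card_eq_fintype_card]
    exact hx x
  have h2 := orderOf_dvd_of_pow_eq_one h1
  rw [FiniteField.orderOf_frobeniusAlgEquivOfAlgebraic] at h2
  exact h2

end degree

end Groth.Agent.Lib.Helper23.FF
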