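import Mathlib
import Groth.Prelude.Def_W4bk4goldsch45
import Groth.Agent.Lib.Helper23.FFHW5

/-!
Hasse–Weil program: restriction of automorphisms to the constant field, Frobenius classes.
-/

set_option autoImplicit false

namespace Groth.Agent.Lib.Helper23.FF

open FunFld
open Groth.Agent.Lib.Helper27.FF

universe u v w z

/-- The fibres of a surjective homomorphism of finite groups all have `|Γ| / |C|` elements. -/
theorem card_fiber_mul {Γ C : Type*} [Group Γ] [Group C] (f : Γ →* C)
    (hf : Function.Surjective f) (c : C) :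
    Nat.card {γ : Γ // f γ = c} * Nat.card C = Nat.card Γ := by
  obtain ⟨g₀, hg₀⟩ := hf c
  have e : {γ : Γ // f γ = c} ≃ f.ker :=
    { toFun := fun γ => ⟨g₀⁻¹ * γ.1, by
        rw [MonoidHom.mem_ker, map_mul, map_inv, hg₀, γ.2, inv_mul_cancel]⟩
      invFun := fun h => ⟨g₀ * h.1, by
        rw [map_mul, hg₀, MonoidHom.mem_ker.mp h.2, mul_one]⟩
      left_inv := fun γ => Subtype.ext (by simp)
      right_inv := fun h => Subtype.ext (by simp) }
  rw [Nat.card_congr e]
  have h1 := Subgroup.card_mul_index f.ker
  rw [Subgroup.index_ker, MonoidHom.range_eq_top.mpr hf, Subgroup.card_top] at h1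
  exact h1

section frob

variable (k : Type u) (κ : Type v) [Field k] [Field κ] [Algebra k κ] [Finite k] [Finite κ]

/-- The Frobenius automorphism `x ↦ x^q` of a finite extension of a finite field. -/
noncomputable def frobκ : κ ≃ₐ[k] κ :=
  letI := Fintype.ofFinite k
  haveI : Module.Finite k κ := Module.Finite.of_finite
  FiniteField.frobeniusAlgEquivOfAlgebraic k κ

theorem frobκ_pow_apply (i : ℕ) (x : κ) : (frobκ k κ ^ i) x = x ^ (Nat.card k ^ i) := by
  letI := Fintype.ofFinite k
  haveI : Module.Finite k κ := Module.Finite.of_finite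
  unfold frobκ
  rw [AlgEquiv.coe_pow, FiniteField.coe_frobeniusAlgEquivOfAlgebraic_iterate,
    Nat.card_eq_fintype_card]

end frob

section res

variable (k : Type u) (κ : Type v) (B : Type w) (L : Type z) [Field k] [Field κ] [Field B]
  [Field L] [Algebra k κ] [Algebra k B] [Algebra k L] [Algebra B L] [Algebra κ L]
  [IsScalarTower k B L] [IsScalarTower k κ L] [Finite κ]

/-- Restriction of automorphisms of `L/B` to the finite constant field `κ`. -/
noncomputable def resκ : (L ≃ₐ[B] L) →* (κ ≃ₐ[k] κ) :=
  (AlgEquiv.restrictNormalHom κ).comp (AlgEquiv.restrictScalarsHom k)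

variable {k κ B L}

theorem resκ_spec (γ : L ≃ₐ[B] L) (c : κ) :
    algebraMap κ L (resκ k κ B L γ c) = γ (algebraMap κ L c) := by
  unfold resκ
  rw [MonoidHom.comp_apply]
  exact AlgEquiv.restrictNormal_commutes _ κ c

theorem resκ_eq_one_iff (γ : L ≃ₐ[B] L) :
    resκ k κ B L γ = 1 ↔ ∀ c : κ, γ (algebraMap κ L c) = algebraMap κ L c := by
  constructor
  · intro h c
    rw [← resκ_spec (k := k), h, AlgEquiv.one_apply]
  · intro h
    ext c
    apply (algebraMap κ L).injective
    rw [resκ_spec, h, AlgEquiv.one_apply]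

theorem resκ_eq_frob_pow_iff [Finite k] (γ : L ≃ₐ[B] L) (r : ℕ) :
    resκ k κ B L γ = frobκ k κ ^ r ↔
      ∀ c : κ, γ (algebraMap κ L c) = algebraMap κ L (c ^ (Nat.card k ^ r)) := by
  constructor
  · intro h c
    rw [← resκ_spec (k := k), h, frobκ_pow_apply]
  · intro h
    ext c
    apply (algebraMap κ L).injective
    rw [resκ_spec, h, frobκ_pow_apply]

/-- Restriction to the constant field is surjective for a Galois extension of a function field
whose constant field is `k`. -/
theorem resκ_surjective [Finite k] (hB : IsFunctionField k B) [FiniteDimensional B L]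
    [IsGalois B L] : Function.Surjective (resκ k κ B L) := by
  haveI : Module.Finite k κ := Module.Finite.of_finite
  rw [← MonoidHom.range_eq_top, ← IntermediateField.fixingSubgroup_fixedField (resκ k κ B L).range]
  have hbot : IntermediateField.fixedField (resκ k κ B L).range = ⊥ := by
    rw [eq_bot_iff]
    intro c hc
    rw [IntermediateField.mem_fixedField_iff] at hc
    have h1 : ∀ γ : L ≃ₐ[B] L, γ (algebraMap κ L c) = algebraMap κ L c := by
      intro γ
      rw [← resκ_spec (k := k), hc _ ⟨γ, rfl⟩]
    rw [← IsGalois.mem_range_algebraMap_iff_fixed] at h1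
    obtain ⟨y, hy⟩ := h1
    have hcalg : IsAlgebraic k c := Algebra.IsAlgebraic.isAlgebraic c
    have h2 : IsAlgebraic k (algebraMap B L y) := by
      rw [hy]
      exact hcalg.algebraMap
    have h3 : IsAlgebraic k y := (isAlgebraic_algebraMap_iff (algebraMap B L).injective).mp h2
    obtain ⟨c₀, hc₀⟩ := hB.2 y h3
    rw [IntermediateField.mem_bot]
    refine ⟨c₀, ?_⟩
    apply (algebraMap κ L).injective
    rw [← hy, ← hc₀, ← IsScalarTower.algebraMap_apply, ← IsScalarTower.algebraMap_apply]
  rw [hbot, IntermediateField.fixingSubgroup_bot]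

end res

end Groth.Agent.Lib.Helper23.FF
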