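import Mathlib
import Groth.Prelude.Def_W4bk4goldsch45
import Groth.Agent.Lib.Helper23.FFHW6

/-!
Hasse–Weil program: fixed places of Frobenius twists in a Galois extension.
-/

set_option autoImplicit false

namespace Groth.Agent.Lib.Helper23.FF

open FunFld
open Groth.Agent.Lib.Helper27.FF

universe u v w z

theorem val_pow_sub_pow_lt_one {Γ₀ : Type*} [LinearOrderedCommGroupWithZero Γ₀] {R : Type*}
    [CommRing R] (v : Valuation R Γ₀) {x y : R} (hx : v x ≤ 1) (hy : v y ≤ 1)
    (hxy : v (x - y) < 1) (n : ℕ) : v (x ^ n - y ^ n) < 1 := by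
  rw [← Commute.geom_sum₂_mul (Commute.all _ _), map_mul]
  refine mul_lt_of_le_one_of_lt ?_ hxy
  apply Valuation.map_sum_le
  intro i _
  rw [map_mul, map_pow, map_pow]
  exact mul_le_one' (pow_le_one₀ zero_le hx) (pow_le_one₀ zero_le hy)

section

variable {k : Type u} {κ : Type v} {B : Type w} {L : Type z} [Field k] [Field κ] [Field B]
  [Field L] [Algebra k κ] [Algebra k B] [Algebra k L] [Algebra B L] [Algebra κ L]
  [IsScalarTower k B L] [IsScalarTower k κ L] [Finite k] [Finite κ]

theorem deg_up_eq_one {Q : Place k L} (hdeg : Q.deg = Module.finrank k κ) :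
    haveI : Module.Finite k κ := Module.Finite.of_finite
    (Place.up (k' := κ) Q).deg = 1 := by
  haveI : Module.Finite k κ := Module.Finite.of_finite
  have h1 := deg_up_mul (k := k) (k' := κ) Q
  have h2 : 0 < Module.finrank k κ := Module.finrank_pos
  rw [hdeg] at h1
  exact Nat.eq_of_mul_eq_mul_left h2 (by rw [h1, mul_one])

/-- Rigidity: an automorphism over `B` fixing the constants and an unramified `κ`-rational place
is trivial. -/
theorem eq_one_of_fixed_unramified {P₀ : Place k B} {Q : Place k L} (h1 : IsOverWith Q P₀ 1)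
    (hdeg : Q.deg = Module.finrank k κ) (γ : L ≃ₐ[B] L) (hγ : actP γ Q = Q)
    (hres : resκ k κ B L γ = 1) : γ = 1 := by
  haveI : Module.Finite k κ := Module.Finite.of_finite
  obtain ⟨t₀, ht₀⟩ := P₀.2.2 (WithZero.exp (-1 : ℤ))
  have ht : (Place.up (k' := κ) Q).1 (algebraMap B L t₀) = WithZero.exp (-1 : ℤ) := by
    rw [Place.up_val, h1, ht₀, pow_one]
  have h2 := eq_self_of_fixed (Place.up (k' := κ) Q) (deg_up_eq_one hdeg) (γ : L ≃+* L)
    (by
      intro c
      exact (resκ_eq_one_iff γ).mp hres c)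
    (by
      intro z
      show (actP γ Q).1 z = Q.1 z
      rw [hγ])
    ht (γ.commutes t₀)
  ext z
  exact h2 z

/-- Two automorphisms with the same restriction to the constants fixing the same unramified
`κ`-rational place are equal. -/
theorem eq_of_fixed_unramified {P₀ : Place k B} {Q : Place k L} (h1 : IsOverWith Q P₀ 1)
    (hdeg : Q.deg = Module.finrank k κ) (γ γ' : L ≃ₐ[B] L) (hγ : actP γ Q = Q)
    (hγ' : actP γ' Q = Q) (hres : resκ k κ B L γ = resκ k κ B L γ') : γ = γ' := by
  have h2 : actP (γ⁻¹ * γ') Q = Q := by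
    rw [actP_mul]
    have h3 : actP γ⁻¹ Q = Q := by
      conv_lhs => rw [← hγ]
      rw [← actP_mul, mul_inv_cancel, actP_one]
    rw [h3, hγ']
  have h4 := eq_one_of_fixed_unramified (κ := κ) h1 hdeg (γ⁻¹ * γ') h2
    (by rw [map_mul, map_inv, hres, inv_mul_cancel])
  exact inv_mul_eq_one.mp h4

/-- The place of `B` below a `κ`-rational place fixed by a `q^r`-Frobenius twist has degree
dividing `r`. -/
theorem deg_below_dvd (hB : IsFunctionField k B) {P : Place k B} {Q : Place k L} {e : ℕ}
    (he : IsOverWith Q P e) (hdeg : Q.deg = Module.finrank k κ) (γ : L ≃ₐ[B] L)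
    (hγ : actP γ Q = Q) {r : ℕ} (hres : resκ k κ B L γ = frobκ k κ ^ r) : P.deg ∣ r := by
  haveI : Module.Finite k κ := Module.Finite.of_finite
  apply deg_dvd_of_pow_sub_lt_one hB P
  intro a ha
  set N := Nat.card k ^ r with hN
  set a' := algebraMap B L a with ha'
  have ha'le : Q.1 a' ≤ 1 := (isOverWith_val_le_one_iff he a).mpr ha
  obtain ⟨c, hc⟩ := exists_const_val_sub_lt_one (Place.up (k' := κ) Q) (deg_up_eq_one hdeg)
    (f := a') ha'le
  rw [Place.up_val] at hc
  have hQγ : ∀ z : L, Q.1 (γ z) = Q.1 z := by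
    intro z
    show (actP γ Q).1 z = Q.1 z
    rw [hγ]
  have hγc : γ (algebraMap κ L c) = algebraMap κ L (c ^ N) :=
    (resκ_eq_frob_pow_iff γ r).mp hres c
  have h1 : Q.1 (a' - algebraMap κ L (c ^ N)) < 1 := by
    have : γ (a' - algebraMap κ L c) = a' - algebraMap κ L (c ^ N) := by
      rw [map_sub, hγc, ha', γ.commutes]
    rw [← this, hQγ]
    exact hc
  have h2 : Q.1 (algebraMap κ L (c ^ N - c)) < 1 := by
    have : algebraMap κ L (c ^ N - c) =
        (a' - algebraMap κ L c) - (a' - algebraMap κ L (c ^ N)) := by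
      rw [map_sub]
      ring
    rw [this]
    exact (Q.1.map_sub _ _).trans_lt (max_lt hc h1)
  have hcN : c ^ N = c := by
    by_contra hne
    have h3 : (Place.up (k' := κ) Q).1 (algebraMap κ L (c ^ N - c)) = 1 :=
      val_const _ (sub_ne_zero.mpr hne)
    rw [Place.up_val] at h3
    rw [h3] at h2
    exact lt_irrefl _ h2
  have hcle : Q.1 (algebraMap κ L c) ≤ 1 := (Place.up (k' := κ) Q).2.1 c
  have h4 : Q.1 (a' ^ N - (algebraMap κ L c) ^ N) < 1 :=
    val_pow_sub_pow_lt_one Q.1 ha'le hcle hc N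
  have hcN' : (algebraMap κ L c) ^ N = algebraMap κ L c := by rw [← map_pow, hcN]
  have h5 : Q.1 (algebraMap B L (a ^ N - a)) < 1 := by
    have : algebraMap B L (a ^ N - a) =
        (a' ^ N - (algebraMap κ L c) ^ N) - (a' - algebraMap κ L c) := by
      rw [map_sub, map_pow, hcN']
      ring
    rw [this]
    exact (Q.1.map_sub _ _).trans_lt (max_lt h4 hc)
  exact (isOverWith_val_lt_one_iff he _).mp h5

end

end Groth.Agent.Lib.Helper23.FF
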