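import Mathlib
import Groth.Prelude.Def_W4bk4goldsch45
import Groth.Agent.Lib.Helper23.FFHW7

/-!
Hasse–Weil program: counting places above a place; existence of a Frobenius twist fixing a given
unramified rational place.
-/

set_option autoImplicit false

namespace Groth.Agent.Lib.Helper23.FF

open FunFld
open Groth.Agent.Lib.Helper27.FF

universe u v w z

section

variable {k : Type u} {B : Type w} {L : Type z} [Field k] [Field B]
  [Field L] [Algebra k B] [Algebra k L] [Algebra B L] [IsScalarTower k B L]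

/-- At most `[L:B] deg P / s` places of degree `s` lie above `P`. -/
theorem card_mul_le_of_over (hB : IsFunctionField k B) [FiniteDimensional B L] (P : Place k B)
    (s : ℕ) (T : Finset (Place k L)) (hT : ∀ Q ∈ T, IsOver Q P ∧ Q.deg = s) :
    T.card * s ≤ Module.finrank B L * P.deg := by
  classical
  obtain ⟨hfin, hsum⟩ := sum_ramIdx_mul_deg (K' := L) hB P
  have h1 := hsum hfin.toFinset (fun Q => by rw [Set.Finite.mem_toFinset]; rfl)
  rw [← h1]
  have hsub : T ⊆ hfin.toFinset := by
    intro Q hQ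
    rw [Set.Finite.mem_toFinset]
    exact (hT Q hQ).1
  calc T.card * s = ∑ _Q ∈ T, s := by rw [Finset.sum_const, smul_eq_mul]
    _ ≤ ∑ Q ∈ T, ramIdx Q P * Q.deg := by
      apply Finset.sum_le_sum
      intro Q hQ
      obtain ⟨hover, hdeg⟩ := hT Q hQ
      have h2 : 1 ≤ ramIdx Q P := isOverWith_pos (isOverWith_ramIdx hover)
      rw [hdeg]
      exact Nat.le_mul_of_pos_left _ h2
    _ ≤ ∑ Q ∈ hfin.toFinset, ramIdx Q P * Q.deg :=
      Finset.sum_le_sum_of_subset hsub

/-- If all places above `P₀` are unramified of degree `s`, there are `[L:B] deg P₀ / s` of them. -/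
theorem card_over_mul_eq (hB : IsFunctionField k B) [FiniteDimensional B L] (P₀ : Place k B)
    (s : ℕ) (hgood : ∀ Q : Place k L, IsOver Q P₀ → IsOverWith Q P₀ 1 ∧ Q.deg = s) :
    ∃ Qs : Finset (Place k L), (∀ Q, Q ∈ Qs ↔ IsOver Q P₀) ∧
      Qs.card * s = Module.finrank B L * P₀.deg := by
  classical
  obtain ⟨hfin, hsum⟩ := sum_ramIdx_mul_deg (K' := L) hB P₀
  have hmem : ∀ Q, Q ∈ hfin.toFinset ↔ IsOver Q P₀ := fun Q => by
    rw [Set.Finite.mem_toFinset]; rfl
  refine ⟨hfin.toFinset, hmem, ?_⟩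
  rw [← hsum hfin.toFinset hmem]
  have : ∀ Q ∈ hfin.toFinset, ramIdx Q P₀ * Q.deg = s := by
    intro Q hQ
    obtain ⟨h1, hdeg⟩ := hgood Q ((hmem Q).mp hQ)
    rw [ramIdx_eq h1, hdeg, one_mul]
  rw [Finset.sum_congr rfl this, Finset.sum_const, smul_eq_mul]

end

section

variable {k : Type u} {κ : Type v} {B : Type w} {L : Type z} [Field k] [Field κ] [Field B]
  [Field L] [Algebra k κ] [Algebra k B] [Algebra k L] [Algebra B L] [Algebra κ L]
  [IsScalarTower k B L] [IsScalarTower k κ L] [Finite k] [Finite κ]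

attribute [local instance] Groth.Agent.Lib.Helper27.FF.placeAction

theorem mem_stabilizer_iff_actP (γ : L ≃ₐ[B] L) (Q : Place k L) :
    γ ∈ MulAction.stabilizer (L ≃ₐ[B] L) Q ↔ actP γ Q = Q := by
  rw [MulAction.mem_stabilizer_iff]
  show actP γ⁻¹ Q = Q ↔ actP γ Q = Q
  constructor
  · intro h
    conv_lhs => rw [← h]
    rw [← actP_mul, inv_mul_cancel, actP_one]
  · intro h
    conv_lhs => rw [← h]
    rw [← actP_mul, mul_inv_cancel, actP_one]

/-- For an unramified `κ`-rational place `Q` above `P₀` with `deg P₀ ∣ r`, some automorphism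
restricting to the `q^r`-Frobenius fixes `Q`. -/
theorem exists_fixing_of_good (hB : IsFunctionField k B) [FiniteDimensional B L] [IsGalois B L]
    {P₀ : Place k B} {Q : Place k L} (h1 : IsOverWith Q P₀ 1)
    (hdeg : Q.deg = Module.finrank k κ) {r : ℕ} (hr : P₀.deg ∣ r) :
    ∃ γ : L ≃ₐ[B] L, actP γ Q = Q ∧ resκ k κ B L γ = frobκ k κ ^ r := by
  haveI : Module.Finite k κ := Module.Finite.of_finite
  set D := MulAction.stabilizer (L ≃ₐ[B] L) Q with hD
  have hcardD : Nat.card D * P₀.deg = Module.finrank k κ := by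
    have := card_decomposition_mul_deg hB h1
    rw [decompositionSubgroup_eq, one_mul, hdeg] at this
    exact this
  set f : D →* (κ ≃ₐ[k] κ) := (resκ k κ B L).comp D.subtype with hf
  have hinj : Function.Injective f := by
    rw [injective_iff_map_eq_one]
    intro γ hγ
    apply Subtype.ext
    exact eq_one_of_fixed_unramified (κ := κ) h1 hdeg γ.1
      ((mem_stabilizer_iff_actP γ.1 Q).mp γ.2) hγ
  have hcardH : Nat.card f.range = Nat.card D :=
    (Nat.card_congr (MonoidHom.ofInjective hinj).toEquiv).symm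
  have hcardG : Nat.card (κ ≃ₐ[k] κ) = Module.finrank k κ := IsGalois.card_aut_eq_finrank k κ
  have hidx : f.range.index = P₀.deg := by
    have h2 := Subgroup.card_mul_index f.range
    rw [hcardG, hcardH, ← hcardD] at h2
    have hpos : 0 < Nat.card D := Nat.card_pos
    exact Nat.eq_of_mul_eq_mul_left hpos h2
  have hmem : frobκ k κ ^ P₀.deg ∈ f.range := by
    rw [← hidx]
    exact Subgroup.pow_index_mem _ _
  obtain ⟨t, rfl⟩ := hr
  have hmem' : frobκ k κ ^ (P₀.deg * t) ∈ f.range := by
    rw [pow_mul]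
    exact Subgroup.pow_mem _ hmem t
  obtain ⟨γ, hγ⟩ := hmem'
  exact ⟨γ.1, (mem_stabilizer_iff_actP γ.1 Q).mp γ.2, hγ⟩

end

end Groth.Agent.Lib.Helper23.FF
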