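import Mathlib
import Groth.Prelude.Def_W4bk4goldsch45
import Groth.Agent.Lib.Helper23.FFHW8

/-!
Hasse–Weil program: places of a large constant field extension of a Galois extension `E/F₀` lying
over an unramified place of small degree are unramified and rational.
-/

set_option autoImplicit false

namespace Groth.Agent.Lib.Helper23.FF

open FunFld
open Groth.Agent.Lib.Helper27.FF

universe u₁ u₂ u₃ u₄ u₅ u₆

variable {k : Type u₁} {κ₀ : Type u₂} {κ : Type u₃} {F₀ : Type u₄} {E : Type u₅} {L : Type u₆}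
  [Field k] [Field κ₀] [Field κ] [Field F₀] [Field E] [Field L]
  [Algebra k κ₀] [Algebra k κ] [Algebra κ₀ κ] [IsScalarTower k κ₀ κ]
  [Algebra k F₀] [Algebra k E] [Algebra k L] [Algebra F₀ E] [Algebra F₀ L] [Algebra E L]
  [Algebra κ₀ E] [Algebra κ₀ L] [Algebra κ L]
  [IsScalarTower k F₀ E] [IsScalarTower F₀ E L] [IsScalarTower k F₀ L] [IsScalarTower k E L]
  [IsScalarTower k κ₀ E] [IsScalarTower k κ₀ L] [IsScalarTower κ₀ E L] [IsScalarTower κ₀ κ L]
  [IsScalarTower k κ L]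

theorem isOverWith_trans {𝒬 : Place k L} {Q : Place k E} {P : Place k F₀} {e₁ e₂ : ℕ}
    (h₁ : IsOverWith 𝒬 Q e₁) (h₂ : IsOverWith Q P e₂) : IsOverWith 𝒬 P (e₂ * e₁) := by
  intro x
  rw [IsScalarTower.algebraMap_apply F₀ E L, h₁, h₂, pow_mul]

theorem good_of_unramified [Finite k] [Finite κ₀] [Finite κ] (hF₀ : IsFunctionField k F₀)
    (hE : IsFunctionField κ₀ E) [FiniteDimensional F₀ E] [IsGalois F₀ E]
    (hgen : Algebra.adjoin E (Set.range (algebraMap κ L)) = ⊤)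
    (hrank : Module.finrank E L = Module.finrank κ₀ κ)
    {P₀ : Place k F₀} (hunr : ∀ Q : Place k E, IsOver Q P₀ → IsOverWith Q P₀ 1)
    {r : ℕ} (hr : P₀.deg ∣ r) (hs : Module.finrank F₀ E * r ∣ Module.finrank κ₀ κ)
    (𝒬 : Place k L) (h𝒬 : IsOver 𝒬 P₀) :
    IsOverWith 𝒬 P₀ 1 ∧ 𝒬.deg = Module.finrank k κ := by
  haveI : Module.Finite k κ₀ := Module.Finite.of_finite
  haveI : Module.Finite κ₀ κ := Module.Finite.of_finite
  haveI : FiniteDimensional E L := finiteDimensional_constExt (k := κ₀) (k' := κ) hgen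
  obtain ⟨Q', e₁, hQ'⟩ := exists_isOverWith hE (Place.up (k' := κ₀) 𝒬)
  obtain ⟨-, hsplit⟩ := constExt_split hE hgen hrank Q'
  obtain ⟨hQ'1, hdeg'⟩ := hsplit _ ⟨e₁, hQ'⟩
  have h𝒬Q : IsOverWith 𝒬 (Place.down (k := k) Q') 1 := fun x => hQ'1 x
  obtain ⟨P₀', e₂, hQP⟩ := exists_isOverWith hF₀ (Place.down (k := k) Q')
  obtain ⟨e, he⟩ := h𝒬
  have h1 := isOverWith_trans h𝒬Q hQP
  obtain ⟨hP, -⟩ := isOverWith_unique h1 he
  subst hP
  have hQP1 : IsOverWith (Place.down (k := k) Q') P₀' 1 := hunr _ ⟨e₂, hQP⟩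
  have h2 := isOverWith_trans h𝒬Q hQP1
  rw [one_mul] at h2
  refine ⟨h2, ?_⟩
  -- the degree
  have h3 := card_decomposition_mul_deg hF₀ hQP1
  rw [one_mul] at h3
  have h4 : Nat.card (((Place.down (k := k) Q').O).decompositionSubgroup F₀) ∣
      Module.finrank F₀ E := by
    rw [← IsGalois.card_aut_eq_finrank F₀ E]
    exact Subgroup.card_subgroup_dvd_card _
  have h5 : (Place.down (k := k) Q').deg ∣ Module.finrank κ₀ κ := by
    rw [← h3]
    refine dvd_trans ?_ hs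
    exact Nat.mul_dvd_mul h4 hr
  have h6 : Q'.deg ∣ Module.finrank κ₀ κ := by
    refine dvd_trans ?_ h5
    rw [Place.deg_down]
    exact dvd_mul_left _ _
  rw [Nat.lcm_eq_right h6] at hdeg'
  have h7 := deg_up_mul (k := k) (k' := κ₀) 𝒬
  rw [hdeg'] at h7
  rw [← h7, Module.finrank_mul_finrank]

end Groth.Agent.Lib.Helper23.FF
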