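import Mathlib

/-! Inertia groups: the abstract key lemma.  If all conjugates of an integral element `u` reduce to
`0` or to `ū`, then `ū` lies in the smaller residue field (separable case). -/

set_option autoImplicit false

namespace Groth.Agent.Lib.Helper23.Inert

open Polynomial IsLocalRing

variable {K K' : Type*} [Field K] [Field K'] [Algebra K K']

theorem residue_mem_range_of_conj [FiniteDimensional K K'] [Normal K K']
    (A : ValuationSubring K') (B : ValuationSubring K) [Algebra B A]
    [IsLocalHom (algebraMap B A)]
    (hcompat : ∀ b : B, ((algebraMap B A b : A) : K') = algebraMap K K' (b : K))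
    (hB : ∀ x : K, algebraMap K K' x ∈ A → x ∈ B)
    [Algebra.IsSeparable (ResidueField B) (ResidueField A)]
    (u : A)
    (hconj : ∀ σ : K' ≃ₐ[K] K', ∃ h : σ (u : K') ∈ A,
      residue A ⟨σ u, h⟩ = 0 ∨ residue A ⟨σ u, h⟩ = residue A u) :
    residue A u ∈ (algebraMap (ResidueField B) (ResidueField A)).range := by
  classical
  have hint : IsIntegral K (u : K') := Algebra.IsIntegral.isIntegral _
  have hmonic : (minpoly K (u : K')).Monic := minpoly.monic hint
  obtain ⟨M', hM'⟩ : ∃ M' : K'[X], M' = (minpoly K (u : K')).map (algebraMap K K') := ⟨_, rfl⟩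
  have hM'monic : M'.Monic := by rw [hM']; exact hmonic.map _
  have hM'ne : M' ≠ 0 := hM'monic.ne_zero
  have hsplit : M'.Splits := by rw [hM']; exact Normal.splits inferInstance (u : K')
  have hprod : M' = (M'.roots.map fun a => X - C a).prod := hsplit.eq_prod_roots_of_monic hM'monic
  have hroot : ∀ r ∈ M'.roots, ∃ σ : K' ≃ₐ[K] K', σ (u : K') = r := by
    intro r hr
    rw [mem_roots hM'ne, IsRoot.def, hM', eval_map_algebraMap] at hr
    exact minpoly.exists_algEquiv_of_root' hint.isAlgebraic hr
  have hrootA : ∀ r ∈ M'.roots, r ∈ A := by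
    intro r hr
    obtain ⟨σ, rfl⟩ := hroot r hr
    obtain ⟨h, -⟩ := hconj σ
    exact h
  obtain ⟨R', hR'⟩ : ∃ R' : Multiset A,
      R' = M'.roots.attach.map (fun r => (⟨r.1, hrootA r.1 r.2⟩ : A)) := ⟨_, rfl⟩
  have hR'val : R'.map (fun a : A => (a : K')) = M'.roots := by
    rw [hR', Multiset.map_map]
    exact Multiset.attach_map_val _
  obtain ⟨N, hN⟩ : ∃ N : A[X], N = (R'.map fun a => X - C a).prod := ⟨_, rfl⟩
  have hNmap : N.map A.subtype = M' := by
    have h1 : N.map A.subtype =
        ((R'.map fun a : A => (a : K')).map fun r => X - C r).prod := by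
      rw [hN, Polynomial.map_multiset_prod, Multiset.map_map, Multiset.map_map]
      congr 1
      apply Multiset.map_congr rfl
      intro a _
      simp
    rw [h1, hR'val]
    exact hprod.symm
  have hcoeffA : ∀ i, algebraMap K K' ((minpoly K (u : K')).coeff i) ∈ A := by
    intro i
    have h1 : M'.coeff i = A.subtype (N.coeff i) := by rw [← hNmap, coeff_map]
    rw [← coeff_map, ← hM', h1]
    exact (N.coeff i).2
  have hlift : minpoly K (u : K') ∈ lifts (algebraMap B K) :=
    (lifts_iff_coeff_lifts _).mpr fun i => ⟨⟨_, hB _ (hcoeffA i)⟩, rfl⟩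
  obtain ⟨mB, hmB, -, hmBmonic⟩ := lifts_and_degree_eq_and_monic hlift hmonic
  have hmBN : mB.map (algebraMap B A) = N := by
    apply Polynomial.map_injective A.subtype Subtype.val_injective
    rw [hNmap, Polynomial.map_map]
    have hc : (A.subtype : A →+* K').comp (algebraMap B A) =
        (algebraMap K K').comp (algebraMap B K) := by
      ext b
      exact hcompat b
    rw [hc, ← Polynomial.map_map, hmB, hM']
  obtain ⟨mbar, hmbar⟩ : ∃ mbar : (ResidueField B)[X], mbar = mB.map (residue B) := ⟨_, rfl⟩
  have hmbarmonic : mbar.Monic := by rw [hmbar]; exact hmBmonic.map _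
  obtain ⟨Rbar, hRbar⟩ : ∃ Rbar : Multiset (ResidueField A), Rbar = R'.map (residue A) := ⟨_, rfl⟩
  have hMbar : mbar.map (algebraMap (ResidueField B) (ResidueField A)) =
      (Rbar.map fun a => X - C a).prod := by
    have hcomp : (algebraMap (ResidueField B) (ResidueField A)).comp (residue B) =
        (residue A).comp (algebraMap B A) := by
      ext b
      rfl
    rw [hmbar, Polynomial.map_map, hcomp, ← Polynomial.map_map, hmBN, hN,
      Polynomial.map_multiset_prod, Multiset.map_map, hRbar, Multiset.map_map]
    congr 1
    apply Multiset.map_congr rfl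
    intro a _
    simp
  have hRbar01 : ∀ y ∈ Rbar, y = 0 ∨ y = residue A u := by
    intro y hy
    rw [hRbar, Multiset.mem_map] at hy
    obtain ⟨a, ha, rfl⟩ := hy
    rw [hR', Multiset.mem_map] at ha
    obtain ⟨r, -, rfl⟩ := ha
    obtain ⟨σ, hσ⟩ := hroot r.1 r.2
    obtain ⟨h, h01⟩ := hconj σ
    have e : (⟨r.1, hrootA r.1 r.2⟩ : A) = ⟨σ u, h⟩ := Subtype.ext hσ.symm
    rw [e]
    exact h01
  have hu_root : (u : K') ∈ M'.roots := by
    rw [mem_roots hM'ne, IsRoot.def, hM', eval_map_algebraMap]
    exact minpoly.aeval K _
  have hubar_mem : residue A u ∈ Rbar := by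
    rw [← hR'val, Multiset.mem_map] at hu_root
    obtain ⟨a, ha, hau⟩ := hu_root
    have e : a = u := Subtype.ext hau
    rw [hRbar, ← e]
    exact Multiset.mem_map_of_mem _ ha
  -- the minimal polynomial of the residue
  have hintbar : IsIntegral (ResidueField B) (residue A u) :=
    Algebra.IsSeparable.isIntegral (ResidueField B) (residue A u)
  have hpsep : (minpoly (ResidueField B) (residue A u)).Separable :=
    Algebra.IsSeparable.isSeparable (ResidueField B) (residue A u)
  have hMbar_ne : mbar.map (algebraMap (ResidueField B) (ResidueField A)) ≠ 0 :=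
    (hmbarmonic.map _).ne_zero
  have hMbarroots : (mbar.map (algebraMap (ResidueField B) (ResidueField A))).roots = Rbar := by
    rw [hMbar, roots_multiset_prod_X_sub_C]
  have haeval : aeval (residue A u) mbar = 0 := by
    rw [← eval_map_algebraMap, ← IsRoot.def, ← mem_roots hMbar_ne, hMbarroots]
    exact hubar_mem
  have hdvd : minpoly (ResidueField B) (residue A u) ∣ mbar := minpoly.dvd _ _ haeval
  have hdvd' : (minpoly (ResidueField B) (residue A u)).map
      (algebraMap (ResidueField B) (ResidueField A)) ∣
      mbar.map (algebraMap (ResidueField B) (ResidueField A)) := Polynomial.map_dvd _ hdvd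
  have hMbarsplit : (mbar.map (algebraMap (ResidueField B) (ResidueField A))).Splits := by
    rw [hMbar]
    apply Splits.multisetProd
    intro f hf
    rw [Multiset.mem_map] at hf
    obtain ⟨a, -, rfl⟩ := hf
    exact Splits.X_sub_C a
  have hpsplit := Splits.of_dvd hMbarsplit hMbar_ne hdvd'
  have hproots : ∀ y ∈ ((minpoly (ResidueField B) (residue A u)).map
      (algebraMap (ResidueField B) (ResidueField A))).roots, y = 0 ∨ y = residue A u := by
    intro y hy
    have h1 := Multiset.mem_of_le (roots.le_of_dvd hMbar_ne hdvd') hy
    rw [hMbarroots] at h1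
    exact hRbar01 y h1
  have hnodup := nodup_roots (hpsep.map (f := algebraMap (ResidueField B) (ResidueField A)))
  have hcard := hpsplit.natDegree_eq_card_roots
  rw [natDegree_map] at hcard
  have hpne : (minpoly (ResidueField B) (residue A u)).map
      (algebraMap (ResidueField B) (ResidueField A)) ≠ 0 :=
    ((minpoly.monic hintbar).map _).ne_zero
  have hdeg1 : (minpoly (ResidueField B) (residue A u)).natDegree = 1 := by
    by_cases h0 : (0 : ResidueField A) ∈ ((minpoly (ResidueField B) (residue A u)).map
      (algebraMap (ResidueField B) (ResidueField A))).roots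
    · have hp0 : (minpoly (ResidueField B) (residue A u)).IsRoot 0 := by
        rw [mem_roots hpne, IsRoot.def, eval_map, eval₂_at_zero] at h0
        rw [IsRoot.def, ← coeff_zero_eq_eval_zero]
        exact (map_eq_zero_iff _ (algebraMap (ResidueField B) (ResidueField A)).injective).mp h0
      have := degree_eq_one_of_irreducible_of_root (minpoly.irreducible hintbar) hp0
      exact natDegree_eq_of_degree_eq_some this
    · have hsub : ((minpoly (ResidueField B) (residue A u)).map
          (algebraMap (ResidueField B) (ResidueField A))).roots ≤ {residue A u} := by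
        rw [Multiset.le_iff_subset hnodup]
        intro y hy
        rw [Multiset.mem_singleton]
        rcases hproots y hy with rfl | h
        · exact absurd hy h0
        · exact h
      have hle := Multiset.card_le_card hsub
      rw [Multiset.card_singleton] at hle
      have hpos : 0 < (minpoly (ResidueField B) (residue A u)).natDegree :=
        minpoly.natDegree_pos hintbar
      omega
  exact minpoly.natDegree_eq_one_iff.mp hdeg1

end Groth.Agent.Lib.Helper23.Inert
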