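import Mathlib
import Groth.Agent.Lib.Helper23.Inert1
import Groth.Agent.Lib.Helper27.FFExt8
import Groth.Agent.Lib.Helper27.FunFld10

/-! Inertia groups of places in Galois extensions of function fields: `|I(Q|P)| = e(Q|P)`. -/

set_option autoImplicit false

namespace Groth.Agent.Lib.Helper23.Inert

open FunFld IsLocalRing
open Groth.Agent.Lib.Helper27.FF
open scoped Pointwise

universe u v w
variable {k : Type u} {K : Type v} {K' : Type w} [Field k] [Field K] [Field K'] [Algebra k K]
  [Algebra K K'] [Algebra k K'] [IsScalarTower k K K']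

section

variable {Q : Place k K'} {P : Place k K} {e : ℕ}

/-- The inclusion `O_P → O_Q`. -/
def ooHom (he : IsOverWith Q P e) : P.O →+* Q.O :=
  ((algebraMap K K').comp P.O.subtype).codRestrict Q.O fun x =>
    (Valuation.mem_valuationSubring_iff _ _).mpr
      ((isOverWith_val_le_one_iff he x.1).mpr ((Valuation.mem_valuationSubring_iff _ _).mp x.2))

theorem ooHom_coe (he : IsOverWith Q P e) (x : P.O) :
    ((ooHom he x : Q.O) : K') = algebraMap K K' (x : K) := rfl

theorem isLocalHom_ooHom (he : IsOverWith Q P e) : IsLocalHom (ooHom he) := by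
  constructor
  intro x hx
  rw [(Valuation.valuationSubring.integers Q.1).isUnit_iff_valuation_eq_one] at hx
  rw [(Valuation.valuationSubring.integers P.1).isUnit_iff_valuation_eq_one]
  have h1 : Q.1 (algebraMap K K' (x : K)) = 1 := hx
  rw [he (x : K)] at h1
  have hpos := isOverWith_pos he
  exact (pow_eq_one_iff.mp h1).resolve_right (by omega)

theorem actP_inv_eq {σ : K' ≃ₐ[K] K'} {Q : Place k K'} (h : actP σ Q = Q) :
    actP σ⁻¹ Q = Q := by
  have h1 := actP_mul (k := k) σ σ⁻¹ Q
  rw [mul_inv_cancel, actP_one, h] at h1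
  exact h1.symm

theorem mem_decomposition_of_actP_eq {σ : K' ≃ₐ[K] K'} {Q : Place k K'} (h : actP σ Q = Q) :
    σ ∈ (Q.O).decompositionSubgroup K := by
  rw [MulAction.mem_stabilizer_iff, smul_O, actP_inv_eq h]

theorem exists_lift (hK : IsFunctionField k K) [FiniteDimensional K K']
    (he : IsOverWith Q P e) (a : ResidueField Q.O) :
    ∃ (u : K') (hu : Q.1 u ≤ 1),
      residue Q.O ⟨u, (Valuation.mem_valuationSubring_iff _ _).mpr hu⟩ = a ∧
      ∀ Q' : Place k K', IsOver Q' P → Q' ≠ Q → Q'.1 u < 1 := by
  classical
  obtain ⟨u₀, rfl⟩ := residue_surjective a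
  have hfin := (sum_ramIdx_mul_deg (K' := K') hK P).1
  set S : Finset (Place k K') := hfin.toFinset with hS
  have hmemS : ∀ Q', Q' ∈ S ↔ IsOver Q' P := fun Q' => hfin.mem_toFinset
  obtain ⟨z, hz⟩ := Groth.Agent.Lib.Helper23.FF.weak_approx
    (fun Q' : ↥S => (Q' : Place k K')) Subtype.coe_injective
    (fun Q' => if (Q' : Place k K') = Q then (u₀ : K') else 0) 1
  have hlt : (WithZero.exp (-((1 : ℕ) : ℤ)) : WithZero (Multiplicative ℤ)) < 1 := by
    rw [← WithZero.exp_zero, WithZero.exp_lt_exp]; norm_num
  have hzQ : Q.1 (z - u₀) < 1 := by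
    have := hz ⟨Q, (hmemS _).mpr ⟨e, he⟩⟩
    rw [if_pos rfl] at this
    exact lt_of_le_of_lt this hlt
  have hu₀ : Q.1 (u₀ : K') ≤ 1 := (Valuation.mem_valuationSubring_iff _ _).mp u₀.2
  have hzle : Q.1 z ≤ 1 := by
    have e1 : z = (z - u₀) + u₀ := by ring
    rw [e1]
    exact (Q.1.map_add _ _).trans (max_le hzQ.le hu₀)
  refine ⟨z, hzle, ?_, ?_⟩
  · rw [← sub_eq_zero, ← map_sub, Groth.Agent.Lib.Helper23.FF.residue_eq_zero_iff]
    exact hzQ
  · intro Q' hQ' hne
    have := hz ⟨Q', (hmemS _).mpr hQ'⟩
    rw [if_neg hne, sub_zero] at this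
    exact lt_of_le_of_lt this hlt

end

theorem algRes_eq {L : Type*} [Field L] [Algebra k L] (Q : Place k L) :
    (Place.algRes Q : Algebra k (ResidueField Q.O)) = IsLocalRing.ResidueField.algebra _ := by
  apply Algebra.algebra_ext
  intro c
  rfl

/-- The inertia group of `Q` over `P` has order `e(Q|P)` (S11023). -/
theorem card_inertia (hK : IsFunctionField k K) [FiniteDimensional K K'] [IsGalois K K']
    (Q : Place k K') (P : Place k K) (e : ℕ) (he : IsOverWith Q P e)
    [Algebra.IsSeparable k (ResidueField Q.O)] :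
    Nat.card ((Q.O).inertiaSubgroup K) = e := by
  classical
  have hsep : @Algebra.IsSeparable k (ResidueField Q.O) _ _ (IsLocalRing.ResidueField.algebra _) := by
    rw [← algRes_eq Q]
    infer_instance
  letI : Algebra k (ResidueField P.O) := IsLocalRing.ResidueField.algebra _
  letI : Algebra k (ResidueField Q.O) := IsLocalRing.ResidueField.algebra _
  letI : Algebra P.O Q.O := (ooHom he).toAlgebra
  haveI : IsLocalHom (algebraMap P.O Q.O) := isLocalHom_ooHom he
  haveI : IsScalarTower k P.O Q.O :=
    IsScalarTower.of_algebraMap_eq fun c => Subtype.ext (IsScalarTower.algebraMap_apply k K K' c)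
  have hdeg := card_decomposition_mul_deg hK he
  have hPdeg : 1 ≤ P.deg := one_le_deg' hK P
  have hDpos : 0 < Nat.card ((Q.O).decompositionSubgroup K) := Nat.card_pos
  have hQdeg : 0 < Q.deg := by
    by_contra h
    have h0 : Q.deg = 0 := by omega
    rw [h0, mul_zero] at hdeg
    have := Nat.mul_pos hDpos hPdeg
    omega
  haveI hfinQ : FiniteDimensional k (ResidueField Q.O) := Module.finite_of_finrank_pos hQdeg
  haveI : FiniteDimensional (ResidueField P.O) (ResidueField Q.O) :=
    FiniteDimensional.right k _ _
  haveI : Algebra.IsSeparable (ResidueField P.O) (ResidueField Q.O) :=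
    Algebra.isSeparable_tower_top_of_isSeparable k _ _
  have hfixP : ∀ (g : (Q.O).decompositionSubgroup K) (x : ResidueField P.O),
      g • (algebraMap (ResidueField P.O) (ResidueField Q.O) x) =
        algebraMap (ResidueField P.O) (ResidueField Q.O) x := by
    intro g x
    obtain ⟨x, rfl⟩ := residue_surjective x
    show g • residue Q.O (algebraMap P.O Q.O x) = residue Q.O (algebraMap P.O Q.O x)
    rw [← ResidueField.residue_smul]
    congr 1
    apply Subtype.ext
    show (g : K' ≃ₐ[K] K') (algebraMap K K' (x : K)) = algebraMap K K' (x : K)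
    exact (g : K' ≃ₐ[K] K').commutes _
  let ρ : (Q.O).decompositionSubgroup K →*
      (ResidueField Q.O ≃ₐ[ResidueField P.O] ResidueField Q.O) :=
    { toFun := fun g =>
        { MulSemiringAction.toRingAut ((Q.O).decompositionSubgroup K) (ResidueField Q.O) g with
          commutes' := hfixP g }
      map_one' := by
        ext x
        show (1 : (Q.O).decompositionSubgroup K) • x = x
        exact one_smul _ x
      map_mul' := fun g h => by
        ext x
        show (g * h) • x = g • h • x
        exact mul_smul g h x }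
  have hρ : ∀ (g : (Q.O).decompositionSubgroup K) (x : ResidueField Q.O), ρ g x = g • x :=
    fun g x => rfl
  have hker : ρ.ker = (Q.O).inertiaSubgroup K := by
    ext g
    rw [MonoidHom.mem_ker]
    unfold ValuationSubring.inertiaSubgroup
    rw [MonoidHom.mem_ker]
    constructor
    · intro h
      ext x
      exact AlgEquiv.congr_fun h x
    · intro h
      ext x
      exact RingEquiv.congr_fun h x
  have hfix : IntermediateField.fixedField ρ.range = ⊥ := by
    apply le_antisymm _ bot_le
    intro a ha
    rw [IntermediateField.mem_fixedField_iff] at ha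
    rw [IntermediateField.mem_bot]
    have ha' : ∀ g : (Q.O).decompositionSubgroup K, g • a = a := fun g => ha (ρ g) ⟨g, rfl⟩
    obtain ⟨u, hu, hua, hother⟩ := exists_lift hK he a
    have hmem := residue_mem_range_of_conj Q.O P.O (fun b => rfl)
      (fun x hx => (Valuation.mem_valuationSubring_iff _ _).mpr
        ((isOverWith_val_le_one_iff he x).mp ((Valuation.mem_valuationSubring_iff _ _).mp hx)))
      ⟨u, (Valuation.mem_valuationSubring_iff _ _).mpr hu⟩ (by
        intro σ
        by_cases hσ : actP σ Q = Q
        · have hσu : Q.1 (σ u) ≤ 1 := by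
            rw [← actP_apply, hσ]; exact hu
          refine ⟨(Valuation.mem_valuationSubring_iff _ _).mpr hσu, Or.inr ?_⟩
          have e1 : (⟨σ u, (Valuation.mem_valuationSubring_iff _ _).mpr hσu⟩ : Q.O) =
              (⟨σ, mem_decomposition_of_actP_eq hσ⟩ : (Q.O).decompositionSubgroup K) •
                (⟨u, (Valuation.mem_valuationSubring_iff _ _).mpr hu⟩ : Q.O) := rfl
          rw [e1, ResidueField.residue_smul, hua, ha']
        · have hlt : Q.1 (σ u) < 1 := by
            rw [← actP_apply]
            exact hother (actP σ Q) ⟨e, isOverWith_actP he σ⟩ hσ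
          refine ⟨(Valuation.mem_valuationSubring_iff _ _).mpr hlt.le, Or.inl ?_⟩
          rw [Groth.Agent.Lib.Helper23.FF.residue_eq_zero_iff]
          exact hlt)
    rw [hua] at hmem
    exact hmem
  have hH : Nat.card ρ.range = Module.finrank (ResidueField P.O) (ResidueField Q.O) := by
    rw [← IntermediateField.finrank_fixedField_eq_card, hfix, IntermediateField.finrank_bot']
  have htower : P.deg * Module.finrank (ResidueField P.O) (ResidueField Q.O) = Q.deg :=
    Module.finrank_mul_finrank k (ResidueField P.O) (ResidueField Q.O)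
  have hD : Nat.card ((Q.O).decompositionSubgroup K) = Nat.card ρ.range * Nat.card ρ.ker := by
    rw [Subgroup.card_eq_card_quotient_mul_card_subgroup ρ.ker,
      Nat.card_congr (QuotientGroup.quotientKerEquivRange ρ).toEquiv]
  rw [hker] at hD
  have hfpos : 0 < Module.finrank (ResidueField P.O) (ResidueField Q.O) := Module.finrank_pos
  rw [hD, hH, ← htower] at hdeg
  have h3 : Module.finrank (ResidueField P.O) (ResidueField Q.O) * P.deg *
      Nat.card ((Q.O).inertiaSubgroup K) =
      Module.finrank (ResidueField P.O) (ResidueField Q.O) * P.deg * e := by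
    nlinarith [hdeg]
  exact Nat.eq_of_mul_eq_mul_left (Nat.mul_pos hfpos (by omega)) h3

end Groth.Agent.Lib.Helper23.Inert
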