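import Mathlib
import Groth.Agent.Lib.Helper23.Inert2
import Groth.Agent.Lib.Helper27.FFExt2

/-! Inertia groups over an intermediate field (change of the constant field). -/

set_option autoImplicit false

namespace Groth.Agent.Lib.Helper23.Inert

open FunFld IsLocalRing
open Groth.Agent.Lib.Helper27.FF
open scoped Pointwise

universe u v w x
variable {k : Type u} {K : Type v} {E : Type x} {K' : Type w} [Field k] [Field K] [Field E]
  [Field K'] [Algebra k K] [Algebra k E] [Algebra k K'] [Algebra K E] [Algebra E K']
  [IsScalarTower k K E] [IsScalarTower k E K']

/-- Every place of `K'` lies over a place of the intermediate field `E`. -/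
theorem exists_below_tower (hK : IsFunctionField k K) [FiniteDimensional K E]
    [Algebra.IsAlgebraic E K'] (Q : Place k K') :
    ∃ (P : Place k E) (e : ℕ), IsOverWith Q P e := by
  obtain ⟨hE, hfin⟩ := isFunctionField_algebraicClosure hK (K' := E)
  haveI : Algebra.IsAlgebraic k (algebraicClosure k E) := Algebra.IsAlgebraic.of_finite k _
  obtain ⟨P, e, he⟩ := exists_isOverWith hE (Place.up (k' := algebraicClosure k E) Q)
  exact ⟨Place.down P, e, fun x => he x⟩

/-- `|I(Q|P)| = e(Q|P)` over an intermediate field. -/
theorem card_inertia_tower (hK : IsFunctionField k K) [FiniteDimensional K E]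
    [FiniteDimensional E K'] [IsGalois E K']
    (Q : Place k K') (P : Place k E) (e : ℕ) (he : IsOverWith Q P e)
    [hsep : Algebra.IsSeparable k (ResidueField Q.O)] :
    Nat.card ((Q.O).inertiaSubgroup E) = e := by
  obtain ⟨hE, hfin⟩ := isFunctionField_algebraicClosure hK (K' := E)
  haveI : Algebra.IsAlgebraic k (algebraicClosure k E) := Algebra.IsAlgebraic.of_finite k _
  letI a0 : Algebra k (ResidueField (Place.up (k' := algebraicClosure k E) Q).O) := Place.algRes Q
  haveI hsep' : Algebra.IsSeparable k (ResidueField (Place.up (k' := algebraicClosure k E) Q).O) :=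
    hsep
  haveI : IsScalarTower k (algebraicClosure k E)
      (ResidueField (Place.up (k' := algebraicClosure k E) Q).O) := by
    apply IsScalarTower.of_algebraMap_eq
    intro c
    show residue Q.O (algebraMap k Q.O c) =
      residue (Place.up (k' := algebraicClosure k E) Q).O
        (algebraMap (algebraicClosure k E) (Place.up (k' := algebraicClosure k E) Q).O
          (algebraMap k (algebraicClosure k E) c))
    congr 1
    apply Subtype.ext
    show algebraMap k K' c = algebraMap (algebraicClosure k E) K' (algebraMap k _ c)
    exact IsScalarTower.algebraMap_apply k (algebraicClosure k E) K' c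
  haveI : Algebra.IsSeparable (algebraicClosure k E)
      (ResidueField (Place.up (k' := algebraicClosure k E) Q).O) :=
    Algebra.isSeparable_tower_top_of_isSeparable k _ _
  exact card_inertia hE (Place.up (k' := algebraicClosure k E) Q)
    (Place.up (k' := algebraicClosure k E) P) e (fun x => he x)

end Groth.Agent.Lib.Helper23.Inert
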