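import Mathlib
import Groth.Agent.Lib.Helper23.Inert3

/-! Inertia groups: valuation-theoretic description and the inertia group over an intermediate
field. -/

set_option autoImplicit false

namespace Groth.Agent.Lib.Helper23.Inert

open FunFld IsLocalRing
open Groth.Agent.Lib.Helper27.FF
open scoped Pointwise

universe u v w x

section Cond

variable {k : Type u} {F : Type x} {K' : Type w} [Field k] [Field F] [Field K'] [Algebra k K']
  [Algebra F K']

/-- The valuation-theoretic condition cutting out the inertia group. -/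
def InCond (Q : Place k K') (f : K' → K') : Prop :=
  (∀ z, Q.1 (f z) ≤ 1 ↔ Q.1 z ≤ 1) ∧ ∀ z, Q.1 z ≤ 1 → Q.1 (f z - z) < 1

theorem mem_decomposition_iff (Q : Place k K') (σ : K' ≃ₐ[F] K') :
    σ ∈ (Q.O).decompositionSubgroup F ↔ ∀ z, Q.1 (σ z) ≤ 1 ↔ Q.1 z ≤ 1 := by
  rw [MulAction.mem_stabilizer_iff]
  constructor
  · intro h z
    have h1 := ValuationSubring.smul_mem_pointwise_smul_iff (g := σ) (S := Q.O) (x := z)
    rw [h] at h1
    exact h1
  · intro h
    ext x
    rw [ValuationSubring.mem_pointwise_smul_iff_inv_smul_mem]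
    have h1 := h (σ⁻¹ x)
    have e1 : σ (σ⁻¹ x) = x := σ.apply_symm_apply x
    rw [e1] at h1
    exact h1.symm

theorem mem_inertia_map_iff (Q : Place k K') (σ : K' ≃ₐ[F] K') :
    σ ∈ ((Q.O).inertiaSubgroup F).map ((Q.O).decompositionSubgroup F).subtype ↔
      InCond Q σ := by
  constructor
  · rintro ⟨g, hg, rfl⟩
    refine ⟨(mem_decomposition_iff Q g.1).mp g.2, fun z hz => ?_⟩
    have h1 : MulSemiringAction.toRingAut _ (ResidueField Q.O) g = 1 := hg
    have h2 := RingEquiv.congr_fun h1
      (residue Q.O ⟨z, (Valuation.mem_valuationSubring_iff _ _).mpr hz⟩)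
    have h3 : residue Q.O (g • (⟨z, (Valuation.mem_valuationSubring_iff _ _).mpr hz⟩ : Q.O)) =
        residue Q.O ⟨z, (Valuation.mem_valuationSubring_iff _ _).mpr hz⟩ := h2
    rw [← sub_eq_zero, ← map_sub, Groth.Agent.Lib.Helper23.FF.residue_eq_zero_iff] at h3
    exact h3
  · rintro ⟨h1, h2⟩
    refine ⟨⟨σ, (mem_decomposition_iff Q σ).mpr h1⟩, ?_, rfl⟩
    show MulSemiringAction.toRingAut _ (ResidueField Q.O) _ = 1
    ext y
    obtain ⟨y, rfl⟩ := residue_surjective y
    show residue Q.O
      ((⟨σ, (mem_decomposition_iff Q σ).mpr h1⟩ : (Q.O).decompositionSubgroup F) • y) =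
      residue Q.O y
    rw [← sub_eq_zero, ← map_sub, Groth.Agent.Lib.Helper23.FF.residue_eq_zero_iff]
    exact h2 y.1 ((Valuation.mem_valuationSubring_iff _ _).mp y.2)

end Cond

section Corr

variable {k : Type u} {K : Type v} {K' : Type w} [Field k] [Field K] [Field K'] [Algebra k K']
  [Algebra K K']

/-- The inertia group over an intermediate field is the part of the inertia group fixing it. -/
theorem card_inertia_intermediate (Q : Place k K') (E : IntermediateField K K') :
    Nat.card ((Q.O).inertiaSubgroup E) =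
      Nat.card ↥((((Q.O).inertiaSubgroup K).map ((Q.O).decompositionSubgroup K).subtype) ⊓
        E.fixingSubgroup) := by
  have e1 : Nat.card ((Q.O).inertiaSubgroup E) =
      Nat.card ↥(((Q.O).inertiaSubgroup E).map ((Q.O).decompositionSubgroup E).subtype) :=
    Nat.card_congr (Subgroup.equivMapOfInjective _ _ (Subgroup.subtype_injective _)).toEquiv
  rw [e1]
  apply Nat.card_congr
  exact
    { toFun := fun s => ⟨(s.1 : K' ≃ₐ[E] K').restrictScalars K, Subgroup.mem_inf.mpr
        ⟨(mem_inertia_map_iff Q _).mpr ((mem_inertia_map_iff Q s.1).mp s.2),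
          (IntermediateField.mem_fixingSubgroup_iff E _).mpr
            (fun y hy => (s.1 : K' ≃ₐ[E] K').commutes ⟨y, hy⟩)⟩⟩
      invFun := fun t => ⟨IntermediateField.fixingSubgroupEquiv E
          ⟨t.1, (Subgroup.mem_inf.mp t.2).2⟩,
        (mem_inertia_map_iff Q _).mpr ((mem_inertia_map_iff Q t.1).mp (Subgroup.mem_inf.mp t.2).1)⟩
      left_inv := fun s => Subtype.ext (AlgEquiv.ext fun y => rfl)
      right_inv := fun t => Subtype.ext (AlgEquiv.ext fun y => rfl) }

end Corr

section Main

variable {k : Type u} {K : Type v} {K' : Type w} [Field k] [Field K] [Field K'] [Algebra k K]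
  [Algebra K K'] [Algebra k K'] [IsScalarTower k K K']

/-- The ramification index over an intermediate field `E` is the order of the part of the
inertia group fixing `E`. -/
theorem card_inf_fixingSubgroup (hK : IsFunctionField k K) [FiniteDimensional K K']
    [IsGalois K K'] (Q : Place k K') [Algebra.IsSeparable k (ResidueField Q.O)]
    (E : IntermediateField K K') (P : Place k E) (e : ℕ) (he : IsOverWith Q P e) :
    Nat.card ↥((((Q.O).inertiaSubgroup K).map ((Q.O).decompositionSubgroup K).subtype) ⊓
        E.fixingSubgroup) = e := by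
  rw [← card_inertia_intermediate Q E]
  haveI : IsScalarTower k E K' := IsScalarTower.of_algebraMap_eq (fun c => rfl)
  exact card_inertia_tower hK Q P e he

theorem card_inertia_map (hK : IsFunctionField k K) [FiniteDimensional K K']
    [IsGalois K K'] (Q : Place k K') [Algebra.IsSeparable k (ResidueField Q.O)]
    (P : Place k K) (e : ℕ) (he : IsOverWith Q P e) :
    Nat.card ↥(((Q.O).inertiaSubgroup K).map ((Q.O).decompositionSubgroup K).subtype) = e := by
  rw [← card_inertia hK Q P e he]
  exact (Nat.card_congr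
    (Subgroup.equivMapOfInjective _ _ (Subgroup.subtype_injective _)).toEquiv).symm

end Main

section Range

variable {k : Type u} {F : Type x} {K' : Type w} [Field k] [Field F] [Field K'] [Algebra k F]
  [Algebra k K'] [Algebra F K'] [IsScalarTower k F K']

theorem range_comap_eq {Q : Place k K'} {P : Place k F} {e : ℕ} (he : IsOverWith Q P e) :
    Set.range (Q.1.comap (algebraMap F K')) =
      {0} ∪ Set.range (fun n : ℤ => (WithZero.exp ((e : ℤ) * n) : WithZero (Multiplicative ℤ))) := by
  ext γ
  constructor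
  · rintro ⟨y, rfl⟩
    show Q.1 (algebraMap F K' y) ∈ _
    rw [he y]
    rcases Groth.Agent.Lib.Helper27.FF.eq_zero_or_exp (P.1 y) with h | ⟨n, h⟩
    · left
      rw [h, Set.mem_singleton_iff]
      exact zero_pow (by have := isOverWith_pos he; omega)
    · right
      refine ⟨n, ?_⟩
      rw [h, ← WithZero.exp_nsmul]
      show WithZero.exp ((e : ℤ) * n) = WithZero.exp (e • n)
      rw [nsmul_eq_mul]
  · rintro (h | ⟨n, rfl⟩)
    · rw [Set.mem_singleton_iff] at h
      exact ⟨0, by rw [h]; exact map_zero _⟩
    · obtain ⟨y, hy⟩ := P.2.2 (WithZero.exp n)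
      refine ⟨y, ?_⟩
      show Q.1 (algebraMap F K' y) = _
      rw [he y, hy, ← WithZero.exp_nsmul]
      show WithZero.exp (e • n) = WithZero.exp ((e : ℤ) * n)
      rw [nsmul_eq_mul]

theorem valRange_eq_iff (e e' : ℕ) :
    (({0} : Set (WithZero (Multiplicative ℤ))) ∪
        Set.range (fun n : ℤ => (WithZero.exp ((e' : ℤ) * n) : WithZero (Multiplicative ℤ))) =
      {0} ∪ Set.range (fun n : ℤ => (WithZero.exp ((e : ℤ) * n) : WithZero (Multiplicative ℤ)))) ↔
      e' = e := by
  constructor
  · intro h
    have key : ∀ a b : ℕ,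
        (WithZero.exp ((a : ℤ) * 1) : WithZero (Multiplicative ℤ)) ∈
          ({0} : Set (WithZero (Multiplicative ℤ))) ∪
            Set.range (fun n : ℤ => (WithZero.exp ((b : ℤ) * n) : WithZero (Multiplicative ℤ))) →
        b ∣ a := by
      intro a b hab
      rcases hab with h0 | ⟨n, hn⟩
      · rw [Set.mem_singleton_iff] at h0
        exact absurd h0 WithZero.exp_ne_zero
      · have h1 : (b : ℤ) * n = (a : ℤ) * 1 := WithZero.exp_injective hn
        rw [mul_one] at h1
        exact Int.natCast_dvd_natCast.mp ⟨n, h1.symm⟩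
    have h1 : e ∣ e' := key e' e (by rw [← h]; right; exact ⟨1, rfl⟩)
    have h2 : e' ∣ e := key e e' (by rw [h]; right; exact ⟨1, rfl⟩)
    exact Nat.dvd_antisymm h2 h1
  · rintro rfl
    rfl

end Range

end Groth.Agent.Lib.Helper23.Inert
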