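import Mathlib
import Groth.Agent.Lib.Helper23.Inert4

/-! If the residue field of `Q` is separable over `k` and every residue class of `Q` has its
`p`-th power coming from `P` (char `p`), then `deg Q = deg P`. -/

set_option autoImplicit false

namespace Groth.Agent.Lib.Helper23.Inert

open FunFld IsLocalRing
open Groth.Agent.Lib.Helper27.FF

universe u v w
variable {k : Type u} {K : Type v} {K' : Type w} [Field k] [Field K] [Field K'] [Algebra k K]
  [Algebra K K'] [Algebra k K'] [IsScalarTower k K K']

theorem deg_eq_of_residue_pow {Q : Place k K'} {P : Place k K} {e : ℕ} (he : IsOverWith Q P e)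
    [Algebra.IsSeparable k (ResidueField Q.O)] (hQdeg : 0 < Q.deg)
    (p : ℕ) [hp : Fact p.Prime] [CharP K' p]
    (hpow : ∀ y : K', Q.1 y ≤ 1 → ∃ x : K, P.1 x ≤ 1 ∧ Q.1 (y ^ p - algebraMap K K' x) < 1) :
    Q.deg = P.deg := by
  classical
  have hsep : @Algebra.IsSeparable k (ResidueField Q.O) _ _ (IsLocalRing.ResidueField.algebra _) := by
    rw [← algRes_eq Q]
    infer_instance
  letI : Algebra k (ResidueField P.O) := IsLocalRing.ResidueField.algebra _
  letI : Algebra k (ResidueField Q.O) := IsLocalRing.ResidueField.algebra _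
  letI : Algebra P.O Q.O := (ooHom he).toAlgebra
  haveI : IsLocalHom (algebraMap P.O Q.O) := isLocalHom_ooHom he
  haveI : IsScalarTower k P.O Q.O :=
    IsScalarTower.of_algebraMap_eq fun c => Subtype.ext (IsScalarTower.algebraMap_apply k K K' c)
  haveI hfinQ : FiniteDimensional k (ResidueField Q.O) := Module.finite_of_finrank_pos hQdeg
  haveI : FiniteDimensional (ResidueField P.O) (ResidueField Q.O) :=
    FiniteDimensional.right k _ _
  haveI : Algebra.IsSeparable (ResidueField P.O) (ResidueField Q.O) :=
    Algebra.isSeparable_tower_top_of_isSeparable k _ _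
  haveI hpk : CharP k p := (algebraMap k K').charP_iff_charP p |>.mpr inferInstance
  haveI : CharP (ResidueField P.O) p :=
    charP_of_injective_algebraMap (algebraMap k (ResidueField P.O)).injective p
  haveI : ExpChar (ResidueField P.O) p := ExpChar.prime hp.out
  haveI : IsPurelyInseparable (ResidueField P.O) (ResidueField Q.O) := by
    rw [isPurelyInseparable_iff_pow_mem (ResidueField P.O) p]
    intro a
    obtain ⟨y, rfl⟩ := residue_surjective a
    obtain ⟨x, hx, hlt⟩ := hpow (y : K') ((Valuation.mem_valuationSubring_iff _ _).mp y.2)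
    refine ⟨1, residue P.O ⟨x, (Valuation.mem_valuationSubring_iff _ _).mpr hx⟩, ?_⟩
    rw [pow_one, ← map_pow]
    show residue Q.O (algebraMap P.O Q.O ⟨x, _⟩) = residue Q.O (y ^ p)
    symm
    rw [← sub_eq_zero, ← map_sub, Groth.Agent.Lib.Helper23.FF.residue_eq_zero_iff]
    exact hlt
  have hsurj : Function.Surjective (algebraMap (ResidueField P.O) (ResidueField Q.O)) :=
    IsPurelyInseparable.surjective_algebraMap_of_isSeparable _ _
  have hone : Module.finrank (ResidueField P.O) (ResidueField Q.O) = 1 := by
    have e1 := (LinearEquiv.ofBijective (Algebra.linearMap (ResidueField P.O) (ResidueField Q.O))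
      ⟨(algebraMap (ResidueField P.O) (ResidueField Q.O)).injective, hsurj⟩).finrank_eq
    rw [Module.finrank_self] at e1
    exact e1.symm
  have htower : P.deg * Module.finrank (ResidueField P.O) (ResidueField Q.O) = Q.deg :=
    Module.finrank_mul_finrank k (ResidueField P.O) (ResidueField Q.O)
  rw [hone, mul_one] at htower
  exact htower.symm

end Groth.Agent.Lib.Helper23.Inert
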