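import Mathlib
import Groth.Agent.Lib.Helper23.Inert5

/-! Integral closure of `O_P` in a finite extension `K'` of a function field `K`:
`z` is integral over `O_P` iff `z ∈ O_Q` for every place `Q` of `K'` over `P`. -/

set_option autoImplicit false

namespace Groth.Agent.Lib.Helper23.IntCl

open FunFld IsLocalRing
open Groth.Agent.Lib.Helper27.FF

universe u v w
variable {k : Type u} {K : Type v} {K' : Type w} [Field k] [Field K] [Field K'] [Algebra k K]

/-- A valuation subring of a function field containing `k` and different from `K` is `O_Q`. -/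
theorem exists_place_of_valuationSubring' (hK : IsFunctionField k K) (V : ValuationSubring K)
    (hk : ∀ c : k, algebraMap k K c ∈ V) {z : K} (hz : z ∉ V) :
    ∃ Q : Place k K, ∀ y : K, Q.1 y ≤ 1 ↔ y ∈ V := by
  have hz0 : z ≠ 0 := by rintro rfl; exact hz V.zero_mem
  have h1 : V.valuation z⁻¹ < 1 := by
    rw [map_inv₀]
    have : 1 < V.valuation z := by rw [← not_le, V.valuation_le_one_iff]; exact hz
    exact inv_lt_one_of_one_lt₀ this
  exact exists_place_of_valuationSubring hK V hk (inv_ne_zero hz0) h1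

variable [Algebra K K'] [Algebra k K'] [IsScalarTower k K K']

theorem algebraMap_O_eq (P : Place k K) [Algebra P.O K'] [IsScalarTower P.O K K'] (a : P.O) :
    algebraMap P.O K' a = algebraMap K K' (a : K) :=
  IsScalarTower.algebraMap_apply P.O K K' a

/-- Easy direction: integral over `O_P` implies regular at all places over `P`. -/
theorem val_le_one_of_isIntegral_O {Q : Place k K'} {P : Place k K} (hQ : IsOver Q P)
    [Algebra P.O K'] [IsScalarTower P.O K K'] {z : K'} (hz : IsIntegral P.O z) : Q.1 z ≤ 1 := by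
  obtain ⟨e, he⟩ := hQ
  refine val_le_one_of_isIntegral (R := P.O) Q.1 (fun r => ?_) hz
  rw [algebraMap_O_eq P r, isOverWith_val_le_one_iff he]
  exact (Valuation.mem_valuationSubring_iff _ _).mp r.2

/-- Hard direction. -/
theorem isIntegral_of_forall_isOver (hK : IsFunctionField k K) [FiniteDimensional K K']
    (P : Place k K) [Algebra P.O K'] [IsScalarTower P.O K K'] {z : K'}
    (hz : ∀ Q : Place k K', IsOver Q P → Q.1 z ≤ 1) : IsIntegral P.O z := by
  by_contra hni
  have hzR : z ∉ (integralClosure P.O K').toSubring := hni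
  obtain ⟨V, hRV, hzV⟩ := Subring.exists_le_valuationSubring_of_isIntegrallyClosedIn hzR
  obtain ⟨hK₁, hfin₁⟩ := isFunctionField_algebraicClosure (K' := K') hK
  have hOP : ∀ x : K, P.1 x ≤ 1 → algebraMap K K' x ∈ V := by
    intro x hx
    have h1 : IsIntegral P.O (algebraMap P.O K' ⟨x, (Valuation.mem_valuationSubring_iff _ _).mpr hx⟩) :=
      isIntegral_algebraMap
    have h2 := hRV h1
    rwa [algebraMap_O_eq P] at h2
  have hk : ∀ c : k, V.valuation (algebraMap k K' c) ≤ 1 := by
    intro c
    rw [V.valuation_le_one_iff, IsScalarTower.algebraMap_apply k K K']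
    exact hOP _ (P.2.1 c)
  have hk₁ : ∀ c : algebraicClosure k K', algebraMap (algebraicClosure k K') K' c ∈ V := by
    intro c
    have hc : IsIntegral k (c : K') := mem_algebraicClosure_iff'.mp c.2
    have := val_le_one_of_isIntegral (R := k) V.valuation hk hc
    exact (V.valuation_le_one_iff _).mp this
  obtain ⟨Q₁, hQ₁⟩ := exists_place_of_valuationSubring' hK₁ V hk₁ hzV
  obtain ⟨P', e, he⟩ := exists_isOverWith hK (Place.down (k := k) Q₁)
  have hPP' : P' = P := by
    apply place_eq_of_le_one_iff
    intro x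
    rw [← isOverWith_val_le_one_iff he x]
    show Q₁.1 (algebraMap K K' x) ≤ 1 ↔ P.1 x ≤ 1
    rw [hQ₁]
    refine ⟨fun hxV => ?_, hOP x⟩
    by_contra hgt
    rw [not_le] at hgt
    -- then all of `K` lies in `V`, hence `z ∈ V`
    have hall : ∀ y : K, V.valuation (algebraMap K K' y) ≤ 1 := by
      intro y
      rw [V.valuation_le_one_iff]
      by_cases hy0 : y = 0
      · rw [hy0, map_zero]; exact V.zero_mem
      have hx0 : x ≠ 0 := by
        rintro rfl
        rw [map_zero] at hgt
        exact not_lt.mpr zero_le_one hgt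
      obtain ⟨n, hn⟩ : ∃ n : ℕ, P.1 y ≤ P.1 x ^ n := by
        have hpx : P.1 x ≠ 0 := (Valuation.ne_zero_iff _).mpr hx0
        have hpy : P.1 y ≠ 0 := (Valuation.ne_zero_iff _).mpr hy0
        have h1 : (1 : ℤ) ≤ WithZero.log (P.1 x) := by
          have : WithZero.exp (0 : ℤ) < P.1 x := by rw [WithZero.exp_zero]; exact hgt
          rw [← WithZero.exp_log hpx, WithZero.exp_lt_exp] at this
          omega
        refine ⟨(WithZero.log (P.1 y)).toNat, ?_⟩
        rw [← WithZero.exp_log hpx, ← WithZero.exp_log hpy, ← WithZero.exp_nsmul,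
          WithZero.exp_le_exp, nsmul_eq_mul]
        have h2 : WithZero.log (P.1 y) ≤ ((WithZero.log (P.1 y)).toNat : ℤ) := Int.self_le_toNat _
        have h3 : (0 : ℤ) ≤ ((WithZero.log (P.1 y)).toNat : ℤ) := Int.natCast_nonneg _
        calc WithZero.log (P.1 y) ≤ ((WithZero.log (P.1 y)).toNat : ℤ) := h2
          _ = ((WithZero.log (P.1 y)).toNat : ℤ) * 1 := (mul_one _).symm
          _ ≤ _ := mul_le_mul_of_nonneg_left h1 h3
      have h4 : P.1 (y / x ^ n) ≤ 1 := by
        rw [map_div₀, map_pow]
        exact div_le_one_of_le₀ hn zero_le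
      have h5 := hOP _ h4
      have h6 : algebraMap K K' y = algebraMap K K' (y / x ^ n) * (algebraMap K K' x) ^ n := by
        rw [← map_pow, ← map_mul, div_mul_cancel₀ _ (pow_ne_zero n hx0)]
      rw [h6]
      exact V.mul_mem _ _ h5 (V.pow_mem hxV n)
    have hzint : IsIntegral K z := (Algebra.IsAlgebraic.isAlgebraic z).isIntegral
    have := val_le_one_of_isIntegral (R := K) V.valuation hall hzint
    exact hzV ((V.valuation_le_one_iff _).mp this)
  subst hPP'
  have h7 : (Place.down (k := k) Q₁).1 z ≤ 1 := hz _ ⟨e, he⟩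
  exact hzV ((hQ₁ z).mp h7)

theorem isIntegral_iff_forall_isOver (hK : IsFunctionField k K) [FiniteDimensional K K']
    (P : Place k K) [Algebra P.O K'] [IsScalarTower P.O K K'] (z : K') :
    IsIntegral P.O z ↔ ∀ Q : Place k K', IsOver Q P → Q.1 z ≤ 1 :=
  ⟨fun h _ hQ => val_le_one_of_isIntegral_O hQ h, isIntegral_of_forall_isOver hK P⟩

end Groth.Agent.Lib.Helper23.IntCl
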