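import Mathlib
import Groth.Agent.Lib.Helper23.IntCl1
import Groth.Agent.Lib.Helper23.FFHW9
import Groth.Agent.Lib.Helper27.Geo6

/-! Places in purely inseparable (constant) extensions: uniqueness of the place above. -/

set_option autoImplicit false

namespace Groth.Agent.Lib.Helper23.PIns

open FunFld IsLocalRing
open Groth.Agent.Lib.Helper27.FF
open Groth.Agent.Lib.Helper23.Inert

universe u v w
variable {k : Type u} {K : Type v} {K' : Type w} [Field k] [Field K] [Field K'] [Algebra k K]
  [Algebra K K'] [Algebra k K'] [IsScalarTower k K K']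

/-- If every element of `K'` has a nonzero power in `K`, there is at most one place over `P`. -/
theorem isOver_unique_of_pow_mem {P : Place k K}
    (hpow : ∀ z : K', ∃ N : ℕ, N ≠ 0 ∧ ∃ x : K, z ^ N = algebraMap K K' x)
    {Q Q' : Place k K'} (hQ : IsOver Q P) (hQ' : IsOver Q' P) : Q = Q' := by
  obtain ⟨e, he⟩ := hQ
  obtain ⟨e', he'⟩ := hQ'
  apply place_eq_of_le_one_iff
  intro z
  obtain ⟨N, hN, x, hx⟩ := hpow z
  rw [← pow_le_one_iff_of_nonneg (a := Q.1 z) zero_le hN,
    ← pow_le_one_iff_of_nonneg (a := Q'.1 z) zero_le hN, ← map_pow, ← map_pow, hx,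
    isOverWith_val_le_one_iff he, isOverWith_val_le_one_iff he']

theorem exists_isOver (hK : IsFunctionField k K) [FiniteDimensional K K'] (P : Place k K) :
    ∃ Q : Place k K', IsOver Q P := by
  classical
  obtain ⟨hfin, hsum⟩ := sum_ramIdx_mul_deg (K' := K') hK P
  by_contra hne
  push Not at hne
  have h0 := hsum ∅ (fun Q => by simp [hne Q])
  rw [Finset.sum_empty] at h0
  have h1 : 0 < Module.finrank K K' := Module.finrank_pos
  have h2 := one_le_deg' hK P
  have := Nat.mul_pos h1 (by omega : 0 < P.deg)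
  omega

/-- Places of a finite extension of a function field have positive degree over `k`. -/
theorem deg_pos_tower (hK : IsFunctionField k K) [FiniteDimensional K K'] (Q : Place k K') :
    0 < Q.deg := by
  obtain ⟨hE, hfin⟩ := isFunctionField_algebraicClosure hK (K' := K')
  haveI := hfin
  haveI : Algebra.IsAlgebraic k (algebraicClosure k K') := Algebra.IsAlgebraic.of_finite k _
  have h1 := Place.deg_down (k := k) (Place.up (k' := algebraicClosure k K') Q)
  rw [Place.down_up] at h1
  rw [h1]
  exact Nat.mul_pos Module.finrank_pos (one_le_deg' hE _)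

section gen

variable {k' : Type*} [Field k'] [Algebra k k'] [Algebra k' K'] [IsScalarTower k k' K']

theorem pow_mem_of_generated
    (hsurj : Function.Surjective (Algebra.TensorProduct.productMap
      (IsScalarTower.toAlgHom k k' K') (IsScalarTower.toAlgHom k K K')))
    (q : ℕ) [ExpChar K' q] (K₀ : IntermediateField K K')
    (hk' : ∀ c : k', ∃ n : ℕ, (algebraMap k' K' c) ^ q ^ n ∈ K₀) (z : K') :
    ∃ n : ℕ, z ^ q ^ n ∈ K₀ := by
  have key : ∀ z : K', z ∈ Subalgebra.perfectClosure K₀ K' q := by
    intro z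
    obtain ⟨t, rfl⟩ := hsurj z
    induction t using TensorProduct.induction_on with
    | zero => rw [map_zero]; exact Subalgebra.zero_mem _
    | tmul c x =>
      rw [Algebra.TensorProduct.productMap_apply_tmul]
      apply Subalgebra.mul_mem
      · obtain ⟨n, hn⟩ := hk' c
        exact ⟨n, ⟨⟨_, hn⟩, rfl⟩⟩
      · exact ⟨0, ⟨⟨algebraMap K K' x, K₀.algebraMap_mem x⟩, by simp⟩⟩
    | add a b ha hb => rw [map_add]; exact Subalgebra.add_mem _ ha hb
  obtain ⟨n, ⟨y, hy⟩⟩ := key z
  exact ⟨n, hy ▸ y.2⟩

end gen

/-- If `F_P/k` is purely inseparable and `a ∈ K'` is separable algebraic over `k`, then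
`deg Q ≥ [k(a):k] deg P` for every place `Q` over `P`. -/
theorem deg_ge_of_residue_root {Q : Place k K'} {P : Place k K} {e : ℕ} (he : IsOverWith Q P e)
    (hQdeg : 0 < Q.deg) [hpi : IsPurelyInseparable k (ResidueField P.O)] (a : K')
    (ha : IsIntegral k a) (hsep : (minpoly k a).Separable) :
    (minpoly k a).natDegree * P.deg ≤ Q.deg := by
  classical
  have hpi' : @IsPurelyInseparable k (ResidueField P.O) _ _
      (IsLocalRing.ResidueField.algebra _) := by
    rw [← algRes_eq P]
    exact hpi
  letI : Algebra k (ResidueField P.O) := IsLocalRing.ResidueField.algebra _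
  letI : Algebra k (ResidueField Q.O) := IsLocalRing.ResidueField.algebra _
  letI : Algebra P.O Q.O := (ooHom he).toAlgebra
  haveI : IsLocalHom (algebraMap P.O Q.O) := isLocalHom_ooHom he
  haveI : IsScalarTower k P.O Q.O :=
    IsScalarTower.of_algebraMap_eq fun c => Subtype.ext (IsScalarTower.algebraMap_apply k K K' c)
  haveI hfinQ : FiniteDimensional k (ResidueField Q.O) := Module.finite_of_finrank_pos hQdeg
  haveI : FiniteDimensional (ResidueField P.O) (ResidueField Q.O) :=
    FiniteDimensional.right k _ _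
  have haQ : Q.1 a ≤ 1 := val_le_one_of_isIntegral (R := k) Q.1 Q.2.1 ha
  obtain ⟨ā, hā⟩ : ∃ ā : ResidueField Q.O, ā = residue Q.O ⟨a, haQ⟩ := ⟨_, rfl⟩
  let φ : Q.O →ₐ[k] ResidueField Q.O := { residue Q.O with commutes' := fun c => rfl }
  let ψ : Q.O →ₐ[k] K' := { Q.O.subtype with commutes' := fun c => rfl }
  have hroot : Polynomial.aeval ā (minpoly k a) = 0 := by
    have h1 : Polynomial.aeval (⟨a, haQ⟩ : Q.O) (minpoly k a) = 0 := by
      apply Subtype.ext
      have h2 := Polynomial.aeval_algHom_apply ψ ⟨a, haQ⟩ (minpoly k a)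
      show ψ (Polynomial.aeval (⟨a, haQ⟩ : Q.O) (minpoly k a)) = 0
      rw [← h2]
      exact minpoly.aeval k a
    have h3 := Polynomial.aeval_algHom_apply φ ⟨a, haQ⟩ (minpoly k a)
    have h4 : φ ⟨a, haQ⟩ = ā := hā.symm
    rw [h4] at h3
    rw [h3, h1, map_zero]
  have hmin : minpoly k a = minpoly k ā :=
    minpoly.eq_of_irreducible_of_monic (minpoly.irreducible ha) hroot (minpoly.monic ha)
  have hsepā : IsSeparable k ā := by
    unfold IsSeparable
    rw [← hmin]
    exact hsep
  have hmap := minpoly.map_eq_of_isSeparable_of_isPurelyInseparable (ResidueField P.O) ā hsepā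
  have hle : (minpoly (ResidueField P.O) ā).natDegree ≤
      Module.finrank (ResidueField P.O) (ResidueField Q.O) := minpoly.natDegree_le ā
  rw [← hmap, Polynomial.natDegree_map, ← hmin] at hle
  have htower : P.deg * Module.finrank (ResidueField P.O) (ResidueField Q.O) = Q.deg :=
    Module.finrank_mul_finrank k (ResidueField P.O) (ResidueField Q.O)
  rw [← htower, mul_comm]
  exact Nat.mul_le_mul_left _ hle

end Groth.Agent.Lib.Helper23.PIns
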