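import Mathlib
import Groth.Agent.Lib.Helper23.PIns1

/-! Integral closure of `O_P` in a constant field extension `K' = k' ⊗ K`:
if `k' ⊗ F_P` is reduced then the integral closure is `O_P[k']`. -/

set_option autoImplicit false

namespace Groth.Agent.Lib.Helper23.IntCl

open FunFld IsLocalRing TensorProduct
open Groth.Agent.Lib.Helper27.FF

section descent

/-- Descent: a subalgebra `S` with `A = S[1/t]` and `S/tS` reduced contains every element
integral over the base ring. -/
theorem mem_of_isIntegral_of_reduced {R₀ A : Type*} [CommRing R₀] [CommRing A] [Algebra R₀ A]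
    (S : Subalgebra R₀ A) (t₀ : R₀)
    (hreg : ∀ a b : A, algebraMap R₀ A t₀ * a = algebraMap R₀ A t₀ * b → a = b)
    (hspan : ∀ z : A, ∃ s : ℕ, algebraMap R₀ A t₀ ^ s * z ∈ S)
    (hred : ∀ w ∈ S, ∀ m : ℕ, (∃ r ∈ S, w ^ m = algebraMap R₀ A t₀ * r) →
      ∃ r ∈ S, w = algebraMap R₀ A t₀ * r)
    {z : A} (hz : IsIntegral R₀ z) : z ∈ S := by
  obtain ⟨t, ht⟩ : ∃ t : A, t = algebraMap R₀ A t₀ := ⟨_, rfl⟩
  rw [← ht] at hreg hspan hred
  have htS : t ∈ S := by rw [ht]; exact S.algebraMap_mem t₀
  have htint : IsIntegral R₀ t := by rw [ht]; exact isIntegral_algebraMap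
  have key : ∀ s : ℕ, ∀ z : A, IsIntegral R₀ z → t ^ s * z ∈ S → z ∈ S := by
    intro s
    induction s with
    | zero => intro z _ h; simpa using h
    | succ s ih =>
      intro z hz hmem
      apply ih z hz
      obtain ⟨y, hy⟩ : ∃ y, y = t ^ s * z := ⟨_, rfl⟩
      rw [← hy]
      have hyint : IsIntegral R₀ y := by rw [hy]; exact (htint.pow s).mul hz
      have hw : t * y ∈ S := by rw [hy, ← mul_assoc, ← pow_succ']; exact hmem
      obtain ⟨p, hp, hpy⟩ := hyint
      by_cases hd : p.natDegree = 0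
      · have hp1 : p = 1 := hp.natDegree_eq_zero.mp hd
        rw [hp1, Polynomial.eval₂_one] at hpy
        have : y = 0 := by rw [← mul_one y, hpy, mul_zero]
        rw [this]; exact S.zero_mem
      · obtain ⟨d, hdd⟩ : ∃ d, d = p.natDegree := ⟨_, rfl⟩
        have hd1 : 1 ≤ d := by omega
        have hsum : y ^ d + ∑ i ∈ Finset.range d, algebraMap R₀ A (p.coeff i) * y ^ i = 0 := by
          rw [Polynomial.eval₂_eq_sum_range, Finset.sum_range_succ, hp.coeff_natDegree, map_one,
            one_mul, ← hdd] at hpy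
          rw [add_comm]; exact hpy
        have hwd : (t * y) ^ d = t * (-(∑ i ∈ Finset.range d,
            algebraMap R₀ A (p.coeff i) * t ^ (d - 1 - i) * (t * y) ^ i)) := by
          have h2 : ∀ i ∈ Finset.range d, t ^ d * (algebraMap R₀ A (p.coeff i) * y ^ i) =
              t * (algebraMap R₀ A (p.coeff i) * t ^ (d - 1 - i) * (t * y) ^ i) := by
            intro i hi
            rw [Finset.mem_range] at hi
            have hdi : t ^ d = t ^ (d - 1 - i) * t ^ i * t := by
              rw [← pow_add, ← pow_succ]; congr 1; omega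
            rw [hdi]; ring
          calc (t * y) ^ d = t ^ d * y ^ d := mul_pow _ _ _
            _ = t ^ d * (-(∑ i ∈ Finset.range d, algebraMap R₀ A (p.coeff i) * y ^ i)) := by
                rw [eq_neg_of_add_eq_zero_left hsum]
            _ = -(∑ i ∈ Finset.range d, t ^ d * (algebraMap R₀ A (p.coeff i) * y ^ i)) := by
                rw [mul_neg, Finset.mul_sum]
            _ = -(∑ i ∈ Finset.range d,
                  t * (algebraMap R₀ A (p.coeff i) * t ^ (d - 1 - i) * (t * y) ^ i)) := by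
                rw [Finset.sum_congr rfl h2]
            _ = _ := by rw [← Finset.mul_sum, mul_neg]
        have hr : -(∑ i ∈ Finset.range d,
            algebraMap R₀ A (p.coeff i) * t ^ (d - 1 - i) * (t * y) ^ i) ∈ S :=
          S.neg_mem (S.sum_mem fun i _ =>
            S.mul_mem (S.mul_mem (S.algebraMap_mem _) (S.pow_mem htS _)) (S.pow_mem hw _))
        obtain ⟨r', hr', hwr'⟩ := hred (t * y) hw d ⟨_, hr, hwd⟩
        have : y = r' := hreg _ _ hwr'
        rw [this]; exact hr'
  obtain ⟨s, hs⟩ := hspan z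
  exact key s z hz hs

end descent

universe u v
variable {k k' : Type u} {K K' : Type v} [Field k] [Field k'] [Field K] [Field K']
  [Algebra k k'] [Algebra k K] [Algebra K K'] [Algebra k' K'] [Algebra k K']
  [IsScalarTower k k' K'] [IsScalarTower k K K']

theorem adjoin_core [Algebra.IsAlgebraic k k']
    (h : Function.Bijective (Algebra.TensorProduct.productMap
      (IsScalarTower.toAlgHom k k' K') (IsScalarTower.toAlgHom k K K')))
    (P : Place k K) [Algebra P.O K'] [IsScalarTower P.O K K']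
    {F : Type*} [CommRing F] [Algebra k F] (ρ : P.O →ₐ[k] F) (hρsurj : Function.Surjective ρ)
    (hρ : ∀ x : P.O, ρ x = 0 ↔ P.1 (x : K) < 1)
    (hred : IsReduced (k' ⊗[k] F)) (tO : P.O) (htO' : P.1 (tO : K) = WithZero.exp (-1 : ℤ)) :
    (integralClosure P.O K').toSubring =
      (Algebra.adjoin P.O (Set.range (algebraMap k' K'))).toSubring ∧
    ∀ w ∈ Algebra.adjoin P.O (Set.range (algebraMap k' K')), ∀ m : ℕ,
      (∃ r ∈ Algebra.adjoin P.O (Set.range (algebraMap k' K')), w ^ m = algebraMap P.O K' tO * r) →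
      ∃ r ∈ Algebra.adjoin P.O (Set.range (algebraMap k' K')), w = algebraMap P.O K' tO * r := by
  classical
  obtain ⟨t, htO⟩ : ∃ t : K, (tO : K) = t := ⟨_, rfl⟩
  have ht : P.1 t = WithZero.exp (-1 : ℤ) := by rw [← htO]; exact htO'
  have ht0 : t ≠ 0 := by
    rintro rfl
    rw [map_zero] at ht
    exact WithZero.exp_ne_zero ht.symm
  have htlt : P.1 t < 1 := by
    rw [ht, ← WithZero.exp_zero, WithZero.exp_lt_exp]; norm_num
  haveI : IsScalarTower k P.O K' := IsScalarTower.of_algebraMap_eq (fun c => by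
    rw [algebraMap_O_eq P]; exact IsScalarTower.algebraMap_apply k K K' c)
  obtain ⟨S, hS⟩ : ∃ S : Subalgebra P.O K',
    S = Algebra.adjoin P.O (Set.range (algebraMap k' K')) := ⟨_, rfl⟩
  rw [← hS]
  let iO : P.O →ₐ[k] K' := IsScalarTower.toAlgHom k P.O K'
  let ik' : k' →ₐ[k] K' := IsScalarTower.toAlgHom k k' K'
  let jO : P.O →ₐ[k] K := { P.O.subtype with commutes' := fun c => rfl }
  let Φ : k' ⊗[k] P.O →ₐ[k] K' := Algebra.TensorProduct.productMap ik' iO
  let Ψ : k' ⊗[k] P.O →ₐ[k] k' ⊗[k] F :=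
    Algebra.TensorProduct.map (AlgHom.id k k') ρ
  have hΦinj : Function.Injective Φ := by
    have h1 : Φ = (Algebra.TensorProduct.productMap ik' (IsScalarTower.toAlgHom k K K')).comp
        (Algebra.TensorProduct.map (AlgHom.id k k') jO) := by
      apply Algebra.TensorProduct.ext'
      intro c a
      simp only [Φ, AlgHom.comp_apply, Algebra.TensorProduct.map_tmul,
        Algebra.TensorProduct.productMap_apply_tmul, AlgHom.id_apply]
      congr 1
      exact algebraMap_O_eq P a
    rw [h1]
    refine h.1.comp ?_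
    have := Module.Flat.lTensor_preserves_injective_linearMap (M := k') jO.toLinearMap
      Subtype.val_injective
    exact this
  have hΦk' : ∀ c : k', Φ (c ⊗ₜ 1) = algebraMap k' K' c := by
    intro c
    simp [Φ, ik']
  have hΦO : ∀ a : P.O, Φ (1 ⊗ₜ a) = algebraMap P.O K' a := by
    intro a
    simp [Φ, iO]
  have hΦrange : ∀ w : K', w ∈ S ↔ ∃ ω, Φ ω = w := by
    intro w
    constructor
    · intro hw
      rw [hS] at hw
      induction hw using Algebra.adjoin_induction with
      | mem x hx => obtain ⟨c, rfl⟩ := hx; exact ⟨c ⊗ₜ 1, hΦk' c⟩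
      | algebraMap a => exact ⟨1 ⊗ₜ a, hΦO a⟩
      | add x y _ _ hx hy =>
        obtain ⟨a, rfl⟩ := hx; obtain ⟨b, rfl⟩ := hy; exact ⟨a + b, map_add _ _ _⟩
      | mul x y _ _ hx hy =>
        obtain ⟨a, rfl⟩ := hx; obtain ⟨b, rfl⟩ := hy; exact ⟨a * b, map_mul _ _ _⟩
    · rintro ⟨ω, rfl⟩
      induction ω using TensorProduct.induction_on with
      | zero => rw [map_zero]; exact S.zero_mem
      | tmul c a =>
        have : Φ (c ⊗ₜ a) = algebraMap k' K' c * algebraMap P.O K' a := by simp [Φ, ik', iO]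
        rw [this, hS]
        exact Subalgebra.mul_mem _ (Algebra.subset_adjoin ⟨c, rfl⟩) (Subalgebra.algebraMap_mem _ a)
      | add a b ha hb => rw [map_add]; exact S.add_mem ha hb
  have hρt : ρ tO = 0 := by
    rw [hρ, htO]; exact htlt
  have hkerρ : RingHom.ker ρ = Ideal.span {tO} := by
    ext x
    rw [RingHom.mem_ker, Ideal.mem_span_singleton']
    constructor
    · intro hx
      have hx' : ρ x = 0 := hx
      rw [hρ] at hx'
      have h1 := Groth.Agent.Lib.Helper23.FF.le_exp_neg_one_of_lt_one hx'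
      have h2 : P.1 ((x : K) / t) ≤ 1 := by
        rw [map_div₀, ht]
        exact div_le_one_of_le₀ h1 zero_le
      refine ⟨⟨(x : K) / t, (Valuation.mem_valuationSubring_iff _ _).mpr h2⟩, Subtype.ext ?_⟩
      show (x : K) / t * (tO : K) = x
      rw [htO, div_mul_cancel₀ _ ht0]
    · rintro ⟨a, rfl⟩
      show ρ (a * tO) = 0
      rw [map_mul, hρt, mul_zero]
  have hker : ∀ ω, Ψ ω = 0 → ∃ ω', ω = (1 ⊗ₜ tO) * ω' := by
    intro ω hω
    have h1 : ω ∈ RingHom.ker (Algebra.TensorProduct.map (AlgHom.id k k') ρ) := hω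
    rw [Algebra.TensorProduct.lTensor_ker _ hρsurj,
      hkerρ, Ideal.map_span, Set.image_singleton, Ideal.mem_span_singleton'] at h1
    obtain ⟨a, ha⟩ := h1
    exact ⟨a, by rw [← ha, mul_comm]; rfl⟩
  have htK' : algebraMap P.O K' tO = algebraMap K K' t := by rw [algebraMap_O_eq P, htO]
  have hΦt : Φ (1 ⊗ₜ tO) = algebraMap P.O K' tO := hΦO tO
  have hreg : ∀ a b : K', algebraMap P.O K' tO * a = algebraMap P.O K' tO * b → a = b := by
    intro a b hab
    have h0 : algebraMap P.O K' tO ≠ 0 := by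
      rw [htK']; exact (map_ne_zero (algebraMap K K')).mpr ht0
    exact mul_left_cancel₀ h0 hab
  have hspan : ∀ z : K', ∃ s : ℕ, algebraMap P.O K' tO ^ s * z ∈ S := by
    intro z
    obtain ⟨τ, rfl⟩ := h.2 z
    induction τ using TensorProduct.induction_on with
    | zero => exact ⟨0, by rw [map_zero, mul_zero]; exact S.zero_mem⟩
    | tmul c x =>
      obtain ⟨s, hs⟩ : ∃ s : ℕ, P.1 (t ^ s * x) ≤ 1 := by
        obtain ⟨m, hm⟩ := Groth.Agent.Lib.Helper23.FF.exists_nat_le_exp (P.1 x)
        refine ⟨m, ?_⟩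
        rw [map_mul, map_pow, ht, ← WithZero.exp_nsmul]
        calc WithZero.exp (m • (-1 : ℤ)) * P.1 x ≤ WithZero.exp (m • (-1 : ℤ)) * WithZero.exp (m : ℤ) :=
              mul_le_mul' le_rfl hm
          _ = 1 := by rw [← WithZero.exp_add, ← WithZero.exp_zero]; congr 1; simp
      refine ⟨s, ?_⟩
      have h3 : algebraMap P.O K' tO ^ s * (Algebra.TensorProduct.productMap
          (IsScalarTower.toAlgHom k k' K') (IsScalarTower.toAlgHom k K K') (c ⊗ₜ x)) =
          algebraMap k' K' c * algebraMap P.O K'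
            ⟨t ^ s * x, (Valuation.mem_valuationSubring_iff _ _).mpr hs⟩ := by
        rw [htK', algebraMap_O_eq P, Algebra.TensorProduct.productMap_apply_tmul]
        simp only [IsScalarTower.coe_toAlgHom', map_mul, map_pow]
        ring
      rw [h3, hS]
      exact Subalgebra.mul_mem _ (Algebra.subset_adjoin ⟨c, rfl⟩) (Subalgebra.algebraMap_mem _ _)
    | add a b ha hb =>
      obtain ⟨s₁, h₁⟩ := ha
      obtain ⟨s₂, h₂⟩ := hb
      refine ⟨s₁ + s₂, ?_⟩
      have htS : algebraMap P.O K' tO ∈ S := S.algebraMap_mem tO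
      rw [map_add, mul_add, pow_add]
      apply S.add_mem
      · rw [mul_comm (_ ^ s₁), mul_assoc]; exact S.mul_mem (S.pow_mem htS _) h₁
      · rw [mul_assoc]; exact S.mul_mem (S.pow_mem htS _) h₂
  have hredS : ∀ w ∈ S, ∀ m : ℕ, (∃ r ∈ S, w ^ m = algebraMap P.O K' tO * r) →
      ∃ r ∈ S, w = algebraMap P.O K' tO * r := by
    rintro w hw m ⟨r, hr, hwr⟩
    obtain ⟨ω, rfl⟩ := (hΦrange w).mp hw
    obtain ⟨ρ', rfl⟩ := (hΦrange r).mp hr
    have h1 : ω ^ m = (1 ⊗ₜ tO) * ρ' := hΦinj (by rw [map_pow, map_mul, hΦt]; exact hwr)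
    have hΨt : Ψ (1 ⊗ₜ tO) = 0 := by
      show Algebra.TensorProduct.map (AlgHom.id k k') ρ (1 ⊗ₜ tO) = 0
      rw [Algebra.TensorProduct.map_tmul, hρt, TensorProduct.tmul_zero]
    have h2 : Ψ ω ^ m = 0 := by
      rw [← map_pow, h1, map_mul, hΨt, zero_mul]
    have h3 : Ψ ω = 0 := IsReduced.eq_zero _ ⟨m, h2⟩
    obtain ⟨ω', rfl⟩ := hker ω h3
    exact ⟨Φ ω', (hΦrange _).mpr ⟨ω', rfl⟩, by rw [map_mul, hΦt]⟩
  refine ⟨?_, hredS⟩
  apply le_antisymm
  · intro z hz
    have hz' : IsIntegral P.O z := hz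
    exact mem_of_isIntegral_of_reduced S tO hreg hspan hredS hz'
  · have hle : S ≤ integralClosure P.O K' := by
      rw [hS]
      apply Algebra.adjoin_le
      rintro _ ⟨c, rfl⟩
      show IsIntegral P.O (algebraMap k' K' c)
      have hc : IsIntegral k c := Algebra.IsIntegral.isIntegral c
      exact (hc.map ik').tower_top
    exact hle

theorem integralClosure_eq_adjoin_of_isReduced [Algebra.IsAlgebraic k k']
    (h : Function.Bijective (Algebra.TensorProduct.productMap
      (IsScalarTower.toAlgHom k k' K') (IsScalarTower.toAlgHom k K K')))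
    (P : Place k K) [Algebra P.O K'] [IsScalarTower P.O K K']
    {F : Type*} [CommRing F] [Algebra k F] (ρ : P.O →ₐ[k] F) (hρsurj : Function.Surjective ρ)
    (hρ : ∀ x : P.O, ρ x = 0 ↔ P.1 (x : K) < 1)
    (hred : IsReduced (k' ⊗[k] F)) :
    (integralClosure P.O K').toSubring =
      (Algebra.adjoin P.O (Set.range (algebraMap k' K'))).toSubring := by
  obtain ⟨t, ht0, ht⟩ := exists_unif P
  have htlt : P.1 t ≤ 1 := by
    rw [ht, ← WithZero.exp_zero, WithZero.exp_le_exp]; norm_num
  exact (adjoin_core h P ρ hρsurj hρ hred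
    ⟨t, (Valuation.mem_valuationSubring_iff _ _).mpr htlt⟩ ht).1

/-- The residue field of a place, with only the `k`-algebra structure `Place.algRes`. -/
def ResF (P : Place k K) : Type v := ResidueField P.O

noncomputable instance (P : Place k K) : Field (ResF P) := inferInstanceAs (Field (ResidueField P.O))

noncomputable instance (P : Place k K) : Algebra k (ResF P) := Place.algRes P

/-- The residue map as a `k`-algebra homomorphism. -/
noncomputable def resHom (P : Place k K) : P.O →ₐ[k] ResF P :=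
  { residue P.O with commutes' := fun _ => rfl }

theorem resHom_surjective (P : Place k K) : Function.Surjective (resHom P) :=
  residue_surjective

theorem resHom_eq_zero_iff (P : Place k K) (x : P.O) : resHom P x = 0 ↔ P.1 (x : K) < 1 :=
  Groth.Agent.Lib.Helper23.FF.residue_eq_zero_iff P x

theorem integralClosure_eq_adjoin_of_isReduced' [Algebra.IsAlgebraic k k']
    (h : Function.Bijective (Algebra.TensorProduct.productMap
      (IsScalarTower.toAlgHom k k' K') (IsScalarTower.toAlgHom k K K')))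
    (P : Place k K) [Algebra P.O K'] [IsScalarTower P.O K K']
    (hred : IsReduced (k' ⊗[k] ResF P)) :
    (integralClosure P.O K').toSubring =
      (Algebra.adjoin P.O (Set.range (algebraMap k' K'))).toSubring :=
  integralClosure_eq_adjoin_of_isReduced h P (resHom P) (resHom_surjective P)
    (resHom_eq_zero_iff P) hred

end Groth.Agent.Lib.Helper23.IntCl
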