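import Mathlib
import Groth.Agent.Lib.Helper23.IntCl2

/-! `O[y]` with `y` a root of a monic separable polynomial over `O`: reducedness mod `t`. -/

set_option autoImplicit false

namespace Groth.Agent.Lib.Helper23.SepPl

open Polynomial

/-- If `fO` is monic and separable over `O`, `ρ : O → F` a surjection onto a field with kernel `(t)`,
and `y` is a root of `fO` satisfying no polynomial relation of smaller degree, then `O[y]/t O[y]` is
reduced. -/
theorem adjoin_root_reduced {O F A : Type*} [CommRing O] [Field F] [CommRing A] [Algebra O A]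
    (ρ : O →+* F) (t : O) (hker : RingHom.ker ρ = Ideal.span {t})
    (fO : O[X]) (hmonic : fO.Monic) (hsep : fO.Separable) (y : A) (hy : aeval y fO = 0)
    (hmin : ∀ r : O[X], r.degree < fO.degree → aeval y r = 0 → r = 0) :
    ∀ w ∈ Algebra.adjoin O {y}, ∀ m : ℕ,
      (∃ r ∈ Algebra.adjoin O {y}, w ^ m = algebraMap O A t * r) →
      ∃ r ∈ Algebra.adjoin O {y}, w = algebraMap O A t * r := by
  intro w hw m ⟨r, hr, hwr⟩
  haveI : Nontrivial O := ρ.domain_nontrivial
  rcases Nat.eq_zero_or_pos m with rfl | hm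
  · rw [pow_zero] at hwr
    refine ⟨r * w, Subalgebra.mul_mem _ hr hw, ?_⟩
    rw [← mul_assoc, ← hwr, one_mul]
  rw [Algebra.adjoin_singleton_eq_range_aeval] at hw hr ⊢
  obtain ⟨g, rfl⟩ := hw
  obtain ⟨s, rfl⟩ := hr
  have hρt : ρ t = 0 := by
    have : t ∈ RingHom.ker ρ := by rw [hker]; exact Ideal.subset_span rfl
    exact this
  -- reduce `g` modulo `fO`
  obtain ⟨g₀, hg₀⟩ : ∃ g₀, g₀ = g %ₘ fO := ⟨_, rfl⟩
  have hg₀deg : g₀.degree < fO.degree := by rw [hg₀]; exact degree_modByMonic_lt g hmonic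
  have hg₀y : aeval y g₀ = aeval y g := by
    have h1 := modByMonic_add_div g fO
    have h2 := congrArg (aeval y) h1
    rw [map_add, map_mul, hy, zero_mul, add_zero] at h2
    rw [hg₀]; exact h2
  -- the relation
  have hrel : aeval y (g₀ ^ m - C t * s) = 0 := by
    rw [map_sub, map_pow, map_mul, aeval_C, hg₀y]
    exact sub_eq_zero.mpr hwr
  have hdvd : fO ∣ g₀ ^ m - C t * s := by
    rw [← modByMonic_eq_zero_iff_dvd hmonic]
    apply hmin _ (degree_modByMonic_lt _ hmonic)
    have h1 := modByMonic_add_div (g₀ ^ m - C t * s) fO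
    have h2 := congrArg (aeval y) h1
    rw [map_add, map_mul, hy, zero_mul, add_zero, hrel] at h2
    exact h2
  obtain ⟨q, hq⟩ := hdvd
  have hmap : (g₀.map ρ) ^ m = fO.map ρ * q.map ρ := by
    have h1 := congrArg (Polynomial.map ρ) hq
    rw [Polynomial.map_sub, Polynomial.map_pow, Polynomial.map_mul, Polynomial.map_mul, map_C,
      hρt, C_0, zero_mul, sub_zero] at h1
    exact h1
  have hsq : Squarefree (fO.map ρ) := (hsep.map (f := ρ)).squarefree
  have hdvd2 : fO.map ρ ∣ g₀.map ρ :=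
    (hsq.dvd_pow_iff_dvd (Nat.pos_iff_ne_zero.mp hm)).mp ⟨_, hmap⟩
  have hzero : g₀.map ρ = 0 := by
    apply eq_zero_of_dvd_of_degree_lt hdvd2
    rw [hmonic.degree_map ρ]
    exact lt_of_le_of_lt (degree_map_le) hg₀deg
  have hmem : g₀ ∈ Ideal.span {(C t : O[X])} := by
    have h1 : g₀ ∈ RingHom.ker (mapRingHom ρ) := by
      rw [RingHom.mem_ker, coe_mapRingHom]; exact hzero
    rw [ker_mapRingHom, hker, Ideal.map_span, Set.image_singleton] at h1
    exact h1
  obtain ⟨g₁, hg₁⟩ := Ideal.mem_span_singleton'.mp hmem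
  refine ⟨aeval y g₁, ⟨g₁, rfl⟩, ?_⟩
  show aeval y g = algebraMap O A t * aeval y g₁
  rw [← hg₀y, ← hg₁, map_mul, aeval_C, mul_comm]

/-- Clearing denominators: every element of `E[y]` is `t^{-s}` times an element of `O[y]`. -/
theorem exists_pow_mul_mem_adjoin {O E A : Type*} [CommRing O] [CommRing E] [CommRing A]
    [Algebra O E] [Algebra E A] [Algebra O A] [IsScalarTower O E A] (t : O) (y : A)
    (hE : ∀ c : E, ∃ s : ℕ, ∃ a : O, algebraMap O E t ^ s * c = algebraMap O E a)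
    (htop : Algebra.adjoin E {y} = ⊤) (z : A) :
    ∃ s : ℕ, algebraMap O A t ^ s * z ∈ Algebra.adjoin O {y} := by
  have htS : algebraMap O A t ∈ Algebra.adjoin O {y} := Subalgebra.algebraMap_mem _ t
  have hz : z ∈ Algebra.adjoin E {y} := by rw [htop]; trivial
  induction hz using Algebra.adjoin_induction with
  | mem x hx =>
    refine ⟨0, ?_⟩
    rw [pow_zero, one_mul]
    exact Algebra.subset_adjoin hx
  | algebraMap c =>
    obtain ⟨s, a, ha⟩ := hE c
    refine ⟨s, ?_⟩
    have : algebraMap O A t ^ s * algebraMap E A c = algebraMap O A a := by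
      rw [IsScalarTower.algebraMap_apply O E A t, IsScalarTower.algebraMap_apply O E A a, ← ha,
        map_mul, map_pow]
    rw [this]
    exact Subalgebra.algebraMap_mem _ a
  | add x₁ x₂ _ _ h₁ h₂ =>
    obtain ⟨s₁, h₁⟩ := h₁
    obtain ⟨s₂, h₂⟩ := h₂
    refine ⟨s₁ + s₂, ?_⟩
    rw [mul_add, pow_add]
    apply Subalgebra.add_mem
    · rw [mul_comm (_ ^ s₁), mul_assoc]; exact Subalgebra.mul_mem _ (Subalgebra.pow_mem _ htS _) h₁
    · rw [mul_assoc]; exact Subalgebra.mul_mem _ (Subalgebra.pow_mem _ htS _) h₂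
  | mul x₁ x₂ _ _ h₁ h₂ =>
    obtain ⟨s₁, h₁⟩ := h₁
    obtain ⟨s₂, h₂⟩ := h₂
    refine ⟨s₁ + s₂, ?_⟩
    have : algebraMap O A t ^ (s₁ + s₂) * (x₁ * x₂) =
        (algebraMap O A t ^ s₁ * x₁) * (algebraMap O A t ^ s₂ * x₂) := by rw [pow_add]; ring
    rw [this]
    exact Subalgebra.mul_mem _ h₁ h₂

end Groth.Agent.Lib.Helper23.SepPl
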