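import Mathlib
import Groth.Agent.Lib.Helper23.Sep2
import Groth.Agent.Lib.Helper27.HD11

/-! Places `Q` over a rational place `p` of `E` such that `O_p[y]` is étale over `O_p`:
the residue field of `Q` is separable over `k`. -/

set_option autoImplicit false

namespace Groth.Agent.Lib.Helper23.SepPl

open FunFld IsLocalRing Polynomial
open Groth.Agent.Lib.Helper27.FF
open Groth.Agent.Lib.Helper23.Inert Groth.Agent.Lib.Helper23.IntCl

universe u v w

theorem ker_residue_eq_span {k : Type u} {K : Type v} [Field k] [Field K] [Algebra k K]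
    (P : Place k K) (tO : P.O) (ht : P.1 (tO : K) = WithZero.exp (-1 : ℤ)) :
    RingHom.ker (residue P.O) = Ideal.span {tO} := by
  have ht0 : (tO : K) ≠ 0 := by
    intro h0
    rw [h0, map_zero] at ht
    exact WithZero.exp_ne_zero ht.symm
  have htlt : P.1 (tO : K) < 1 := by
    rw [ht, ← WithZero.exp_zero, WithZero.exp_lt_exp]; norm_num
  ext x
  rw [RingHom.mem_ker, Ideal.mem_span_singleton']
  constructor
  · intro hx
    rw [Groth.Agent.Lib.Helper23.FF.residue_eq_zero_iff] at hx
    have h1 := Groth.Agent.Lib.Helper23.FF.le_exp_neg_one_of_lt_one hx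
    have h2 : P.1 ((x : K) / (tO : K)) ≤ 1 := by
      rw [map_div₀, ht]
      exact div_le_one_of_le₀ h1 zero_le
    refine ⟨⟨(x : K) / (tO : K), (Valuation.mem_valuationSubring_iff _ _).mpr h2⟩, Subtype.ext ?_⟩
    show (x : K) / (tO : K) * (tO : K) = x
    rw [div_mul_cancel₀ _ ht0]
  · rintro ⟨a, rfl⟩
    rw [map_mul]
    have : residue P.O tO = 0 := by
      rw [Groth.Agent.Lib.Helper23.FF.residue_eq_zero_iff]; exact htlt
    rw [this, mul_zero]

variable {k : Type u} {E : Type v} {K : Type w} [Field k] [Field E] [Field K] [Algebra k E]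
  [Algebra E K] [Algebra k K] [IsScalarTower k E K]

theorem isSeparable_residue_of_good (hE : IsFunctionField k E) [FiniteDimensional E K]
    (p : Place k E) (hp1 : p.deg = 1) (tO : p.O) (ht : p.1 (tO : E) = WithZero.exp (-1 : ℤ))
    (y : K) (hy : Algebra.adjoin E {y} = ⊤)
    (fO : (p.O)[X]) (hfO : fO.map (algebraMap p.O E) = minpoly E y) (hsepO : fO.Separable)
    (Q : Place k K) (hQ : IsOver Q p) : Algebra.IsSeparable k (ResidueField Q.O) := by
  classical
  obtain ⟨e, he⟩ := hQ
  letI : Algebra p.O K := ((algebraMap E K).comp p.O.subtype).toAlgebra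
  haveI : IsScalarTower p.O E K := IsScalarTower.of_algebraMap_eq (fun _ => rfl)
  have hyint : IsIntegral E y := Algebra.IsIntegral.isIntegral y
  have hinj : Function.Injective (algebraMap p.O E) := Subtype.val_injective
  have hmonic : fO.Monic := monic_of_injective hinj (by rw [hfO]; exact minpoly.monic hyint)
  have hroot : aeval y fO = 0 := by
    have h1 : aeval y fO = aeval y (fO.map (algebraMap p.O E)) := (aeval_map_algebraMap E y fO).symm
    rw [h1, hfO, minpoly.aeval]
  have hmin : ∀ r : (p.O)[X], r.degree < fO.degree → aeval y r = 0 → r = 0 := by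
    intro r hdeg hr
    by_contra hr0
    have h1 : aeval y (r.map (algebraMap p.O E)) = 0 := by rw [aeval_map_algebraMap]; exact hr
    have h2 : r.map (algebraMap p.O E) ≠ 0 := (Polynomial.map_ne_zero_iff hinj).mpr hr0
    have h3 := minpoly.degree_le_of_ne_zero E y h2 h1
    rw [← hfO, degree_map_eq_of_injective hinj, degree_map_eq_of_injective hinj] at h3
    exact absurd hdeg (not_lt.mpr h3)
  have ht0 : (tO : E) ≠ 0 := by
    intro h0
    rw [h0, map_zero] at ht
    exact WithZero.exp_ne_zero ht.symm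
  have hker := ker_residue_eq_span p tO ht
  have hredS := adjoin_root_reduced (residue p.O) tO hker fO hmonic hsepO y hroot hmin
  have hspan : ∀ z : K, ∃ s : ℕ, algebraMap p.O K tO ^ s * z ∈ Algebra.adjoin p.O {y} :=
    exists_pow_mul_mem_adjoin (E := E) tO y (fun c => by
      obtain ⟨m, hm⟩ := Groth.Agent.Lib.Helper23.FF.exists_nat_le_exp (p.1 c)
      have h1 : p.1 ((tO : E) ^ m * c) ≤ 1 := by
        rw [map_mul, map_pow, ht, ← WithZero.exp_nsmul]
        calc WithZero.exp (m • (-1 : ℤ)) * p.1 c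
            ≤ WithZero.exp (m • (-1 : ℤ)) * WithZero.exp (m : ℤ) := mul_le_mul' le_rfl hm
          _ = 1 := by rw [← WithZero.exp_add, ← WithZero.exp_zero]; congr 1; simp
      exact ⟨m, ⟨_, (Valuation.mem_valuationSubring_iff _ _).mpr h1⟩, rfl⟩) hy
  have hreg : ∀ a b : K, algebraMap p.O K tO * a = algebraMap p.O K tO * b → a = b := by
    intro a b hab
    have h0 : algebraMap p.O K tO ≠ 0 := by
      show algebraMap E K (tO : E) ≠ 0
      exact (map_ne_zero (algebraMap E K)).mpr ht0
    exact mul_left_cancel₀ h0 hab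
  have hS : ∀ z : K, IsIntegral p.O z → z ∈ Algebra.adjoin p.O {y} := fun z hz =>
    mem_of_isIntegral_of_reduced _ tO hreg hspan hredS hz
  have hyQ : Q.1 y ≤ 1 := val_le_one_of_isIntegral_O ⟨e, he⟩ ⟨fO, hmonic, hroot⟩
  -- the residue field of `p` is `k`
  have hsurj := Groth.Agent.Lib.Helper27.HD.surjective_algebraMap_residue p hp1
  let ε : k ≃+* ResidueField p.O :=
    RingEquiv.ofBijective (algebraMap k (ResidueField p.O)) ⟨(algebraMap k _).injective, hsurj⟩
  let σ : p.O →+* k := (ε.symm : ResidueField p.O →+* k).comp (residue p.O)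
  have hσ : ∀ r : p.O, algebraMap k (ResidueField p.O) (σ r) = residue p.O r :=
    fun r => ε.apply_symm_apply _
  have hσ1 : ∀ r : p.O, p.1 ((r : E) - algebraMap k E (σ r)) < 1 := by
    intro r
    have h1 : residue p.O (r - algebraMap k p.O (σ r)) = 0 := by
      rw [map_sub, ← hσ r]; exact sub_self _
    exact (Groth.Agent.Lib.Helper23.FF.residue_eq_zero_iff p _).mp h1
  have hσQ : ∀ r : p.O, ∀ h2 : Q.1 (algebraMap E K (r : E)) ≤ 1,
      residue Q.O ⟨algebraMap E K (r : E), h2⟩ = algebraMap k (ResidueField Q.O) (σ r) := by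
    intro r h2
    rw [← sub_eq_zero]
    show residue Q.O ⟨_, h2⟩ - residue Q.O (algebraMap k Q.O (σ r)) = 0
    rw [← map_sub, Groth.Agent.Lib.Helper23.FF.residue_eq_zero_iff]
    show Q.1 (algebraMap E K (r : E) - algebraMap k K (σ r)) < 1
    rw [IsScalarTower.algebraMap_apply k E K, ← map_sub]
    exact (isOverWith_val_lt_one_iff he _).mpr (hσ1 r)
  obtain ⟨yb, hyb⟩ : ∃ yb : ResidueField Q.O, yb = residue Q.O ⟨y, hyQ⟩ := ⟨_, rfl⟩
  have hgen : ∀ a : ResidueField Q.O, a ∈ Algebra.adjoin k {yb} := by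
    intro a
    obtain ⟨u, hu, hua, hother⟩ := exists_lift hE he a
    have hint : IsIntegral p.O u := by
      apply isIntegral_of_forall_isOver hE p
      intro Q' hQ'
      by_cases hQQ : Q' = Q
      · rw [hQQ]; exact hu
      · exact (hother Q' hQ' hQQ).le
    have hmem := hS u hint
    have key : ∀ w ∈ Algebra.adjoin p.O {y}, ∃ hw : Q.1 w ≤ 1,
        residue Q.O ⟨w, hw⟩ ∈ Algebra.adjoin k {yb} := by
      intro w hw
      induction hw using Algebra.adjoin_induction with
      | mem x hx =>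
        obtain rfl := hx
        exact ⟨hyQ, by rw [← hyb]; exact Algebra.subset_adjoin rfl⟩
      | algebraMap r =>
        have h2 : Q.1 (algebraMap E K (r : E)) ≤ 1 :=
          (isOverWith_val_le_one_iff he _).mpr ((Valuation.mem_valuationSubring_iff _ _).mp r.2)
        refine ⟨h2, ?_⟩
        have h3 := hσQ r h2
        show residue Q.O ⟨algebraMap E K (r : E), h2⟩ ∈ _
        rw [h3]
        exact Subalgebra.algebraMap_mem _ _
      | add x₁ x₂ _ _ h₁ h₂ =>
        obtain ⟨hx1, hx2⟩ := h₁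
        obtain ⟨hy1, hy2⟩ := h₂
        refine ⟨(Q.1.map_add _ _).trans (max_le hx1 hy1), ?_⟩
        have h3 : (⟨x₁ + x₂, (Q.1.map_add _ _).trans (max_le hx1 hy1)⟩ : Q.O) =
            (⟨x₁, hx1⟩ : Q.O) + ⟨x₂, hy1⟩ := rfl
        rw [h3, map_add]
        exact Subalgebra.add_mem _ hx2 hy2
      | mul x₁ x₂ _ _ h₁ h₂ =>
        obtain ⟨hx1, hx2⟩ := h₁
        obtain ⟨hy1, hy2⟩ := h₂
        have hxy : Q.1 (x₁ * x₂) ≤ 1 := by
          rw [map_mul]; exact mul_le_one' hx1 hy1
        refine ⟨hxy, ?_⟩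
        have h3 : (⟨x₁ * x₂, hxy⟩ : Q.O) = (⟨x₁, hx1⟩ : Q.O) * ⟨x₂, hy1⟩ := rfl
        rw [h3, map_mul]
        exact Subalgebra.mul_mem _ hx2 hy2
    obtain ⟨hw, hres⟩ := key u hmem
    rw [← hua]
    exact hres
  -- `yb` is separable over `k`
  have hevalO : eval₂ (ooHom he) (⟨y, hyQ⟩ : Q.O) fO = 0 := by
    apply Subtype.ext
    have h1 := Polynomial.hom_eval₂ fO (ooHom he) Q.O.subtype (⟨y, hyQ⟩ : Q.O)
    show Q.O.subtype (eval₂ (ooHom he) (⟨y, hyQ⟩ : Q.O) fO) = 0
    rw [h1]
    exact hroot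
  have hevalF : eval₂ ((algebraMap k (ResidueField Q.O)).comp σ) yb fO = 0 := by
    have h1 := Polynomial.hom_eval₂ fO (ooHom he) (residue Q.O) (⟨y, hyQ⟩ : Q.O)
    rw [hevalO, map_zero] at h1
    have h2 : (residue Q.O).comp (ooHom he) = (algebraMap k (ResidueField Q.O)).comp σ := by
      ext r
      have h2' : Q.1 (algebraMap E K (r : E)) ≤ 1 :=
        (isOverWith_val_le_one_iff he _).mpr ((Valuation.mem_valuationSubring_iff _ _).mp r.2)
      exact hσQ r h2'
    rw [h2, ← hyb] at h1
    exact h1.symm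
  have hsepk : (fO.map σ).Separable := hsepO.map
  have haeval : aeval yb (fO.map σ) = 0 := by
    rw [aeval_def, eval₂_map]; exact hevalF
  have hsepyb : IsSeparable k yb := hsepk.of_dvd (minpoly.dvd k yb haeval)
  have hle : Algebra.adjoin k {yb} ≤ (separableClosure k (ResidueField Q.O)).toSubalgebra :=
    Algebra.adjoin_le (Set.singleton_subset_iff.mpr (mem_separableClosure_iff.mpr hsepyb))
  exact ⟨fun a => mem_separableClosure_iff.mp (hle (hgen a))⟩

end Groth.Agent.Lib.Helper23.SepPl
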