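import Mathlib
import Groth.Agent.Lib.Helper23.Sep3
import Groth.Agent.Lib.Helper27.FunFld22

/-! A function field of one variable has infinitely many places (any constant field). -/

set_option autoImplicit false

namespace Groth.Agent.Lib.Helper23.SepPl

open FunFld IsLocalRing Polynomial
open Groth.Agent.Lib.Helper27.FF

universe u v
variable {k : Type u} {K : Type v} [Field k] [Field K] [Algebra k K]

theorem infinite_place_general (hK : IsFunctionField k K) : Infinite (Place k K) := by
  classical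
  by_contra hfin
  rw [not_infinite_iff_finite] at hfin
  haveI := Fintype.ofFinite (Place k K)
  obtain ⟨P₀⟩ := (core_of hK).exists_place
  obtain ⟨P₁, hP₁⟩ := exists_place_ne hK P₀
  obtain ⟨S, hS⟩ : ∃ S : Finset (Place k K), S = Finset.univ.erase P₀ := ⟨_, rfl⟩
  let Pf : Fin S.card → Place k K := fun i => ((S.equivFin.symm i : ↥S) : Place k K)
  have hPf : Function.Injective Pf := fun i j h => S.equivFin.symm.injective (Subtype.ext h)
  have hinf : P₀ ∉ Set.range Pf := by
    rintro ⟨i, hi⟩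
    have h1 := (S.equivFin.symm i).2
    have h2 : ((S.equivFin.symm i : ↥S) : Place k K) = P₀ := hi
    rw [h2, hS] at h1
    exact (Finset.mem_erase.mp h1).1 rfl
  obtain ⟨y, hy1, -⟩ := strong_approximation hK P₀ Pf hPf hinf (fun _ => 0) (fun _ => 1)
  have hyv : ∀ Q : Place k K, Q ≠ P₀ → Q.1 y = WithZero.exp (-1 : ℤ) := by
    intro Q hQ
    have hQS : Q ∈ S := by rw [hS]; exact Finset.mem_erase.mpr ⟨hQ, Finset.mem_univ _⟩
    have h1 := hy1 (S.equivFin ⟨Q, hQS⟩)
    have h2 : Pf (S.equivFin ⟨Q, hQS⟩) = Q := by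
      show ((S.equivFin.symm (S.equivFin ⟨Q, hQS⟩) : ↥S) : Place k K) = Q
      rw [Equiv.symm_apply_apply]
    rw [h2, sub_zero] at h1
    exact h1
  have hlt : (WithZero.exp (-1 : ℤ) : WithZero (Multiplicative ℤ)) < 1 := by
    rw [← WithZero.exp_zero, WithZero.exp_lt_exp]; norm_num
  obtain ⟨z, hz⟩ : ∃ z : K, z = 1 + y := ⟨_, rfl⟩
  have hz1 : ∀ Q : Place k K, Q ≠ P₀ → Q.1 z = 1 := by
    intro Q hQ
    rw [hz]
    apply Valuation.map_one_add_of_lt
    rw [hyv Q hQ]; exact hlt
  have hz0 : z ≠ 0 := by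
    intro h
    have := hz1 P₁ hP₁
    rw [h, map_zero] at this
    exact zero_ne_one this
  have hsupp : ∀ Q : Place k K, Q ≠ P₀ → FunFld.div k z Q = 0 := by
    intro Q hQ
    rw [div_apply' hK]
    unfold Place.ord
    rw [hz1 Q hQ]; simp
  have hsingle : FunFld.div k z = Finsupp.single P₀ (FunFld.div k z P₀) := by
    ext Q
    by_cases h : Q = P₀
    · subst h; simp
    · rw [hsupp Q h, Finsupp.single_apply, if_neg (Ne.symm h)]
  have hdiv : FunFld.div k z = 0 := by
    have hdeg := deg_div hK z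
    rw [hsingle, Groth.Agent.Lib.Helper27.FF.deg_single] at hdeg
    have hP₀ := one_le_deg' hK P₀
    have h0 : FunFld.div k z P₀ = 0 := by
      rcases mul_eq_zero.mp hdeg with h | h
      · exact h
      · exfalso
        have : (P₀.deg : ℤ) ≠ 0 := by exact_mod_cast (by omega : P₀.deg ≠ 0)
        exact this h
    rw [hsingle, h0, Finsupp.single_zero]
  obtain ⟨c, hc0, hc⟩ := eq_const_of_div_eq_zero hK hz0 hdiv
  have hyc : y = algebraMap k K (c - 1) := by
    rw [map_sub, map_one, ← hc, hz]; ring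
  have hy₁ := hyv P₁ hP₁
  rw [hyc] at hy₁
  by_cases hc1 : c - 1 = 0
  · rw [hc1, map_zero, map_zero] at hy₁
    exact WithZero.exp_ne_zero hy₁.symm
  · rw [val_const P₁ hc1] at hy₁
    rw [← hy₁] at hlt
    exact lt_irrefl _ hlt

end Groth.Agent.Lib.Helper23.SepPl
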