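import Mathlib
import Groth.Agent.Lib.Helper23.IntCl1
import Groth.Agent.Lib.Helper23.FF3a
import Groth.Agent.Lib.Helper27.Geo6
import Groth.Agent.Lib.Helper27.FFExt3

/-! Nonsingularity of a place with respect to a tower of constant field extensions. -/

set_option autoImplicit false

namespace Groth.Agent.Lib.Helper23.TowerNS

open FunFld TensorProduct
open Groth.Agent.Lib.Helper27.FF

section General

variable {k k₁ K L : Type*} [Field k] [Field k₁] [Field K] [Field L]
  [Algebra k k₁] [Algebra k K] [Algebra K L] [Algebra k₁ L] [Algebra k L]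
  [IsScalarTower k k₁ L] [IsScalarTower k K L]

theorem mem_SP {P : Place k K} {x : L} :
    x ∈ P.O.toSubring.map (algebraMap K L) ↔ ∃ a : K, P.1 a ≤ 1 ∧ algebraMap K L a = x := by
  constructor
  · intro h
    obtain ⟨a, ha, rfl⟩ := Subring.mem_map.mp h
    exact ⟨a, (Valuation.mem_valuationSubring_iff _ _).mp ha, rfl⟩
  · rintro ⟨a, ha, rfl⟩
    exact Subring.mem_map.mpr ⟨a, (Valuation.mem_valuationSubring_iff _ _).mpr ha, rfl⟩

/-- integral closure of the image of `O_P` in `L`: regular at all places over `P`. -/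
theorem mem_IC_iff [FiniteDimensional K L] (hK : IsFunctionField k K) (P : Place k K) (z : L) :
    z ∈ integralClosure (P.O.toSubring.map (algebraMap K L)) L ↔
      ∀ Q : Place k L, IsOver Q P → Q.1 z ≤ 1 := by
  constructor
  · intro hz Q hQ
    obtain ⟨e, he⟩ := hQ
    have hz' : IsIntegral (P.O.toSubring.map (algebraMap K L)) z := hz
    refine val_le_one_of_isIntegral (R := P.O.toSubring.map (algebraMap K L)) Q.1
      (fun r => ?_) hz'
    obtain ⟨a, ha, har⟩ := mem_SP.mp r.2
    have h1 : algebraMap (P.O.toSubring.map (algebraMap K L)) L r = algebraMap K L a := har.symm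
    rw [h1, isOverWith_val_le_one_iff he]
    exact ha
  · intro hz
    letI : Algebra P.O L := ((algebraMap K L).comp P.O.subtype).toAlgebra
    haveI : IsScalarTower P.O K L := IsScalarTower.of_algebraMap_eq (fun _ => rfl)
    have h1 : IsIntegral P.O z :=
      Groth.Agent.Lib.Helper23.IntCl.isIntegral_of_forall_isOver hK P hz
    obtain ⟨p, hp, hpz⟩ := h1
    let ρ : P.O →+* (P.O.toSubring.map (algebraMap K L)) :=
      RingHom.codRestrict ((algebraMap K L).comp P.O.subtype)
        (P.O.toSubring.map (algebraMap K L))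
        (fun a => mem_SP.mpr ⟨a, (Valuation.mem_valuationSubring_iff _ _).mp a.2, rfl⟩)
    have hcomp : (algebraMap (P.O.toSubring.map (algebraMap K L)) L).comp ρ =
        algebraMap P.O L := RingHom.ext fun _ => rfl
    show IsIntegral (P.O.toSubring.map (algebraMap K L)) z
    refine ⟨p.map ρ, hp.map ρ, ?_⟩
    rw [Polynomial.eval₂_map, hcomp]
    exact hpz

/-- description of `S_P[k₁]` via a basis of `k₁/k`. -/
theorem mem_adjoin_iff {ι : Type*} [Fintype ι] (b : Module.Basis ι k k₁) (P : Place k K)
    (z : L) :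
    z ∈ Algebra.adjoin (P.O.toSubring.map (algebraMap K L)) (Set.range (algebraMap k₁ L)) ↔
      ∃ a : ι → K, (∀ i, P.1 (a i) ≤ 1) ∧
        z = ∑ i, algebraMap k₁ L (b i) * algebraMap K L (a i) := by
  have hk : ∀ r : k, algebraMap k L r ∈ P.O.toSubring.map (algebraMap K L) := fun r =>
    mem_SP.mpr ⟨algebraMap k K r, P.2.1 r, (IsScalarTower.algebraMap_apply k K L r).symm⟩
  have h1 : Subalgebra.toSubmodule
      (Algebra.adjoin (P.O.toSubring.map (algebraMap K L)) (Set.range (algebraMap k₁ L))) =
      Submodule.span (P.O.toSubring.map (algebraMap K L))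
        (Set.range fun i => algebraMap k₁ L (b i)) := by
    rw [Algebra.adjoin_eq_span]
    have h2 : ((Submonoid.closure (Set.range (algebraMap k₁ L)) : Submonoid L) : Set L) =
        Set.range (algebraMap k₁ L) := by
      have h3 : Set.range (algebraMap k₁ L) =
          ((MonoidHom.mrange (algebraMap k₁ L : k₁ →* L) : Submonoid L) : Set L) := by
        ext x
        simp [MonoidHom.mem_mrange]
      rw [h3, Submonoid.closure_eq]
    rw [h2]
    apply le_antisymm
    · rw [Submodule.span_le]
      rintro _ ⟨c, rfl⟩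
      rw [SetLike.mem_coe]
      have hc : algebraMap k₁ L c = ∑ i, algebraMap k₁ L (b.repr c i • b i) := by
        rw [← map_sum, b.sum_repr c]
      rw [hc]
      refine Submodule.sum_mem _ fun i _ => ?_
      have h4 : algebraMap k₁ L (b.repr c i • b i) =
          algebraMap k L (b.repr c i) * algebraMap k₁ L (b i) := by
        rw [Algebra.smul_def, map_mul, ← IsScalarTower.algebraMap_apply k k₁ L]
      rw [h4]
      exact Submodule.smul_mem _
        (⟨algebraMap k L (b.repr c i), hk _⟩ : P.O.toSubring.map (algebraMap K L))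
        (Submodule.subset_span ⟨i, rfl⟩)
    · apply Submodule.span_mono
      rintro _ ⟨i, rfl⟩
      exact ⟨b i, rfl⟩
  rw [← Subalgebra.mem_toSubmodule, h1, Submodule.mem_span_range_iff_exists_fun]
  constructor
  · rintro ⟨c, rfl⟩
    have hc : ∀ i, ∃ a : K, P.1 a ≤ 1 ∧ algebraMap K L a = (c i : L) :=
      fun i => mem_SP.mp (c i).2
    choose a ha har using hc
    refine ⟨a, ha, Finset.sum_congr rfl fun i _ => ?_⟩
    rw [har i, mul_comm]
    rfl
  · rintro ⟨a, ha, rfl⟩
    refine ⟨fun i => ⟨algebraMap K L (a i), mem_SP.mpr ⟨a i, ha i, rfl⟩⟩,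
      Finset.sum_congr rfl fun i _ => ?_⟩
    rw [mul_comm]
    rfl

theorem adjoin_le_integralClosure [FiniteDimensional K L] [Algebra.IsAlgebraic k k₁]
    (hK : IsFunctionField k K) (P : Place k K) :
    Algebra.adjoin (P.O.toSubring.map (algebraMap K L)) (Set.range (algebraMap k₁ L)) ≤
      integralClosure (P.O.toSubring.map (algebraMap K L)) L := by
  apply Algebra.adjoin_le
  rintro _ ⟨c, rfl⟩
  rw [SetLike.mem_coe, mem_IC_iff hK P]
  intro Q _
  exact (Place.up (k' := k₁) Q).2.1 c

theorem algebraMap_mem_adjoin (P : Place k K) (s : Set L) {a : K} (ha : P.1 a ≤ 1) :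
    algebraMap K L a ∈ Algebra.adjoin (P.O.toSubring.map (algebraMap K L)) s := by
  have h := Subalgebra.algebraMap_mem (Algebra.adjoin (P.O.toSubring.map (algebraMap K L)) s)
    ⟨algebraMap K L a, mem_SP.mpr ⟨a, ha, rfl⟩⟩
  exact h

theorem coeff_eq_zero {ι : Type*} [Fintype ι]
    (hinj : Function.Injective (Algebra.TensorProduct.productMap
      (IsScalarTower.toAlgHom k k₁ L) (IsScalarTower.toAlgHom k K L)))
    (b : Module.Basis ι k k₁) (a : ι → K)
    (h0 : ∑ i, algebraMap k₁ L (b i) * algebraMap K L (a i) = 0) (j : ι) : a j = 0 := by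
  classical
  have h1 : (∑ i, b i ⊗ₜ[k] a i : k₁ ⊗[k] K) = 0 := by
    apply hinj
    rw [map_sum, map_zero, ← h0]
    refine Finset.sum_congr rfl fun i _ => ?_
    rw [Algebra.TensorProduct.productMap_apply_tmul]
    rfl
  have h2 : TensorProduct.equivFinsuppOfBasisLeft b (∑ i, b i ⊗ₜ[k] a i) j = 0 := by
    rw [h1, map_zero]; rfl
  rw [map_sum, Finsupp.finset_sum_apply] at h2
  have h3 : ∀ i, TensorProduct.equivFinsuppOfBasisLeft b (b i ⊗ₜ[k] a i) j =
      if i = j then a i else 0 := by
    intro i
    rw [TensorProduct.equivFinsuppOfBasisLeft_apply_tmul_apply, Module.Basis.repr_self,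
      Finsupp.single_apply]
    split_ifs <;> simp
  rw [Finset.sum_congr rfl (fun i _ => h3 i), Finset.sum_ite_eq', if_pos (Finset.mem_univ j)] at h2
  exact h2

theorem coeff_unique {ι : Type*} [Fintype ι]
    (hinj : Function.Injective (Algebra.TensorProduct.productMap
      (IsScalarTower.toAlgHom k k₁ L) (IsScalarTower.toAlgHom k K L)))
    (b : Module.Basis ι k k₁) (a a' : ι → K)
    (h : ∑ i, algebraMap k₁ L (b i) * algebraMap K L (a i) =
      ∑ i, algebraMap k₁ L (b i) * algebraMap K L (a' i)) (j : ι) : a j = a' j := by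
  have h0 : ∑ i, algebraMap k₁ L (b i) * algebraMap K L ((fun i => a i - a' i) i) = 0 := by
    simp only [map_sub, mul_sub, Finset.sum_sub_distrib]
    rw [h, sub_self]
  exact sub_eq_zero.mp (coeff_eq_zero hinj b _ h0 j)

theorem exists_coeff {ι : Type*} [Fintype ι]
    (hsurj : Function.Surjective (Algebra.TensorProduct.productMap
      (IsScalarTower.toAlgHom k k₁ L) (IsScalarTower.toAlgHom k K L)))
    (b : Module.Basis ι k k₁) (z : L) :
    ∃ a : ι → K, z = ∑ i, algebraMap k₁ L (b i) * algebraMap K L (a i) := by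
  obtain ⟨t, rfl⟩ := hsurj z
  induction t using TensorProduct.induction_on with
  | zero => exact ⟨fun _ => 0, by simp⟩
  | tmul c x =>
    refine ⟨fun i => algebraMap k K (b.repr c i) * x, ?_⟩
    rw [Algebra.TensorProduct.productMap_apply_tmul]
    have hc : algebraMap k₁ L c = ∑ i, algebraMap k₁ L (b i) * algebraMap k L (b.repr c i) := by
      have hc1 : algebraMap k₁ L c = algebraMap k₁ L (∑ i, b.repr c i • b i) := by
        rw [b.sum_repr c]
      rw [hc1, map_sum]
      refine Finset.sum_congr rfl fun i _ => ?_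
      rw [Algebra.smul_def, map_mul, ← IsScalarTower.algebraMap_apply k k₁ L, mul_comm]
    show algebraMap k₁ L c * algebraMap K L x = _
    rw [hc, Finset.sum_mul]
    refine Finset.sum_congr rfl fun i _ => ?_
    rw [map_mul, ← IsScalarTower.algebraMap_apply k K L]
    ring
  | add t₁ t₂ h₁ h₂ =>
    obtain ⟨a₁, h₁⟩ := h₁
    obtain ⟨a₂, h₂⟩ := h₂
    refine ⟨fun i => a₁ i + a₂ i, ?_⟩
    rw [map_add, h₁, h₂, ← Finset.sum_add_distrib]
    refine Finset.sum_congr rfl fun i _ => ?_
    rw [map_add, mul_add]

end General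

theorem tower_acd (A B C D : Type*) [Field A] [Field B] [Field C] [Field D]
    [Algebra A B] [Algebra B C] [Algebra A C] [Algebra A D] [Algebra B D] [Algebra C D]
    [IsScalarTower A B D] [IsScalarTower B C D] [IsScalarTower A B C] : IsScalarTower A C D :=
  IsScalarTower.of_algebraMap_eq fun x => by
    rw [IsScalarTower.algebraMap_apply A B D, IsScalarTower.algebraMap_apply B C D,
      ← IsScalarTower.algebraMap_apply A B C]

theorem tower_abd (A B C D : Type*) [Field A] [Field B] [Field C] [Field D]
    [Algebra A B] [Algebra B C] [Algebra A C] [Algebra A D] [Algebra B D] [Algebra C D]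
    [IsScalarTower A C D] [IsScalarTower A B C] [IsScalarTower B C D] : IsScalarTower A B D :=
  IsScalarTower.of_algebraMap_eq fun x => by
    rw [IsScalarTower.algebraMap_apply A C D, IsScalarTower.algebraMap_apply A B C,
      ← IsScalarTower.algebraMap_apply B C D]

end Groth.Agent.Lib.Helper23.TowerNS
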