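import Mathlib
import Groth.Agent.Lib.Helper23.TowerNS

/-! Nonsingularity of a place with respect to a tower of constant field extensions: the tower. -/

set_option autoImplicit false

namespace Groth.Agent.Lib.Helper23.TowerNS

open FunFld TensorProduct
open Groth.Agent.Lib.Helper27.FF
open Groth.Agent.Lib.Helper27

universe u v

section Tower

variable {k k' k'' : Type u} {K K' K'' : Type v} [Field k] [Field k'] [Field k''] [Field K]
    [Field K'] [Field K'']
    [Algebra k k'] [Algebra k' k''] [Algebra k k''] [IsScalarTower k k' k'']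
    [FiniteDimensional k k'] [FiniteDimensional k' k'']
    [Algebra k K] [Algebra K K'] [Algebra k' K'] [Algebra k K'] [IsScalarTower k k' K']
    [IsScalarTower k K K']
    [Algebra K' K''] [Algebra k'' K''] [Algebra k' K''] [Algebra k K''] [Algebra K K'']
    [IsScalarTower k' k'' K''] [IsScalarTower k' K' K''] [IsScalarTower K K' K'']
    [IsScalarTower k K K'']

theorem isOverWith_trans {P : Place k K} {Q : Place k K'} {Q'' : Place k K''} {e₀ e₁ : ℕ}
    (h₀ : IsOverWith Q P e₀) (h₁ : IsOverWith Q'' Q e₁) : IsOverWith Q'' P (e₀ * e₁) := by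
  intro x
  rw [IsScalarTower.algebraMap_apply K K' K'', h₁ _, h₀ _, pow_mul]

theorem exists_between [IsScalarTower k K' K''] [IsScalarTower k k' K'']
    [FiniteDimensional K K'] [FiniteDimensional K' K'']
    (hK : IsFunctionField k K) (hK' : IsFunctionField k' K') {P : Place k K}
    {Q'' : Place k K''} (hQ'' : IsOver Q'' P) :
    ∃ Q : Place k K', IsOver Q P ∧ IsOver Q'' Q := by
  haveI : Algebra.IsAlgebraic k k' := Algebra.IsAlgebraic.of_finite k k'
  haveI : Algebra.IsAlgebraic K K' := Algebra.IsAlgebraic.of_finite K K'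
  haveI : Algebra.IsAlgebraic K' K'' := Algebra.IsAlgebraic.of_finite K' K''
  obtain ⟨e, he⟩ := hQ''
  obtain ⟨Q₁, e₁, he₁⟩ := exists_isOverWith hK' (Place.up (k' := k') Q'')
  obtain ⟨P₀, e₀, he₀⟩ := exists_isOverWith hK (Place.down (k := k) Q₁)
  have he₁' : IsOverWith Q'' (Place.down (k := k) Q₁) e₁ := fun x => he₁ x
  have hcomp : IsOverWith Q'' P₀ (e₀ * e₁) := isOverWith_trans he₀ he₁'
  obtain ⟨hP, -⟩ := isOverWith_unique hcomp he
  rw [hP] at he₀
  exact ⟨Place.down (k := k) Q₁, ⟨e₀, he₀⟩, ⟨e₁, he₁'⟩⟩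

/-- (⇐) -/
theorem tower_ns_of
    (h1 : Function.Bijective (Algebra.TensorProduct.productMap
      (IsScalarTower.toAlgHom k k' K') (IsScalarTower.toAlgHom k K K')))
    (h2 : Function.Bijective (Algebra.TensorProduct.productMap
      (IsScalarTower.toAlgHom k' k'' K'') (IsScalarTower.toAlgHom k' K' K'')))
    (hK : IsFunctionField k K) (hg : IsGeometric k K) (P : Place k K)
    (hNS' : integralClosure (P.O.toSubring.map (algebraMap K K')) K' =
      Algebra.adjoin (P.O.toSubring.map (algebraMap K K')) (Set.range (algebraMap k' K')))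
    (hNSQ : ∀ Q : Place k K', IsOver Q P →
      integralClosure (Q.O.toSubring.map (algebraMap K' K'')) K'' =
        Algebra.adjoin (Q.O.toSubring.map (algebraMap K' K''))
          (Set.range (algebraMap k'' K''))) :
    integralClosure (P.O.toSubring.map (algebraMap K K'')) K'' =
      Algebra.adjoin (P.O.toSubring.map (algebraMap K K''))
        (Set.range (algebraMap k'' K'')) := by
  classical
  haveI t1 : IsScalarTower k K' K'' := tower_acd k K K' K''
  haveI t2 : IsScalarTower k k' K'' := tower_abd k k' K' K''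
  haveI t3 : IsScalarTower k k'' K'' := tower_acd k k' k'' K''
  haveI : FiniteDimensional K K' := Geo.finiteDimensional_of_bijective h1
  haveI : FiniteDimensional K' K'' := Geo.finiteDimensional_of_bijective h2
  haveI : FiniteDimensional K K'' := FiniteDimensional.trans K K' K''
  haveI : FiniteDimensional k k'' := FiniteDimensional.trans k k' k''
  haveI : Algebra.IsAlgebraic k k' := Algebra.IsAlgebraic.of_finite k k'
  haveI : Algebra.IsAlgebraic k' k'' := Algebra.IsAlgebraic.of_finite k' k''
  haveI : Algebra.IsAlgebraic k k'' := Algebra.IsAlgebraic.of_finite k k''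
  have hK' : IsFunctionField k' K' := Geo.isFunctionField_constExt h1 hK hg
  apply le_antisymm
  · intro z hz
    have hz1 : ∀ Q'' : Place k K'', IsOver Q'' P → Q''.1 z ≤ 1 :=
      (mem_IC_iff (L := K'') hK P z).mp hz
    let c := Module.finBasis k' k''
    let b' := Module.finBasis k k'
    obtain ⟨zc, hzc⟩ := exists_coeff (k := k') (K := K') h2.2 c z
    have hzcQ : ∀ (Q : Place k K'), IsOver Q P → ∀ j, Q.1 (zc j) ≤ 1 := by
      intro Q hQ
      have hzQ : z ∈ integralClosure
          ((Place.up (k' := k') Q).O.toSubring.map (algebraMap K' K'')) K'' := by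
        rw [mem_IC_iff (L := K'') hK' (Place.up (k' := k') Q) z]
        intro Q₂ hQ₂
        obtain ⟨e₂, he₂⟩ := hQ₂
        obtain ⟨e₀, he₀⟩ := hQ
        have h3 : IsOverWith (Place.down (k := k) Q₂) P (e₀ * e₂) :=
          isOverWith_trans he₀
            (show IsOverWith (Place.down (k := k) Q₂) Q e₂ from fun x => he₂ x)
        exact hz1 (Place.down (k := k) Q₂) ⟨_, h3⟩
      have hzQ2 : z ∈ integralClosure (Q.O.toSubring.map (algebraMap K' K'')) K'' := hzQ
      rw [hNSQ Q hQ] at hzQ2
      have hzQ' : z ∈ Algebra.adjoin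
          ((Place.up (k' := k') Q).O.toSubring.map (algebraMap K' K''))
          (Set.range (algebraMap k'' K'')) := hzQ2
      obtain ⟨a, ha, hza⟩ := (mem_adjoin_iff (L := K'') c (Place.up (k' := k') Q) z).mp hzQ'
      intro j
      have h4 := coeff_unique (k := k') (K := K') h2.1 c zc a (hzc.symm.trans hza) j
      rw [h4]
      exact ha j
    have hzc' : ∀ j, ∃ a : Fin (Module.finrank k k') → K, (∀ i, P.1 (a i) ≤ 1) ∧
        zc j = ∑ i, algebraMap k' K' (b' i) * algebraMap K K' (a i) := by
      intro j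
      have h3 : zc j ∈ integralClosure (P.O.toSubring.map (algebraMap K K')) K' :=
        (mem_IC_iff (L := K') hK P (zc j)).mpr (fun Q hQ => hzcQ Q hQ j)
      rw [hNS'] at h3
      exact (mem_adjoin_iff (L := K') b' P (zc j)).mp h3
    choose a ha hza using hzc'
    rw [hzc]
    refine Subalgebra.sum_mem _ fun j _ => ?_
    refine Subalgebra.mul_mem _ (Algebra.subset_adjoin ⟨c j, rfl⟩) ?_
    rw [hza j, map_sum]
    refine Subalgebra.sum_mem _ fun i _ => ?_
    rw [map_mul]
    refine Subalgebra.mul_mem _ ?_ ?_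
    · rw [← IsScalarTower.algebraMap_apply k' K' K'', IsScalarTower.algebraMap_apply k' k'' K'']
      exact Algebra.subset_adjoin ⟨_, rfl⟩
    · rw [← IsScalarTower.algebraMap_apply K K' K'']
      exact algebraMap_mem_adjoin P _ (ha j i)
  · exact adjoin_le_integralClosure (k₁ := k'') (L := K'') hK P

/-- (⇒), first part -/
theorem tower_ns_left
    (h1 : Function.Bijective (Algebra.TensorProduct.productMap
      (IsScalarTower.toAlgHom k k' K') (IsScalarTower.toAlgHom k K K')))
    (h2 : Function.Bijective (Algebra.TensorProduct.productMap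
      (IsScalarTower.toAlgHom k' k'' K'') (IsScalarTower.toAlgHom k' K' K'')))
    (hK : IsFunctionField k K) (hg : IsGeometric k K) (P : Place k K)
    (hNS'' : integralClosure (P.O.toSubring.map (algebraMap K K'')) K'' =
      Algebra.adjoin (P.O.toSubring.map (algebraMap K K''))
        (Set.range (algebraMap k'' K''))) :
    integralClosure (P.O.toSubring.map (algebraMap K K')) K' =
      Algebra.adjoin (P.O.toSubring.map (algebraMap K K')) (Set.range (algebraMap k' K')) := by
  classical
  haveI t1 : IsScalarTower k K' K'' := tower_acd k K K' K''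
  haveI t2 : IsScalarTower k k' K'' := tower_abd k k' K' K''
  haveI t3 : IsScalarTower k k'' K'' := tower_acd k k' k'' K''
  haveI : FiniteDimensional K K' := Geo.finiteDimensional_of_bijective h1
  haveI : FiniteDimensional K' K'' := Geo.finiteDimensional_of_bijective h2
  haveI : FiniteDimensional K K'' := FiniteDimensional.trans K K' K''
  haveI : FiniteDimensional k k'' := FiniteDimensional.trans k k' k''
  haveI : Algebra.IsAlgebraic k k' := Algebra.IsAlgebraic.of_finite k k'
  haveI : Algebra.IsAlgebraic k' k'' := Algebra.IsAlgebraic.of_finite k' k''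
  haveI : Algebra.IsAlgebraic k k'' := Algebra.IsAlgebraic.of_finite k k''
  have hK' : IsFunctionField k' K' := Geo.isFunctionField_constExt h1 hK hg
  apply le_antisymm
  · intro w hw
    have hw1 : ∀ Q : Place k K', IsOver Q P → Q.1 w ≤ 1 := (mem_IC_iff (L := K') hK P w).mp hw
    let b' := Module.finBasis k k'
    let c := Module.finBasis k' k''
    have hw'' : algebraMap K' K'' w ∈
        integralClosure (P.O.toSubring.map (algebraMap K K'')) K'' := by
      rw [mem_IC_iff (L := K'') hK P]
      intro Q'' hQ''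
      obtain ⟨Q, hQP, e₁, he₁⟩ := exists_between hK hK' hQ''
      rw [he₁ w]
      exact pow_le_one₀ zero_le (hw1 Q hQP)
    rw [hNS''] at hw''
    obtain ⟨a, ha, hwa⟩ := (mem_adjoin_iff (L := K'') (b'.smulTower c) P _).mp hw''
    obtain ⟨u, hu⟩ : ∃ u : Fin (Module.finrank k' k'') → K', ∀ j, u j =
        ∑ i, algebraMap k' K' (b' i) * algebraMap K K' (a (i, j)) := ⟨fun j => _, fun j => rfl⟩
    obtain ⟨u', hu'⟩ : ∃ u' : Fin (Module.finrank k' k'') → K', ∀ j, u' j =
        algebraMap k' K' (c.repr 1 j) * w := ⟨fun j => _, fun j => rfl⟩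
    have hsum1 : algebraMap K' K'' w =
        ∑ j, algebraMap k'' K'' (c j) * algebraMap K' K'' (u j) := by
      rw [hwa, Fintype.sum_prod_type_right]
      refine Finset.sum_congr rfl fun j _ => ?_
      rw [hu j, map_sum, Finset.mul_sum]
      refine Finset.sum_congr rfl fun i _ => ?_
      simp only [Module.Basis.smulTower_apply]
      rw [Algebra.smul_def, map_mul, map_mul, ← IsScalarTower.algebraMap_apply k' k'' K'',
        ← IsScalarTower.algebraMap_apply k' K' K'', ← IsScalarTower.algebraMap_apply K K' K'']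
      ring
    have hsum2 : algebraMap K' K'' w =
        ∑ j, algebraMap k'' K'' (c j) * algebraMap K' K'' (u' j) := by
      have h1' : algebraMap k'' K'' (∑ j, c.repr 1 j • c j) = 1 := by
        rw [c.sum_repr 1, map_one]
      rw [map_sum] at h1'
      calc algebraMap K' K'' w
          = (∑ j, algebraMap k'' K'' (c.repr 1 j • c j)) * algebraMap K' K'' w := by
            rw [h1', one_mul]
        _ = _ := by
            rw [Finset.sum_mul]
            refine Finset.sum_congr rfl fun j _ => ?_
            rw [hu' j, Algebra.smul_def, map_mul, map_mul,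
              ← IsScalarTower.algebraMap_apply k' k'' K'',
              ← IsScalarTower.algebraMap_apply k' K' K'']
            ring
    have huu : ∀ j, u j = u' j := fun j =>
      coeff_unique (k := k') (K := K') h2.1 c u u' (hsum1.symm.trans hsum2) j
    have hne : c.repr 1 ≠ 0 := fun h =>
      one_ne_zero ((LinearEquiv.map_eq_zero_iff c.repr).mp h)
    obtain ⟨j₀, hj₀⟩ := DFunLike.ne_iff.mp hne
    have hj₀' : c.repr 1 j₀ ≠ 0 := hj₀
    have hr' : algebraMap k' K' (c.repr 1 j₀) ≠ 0 := (_root_.map_ne_zero _).mpr hj₀'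
    have hw_eq : w = ∑ i, algebraMap k' K' ((c.repr 1 j₀)⁻¹ * b' i) *
        algebraMap K K' (a (i, j₀)) := by
      have h5 := huu j₀
      rw [hu j₀, hu' j₀] at h5
      calc w = (algebraMap k' K' (c.repr 1 j₀))⁻¹ * (algebraMap k' K' (c.repr 1 j₀) * w) := by
            rw [← mul_assoc, inv_mul_cancel₀ hr', one_mul]
        _ = (algebraMap k' K' (c.repr 1 j₀))⁻¹ *
            ∑ i, algebraMap k' K' (b' i) * algebraMap K K' (a (i, j₀)) := by rw [← h5]
        _ = _ := by
            rw [Finset.mul_sum]
            refine Finset.sum_congr rfl fun i _ => ?_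
            rw [map_mul, map_inv₀]
            ring
    rw [hw_eq]
    exact Subalgebra.sum_mem _ fun i _ =>
      Subalgebra.mul_mem _ (Algebra.subset_adjoin ⟨_, rfl⟩) (algebraMap_mem_adjoin P _ (ha (i, j₀)))
  · exact adjoin_le_integralClosure (k₁ := k') (L := K') hK P

/-- (⇒), second part -/
theorem tower_ns_right
    (h1 : Function.Bijective (Algebra.TensorProduct.productMap
      (IsScalarTower.toAlgHom k k' K') (IsScalarTower.toAlgHom k K K')))
    (h2 : Function.Bijective (Algebra.TensorProduct.productMap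
      (IsScalarTower.toAlgHom k' k'' K'') (IsScalarTower.toAlgHom k' K' K'')))
    (hK : IsFunctionField k K) (hg : IsGeometric k K) (P : Place k K)
    (hNS'' : integralClosure (P.O.toSubring.map (algebraMap K K'')) K'' =
      Algebra.adjoin (P.O.toSubring.map (algebraMap K K''))
        (Set.range (algebraMap k'' K'')))
    (Q : Place k K') (hQ : IsOver Q P) :
    integralClosure (Q.O.toSubring.map (algebraMap K' K'')) K'' =
      Algebra.adjoin (Q.O.toSubring.map (algebraMap K' K''))
        (Set.range (algebraMap k'' K'')) := by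
  classical
  haveI t1 : IsScalarTower k K' K'' := tower_acd k K K' K''
  haveI t2 : IsScalarTower k k' K'' := tower_abd k k' K' K''
  haveI t3 : IsScalarTower k k'' K'' := tower_acd k k' k'' K''
  haveI : FiniteDimensional K K' := Geo.finiteDimensional_of_bijective h1
  haveI : FiniteDimensional K' K'' := Geo.finiteDimensional_of_bijective h2
  haveI : FiniteDimensional K K'' := FiniteDimensional.trans K K' K''
  haveI : FiniteDimensional k k'' := FiniteDimensional.trans k k' k''
  haveI : Algebra.IsAlgebraic k k' := Algebra.IsAlgebraic.of_finite k k'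
  haveI : Algebra.IsAlgebraic k' k'' := Algebra.IsAlgebraic.of_finite k' k''
  haveI : Algebra.IsAlgebraic k k'' := Algebra.IsAlgebraic.of_finite k k''
  have hK' : IsFunctionField k' K' := Geo.isFunctionField_constExt h1 hK hg
  apply le_antisymm
  · intro z hz
    have hz0 : z ∈ integralClosure
        ((Place.up (k' := k') Q).O.toSubring.map (algebraMap K' K'')) K'' := hz
    have hz1 : ∀ Q₂ : Place k' K'', IsOver Q₂ (Place.up (k' := k') Q) → Q₂.1 z ≤ 1 :=
      (mem_IC_iff (L := K'') hK' (Place.up (k' := k') Q) z).mp hz0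
    obtain ⟨hfin'', -⟩ := sum_ramIdx_mul_deg (K' := K'') hK P
    obtain ⟨hfin', -⟩ := sum_ramIdx_mul_deg (K' := K') hK P
    obtain ⟨N, hN⟩ : ∃ N : ℕ, ∀ Q₂ : Place k K'', IsOver Q₂ P →
        Q₂.1 z ≤ WithZero.exp (N : ℤ) := by
      obtain ⟨M, hM⟩ := Finset.exists_le (hfin''.toFinset.image fun Q₂ : Place k K'' => Q₂.1 z)
      obtain ⟨N, hN⟩ := Groth.Agent.Lib.Helper23.FF.exists_nat_le_exp M
      exact ⟨N, fun Q₂ hQ₂ =>
        (hM _ (Finset.mem_image_of_mem _ (hfin''.mem_toFinset.mpr hQ₂))).trans hN⟩
    have hQT : Q ∈ hfin'.toFinset := hfin'.mem_toFinset.mpr hQ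
    obtain ⟨w, hwQ, hwO⟩ := Groth.Agent.Lib.Helper23.FF.exists_approx_one
      (fun Q' : ↥hfin'.toFinset => (Q' : Place k K')) Subtype.coe_injective ⟨Q, hQT⟩ (N + 1)
    have hexp_lt : WithZero.exp (-((N + 1 : ℕ) : ℤ)) < 1 := by
      rw [← WithZero.exp_zero, WithZero.exp_lt_exp]
      push_cast
      omega
    have hw1 : Q.1 w = 1 := by
      have h := Q.1.map_add_eq_of_lt_left (x := 1) (y := w - 1)
        (by rw [map_one]; exact lt_of_le_of_lt hwQ hexp_lt)
      rw [add_sub_cancel, map_one] at h
      exact h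
    have hw0 : w ≠ 0 := by
      rintro rfl
      rw [map_zero] at hw1
      exact zero_ne_one hw1
    have hy : ∀ Q₂ : Place k K'', IsOver Q₂ P → Q₂.1 (algebraMap K' K'' w * z) ≤ 1 := by
      intro Q₂ hQ₂
      obtain ⟨Q', hQ'P, e₁, he₁⟩ := exists_between hK hK' hQ₂
      by_cases hQQ : Q' = Q
      · rw [hQQ] at he₁
        rw [map_mul, he₁ w, hw1, one_pow, one_mul]
        exact hz1 (Place.up (k' := k') Q₂) ⟨e₁, fun x => he₁ x⟩
      · rw [map_mul, he₁ w]
        have h3 : Q'.1 w ≤ WithZero.exp (-((N + 1 : ℕ) : ℤ)) :=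
          hwO ⟨Q', hfin'.mem_toFinset.mpr hQ'P⟩ (fun h => hQQ (congrArg Subtype.val h))
        have he1 : 1 ≤ e₁ := isOverWith_pos he₁
        have h4 : Q'.1 w ^ e₁ ≤ WithZero.exp (-((N + 1 : ℕ) : ℤ)) := by
          calc Q'.1 w ^ e₁ ≤ Q'.1 w ^ 1 :=
                pow_le_pow_of_le_one zero_le (h3.trans hexp_lt.le) he1
            _ = Q'.1 w := pow_one _
            _ ≤ _ := h3
        calc Q'.1 w ^ e₁ * Q₂.1 z
            ≤ WithZero.exp (-((N + 1 : ℕ) : ℤ)) * WithZero.exp (N : ℤ) :=
              mul_le_mul' h4 (hN Q₂ hQ₂)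
          _ = WithZero.exp (-1 : ℤ) := by
              rw [← WithZero.exp_add]; congr 1; push_cast; ring
          _ ≤ 1 := by rw [← WithZero.exp_zero, WithZero.exp_le_exp]; norm_num
    have hy' : algebraMap K' K'' w * z ∈
        integralClosure (P.O.toSubring.map (algebraMap K K'')) K'' :=
      (mem_IC_iff (L := K'') hK P _).mpr hy
    rw [hNS''] at hy'
    obtain ⟨a, ha, hya⟩ := (mem_adjoin_iff (L := K'') (Module.finBasis k k'') P _).mp hy'
    have hyQ : algebraMap K' K'' w * z ∈
        Algebra.adjoin (Q.O.toSubring.map (algebraMap K' K''))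
          (Set.range (algebraMap k'' K'')) := by
      rw [hya]
      refine Subalgebra.sum_mem _ fun l _ =>
        Subalgebra.mul_mem _ (Algebra.subset_adjoin ⟨_, rfl⟩) ?_
      rw [IsScalarTower.algebraMap_apply K K' K'']
      obtain ⟨e₀, he₀⟩ := hQ
      exact algebraMap_mem_adjoin Q _ ((isOverWith_val_le_one_iff he₀ _).mpr (ha l))
    have hz_eq : z = algebraMap K' K'' w⁻¹ * (algebraMap K' K'' w * z) := by
      rw [← mul_assoc, ← map_mul, inv_mul_cancel₀ hw0, map_one, one_mul]
    rw [hz_eq]
    refine Subalgebra.mul_mem _ (algebraMap_mem_adjoin Q _ ?_) hyQ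
    rw [map_inv₀, hw1, inv_one]
  · have h := adjoin_le_integralClosure (k₁ := k'') (L := K'') hK' (Place.up (k' := k') Q)
    exact h

end Tower

end Groth.Agent.Lib.Helper23.TowerNS
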