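import Mathlib
import Groth.Agent.Lib.Helper23.TowerNS2
import Groth.Agent.Lib.Helper23.Sep4
import Groth.Agent.Lib.Helper23.FF4
import Groth.Agent.Lib.Helper27.FunFld12

/-! Constant field extensions `K' = k' ⊗ K`: the conorm of a place as a divisor of `K'/k'`,
linear disjointness, membership in `L`. -/

set_option autoImplicit false

namespace Groth.Agent.Lib.Helper23.GD

open FunFld TensorProduct
open Groth.Agent.Lib.Helper27.FF
open Groth.Agent.Lib.Helper27
open Groth.Agent.Lib.Helper23.TowerNS

universe u v

variable {k k' : Type u} {K K' : Type v} [Field k] [Field k'] [Field K] [Field K']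
  [Algebra k k'] [FiniteDimensional k k'] [Algebra k K] [Algebra K K'] [Algebra k' K']
  [Algebra k K'] [IsScalarTower k k' K'] [IsScalarTower k K K']

omit [FiniteDimensional k k'] in
theorem algebraMap_eq_sum_repr {ι : Type*} [Fintype ι] (b : Module.Basis ι k k') (c : k') :
    algebraMap k' K' c = ∑ j, algebraMap k' K' (b j) * algebraMap k K' (b.repr c j) := by
  have hc1 : algebraMap k' K' c = algebraMap k' K' (∑ i, b.repr c i • b i) := by
    rw [b.sum_repr c]
  rw [hc1, map_sum]
  refine Finset.sum_congr rfl fun i _ => ?_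
  rw [Algebra.smul_def, map_mul, ← IsScalarTower.algebraMap_apply k k' K', mul_comm]

/-- linear disjointness: `k`-independent elements of `K` stay `k'`-independent in `K'`. -/
theorem linearIndependent_algebraMap
    (hinj : Function.Injective (Algebra.TensorProduct.productMap
      (IsScalarTower.toAlgHom k k' K') (IsScalarTower.toAlgHom k K K')))
    {ι : Type*} [Fintype ι] {β : ι → K} (hβ : LinearIndependent k β) :
    LinearIndependent k' (fun i => algebraMap K K' (β i)) := by
  classical
  rw [Fintype.linearIndependent_iff]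
  intro c hc i
  let b := Module.finBasis k k'
  have hterm : ∀ i, c i • algebraMap K K' (β i) = ∑ j, algebraMap k' K' (b j) *
      algebraMap K K' (algebraMap k K (b.repr (c i) j) * β i) := by
    intro i
    rw [Algebra.smul_def, algebraMap_eq_sum_repr b (c i), Finset.sum_mul]
    refine Finset.sum_congr rfl fun j _ => ?_
    rw [map_mul, ← IsScalarTower.algebraMap_apply k K K']
    ring
  have h1 : ∑ j, algebraMap k' K' (b j) *
      algebraMap K K' (∑ i, algebraMap k K (b.repr (c i) j) * β i) = 0 := by
    calc ∑ j, algebraMap k' K' (b j) *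
          algebraMap K K' (∑ i, algebraMap k K (b.repr (c i) j) * β i)
        = ∑ j, ∑ i, algebraMap k' K' (b j) *
            algebraMap K K' (algebraMap k K (b.repr (c i) j) * β i) := by
          refine Finset.sum_congr rfl fun j _ => ?_
          rw [map_sum, Finset.mul_sum]
      _ = ∑ i, ∑ j, algebraMap k' K' (b j) *
            algebraMap K K' (algebraMap k K (b.repr (c i) j) * β i) := Finset.sum_comm
      _ = ∑ i, c i • algebraMap K K' (β i) := Finset.sum_congr rfl fun i _ => (hterm i).symm
      _ = 0 := hc
  have h2 := coeff_eq_zero hinj b _ h1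
  have h3 : ∀ j, b.repr (c i) j = 0 := by
    intro j
    have h4 : ∑ i, (fun i => b.repr (c i) j) i • β i = 0 := by
      simp only [Algebra.smul_def]
      exact h2 j
    exact Fintype.linearIndependent_iff.mp hβ _ h4 i
  have h5 : b.repr (c i) = 0 := Finsupp.ext fun j => h3 j
  exact (LinearEquiv.map_eq_zero_iff b.repr).mp h5

/-- the conorm of the place `P` as a divisor of `K'/k'`. -/
noncomputable def conDiv (P : Place k K) (hfin : {Q : Place k K' | IsOver Q P}.Finite) :
    Divisor k' K' :=
  ∑ Q ∈ hfin.toFinset, Finsupp.single (Place.up (k' := k') Q) (ramIdx Q P : ℤ)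

theorem conDiv_up_of_isOverWith {P : Place k K} (hfin : {Q : Place k K' | IsOver Q P}.Finite)
    {Q : Place k K'} {e : ℕ} (he : IsOverWith Q P e) :
    conDiv P hfin (Place.up (k' := k') Q) = (e : ℤ) := by
  classical
  unfold conDiv
  rw [Finsupp.finset_sum_apply, Finset.sum_eq_single Q]
  · rw [Finsupp.single_eq_same, ramIdx_eq he]
  · intro Q₁ _ hne
    rw [Finsupp.single_apply, if_neg]
    intro h
    apply hne
    have h1 := congrArg (Place.down (k := k)) h
    rwa [Place.down_up (k' := k'), Place.down_up (k' := k')] at h1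
  · intro hnot
    exact absurd (hfin.mem_toFinset.mpr ⟨e, he⟩) hnot

theorem conDiv_up_of_not_isOver {P : Place k K} (hfin : {Q : Place k K' | IsOver Q P}.Finite)
    {Q : Place k K'} (hnot : ¬ IsOver Q P) :
    conDiv P hfin (Place.up (k' := k') Q) = 0 := by
  classical
  unfold conDiv
  rw [Finsupp.finset_sum_apply]
  refine Finset.sum_eq_zero fun Q₁ hQ₁ => ?_
  rw [Finsupp.single_apply, if_neg]
  intro h
  apply hnot
  have h1 := congrArg (Place.down (k := k)) h
  rw [Place.down_up (k' := k'), Place.down_up (k' := k')] at h1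
  rw [← h1]
  exact hfin.mem_toFinset.mp hQ₁

theorem deg_conDiv
    (h : Function.Bijective (Algebra.TensorProduct.productMap
      (IsScalarTower.toAlgHom k k' K') (IsScalarTower.toAlgHom k K K')))
    (hK : IsFunctionField k K) (P : Place k K)
    (hfin : {Q : Place k K' | IsOver Q P}.Finite) :
    (conDiv (k' := k') P hfin).deg = (P.deg : ℤ) := by
  classical
  haveI : FiniteDimensional K K' := Geo.finiteDimensional_of_bijective h
  have hn : 0 < Module.finrank k k' := Module.finrank_pos
  have hfund := (sum_ramIdx_mul_deg (K' := K') hK P).2 hfin.toFinset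
    (fun Q => hfin.mem_toFinset)
  rw [Geo.finrank_of_bijective h] at hfund
  have h1 : ∀ Q : Place k K', Q.deg =
      Module.finrank k k' * (Place.up (k' := k') Q).deg := by
    intro Q
    have h2 := Place.deg_down (k := k) (Place.up (k' := k') Q)
    rwa [Place.down_up] at h2
  have h2 : Module.finrank k k' *
      ∑ Q ∈ hfin.toFinset, ramIdx Q P * (Place.up (k' := k') Q).deg =
      Module.finrank k k' * P.deg := by
    rw [← hfund, Finset.mul_sum]
    refine Finset.sum_congr rfl fun Q _ => ?_
    rw [h1 Q]
    ring
  have h3 := Nat.eq_of_mul_eq_mul_left hn h2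
  unfold conDiv
  rw [← Groth.Agent.Lib.Helper23.FF.degHom_apply, map_sum]
  simp only [Groth.Agent.Lib.Helper23.FF.degHom_apply, deg_single]
  exact_mod_cast h3

theorem exp_pow_eq (N : ℤ) (e : ℕ) :
    (WithZero.exp N) ^ e = WithZero.exp (N * e) := by
  rw [← WithZero.exp_nsmul]
  congr 1
  rw [nsmul_eq_mul, mul_comm]

/-- membership in `L (N • conDiv Pinf)` via places of `K'/k` lying over places of `K`. -/
theorem mem_L_conDiv_iff [FiniteDimensional K K'] (hK : IsFunctionField k K) {Pinf : Place k K}
    (hfin : {Q : Place k K' | IsOver Q Pinf}.Finite) (N : ℕ) (z : K') :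
    z ∈ L ((N : ℤ) • conDiv (k' := k') Pinf hfin) ↔
      (∀ (Q : Place k K') (e : ℕ), IsOverWith Q Pinf e →
        Q.1 z ≤ WithZero.exp ((N : ℤ) * e)) ∧
      (∀ (P : Place k K) (Q : Place k K') (e : ℕ), P ≠ Pinf → IsOverWith Q P e →
        Q.1 z ≤ 1) := by
  constructor
  · intro hz
    refine ⟨fun Q e he => ?_, fun P Q e hP he => ?_⟩
    · have h1 := hz (Place.up (k' := k') Q)
      rw [Finsupp.smul_apply, conDiv_up_of_isOverWith hfin he, smul_eq_mul] at h1
      exact h1
    · have h1 := hz (Place.up (k' := k') Q)
      have hnot : ¬ IsOver Q Pinf := by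
        rintro ⟨e', he'⟩
        exact hP (isOverWith_unique he he').1
      rw [Finsupp.smul_apply, conDiv_up_of_not_isOver hfin hnot, smul_zero,
        WithZero.exp_zero] at h1
      exact h1
  · rintro ⟨ha, hb⟩ Q'
    obtain ⟨P, e, he⟩ := exists_isOverWith hK (Place.down (k := k) Q')
    have hQ' : Place.up (k' := k') (Place.down (k := k) Q') = Q' := Place.up_down Q'
    by_cases hP : P = Pinf
    · subst hP
      have h1 := ha _ e he
      rw [← hQ', Finsupp.smul_apply, conDiv_up_of_isOverWith hfin he, smul_eq_mul]
      exact h1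
    · have h1 := hb P _ e hP he
      have hnot : ¬ IsOver (Place.down (k := k) Q') Pinf := by
        rintro ⟨e', he'⟩
        exact hP (isOverWith_unique he he').1
      rw [← hQ', Finsupp.smul_apply, conDiv_up_of_not_isOver hfin hnot, smul_zero,
        WithZero.exp_zero]
      exact h1

/-- nonsingularity, elementwise. -/
theorem ns_iff [FiniteDimensional K K'] (hK : IsFunctionField k K) {ι : Type*} [Fintype ι]
    (b : Module.Basis ι k k') (P : Place k K) :
    integralClosure (P.O.toSubring.map (algebraMap K K')) K' =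
      Algebra.adjoin (P.O.toSubring.map (algebraMap K K')) (Set.range (algebraMap k' K')) ↔
    ∀ z : K', (∀ Q : Place k K', IsOver Q P → Q.1 z ≤ 1) →
      ∃ a : ι → K, (∀ i, P.1 (a i) ≤ 1) ∧
        z = ∑ i, algebraMap k' K' (b i) * algebraMap K K' (a i) := by
  constructor
  · intro hns z hz
    have h1 : z ∈ integralClosure (P.O.toSubring.map (algebraMap K K')) K' :=
      (mem_IC_iff (L := K') hK P z).mpr hz
    rw [hns] at h1
    exact (mem_adjoin_iff (L := K') b P z).mp h1
  · intro hns
    apply le_antisymm
    · intro z hz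
      exact (mem_adjoin_iff (L := K') b P z).mpr
        (hns z ((mem_IC_iff (L := K') hK P z).mp hz))
    · exact adjoin_le_integralClosure (k₁ := k') (L := K') hK P

end Groth.Agent.Lib.Helper23.GD
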