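import Mathlib
import Groth.Agent.Lib.Helper23.GD1

/-! Genus change in constant field extensions: singular places drop the genus. -/

set_option autoImplicit false

namespace Groth.Agent.Lib.Helper23.GD

open FunFld TensorProduct
open Groth.Agent.Lib.Helper27.FF
open Groth.Agent.Lib.Helper27
open Groth.Agent.Lib.Helper23.TowerNS

universe u v

variable {k k' : Type u} {K K' : Type v} [Field k] [Field k'] [Field K] [Field K']
  [Algebra k k'] [FiniteDimensional k k'] [Algebra k K] [Algebra K K'] [Algebra k' K']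
  [Algebra k K'] [IsScalarTower k k' K'] [IsScalarTower k K K']

theorem val_sum_le {ι : Type*} [Fintype ι] (b : ι → k') (y : ι → K) {P : Place k K}
    {Q : Place k K'} {e : ℕ} (he : IsOverWith Q P e) (γ : WithZero (Multiplicative ℤ))
    (hy : ∀ j, P.1 (y j) ≤ γ) :
    Q.1 (∑ j, algebraMap k' K' (b j) * algebraMap K K' (y j)) ≤ γ ^ e := by
  apply Valuation.map_sum_le
  intro j _
  rw [map_mul, he (y j)]
  have h1 : Q.1 (algebraMap k' K' (b j)) ≤ 1 := (Place.up (k' := k') Q).2.1 (b j)
  calc Q.1 (algebraMap k' K' (b j)) * P.1 (y j) ^ e ≤ 1 * γ ^ e :=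
        mul_le_mul' h1 (pow_le_pow_left₀ zero_le (hy j) e)
    _ = γ ^ e := one_mul _

/-- Genus drop: a family of elements of the integral closures, independent modulo `O_P[k']`,
bounds the genus of `K'` from above. -/
theorem genus_add_card_le [DecidableEq (Place k K)]
    (h : Function.Bijective (Algebra.TensorProduct.productMap
      (IsScalarTower.toAlgHom k k' K') (IsScalarTower.toAlgHom k K K')))
    (hK : IsFunctionField k K) (hK' : IsFunctionField k' K')
    {ι : Type*} [Fintype ι] (Pl : ι → Place k K) (r : ι → K')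
    (hr : ∀ i, ∀ Q : Place k K', IsOver Q (Pl i) → Q.1 (r i) ≤ 1)
    (hind : ∀ d : ι → k', (∀ P : Place k K,
        (∑ i, if Pl i = P then algebraMap k' K' (d i) * r i else 0) ∈
          Algebra.adjoin (P.O.toSubring.map (algebraMap K K'))
            (Set.range (algebraMap k' K'))) → ∀ i, d i = 0) :
    (genus k' K' : ℤ) + Fintype.card ι ≤ genus k K := by
  classical
  haveI : FiniteDimensional K K' := Geo.finiteDimensional_of_bijective h
  haveI : Infinite (Place k K) := Groth.Agent.Lib.Helper23.SepPl.infinite_place_general hK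
  let b := Module.finBasis k k'
  obtain ⟨S, hS⟩ : ∃ S : Finset (Place k K), S = Finset.univ.image Pl := ⟨_, rfl⟩
  have hPlS : ∀ i, Pl i ∈ S := fun i => by
    rw [hS]; exact Finset.mem_image_of_mem Pl (Finset.mem_univ i)
  obtain ⟨Pinf, hPinf⟩ := Infinite.exists_notMem_finset S
  have hPl_ne : ∀ i, Pl i ≠ Pinf := by
    intro i hi
    exact hPinf (hi ▸ hPlS i)
  obtain ⟨hfin, -⟩ := sum_ramIdx_mul_deg (K' := K') hK Pinf
  choose ρ hρ using fun i => exists_coeff (k := k) (K := K) h.2 b (r i)
  obtain ⟨P', hP'⟩ : ∃ P' : Fin S.card → Place k K,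
      ∀ a, P' a = ((S.equivFin.symm a : ↥S) : Place k K) := ⟨_, fun _ => rfl⟩
  have hP'inj : Function.Injective P' := fun a a' haa => by
    rw [hP', hP'] at haa
    exact S.equivFin.symm.injective (Subtype.ext haa)
  have hP'mem : ∀ a, P' a ∈ S := fun a => by
    rw [hP']; exact (S.equivFin.symm a).2
  have hP'surj : ∀ P ∈ S, ∃ a, P' a = P := fun P hP => by
    refine ⟨S.equivFin ⟨P, hP⟩, ?_⟩
    rw [hP', Equiv.symm_apply_apply]
  have hinf' : Pinf ∉ Set.range P' := by
    rintro ⟨a, ha⟩
    exact hPinf (ha ▸ hP'mem a)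
  have hy : ∀ (i : ι) (j : Fin (Module.finrank k k')), ∃ y : K,
      (Pl i).1 (y - ρ i j) ≤ 1 ∧ ∀ P : Place k K, P ≠ Pinf → P ≠ Pl i → P.1 y ≤ 1 := by
    intro i j
    obtain ⟨y, hy1, hy2⟩ := strong_approx_le hK Pinf P' hP'inj hinf'
      (fun a => if P' a = Pl i then ρ i j else 0) (fun _ => 0)
    refine ⟨y, ?_, ?_⟩
    · obtain ⟨a, ha⟩ := hP'surj (Pl i) (hPlS i)
      have h1 : (P' a).1 (y - (if P' a = Pl i then ρ i j else 0)) ≤
          WithZero.exp (-(0 : ℤ)) := hy1 a
      rw [if_pos ha, neg_zero, WithZero.exp_zero, ha] at h1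
      exact h1
    · intro P hP1 hP2
      by_cases hPS : P ∈ S
      · obtain ⟨a, ha⟩ := hP'surj P hPS
        have h1 : (P' a).1 (y - (if P' a = Pl i then ρ i j else 0)) ≤
            WithZero.exp (-(0 : ℤ)) := hy1 a
        rw [if_neg (by rw [ha]; exact hP2), sub_zero, neg_zero, WithZero.exp_zero, ha] at h1
        exact h1
      · apply hy2 P hP1
        rintro ⟨a, ha⟩
        exact hPS (ha ▸ hP'mem a)
  choose y hy1 hy2 using hy
  obtain ⟨N₁, hN₁⟩ : ∃ N₁ : ℕ, ∀ i j, Pinf.1 (y i j) ≤ WithZero.exp (N₁ : ℤ) := by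
    obtain ⟨M, hM⟩ := Finset.exists_le
      ((Finset.univ : Finset (ι × Fin (Module.finrank k k'))).image
        fun p => Pinf.1 (y p.1 p.2))
    obtain ⟨N₁, hN₁⟩ := Groth.Agent.Lib.Helper23.FF.exists_nat_le_exp M
    exact ⟨N₁, fun i j =>
      (hM _ (Finset.mem_image_of_mem _ (Finset.mem_univ (i, j)))).trans hN₁⟩
  obtain ⟨z, hz⟩ : ∃ z : ι → K', ∀ i, z i =
      ∑ j, algebraMap k' K' (b j) * algebraMap K K' (y i j) := ⟨fun i => _, fun i => rfl⟩
  have hz1 : ∀ i, z i - r i ∈ Algebra.adjoin ((Pl i).O.toSubring.map (algebraMap K K'))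
      (Set.range (algebraMap k' K')) := by
    intro i
    rw [mem_adjoin_iff (L := K') b (Pl i)]
    refine ⟨fun j => y i j - ρ i j, fun j => hy1 i j, ?_⟩
    rw [hρ i, hz i, ← Finset.sum_sub_distrib]
    refine Finset.sum_congr rfl fun j _ => ?_
    rw [map_sub, mul_sub]
  have hz2 : ∀ i (P : Place k K), P ≠ Pinf → P ≠ Pl i →
      z i ∈ Algebra.adjoin (P.O.toSubring.map (algebraMap K K'))
        (Set.range (algebraMap k' K')) := by
    intro i P hP1 hP2
    rw [mem_adjoin_iff (L := K') b P]
    exact ⟨fun j => y i j, fun j => hy2 i j P hP1 hP2, hz i⟩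
  have hzIC : ∀ i (P : Place k K), P ≠ Pinf → ∀ Q : Place k K', IsOver Q P →
      Q.1 (z i) ≤ 1 := by
    intro i P hP1 Q hQ
    by_cases hP2 : P = Pl i
    · subst hP2
      have h1 : z i - r i ∈ integralClosure ((Pl i).O.toSubring.map (algebraMap K K')) K' :=
        adjoin_le_integralClosure (k₁ := k') (L := K') hK (Pl i) (hz1 i)
      have h2 := (mem_IC_iff (L := K') hK (Pl i) _).mp h1 Q hQ
      have h3 := hr i Q hQ
      have h4 : Q.1 ((z i - r i) + r i) ≤ 1 := (Q.1.map_add _ _).trans (max_le h2 h3)
      rwa [sub_add_cancel] at h4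
    · have h1 := adjoin_le_integralClosure (k₁ := k') (L := K') hK P (hz2 i P hP1 hP2)
      exact (mem_IC_iff (L := K') hK P _).mp h1 Q hQ
  obtain ⟨-, NK, hNK⟩ := riemann hK
  obtain ⟨-, NK', hNK'⟩ := riemann hK'
  obtain ⟨N, hN1, hN2, hN3⟩ : ∃ N : ℕ, N₁ ≤ N ∧ NK ≤ (N : ℤ) ∧ NK' ≤ (N : ℤ) := by
    refine ⟨max N₁ (max NK.toNat NK'.toNat), le_max_left _ _, ?_, ?_⟩
    · have h1 : NK.toNat ≤ max N₁ (max NK.toNat NK'.toNat) :=
        le_trans (le_max_left _ _) (le_max_right _ _)
      have h2 : NK ≤ (NK.toNat : ℤ) := Int.self_le_toNat NK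
      exact h2.trans (by exact_mod_cast h1)
    · have h1 : NK'.toNat ≤ max N₁ (max NK.toNat NK'.toNat) :=
        le_trans (le_max_right _ _) (le_max_right _ _)
      have h2 : NK' ≤ (NK'.toNat : ℤ) := Int.self_le_toNat NK'
      exact h2.trans (by exact_mod_cast h1)
  have hdegP : (1 : ℤ) ≤ (Pinf.deg : ℤ) := by exact_mod_cast one_le_deg' hK Pinf
  have hNdeg : (N : ℤ) ≤ (N : ℤ) * Pinf.deg :=
    le_mul_of_one_le_right (Int.natCast_nonneg N) hdegP
  obtain ⟨D, hD⟩ : ∃ D : Divisor k K, D = Finsupp.single Pinf (N : ℤ) := ⟨_, rfl⟩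
  obtain ⟨D', hD'⟩ : ∃ D' : Divisor k' K', D' = (N : ℤ) • conDiv (k' := k') Pinf hfin :=
    ⟨_, rfl⟩
  have hDinf : D Pinf = N := by rw [hD, Finsupp.single_eq_same]
  have hDne : ∀ P : Place k K, P ≠ Pinf → D P = 0 := by
    intro P hP
    rw [hD, Finsupp.single_apply, if_neg (Ne.symm hP)]
  have hdegD : D.deg = (N : ℤ) * Pinf.deg := by rw [hD, deg_single]
  have hdegD' : D'.deg = (N : ℤ) * Pinf.deg := by
    rw [hD', Groth.Agent.Lib.Helper23.FF.deg_zsmul, deg_conDiv h hK Pinf hfin]
  have hg := hNK D (by rw [hdegD]; linarith)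
  have hg' := hNK' D' (by rw [hdegD']; linarith)
  haveI : FiniteDimensional k (L D) := finiteDimensional_L hK D
  haveI : FiniteDimensional k' (L D') := finiteDimensional_L hK' D'
  let β := Module.finBasis k (L D)
  have hβli : LinearIndependent k (fun μ => ((β μ : L D) : K)) :=
    β.linearIndependent.map' (L D).subtype (Submodule.ker_subtype _)
  have hβ'li := linearIndependent_algebraMap (k' := k') (K' := K') h.1 hβli
  have hβval : ∀ μ (P : Place k K), P.1 ((β μ : L D) : K) ≤ WithZero.exp (D P) :=
    fun μ P => (β μ).2 P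
  obtain ⟨v, hv⟩ : ∃ v : Fin (Module.finrank k (L D)) ⊕ ι → K',
      v = Sum.elim (fun μ => algebraMap K K' ((β μ : L D) : K)) z := ⟨_, rfl⟩
  have hvmem : ∀ x, v x ∈ L D' := by
    intro x
    rw [hD', mem_L_conDiv_iff hK hfin N, hv]
    rcases x with μ | i
    · refine ⟨fun Q e he => ?_, fun P Q e hP he => ?_⟩
      · show Q.1 (algebraMap K K' ((β μ : L D) : K)) ≤ _
        rw [he _, ← exp_pow_eq]
        apply pow_le_pow_left₀ zero_le
        have h1 := hβval μ Pinf
        rwa [hDinf] at h1
      · show Q.1 (algebraMap K K' ((β μ : L D) : K)) ≤ _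
        rw [he _]
        apply pow_le_one₀ zero_le
        have h1 := hβval μ P
        rwa [hDne P hP, WithZero.exp_zero] at h1
    · refine ⟨fun Q e he => ?_, fun P Q e hP he => hzIC i P hP Q ⟨e, he⟩⟩
      show Q.1 (z i) ≤ _
      rw [hz i, ← exp_pow_eq]
      refine (val_sum_le (fun j => b j) (fun j => y i j) he (WithZero.exp (N₁ : ℤ))
        (fun j => hN₁ i j)).trans ?_
      apply pow_le_pow_left₀ zero_le
      rw [WithZero.exp_le_exp]
      exact_mod_cast hN1
  have hvli : LinearIndependent k' v := by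
    rw [Fintype.linearIndependent_iff]
    intro g hg0
    rw [Fintype.sum_sum_type, hv] at hg0
    have hg0' : ∑ μ, g (Sum.inl μ) • algebraMap K K' ((β μ : L D) : K) +
        ∑ i, g (Sum.inr i) • z i = 0 := hg0
    have hd : ∀ i, g (Sum.inr i) = 0 := by
      apply hind (fun i => g (Sum.inr i))
      intro P
      by_cases hP : P = Pinf
      · have h0 : ∀ i, (if Pl i = P then algebraMap k' K' (g (Sum.inr i)) * r i else 0) = 0 := by
          intro i
          rw [if_neg]
          rw [hP]; exact hPl_ne i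
        rw [Finset.sum_congr rfl (fun i _ => h0 i), Finset.sum_const_zero]
        exact Subalgebra.zero_mem _
      · obtain ⟨A, hA⟩ : ∃ A : Subalgebra (P.O.toSubring.map (algebraMap K K')) K',
            A = Algebra.adjoin (P.O.toSubring.map (algebraMap K K'))
              (Set.range (algebraMap k' K')) := ⟨_, rfl⟩
        rw [← hA]
        have hkA : ∀ c : k', algebraMap k' K' c ∈ A := fun c => by
          rw [hA]; exact Algebra.subset_adjoin ⟨c, rfl⟩
        have hterm : ∀ i, (if Pl i = P then algebraMap k' K' (g (Sum.inr i)) * r i else 0) -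
            algebraMap k' K' (g (Sum.inr i)) * z i ∈ A := by
          intro i
          by_cases hi : Pl i = P
          · rw [if_pos hi, ← mul_sub]
            refine Subalgebra.mul_mem _ (hkA _) ?_
            have h1 : z i - r i ∈ A := by
              rw [hA, ← hi]; exact hz1 i
            have h2 : r i - z i = -(z i - r i) := by ring
            rw [h2]
            exact Subalgebra.neg_mem _ h1
          · rw [if_neg hi, zero_sub]
            refine Subalgebra.neg_mem _ (Subalgebra.mul_mem _ (hkA _) ?_)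
            rw [hA]
            exact hz2 i P hP (Ne.symm hi)
        have hβA : ∀ μ, algebraMap k' K' (g (Sum.inl μ)) *
            algebraMap K K' ((β μ : L D) : K) ∈ A := by
          intro μ
          refine Subalgebra.mul_mem _ (hkA _) ?_
          rw [hA]
          refine algebraMap_mem_adjoin P _ ?_
          have h1 := hβval μ P
          rwa [hDne P hP, WithZero.exp_zero] at h1
        have h0 : ∑ μ, algebraMap k' K' (g (Sum.inl μ)) * algebraMap K K' ((β μ : L D) : K) +
            ∑ i, algebraMap k' K' (g (Sum.inr i)) * z i = 0 := by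
          simpa only [Algebra.smul_def] using hg0'
        have hsum : (∑ i, if Pl i = P then algebraMap k' K' (g (Sum.inr i)) * r i else 0) =
            ∑ i, ((if Pl i = P then algebraMap k' K' (g (Sum.inr i)) * r i else 0) -
              algebraMap k' K' (g (Sum.inr i)) * z i) -
            ∑ μ, algebraMap k' K' (g (Sum.inl μ)) * algebraMap K K' ((β μ : L D) : K) := by
          rw [Finset.sum_sub_distrib]
          linear_combination h0
        rw [hsum]
        exact Subalgebra.sub_mem _ (Subalgebra.sum_mem _ fun i _ => hterm i)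
          (Subalgebra.sum_mem _ fun μ _ => hβA μ)
    have hc : ∀ μ, g (Sum.inl μ) = 0 := by
      have h2 : ∑ i, g (Sum.inr i) • z i = 0 :=
        Finset.sum_eq_zero fun i _ => by rw [hd i, zero_smul]
      rw [h2, add_zero] at hg0'
      exact Fintype.linearIndependent_iff.mp hβ'li _ hg0'
    rintro (μ | i)
    · exact hc μ
    · exact hd i
  have hcard : Module.finrank k (L D) + Fintype.card ι ≤ Module.finrank k' (L D') := by
    have h1 : Module.finrank k' (Submodule.span k' (Set.range v)) =
        Fintype.card (Fin (Module.finrank k (L D)) ⊕ ι) := finrank_span_eq_card hvli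
    rw [Fintype.card_sum, Fintype.card_fin] at h1
    rw [← h1]
    apply Submodule.finrank_mono
    rw [Submodule.span_le]
    rintro _ ⟨x, rfl⟩
    exact hvmem x
  have hell : (ell D : ℤ) + Fintype.card ι ≤ ell D' := by
    show ((Module.finrank k (L D) : ℕ) : ℤ) + _ ≤ ((Module.finrank k' (L D') : ℕ) : ℤ)
    exact_mod_cast hcard
  linarith

/-- if all places are nonsingular with respect to `k'`, the genus does not drop. -/
theorem genus_le_of_forall_ns
    (h : Function.Bijective (Algebra.TensorProduct.productMap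
      (IsScalarTower.toAlgHom k k' K') (IsScalarTower.toAlgHom k K K')))
    (hK : IsFunctionField k K) (hK' : IsFunctionField k' K')
    (hns : ∀ P : Place k K, integralClosure (P.O.toSubring.map (algebraMap K K')) K' =
      Algebra.adjoin (P.O.toSubring.map (algebraMap K K')) (Set.range (algebraMap k' K'))) :
    genus k K ≤ genus k' K' := by
  classical
  haveI : FiniteDimensional K K' := Geo.finiteDimensional_of_bijective h
  haveI : Infinite (Place k K) := Groth.Agent.Lib.Helper23.SepPl.infinite_place_general hK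
  let b := Module.finBasis k k'
  obtain ⟨Pinf⟩ : Nonempty (Place k K) := inferInstance
  obtain ⟨hfin, -⟩ := sum_ramIdx_mul_deg (K' := K') hK Pinf
  obtain ⟨-, NK, hNK⟩ := riemann hK
  obtain ⟨-, NK', hNK'⟩ := riemann hK'
  obtain ⟨N, hN2, hN3⟩ : ∃ N : ℕ, NK ≤ (N : ℤ) ∧ NK' ≤ (N : ℤ) := by
    refine ⟨max NK.toNat NK'.toNat, ?_, ?_⟩
    · have h1 : NK.toNat ≤ max NK.toNat NK'.toNat := le_max_left _ _
      have h2 : NK ≤ (NK.toNat : ℤ) := Int.self_le_toNat NK
      exact h2.trans (by exact_mod_cast h1)
    · have h1 : NK'.toNat ≤ max NK.toNat NK'.toNat := le_max_right _ _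
      have h2 : NK' ≤ (NK'.toNat : ℤ) := Int.self_le_toNat NK'
      exact h2.trans (by exact_mod_cast h1)
  have hdegP : (1 : ℤ) ≤ (Pinf.deg : ℤ) := by exact_mod_cast one_le_deg' hK Pinf
  have hNdeg : (N : ℤ) ≤ (N : ℤ) * Pinf.deg :=
    le_mul_of_one_le_right (Int.natCast_nonneg N) hdegP
  obtain ⟨D, hD⟩ : ∃ D : Divisor k K, D = Finsupp.single Pinf (N : ℤ) := ⟨_, rfl⟩
  obtain ⟨D', hD'⟩ : ∃ D' : Divisor k' K', D' = (N : ℤ) • conDiv (k' := k') Pinf hfin :=
    ⟨_, rfl⟩
  have hDinf : D Pinf = N := by rw [hD, Finsupp.single_eq_same]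
  have hDne : ∀ P : Place k K, P ≠ Pinf → D P = 0 := by
    intro P hP
    rw [hD, Finsupp.single_apply, if_neg (Ne.symm hP)]
  have hdegD : D.deg = (N : ℤ) * Pinf.deg := by rw [hD, deg_single]
  have hdegD' : D'.deg = (N : ℤ) * Pinf.deg := by
    rw [hD', Groth.Agent.Lib.Helper23.FF.deg_zsmul, deg_conDiv h hK Pinf hfin]
  have hg := hNK D (by rw [hdegD]; linarith)
  have hg' := hNK' D' (by rw [hdegD']; linarith)
  haveI : FiniteDimensional k (L D) := finiteDimensional_L hK D
  haveI : FiniteDimensional k' (L D') := finiteDimensional_L hK' D'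
  let β := Module.finBasis k (L D)
  have hkey : L D' ≤ Submodule.span k'
      (Set.range fun μ => algebraMap K K' ((β μ : L D) : K)) := by
    intro z hz
    rw [hD', mem_L_conDiv_iff hK hfin N] at hz
    obtain ⟨hza, hzb⟩ := hz
    obtain ⟨f, hf⟩ := exists_coeff (k := k) (K := K) h.2 b z
    have hfL : ∀ j, f j ∈ L D := by
      intro j
      show ∀ P : Place k K, P.1 (f j) ≤ WithZero.exp (D P)
      intro P
      obtain ⟨u, hu0, hu⟩ := exists_val_eq_exp P (-(D P))
      have hw : ∀ Q : Place k K', IsOver Q P → Q.1 (algebraMap K K' u * z) ≤ 1 := by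
        rintro Q ⟨e, he⟩
        rw [map_mul, he u, hu]
        by_cases hP : P = Pinf
        · have he' : IsOverWith Q Pinf e := hP ▸ he
          have hDP : D P = N := by rw [hP]; exact hDinf
          have h1 := hza Q e he'
          rw [hDP, exp_pow_eq]
          calc WithZero.exp (-(N : ℤ) * e) * Q.1 z
              ≤ WithZero.exp (-(N : ℤ) * e) * WithZero.exp ((N : ℤ) * e) :=
                mul_le_mul' le_rfl h1
            _ = 1 := by
                rw [← WithZero.exp_add]
                have h2 : (-(N : ℤ) * e + (N : ℤ) * e) = 0 := by ring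
                rw [h2, WithZero.exp_zero]
        · have h1 := hzb P Q e hP he
          rw [hDne P hP, neg_zero, WithZero.exp_zero, one_pow, one_mul]
          exact h1
      obtain ⟨a, ha, hwa⟩ := (ns_iff hK b P).mp (hns P) _ hw
      have hw2 : algebraMap K K' u * z =
          ∑ j, algebraMap k' K' (b j) * algebraMap K K' (u * f j) := by
        rw [hf, Finset.mul_sum]
        refine Finset.sum_congr rfl fun j _ => ?_
        rw [map_mul]
        ring
      have h2 : u * f j = a j :=
        coeff_unique (k := k) (K := K) h.1 b (fun j => u * f j) a (hw2.symm.trans hwa) j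
      have h3 : P.1 (f j) = P.1 (a j) * WithZero.exp (D P) := by
        have h4 : f j = a j * u⁻¹ := by
          rw [← h2, mul_comm u, mul_assoc, mul_inv_cancel₀ hu0, mul_one]
        rw [h4, map_mul, map_inv₀, hu, ← WithZero.exp_neg, neg_neg]
      rw [h3]
      calc P.1 (a j) * WithZero.exp (D P) ≤ 1 * WithZero.exp (D P) :=
            mul_le_mul' (ha j) le_rfl
        _ = _ := one_mul _
    rw [hf]
    refine Submodule.sum_mem _ fun j _ => ?_
    rw [← Algebra.smul_def]
    refine Submodule.smul_mem _ _ ?_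
    have hrep := β.sum_repr ⟨f j, hfL j⟩
    have h4 : f j = ∑ μ, β.repr ⟨f j, hfL j⟩ μ • ((β μ : L D) : K) := by
      have h5 := congrArg (L D).subtype hrep
      rw [map_sum] at h5
      simp only [map_smul, Submodule.subtype_apply] at h5
      exact h5.symm
    rw [h4, map_sum]
    refine Submodule.sum_mem _ fun μ _ => ?_
    have h5 : algebraMap K K' (β.repr ⟨f j, hfL j⟩ μ • ((β μ : L D) : K)) =
        algebraMap k k' (β.repr ⟨f j, hfL j⟩ μ) • algebraMap K K' ((β μ : L D) : K) := by
      rw [Algebra.smul_def, Algebra.smul_def, map_mul, ← IsScalarTower.algebraMap_apply k K K',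
        ← IsScalarTower.algebraMap_apply k k' K']
    rw [h5]
    exact Submodule.smul_mem _ _ (Submodule.subset_span ⟨μ, rfl⟩)
  have hcard : Module.finrank k' (L D') ≤ Module.finrank k (L D) := by
    haveI : FiniteDimensional k' (Submodule.span k'
        (Set.range fun μ => algebraMap K K' ((β μ : L D) : K))) :=
      FiniteDimensional.span_of_finite k' (Set.finite_range _)
    refine (Submodule.finrank_mono hkey).trans ?_
    exact (finrank_range_le_card (R := k')
      (fun μ => algebraMap K K' ((β μ : L D) : K))).trans_eq (Fintype.card_fin _)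
  have hell : (ell D' : ℤ) ≤ ell D := by
    show ((Module.finrank k' (L D') : ℕ) : ℤ) ≤ ((Module.finrank k (L D) : ℕ) : ℤ)
    exact_mod_cast hcard
  have hfinal : (genus k K : ℤ) ≤ genus k' K' := by linarith
  exact_mod_cast hfinal

theorem genus_le
    (h : Function.Bijective (Algebra.TensorProduct.productMap
      (IsScalarTower.toAlgHom k k' K') (IsScalarTower.toAlgHom k K K')))
    (hK : IsFunctionField k K) (hK' : IsFunctionField k' K') :
    genus k' K' ≤ genus k K := by
  classical
  have h1 := genus_add_card_le h hK hK' (ι := Fin 0) (fun i => i.elim0) (fun i => i.elim0)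
    (fun i => i.elim0) (fun d _ i => i.elim0)
  simp only [Fintype.card_fin, Nat.cast_zero, add_zero] at h1
  exact_mod_cast h1

/-- every finite set of singular places drops the genus by at least its cardinality. -/
theorem genus_add_card_le_of_not_ns
    (h : Function.Bijective (Algebra.TensorProduct.productMap
      (IsScalarTower.toAlgHom k k' K') (IsScalarTower.toAlgHom k K K')))
    (hK : IsFunctionField k K) (hK' : IsFunctionField k' K') (S : Finset (Place k K))
    (hS : ∀ P ∈ S, integralClosure (P.O.toSubring.map (algebraMap K K')) K' ≠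
      Algebra.adjoin (P.O.toSubring.map (algebraMap K K')) (Set.range (algebraMap k' K'))) :
    genus k' K' + S.card ≤ genus k K := by
  classical
  haveI : FiniteDimensional K K' := Geo.finiteDimensional_of_bijective h
  have hex : ∀ P ∈ S, ∃ r : K', (∀ Q : Place k K', IsOver Q P → Q.1 r ≤ 1) ∧
      r ∉ Algebra.adjoin (P.O.toSubring.map (algebraMap K K'))
        (Set.range (algebraMap k' K')) := by
    intro P hP
    by_contra hcon
    push Not at hcon
    apply hS P hP
    apply le_antisymm
    · intro z hz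
      exact hcon z ((mem_IC_iff (L := K') hK P z).mp hz)
    · exact adjoin_le_integralClosure (k₁ := k') (L := K') hK P
  choose! r hr1 hr2 using hex
  have h1 := genus_add_card_le h hK hK' (ι := ↥S) (fun i => (i : Place k K))
    (fun i => r (i : Place k K)) (fun i => hr1 i i.2) ?_
  · rw [Fintype.card_coe] at h1
    exact_mod_cast h1
  · intro d hd i
    have h2 := hd (i : Place k K)
    have h3 : (∑ i' : ↥S, if (i' : Place k K) = (i : Place k K) then
        algebraMap k' K' (d i') * r (i' : Place k K) else 0) =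
        algebraMap k' K' (d i) * r (i : Place k K) := by
      rw [Finset.sum_eq_single i]
      · rw [if_pos rfl]
      · intro i' _ hne
        rw [if_neg]
        intro h'
        exact hne (Subtype.ext h')
      · intro hnot
        exact absurd (Finset.mem_univ i) hnot
    rw [h3] at h2
    by_contra hdi
    apply hr2 i i.2
    have h4 : r (i : Place k K) = algebraMap k' K' (d i)⁻¹ *
        (algebraMap k' K' (d i) * r (i : Place k K)) := by
      rw [← mul_assoc, ← map_mul, inv_mul_cancel₀ hdi, map_one, one_mul]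
    rw [h4]
    exact Subalgebra.mul_mem _ (Algebra.subset_adjoin ⟨_, rfl⟩) h2

end Groth.Agent.Lib.Helper23.GD
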