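import Mathlib
import Groth.Agent.Lib.Helper23.GD2

/-! Constant field extensions: the concrete model `k' ⊗[k] K` as a field, towers of models. -/

set_option autoImplicit false

namespace Groth.Agent.Lib.Helper23.CExt

open FunFld TensorProduct
open Groth.Agent.Lib.Helper27
open Groth.Agent.Lib.Helper23.TowerNS

universe u v

section Towers

variable {k k' k'' : Type u} {K K' K'' : Type v} [Field k] [Field k'] [Field k''] [Field K]
    [Field K'] [Field K'']
    [Algebra k k'] [Algebra k' k''] [Algebra k k''] [IsScalarTower k k' k'']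
    [FiniteDimensional k k'] [FiniteDimensional k' k'']
    [Algebra k K] [Algebra K K'] [Algebra k' K'] [Algebra k K'] [IsScalarTower k k' K']
    [IsScalarTower k K K']
    [Algebra K' K''] [Algebra k'' K''] [Algebra k' K''] [Algebra k K''] [Algebra K K'']
    [IsScalarTower k' k'' K''] [IsScalarTower k' K' K''] [IsScalarTower K K' K'']
    [IsScalarTower k K K'']

/-- a ring hom out of a ring that is a field (`IsField`) is injective. -/
theorem injective_of_isField {A B : Type*} [CommRing A] [CommRing B] [Nontrivial B]
    (hA : IsField A) (f : A →+* B) : Function.Injective f := by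
  rw [injective_iff_map_eq_zero]
  intro x hx
  by_contra hx0
  obtain ⟨y, hy⟩ := hA.mul_inv_cancel hx0
  have h1 := congrArg f hy
  rw [map_mul, hx, zero_mul, map_one] at h1
  exact zero_ne_one h1

/-- the top of a tower of models is a model over the bottom. -/
theorem bijective_top [IsScalarTower k k'' K'']
    (h1 : Function.Bijective (Algebra.TensorProduct.productMap
      (IsScalarTower.toAlgHom k k' K') (IsScalarTower.toAlgHom k K K')))
    (h2 : Function.Bijective (Algebra.TensorProduct.productMap
      (IsScalarTower.toAlgHom k' k'' K'') (IsScalarTower.toAlgHom k' K' K'')))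
    (hg : IsGeometric k K) :
    Function.Bijective (Algebra.TensorProduct.productMap
      (IsScalarTower.toAlgHom k k'' K'') (IsScalarTower.toAlgHom k K K'')) := by
  haveI : FiniteDimensional k k'' := FiniteDimensional.trans k k' k''
  constructor
  · have hF : IsField (k'' ⊗[k] K) := hg k'' inferInstance
    exact injective_of_isField hF
      ((Algebra.TensorProduct.productMap (IsScalarTower.toAlgHom k k'' K'')
        (IsScalarTower.toAlgHom k K K'')) : k'' ⊗[k] K →+* K'')
  · intro z
    obtain ⟨t₂, rfl⟩ := h2.2 z
    induction t₂ using TensorProduct.induction_on with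
    | zero => exact ⟨0, by rw [map_zero, map_zero]⟩
    | tmul c y =>
      obtain ⟨t₁, rfl⟩ := h1.2 y
      induction t₁ using TensorProduct.induction_on with
      | zero => exact ⟨0, by simp⟩
      | tmul c' x =>
        refine ⟨(c * algebraMap k' k'' c') ⊗ₜ[k] x, ?_⟩
        simp only [Algebra.TensorProduct.productMap_apply_tmul, IsScalarTower.coe_toAlgHom',
          map_mul]
        rw [← IsScalarTower.algebraMap_apply k' k'' K'', ← IsScalarTower.algebraMap_apply K K' K'',
          ← IsScalarTower.algebraMap_apply k' K' K'']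
        ring
      | add a b ha hb =>
        obtain ⟨ta, hta⟩ := ha
        obtain ⟨tb, htb⟩ := hb
        refine ⟨ta + tb, ?_⟩
        simp only [map_add, TensorProduct.tmul_add, hta, htb]
    | add a b ha hb =>
      obtain ⟨ta, hta⟩ := ha
      obtain ⟨tb, htb⟩ := hb
      exact ⟨ta + tb, by rw [map_add, hta, htb, map_add]⟩

/-- if the top is a model over the bottom, it is a model over the middle. -/
theorem bijective_mid
    (h1 : Function.Bijective (Algebra.TensorProduct.productMap
      (IsScalarTower.toAlgHom k k' K') (IsScalarTower.toAlgHom k K K')))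
    [IsScalarTower k k'' K'']
    (hsurj : Function.Surjective (Algebra.TensorProduct.productMap
      (IsScalarTower.toAlgHom k k'' K'') (IsScalarTower.toAlgHom k K K'')))
    (hg : IsGeometric k K) :
    Function.Bijective (Algebra.TensorProduct.productMap
      (IsScalarTower.toAlgHom k' k'' K'') (IsScalarTower.toAlgHom k' K' K'')) := by
  constructor
  · have hF : IsField (k'' ⊗[k'] K') := Geo.isGeometric_constExt h1 hg k'' inferInstance
    exact injective_of_isField hF
      ((Algebra.TensorProduct.productMap (IsScalarTower.toAlgHom k' k'' K'')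
        (IsScalarTower.toAlgHom k' K' K'')) : k'' ⊗[k'] K' →+* K'')
  · intro z
    obtain ⟨t, rfl⟩ := hsurj z
    induction t using TensorProduct.induction_on with
    | zero => exact ⟨0, by rw [map_zero, map_zero]⟩
    | tmul c x =>
      refine ⟨c ⊗ₜ[k'] algebraMap K K' x, ?_⟩
      simp only [Algebra.TensorProduct.productMap_apply_tmul, IsScalarTower.coe_toAlgHom']
      rw [← IsScalarTower.algebraMap_apply K K' K'']
    | add a b ha hb =>
      obtain ⟨ta, hta⟩ := ha
      obtain ⟨tb, htb⟩ := hb
      exact ⟨ta + tb, by rw [map_add, hta, htb, map_add]⟩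

end Towers

section Transport

theorem range_algebraMap_subring {C : Type*} [CommRing C] (T : Subring C) :
    Set.range (algebraMap T C) = (T : Set C) := by
  ext x
  constructor
  · rintro ⟨y, rfl⟩
    exact y.2
  · intro hx
    exact ⟨⟨x, hx⟩, rfl⟩

/-- transport of the nonsingularity condition along a ring isomorphism. -/
theorem transport_ns {A B : Type*} [CommRing A] [CommRing B] (e : A ≃+* B) (S : Subring A)
    (X : Set A) (S' : Subring B) (X' : Set B) (hS : S' = S.map (e : A →+* B))
    (hX : X' = e '' X) (h : integralClosure S' B = Algebra.adjoin S' X') :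
    integralClosure S A = Algebra.adjoin S X := by
  subst hS hX
  have hIC : ∀ a : A, a ∈ integralClosure S A ↔
      e a ∈ integralClosure (S.map (e : A →+* B)) B := by
    intro a
    constructor
    · intro ha
      have ha' : IsIntegral S a := ha
      exact IsIntegral.map_of_comp_eq
        ((e : A →+* B).restrict S (S.map (e : A →+* B))
          (fun x hx => Subring.mem_map.mpr ⟨x, hx, rfl⟩))
        (e : A →+* B) (RingHom.ext fun _ => rfl) ha'
    · intro hb
      have hb' : IsIntegral (S.map (e : A →+* B)) (e a) := hb
      have h1 := IsIntegral.map_of_comp_eq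
        ((e.symm : B →+* A).restrict (S.map (e : A →+* B)) S (fun y hy => by
          obtain ⟨x, hx, rfl⟩ := Subring.mem_map.mp hy
          show e.symm (e x) ∈ S
          rw [e.symm_apply_apply]
          exact hx))
        (e.symm : B →+* A) (RingHom.ext fun _ => rfl) hb'
      have h2 : (e.symm : B →+* A) (e a) = a := e.symm_apply_apply a
      rw [h2] at h1
      exact h1
  have hadj : ∀ a : A, a ∈ Algebra.adjoin S X ↔
      e a ∈ Algebra.adjoin (S.map (e : A →+* B)) (e '' X) := by
    intro a
    have hset : ((S.map (e : A →+* B) : Subring B) : Set B) ∪ e '' X =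
        (e : A →+* B) '' ((S : Set A) ∪ X) := by
      rw [Set.image_union, Subring.coe_map]
      rfl
    rw [← Subalgebra.mem_toSubring, ← Subalgebra.mem_toSubring, Algebra.adjoin_eq_ring_closure,
      Algebra.adjoin_eq_ring_closure, range_algebraMap_subring, range_algebraMap_subring, hset,
      ← RingHom.map_closure]
    constructor
    · intro ha
      exact Subring.mem_map.mpr ⟨a, ha, rfl⟩
    · intro hb
      obtain ⟨x, hx, hxa⟩ := Subring.mem_map.mp hb
      have : x = a := e.injective hxa
      rw [← this]
      exact hx
  ext a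
  rw [hIC, hadj, h]

end Transport

section CEdef

variable (k k' : Type u) (K : Type v) [Field k] [Field k'] [Field K] [Algebra k k'] [Algebra k K]

theorem small_tensor [FiniteDimensional k k'] : Small.{v} (k' ⊗[k] K) :=
  Small.mk' (TensorProduct.equivFinsuppOfBasisLeft (Module.finBasis k k') (N := K)).toEquiv

/-- a model of `k' ⊗[k] K` in the universe of `K`: a field when `K/k` is geometric and `k'/k`
is finite. -/
def CE (_hg : IsGeometric k K) (_hfd : FiniteDimensional k k') : Type v :=
  haveI := small_tensor k k' K
  Shrink.{v} (k' ⊗[k] K)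

variable {k k' K}
variable (hg : IsGeometric k K) (hfd : FiniteDimensional k k')

/-- the bijection with the tensor product. -/
noncomputable def CE.equiv : CE k k' K hg hfd ≃ k' ⊗[k] K :=
  haveI := small_tensor k k' K
  (equivShrink.{v} (k' ⊗[k] K)).symm

noncomputable instance CE.instField : Field (CE k k' K hg hfd) :=
  letI : Field (k' ⊗[k] K) := (hg k' hfd).toField
  (CE.equiv hg hfd).field

/-- the ring isomorphism with the tensor product. -/
noncomputable def CE.ringEquiv : CE k k' K hg hfd ≃+* k' ⊗[k] K :=
  { CE.equiv hg hfd with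
    map_mul' := fun _ _ => (CE.equiv hg hfd).apply_symm_apply _
    map_add' := fun _ _ => (CE.equiv hg hfd).apply_symm_apply _ }

/-- the inclusion of `k'`. -/
noncomputable def CE.inl : k' →+* CE k k' K hg hfd :=
  ((CE.ringEquiv hg hfd).symm : k' ⊗[k] K →+* CE k k' K hg hfd).comp
    (Algebra.TensorProduct.includeLeftRingHom : k' →+* k' ⊗[k] K)

/-- the inclusion of `K`. -/
noncomputable def CE.inr : K →+* CE k k' K hg hfd :=
  ((CE.ringEquiv hg hfd).symm : k' ⊗[k] K →+* CE k k' K hg hfd).comp
    ((Algebra.TensorProduct.includeRight : K →ₐ[k] k' ⊗[k] K) : K →+* k' ⊗[k] K)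

noncomputable instance CE.algL : Algebra k' (CE k k' K hg hfd) := (CE.inl hg hfd).toAlgebra

noncomputable instance CE.algR : Algebra K (CE k k' K hg hfd) := (CE.inr hg hfd).toAlgebra

noncomputable instance CE.algB : Algebra k (CE k k' K hg hfd) :=
  ((CE.inl hg hfd).comp (algebraMap k k')).toAlgebra

instance CE.tower1 : IsScalarTower k k' (CE k k' K hg hfd) :=
  IsScalarTower.of_algebraMap_eq (fun _ => rfl)

instance CE.tower2 : IsScalarTower k K (CE k k' K hg hfd) :=
  IsScalarTower.of_algebraMap_eq (fun c => by
    show (CE.ringEquiv hg hfd).symm ((algebraMap k k' c) ⊗ₜ[k] (1 : K)) =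
      (CE.ringEquiv hg hfd).symm ((1 : k') ⊗ₜ[k] (algebraMap k K c))
    rw [Algebra.algebraMap_eq_smul_one, Algebra.algebraMap_eq_smul_one, TensorProduct.smul_tmul])

theorem CE.algebraMap_left (c : k') :
    algebraMap k' (CE k k' K hg hfd) c = (CE.ringEquiv hg hfd).symm (c ⊗ₜ[k] (1 : K)) := rfl

theorem CE.algebraMap_right (x : K) :
    algebraMap K (CE k k' K hg hfd) x = (CE.ringEquiv hg hfd).symm ((1 : k') ⊗ₜ[k] x) := rfl

theorem CE.productMap_apply (t : k' ⊗[k] K) :
    Algebra.TensorProduct.productMap (IsScalarTower.toAlgHom k k' (CE k k' K hg hfd))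
      (IsScalarTower.toAlgHom k K (CE k k' K hg hfd)) t = (CE.ringEquiv hg hfd).symm t := by
  induction t using TensorProduct.induction_on with
  | zero => rw [map_zero, map_zero]
  | tmul c x =>
    rw [Algebra.TensorProduct.productMap_apply_tmul]
    show algebraMap k' (CE k k' K hg hfd) c * algebraMap K (CE k k' K hg hfd) x = _
    rw [CE.algebraMap_left, CE.algebraMap_right, ← map_mul,
      Algebra.TensorProduct.tmul_mul_tmul, mul_one, one_mul]
  | add a b ha hb => rw [map_add, ha, hb, map_add]

theorem CE.bijective :
    Function.Bijective (Algebra.TensorProduct.productMap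
      (IsScalarTower.toAlgHom k k' (CE k k' K hg hfd))
      (IsScalarTower.toAlgHom k K (CE k k' K hg hfd))) := by
  have h : ⇑(Algebra.TensorProduct.productMap
      (IsScalarTower.toAlgHom k k' (CE k k' K hg hfd))
      (IsScalarTower.toAlgHom k K (CE k k' K hg hfd))) = ⇑(CE.ringEquiv hg hfd).symm :=
    funext (CE.productMap_apply hg hfd)
  rw [h]
  exact (CE.ringEquiv hg hfd).symm.bijective

end CEdef

section Lift

variable {k k' : Type u} {K K'' : Type v} [Field k] [Field k'] [Field K] [Field K'']
  [Algebra k k'] [Algebra k K] [Algebra k' K''] [Algebra K K''] [Algebra k K'']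
  [IsScalarTower k k' K''] [IsScalarTower k K K'']
  (hg : IsGeometric k K) (hfd : FiniteDimensional k k')

/-- the canonical map from the concrete model to any field containing `k'` and `K`. -/
noncomputable def CE.lift : CE k k' K hg hfd →+* K'' :=
  ((Algebra.TensorProduct.productMap (IsScalarTower.toAlgHom k k' K'')
    (IsScalarTower.toAlgHom k K K'') : k' ⊗[k] K →ₐ[k] K'') : k' ⊗[k] K →+* K'').comp
    ((CE.ringEquiv hg hfd : CE k k' K hg hfd ≃+* k' ⊗[k] K) : CE k k' K hg hfd →+* k' ⊗[k] K)

theorem CE.lift_inl (c : k') :
    CE.lift (K'' := K'') hg hfd (algebraMap k' (CE k k' K hg hfd) c) = algebraMap k' K'' c := by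
  show Algebra.TensorProduct.productMap (IsScalarTower.toAlgHom k k' K'')
    (IsScalarTower.toAlgHom k K K'')
    ((CE.ringEquiv hg hfd) ((CE.ringEquiv hg hfd).symm (c ⊗ₜ[k] (1 : K)))) = _
  rw [RingEquiv.apply_symm_apply, Algebra.TensorProduct.productMap_apply_tmul, map_one, mul_one]
  rfl

theorem CE.lift_inr (x : K) :
    CE.lift (K'' := K'') hg hfd (algebraMap K (CE k k' K hg hfd) x) = algebraMap K K'' x := by
  show Algebra.TensorProduct.productMap (IsScalarTower.toAlgHom k k' K'')
    (IsScalarTower.toAlgHom k K K'')
    ((CE.ringEquiv hg hfd) ((CE.ringEquiv hg hfd).symm ((1 : k') ⊗ₜ[k] x))) = _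
  rw [RingEquiv.apply_symm_apply, Algebra.TensorProduct.productMap_apply_tmul, map_one, one_mul]
  rfl

end Lift

end Groth.Agent.Lib.Helper23.CExt
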