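import Mathlib
import Groth.Agent.Lib.Helper23.CExt

/-! Singular places of a geometric function field: finiteness. -/

set_option autoImplicit false

namespace Groth.Agent.Lib.Helper23.CExt

open FunFld TensorProduct
open Groth.Agent.Lib.Helper27
open Groth.Agent.Lib.Helper23.TowerNS

universe u v

section Hom

variable {k k' k'' : Type u} {K : Type v} [Field k] [Field k'] [Field k''] [Field K]
  [Algebra k k'] [Algebra k k''] [Algebra k K]

/-- nonsingularity of `P` with respect to `k'`, in the concrete model. -/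
def NSce (hg : IsGeometric k K) (hfd : FiniteDimensional k k') (P : Place k K) : Prop :=
  integralClosure (P.O.toSubring.map (algebraMap K (CE k k' K hg hfd))) (CE k k' K hg hfd) =
    Algebra.adjoin (P.O.toSubring.map (algebraMap K (CE k k' K hg hfd)))
      (Set.range (algebraMap k' (CE k k' K hg hfd)))

theorem ns_bridge (hg : IsGeometric k K) (hfd : FiniteDimensional k k') (P : Place k K)
    (h : NSce hg hfd P) :
    integralClosure (P.O.toSubring.map
        (Algebra.TensorProduct.includeRight : K →ₐ[k] k' ⊗[k] K).toRingHom) (k' ⊗[k] K) =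
      Algebra.adjoin (P.O.toSubring.map
        (Algebra.TensorProduct.includeRight : K →ₐ[k] k' ⊗[k] K).toRingHom)
        (Set.range (Algebra.TensorProduct.includeLeftRingHom : k' →+* k' ⊗[k] K)) := by
  refine transport_ns ((CE.ringEquiv hg hfd).symm) _ _ _ _ ?_ ?_ h
  · rw [Subring.map_map]
    rfl
  · rw [← Set.range_comp]
    rfl

theorem ns_of_algHom (hK : IsFunctionField k K) (hg : IsGeometric k K)
    (hfd' : FiniteDimensional k k') (hfd'' : FiniteDimensional k k'') (j : k' →ₐ[k] k'')
    (P : Place k K) (h : NSce hg hfd'' P) : NSce hg hfd' P := by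
  letI : Algebra k' k'' := j.toRingHom.toAlgebra
  haveI : IsScalarTower k k' k'' := IsScalarTower.of_algebraMap_eq (fun c => (j.commutes c).symm)
  haveI : FiniteDimensional k' k'' := FiniteDimensional.right k k' k''
  letI : Algebra k' (CE k k'' K hg hfd'') :=
    ((algebraMap k'' (CE k k'' K hg hfd'')).comp (algebraMap k' k'')).toAlgebra
  haveI : IsScalarTower k' k'' (CE k k'' K hg hfd'') :=
    IsScalarTower.of_algebraMap_eq (fun _ => rfl)
  haveI : IsScalarTower k k' (CE k k'' K hg hfd'') := tower_abd k k' k'' (CE k k'' K hg hfd'')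
  letI : Algebra (CE k k' K hg hfd') (CE k k'' K hg hfd'') :=
    (CE.lift (K'' := CE k k'' K hg hfd'') hg hfd').toAlgebra
  haveI : IsScalarTower k' (CE k k' K hg hfd') (CE k k'' K hg hfd'') :=
    IsScalarTower.of_algebraMap_eq
      (fun c => (CE.lift_inl (K'' := CE k k'' K hg hfd'') hg hfd' c).symm)
  haveI : IsScalarTower K (CE k k' K hg hfd') (CE k k'' K hg hfd'') :=
    IsScalarTower.of_algebraMap_eq
      (fun x => (CE.lift_inr (K'' := CE k k'' K hg hfd'') hg hfd' x).symm)
  have h1 := CE.bijective (k := k) (k' := k') (K := K) hg hfd'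
  have h2 := bijective_mid h1 (CE.bijective hg hfd'').2 hg
  exact tower_ns_left h1 h2 hK hg P h

end Hom

section Common

theorem exists_common_ext (k : Type u) [Field k] (k₁ k₂ : Type u) [Field k₁] [Field k₂]
    [Algebra k k₁] [Algebra k k₂] [FiniteDimensional k k₁] [FiniteDimensional k k₂] :
    ∃ (k₃ : Type u) (_ : Field k₃) (_ : Algebra k k₃), FiniteDimensional k k₃ ∧
      Nonempty (k₁ →ₐ[k] k₃) ∧ Nonempty (k₂ →ₐ[k] k₃) := by
  let f₁ : k₁ →ₐ[k] AlgebraicClosure k := IsAlgClosed.lift
  let f₂ : k₂ →ₐ[k] AlgebraicClosure k := IsAlgClosed.lift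
  haveI : FiniteDimensional k f₁.fieldRange :=
    Module.Finite.equiv (AlgHom.equivFieldRange f₁).toLinearEquiv
  haveI : FiniteDimensional k f₂.fieldRange :=
    Module.Finite.equiv (AlgHom.equivFieldRange f₂).toLinearEquiv
  refine ⟨↥(f₁.fieldRange ⊔ f₂.fieldRange), inferInstance, inferInstance, inferInstance,
    ⟨?_⟩, ⟨?_⟩⟩
  · exact (IntermediateField.inclusion le_sup_left).comp (AlgHom.equivFieldRange f₁).toAlgHom
  · exact (IntermediateField.inclusion le_sup_right).comp (AlgHom.equivFieldRange f₂).toAlgHom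

variable {k : Type u} {K : Type v} [Field k] [Field K] [Algebra k K]

theorem exists_common (hK : IsFunctionField k K) (hg : IsGeometric k K)
    (T : Finset (Place k K))
    (hT : ∀ P ∈ T, ∃ (k' : Type u) (_ : Field k') (_ : Algebra k k')
      (hfd : FiniteDimensional k k'), ¬ NSce hg hfd P) :
    ∃ (k'' : Type u) (_ : Field k'') (_ : Algebra k k'') (hfd : FiniteDimensional k k''),
      ∀ P ∈ T, ¬ NSce hg hfd P := by
  classical
  induction T using Finset.induction_on with
  | empty =>
    exact ⟨k, inferInstance, inferInstance, inferInstance,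
      fun P hP => absurd hP (Finset.notMem_empty P)⟩
  | insert P T hPT ih =>
    obtain ⟨k₁, _, _, hfd₁, h₁⟩ := ih (fun Q hQ => hT Q (Finset.mem_insert_of_mem hQ))
    obtain ⟨k₂, _, _, hfd₂, h₂⟩ := hT P (Finset.mem_insert_self P T)
    obtain ⟨k₃, _, _, hfd₃, ⟨j₁⟩, ⟨j₂⟩⟩ := exists_common_ext k k₁ k₂
    refine ⟨k₃, inferInstance, inferInstance, hfd₃, ?_⟩
    intro Q hQ hns
    rcases Finset.mem_insert.mp hQ with rfl | hQ'
    · exact h₂ (ns_of_algHom hK hg hfd₂ hfd₃ j₂ Q hns)
    · exact h₁ Q hQ' (ns_of_algHom hK hg hfd₁ hfd₃ j₁ Q hns)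

/-- a geometric function field has finitely many singular places. -/
theorem finite_sing (hK : IsFunctionField k K) (hg : IsGeometric k K) :
    {P : Place k K | ∃ (k' : Type u) (_ : Field k') (_ : Algebra k k')
      (hfd : FiniteDimensional k k'), ¬ NSce hg hfd P}.Finite := by
  classical
  by_contra hfin
  obtain ⟨T, hTsub, hTcard⟩ := Set.Infinite.exists_subset_card_eq hfin (genus k K + 1)
  obtain ⟨k'', _, _, hfd, hns⟩ := exists_common hK hg T (fun P hP => hTsub hP)
  have hK'' : IsFunctionField k'' (CE k k'' K hg hfd) :=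
    Geo.isFunctionField_constExt (CE.bijective hg hfd) hK hg
  have h1 := GD.genus_add_card_le_of_not_ns (CE.bijective hg hfd) hK hK'' T
    (fun P hP => hns P hP)
  omega

end Common

end Groth.Agent.Lib.Helper23.CExt
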