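import Mathlib
import Groth.Agent.Lib.Helper23.CExt2
import Groth.Agent.Lib.Helper23.IntCl2

/-! Constant field extensions: genus comparison between models, separable extensions,
a purely inseparable extension of minimal genus. -/

set_option autoImplicit false

namespace Groth.Agent.Lib.Helper23.CExt

open FunFld TensorProduct
open Groth.Agent.Lib.Helper27
open Groth.Agent.Lib.Helper23.TowerNS

universe u v

section Bridge

variable {k k₁ K L : Type*} [Field k] [Field k₁] [Field K] [Field L]
  [Algebra k k₁] [Algebra k K] [Algebra K L] [Algebra k₁ L] [Algebra k L]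
  [IsScalarTower k k₁ L] [IsScalarTower k K L]

theorem range_algebraMap_O (P : Place k K) [Algebra P.O L] [IsScalarTower P.O K L] :
    Set.range (algebraMap P.O L) =
      ((P.O.toSubring.map (algebraMap K L) : Subring L) : Set L) := by
  ext x
  constructor
  · rintro ⟨a, rfl⟩
    rw [IntCl.algebraMap_O_eq P a]
    exact Subring.mem_map.mpr ⟨(a : K), a.2, rfl⟩
  · intro hx
    obtain ⟨y, hy, rfl⟩ := Subring.mem_map.mp hx
    exact ⟨⟨y, hy⟩, IntCl.algebraMap_O_eq P ⟨y, hy⟩⟩

/-- from the `[Algebra P.O L]` form of nonsingularity to the image form. -/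
theorem ns_map_of_ns_O [FiniteDimensional K L] (hK : IsFunctionField k K) (P : Place k K)
    [Algebra P.O L] [IsScalarTower P.O K L]
    (h : (integralClosure P.O L).toSubring =
      (Algebra.adjoin P.O (Set.range (algebraMap k₁ L))).toSubring) :
    integralClosure (P.O.toSubring.map (algebraMap K L)) L =
      Algebra.adjoin (P.O.toSubring.map (algebraMap K L)) (Set.range (algebraMap k₁ L)) := by
  have hrange := range_algebraMap_O (L := L) P
  ext z
  constructor
  · intro hz
    have h2 : z ∈ (integralClosure P.O L).toSubring :=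
      (IntCl.isIntegral_iff_forall_isOver hK P z).mpr ((mem_IC_iff (L := L) hK P z).mp hz)
    rw [h, Algebra.adjoin_eq_ring_closure, hrange] at h2
    have h3 : z ∈ (Algebra.adjoin (P.O.toSubring.map (algebraMap K L))
        (Set.range (algebraMap k₁ L))).toSubring := by
      rw [Algebra.adjoin_eq_ring_closure, range_algebraMap_subring]
      exact h2
    exact h3
  · intro hz
    have h3 : z ∈ (Algebra.adjoin (P.O.toSubring.map (algebraMap K L))
        (Set.range (algebraMap k₁ L))).toSubring := hz
    rw [Algebra.adjoin_eq_ring_closure, range_algebraMap_subring, ← hrange,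
      ← Algebra.adjoin_eq_ring_closure, ← h] at h3
    have h4 : IsIntegral P.O z := h3
    exact (mem_IC_iff (L := L) hK P z).mpr ((IntCl.isIntegral_iff_forall_isOver hK P z).mp h4)

end Bridge

section Sep

variable {k k' : Type u} {K K' : Type v} [Field k] [Field k'] [Field K] [Field K']
  [Algebra k k'] [FiniteDimensional k k'] [Algebra k K] [Algebra K K'] [Algebra k' K']
  [Algebra k K'] [IsScalarTower k k' K'] [IsScalarTower k K K']

/-- every place is nonsingular with respect to a finite separable constant extension. -/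
theorem ns_of_isSeparable [Algebra.IsSeparable k k']
    (h : Function.Bijective (Algebra.TensorProduct.productMap
      (IsScalarTower.toAlgHom k k' K') (IsScalarTower.toAlgHom k K K')))
    (hK : IsFunctionField k K) (P : Place k K) :
    integralClosure (P.O.toSubring.map (algebraMap K K')) K' =
      Algebra.adjoin (P.O.toSubring.map (algebraMap K K')) (Set.range (algebraMap k' K')) := by
  haveI : FiniteDimensional K K' := Geo.finiteDimensional_of_bijective h
  haveI : Algebra.IsAlgebraic k k' := Algebra.IsAlgebraic.of_finite k k'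
  letI : Algebra P.O K' := ((algebraMap K K').comp P.O.subtype).toAlgebra
  haveI : IsScalarTower P.O K K' := IsScalarTower.of_algebraMap_eq (fun _ => rfl)
  haveI : Algebra.FormallyUnramified k k' := Algebra.FormallyUnramified.of_isSeparable k k'
  have hred0 : IsReduced (IntCl.ResF P ⊗[k] k') :=
    Algebra.FormallyUnramified.isReduced_of_field (IntCl.ResF P) (IntCl.ResF P ⊗[k] k')
  have hred : IsReduced (k' ⊗[k] IntCl.ResF P) :=
    isReduced_of_injective (Algebra.TensorProduct.comm k k' (IntCl.ResF P))
      (Algebra.TensorProduct.comm k k' (IntCl.ResF P)).injective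
  exact ns_map_of_ns_O hK P (IntCl.integralClosure_eq_adjoin_of_isReduced' h P hred)

end Sep

section Model

variable {k k' : Type u} {K K₁ K₂ : Type v} [Field k] [Field k'] [Field K] [Field K₁] [Field K₂]
  [Algebra k k'] [Algebra k K]
  [Algebra K K₁] [Algebra k' K₁] [Algebra k K₁] [IsScalarTower k k' K₁] [IsScalarTower k K K₁]
  [Algebra K K₂] [Algebra k' K₂] [Algebra k K₂] [IsScalarTower k k' K₂] [IsScalarTower k K K₂]

/-- the canonical map from a model of `k' ⊗ K` to any field containing `k'` and `K`. -/
noncomputable def modelLift (h₁ : Function.Bijective (Algebra.TensorProduct.productMap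
      (IsScalarTower.toAlgHom k k' K₁) (IsScalarTower.toAlgHom k K K₁))) : K₁ →+* K₂ :=
  ((Algebra.TensorProduct.productMap (IsScalarTower.toAlgHom k k' K₂)
    (IsScalarTower.toAlgHom k K K₂) : k' ⊗[k] K →ₐ[k] K₂) : k' ⊗[k] K →+* K₂).comp
    ((RingEquiv.ofBijective (Algebra.TensorProduct.productMap
      (IsScalarTower.toAlgHom k k' K₁) (IsScalarTower.toAlgHom k K K₁)) h₁).symm :
        K₁ →+* k' ⊗[k] K)

theorem modelLift_inl (h₁ : Function.Bijective (Algebra.TensorProduct.productMap
      (IsScalarTower.toAlgHom k k' K₁) (IsScalarTower.toAlgHom k K K₁))) (c : k') :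
    modelLift (K₂ := K₂) h₁ (algebraMap k' K₁ c) = algebraMap k' K₂ c := by
  have h2 : algebraMap k' K₁ c = RingEquiv.ofBijective (Algebra.TensorProduct.productMap
      (IsScalarTower.toAlgHom k k' K₁) (IsScalarTower.toAlgHom k K K₁)) h₁
      (c ⊗ₜ[k] (1 : K)) := by
    rw [RingEquiv.ofBijective_apply, Algebra.TensorProduct.productMap_apply_tmul, map_one,
      mul_one]
    rfl
  show Algebra.TensorProduct.productMap (IsScalarTower.toAlgHom k k' K₂)
    (IsScalarTower.toAlgHom k K K₂)
    ((RingEquiv.ofBijective (Algebra.TensorProduct.productMap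
      (IsScalarTower.toAlgHom k k' K₁) (IsScalarTower.toAlgHom k K K₁)) h₁).symm
        (algebraMap k' K₁ c)) = _
  rw [h2, RingEquiv.symm_apply_apply, Algebra.TensorProduct.productMap_apply_tmul, map_one,
    mul_one]
  rfl

theorem modelLift_inr (h₁ : Function.Bijective (Algebra.TensorProduct.productMap
      (IsScalarTower.toAlgHom k k' K₁) (IsScalarTower.toAlgHom k K K₁))) (x : K) :
    modelLift (K₂ := K₂) h₁ (algebraMap K K₁ x) = algebraMap K K₂ x := by
  have h2 : algebraMap K K₁ x = RingEquiv.ofBijective (Algebra.TensorProduct.productMap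
      (IsScalarTower.toAlgHom k k' K₁) (IsScalarTower.toAlgHom k K K₁)) h₁
      ((1 : k') ⊗ₜ[k] x) := by
    rw [RingEquiv.ofBijective_apply, Algebra.TensorProduct.productMap_apply_tmul, map_one,
      one_mul]
    rfl
  show Algebra.TensorProduct.productMap (IsScalarTower.toAlgHom k k' K₂)
    (IsScalarTower.toAlgHom k K K₂)
    ((RingEquiv.ofBijective (Algebra.TensorProduct.productMap
      (IsScalarTower.toAlgHom k k' K₁) (IsScalarTower.toAlgHom k K K₁)) h₁).symm
        (algebraMap K K₁ x)) = _
  rw [h2, RingEquiv.symm_apply_apply, Algebra.TensorProduct.productMap_apply_tmul, map_one,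
    one_mul]
  rfl

end Model

section T

variable {k k₁ k₂ : Type u} {K K₁ K₂ : Type v} [Field k] [Field k₁] [Field k₂] [Field K]
  [Field K₁] [Field K₂]
  [Algebra k k₁] [Algebra k₁ k₂] [Algebra k k₂] [IsScalarTower k k₁ k₂]
  [FiniteDimensional k k₁] [FiniteDimensional k k₂]
  [Algebra k K]
  [Algebra K K₁] [Algebra k₁ K₁] [Algebra k K₁] [IsScalarTower k k₁ K₁] [IsScalarTower k K K₁]
  [Algebra K K₂] [Algebra k₂ K₂] [Algebra k K₂] [IsScalarTower k k₂ K₂] [IsScalarTower k K K₂]

/-- genus comparison between models of `k₁ ⊗ K` and `k₂ ⊗ K` for `k ⊆ k₁ ⊆ k₂`. -/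
theorem genus_tower
    (h₁ : Function.Bijective (Algebra.TensorProduct.productMap
      (IsScalarTower.toAlgHom k k₁ K₁) (IsScalarTower.toAlgHom k K K₁)))
    (h₂ : Function.Bijective (Algebra.TensorProduct.productMap
      (IsScalarTower.toAlgHom k k₂ K₂) (IsScalarTower.toAlgHom k K K₂)))
    (hK : IsFunctionField k K) (hg : IsGeometric k K) :
    genus k₂ K₂ ≤ genus k₁ K₁ ∧ (Algebra.IsSeparable k₁ k₂ → genus k₁ K₁ ≤ genus k₂ K₂) := by
  haveI : FiniteDimensional k₁ k₂ := FiniteDimensional.right k k₁ k₂
  letI : Algebra k₁ K₂ := ((algebraMap k₂ K₂).comp (algebraMap k₁ k₂)).toAlgebra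
  haveI : IsScalarTower k₁ k₂ K₂ := IsScalarTower.of_algebraMap_eq (fun _ => rfl)
  haveI : IsScalarTower k k₁ K₂ := tower_abd k k₁ k₂ K₂
  letI : Algebra K₁ K₂ := (modelLift (K₂ := K₂) h₁).toAlgebra
  haveI : IsScalarTower k₁ K₁ K₂ :=
    IsScalarTower.of_algebraMap_eq (fun c => (modelLift_inl (K₂ := K₂) h₁ c).symm)
  haveI : IsScalarTower K K₁ K₂ :=
    IsScalarTower.of_algebraMap_eq (fun x => (modelLift_inr (K₂ := K₂) h₁ x).symm)
  have h12 := bijective_mid h₁ h₂.2 hg
  have hK₁ := Geo.isFunctionField_constExt h₁ hK hg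
  have hK₂ := Geo.isFunctionField_constExt h₂ hK hg
  refine ⟨GD.genus_le h12 hK₁ hK₂, fun hsep => ?_⟩
  haveI := hsep
  exact GD.genus_le_of_forall_ns h12 hK₁ hK₂ (fun Q => ns_of_isSeparable h12 hK₁ Q)

end T

section FieldTheory

theorem isPurelyInseparable_fixedField (k N : Type*) [Field k] [Field N] [Algebra k N]
    [Normal k N] :
    IsPurelyInseparable k (IntermediateField.fixedField (⊤ : Subgroup (N ≃ₐ[k] N))) := by
  classical
  rw [← le_perfectClosure_iff]
  intro y hy
  rw [mem_perfectClosure_iff_natSepDegree_eq_one]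
  have hy' : ∀ σ : N ≃ₐ[k] N, σ y = y := fun σ =>
    (IntermediateField.mem_fixedField_iff _ y).mp hy σ (Subgroup.mem_top σ)
  have hint : IsIntegral k y := Normal.isIntegral ‹Normal k N› y
  have hsplit := Normal.splits ‹Normal k N› y
  rw [Polynomial.natSepDegree_eq_of_splits _ hsplit]
  have hroots : ((minpoly k y).aroots N).toFinset = {y} := by
    ext z
    rw [Multiset.mem_toFinset, Polynomial.mem_aroots, Finset.mem_singleton]
    constructor
    · rintro ⟨-, hz⟩
      have hmin : minpoly k z = minpoly k y :=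
        (minpoly.eq_of_irreducible_of_monic (minpoly.irreducible hint) hz
          (minpoly.monic hint)).symm
      obtain ⟨σ, hσ⟩ := (Normal.minpoly_eq_iff_mem_orbit (F := k) (E := N)).mp hmin
      have h3 : σ y = z := hσ
      rw [← h3]
      exact hy' σ
    · rintro rfl
      exact ⟨minpoly.ne_zero hint, minpoly.aeval k z⟩
  rw [hroots, Finset.card_singleton]

theorem exists_normal_ext (k k₁ : Type u) [Field k] [Field k₁] [Algebra k k₁]
    [FiniteDimensional k k₁] :
    ∃ (N : Type u) (_ : Field N) (_ : Algebra k N), FiniteDimensional k N ∧ Normal k N ∧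
      Nonempty (k₁ →ₐ[k] N) :=
  ⟨↥(IntermediateField.normalClosure k k₁ (AlgebraicClosure k)), inferInstance, inferInstance,
    inferInstance, inferInstance,
    ⟨(normalClosure.algHomEquiv k k₁ (AlgebraicClosure k)).symm IsAlgClosed.lift⟩⟩

theorem exists_pi_sub (k N : Type u) [Field k] [Field N] [Algebra k N] [FiniteDimensional k N]
    [Normal k N] :
    ∃ (k' : Type u) (_ : Field k') (_ : Algebra k k') (_ : Algebra k' N)
      (_ : IsScalarTower k k' N),
      FiniteDimensional k k' ∧ IsPurelyInseparable k k' ∧ Algebra.IsSeparable k' N :=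
  ⟨↥(IntermediateField.fixedField (⊤ : Subgroup (N ≃ₐ[k] N))), inferInstance, inferInstance,
    inferInstance, inferInstance, inferInstance, isPurelyInseparable_fixedField k N,
    (haveI : IsGalois (IntermediateField.fixedField (⊤ : Subgroup (N ≃ₐ[k] N))) N :=
      IsGalois.of_fixed_field N (⊤ : Subgroup (N ≃ₐ[k] N))
     inferInstance)⟩

end FieldTheory

section Main

variable {k : Type u} {K : Type v} [Field k] [Field K] [Algebra k K]

theorem exists_min (k : Type u) (K : Type v) [Field k] [Field K] [Algebra k K]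
    (hg : IsGeometric k K) :
    ∃ (k₁ : Type u) (_ : Field k₁) (_ : Algebra k k₁) (hfd₁ : FiniteDimensional k k₁),
      ∀ (k₂ : Type u) [Field k₂] [Algebra k k₂] (hfd₂ : FiniteDimensional k k₂),
        genus k₁ (CE k k₁ K hg hfd₁) ≤ genus k₂ (CE k k₂ K hg hfd₂) := by
  classical
  let S : Set ℕ := {n | ∃ (k₁ : Type u) (_ : Field k₁) (_ : Algebra k k₁)
    (hfd₁ : FiniteDimensional k k₁), genus k₁ (CE k k₁ K hg hfd₁) = n}
  have hne : S.Nonempty := ⟨_, k, inferInstance, inferInstance, inferInstance, rfl⟩
  obtain ⟨k₁, _, _, hfd₁, h₁⟩ := Nat.sInf_mem hne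
  refine ⟨k₁, inferInstance, inferInstance, hfd₁, ?_⟩
  intro k₂ _ _ hfd₂
  rw [h₁]
  exact Nat.sInf_le ⟨k₂, inferInstance, inferInstance, hfd₂, rfl⟩

/-- a finite purely inseparable extension over which the genus is minimal. -/
theorem exists_pi_min (hK : IsFunctionField k K) (hg : IsGeometric k K) :
    ∃ (k' : Type u) (_ : Field k') (_ : Algebra k k') (hfd : FiniteDimensional k k'),
      IsPurelyInseparable k k' ∧
      ∀ (k₂ : Type u) [Field k₂] [Algebra k k₂] (hfd₂ : FiniteDimensional k k₂),
        genus k' (CE k k' K hg hfd) ≤ genus k₂ (CE k k₂ K hg hfd₂) := by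
  obtain ⟨k₁, _, _, hfd₁, hmin⟩ := exists_min k K hg
  obtain ⟨N, _, _, hfdN, hnorm, ⟨j⟩⟩ := exists_normal_ext k k₁
  obtain ⟨k', _, _, _, _, hfd', hpi, hsep⟩ := exists_pi_sub k N
  refine ⟨k', inferInstance, inferInstance, hfd', hpi, ?_⟩
  intro k₂ _ _ hfd₂
  have hA : genus N (CE k N K hg hfdN) ≤ genus k₁ (CE k k₁ K hg hfd₁) := by
    letI : Algebra k₁ N := j.toRingHom.toAlgebra
    haveI : IsScalarTower k k₁ N :=
      IsScalarTower.of_algebraMap_eq (fun c => (j.commutes c).symm)
    exact (genus_tower (CE.bijective hg hfd₁) (CE.bijective hg hfdN) hK hg).1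
  have hB : genus k' (CE k k' K hg hfd') ≤ genus N (CE k N K hg hfdN) :=
    (genus_tower (CE.bijective hg hfd') (CE.bijective hg hfdN) hK hg).2 hsep
  exact hB.trans (hA.trans (hmin k₂ hfd₂))

end Main

section Final

variable {k k' : Type u} {K K' : Type v} [Field k] [Field k'] [Field K] [Field K']
  [Algebra k k'] [Algebra k K] [Algebra K K'] [Algebra k' K'] [Algebra k K']
  [IsScalarTower k k' K'] [IsScalarTower k K K']

/-- over a constant field of minimal genus every place is nonsingular. -/
theorem ns_of_genus_min (hfd : FiniteDimensional k k')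
    (h1 : Function.Bijective (Algebra.TensorProduct.productMap
      (IsScalarTower.toAlgHom k k' K') (IsScalarTower.toAlgHom k K K')))
    (hK : IsFunctionField k K) (hg : IsGeometric k K)
    (hmin : ∀ (k₂ : Type u) [Field k₂] [Algebra k k₂] (hfd₂ : FiniteDimensional k k₂),
      genus k' K' ≤ genus k₂ (CE k k₂ K hg hfd₂))
    (Q : Place k' K') (k'' : Type u) [Field k''] [Algebra k' k''] [FiniteDimensional k' k'']
    (K'' : Type v) [Field K''] [Algebra K' K''] [Algebra k'' K''] [Algebra k' K'']
    [IsScalarTower k' k'' K''] [IsScalarTower k' K' K'']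
    (h2 : Function.Bijective (Algebra.TensorProduct.productMap
      (IsScalarTower.toAlgHom k' k'' K'') (IsScalarTower.toAlgHom k' K' K''))) :
    integralClosure (Q.O.toSubring.map (algebraMap K' K'')) K'' =
      Algebra.adjoin (Q.O.toSubring.map (algebraMap K' K''))
        (Set.range (algebraMap k'' K'')) := by
  classical
  letI : Algebra k k'' := ((algebraMap k' k'').comp (algebraMap k k')).toAlgebra
  haveI : IsScalarTower k k' k'' := IsScalarTower.of_algebraMap_eq (fun _ => rfl)
  letI : Algebra k K'' := ((algebraMap k' K'').comp (algebraMap k k')).toAlgebra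
  haveI : IsScalarTower k k' K'' := IsScalarTower.of_algebraMap_eq (fun _ => rfl)
  letI : Algebra K K'' := ((algebraMap K' K'').comp (algebraMap K K')).toAlgebra
  haveI : IsScalarTower K K' K'' := IsScalarTower.of_algebraMap_eq (fun _ => rfl)
  haveI : IsScalarTower k K K'' := IsScalarTower.of_algebraMap_eq (fun c => by
    show algebraMap k' K'' (algebraMap k k' c) =
      algebraMap K' K'' (algebraMap K K' (algebraMap k K c))
    rw [IsScalarTower.algebraMap_apply k' K' K'', ← IsScalarTower.algebraMap_apply k k' K',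
      ← IsScalarTower.algebraMap_apply k K K'])
  haveI : IsScalarTower k k'' K'' := IsScalarTower.of_algebraMap_eq (fun c => by
    show algebraMap k' K'' (algebraMap k k' c) =
      algebraMap k'' K'' (algebraMap k' k'' (algebraMap k k' c))
    rw [← IsScalarTower.algebraMap_apply k' k'' K''])
  haveI hfd'' : FiniteDimensional k k'' := FiniteDimensional.trans k k' k''
  have hK' := Geo.isFunctionField_constExt h1 hK hg
  have hg' := Geo.isGeometric_constExt h1 hg
  have hK'' := Geo.isFunctionField_constExt h2 hK' hg'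
  have htop := bijective_top h1 h2 hg
  by_contra hne
  have h3 := GD.genus_add_card_le_of_not_ns h2 hK' hK'' {Q} (fun P hP => by
    rw [Finset.mem_singleton.mp hP]
    exact hne)
  rw [Finset.card_singleton] at h3
  have h4 : genus k'' (CE k k'' K hg hfd'') ≤ genus k'' K'' :=
    (genus_tower (k₁ := k'') (k₂ := k'') htop (CE.bijective hg hfd'') hK hg).1
  have h5 := hmin k'' hfd''
  omega

end Final

end Groth.Agent.Lib.Helper23.CExt
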