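import Mathlib
import Groth.Agent.Lib.Helper23.CExt3
import Groth.Agent.S12589

/-! Splitting fields of places of a geometric function field. -/

set_option autoImplicit false

namespace Groth.Agent.Lib.Helper23.CExt

open FunFld TensorProduct
open Groth.Agent.Lib.Helper27
open Groth.Agent.Lib.Helper27.FF
open Groth.Agent.Lib.Helper23.TowerNS

universe u v

section Bridge2

variable {k k₁ K L : Type*} [Field k] [Field k₁] [Field K] [Field L]
  [Algebra k k₁] [Algebra k K] [Algebra K L] [Algebra k₁ L] [Algebra k L]
  [IsScalarTower k k₁ L] [IsScalarTower k K L]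

/-- from the image form of nonsingularity to the `[Algebra P.O L]` form. -/
theorem ns_O_of_ns_map [FiniteDimensional K L] (hK : IsFunctionField k K) (P : Place k K)
    [Algebra P.O L] [IsScalarTower P.O K L]
    (h : integralClosure (P.O.toSubring.map (algebraMap K L)) L =
      Algebra.adjoin (P.O.toSubring.map (algebraMap K L)) (Set.range (algebraMap k₁ L))) :
    (integralClosure P.O L).toSubring =
      (Algebra.adjoin P.O (Set.range (algebraMap k₁ L))).toSubring := by
  have hrange := range_algebraMap_O (L := L) P
  ext z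
  constructor
  · intro hz
    have h1 : IsIntegral P.O z := hz
    have h2 : z ∈ integralClosure (P.O.toSubring.map (algebraMap K L)) L :=
      (mem_IC_iff (L := L) hK P z).mpr ((IntCl.isIntegral_iff_forall_isOver hK P z).mp h1)
    rw [h] at h2
    have h3 : z ∈ (Algebra.adjoin (P.O.toSubring.map (algebraMap K L))
        (Set.range (algebraMap k₁ L))).toSubring := h2
    rw [Algebra.adjoin_eq_ring_closure, range_algebraMap_subring, ← hrange,
      ← Algebra.adjoin_eq_ring_closure] at h3
    exact h3
  · intro hz
    rw [Algebra.adjoin_eq_ring_closure, hrange] at hz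
    have h3 : z ∈ (Algebra.adjoin (P.O.toSubring.map (algebraMap K L))
        (Set.range (algebraMap k₁ L))).toSubring := by
      rw [Algebra.adjoin_eq_ring_closure, range_algebraMap_subring]
      exact hz
    have h2 : z ∈ integralClosure (P.O.toSubring.map (algebraMap K L)) L := by
      rw [h]
      exact h3
    exact (IntCl.isIntegral_iff_forall_isOver hK P z).mpr
      ((mem_IC_iff (L := L) hK P z).mp h2)

end Bridge2

section DegOne

variable {k k' : Type u} {K K' : Type v} [Field k] [Field k'] [Field K] [Field K']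
  [Algebra k k'] [FiniteDimensional k k'] [Algebra k K] [Algebra K K'] [Algebra k' K']
  [Algebra k K'] [IsScalarTower k k' K'] [IsScalarTower k K K']

/-- a place over a nonsingular place `P` has degree one as soon as the minimal polynomials of
the elements of the residue field of `P` split in `k'`. -/
theorem deg_eq_one_of_splits
    (h : Function.Bijective (Algebra.TensorProduct.productMap
      (IsScalarTower.toAlgHom k k' K') (IsScalarTower.toAlgHom k K K')))
    (hK : IsFunctionField k K) (hg : IsGeometric k K) (P : Place k K)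
    (hns : integralClosure (P.O.toSubring.map (algebraMap K K')) K' =
      Algebra.adjoin (P.O.toSubring.map (algebraMap K K')) (Set.range (algebraMap k' K')))
    (Q : Place k' K') (hover : IsOver (Place.down (k := k) Q) P)
    (hsplit : ∀ a : IsLocalRing.ResidueField P.O,
      ((minpoly k a).map (algebraMap k k')).Splits) : Q.deg = 1 := by
  classical
  haveI : FiniteDimensional K K' := Geo.finiteDimensional_of_bijective h
  letI : Algebra P.O K' := ((algebraMap K K').comp P.O.subtype).toAlgebra
  haveI : IsScalarTower P.O K K' := IsScalarTower.of_algebraMap_eq (fun _ => rfl)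
  have hnsO := ns_O_of_ns_map hK P hns
  obtain ⟨e, he⟩ := hover
  haveI hext : P.1.HasExtension (Place.down (k := k) Q).1 :=
    ⟨Valuation.isEquiv_iff_val_le_one.mpr (fun {x} => (isOverWith_val_le_one_iff he x).symm)⟩
  have hk' : ∀ c : k', (Place.down (k := k) Q).1 (algebraMap k' K' c) ≤ 1 := fun c => Q.2.1 c
  have hadj := Groth.Agent.S12589.result k k' K K' h hK hg P hnsO (Place.down (k := k) Q) hk'
  let ψ : k' →+* IsLocalRing.ResidueField (Place.down (k := k) Q).O :=
    algebraMap k' (IsLocalRing.ResidueField Q.O)
  have hclaim : ∀ a : IsLocalRing.ResidueField P.O,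
      algebraMap (IsLocalRing.ResidueField P.O)
        (IsLocalRing.ResidueField (Place.down (k := k) Q).O) a ∈ ψ.range := by
    intro a
    haveI hfdP : @Module.Finite k (IsLocalRing.ResidueField P.O) _ _
        (Place.algRes P).toModule :=
      Groth.Agent.Lib.Helper23.FF.finiteDimensional_residueField hK P
    have hint : IsIntegral k a := Algebra.IsIntegral.isIntegral a
    have hroot : Polynomial.eval₂ (algebraMap k (IsLocalRing.ResidueField P.O)) a
        (minpoly k a) = 0 := minpoly.aeval k a
    have h1 := congrArg (algebraMap (IsLocalRing.ResidueField P.O)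
        (IsLocalRing.ResidueField (Place.down (k := k) Q).O)) hroot
    rw [Polynomial.hom_eval₂, map_zero] at h1
    have hcomp : (algebraMap (IsLocalRing.ResidueField P.O)
        (IsLocalRing.ResidueField (Place.down (k := k) Q).O)).comp
        (algebraMap k (IsLocalRing.ResidueField P.O)) = ψ.comp (algebraMap k k') := by
      ext c
      have hel : (algebraMap P.O (Place.down (k := k) Q).O (algebraMap k P.O c)) =
          (algebraMap k' Q.O (algebraMap k k' c) : Q.O) := by
        apply Subtype.ext
        show algebraMap K K' (algebraMap k K c) = algebraMap k' K' (algebraMap k k' c)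
        rw [← IsScalarTower.algebraMap_apply k K K', ← IsScalarTower.algebraMap_apply k k' K']
      exact congrArg (IsLocalRing.residue Q.O) hel
    rw [hcomp, ← Polynomial.eval₂_map, ← Polynomial.eval_map] at h1
    exact Polynomial.Splits.mem_range_of_isRoot (hsplit a)
      (Polynomial.map_ne_zero (minpoly.ne_zero hint)) h1
  have hsurj : Function.Surjective ψ := by
    intro y
    let S : Subalgebra (IsLocalRing.ResidueField P.O)
        (IsLocalRing.ResidueField (Place.down (k := k) Q).O) :=
      { ψ.range.toSubsemiring with algebraMap_mem' := hclaim }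
    have hle : Algebra.adjoin (IsLocalRing.ResidueField P.O)
        (Set.range fun c : k' => IsLocalRing.residue (Place.down (k := k) Q).O
          ⟨algebraMap k' K' c, hk' c⟩) ≤ S :=
      Algebra.adjoin_le (by
        rintro _ ⟨c, rfl⟩
        exact ⟨c, rfl⟩)
    rw [hadj] at hle
    have hy : y ∈ S := hle Algebra.mem_top
    obtain ⟨c, hc⟩ := hy
    exact ⟨c, hc⟩
  unfold Place.deg
  have hbij : Function.Bijective (Algebra.linearMap k' (IsLocalRing.ResidueField Q.O)) :=
    ⟨fun x y hxy => (algebraMap k' (IsLocalRing.ResidueField Q.O)).injective hxy,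
      fun y => hsurj y⟩
  have hfr := (LinearEquiv.ofBijective (Algebra.linearMap k' (IsLocalRing.ResidueField Q.O))
    hbij).finrank_eq
  rw [Module.finrank_self] at hfr
  exact hfr.symm

end DegOne

section SplitExt

theorem exists_splitting_ext (k₀ : Type u) [Field k₀] {ι : Type*} [Finite ι] (F : ι → Type v)
    [∀ i, Field (F i)] [∀ i, Algebra k₀ (F i)] (hF : ∀ i, FiniteDimensional k₀ (F i)) :
    ∃ (k'' : Type u) (_ : Field k'') (_ : Algebra k₀ k''), FiniteDimensional k₀ k'' ∧
      ∀ i (a : F i), ((minpoly k₀ a).map (algebraMap k₀ k'')).Splits := by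
  haveI := hF
  let t : ι → IntermediateField k₀ (AlgebraicClosure k₀) := fun i =>
    IntermediateField.normalClosure k₀ (F i) (AlgebraicClosure k₀)
  haveI : ∀ i, FiniteDimensional k₀ (t i) := fun i =>
    normalClosure.is_finiteDimensional k₀ (F i) _
  haveI : ∀ i, Normal k₀ (t i) := fun i => normalClosure.normal k₀ (F i) _
  refine ⟨↥(⨆ i, t i), inferInstance, inferInstance, inferInstance, ?_⟩
  intro i a
  let f : F i →ₐ[k₀] AlgebraicClosure k₀ := IsAlgClosed.lift
  have hmem : f a ∈ (⨆ i, t i) := (le_iSup t i) (f.fieldRange_le_normalClosure ⟨a, rfl⟩)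
  have h1 := Normal.splits (inferInstance : Normal k₀ ↥(⨆ i, t i)) ⟨f a, hmem⟩
  have h2 : minpoly k₀ (⟨f a, hmem⟩ : ↥(⨆ i, t i)) = minpoly k₀ a := by
    rw [IntermediateField.minpoly_eq]
    exact minpoly.algHom_eq f f.injective a
  rw [h2] at h1
  exact h1

end SplitExt

section Splitting

variable {k : Type u} {K : Type v} [Field k] [Field K] [Algebra k K]

/-- every place of a geometric function field has a finite splitting field. -/
theorem exists_splitting (hK : IsFunctionField k K) (hg : IsGeometric k K) (P : Place k K) :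
    ∃ (k' : Type u) (_ : Field k') (_ : Algebra k k'), FiniteDimensional k k' ∧
      ∀ (K' : Type v) [Field K'] [Algebra K K'] [Algebra k' K'] [Algebra k K']
        [IsScalarTower k k' K'] [IsScalarTower k K K'],
        Function.Bijective (Algebra.TensorProduct.productMap
          (IsScalarTower.toAlgHom k k' K') (IsScalarTower.toAlgHom k K K')) →
        ∀ Q : Place k' K', P.1.HasExtension Q.1 → Q.deg = 1 := by
  classical
  obtain ⟨k₀, _, _, hfd₀, -, hmin⟩ := exists_pi_min hK hg
  have h₀ := CE.bijective (k := k) (k' := k₀) (K := K) hg hfd₀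
  have hK₀ := Geo.isFunctionField_constExt h₀ hK hg
  have hg₀ := Geo.isGeometric_constExt h₀ hg
  haveI : FiniteDimensional K (CE k k₀ K hg hfd₀) := Geo.finiteDimensional_of_bijective h₀
  haveI : Algebra.IsAlgebraic K (CE k k₀ K hg hfd₀) := Algebra.IsAlgebraic.of_finite _ _
  have hfin := (sum_ramIdx_mul_deg (K' := CE k k₀ K hg hfd₀) hK P).1
  haveI : Finite ↥{Q : Place k (CE k k₀ K hg hfd₀) | IsOver Q P} := hfin.to_subtype
  haveI : Finite {Q : Place k₀ (CE k k₀ K hg hfd₀) // IsOver (Place.down (k := k) Q) P} :=
    Finite.of_injective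
      (fun i : {Q : Place k₀ (CE k k₀ K hg hfd₀) // IsOver (Place.down (k := k) Q) P} =>
        (⟨Place.down (k := k) i.1, i.2⟩ : ↥{Q : Place k (CE k k₀ K hg hfd₀) | IsOver Q P}))
      (fun i i' hii => by
        have h5 : Place.down (k := k) i.1 = Place.down (k := k) i'.1 :=
          congrArg Subtype.val hii
        exact Subtype.ext (Place.down_injective h5))
  obtain ⟨k'', _, _, hfd'', hsplit⟩ := exists_splitting_ext k₀
    (fun i : {Q : Place k₀ (CE k k₀ K hg hfd₀) // IsOver (Place.down (k := k) Q) P} =>
      IsLocalRing.ResidueField i.1.O)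
    (fun i => Groth.Agent.Lib.Helper23.FF.finiteDimensional_residueField hK₀ i.1)
  letI : Algebra k k'' := ((algebraMap k₀ k'').comp (algebraMap k k₀)).toAlgebra
  haveI : IsScalarTower k k₀ k'' := IsScalarTower.of_algebraMap_eq (fun _ => rfl)
  haveI hfdk : FiniteDimensional k k'' := FiniteDimensional.trans k k₀ k''
  refine ⟨k'', inferInstance, inferInstance, hfdk, ?_⟩
  intro K' _ _ _ _ _ _ h Q' hext
  haveI := hext
  letI : Algebra k₀ K' := ((algebraMap k'' K').comp (algebraMap k₀ k'')).toAlgebra
  haveI : IsScalarTower k₀ k'' K' := IsScalarTower.of_algebraMap_eq (fun _ => rfl)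
  haveI : IsScalarTower k k₀ K' := tower_abd k k₀ k'' K'
  letI : Algebra (CE k k₀ K hg hfd₀) K' := (CE.lift (K'' := K') hg hfd₀).toAlgebra
  haveI : IsScalarTower k₀ (CE k k₀ K hg hfd₀) K' :=
    IsScalarTower.of_algebraMap_eq (fun c => (CE.lift_inl (K'' := K') hg hfd₀ c).symm)
  haveI : IsScalarTower K (CE k k₀ K hg hfd₀) K' :=
    IsScalarTower.of_algebraMap_eq (fun x => (CE.lift_inr (K'' := K') hg hfd₀ x).symm)
  have h2 := bijective_mid h₀ h.2 hg
  haveI : FiniteDimensional (CE k k₀ K hg hfd₀) K' := Geo.finiteDimensional_of_bijective h2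
  haveI : Algebra.IsAlgebraic (CE k k₀ K hg hfd₀) K' := Algebra.IsAlgebraic.of_finite _ _
  obtain ⟨Q, e, he⟩ := exists_isOverWith hK₀ (Place.down (k := k₀) Q')
  have hQP : IsOver (Place.down (k := k) Q) P := by
    obtain ⟨P₁, e₁, he₁⟩ := exists_isOverWith hK (Place.down (k := k) Q)
    have hPP : P₁ = P := by
      apply place_eq_of_le_one_iff
      intro x
      rw [← isOverWith_val_le_one_iff he₁ x]
      have h3 := isOverWith_val_le_one_iff he (algebraMap K (CE k k₀ K hg hfd₀) x)
      rw [← IsScalarTower.algebraMap_apply K (CE k k₀ K hg hfd₀) K'] at h3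
      have h4 := Valuation.HasExtension.val_map_le_one_iff P.1 Q'.1 x
      exact h3.symm.trans h4
    rw [hPP] at he₁
    exact ⟨e₁, he₁⟩
  have hns := ns_of_genus_min hfd₀ h₀ hK hg hmin Q k'' K' h2
  exact deg_eq_one_of_splits h2 hK₀ hg₀ Q hns Q' ⟨e, he⟩ (hsplit ⟨Q, hQP⟩)

end Splitting

end Groth.Agent.Lib.Helper23.CExt
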