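import Mathlib
import Groth.Agent.Lib.Helper23.CExt4

/-! The quotient `R / R̃` of the integral closure of `O_P` in `k' ⊗ K` by `O_P[k']` is finite
dimensional, and the conductor is nonzero. -/

set_option autoImplicit false

namespace Groth.Agent.Lib.Helper23.CExt

open FunFld TensorProduct
open Groth.Agent.Lib.Helper27
open Groth.Agent.Lib.Helper27.FF
open Groth.Agent.Lib.Helper23.TowerNS

universe u v

section Cond

variable {k k' : Type u} {K K' : Type v} [Field k] [Field k'] [Field K] [Field K']
  [Algebra k k'] [FiniteDimensional k k'] [Algebra k K] [Algebra K K'] [Algebra k' K']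
  [Algebra k K'] [IsScalarTower k k' K'] [IsScalarTower k K K']

/-- a maximal family of integral elements independent modulo `O_P[k']`. -/
theorem exists_max_family
    (h : Function.Bijective (Algebra.TensorProduct.productMap
      (IsScalarTower.toAlgHom k k' K') (IsScalarTower.toAlgHom k K K')))
    (hK : IsFunctionField k K) (hg : IsGeometric k K) (P : Place k K) :
    ∃ (m : ℕ) (r : Fin m → K'), (∀ i, ∀ Q : Place k K', IsOver Q P → Q.1 (r i) ≤ 1) ∧
      ∀ r' : K', (∀ Q : Place k K', IsOver Q P → Q.1 r' ≤ 1) →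
        ∃ d : Fin m → k', r' - ∑ i, algebraMap k' K' (d i) * r i ∈
          Algebra.adjoin (P.O.toSubring.map (algebraMap K K')) (Set.range (algebraMap k' K')) := by
  classical
  have hK' := Geo.isFunctionField_constExt h hK hg
  let Ind : ℕ → Prop := fun m => ∃ r : Fin m → K',
    (∀ i, ∀ Q : Place k K', IsOver Q P → Q.1 (r i) ≤ 1) ∧
    ∀ d : Fin m → k', (∑ i, algebraMap k' K' (d i) * r i) ∈
      Algebra.adjoin (P.O.toSubring.map (algebraMap K K')) (Set.range (algebraMap k' K')) →
      ∀ i, d i = 0
  have hbound : ∀ m, Ind m → m ≤ genus k K := by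
    rintro m ⟨r, hr, hind⟩
    have h1 := GD.genus_add_card_le h hK hK' (ι := Fin m) (fun _ => P) r
      (fun i Q hQ => hr i Q hQ) (by
        intro d hd
        apply hind d
        have h2 := hd P
        simpa using h2)
    rw [Fintype.card_fin] at h1
    omega
  have hne : ∃ n, ¬ Ind n := ⟨genus k K + 1, fun hI => by
    have := hbound _ hI
    omega⟩
  have hn₀ : ¬ Ind (Nat.find hne) := Nat.find_spec hne
  have hmin : ∀ m < Nat.find hne, Ind m := fun m hm => not_not.mp (Nat.find_min hne hm)
  have h0 : Ind 0 := ⟨fun i => i.elim0, fun i => i.elim0, fun d _ i => i.elim0⟩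
  have hne0 : Nat.find hne ≠ 0 := by
    intro h0'
    rw [h0'] at hn₀
    exact hn₀ h0
  obtain ⟨m, hm⟩ := Nat.exists_eq_succ_of_ne_zero hne0
  obtain ⟨r, hr, hind⟩ := hmin m (by omega)
  refine ⟨m, r, hr, ?_⟩
  intro r' hr'
  by_contra hcon
  apply hn₀
  rw [hm]
  refine ⟨Fin.cons r' r, ?_, ?_⟩
  · intro i
    refine Fin.cases ?_ (fun j => ?_) i
    · simpa using hr'
    · simpa using hr j
  · intro d hsum
    rw [Fin.sum_univ_succ] at hsum
    simp only [Fin.cons_zero, Fin.cons_succ] at hsum
    by_cases hd0 : d 0 = 0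
    · rw [hd0, map_zero, zero_mul, zero_add] at hsum
      have h3 := hind (fun i => d i.succ) hsum
      intro i
      refine Fin.cases ?_ (fun j => ?_) i
      · exact hd0
      · exact h3 j
    · exfalso
      apply hcon
      refine ⟨fun i => -(d 0)⁻¹ * d i.succ, ?_⟩
      have hE : r' - ∑ i, algebraMap k' K' (-(d 0)⁻¹ * d i.succ) * r i =
          algebraMap k' K' (d 0)⁻¹ * (algebraMap k' K' (d 0) * r' +
            ∑ i : Fin m, algebraMap k' K' (d i.succ) * r i) := by
        rw [mul_add, ← mul_assoc, ← map_mul, inv_mul_cancel₀ hd0, map_one, one_mul,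
          Finset.mul_sum, sub_eq_add_neg, ← Finset.sum_neg_distrib]
        congr 1
        refine Finset.sum_congr rfl fun i _ => ?_
        simp only [map_mul, map_neg]
        ring
      rw [hE]
      exact Subalgebra.mul_mem _ (Algebra.subset_adjoin ⟨_, rfl⟩) hsum

omit [FiniteDimensional k k'] in
theorem val_pow_mul_le_one {P : Place k K} {t : K} (ht : P.1 t = WithZero.exp (-1 : ℤ)) (x : K)
    {n : ℕ} (hn : (WithZero.log (P.1 x)).toNat ≤ n) : P.1 (t ^ n * x) ≤ 1 := by
  by_cases hx : x = 0
  · rw [hx, mul_zero, map_zero]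
    exact zero_le_one
  have hx0 : P.1 x ≠ 0 := (Valuation.ne_zero_iff _).mpr hx
  rw [map_mul, map_pow, ht, GD.exp_pow_eq, ← WithZero.exp_log hx0, ← WithZero.exp_add]
  refine le_of_le_of_eq (WithZero.exp_le_exp.mpr ?_) WithZero.exp_zero
  have h1 := Int.self_le_toNat (WithZero.log (P.1 x))
  have h2 : ((WithZero.log (P.1 x)).toNat : ℤ) ≤ n := by exact_mod_cast hn
  linarith

/-- a power of a uniformizer multiplies a finite family into `O_P[k']`. -/
theorem exists_conductor_pow
    (h : Function.Bijective (Algebra.TensorProduct.productMap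
      (IsScalarTower.toAlgHom k k' K') (IsScalarTower.toAlgHom k K K')))
    (P : Place k K) {m : ℕ} (r : Fin m → K') :
    ∃ n : ℕ, ∀ t : K, P.1 t = WithZero.exp (-1 : ℤ) → ∀ i, algebraMap K K' (t ^ n) * r i ∈
      Algebra.adjoin (P.O.toSubring.map (algebraMap K K')) (Set.range (algebraMap k' K')) := by
  classical
  let b := Module.finBasis k k'
  choose a ha using fun i => exists_coeff (L := K') h.2 b (r i)
  refine ⟨Finset.univ.sup (fun p : Fin m × Fin (Module.finrank k k') =>
    (WithZero.log (P.1 (a p.1 p.2))).toNat), ?_⟩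
  intro t ht i
  rw [mem_adjoin_iff (L := K') b P]
  refine ⟨fun j => t ^ (Finset.univ.sup (fun p : Fin m × Fin (Module.finrank k k') =>
    (WithZero.log (P.1 (a p.1 p.2))).toNat)) * a i j, fun j => ?_, ?_⟩
  · exact val_pow_mul_le_one ht _
      (Finset.le_sup (f := fun p : Fin m × Fin (Module.finrank k k') =>
        (WithZero.log (P.1 (a p.1 p.2))).toNat) (Finset.mem_univ (i, j)))
  · rw [ha i, Finset.mul_sum]
    refine Finset.sum_congr rfl fun j _ => ?_
    rw [map_mul]
    ring

omit [FiniteDimensional k k'] in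
theorem mem_adjoin_O_iff (P : Place k K) [Algebra P.O K'] [IsScalarTower P.O K K'] (X : Set K')
    (z : K') : z ∈ Algebra.adjoin P.O X ↔
      z ∈ Algebra.adjoin (P.O.toSubring.map (algebraMap K K')) X := by
  have hrange := range_algebraMap_O (L := K') P
  constructor
  · intro hz
    have h1 : z ∈ (Algebra.adjoin P.O X).toSubring := hz
    rw [Algebra.adjoin_eq_ring_closure, hrange] at h1
    have h3 : z ∈ (Algebra.adjoin (P.O.toSubring.map (algebraMap K K')) X).toSubring := by
      rw [Algebra.adjoin_eq_ring_closure, range_algebraMap_subring]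
      exact h1
    exact h3
  · intro hz
    have h3 : z ∈ (Algebra.adjoin (P.O.toSubring.map (algebraMap K K')) X).toSubring := hz
    rw [Algebra.adjoin_eq_ring_closure, range_algebraMap_subring, ← hrange,
      ← Algebra.adjoin_eq_ring_closure] at h3
    exact h3

/-- `R / R̃` is finite dimensional over `k` and the conductor is nonzero. -/
theorem conductor_main
    (h : Function.Bijective (Algebra.TensorProduct.productMap
      (IsScalarTower.toAlgHom k k' K') (IsScalarTower.toAlgHom k K K')))
    (hK : IsFunctionField k K) (hg : IsGeometric k K)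
    (P : Place k K) [Algebra P.O K'] [IsScalarTower P.O K K'] :
    (∃ V : Submodule k K', FiniteDimensional k V ∧ ∀ r ∈ integralClosure P.O K',
        ∃ s ∈ Algebra.adjoin P.O (Set.range (algebraMap k' K')), r - s ∈ V) ∧
    (∃ c ∈ integralClosure P.O K', c ≠ 0 ∧ ∀ r ∈ integralClosure P.O K',
        c * r ∈ Algebra.adjoin P.O (Set.range (algebraMap k' K'))) := by
  classical
  haveI : FiniteDimensional K K' := Geo.finiteDimensional_of_bijective h
  have hadj : ∀ z : K', z ∈ Algebra.adjoin P.O (Set.range (algebraMap k' K')) ↔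
      z ∈ Algebra.adjoin (P.O.toSubring.map (algebraMap K K'))
        (Set.range (algebraMap k' K')) := mem_adjoin_O_iff P _
  have hIC : ∀ z : K', z ∈ integralClosure P.O K' ↔
      ∀ Q : Place k K', IsOver Q P → Q.1 z ≤ 1 :=
    fun z => IntCl.isIntegral_iff_forall_isOver hK P z
  obtain ⟨m, r, hr, hmax⟩ := exists_max_family h hK hg P
  constructor
  · refine ⟨LinearMap.range ((Fintype.linearCombination k' r).restrictScalars k),
      LinearMap.finiteDimensional_range _, ?_⟩
    intro z hz
    obtain ⟨d, hd⟩ := hmax z ((hIC z).mp hz)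
    refine ⟨z - ∑ i, algebraMap k' K' (d i) * r i, (hadj _).mpr hd, ?_⟩
    rw [sub_sub_cancel]
    refine ⟨d, ?_⟩
    show Fintype.linearCombination k' r d = _
    rw [Fintype.linearCombination_apply]
    refine Finset.sum_congr rfl fun i _ => ?_
    rw [Algebra.smul_def]
  · obtain ⟨n, hn⟩ := exists_conductor_pow h P r
    obtain ⟨t, ht0, ht⟩ := exists_unif P
    have hexp1 : (WithZero.exp (-1 : ℤ) : WithZero (Multiplicative ℤ)) ≤ 1 := by
      rw [← WithZero.exp_zero, WithZero.exp_le_exp]; norm_num
    have htn : P.1 (t ^ n) ≤ 1 := by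
      rw [map_pow, ht]
      exact pow_le_one₀ zero_le' hexp1
    refine ⟨algebraMap K K' (t ^ n), ?_, ?_, ?_⟩
    · rw [hIC]
      intro Q hQ
      obtain ⟨e, he⟩ := hQ
      rw [isOverWith_val_le_one_iff he]
      exact htn
    · rw [Ne, map_eq_zero_iff _ (algebraMap K K').injective]
      exact pow_ne_zero n ht0
    · intro z hz
      obtain ⟨d, hd⟩ := hmax z ((hIC z).mp hz)
      rw [hadj]
      have hz' : z = (z - ∑ i, algebraMap k' K' (d i) * r i) +
          ∑ i, algebraMap k' K' (d i) * r i := by ring
      rw [hz', mul_add, Finset.mul_sum]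
      refine Subalgebra.add_mem _ (Subalgebra.mul_mem _ (algebraMap_mem_adjoin P _ htn) hd)
        (Subalgebra.sum_mem _ fun i _ => ?_)
      have h5 : algebraMap K K' (t ^ n) * (algebraMap k' K' (d i) * r i) =
          algebraMap k' K' (d i) * (algebraMap K K' (t ^ n) * r i) := by ring
      rw [h5]
      exact Subalgebra.mul_mem _ (Algebra.subset_adjoin ⟨_, rfl⟩) (hn t ht i)

end Cond

end Groth.Agent.Lib.Helper23.CExt
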