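import Mathlib
import Groth.Agent.Lib.Helper23.CExt5

/-! The constant field extension to an algebraic closure: every place is defined over a finite
extension. -/

set_option autoImplicit false

namespace Groth.Agent.Lib.Helper23.AC

open FunFld TensorProduct
open Groth.Agent.Lib.Helper27
open Groth.Agent.Lib.Helper27.FF
open scoped IntermediateField

universe u v

variable {k kbar : Type u} {K Kbar : Type v} [Field k] [Field kbar] [Field K] [Field Kbar]
  [Algebra k kbar] [Algebra k K] [Algebra K Kbar] [Algebra kbar Kbar] [Algebra k Kbar]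
  [IsScalarTower k kbar Kbar] [IsScalarTower k K Kbar]

theorem isAlgebraic_of_surjective [Algebra.IsAlgebraic k kbar]
    (hsurj : Function.Surjective (Algebra.TensorProduct.productMap
      (IsScalarTower.toAlgHom k kbar Kbar) (IsScalarTower.toAlgHom k K Kbar))) :
    Algebra.IsAlgebraic K Kbar := by
  refine ⟨fun z => ?_⟩
  suffices hz : IsIntegral K z from hz.isAlgebraic
  obtain ⟨t, rfl⟩ := hsurj z
  induction t using TensorProduct.induction_on with
  | zero =>
    rw [map_zero]
    exact isIntegral_zero
  | tmul c x =>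
    rw [Algebra.TensorProduct.productMap_apply_tmul]
    show IsIntegral K (algebraMap kbar Kbar c * algebraMap K Kbar x)
    refine IsIntegral.mul ?_ isIntegral_algebraMap
    have hc : IsIntegral k c := (Algebra.IsAlgebraic.isAlgebraic c).isIntegral
    have h1 : IsIntegral k (algebraMap kbar Kbar c) :=
      hc.map (IsScalarTower.toAlgHom k kbar Kbar)
    exact h1.tower_top
  | add a b ha hb =>
    rw [map_add]
    exact ha.add hb

theorem isFunctionField_algClosure [IsAlgClosure k kbar]
    (hsurj : Function.Surjective (Algebra.TensorProduct.productMap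
      (IsScalarTower.toAlgHom k kbar Kbar) (IsScalarTower.toAlgHom k K Kbar)))
    (hK : IsFunctionField k K) : IsFunctionField kbar Kbar := by
  classical
  haveI : Algebra.IsAlgebraic k kbar := IsAlgClosure.isAlgebraic
  haveI : IsAlgClosed kbar := IsAlgClosure.isAlgClosed k
  obtain ⟨⟨x₀, hx₀, hfin⟩, -⟩ := id hK
  haveI := hfin
  have hxk : Transcendental k (algebraMap K Kbar x₀) :=
    (transcendental_algebraMap_iff (algebraMap K Kbar).injective).mpr hx₀
  have hxk' : Transcendental kbar (algebraMap K Kbar x₀) :=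
    fun halg => hxk (IsAlgebraic.restrictScalars k halg)
  refine ⟨⟨algebraMap K Kbar x₀, hxk', ?_⟩, ?_⟩
  · let b := Module.finBasis k⟮x₀⟯ K
    have hmemK : ∀ f : k⟮x₀⟯, algebraMap K Kbar (f : K) ∈ kbar⟮algebraMap K Kbar x₀⟯ := by
      intro f
      have h2 : (k⟮x₀⟯).map (IsScalarTower.toAlgHom k K Kbar) ≤
          (kbar⟮algebraMap K Kbar x₀⟯).restrictScalars k := by
        rw [IntermediateField.adjoin_map, Set.image_singleton, IntermediateField.adjoin_le_iff]
        rintro _ rfl
        exact IntermediateField.mem_adjoin_simple_self kbar (algebraMap K Kbar x₀)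
      exact h2 ⟨f, f.2, rfl⟩
    have hspan : Submodule.span kbar⟮algebraMap K Kbar x₀⟯
        (Set.range fun j => algebraMap K Kbar (b j)) = ⊤ := by
      rw [eq_top_iff]
      rintro z -
      obtain ⟨t, rfl⟩ := hsurj z
      induction t using TensorProduct.induction_on with
      | zero =>
        rw [map_zero]
        exact Submodule.zero_mem _
      | tmul c a =>
        rw [Algebra.TensorProduct.productMap_apply_tmul]
        show algebraMap kbar Kbar c * algebraMap K Kbar a ∈ _
        have ha : a = ∑ j, (b.repr a j) • b j := (b.sum_repr a).symm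
        rw [ha, map_sum, Finset.mul_sum]
        refine Submodule.sum_mem _ fun j _ => ?_
        rw [Algebra.smul_def, map_mul, ← mul_assoc]
        have hcoef : algebraMap kbar Kbar c *
            algebraMap K Kbar (algebraMap k⟮x₀⟯ K (b.repr a j)) ∈
            kbar⟮algebraMap K Kbar x₀⟯ :=
          mul_mem (IntermediateField.algebraMap_mem _ c) (hmemK _)
        have h3 := Submodule.smul_mem (Submodule.span kbar⟮algebraMap K Kbar x₀⟯
          (Set.range fun j => algebraMap K Kbar (b j)))
          (⟨_, hcoef⟩ : kbar⟮algebraMap K Kbar x₀⟯)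
          (Submodule.subset_span
            (Set.mem_range_self (f := fun j => algebraMap K Kbar (b j)) j))
        exact h3
      | add a b ha hb =>
        rw [map_add]
        exact Submodule.add_mem _ ha hb
    refine ⟨⟨Finset.univ.image (fun j => algebraMap K Kbar (b j)), ?_⟩⟩
    rw [Finset.coe_image, Finset.coe_univ, Set.image_univ]
    exact hspan
  · intro y hy
    have hdeg := IsAlgClosed.degree_eq_one_of_irreducible kbar
      (minpoly.irreducible hy.isIntegral)
    exact minpoly.mem_range_of_degree_eq_one kbar y hdeg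

theorem adjoin_mono_field {k₁ k₂ : IntermediateField k kbar} (h12 : k₁ ≤ k₂) :
    Algebra.adjoin K (Set.range fun c : k₁ => algebraMap kbar Kbar c) ≤
      Algebra.adjoin K (Set.range fun c : k₂ => algebraMap kbar Kbar c) := by
  apply Algebra.adjoin_mono
  rintro _ ⟨c, rfl⟩
  exact ⟨⟨c, h12 c.2⟩, rfl⟩

theorem exists_finite_subfield_one [Algebra.IsAlgebraic k kbar]
    (hsurj : Function.Surjective (Algebra.TensorProduct.productMap
      (IsScalarTower.toAlgHom k kbar Kbar) (IsScalarTower.toAlgHom k K Kbar))) (z : Kbar) :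
    ∃ k' : IntermediateField k kbar, FiniteDimensional k k' ∧
      z ∈ Algebra.adjoin K (Set.range fun c : k' => algebraMap kbar Kbar c) := by
  obtain ⟨t, rfl⟩ := hsurj z
  induction t using TensorProduct.induction_on with
  | zero =>
    exact ⟨⊥, inferInstance, by rw [map_zero]; exact Subalgebra.zero_mem _⟩
  | tmul c x =>
    refine ⟨k⟮c⟯, IntermediateField.adjoin.finiteDimensional
      (Algebra.IsAlgebraic.isAlgebraic c).isIntegral, ?_⟩
    rw [Algebra.TensorProduct.productMap_apply_tmul]
    show algebraMap kbar Kbar c * algebraMap K Kbar x ∈ _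
    refine Subalgebra.mul_mem _ (Algebra.subset_adjoin ?_) (Subalgebra.algebraMap_mem _ x)
    exact ⟨⟨c, IntermediateField.mem_adjoin_simple_self k c⟩, rfl⟩
  | add a b ha hb =>
    obtain ⟨k₁, hfd₁, h₁⟩ := ha
    obtain ⟨k₂, hfd₂, h₂⟩ := hb
    haveI := hfd₁
    haveI := hfd₂
    refine ⟨k₁ ⊔ k₂, inferInstance, ?_⟩
    rw [map_add]
    exact Subalgebra.add_mem _ (adjoin_mono_field le_sup_left h₁)
      (adjoin_mono_field le_sup_right h₂)

theorem exists_finite_subfield [Algebra.IsAlgebraic k kbar]
    (hsurj : Function.Surjective (Algebra.TensorProduct.productMap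
      (IsScalarTower.toAlgHom k kbar Kbar) (IsScalarTower.toAlgHom k K Kbar)))
    (s : Finset Kbar) :
    ∃ k' : IntermediateField k kbar, FiniteDimensional k k' ∧
      ∀ z ∈ s, z ∈ Algebra.adjoin K (Set.range fun c : k' => algebraMap kbar Kbar c) := by
  classical
  induction s using Finset.induction_on with
  | empty => exact ⟨⊥, inferInstance, fun z hz => absurd hz (Finset.notMem_empty z)⟩
  | insert z s hzs ih =>
    obtain ⟨k₁, hfd₁, h₁⟩ := ih
    obtain ⟨k₂, hfd₂, h₂⟩ := exists_finite_subfield_one (K := K) hsurj z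
    haveI := hfd₁
    haveI := hfd₂
    refine ⟨k₁ ⊔ k₂, inferInstance, ?_⟩
    intro w hw
    rcases Finset.mem_insert.mp hw with rfl | hw'
    · exact adjoin_mono_field le_sup_right h₂
    · exact adjoin_mono_field le_sup_left (h₁ w hw')

/-- every place of `k̄ ⊗ K` is defined over a finite extension of `k`. -/
theorem place_defined_over_finite [IsAlgClosure k kbar]
    (h : Function.Bijective (Algebra.TensorProduct.productMap
      (IsScalarTower.toAlgHom k kbar Kbar) (IsScalarTower.toAlgHom k K Kbar)))
    (hK : IsFunctionField k K) (Q : Place kbar Kbar) :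
    ∃ k' : IntermediateField k kbar, FiniteDimensional k k' ∧
      (∃ z ∈ Algebra.adjoin K (Set.range fun c : k' => algebraMap kbar Kbar c),
        Q.1 z = WithZero.exp (-1)) ∧
      ∀ Q' : Place kbar Kbar,
        (∃ e : ℕ, ∀ z ∈ Algebra.adjoin K (Set.range fun c : k' => algebraMap kbar Kbar c),
          Q'.1 z = Q.1 z ^ e) → Q' = Q := by
  classical
  haveI : Algebra.IsAlgebraic k kbar := IsAlgClosure.isAlgebraic
  haveI : Algebra.IsAlgebraic K Kbar := isAlgebraic_of_surjective h.2
  have hKbar := isFunctionField_algClosure h.2 hK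
  obtain ⟨z, hz0, hz⟩ := exists_unif Q
  obtain ⟨x, hx0, hx1⟩ := exists_val_lt_one_of_algebraic (K := K) (Place.down (k := k) Q)
  have hxbar0 : algebraMap K Kbar x ≠ 0 :=
    (map_ne_zero_iff _ (algebraMap K Kbar).injective).mpr hx0
  have hZ := Groth.Agent.Lib.Helper23.FF.finite_zeros_of_ne_zero hKbar hxbar0
  have hsep : ∀ Q' : Place kbar Kbar, Q' ≠ Q → ∃ u : Kbar, ¬ (Q'.1 u ≤ 1 ↔ Q.1 u ≤ 1) := by
    intro Q' hne
    by_contra hcon
    push Not at hcon
    exact hne (place_eq_of_le_one_iff Q' Q hcon)
  choose! u hu using hsep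
  obtain ⟨k', hfd, hk'⟩ := exists_finite_subfield (K := K) h.2
    (insert z (hZ.toFinset.image u))
  refine ⟨k', hfd, ⟨z, hk' z (Finset.mem_insert_self _ _), hz⟩, ?_⟩
  rintro Q' ⟨e, he⟩
  by_contra hne
  have hxmem : algebraMap K Kbar x ∈
      Algebra.adjoin K (Set.range fun c : k' => algebraMap kbar Kbar c) :=
    Subalgebra.algebraMap_mem _ x
  have he0 : e ≠ 0 := by
    rintro rfl
    obtain ⟨x', hx'0, hx'1⟩ :=
      exists_val_lt_one_of_algebraic (K := K) (Place.down (k := k) Q')
    have h1 := he _ (Subalgebra.algebraMap_mem _ x')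
    rw [pow_zero] at h1
    have h2 : Q'.1 (algebraMap K Kbar x') < 1 := hx'1
    rw [h1] at h2
    exact lt_irrefl _ h2
  have hQ'Z : Q' ∈ hZ.toFinset := by
    rw [Set.Finite.mem_toFinset]
    show Q'.1 (algebraMap K Kbar x) < 1
    rw [he _ hxmem]
    have h2 : Q.1 (algebraMap K Kbar x) < 1 := hx1
    exact pow_lt_one₀ zero_le' h2 he0
  have humem := hk' (u Q') (Finset.mem_insert_of_mem (Finset.mem_image_of_mem u hQ'Z))
  apply hu Q' hne
  rw [he _ humem]
  exact pow_le_one_iff_of_nonneg zero_le' he0

end Groth.Agent.Lib.Helper23.AC
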