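import Groth.Agent.Lib.Helper23.CurveH
import Groth.Agent.Lib.Helper23.StructPush
import Groth.Agent.Lib.Helper3.InvMonoidal

/-!
# AmpleCurve1: multiplication by a section and the first cohomology of powers on a proper curve
-/
set_option autoImplicit false
set_option linter.style.haveILetI false
universe u
open CategoryTheory CategoryTheory.Limits Opposite TopologicalSpace AlgebraicGeometry
open Groth.Agent.Lib.Helper3 Groth.Agent.Lib.Helper3.QCSec Groth.Agent.Lib.Helper3.InvGen
  Groth.Agent.Lib.Helper3.InvTensor Groth.Agent.Lib.Helper3.InvMonoidal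
open Groth.Agent.Lib.Helper23.T2

noncomputable section

namespace Groth.Agent.Lib.Helper23.AmpleCurve

open Groth.Agent.Lib.Helper23.Curve

variable {X : Scheme.{u}}

/-- multiplication by a section `s` of `P`: `M ⟶ M ⊗ P` -/
def mulBy (M : X.Modules) {P : X.Modules} (s : Coh.structureModule X ⟶ P) :
    M ⟶ CohB1.tensorMod M P :=
  (SecTwist.unitorR M).inv ≫ tensorMap (𝟙 M) s

theorem unitorR_inv_app (M : X.Modules) (U : X.Opens) (t : Γ(M, U)) :
    (SecTwist.unitorR M).inv.app U t = tm M (Coh.structureModule X) U t (ofFun U 1) := by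
  have h := unitorR_hom_tm M U t 1
  rw [one_smul] at h
  have h2 := iso_hom_inv_app (SecTwist.unitorR M).symm U
    (tm M (Coh.structureModule X) U t (ofFun U 1))
  change (SecTwist.unitorR M).inv.app U ((SecTwist.unitorR M).hom.app U _) = _ at h2
  rw [h] at h2
  exact h2

theorem mulBy_app (M : X.Modules) {P : X.Modules} (s : Coh.structureModule X ⟶ P) (U : X.Opens)
    (t : Γ(M, U)) : (mulBy M s).app U t = tm M P U t (sec s U) := by
  unfold mulBy
  change (tensorMap (𝟙 M) s).app U ((SecTwist.unitorR M).inv.app U t) = _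
  rw [unitorR_inv_app, tensorMap_tm]
  have h1 : s.app U (ofFun U 1) = sec s U := by
    rw [app_eq_smul_sec, one_smul]
  rw [h1]
  rfl

/-- a common affine open with generators of two invertible modules around a point -/
theorem exists_common_gen {M P : X.Modules} (hM : PicF.IsInvertible M) (hP : PicF.IsInvertible P)
    (x : X) (W : X.Opens) (hxW : x ∈ W) :
    ∃ (U : X.Opens) (eM : Γ(M, U)) (eP : Γ(P, U)), IsAffineOpen U ∧ x ∈ U ∧ U ≤ W ∧
      IsGen M U eM ∧ IsGen P U eP := by
  obtain ⟨U₁, e₁, -, hxU₁, hU₁W, hg₁⟩ := exists_affine_isGen_le hM x W hxW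
  obtain ⟨U₂, e₂, hU₂, hxU₂, hU₂U₁, hg₂⟩ := exists_affine_isGen_le hP x U₁ hxU₁
  exact ⟨U₂, res M hU₂U₁ e₁, e₂, hU₂, hxU₂, hU₂U₁.trans hU₁W, hg₁.mono hU₂U₁, hg₂⟩

theorem mulBy_ne_zero [IsIntegral X] {M P : X.Modules} (hM : PicF.IsInvertible M)
    (hP : PicF.IsInvertible P) (s : Coh.structureModule X ⟶ P) (hs : s ≠ 0) :
    mulBy M s ≠ 0 := by
  intro h0
  apply hs
  obtain ⟨x⟩ : Nonempty X := inferInstance
  obtain ⟨U, eM, eP, -, hxU, -, hgM, hgP⟩ := exists_common_gen hM hP x ⊤ trivial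
  obtain ⟨f, hf⟩ := hgP.self.exists_coord (sec s U)
  have h1 : (mulBy M s).app U eM = 0 := by rw [h0]; rfl
  rw [mulBy_app, ← hf, tm_smul_right] at h1
  have hf0 : f = 0 := (isGen_tm hgM hgP).self.eq_zero h1
  have hsec : s.app U (ofFun U 1) = 0 := by
    rw [app_eq_smul_sec, one_smul, ← hf, hf0, zero_smul]
  exact eq_zero_of_local_zero hP s U ⟨x, hxU⟩ (ofFun U 1) (isGen_one U) hsec

section Coh

variable (k : Type u) [Field k] [X.Over (Spec (CommRingCat.of k))]
  [IsProper (X ↘ Spec (CommRingCat.of k))] [IsIntegral X]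

include k in
/-- `H¹(M) ⟶ H¹(M ⊗ P)` is surjective -/
theorem surjective_H1_mulBy (hdim : topologicalKrullDim X ≤ 1) {M P : X.Modules}
    (hM : PicF.IsInvertible M) (hP : PicF.IsInvertible P) (s : Coh.structureModule X ⟶ P)
    (hs : s ≠ 0) : Function.Surjective (Hmap (mulBy M s) 1) := by
  obtain ⟨hmono, -, hfl, -⟩ := invertible_map k hdim hM (isInvertible_tensorMod hM hP)
    (mulBy M s) (mulBy_ne_zero hM hP s hs)
  haveI := hmono
  have hS := cokerSC_shortExact (mulBy M s)
  have hQ : Subsingleton (Coh.HH X (cokernel (mulBy M s)) 1) := acyclic_of_isFlq hfl 0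
  intro y
  exact exact₂ (cokerSC (mulBy M s)) hS 1 y (hQ.elim _ _)

include k in
/-- if `h¹(M ⊗ P) = h¹(M)` then `H⁰(M ⊗ P) ⟶ H⁰(coker)` is surjective -/
theorem surjective_H0_of_finrank_eq (hdim : topologicalKrullDim X ≤ 1) {M P : X.Modules}
    (hM : PicF.IsInvertible M) (hP : PicF.IsInvertible P) (s : Coh.structureModule X ⟶ P)
    (hs : s ≠ 0)
    (heq : Module.finrank k (Coh.HH X (CohB1.tensorMod M P) 1) =
      Module.finrank k (Coh.HH X M 1)) :
    Function.Surjective (Hmap (cokernel.π (mulBy M s)) 0) := by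
  obtain ⟨hmono, -, hfl, -⟩ := invertible_map k hdim hM (isInvertible_tensorMod hM hP)
    (mulBy M s) (mulBy_ne_zero hM hP s hs)
  haveI := hmono
  have hS := cokerSC_shortExact (mulBy M s)
  haveI : Module.Finite k (Coh.HH X M 1) := finite_HH k M (isCoh_of_isInvertible hM) 1
  haveI : Module.Finite k (Coh.HH X (CohB1.tensorMod M P) 1) :=
    finite_HH k _ (isCoh_of_isInvertible (isInvertible_tensorMod hM hP)) 1
  have hsurj : Function.Surjective (FBC.HmapK k (mulBy M s) 1) :=
    surjective_H1_mulBy k hdim hM hP s hs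
  have hinj : Function.Injective (FBC.HmapK k (mulBy M s) 1) :=
    (LinearMap.injective_iff_surjective_of_finrank_eq_finrank heq.symm).2 hsurj
  intro q
  have hδ : Hδ (cokerSC (mulBy M s)) hS 0 q = 0 := by
    apply hinj
    rw [map_zero]
    exact Hmap_f_Hδ (cokerSC (mulBy M s)) hS 0 q
  exact exact₃ (cokerSC (mulBy M s)) hS 0 q hδ

end Coh

end Groth.Agent.Lib.Helper23.AmpleCurve
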