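import Groth.Agent.Lib.Helper23.AmpleCurve9
import Groth.Agent.Lib.Helper23.CurveA

/-!
# AmpleCurve10: a global section generating at all zeros of a given section simultaneously
-/
set_option autoImplicit false
set_option linter.style.haveILetI false
universe u
open CategoryTheory CategoryTheory.Limits Opposite TopologicalSpace AlgebraicGeometry
open Groth.Agent.Lib.Helper3 Groth.Agent.Lib.Helper3.QCSec Groth.Agent.Lib.Helper3.InvGen
  Groth.Agent.Lib.Helper3.InvTensor Groth.Agent.Lib.Helper3.InvMonoidal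
  Groth.Agent.Lib.Helper3.InvAmple
open Groth.Agent.Lib.Helper23.T2

noncomputable section

namespace Groth.Agent.Lib.Helper23.AmpleCurve

open Groth.Agent.Lib.Helper23.Curve Groth.Agent.Lib.Helper23.Dev

variable {X : Scheme.{u}}

/-- multiplication by `s` is bijective on sections over opens where `s` generates -/
theorem isoOn_mulBy (M : X.Modules) {P : X.Modules} (s : Coh.structureModule X ⟶ P) :
    IsoOn (mulBy M s) (CohB1.genLocus P s) := by
  intro V hV
  have hgen : IsGen P (CohB1.genLocus P s) (sec s _) := isGen_genLocus s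
  have h := tm_gen_bijective M P hgen V hV
  have he : (fun z : Γ(M, V) => tm M P V z (res P hV (sec s (CohB1.genLocus P s)))) =
      (mulBy M s).app V := by
    funext z
    rw [mulBy_app, res_sec]
  rw [he] at h
  exact h

theorem vanishesOn_cokernel_mulBy (M : X.Modules) {P : X.Modules}
    (s : Coh.structureModule X ⟶ P) :
    VanishesOn (cokernel (mulBy M s)) (CohB1.genLocus P s) :=
  vanishesOn_cokernel_of_comp (mulBy M s) (mulBy M s) (𝟙 M) (Category.id_comp _)
    (isoOn_mulBy M s)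

/-- a global section congruent to a local generator modulo `s` generates near the zeros of `s` -/
theorem isGen_of_cokernel_eq [IsIntegral X] {M P : X.Modules} (s : Coh.structureModule X ⟶ P)
    [Mono (mulBy M s)] (t : Γ(CohB1.tensorMod M P, ⊤)) (W : X.Opens) (eM : Γ(M, W))
    (eP : Γ(P, W)) (hgM : IsGen M W eM) (hgP : IsGen P W eP)
    (hq : (cokernel.π (mulBy M s)).app W (res _ le_top t) =
      (cokernel.π (mulBy M s)).app W (tm M P W eM eP))
    (x : X) (hxW : x ∈ W) (hx : x ∉ CohB1.genLocus P s) :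
    ∃ U : X.Opens, x ∈ U ∧ IsGen (CohB1.tensorMod M P) U (res _ le_top t) := by
  obtain ⟨f, hf⟩ := hgP.self.exists_coord (sec s W)
  have hxf : x ∉ X.basicOpen f := by
    rw [← genLocus_inf_eq_basicOpen s hgP f hf.symm]
    exact fun h => hx h.1
  have hge := isGen_tm hgM hgP
  have hker : (cokernel.π (mulBy M s)).app W (res _ le_top t - tm M P W eM eP) = 0 := by
    rw [QCExact.app_sub]
    exact sub_eq_zero.2 hq
  obtain ⟨a, ha⟩ := QCExact.exact_sections (cokerSC (mulBy M s))
    (cokerSC_shortExact (mulBy M s)).exact W _ hker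
  obtain ⟨c, hc⟩ := hgM.self.exists_coord a
  have ha' : (mulBy M s).app W a = (c * f) • tm M P W eM eP := by
    rw [mulBy_app, ← hc, ← hf, tm_smul_left, tm_smul_right, smul_smul]
  have hres : res (CohB1.tensorMod M P) le_top t = (1 + c * f) • tm M P W eM eP := by
    have h1 : res (CohB1.tensorMod M P) le_top t =
        tm M P W eM eP + (mulBy M s).app W a := by
      have : (mulBy M s).app W a = res _ le_top t - tm M P W eM eP := ha
      rw [this]
      abel
    rw [h1, ha', add_smul, one_smul]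
  refine ⟨X.basicOpen (1 + c * f), mem_basicOpen_one_add f c x hxW hxf, ?_⟩
  have hle : X.basicOpen (1 + c * f) ≤ W := X.basicOpen_le _
  have h2 : res (CohB1.tensorMod M P) (le_top : X.basicOpen (1 + c * f) ≤ ⊤) t =
      rres X hle (1 + c * f) • res _ hle (tm M P W eM eP) := by
    rw [← res_smul, ← hres, res_res]
  rw [h2]
  exact (hge.mono hle).smul_unit (RingedSpace.isUnit_res_basicOpen X.toRingedSpace (1 + c * f))

section Main

variable (k : Type u) [Field k] [X.Over (Spec (CommRingCat.of k))]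
  [IsProper (X ↘ Spec (CommRingCat.of k))] [IsIntegral X]

include k in
/-- if `H⁰(M ⊗ P) ⟶ H⁰(coker (·s))` is surjective, some global section of `M ⊗ P` generates
near every zero of `s` -/
theorem exists_section_isGen_all (hdim : topologicalKrullDim X ≤ 1) {M P : X.Modules}
    (hM : PicF.IsInvertible M) (hP : PicF.IsInvertible P) (s : Coh.structureModule X ⟶ P)
    (hs : s ≠ 0) [Mono (mulBy M s)] (hfl : IsFlq (cokernel (mulBy M s)))
    (hsurj : Function.Surjective (Hmap (cokernel.π (mulBy M s)) 0)) :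
    ∃ t : Γ(CohB1.tensorMod M P, ⊤), ∀ x : X, x ∉ CohB1.genLocus P s →
      ∃ U : X.Opens, x ∈ U ∧ IsGen (CohB1.tensorMod M P) U (res _ le_top t) := by
  haveI := isNoetherian_of_isProper k X
  obtain ⟨Z, hZdef⟩ : ∃ Z : Set X, Z = ((CohB1.genLocus P s : X.Opens) : Set X)ᶜ := ⟨_, rfl⟩
  have hZmem : ∀ y : X, y ∈ Z ↔ y ∉ CohB1.genLocus P s := by
    intro y; rw [hZdef]; rfl
  have hZcl : IsClosed Z := by
    rw [hZdef]; exact (CohB1.genLocus P s).isOpen.isClosed_compl
  have hZne : Z ≠ Set.univ := by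
    obtain ⟨x, hx⟩ := exists_mem_genLocus hP s hs
    intro h
    have : x ∈ Z := h ▸ Set.mem_univ x
    exact (hZmem x).1 this hx
  obtain ⟨hZfin, hZpt⟩ := finite_of_isClosed_ne_univ hdim Z hZcl hZne
  have hloc : ∀ x : Z, ∃ (W : X.Opens) (eM : Γ(M, W)) (eP : Γ(P, W)), x.1 ∈ W ∧ IsGen M W eM ∧
      IsGen P W eP ∧ ∀ y ∈ W, y ∈ Z → y = x.1 := by
    intro x
    have hcl : IsClosed (Z \ {x.1}) := by
      have h1 : (Z \ {x.1}) = ⋃ z ∈ (Z \ {x.1}), ({z} : Set X) :=
        (Set.biUnion_of_singleton _).symm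
      rw [h1]
      exact (hZfin.subset Set.diff_subset).isClosed_biUnion (fun z hz => hZpt z hz.1)
    let O : X.Opens := ⟨(Z \ {x.1})ᶜ, hcl.isOpen_compl⟩
    have hxO : x.1 ∈ O := fun h => h.2 rfl
    obtain ⟨U, eM, eP, -, hxU, hUO, hgM, hgP⟩ := exists_common_gen hM hP x.1 O hxO
    refine ⟨U, eM, eP, hxU, hgM, hgP, fun y hyU hyZ => ?_⟩
    by_contra hne
    exact hUO hyU ⟨hyZ, hne⟩
  choose W eM eP hxW hgM hgP huniq using hloc
  have hvan := vanishesOn_cokernel_mulBy M s
  have hcompat : ∀ i j : Z,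
      res (cokernel (mulBy M s)) (inf_le_left : W i ⊓ W j ≤ W i)
        ((cokernel.π (mulBy M s)).app (W i) (tm M P (W i) (eM i) (eP i))) =
      res (cokernel (mulBy M s)) (inf_le_right : W i ⊓ W j ≤ W j)
        ((cokernel.π (mulBy M s)).app (W j) (tm M P (W j) (eM j) (eP j))) := by
    intro i j
    by_cases hij : i = j
    · subst hij; rfl
    · have hle : W i ⊓ W j ≤ CohB1.genLocus P s := by
        intro y hy
        by_contra hyZ
        have h1 := huniq i y hy.1 ((hZmem y).2 hyZ)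
        have h2 := huniq j y hy.2 ((hZmem y).2 hyZ)
        exact hij (Subtype.ext (h1.symm.trans h2))
      rw [hvan _ hle (res _ _ _)]
      exact (hvan _ hle _).symm
  obtain ⟨b, hb⟩ := sec_glue (cokernel (mulBy M s)) W (⨆ i, W i) (fun i => le_iSup W i) le_rfl
    (fun i => (cokernel.π (mulBy M s)).app (W i) (tm M P (W i) (eM i) (eP i))) hcompat
  obtain ⟨q, hq⟩ := hfl (homOfLE (le_top : (⨆ i, W i) ≤ ⊤)).op b
  obtain ⟨y, hy⟩ := hsurj ((H0equiv (cokernel (mulBy M s))).symm q)
  have hy' : (cokernel.π (mulBy M s)).app ⊤ (H0equiv _ y) = q := by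
    have h := H0equiv_naturality (cokernel.π (mulBy M s)) y
    rw [hy, LinearEquiv.apply_symm_apply] at h
    exact h.symm
  refine ⟨H0equiv _ y, fun x hx => ?_⟩
  have hxZ : x ∈ Z := (hZmem x).2 hx
  refine isGen_of_cokernel_eq s _ (W ⟨x, hxZ⟩) (eM ⟨x, hxZ⟩) (eP ⟨x, hxZ⟩) (hgM ⟨x, hxZ⟩)
    (hgP ⟨x, hxZ⟩) ?_ x (hxW ⟨x, hxZ⟩) hx
  rw [QCExact.app_res', hy']
  have h1 : res (cokernel (mulBy M s)) (le_top : W ⟨x, hxZ⟩ ≤ ⊤) q =
      res _ (le_iSup W ⟨x, hxZ⟩) (res _ (le_top : (⨆ i, W i) ≤ ⊤) q) := (res_res _ _ _ q).symm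
  have hqb : res (cokernel (mulBy M s)) (le_top : (⨆ i, W i) ≤ ⊤) q = b := hq
  rw [h1, hqb, hb ⟨x, hxZ⟩]

end Main

end Groth.Agent.Lib.Helper23.AmpleCurve
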