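import Groth.Agent.Lib.Helper23.AmpleCurve11
import Groth.Agent.Lib.Helper3.SecCoord
import Groth.Agent.Lib.Helper3.VACore
import Groth.Agent.Lib.Helper3.InvTwist

/-!
# AmpleCurve12: sections of powers are polynomials in sections of `L` when `H¹` vanishes
(towards projective normality of genus zero curves)
-/
set_option autoImplicit false
set_option linter.style.haveILetI false
universe u
open CategoryTheory CategoryTheory.Limits Opposite TopologicalSpace AlgebraicGeometry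
open Groth.Agent.Lib.Helper3 Groth.Agent.Lib.Helper3.QCSec Groth.Agent.Lib.Helper3.InvGen
  Groth.Agent.Lib.Helper3.InvTensor Groth.Agent.Lib.Helper3.InvMonoidal
  Groth.Agent.Lib.Helper3.InvAmple Groth.Agent.Lib.Helper3.SecCoord
open Groth.Agent.Lib.Helper23.T2

noncomputable section

namespace Groth.Agent.Lib.Helper23.AmpleCurve

open Groth.Agent.Lib.Helper23.Curve Groth.Agent.Lib.Helper23.Dev

variable {X : Scheme.{u}}

/-- Koszul surjectivity on global sections when `H¹(M) = 0` -/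
theorem koszul_sections [IsIntegral X] {M L : X.Modules} (hM : PicF.IsInvertible M)
    (hL : PicF.IsInvertible L) (s t : Coh.structureModule X ⟶ L) (hs : s ≠ 0)
    (hcov : ∀ x : X, x ∈ CohB1.genLocus L s ∨ x ∈ CohB1.genLocus L t)
    (hH1 : Subsingleton (Coh.HH X M 1))
    (σ : Γ(CohB1.tensorMod (CohB1.tensorMod M L) L, ⊤)) :
    ∃ y₁ y₂ : Γ(CohB1.tensorMod M L, ⊤),
      σ = tm (CohB1.tensorMod M L) L ⊤ y₁ (sec t ⊤) - tm (CohB1.tensorMod M L) L ⊤ y₂ (sec s ⊤) := by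
  haveI : Mono (mulBy M s) :=
    mono_of_ne_zero hM (isInvertible_tensorMod hM hL) (mulBy M s) (mulBy_ne_zero hM hL s hs)
  have hS := kos_shortExact M hL hcov (s := s) (t := t)
  obtain ⟨y, hy⟩ := exact₃ _ hS 0 ((H0equiv _).symm σ) (hH1.elim _ _)
  have h := H0equiv_naturality (kosG M s t) y
  have hy' : Hmap (kosG M s t) 0 y = (H0equiv _).symm σ := hy
  rw [hy', LinearEquiv.apply_symm_apply] at h
  have h2 : σ = (kosG M s t).app ⊤ (H0equiv _ y) := h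
  rw [kosG_app] at h2
  exact ⟨_, _, h2⟩

section Chart

variable {L : X.Modules} (b₀ : Γ(L, ⊤)) (B : Subring Γ(X, locus L b₀))

/-- the restriction of `σ` to the chart `X_{b₀}` has its coordinate (w.r.t. `b₀ⁿ`) in `B` -/
def InB (n : ℕ) (σ : Γ(CohB1.tensorPow L n, ⊤)) : Prop :=
  ∃ β ∈ B, res (CohB1.tensorPow L n) (le_top : locus L b₀ ≤ ⊤) σ =
    β • lpow L (res L (le_top : locus L b₀ ≤ ⊤) b₀) n

variable {b₀ B}

theorem inB_zero (hconst : ∀ f : Γ(X, ⊤), rres X (le_top : locus L b₀ ≤ ⊤) f ∈ B)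
    (σ : Γ(CohB1.tensorPow L 0, ⊤)) : InB b₀ B 0 σ := by
  refine ⟨rres X le_top (toFun ⊤ (show Γ(Coh.structureModule X, ⊤) from σ)), hconst _, ?_⟩
  have h1 : lpow L (res L (le_top : locus L b₀ ≤ ⊤) b₀) 0 = ofFun (locus L b₀) 1 := rfl
  rw [h1]
  have h2 : rres X (le_top : locus L b₀ ≤ ⊤) (toFun ⊤ (show Γ(Coh.structureModule X, ⊤) from σ)) •
      ofFun (locus L b₀) 1 = ofFun (locus L b₀)
        (rres X (le_top : locus L b₀ ≤ ⊤) (toFun ⊤ (show Γ(Coh.structureModule X, ⊤) from σ)) * 1) :=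
    smul_ofFun _ _ _
  rw [mul_one] at h2
  exact (res_ofFun (le_top : locus L b₀ ≤ ⊤) (toFun ⊤ (show Γ(Coh.structureModule X, ⊤) from σ))).trans
    h2.symm

theorem inB_sub {n : ℕ} {σ σ' : Γ(CohB1.tensorPow L n, ⊤)} (h : InB b₀ B n σ)
    (h' : InB b₀ B n σ') : InB b₀ B n (σ - σ') := by
  obtain ⟨β, hβ, e⟩ := h
  obtain ⟨β', hβ', e'⟩ := h'
  exact ⟨β - β', B.sub_mem hβ hβ', by rw [res_sub, e, e', sub_smul]⟩

theorem inB_tm (hratio : ∀ τ : Γ(L, ⊤), ratio L b₀ τ ∈ B) {n : ℕ}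
    {y : Γ(CohB1.tensorPow L n, ⊤)} (h : InB b₀ B n y) (τ : Γ(L, ⊤)) :
    InB b₀ B (n + 1) (tm (CohB1.tensorPow L n) L ⊤ y τ) := by
  obtain ⟨β, hβ, e⟩ := h
  refine ⟨β * ratio L b₀ τ, B.mul_mem hβ (hratio τ), ?_⟩
  have h1 : res (CohB1.tensorPow L (n + 1)) (le_top : locus L b₀ ≤ ⊤)
      (tm (CohB1.tensorPow L n) L ⊤ y τ) =
      tm (CohB1.tensorPow L n) L (locus L b₀) (res _ le_top y) (res L le_top τ) :=
    tm_res (CohB1.tensorPow L n) L le_top y τ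
  rw [h1, e, ← ratio_smul L b₀ τ, tm_smul_left, tm_smul_right, smul_smul]
  rfl

end Chart

section ChartAll

variable {L : X.Modules} {b₀ : Γ(L, ⊤)} {B : Subring Γ(X, locus L b₀)}

theorem inB_one (hconst : ∀ f : Γ(X, ⊤), rres X (le_top : locus L b₀ ≤ ⊤) f ∈ B)
    (hratio : ∀ τ : Γ(L, ⊤), ratio L b₀ τ ∈ B) (σ : Γ(CohB1.tensorPow L 1, ⊤)) :
    InB b₀ B 1 σ := by
  have h0 : InB b₀ B 0 (show Γ(CohB1.tensorPow L 0, ⊤) from ofFun ⊤ 1) := inB_zero hconst _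
  have h1 := inB_tm hratio h0 ((unitorL L).hom.app ⊤ (show Γ(CohB1.tensorMod
    (Coh.structureModule X) L, ⊤) from σ))
  have e : tm (CohB1.tensorPow L 0) L ⊤ (show Γ(CohB1.tensorPow L 0, ⊤) from ofFun ⊤ 1)
      ((unitorL L).hom.app ⊤ (show Γ(CohB1.tensorMod (Coh.structureModule X) L, ⊤) from σ)) =
      σ := by
    have e1 := unitorL_hom_tm L ⊤ ((unitorL L).hom.app ⊤
      (show Γ(CohB1.tensorMod (Coh.structureModule X) L, ⊤) from σ)) 1
    rw [one_smul] at e1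
    have e2 := congrArg ((unitorL L).inv.app ⊤) e1
    rw [iso_inv_hom_app, iso_inv_hom_app] at e2
    exact e2
  rw [e] at h1
  exact h1

theorem inB_all [IsIntegral X] (hL : PicF.IsInvertible L) (s t : Coh.structureModule X ⟶ L)
    (hs : s ≠ 0) (hcov : ∀ x : X, x ∈ CohB1.genLocus L s ∨ x ∈ CohB1.genLocus L t)
    (hH1 : ∀ n, Subsingleton (Coh.HH X (CohB1.tensorPow L n) 1))
    (hconst : ∀ f : Γ(X, ⊤), rres X (le_top : locus L b₀ ≤ ⊤) f ∈ B)
    (hratio : ∀ τ : Γ(L, ⊤), ratio L b₀ τ ∈ B) :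
    ∀ (n : ℕ) (σ : Γ(CohB1.tensorPow L n, ⊤)), InB b₀ B n σ := by
  have key : ∀ n : ℕ, (∀ σ : Γ(CohB1.tensorPow L n, ⊤), InB b₀ B n σ) ∧
      (∀ σ : Γ(CohB1.tensorPow L (n + 1), ⊤), InB b₀ B (n + 1) σ) := by
    intro n
    induction n with
    | zero => exact ⟨inB_zero hconst, inB_one hconst hratio⟩
    | succ n ih =>
      refine ⟨ih.2, fun σ => ?_⟩
      obtain ⟨y₁, y₂, e⟩ := koszul_sections (isInvertible_tensorPow hL n) hL s t hs hcov (hH1 n)
        (show Γ(CohB1.tensorMod (CohB1.tensorMod (CohB1.tensorPow L n) L) L, ⊤) from σ)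
      have h1 := inB_tm hratio (ih.2 y₁) (sec t ⊤)
      have h2 := inB_tm hratio (ih.2 y₂) (sec s ⊤)
      have h3 := inB_sub h1 h2
      have e' : σ = tm (CohB1.tensorPow L (n + 1)) L ⊤ y₁ (sec t ⊤) -
          tm (CohB1.tensorPow L (n + 1)) L ⊤ y₂ (sec s ⊤) := e
      rw [e']
      exact h3
  exact fun n => (key n).1

end ChartAll

section ChartTop

variable {L : X.Modules} {b₀ : Γ(L, ⊤)} {B : Subring Γ(X, locus L b₀)}

theorem mem_of_inB_all [CompactSpace X] [QuasiSeparatedSpace X] (hL : PicF.IsInvertible L)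
    (hall : ∀ (n : ℕ) (σ : Γ(CohB1.tensorPow L n, ⊤)), InB b₀ B n σ) (f : Γ(X, locus L b₀)) :
    f ∈ B := by
  haveI : (Coh.structureModule X).IsQuasicoherent :=
    Groth.Agent.Lib.Helper3.QCOpen.isQuasicoherent_structureModule X
  obtain ⟨n₀, hn₀⟩ := InvTwist.exists_tm_lpow_extension hL (globalHom L b₀)
    (Coh.structureModule X) ⊤ (by simpa using isCompact_univ)
    (fun U U' hU hU' _ _ => QuasiSeparatedSpace.inter_isCompact U.1 U'.1 U.2 hU.isCompact U'.2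
      hU'.isCompact)
    (locus L b₀) le_top le_rfl inf_le_right (ofFun _ f)
  obtain ⟨t', ht'⟩ := hn₀ n₀ le_rfl
  have hσ : res _ (le_top : locus L b₀ ≤ ⊤) ((unitorL (CohB1.tensorPow L n₀)).hom.app ⊤ t') =
      f • lpow L (sec (globalHom L b₀) (locus L b₀)) n₀ := by
    rw [← QCExact.app_res', ht', unitorL_hom_tm]
  obtain ⟨β, hβ, e⟩ := hall n₀ ((unitorL (CohB1.tensorPow L n₀)).hom.app ⊤ t')
  rw [sec_globalHom] at hσ
  have hfβ : f = β := (isGen_lpow (isGen_locus L b₀) n₀).self.smul_inj (hσ.symm.trans e)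
  rw [hfβ]
  exact hβ

end ChartTop

end Groth.Agent.Lib.Helper23.AmpleCurve
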