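import Groth.Agent.Lib.Helper23.AmpleCurve12

/-!
# AmpleCurve13: a genus zero curve with an invertible module of degree `d > 0` embeds in `P^d`
-/
set_option autoImplicit false
set_option linter.style.haveILetI false
universe u
open CategoryTheory CategoryTheory.Limits Opposite TopologicalSpace AlgebraicGeometry
open Groth.Agent.Lib.Helper3 Groth.Agent.Lib.Helper3.QCSec Groth.Agent.Lib.Helper3.InvGen
  Groth.Agent.Lib.Helper3.InvTensor Groth.Agent.Lib.Helper3.InvMonoidal
  Groth.Agent.Lib.Helper3.InvAmple Groth.Agent.Lib.Helper3.SecCoord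
open Groth.Agent.Lib.Helper23.T2

noncomputable section

namespace Groth.Agent.Lib.Helper23.AmpleCurve

open Groth.Agent.Lib.Helper23.Curve Groth.Agent.Lib.Helper23.Dev

variable {X : Scheme.{u}}

/-- if `σ` is a combination of the `b i` and generates at `x`, some `b i` generates at `x` -/
theorem exists_mem_locus_of_sum {L : X.Modules} (hL : PicF.IsInvertible L) {ι : Type*}
    [Fintype ι] (b : ι → Γ(L, ⊤)) (c : ι → Γ(X, ⊤)) (x : X)
    (hx : x ∈ locus L (∑ i, c i • b i)) : ∃ i, x ∈ locus L (b i) := by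
  classical
  obtain ⟨U, e, hxU, hg⟩ := exists_isGen hL x
  choose f hf using fun i => hg.self.exists_coord (res L (le_top : U ≤ ⊤) (b i))
  by_contra hcon
  simp only [not_exists] at hcon
  have hnu : ∀ i, X.presheaf.germ U x hxU (f i) ∈
      IsLocalRing.maximalIdeal (X.presheaf.stalk x) := by
    intro i
    rw [IsLocalRing.mem_maximalIdeal]
    intro hu
    apply hcon i
    have h1 := genLocus_inf_eq_basicOpen (globalHom L (b i)) hg (f i)
      (by rw [sec_globalHom, hf])
    have h2 : x ∈ X.basicOpen (f i) := (Scheme.mem_basicOpen X (f i) x hxU).mpr hu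
    rw [← h1] at h2
    exact h2.1
  have hsum : res L (le_top : U ≤ ⊤) (∑ i, c i • b i) =
      (∑ i, rres X (le_top : U ≤ ⊤) (c i) * f i) • e := by
    rw [Finset.sum_smul]
    have : res L (le_top : U ≤ ⊤) (∑ i, c i • b i) =
        ∑ i, res L (le_top : U ≤ ⊤) (c i • b i) := map_sum _ _ _
    rw [this]
    refine Finset.sum_congr rfl fun i _ => ?_
    rw [res_smul, ← hf i, mul_smul]
  have h1 := genLocus_inf_eq_basicOpen (globalHom L (∑ i, c i • b i)) hg
    (∑ i, rres X (le_top : U ≤ ⊤) (c i) * f i) (by rw [sec_globalHom, hsum])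
  have h2 : x ∈ X.basicOpen (∑ i, rres X (le_top : U ≤ ⊤) (c i) * f i) := by
    rw [← h1]
    exact ⟨hx, hxU⟩
  rw [Scheme.mem_basicOpen X _ x hxU] at h2
  have h3 : X.presheaf.germ U x hxU (∑ i, rres X (le_top : U ≤ ⊤) (c i) * f i) ∈
      IsLocalRing.maximalIdeal (X.presheaf.stalk x) := by
    rw [map_sum]
    refine Ideal.sum_mem _ fun i _ => ?_
    rw [map_mul]
    exact Ideal.mul_mem_left _ _ (hnu i)
  exact (IsLocalRing.mem_maximalIdeal _).1 h3 h2

section Span

variable (k : Type u) [Field k] [X.Over (Spec (CommRingCat.of k))]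

/-- every global section is a combination of the images of a `k`-basis of `H⁰` -/
theorem exists_sum_of_basis {L : X.Modules} {ι : Type*} [Fintype ι]
    (β : Module.Basis ι k (Coh.HH X L 0)) (τ : Γ(L, ⊤)) :
    ∃ c : ι → Γ(X, ⊤), τ = ∑ i, c i • (show Γ(L, ⊤) from H0equiv L (β i)) := by
  classical
  refine ⟨fun i => Coh.toGlobal (X ↘ Spec (CommRingCat.of k)) (β.repr ((H0equiv L).symm τ) i), ?_⟩
  have h1 := β.sum_repr ((H0equiv L).symm τ)
  have h2 := congrArg (H0equiv L) h1
  rw [LinearEquiv.apply_symm_apply, map_sum] at h2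
  have h3 : ∀ i, H0equiv L ((β.repr ((H0equiv L).symm τ) i) • β i) =
      Coh.toGlobal (X ↘ Spec (CommRingCat.of k)) (β.repr ((H0equiv L).symm τ) i) •
        H0equiv L (β i) := fun i =>
    (H0equiv L).map_smul (Coh.toGlobal (X ↘ Spec (CommRingCat.of k))
      (β.repr ((H0equiv L).symm τ) i)) (β i)
  simp only [h3] at h2
  exact h2.symm

end Span

section Const

variable (k : Type u) [Field k] [X.Over (Spec (CommRingCat.of k))]

/-- if `h⁰(O) = 1` every global function is a constant -/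
theorem exists_const_of_finrank_one [Nonempty X]
    (h0 : Module.finrank k (Coh.HH X (Coh.structureModule X) 0) = 1) (f : Γ(X, ⊤)) :
    ∃ c : k, f = Coh.toGlobal (X ↘ Spec (CommRingCat.of k)) c := by
  haveI : Nonempty (⊤ : X.Opens) := ⟨⟨Classical.arbitrary X, trivial⟩⟩
  haveI : Nontrivial Γ(X, ⊤) := Scheme.component_nontrivial X ⊤
  have hne : (H0equiv (Coh.structureModule X)).symm (ofFun ⊤ (1 : Γ(X, ⊤))) ≠ 0 := by
    intro h
    have h1 := congrArg (H0equiv (Coh.structureModule X)) h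
    rw [LinearEquiv.apply_symm_apply, map_zero] at h1
    exact one_ne_zero (α := Γ(X, ⊤)) h1
  obtain ⟨c, hc⟩ := (finrank_eq_one_iff_of_nonzero' _ hne).1 h0
    ((H0equiv (Coh.structureModule X)).symm (ofFun ⊤ f))
  refine ⟨c, ?_⟩
  have h2 := congrArg (H0equiv (Coh.structureModule X)) hc
  rw [LinearEquiv.apply_symm_apply] at h2
  have h3 : H0equiv (Coh.structureModule X)
      (c • (H0equiv (Coh.structureModule X)).symm (ofFun ⊤ (1 : Γ(X, ⊤)))) =
      Coh.toGlobal (X ↘ Spec (CommRingCat.of k)) c •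
        H0equiv (Coh.structureModule X)
          ((H0equiv (Coh.structureModule X)).symm (ofFun ⊤ (1 : Γ(X, ⊤)))) :=
    (H0equiv (Coh.structureModule X)).map_smul (Coh.toGlobal (X ↘ Spec (CommRingCat.of k)) c) _
  rw [h3, LinearEquiv.apply_symm_apply] at h2
  have h4 : ((show Γ(X, ⊤) from Coh.toGlobal (X ↘ Spec (CommRingCat.of k)) c) •
      (ofFun ⊤ (1 : Γ(X, ⊤)))) =
      ofFun ⊤ ((show Γ(X, ⊤) from Coh.toGlobal (X ↘ Spec (CommRingCat.of k)) c) * 1) :=
    smul_ofFun ⊤ _ _
  rw [mul_one] at h4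
  exact (ofFun_injective ⊤ (h2.symm.trans h4))

end Const

section ChartSurj

open Groth.Agent.Lib.Helper3.TwistBasic Groth.Agent.Lib.Helper3.GrTildeQC
  Groth.Agent.Lib.Helper3.ProjFrac Groth.Agent.Lib.Helper3.GrTildeHom
  Groth.Agent.Lib.Helper3.ProjMapFn Groth.Agent.Lib.Helper3.TwistProj
  Groth.Agent.Lib.Helper3.PbBasic Groth.Agent.Lib.Helper3.ToProj Groth.Agent.Lib.Helper3.VACore
  Groth.Agent.Lib.Helper3.ProjPullGen

theorem ratio_sum {L : X.Modules} (s : Γ(L, ⊤)) {ι : Type*} [Fintype ι] (c : ι → Γ(X, ⊤))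
    (b : ι → Γ(L, ⊤)) :
    ratio L s (∑ i, c i • b i) =
      ∑ i, rres X (le_top : locus L s ≤ ⊤) (c i) * ratio L s (b i) := by
  classical
  have key : ∀ T : Finset ι, ratio L s (∑ i ∈ T, c i • b i) =
      ∑ i ∈ T, rres X (le_top : locus L s ≤ ⊤) (c i) * ratio L s (b i) := by
    intro T
    induction T using Finset.induction_on with
    | empty => rw [Finset.sum_empty, Finset.sum_empty, ratio_zero]
    | insert a T ha ih =>
      rw [Finset.sum_insert ha, Finset.sum_insert ha, ratio_add, ratio_smul_right, ih]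
  exact key Finset.univ

variable (k : Type u) [Field k] [X.Over (Spec (CommRingCat.of k))]

/-- constants lie in the range of the chart map -/
theorem const_mem_range {d : ℕ} (r : X ⟶ CohB1.ProjSpace d k)
    (hr : r ≫ CohB1.ProjSpace.toSpec d k = X ↘ Spec (CommRingCat.of k))
    (W : (CohB1.ProjSpace d k).Opens) (U : X.Opens) (e : U ≤ r ⁻¹ᵁ W) (c : k) :
    rres X (le_top : U ≤ ⊤) (Coh.toGlobal (X ↘ Spec (CommRingCat.of k)) c) ∈
      (r.appLE W U e).hom.range := by
  refine ⟨rres (CohB1.ProjSpace d k) (le_top : W ≤ ⊤)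
    ((CohB1.ProjSpace.toSpec d k).appTop.hom
      ((Scheme.ΓSpecIso (CommRingCat.of k)).inv.hom c)), ?_⟩
  have h1 := appLE_rres r (le_top : W ≤ ⊤) U e
    ((CohB1.ProjSpace.toSpec d k).appTop.hom ((Scheme.ΓSpecIso (CommRingCat.of k)).inv.hom c))
  refine h1.trans ?_
  rw [appLE_eq_rres]
  have h2 : (X ↘ Spec (CommRingCat.of k)).appTop =
      (CohB1.ProjSpace.toSpec d k).appTop ≫ r.appTop := by
    rw [← hr, Scheme.Hom.comp_appTop]
  have h3 : Coh.toGlobal (X ↘ Spec (CommRingCat.of k)) c =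
      r.appTop.hom ((CohB1.ProjSpace.toSpec d k).appTop.hom
        ((Scheme.ΓSpecIso (CommRingCat.of k)).inv.hom c)) := by
    unfold Coh.toGlobal
    rw [h2]
    rfl
  rw [h3]
  rfl

end ChartSurj

section ChartSurj2

open Groth.Agent.Lib.Helper3.TwistBasic Groth.Agent.Lib.Helper3.GrTildeQC
  Groth.Agent.Lib.Helper3.ProjFrac Groth.Agent.Lib.Helper3.GrTildeHom
  Groth.Agent.Lib.Helper3.ProjMapFn Groth.Agent.Lib.Helper3.TwistProj
  Groth.Agent.Lib.Helper3.PbBasic Groth.Agent.Lib.Helper3.ToProj Groth.Agent.Lib.Helper3.VACore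
  Groth.Agent.Lib.Helper3.ProjPullGen

variable (k : Type u) [Field k] [X.Over (Spec (CommRingCat.of k))]
  [IsProper (X ↘ Spec (CommRingCat.of k))] [IsIntegral X]

include k in
theorem surjective_chart (h0 : Module.finrank k (Coh.HH X (Coh.structureModule X) 0) = 1)
    {L : X.Modules} (hL : PicF.IsInvertible L) (s t : Coh.structureModule X ⟶ L) (hs : s ≠ 0)
    (hcov : ∀ x : X, x ∈ CohB1.genLocus L s ∨ x ∈ CohB1.genLocus L t)
    (hH1 : ∀ n, Subsingleton (Coh.HH X (CohB1.tensorPow L n) 1))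
    {d : ℕ} (β : Module.Basis (Fin (d + 1)) k (Coh.HH X L 0))
    (r : X ⟶ CohB1.ProjSpace d k)
    (hr : r ≫ CohB1.ProjSpace.toSpec d k = X ↘ Spec (CommRingCat.of k))
    (τ : (Scheme.Modules.pullback r).obj (Twist.twist (CohB1.polyGrading d k) ((1 : ℕ) : ℤ)) ≅ L)
    (hτ : ∀ i, τ.hom.app ⊤ (gpull r (Twist.twist (CohB1.polyGrading d k) ((1 : ℕ) : ℤ))
      (gsec (⟨MvPolynomial.X i, MvPolynomial.isHomogeneous_X k i⟩ :
        CohB1.polyGrading d k 1))) = (show Γ(L, ⊤) from H0equiv L (β i)))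
    (j : Fin (d + 1))
    (e : locus L (show Γ(L, ⊤) from H0equiv L (β j)) ≤
      r ⁻¹ᵁ Proj.basicOpen (CohB1.polyGrading d k) (MvPolynomial.X j)) :
    Function.Surjective (r.appLE (Proj.basicOpen (CohB1.polyGrading d k) (MvPolynomial.X j))
      (locus L (show Γ(L, ⊤) from H0equiv L (β j))) e).hom := by
  haveI := isNoetherian_of_isProper k X
  intro f
  have hconst : ∀ g : Γ(X, ⊤), rres X (le_top : locus L (show Γ(L, ⊤) from H0equiv L (β j)) ≤ ⊤) g ∈
      (r.appLE (Proj.basicOpen (CohB1.polyGrading d k) (MvPolynomial.X j))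
        (locus L (show Γ(L, ⊤) from H0equiv L (β j))) e).hom.range := by
    intro g
    obtain ⟨c, rfl⟩ := exists_const_of_finrank_one k h0 g
    exact const_mem_range k r hr _ _ e c
  have hratio_b : ∀ l : Fin (d + 1), ratio L (show Γ(L, ⊤) from H0equiv L (β j))
      (show Γ(L, ⊤) from H0equiv L (β l)) ∈
      (r.appLE (Proj.basicOpen (CohB1.polyGrading d k) (MvPolynomial.X j))
        (locus L (show Γ(L, ⊤) from H0equiv L (β j))) e).hom.range := fun l =>
    ⟨_, appLE_fn_eq_ratio r τ (MvPolynomial.isHomogeneous_X k j) (MvPolynomial.isHomogeneous_X k l)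
      (hτ j) (hτ l) e⟩
  have hratio : ∀ τ' : Γ(L, ⊤), ratio L (show Γ(L, ⊤) from H0equiv L (β j)) τ' ∈
      (r.appLE (Proj.basicOpen (CohB1.polyGrading d k) (MvPolynomial.X j))
        (locus L (show Γ(L, ⊤) from H0equiv L (β j))) e).hom.range := by
    intro τ'
    obtain ⟨c, hc⟩ := exists_sum_of_basis k β τ'
    rw [hc, ratio_sum]
    exact Subring.sum_mem _ fun l _ => Subring.mul_mem _ (hconst _) (hratio_b l)
  have hall := inB_all hL s t hs hcov hH1 hconst hratio
  exact mem_of_inB_all hL hall f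

end ChartSurj2

end Groth.Agent.Lib.Helper23.AmpleCurve
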