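import Groth.Agent.Lib.Helper23.AmpleCurve13

/-!
# AmpleCurve14: the embedding of a genus zero curve by a complete linear system of degree `d > 0`
-/
set_option autoImplicit false
set_option linter.style.haveILetI false
universe u
open CategoryTheory CategoryTheory.Limits Opposite TopologicalSpace AlgebraicGeometry
open Groth.Agent.Lib.Helper3 Groth.Agent.Lib.Helper3.QCSec Groth.Agent.Lib.Helper3.InvGen
  Groth.Agent.Lib.Helper3.InvTensor Groth.Agent.Lib.Helper3.InvMonoidal
  Groth.Agent.Lib.Helper3.InvAmple Groth.Agent.Lib.Helper3.SecCoord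
open Groth.Agent.Lib.Helper23.T2

noncomputable section

namespace Groth.Agent.Lib.Helper23.AmpleCurve

open Groth.Agent.Lib.Helper23.Curve Groth.Agent.Lib.Helper23.Dev
open Groth.Agent.Lib.Helper3.TwistBasic Groth.Agent.Lib.Helper3.GrTildeQC
  Groth.Agent.Lib.Helper3.ProjFrac Groth.Agent.Lib.Helper3.GrTildeHom
  Groth.Agent.Lib.Helper3.ProjMapFn Groth.Agent.Lib.Helper3.TwistProj
  Groth.Agent.Lib.Helper3.PbBasic Groth.Agent.Lib.Helper3.ToProj Groth.Agent.Lib.Helper3.VACore
  Groth.Agent.Lib.Helper3.ProjPullGen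

variable {X : Scheme.{u}}
variable (k : Type u) [Field k] [X.Over (Spec (CommRingCat.of k))]
  [IsProper (X ↘ Spec (CommRingCat.of k))] [IsIntegral X]

include k in
/-- vanishing of `H¹` of all powers of `L` in genus zero -/
theorem subsingleton_h1_tensorPow (hdim : topologicalKrullDim X ≤ 1)
    (hg : Curv2.genus k X = 0) {L : X.Modules} (hL : PicF.IsInvertible L)
    (s : Coh.structureModule X ⟶ L) (hs : s ≠ 0) (n : ℕ) :
    Subsingleton (Coh.HH X (CohB1.tensorPow L n) 1) := by
  induction n with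
  | zero => exact subsingleton_h1_of_genus_zero k hg
  | succ n ih =>
    have hsurj := surjective_H1_mulBy k hdim (isInvertible_tensorPow hL n) hL s hs
    refine ⟨fun a b => ?_⟩
    obtain ⟨a', rfl⟩ := hsurj a
    obtain ⟨b', rfl⟩ := hsurj b
    rw [ih.elim a' b']

include k in
/-- the loci of a basis of `H⁰(L)` cover, if two sections have no common zero -/
theorem exists_mem_locus_basis {L : X.Modules} (hL : PicF.IsInvertible L)
    (s t : Coh.structureModule X ⟶ L)
    (hcov : ∀ x : X, x ∈ CohB1.genLocus L s ∨ x ∈ CohB1.genLocus L t)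
    {ι : Type*} [Fintype ι] (β : Module.Basis ι k (Coh.HH X L 0)) (x : X) :
    ∃ j, x ∈ locus L (show Γ(L, ⊤) from H0equiv L (β j)) := by
  have key : ∀ u : Coh.structureModule X ⟶ L, x ∈ CohB1.genLocus L u →
      ∃ j, x ∈ locus L (show Γ(L, ⊤) from H0equiv L (β j)) := by
    intro u hu
    obtain ⟨c, hc⟩ := exists_sum_of_basis k β (sec u ⊤)
    have h1 : x ∈ locus L (sec u ⊤) := by
      unfold locus
      rw [SubIdeal.globalHom_sec]
      exact hu
    rw [hc] at h1
    exact exists_mem_locus_of_sum hL _ c x h1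
  rcases hcov x with hx | hx
  · exact key s hx
  · exact key t hx

include k in
/-- a genus zero curve with an invertible module `L` of degree `d > 0` embeds in `P^d` by the
complete linear system of `L` -/
theorem exists_closedImmersion_projSpace (hdim : topologicalKrullDim X = 1)
    (h0 : Module.finrank k (Coh.HH X (Coh.structureModule X) 0) = 1)
    (hg : Curv2.genus k X = 0) (L : X.Modules) (hL : PicF.IsInvertible L) (d : ℕ) (hd : 0 < d)
    (hdeg : Curv2.deg k X L 1 = d) :
    ∃ r : X ⟶ CohB1.ProjSpace d k, IsClosedImmersion r ∧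
      r ≫ CohB1.ProjSpace.toSpec d k = X ↘ Spec (CommRingCat.of k) ∧
      Nonempty ((Scheme.Modules.pullback r).obj
        (Twist.twist (CohB1.polyGrading d k) ((1 : ℕ) : ℤ)) ≅ L) := by
  classical
  haveI := isNoetherian_of_isProper k X
  have hdim' : topologicalKrullDim X ≤ 1 := hdim.le
  obtain ⟨hh0, hh1⟩ := genus_zero_h0_h1 k hdim' h0 hg L hL d hd hdeg
  haveI := finite_HH k L (isCoh_of_isInvertible hL) 0
  have hnt : Nontrivial (Coh.HH X L 0) :=
    Module.nontrivial_of_finrank_pos (R := k) (by rw [hh0]; omega)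
  obtain ⟨s, hs⟩ := exists_section_of_nontrivial L hnt
  have hH1 := subsingleton_h1_tensorPow k hdim' hg hL s hs
  have heq : Module.finrank k (Coh.HH X (CohB1.tensorMod (Coh.structureModule X) L) 1) =
      Module.finrank k (Coh.HH X (Coh.structureModule X) 1) := by
    haveI : Subsingleton (Coh.HH X (CohB1.tensorMod (Coh.structureModule X) L) 1) := hH1 1
    haveI : Subsingleton (Coh.HH X (Coh.structureModule X) 1) := hH1 0
    rw [Module.finrank_zero_of_subsingleton, Module.finrank_zero_of_subsingleton]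
  obtain ⟨t, hcov⟩ := exists_section_cover k hdim' hL s hs heq
  let β := Module.finBasisOfFinrankEq k (Coh.HH X L 0) hh0
  have hcov' := exists_mem_locus_basis k hL s t hcov β
  obtain ⟨r, hr, τ, hτ⟩ := exists_hom_projSpace d (X ↘ Spec (CommRingCat.of k)) L
    (fun j => (show Γ(L, ⊤) from H0equiv L (β j))) hcov'
  have hpre : ∀ j, r ⁻¹ᵁ Proj.basicOpen (CohB1.polyGrading d k) (MvPolynomial.X j) =
      locus L (show Γ(L, ⊤) from H0equiv L (β j)) := fun j =>
    preimage_basicOpen_eq_locus r (hasUnitFrac_projSpace k d) τ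
      (MvPolynomial.isHomogeneous_X k j) (hτ j)
  -- `r` is not constant
  have hb0 : (show Γ(L, ⊤) from H0equiv L (β 0)) ≠ 0 := by
    intro h
    have h1 : H0equiv L (β 0) = 0 := h
    exact β.ne_zero 0 ((H0equiv L).map_eq_zero_iff.1 h1)
  have hgh0 : globalHom L (show Γ(L, ⊤) from H0equiv L (β 0)) ≠ 0 := by
    intro h
    apply hb0
    have h1 := sec_globalHom L (show Γ(L, ⊤) from H0equiv L (β 0)) ⊤
    rw [h] at h1
    rw [res_self] at h1
    rw [← h1]
    change (0 : Coh.structureModule X ⟶ L).app ⊤ (ofFun ⊤ 1) = 0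
    rfl
  obtain ⟨x₁, hx₁⟩ := exists_mem_genLocus hL _ hgh0
  obtain ⟨x₂, hx₂⟩ := exists_notMem_genLocus k hdim'
    (globalHom L (show Γ(L, ⊤) from H0equiv L (β 0))) (by rw [hdeg]; exact_mod_cast hd)
  have hne : r x₁ ≠ r x₂ := by
    intro h
    apply hx₂
    have h1 : x₁ ∈ r ⁻¹ᵁ Proj.basicOpen (CohB1.polyGrading d k) (MvPolynomial.X 0) := by
      rw [hpre 0]
      exact hx₁
    have h2' : r x₂ ∈ Proj.basicOpen (CohB1.polyGrading d k) (MvPolynomial.X 0) := by
      rw [← h]
      exact h1
    have h2 : x₂ ∈ r ⁻¹ᵁ Proj.basicOpen (CohB1.polyGrading d k) (MvPolynomial.X 0) := h2'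
    rw [hpre 0] at h2
    exact h2
  have hfin : AlgebraicGeometry.IsFinite r :=
    isFinite_of_nonconstant k hdim' r (CohB1.ProjSpace.toSpec d k) hr x₁ x₂ hne
  haveI : IsAffineHom r := hfin.toIsAffineHom
  have hW : ∀ j : Fin (d + 1), IsAffineOpen
      (Proj.basicOpen (CohB1.polyGrading d k) (MvPolynomial.X j)) := fun j =>
    Proj.isAffineOpen_basicOpen (CohB1.polyGrading d k) (MvPolynomial.X j)
      (MvPolynomial.isHomogeneous_X k j) one_pos
  have hU : ∀ j : Fin (d + 1), IsAffineOpen
      (locus L (show Γ(L, ⊤) from H0equiv L (β j))) := fun j => by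
    rw [← hpre j]
    exact @IsAffineOpen.preimage _ _ _ (hW j) r hfin.toIsAffineHom
  haveI : IsImmersion r := isImmersion_of_cover r
    (fun j : Fin (d + 1) => Proj.basicOpen (CohB1.polyGrading d k) (MvPolynomial.X j))
    (fun j => locus L (show Γ(L, ⊤) from H0equiv L (β j))) hW hU (fun j => (hpre j).symm)
    (fun j => surjective_chart k h0 hL s t hs hcov hH1 β r hr τ hτ j (hpre j).symm.le) hcov'
  haveI : IsProper (r ≫ CohB1.ProjSpace.toSpec d k) := by rw [hr]; infer_instance
  haveI : IsProper r := IsProper.of_comp r (CohB1.ProjSpace.toSpec d k)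
  exact ⟨r, (IsClosedImmersion.iff_isProper_and_mono r).mpr ⟨inferInstance, inferInstance⟩, hr,
    ⟨τ⟩⟩

end Groth.Agent.Lib.Helper23.AmpleCurve
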