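import Groth.Agent.Lib.Helper23.AmpleCurve1
import Groth.Agent.Lib.Helper3.QCExact

/-!
# AmpleCurve2: global sections generating at a zero of the multiplying section
-/
set_option autoImplicit false
set_option linter.style.haveILetI false
universe u
open CategoryTheory CategoryTheory.Limits Opposite TopologicalSpace AlgebraicGeometry
open Groth.Agent.Lib.Helper3 Groth.Agent.Lib.Helper3.QCSec Groth.Agent.Lib.Helper3.InvGen
  Groth.Agent.Lib.Helper3.InvTensor Groth.Agent.Lib.Helper3.InvMonoidal
open Groth.Agent.Lib.Helper23.T2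

noncomputable section

namespace Groth.Agent.Lib.Helper23.AmpleCurve

open Groth.Agent.Lib.Helper23.Curve

variable {X : Scheme.{u}}

/-- `1 + c f` is invertible near a zero of `f` -/
theorem mem_basicOpen_one_add {W : X.Opens} (f c : Γ(X, W)) (x : X) (hxW : x ∈ W)
    (hx : x ∉ X.basicOpen f) : x ∈ X.basicOpen (1 + c * f) := by
  rw [Scheme.mem_basicOpen _ _ x hxW] at hx ⊢
  rw [map_add, map_one, map_mul]
  apply IsLocalRing.isUnit_of_mem_nonunits_one_sub_self
  have h1 : (1 : X.presheaf.stalk x) - (1 + (X.presheaf.germ W x hxW).hom c *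
      (X.presheaf.germ W x hxW).hom f) =
      -((X.presheaf.germ W x hxW).hom c) * (X.presheaf.germ W x hxW).hom f := by ring
  rw [h1]
  exact mul_mem_nonunits_right hx

/-- if `H⁰(M ⊗ P) ⟶ H⁰(coker (·s))` is surjective, then every zero of `s` has a neighbourhood on
which some global section of `M ⊗ P` is a generator -/
theorem exists_section_isGen [IsIntegral X] {M P : X.Modules} (hM : PicF.IsInvertible M)
    (hP : PicF.IsInvertible P) (s : Coh.structureModule X ⟶ P) [Mono (mulBy M s)]
    (hfl : IsFlq (cokernel (mulBy M s)))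
    (hsurj : Function.Surjective (Hmap (cokernel.π (mulBy M s)) 0)) (x : X)
    (hx : x ∉ CohB1.genLocus P s) :
    ∃ (t : Γ(CohB1.tensorMod M P, ⊤)) (U : X.Opens), x ∈ U ∧
      IsGen (CohB1.tensorMod M P) U (res _ le_top t) := by
  obtain ⟨W, eM, eP, -, hxW, -, hgM, hgP⟩ := exists_common_gen hM hP x ⊤ trivial
  obtain ⟨f, hf⟩ := hgP.self.exists_coord (sec s W)
  have hxf : x ∉ X.basicOpen f := by
    rw [← genLocus_inf_eq_basicOpen s hgP f hf.symm]
    exact fun h => hx h.1
  have hge := isGen_tm hgM hgP
  -- extend the image of the generator to a global section of the cokernel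
  obtain ⟨q, hq⟩ := hfl (homOfLE (le_top : W ≤ ⊤)).op
    ((cokernel.π (mulBy M s)).app W (tm M P W eM eP))
  obtain ⟨y, hy⟩ := hsurj ((H0equiv (cokernel (mulBy M s))).symm q)
  have hy' : (cokernel.π (mulBy M s)).app ⊤ (H0equiv _ y) = q := by
    have h := H0equiv_naturality (cokernel.π (mulBy M s)) y
    rw [hy, LinearEquiv.apply_symm_apply] at h
    exact h.symm
  set t : Γ(CohB1.tensorMod M P, ⊤) := H0equiv _ y with ht
  have hker : (cokernel.π (mulBy M s)).app W (res _ le_top t - tm M P W eM eP) = 0 := by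
    rw [QCExact.app_sub, QCExact.app_res', hy']
    exact sub_eq_zero.2 hq
  obtain ⟨a, ha⟩ := QCExact.exact_sections (cokerSC (mulBy M s))
    (cokerSC_shortExact (mulBy M s)).exact W _ hker
  obtain ⟨c, hc⟩ := hgM.self.exists_coord a
  have ha' : (mulBy M s).app W a = (c * f) • tm M P W eM eP := by
    rw [mulBy_app, ← hc, ← hf, tm_smul_left, tm_smul_right, smul_smul]
  have hres : res (CohB1.tensorMod M P) le_top t = (1 + c * f) • tm M P W eM eP := by
    have h1 : res (CohB1.tensorMod M P) le_top t =
        tm M P W eM eP + (mulBy M s).app W a := by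
      have : (mulBy M s).app W a = res _ le_top t - tm M P W eM eP := ha
      rw [this]
      abel
    rw [h1, ha', add_smul, one_smul]
  refine ⟨t, X.basicOpen (1 + c * f), mem_basicOpen_one_add f c x hxW hxf, ?_⟩
  have hle : X.basicOpen (1 + c * f) ≤ W := X.basicOpen_le _
  have h2 : res (CohB1.tensorMod M P) (le_top : X.basicOpen (1 + c * f) ≤ ⊤) t =
      rres X hle (1 + c * f) • res _ hle (tm M P W eM eP) := by
    rw [← res_smul, ← hres, res_res]
  rw [h2]
  exact (hge.mono hle).smul_unit (RingedSpace.isUnit_res_basicOpen X.toRingedSpace (1 + c * f))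

end Groth.Agent.Lib.Helper23.AmpleCurve
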