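import Groth.Agent.Lib.Helper23.AmpleCurve7
import Groth.Agent.Lib.Helper23.FBC5
import Groth.Agent.Lib.Helper3.QCLim
import Groth.Agent.Lib.Helper13.FTApprox

/-!
# AmpleCurve8: the Koszul inequality `2 h¹(M⊗L) ≤ h¹(M⊗L⊗L) + h¹(M)` on a proper curve
-/
set_option autoImplicit false
set_option linter.style.haveILetI false
universe u
open CategoryTheory CategoryTheory.Limits Opposite TopologicalSpace AlgebraicGeometry
open Groth.Agent.Lib.Helper3 Groth.Agent.Lib.Helper3.QCSec Groth.Agent.Lib.Helper3.InvGen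
  Groth.Agent.Lib.Helper3.InvTensor Groth.Agent.Lib.Helper3.InvMonoidal
  Groth.Agent.Lib.Helper3.InvAmple
open Groth.Agent.Lib.Helper23.T2

noncomputable section

namespace Groth.Agent.Lib.Helper23.AmpleCurve

open Groth.Agent.Lib.Helper23.Curve

variable {X : Scheme.{u}}
variable (k : Type u) [Field k] [X.Over (Spec (CommRingCat.of k))]
  [IsProper (X ↘ Spec (CommRingCat.of k))]

theorem isCoh_biprod {A B : X.Modules} (hA : Coh.IsCoh A) (hB : Coh.IsCoh B) :
    Coh.IsCoh (A ⊞ B : X.Modules) := by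
  haveI : A.IsQuasicoherent := hA.1
  haveI : A.IsFiniteType := hA.2
  haveI : B.IsQuasicoherent := hB.1
  haveI : B.IsFiniteType := hB.2
  exact ⟨Groth.Agent.Lib.Helper3.QCLim.isQuasicoherent_biprod _ _,
    Groth.Agent.Lib.Helper13.FTApprox.isFiniteType_biprod _ _⟩

include k in
/-- `hᵖ(A) + hᵖ(B) ≤ hᵖ(A ⊞ B)` -/
theorem finrank_HH_biprod_ge {A B : X.Modules} (hA : Coh.IsCoh A) (hB : Coh.IsCoh B) (p : ℕ) :
    Module.finrank k (Coh.HH X A p) + Module.finrank k (Coh.HH X B p) ≤
      Module.finrank k (Coh.HH X (A ⊞ B : X.Modules) p) := by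
  haveI := finite_HH k A hA p
  haveI := finite_HH k B hB p
  haveI := finite_HH k _ (isCoh_biprod hA hB) p
  let φ : (Coh.HH X A p × Coh.HH X B p) →ₗ[k] Coh.HH X (A ⊞ B : X.Modules) p :=
    (FBC.HmapK k (biprod.inl : A ⟶ A ⊞ B) p).coprod (FBC.HmapK k (biprod.inr : B ⟶ A ⊞ B) p)
  have hφ : Function.Injective φ := by
    rw [← LinearMap.ker_eq_bot, LinearMap.ker_eq_bot']
    rintro ⟨a, b⟩ hab
    have h0 : Hmap (biprod.inl : A ⟶ A ⊞ B) p a + Hmap (biprod.inr : B ⟶ A ⊞ B) p b = 0 := hab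
    have h1 := congrArg (Hmap (biprod.fst : A ⊞ B ⟶ A) p) h0
    have h2 := congrArg (Hmap (biprod.snd : A ⊞ B ⟶ B) p) h0
    rw [map_add, map_zero, ← Hmap_comp, ← Hmap_comp] at h1 h2
    rw [biprod.inl_fst, biprod.inr_fst, Hmap_id, Hmap_zero, add_zero] at h1
    rw [biprod.inl_snd, biprod.inr_snd, Hmap_id, Hmap_zero, zero_add] at h2
    rw [h1, h2]
    rfl
  have h := LinearMap.finrank_le_finrank_of_injective hφ
  rw [Module.finrank_prod] at h
  exact h

variable [IsIntegral X]

include k in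
/-- the Koszul inequality -/
theorem koszul_ineq (hdim : topologicalKrullDim X ≤ 1) {M L : X.Modules}
    (hM : PicF.IsInvertible M) (hL : PicF.IsInvertible L) (s t : Coh.structureModule X ⟶ L)
    (hs : s ≠ 0) (hcov : ∀ x : X, x ∈ CohB1.genLocus L s ∨ x ∈ CohB1.genLocus L t) :
    2 * Module.finrank k (Coh.HH X (CohB1.tensorMod M L) 1) ≤
      Module.finrank k (Coh.HH X (CohB1.tensorMod (CohB1.tensorMod M L) L) 1) +
        Module.finrank k (Coh.HH X M 1) := by
  have hN := isInvertible_tensorMod hM hL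
  have hT := isInvertible_tensorMod hN hL
  obtain ⟨hmono, -, -, -⟩ := invertible_map k hdim hM hN (mulBy M s) (mulBy_ne_zero hM hL s hs)
  haveI := hmono
  have hS := kos_shortExact M hL hcov (s := s) (t := t)
  have hcN := isCoh_of_isInvertible hN
  haveI := finite_HH k M (isCoh_of_isInvertible hM) 1
  haveI := finite_HH k _ hcN 1
  haveI := finite_HH k _ (isCoh_of_isInvertible hT) 1
  haveI := finite_HH k _ (isCoh_biprod hcN hcN) 1
  let F := FBC.HmapK k (kosF M s t) 1
  let G := FBC.HmapK k (kosG M s t) 1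
  have hker : LinearMap.ker G ≤ LinearMap.range F := by
    intro x hx
    obtain ⟨y, hy⟩ := exact₂ _ hS 1 x hx
    exact ⟨y, hy⟩
  have h1 := LinearMap.finrank_range_add_finrank_ker G
  have h2 : Module.finrank k (LinearMap.ker G) ≤ Module.finrank k (LinearMap.range F) :=
    Submodule.finrank_mono hker
  have h3 : Module.finrank k (LinearMap.range F) ≤ Module.finrank k (Coh.HH X M 1) :=
    LinearMap.finrank_range_le F
  have h4 : Module.finrank k (LinearMap.range G) ≤
      Module.finrank k (Coh.HH X (CohB1.tensorMod (CohB1.tensorMod M L) L) 1) :=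
    Submodule.finrank_le _
  have h5 := finrank_HH_biprod_ge k hcN hcN 1
  omega

end Groth.Agent.Lib.Helper23.AmpleCurve
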