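import Groth.Agent.Lib.Helper23.AmpleCurve8

/-!
# AmpleCurve9: linearity of multiplication by sections on cohomology, and vanishing of `H¹`
of products with invertible modules having many sections
-/
set_option autoImplicit false
set_option linter.style.haveILetI false
universe u
open CategoryTheory CategoryTheory.Limits Opposite TopologicalSpace AlgebraicGeometry
open Groth.Agent.Lib.Helper3 Groth.Agent.Lib.Helper3.QCSec Groth.Agent.Lib.Helper3.InvGen
  Groth.Agent.Lib.Helper3.InvTensor Groth.Agent.Lib.Helper3.InvMonoidal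
  Groth.Agent.Lib.Helper3.InvAmple
open Groth.Agent.Lib.Helper23.T2
open Groth.Agent.Lib.Helper13 Groth.Agent.Lib.Helper13.SerreCrit1 Groth.Agent.Lib.Helper7.CohFinite

noncomputable section

namespace Groth.Agent.Lib.Helper23.AmpleCurve

open Groth.Agent.Lib.Helper23.Curve

variable {X : Scheme.{u}}

theorem mulBy_add (M : X.Modules) {P : X.Modules} (s s' : Coh.structureModule X ⟶ P) :
    mulBy M (s + s') = mulBy M s + mulBy M s' := by
  apply Scheme.Modules.hom_ext
  intro U
  ext z
  show (mulBy M (s + s')).app U z = (mulBy M s).app U z + (mulBy M s').app U z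
  rw [mulBy_app, mulBy_app, mulBy_app, sec_add, tm_add_right]

theorem globalHom_add (N : X.Modules) (a b : Γ(N, ⊤)) :
    globalHom N (a + b) = globalHom N a + globalHom N b := by
  apply SubIdeal.unit_hom_ext
  rw [sec_add, sec_globalHom, sec_globalHom, sec_globalHom, res_self, res_self, res_self]

theorem globalHom_add' (N : X.Modules) (a b : Γm N) :
    globalHom N (a + b) = globalHom N a + globalHom N b := globalHom_add N a b

theorem mulBy_globalHom_smul_app (M N : X.Modules) (r : Γ(X, ⊤)) (a : Γ(N, ⊤)) (U : X.Opens)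
    (m : Γ(M, U)) :
    (mulBy M (globalHom N (r • a))).app U m =
      rres X (le_top : U ≤ ⊤) r • (mulBy M (globalHom N a)).app U m := by
  rw [mulBy_app, mulBy_app, sec_globalHom, sec_globalHom, res_smul, tm_smul_right]

theorem TT_mulBy_smul (M N : X.Modules) (r : Coh.Γtop X) (a : Γm N) :
    (TT X).map (mulBy M (globalHom N (r • a))) =
      (TT X).map (mulBy M (globalHom N a)) ≫ Coh.smulAb (CohB1.tensorMod M N) r := by
  ext U m
  change _ = (Coh.smulAb (CohB1.tensorMod M N) r).hom.app U
    ((mulBy M (globalHom N a)).app U.unop m)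
  rw [Coh.smulAb_app]
  exact mulBy_globalHom_smul_app M N r a U.unop m

section Lin

variable (k : Type u) [Field k] [X.Over (Spec (CommRingCat.of k))]

/-- `y ↦ Hᵖ(multiplication by the section y)`, a `k`-linear map -/
def mulH (M N : X.Modules) (p : ℕ) :
    Coh.HH X N 0 →ₗ[k] (Coh.HH X M p →ₗ[k] Coh.HH X (CohB1.tensorMod M N) p) where
  toFun y := FBC.HmapK k (mulBy M (globalHom N (H0equiv N y))) p
  map_add' y y' := by
    ext x
    show Hmap (mulBy M (globalHom N (H0equiv N (y + y')))) p x =
      Hmap (mulBy M (globalHom N (H0equiv N y))) p x +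
        Hmap (mulBy M (globalHom N (H0equiv N y'))) p x
    rw [map_add, globalHom_add', mulBy_add, FBC.Hmap_add]
  map_smul' c y := by
    ext x
    show Hmap (mulBy M (globalHom N (H0equiv N (c • y)))) p x =
      c • Hmap (mulBy M (globalHom N (H0equiv N y))) p x
    have h1 : H0equiv N (c • y) =
        Coh.toGlobal (X ↘ Spec (CommRingCat.of k)) c • H0equiv N y :=
      (H0equiv N).map_smul (Coh.toGlobal (X ↘ Spec (CommRingCat.of k)) c) y
    rw [h1, Hmap_apply, TT_mulBy_smul, Sheaf.H.map_comp_apply]
    rfl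

theorem mulH_apply (M N : X.Modules) (p : ℕ) (y : Coh.HH X N 0) (x : Coh.HH X M p) :
    mulH k M N p y x = Hmap (mulBy M (globalHom N (H0equiv N y))) p x := rfl

variable [IsProper (X ↘ Spec (CommRingCat.of k))]

include k in
/-- kernel trick: if `N` has more sections than `h¹(M)·h¹(M⊗N)` then some nonzero section of `N`
acts as zero `H¹(M) ⟶ H¹(M⊗N)`. -/
theorem exists_section_Hmap_eq_zero {M N : X.Modules} (hM : Coh.IsCoh M) (hN : Coh.IsCoh N)
    (hMN : Coh.IsCoh (CohB1.tensorMod M N))
    (h : Module.finrank k (Coh.HH X M 1) * Module.finrank k (Coh.HH X (CohB1.tensorMod M N) 1) <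
      Module.finrank k (Coh.HH X N 0)) :
    ∃ u : Coh.structureModule X ⟶ N, u ≠ 0 ∧ ∀ x, Hmap (mulBy M u) 1 x = 0 := by
  haveI := finite_HH k M hM 1
  haveI := finite_HH k N hN 0
  haveI := finite_HH k _ hMN 1
  have hker : LinearMap.ker (mulH k M N 1) ≠ ⊥ := by
    apply LinearMap.ker_ne_bot_of_finrank_lt
    rw [Module.finrank_linearMap]
    exact h
  obtain ⟨y, hy, hy0⟩ := Submodule.exists_mem_ne_zero_of_ne_bot hker
  refine ⟨globalHom N (H0equiv N y), ?_, fun x => ?_⟩
  · intro h0
    apply hy0
    have h1 := sec_globalHom N (H0equiv N y) ⊤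
    rw [h0, res_self] at h1
    have h2 : H0equiv N y = 0 := h1.symm
    exact (H0equiv N).map_eq_zero_iff.1 h2
  · have h1 : mulH k M N 1 y = 0 := hy
    have h2 := congrArg (fun f => f x) h1
    exact h2

end Lin

end Groth.Agent.Lib.Helper23.AmpleCurve
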