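import Mathlib
import Groth.Prelude
import Groth.Agent.Lib.Helper7.SnapFGA
import Groth.Agent.Lib.Helper7.IntNumPos

/-!
# Helper library (helper23): expansions of the intersection symbol for one, two and three
invertible modules.
-/

set_option autoImplicit false
set_option linter.unusedSectionVars false
set_option linter.style.haveILetI false
universe u
open CategoryTheory CategoryTheory.Limits AlgebraicGeometry

namespace Groth.Agent.Lib.Helper23.SurfRR

open Groth.Agent.Lib.Helper3 Groth.Agent.Lib.Helper3.InvMonoidal
  Groth.Agent.Lib.Helper7.SnapFGA Groth.Agent.Lib.Helper7.IntNumPos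

variable (k : Type u) [Field k] (X : Scheme.{u}) [X.Over (Spec (CommRingCat.of k))]
  [IsProper (X ↘ Spec (CommRingCat.of k))] (d : ℕ) (hd : topologicalKrullDim X ≤ d)

include hd in
theorem intNum_nil (G : X.Modules) :
    FGA.intNum k X d (![] : Fin 0 → X.Modules) G = Curv2.euler k X G := by
  rw [intNum_zero, eulerLE_iso k X (unitorL G) d, eulerLE_eq k X d hd]

include hd in
theorem intNum_one (A G : X.Modules) :
    FGA.intNum k X d ![A] G = Curv2.euler k X G - Curv2.euler k X (CohB1.tensorMod A G) := by
  have h := intNum_cons k X d A (![] : Fin 0 → X.Modules) G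
  have h' : FGA.intNum k X d ![A] G =
      FGA.intNum k X d (![] : Fin 0 → X.Modules) G -
        FGA.intNum k X d (![] : Fin 0 → X.Modules) (CohB1.tensorMod A G) := h
  rw [h', intNum_nil k X d hd, intNum_nil k X d hd]

include hd in
theorem intNum_pair (A B G : X.Modules) :
    FGA.intNum k X d ![A, B] G =
      Curv2.euler k X G - Curv2.euler k X (CohB1.tensorMod B G) -
        (Curv2.euler k X (CohB1.tensorMod A G) -
          Curv2.euler k X (CohB1.tensorMod B (CohB1.tensorMod A G))) := by
  have h := intNum_cons k X d A ![B] G
  have h' : FGA.intNum k X d ![A, B] G =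
      FGA.intNum k X d ![B] G - FGA.intNum k X d ![B] (CohB1.tensorMod A G) := h
  rw [h', intNum_one k X d hd, intNum_one k X d hd]

include hd in
theorem intNum_triple (A B C G : X.Modules) :
    FGA.intNum k X d ![A, B, C] G =
      FGA.intNum k X d ![B, C] G - FGA.intNum k X d ![B, C] (CohB1.tensorMod A G) :=
  intNum_cons k X d A ![B, C] G

end Groth.Agent.Lib.Helper23.SurfRR
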