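import Mathlib
import Groth.Prelude
import Groth.Agent.Lib.Helper23.SurfRRA
import Groth.Agent.Lib.Helper2.CMDual.Closed
import Groth.Agent.Lib.Helper7.FreeHomExact
import Groth.Agent.Lib.Helper7.SheafHomExt
import Groth.Agent.Lib.Helper7.GVSupp
import Groth.Agent.Lib.Helper7.TwFun
import Groth.Agent.Lib.Helper13.ProjFormulaLF
import Groth.Agent.Lib.Helper13.ModGrothendieck
import Groth.Agent.Lib.Helper2.Mon.PullTensor
import Groth.Agent.Lib.Helper26.FinPush
import Groth.Agent.Lib.Helper22.Sard2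
import Groth.Agent.Lib.Helper23.Inverse
import Groth.Agent.Lib.Helper23.CurveF
import Groth.Agent.Lib.Helper23.CurveD
import Groth.Agent.Lib.Helper23.T2N
import Groth.Agent.Lib.Helper23.FBC5
import Groth.Agent.Lib.Helper23.SnapC
import Groth.Agent.Lib.Helper3.QProj

/-!
# Helper library (helper23): Riemann–Roch on a Cohen–Macaulay projective surface with invertible
dualizing sheaf, from Serre duality and the vanishing of triple intersection numbers.
-/

set_option autoImplicit false
set_option linter.unusedSectionVars false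
set_option linter.style.haveILetI false
universe u
open CategoryTheory CategoryTheory.Limits AlgebraicGeometry

namespace Groth.Agent.Lib.Helper23.SurfRR

open Groth.Agent.Lib.Helper3 Groth.Agent.Lib.Helper3.InvMonoidal
  Groth.Agent.Lib.Helper7.SnapFGA Groth.Agent.Lib.Helper7.IntNumPos
  Groth.Agent.Lib.Helper7.TwFun Groth.Agent.Lib.Helper13

section Hom

variable {X : Scheme.{u}}

/-- `- ⊗ E` in the two guises. -/
noncomputable def trIso (E : X.Modules) : ProjFormulaLF.TR E ≅ twR E :=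
  NatIso.ofComponents (fun F => Iso.refl _) (fun {F F'} φ =>
    (Category.comp_id _).trans
      ((Groth.Agent.Lib.Helper2.Mon.tensorBi_map_app φ E).trans (Category.id_comp _).symm))

/-- `ℋom(L', -) ≅ - ⊗ L` when `L' ⊗ L ≅ O`. -/
noncomputable def sheafHomInvIso (Linv L : X.Modules)
    (e : CohB1.tensorMod Linv L ≅ Coh.structureModule X) [DCoh.HasSheafHom Linv] :
    DCoh.sheafHom Linv ≅ twR L :=
  Adjunction.rightAdjointUniq
    ((DCoh.sheafHomAdj Linv).ofNatIsoLeft (ProjFormulaLF.braidIso Linv ≪≫ trIso Linv))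
    (twEquiv Linv L e).toAdjunction

end Hom

section Main

variable (k : Type u) [Field k] (X : Scheme.{u}) [X.Over (Spec (CommRingCat.of k))]
  [IsIntegral X] (hdim : topologicalKrullDim X = 2)
  (N : ℕ) (ι : X ⟶ CohB1.ProjSpace N k) [IsClosedImmersion ι]
  (hι : ι ≫ CohB1.ProjSpace.toSpec N k = X ↘ Spec (CommRingCat.of k))
  (hCM : ∀ x : X, LocCoh.IsCohenMacaulayLocalRing (X.presheaf.stalk x))
  (ω : X.Modules) (hω : Coh.IsCoh ω) (t : Coh.HH X ω 2 →ₗ[k] k)
  (hdual : ∀ F : X.Modules, Coh.IsCoh F → ∀ ψ : Coh.HH X F 2 →ₗ[k] k,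
      ∃! φ : F ⟶ ω, ∀ x : Coh.HH X F 2,
        ψ x = t (Sheaf.H.map ((SheafOfModules.toSheaf X.ringCatSheaf).map φ) 2 x))

include hdim hι hCM hω hdual in
theorem finrank_duality (Linv L : X.Modules) (hLinv : PicF.IsInvertible Linv)
    (e : CohB1.tensorMod Linv L ≅ Coh.structureModule X) (i : ℕ) (hi : i ≤ 2) :
    Module.finrank k (Coh.HH X (CohB1.tensorMod ω L) (2 - i)) =
      Module.finrank k (Coh.HH X Linv i) := by
  haveI : EnoughInjectives X.Modules :=
    Groth.Agent.Lib.Helper13.ModGrothendieck.enoughInjectives X.ringCatSheaf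
  haveI : HasExt.{u} X.Modules := hasExt_of_enoughInjectives _
  haveI : IsProper (X ↘ Spec (CommRingCat.of k)) := by
    rw [← hι]
    infer_instance
  have hCM' : ∀ x : X, IsClosed ({x} : Set X) →
      LocCoh.IsCohenMacaulayLocalRing (X.presheaf.stalk x) ∧
        ringKrullDim (X.presheaf.stalk x) = (2 : ℕ) := by
    intro x hx
    refine ⟨hCM x, ?_⟩
    rw [Groth.Agent.Lib.Helper22.Sard.ringKrullDim_stalk_eq_topologicalKrullDim k X
      (X ↘ Spec (CommRingCat.of k)) x hx, hdim]
    rfl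
  have hFLF : FlatMod.IsFinLocFree Linv := by
    intro x
    obtain ⟨U, hxU, h⟩ :=
      Groth.Agent.Lib.Helper23.Curve.isFinLocFreeOfRank_one_of_isInvertible hLinv x
    exact ⟨U, 1, hxU, h⟩
  have hcoh : Coh.IsCoh Linv := Groth.Agent.Lib.Helper13.StalkPd.coh_of_lf hFLF
  haveI : DCoh.HasSheafHom Linv := Groth.Agent.Lib.Helper26.FinPush.hasSheafHom_dcoh Linv
  obtain ⟨e1⟩ := Groth.Agent.Lib.Helper2.CMDual.ext_linearEquiv_closed k N ι hι 2 hCM' ω hω t hdual
    Linv hcoh (2 - i) (Nat.sub_le 2 i)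
  have := Groth.Agent.Lib.Helper7.FreeHomExact.preservesFiniteColimits_sheafHom Linv hFLF
  obtain ⟨e2⟩ := Groth.Agent.Lib.Helper7.SheafHomExt.nonempty_ext_linearEquiv k Linv hFLF ω (2 - i)
  have hsub : 2 - (2 - i) = i := Nat.sub_sub_self hi
  rw [hsub] at e1
  have e3 := Groth.Agent.Lib.Helper23.FBC.HmapEquivK k ((sheafHomInvIso Linv L e).app ω) (2 - i)
  haveI := Groth.Agent.Lib.Helper23.T2.finite_HH k Linv hcoh i
  have h1 : Module.finrank k (Coh.HH X (CohB1.tensorMod ω L) (2 - i)) =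
      Module.finrank k (Module.Dual k (Coh.HH X Linv i)) :=
    ((e1.symm.trans e2).trans e3).finrank_eq.symm
  rw [h1, Subspace.dual_finrank_eq]

include hdim hι hCM hω hdual in
theorem euler_tensor_dualizing (Linv L : X.Modules) (hLinv : PicF.IsInvertible Linv)
    (hL : PicF.IsInvertible L)
    (e : CohB1.tensorMod Linv L ≅ Coh.structureModule X) :
    Curv2.euler k X (CohB1.tensorMod ω L) = Curv2.euler k X Linv := by
  haveI : IsProper (X ↘ Spec (CommRingCat.of k)) := by
    rw [← hι]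
    infer_instance
  have hcohLinv : Coh.IsCoh Linv := Groth.Agent.Lib.Helper23.Curve.isCoh_of_isInvertible hLinv
  have hcohωL : Coh.IsCoh (CohB1.tensorMod ω L) :=
    Groth.Agent.Lib.Helper23.HilbP.isCoh_tensor_inv X hL hω
  have hv : ∀ (F : X.Modules), Coh.IsCoh F → ∀ p : ℕ, 3 ≤ p → Subsingleton (Coh.HH X F p) := by
    intro F hF p hp
    refine Groth.Agent.Lib.Helper7.GVSupp.subsingleton_HH_of_dim_support_lt k X F hF 2 ?_ p hp
    exact (topologicalKrullDim_subspace_le X _).trans (le_of_eq hdim)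
  rw [Groth.Agent.Lib.Helper23.T2.euler_eq_sum k X _ hcohωL 3 (hv _ hcohωL),
    Groth.Agent.Lib.Helper23.T2.euler_eq_sum k X _ hcohLinv 3 (hv _ hcohLinv)]
  simp only [← Groth.Agent.Lib.Helper23.T2.finrank_eq_len k X _ hcohωL,
    ← Groth.Agent.Lib.Helper23.T2.finrank_eq_len k X _ hcohLinv]
  have a0 := finrank_duality k X hdim N ι hι hCM ω hω t hdual Linv L hLinv e 2 le_rfl
  have a1 := finrank_duality k X hdim N ι hι hCM ω hω t hdual Linv L hLinv e 1 (by norm_num)
  have a2 := finrank_duality k X hdim N ι hι hCM ω hω t hdual Linv L hLinv e 0 (by norm_num)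
  haveI := hv _ hcohωL 3 le_rfl
  haveI := hv _ hcohLinv 3 le_rfl
  have a3 : Module.finrank k (Coh.HH X (CohB1.tensorMod ω L) 3) = 0 :=
    Module.finrank_zero_of_subsingleton
  have b3 : Module.finrank k (Coh.HH X Linv 3) = 0 := Module.finrank_zero_of_subsingleton
  simp only [Finset.sum_range_succ, Finset.sum_range_zero, a3, b3]
  norm_num at a0 a1 a2 ⊢
  rw [a0, a1, a2]
  ring

end Main

end Groth.Agent.Lib.Helper23.SurfRR
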