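import Mathlib
import Groth.Prelude
import Groth.Agent.Lib.Helper23.SurfRRB

/-!
# Helper library (helper23): Riemann–Roch on a Cohen–Macaulay projective surface with invertible
dualizing sheaf (S14696).
-/

set_option autoImplicit false
set_option linter.unusedSectionVars false
set_option linter.style.haveILetI false
universe u
open CategoryTheory CategoryTheory.Limits AlgebraicGeometry

namespace Groth.Agent.Lib.Helper23.SurfRR

open Groth.Agent.Lib.Helper3 Groth.Agent.Lib.Helper3.InvMonoidal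
  Groth.Agent.Lib.Helper7.SnapFGA Groth.Agent.Lib.Helper7.IntNumPos
  Groth.Agent.Lib.Helper7.TwFun Groth.Agent.Lib.Helper13

variable (k : Type u) [Field k] (X : Scheme.{u}) [X.Over (Spec (CommRingCat.of k))]
  [IsIntegral X] (hdim : topologicalKrullDim X = 2)
  (N : ℕ) (ι : X ⟶ CohB1.ProjSpace N k) [IsClosedImmersion ι]
  (hι : ι ≫ CohB1.ProjSpace.toSpec N k = X ↘ Spec (CommRingCat.of k))
  (hCM : ∀ x : X, LocCoh.IsCohenMacaulayLocalRing (X.presheaf.stalk x))
  (ω : X.Modules) (hω : Coh.IsCoh ω) (t : Coh.HH X ω 2 →ₗ[k] k)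
  (hdual : ∀ F : X.Modules, Coh.IsCoh F → ∀ ψ : Coh.HH X F 2 →ₗ[k] k,
      ∃! φ : F ⟶ ω, ∀ x : Coh.HH X F 2,
        ψ x = t (Sheaf.H.map ((SheafOfModules.toSheaf X.ringCatSheaf).map φ) 2 x))

include hdim hι hCM hω hdual in
theorem riemann_roch (L : X.Modules) (hL : PicF.IsInvertible L) :
    2 * Curv2.euler k X L =
      FGA.intNum k X 2 ![L, L] (Coh.structureModule X) -
        FGA.intNum k X 2 ![L, ω] (Coh.structureModule X) +
        2 * Curv2.euler k X (Coh.structureModule X) := by
  haveI : IsProper (X ↘ Spec (CommRingCat.of k)) := by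
    rw [← hι]
    infer_instance
  have hd : topologicalKrullDim X ≤ (2 : ℕ) := le_of_eq hdim
  obtain ⟨Linv, hLinv, ⟨e0⟩⟩ := Groth.Agent.Lib.Helper23.Inverse.exists_isInverseOf hL
  have hO : PicF.IsInvertible (Coh.structureModule X) := Groth.Agent.Lib.Helper3.InvGen.isInvertible_structureModule X
  have hcohLinv : Coh.IsCoh Linv := Groth.Agent.Lib.Helper23.Curve.isCoh_of_isInvertible hLinv
  have hdualL := euler_tensor_dualizing k X hdim N ι hι hCM ω hω t hdual Linv L hLinv hL
    (braid Linv L ≪≫ e0)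
  have hdualO := euler_tensor_dualizing k X hdim N ι hι hCM ω hω t hdual
    (Coh.structureModule X) (Coh.structureModule X) hO hO (unitorL _)
  -- the triple intersection number vanishes
  have hM3 : ∀ i, PicF.IsInvertible ((![L, L, L] : Fin 3 → X.Modules) i) := by
    intro i; fin_cases i <;> exact hL
  have hr : topologicalKrullDim (CohB1.support Linv) < ((3 : ℕ) : WithBot ℕ∞) := by
    refine lt_of_le_of_lt ((topologicalKrullDim_subspace_le X _).trans (le_of_eq hdim)) ?_
    exact_mod_cast (by norm_num : (2 : ℕ∞) < 3)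
  have h3 := intNum_eq_zero k X 2 hd ![L, L, L] hM3 Linv hcohLinv hr
  rw [intNum_triple k X 2 hd, intNum_pair k X 2 hd, intNum_pair k X 2 hd] at h3
  -- isomorphisms
  have i1 : Curv2.euler k X (CohB1.tensorMod L Linv) = Curv2.euler k X (Coh.structureModule X) :=
    Groth.Agent.Lib.Helper23.FBC.euler_eq_of_iso' k e0
  have i2 : Curv2.euler k X (CohB1.tensorMod L (CohB1.tensorMod L Linv)) = Curv2.euler k X L :=
    Groth.Agent.Lib.Helper23.FBC.euler_eq_of_iso' k
      (tensorMapIso (Iso.refl L) e0 ≪≫ SecTwist.unitorR L)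
  have i3 : Curv2.euler k X (CohB1.tensorMod L (CohB1.tensorMod L (CohB1.tensorMod L Linv))) =
      Curv2.euler k X (CohB1.tensorMod L L) :=
    Groth.Agent.Lib.Helper23.FBC.euler_eq_of_iso' k
      (tensorMapIso (Iso.refl L) (tensorMapIso (Iso.refl L) e0 ≪≫ SecTwist.unitorR L))
  have i4 : Curv2.euler k X (CohB1.tensorMod L (Coh.structureModule X)) = Curv2.euler k X L :=
    Groth.Agent.Lib.Helper23.FBC.euler_eq_of_iso' k (SecTwist.unitorR L)
  have i5 : Curv2.euler k X (CohB1.tensorMod L (CohB1.tensorMod L (Coh.structureModule X))) =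
      Curv2.euler k X (CohB1.tensorMod L L) :=
    Groth.Agent.Lib.Helper23.FBC.euler_eq_of_iso' k
      (tensorMapIso (Iso.refl L) (SecTwist.unitorR L))
  have i6 : Curv2.euler k X (CohB1.tensorMod ω (CohB1.tensorMod L (Coh.structureModule X))) =
      Curv2.euler k X (CohB1.tensorMod ω L) :=
    Groth.Agent.Lib.Helper23.FBC.euler_eq_of_iso' k
      (tensorMapIso (Iso.refl ω) (SecTwist.unitorR L))
  rw [i1, i2, i3] at h3
  rw [intNum_pair k X 2 hd, intNum_pair k X 2 hd, i4, i5, i6, hdualL, hdualO]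
  linarith

end Groth.Agent.Lib.Helper23.SurfRR
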