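import Mathlib
import Groth.Prelude
import Groth.Agent.Lib.Helper7.NefTrivA
import Groth.Agent.Lib.Helper7.NegDefNef
import Groth.Agent.Lib.Helper23.RegDualC
import Groth.Agent.Lib.Helper23.SurfRRC
import Groth.Agent.Lib.Helper4.RegCM

/-!
# Helper library (helper23): ample implies nef (no Cartier hypothesis on the curve), sections pair
non-negatively with ample classes, and vanishing of `H²` on a regular projective surface for
invertible modules of large degree (S11343).
-/

set_option autoImplicit false
set_option linter.unusedSectionVars false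
set_option linter.style.haveILetI false
universe u
open CategoryTheory CategoryTheory.Limits AlgebraicGeometry

namespace Groth.Agent.Lib.Helper23.AmpleNef

open Groth.Agent.Lib.Helper3 Groth.Agent.Lib.Helper3.InvMonoidal
open Groth.Agent.Lib.Helper7.SurfIP

variable (k : Type u) [Field k] (X : Scheme.{u}) [X.Over (Spec (CommRingCat.of k))]
  [IsProper (X ↘ Spec (CommRingCat.of k))]

/-- an ample invertible module has positive degree on every closed subscheme with one-dimensional
support. -/
theorem deg_pos_of_ample (d : ℕ) (hd : topologicalKrullDim X ≤ d) (H : X.Modules)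
    (hH : CohB1.IsAmple H) (Γ : X.IdealSheafData)
    (hΓ1 : topologicalKrullDim (Γ.support : Set X) = 1) :
    0 < Curv2.euler k X (CohB1.tensorMod (ClSub.quotMod Γ) H) -
      Curv2.euler k X (ClSub.quotMod Γ) := by
  haveI : IsNoetherian X := Groth.Agent.Lib.Helper23.HilbP.isNoetherian_of_isProper k X
  obtain ⟨eH⟩ := Groth.Agent.Lib.Helper23.Inverse.tensor_dual_iso hH.1
  have hQ : Coh.IsCoh (ClSub.quotMod Γ) := Groth.Agent.Lib.Helper23.EffCart.isCoh_quotMod Γ
  have hF : Coh.IsCoh (CohB1.tensorMod (ClSub.quotMod Γ) H) :=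
    Groth.Agent.Lib.Helper23.HilbP.isCoh_tensor_inv X hH.1 hQ
  have hdimF : topologicalKrullDim (CohB1.support (CohB1.tensorMod (ClSub.quotMod Γ) H)) =
      ((1 : ℕ) : WithBot ℕ∞) := by
    rw [Groth.Agent.Lib.Helper23.HilbP.support_tensor_inv hH.1 hQ,
      Groth.Agent.Lib.Helper17.DevTest.support_A, hΓ1]
    norm_cast
  have hpos := Groth.Agent.Lib.Helper7.IntNumPos.intNum_pos k X d hd 1 (fun _ => H)
    (fun _ => Groth.Agent.Lib.Helper23.Inverse.dual H) (fun _ => hH) (fun _ => ⟨eH⟩)
    _ hF hdimF
  rw [Groth.Agent.Lib.Helper7.NefCoh.intNum_one k X d hd] at hpos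
  have e : CohB1.tensorMod (CohB1.tensorMod (ClSub.quotMod Γ) H)
      (Groth.Agent.Lib.Helper23.Inverse.dual H) ≅ ClSub.quotMod Γ :=
    assoc _ _ _ ≪≫ tensorMapIso (Iso.refl _) eH ≪≫ SecTwist.unitorR _
  rw [Groth.Agent.Lib.Helper23.FBC.euler_eq_of_iso' k e] at hpos
  exact hpos

/-- an ample invertible module is nef. -/
theorem nef_of_ample (d : ℕ) (hd : topologicalKrullDim X ≤ d) (H : X.Modules)
    (hH : CohB1.IsAmple H) :
    ∀ Γ : X.IdealSheafData, IsIntegral Γ.subscheme →
      topologicalKrullDim (Γ.support : Set X) = 1 →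
        0 ≤ Curv2.euler k X (CohB1.tensorMod (ClSub.quotMod Γ) H) -
          Curv2.euler k X (ClSub.quotMod Γ) :=
  fun Γ _ hΓ1 => (deg_pos_of_ample k X d hd H hH Γ hΓ1).le

/-- on an integral surface an invertible module with a nonzero section pairs non-negatively with
every ample module. -/
theorem ip_nonneg_of_section_ample [IsIntegral X] (hdim : topologicalKrullDim X = 2)
    (E : X.Modules) (hE : PicF.IsInvertible E) (s : Coh.structureModule X ⟶ E) (hs : s ≠ 0)
    (H : X.Modules) (hH : CohB1.IsAmple H) : 0 ≤ ip k X E H := by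
  have hd : topologicalKrullDim X ≤ ((2 : ℕ) : WithBot ℕ∞) := by
    rw [hdim]
    norm_cast
  exact Groth.Agent.Lib.Helper7.NefTrivA.ip_nonneg_of_section k X hdim E hE s hs H hH.1
    (nef_of_ample k X 2 hd H hH)

end Groth.Agent.Lib.Helper23.AmpleNef
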