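import Mathlib
import Groth.Prelude.Def_BMCoh

/-!
# Additivity of a twisted Borel–Moore theory for disjoint unions (helper23)
-/

set_option autoImplicit false
universe u
open CategoryTheory AlgebraicGeometry Opposite

namespace Groth.Agent.Lib.Helper23.BMAdd

open BMCoh

variable {V : ObjectProperty Scheme.{u}} [BMCoh.IsConstructible V] {R : Type u} [CommRing R]
  {A : BMCoh.Coefs R} (T : BMCoh.PreTheory V R A)

/-- An open immersion with closed range is a closed immersion. -/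
theorem isClosedImmersion_of_range_eq_compl {X Y W : Scheme.{u}} (iX : X ⟶ W) (iY : Y ⟶ W)
    [IsOpenImmersion iX] [IsOpenImmersion iY] (h : Set.range iX = (Set.range iY)ᶜ) :
    IsClosedImmersion iY := by
  apply IsClosedImmersion.of_isPreimmersion
  have h' : Set.range iY = (Set.range iX)ᶜ := by rw [h, compl_compl]
  rw [h']
  exact (iX.isOpenEmbedding.isOpen_range).isClosed_compl

/-- Push-forward along a closed immersion of codimension zero which is also a morphism of objects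
is a section of the restriction. -/
theorem pull_push_self {Y W : BMCoh.Obj V} (iY : Y ⟶ W) [IsProper iY.hom] (M : A.Cat) (i n : ℤ)
    (hi : i = i + 2 * BMCoh.relCodim Y.scheme W.scheme)
    (hn : n = n + BMCoh.relCodim Y.scheme W.scheme) :
    T.push iY.hom M i n i n hi hn ≫ T.pull iY M i n = 𝟙 _ := by
  have hc : BMCoh.relCodim Y.scheme Y.scheme = 0 := by unfold BMCoh.relCodim; ring
  have hi' : i = i + 2 * BMCoh.relCodim Y.scheme Y.scheme := by rw [hc]; ring
  have hn' : n = n + BMCoh.relCodim Y.scheme Y.scheme := by rw [hc]; ring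
  have hsq : IsPullback (𝟙 Y : Y ⟶ Y).hom (𝟙 Y.scheme) iY.hom iY.hom :=
    IsKernelPair.id_of_mono iY.hom
  have h := T.push_pull iY.hom (𝟙 Y.scheme) iY (𝟙 Y) hsq M i n i n hi hn hi' hn'
  rw [T.push_id Y M i n hi' hn'] at h
  rw [h, Category.comp_id]
  change ((T.H i n).map (𝟙 Y : Y ⟶ Y).op).app M = 𝟙 _
  rw [op_id, CategoryTheory.Functor.map_id]
  rfl

theorem pull_prod_bijective {X Y W : BMCoh.Obj V} (iX : X ⟶ W) (iY : Y ⟶ W)
    (h : Set.range iX.hom = (Set.range iY.hom)ᶜ) (M : A.Cat) (i n : ℤ) :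
    Function.Bijective (fun a : T.gp W M i n =>
      ((T.pull iX M i n).hom a, (T.pull iY M i n).hom a)) := by
  obtain ⟨i₀, rfl⟩ : ∃ i₀, i = i₀ + 1 := ⟨i - 1, by ring⟩
  haveI hcl : IsClosedImmersion iY.hom := isClosedImmersion_of_range_eq_compl iX.hom iY.hom h
  let D : BMCoh.Decomp W :=
    { Z := Y, U := X, i := iY.hom, closedImm := hcl, j := iX, range_eq := h }
  have hc : BMCoh.relCodim Y.scheme W.scheme = 0 := by
    unfold BMCoh.relCodim
    rw [iY.dim_eq]
    ring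
  have hcD : D.codim = 0 := hc
  -- index equations
  have a1 : i₀ + 1 = i₀ + 1 + 2 * BMCoh.relCodim D.Z.scheme W.scheme := by
    rw [show BMCoh.relCodim D.Z.scheme W.scheme = 0 from hc]; ring
  have a2 : n = n + BMCoh.relCodim D.Z.scheme W.scheme := by
    rw [show BMCoh.relCodim D.Z.scheme W.scheme = 0 from hc]; ring
  have b1 : i₀ + 1 + 1 = i₀ + 1 + 1 - 2 * D.codim := by rw [hcD]; ring
  have b2 : n = n - D.codim := by rw [hcD]; ring
  have c1 : i₀ + 1 + 1 = i₀ + 1 + 1 + 2 * BMCoh.relCodim D.Z.scheme W.scheme := by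
    rw [show BMCoh.relCodim D.Z.scheme W.scheme = 0 from hc]; ring
  -- the exact sequences
  have E1 := T.exact_push_pull D M i₀ n (i₀ + 1) n a1 a2
  have E3 := T.exact_pull_res D M (i₀ + 1) n (i₀ + 1 + 1) n b1 b2
  have E4 := T.exact_res_push D M (i₀ + 1) n (i₀ + 1 + 1) n b1 b2 c1 a2
  have S1 := pull_push_self T iY M (i₀ + 1) n a1 a2
  have S2 := pull_push_self T iY M (i₀ + 1 + 1) n c1 a2
  have s1 : ∀ b, (T.pull iY M (i₀ + 1) n).hom
      ((T.push iY.hom M (i₀ + 1) n (i₀ + 1) n a1 a2).hom b) = b := fun b => by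
    have := congrArg (fun φ => φ.hom b) S1
    exact this
  have s2 : ∀ b, (T.pull iY M (i₀ + 1 + 1) n).hom
      ((T.push iY.hom M (i₀ + 1 + 1) n (i₀ + 1 + 1) n c1 a2).hom b) = b := fun b => by
    have := congrArg (fun φ => φ.hom b) S2
    exact this
  have e1 : ∀ b, (T.pull iX M (i₀ + 1) n).hom
      ((T.push iY.hom M (i₀ + 1) n (i₀ + 1) n a1 a2).hom b) = 0 := fun b =>
    (E1 _).mpr ⟨b, rfl⟩
  constructor
  · intro a a' haa
    have h1 : (T.pull iX M (i₀ + 1) n).hom a = (T.pull iX M (i₀ + 1) n).hom a' :=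
      congrArg Prod.fst haa
    have h2 : (T.pull iY M (i₀ + 1) n).hom a = (T.pull iY M (i₀ + 1) n).hom a' :=
      congrArg Prod.snd haa
    have h3 : (T.pull iX M (i₀ + 1) n).hom (a - a') = 0 := by rw [map_sub, h1, sub_self]
    obtain ⟨b, hb⟩ := (E1 (a - a')).mp h3
    have h4 : (T.pull iY M (i₀ + 1) n).hom (a - a') = 0 := by rw [map_sub, h2, sub_self]
    have hb' : (T.push iY.hom M (i₀ + 1) n (i₀ + 1) n a1 a2).hom b = a - a' := hb
    have h5 : b = 0 := by rw [← s1 b, hb', h4]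
    rw [h5, map_zero] at hb'
    exact sub_eq_zero.mp hb'.symm
  · rintro ⟨x, y⟩
    have hx : (T.res D M (i₀ + 1) n (i₀ + 1 + 1) n b1 b2).hom x = 0 := by
      have h6 : (T.push iY.hom M (i₀ + 1 + 1) n (i₀ + 1 + 1) n c1 a2).hom
          ((T.res D M (i₀ + 1) n (i₀ + 1 + 1) n b1 b2).hom x) = 0 := (E4 _).mpr ⟨x, rfl⟩
      rw [← s2 ((T.res D M (i₀ + 1) n (i₀ + 1 + 1) n b1 b2).hom x), h6, map_zero]
    obtain ⟨a, ha⟩ := (E3 x).mp hx
    have ha' : (T.pull iX M (i₀ + 1) n).hom a = x := ha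
    refine ⟨a + (T.push iY.hom M (i₀ + 1) n (i₀ + 1) n a1 a2).hom
      (y - (T.pull iY M (i₀ + 1) n).hom a), ?_⟩
    apply Prod.ext
    · change (T.pull iX M (i₀ + 1) n).hom (a + _) = x
      rw [map_add, e1, add_zero, ha']
    · change (T.pull iY M (i₀ + 1) n).hom (a + _) = y
      rw [map_add, s1]
      abel

end Groth.Agent.Lib.Helper23.BMAdd
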