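import Mathlib
import Groth.Prelude.Def_WeilCoh
import Groth.Agent.Lib.Helper9.TopDim
import Groth.Agent.Lib.Helper23.WeilCohPt

/-!
# Natural-number valued dimension of topological spaces (helper23)

Monotonicity and strictness properties of `WeilCoh.natDim`, `WeilCoh.pdim`, `WeilCoh.codim`.
-/

set_option autoImplicit false

open TopologicalSpace Topology

namespace Groth.Agent.Lib.Helper23.BMTop

open Groth.Agent.Lib.Helper23.WeilCohPt

section Arith

theorem toNat_unbotD_le {a b : WithBot ℕ∞} (h : a ≤ b) (hb : b < ⊤) :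
    (a.unbotD 0).toNat ≤ (b.unbotD 0).toNat := by
  rcases a with _ | a
  · exact Nat.zero_le _
  · rcases b with _ | b
    · exact (WithBot.not_coe_le_bot a h).elim
    · have hb' : b ≠ ⊤ := by
        rintro rfl
        exact lt_irrefl _ hb
      exact ENat.toNat_le_toNat (WithBot.coe_le_coe.mp h) hb'

theorem toNat_unbotD_lt {a b : WithBot ℕ∞} (h : a < b) (ha : a ≠ ⊥) (hb : b < ⊤) :
    (a.unbotD 0).toNat < (b.unbotD 0).toNat := by
  rcases a with _ | a
  · exact absurd rfl ha
  · rcases b with _ | b
    · exact (not_lt_bot h).elim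
    · have hb' : b ≠ ⊤ := by
        rintro rfl
        exact lt_irrefl _ hb
      have hab : a < b := WithBot.coe_lt_coe.mp h
      have ha' : a ≠ ⊤ := ne_top_of_lt hab
      lift a to ℕ using ha'
      lift b to ℕ using hb'
      change (ENat.toNat (a : ℕ∞)) < ENat.toNat (b : ℕ∞)
      rw [ENat.toNat_natCast, ENat.toNat_natCast]
      exact_mod_cast hab

end Arith

section Top

variable {S T : Type*} [TopologicalSpace S] [TopologicalSpace T]

theorem natDim_le_of_isInducing (f : S → T) (hf : IsInducing f)
    (hfin : topologicalKrullDim T < ⊤) : WeilCoh.natDim S ≤ WeilCoh.natDim T :=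
  toNat_unbotD_le hf.topologicalKrullDim_le hfin

theorem topologicalKrullDim_lt_top_of_isInducing (f : S → T) (hf : IsInducing f)
    (hfin : topologicalKrullDim T < ⊤) : topologicalKrullDim S < ⊤ :=
  lt_of_le_of_lt hf.topologicalKrullDim_le hfin

theorem natDim_eq_zero_of_isEmpty [IsEmpty S] : WeilCoh.natDim S = 0 :=
  natDim_eq_zero_of_subsingleton S

/-- A nonempty closed proper subspace of an irreducible space of finite dimension has smaller
dimension. -/
theorem natDim_lt_of_isClosedEmbedding [IrreducibleSpace T] [Nonempty S] (f : S → T)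
    (hf : IsClosedEmbedding f) (hfin : topologicalKrullDim T < ⊤)
    (hne : Set.range f ≠ Set.univ) : WeilCoh.natDim S < WeilCoh.natDim T := by
  have e : S ≃ₜ ↥(Set.range f) := hf.toIsEmbedding.toHomeomorph
  have h1 : topologicalKrullDim S = topologicalKrullDim ↥(Set.range f) :=
    IsHomeomorph.topologicalKrullDim_eq e e.isHomeomorph
  have h2 := Groth.Agent.Lib.Helper9.topologicalKrullDim_lt_of_isClosed_of_ne_univ
    (ne_of_lt hfin) (Set.range f) hf.isClosed_range hne
  rw [← h1] at h2
  have h3 : topologicalKrullDim S ≠ ⊥ := by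
    have := Groth.Agent.Lib.Helper9.topologicalKrullDim_nonneg_of_nonempty (X := S)
    intro h
    rw [h] at this
    exact absurd this (by simp)
  exact toNat_unbotD_lt h2 h3 hfin

end Top

section Pdim

open AlgebraicGeometry

universe u

variable (X : Scheme.{u})

theorem pdim_le_dim (hfin : topologicalKrullDim X < ⊤) (x : X) :
    WeilCoh.pdim X x ≤ WeilCoh.dim X :=
  natDim_le_of_isInducing Subtype.val IsInducing.subtypeVal hfin

theorem codim_cast (hfin : topologicalKrullDim X < ⊤) (x : X) :
    ((WeilCoh.codim X x : ℕ) : ℤ) = (WeilCoh.dim X : ℤ) - (WeilCoh.pdim X x : ℤ) := by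
  unfold WeilCoh.codim
  rw [Nat.cast_sub (pdim_le_dim X hfin x)]

/-- A proper specialization has smaller dimension. -/
theorem pdim_lt_of_specializes (hfin : topologicalKrullDim X < ⊤) {x y : X} (h : x ⤳ y)
    (hne : y ≠ x) : WeilCoh.pdim X y < WeilCoh.pdim X x := by
  have hsub : closure ({y} : Set X) ⊆ closure {x} := by
    apply closure_minimal _ isClosed_closure
    rw [Set.singleton_subset_iff]
    exact h.mem_closure
  haveI : IrreducibleSpace ↥(closure ({x} : Set X)) :=
    Subtype.irreducibleSpace isIrreducible_singleton.closure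
  haveI : Nonempty ↥(closure ({y} : Set X)) := ⟨⟨y, subset_closure rfl⟩⟩
  have hcl : IsClosedEmbedding (Set.inclusion hsub) := by
    apply IsClosedEmbedding.inclusion
    exact isClosed_closure.preimage continuous_subtype_val
  refine natDim_lt_of_isClosedEmbedding (Set.inclusion hsub) hcl
    (topologicalKrullDim_lt_top_of_isInducing Subtype.val IsInducing.subtypeVal hfin) ?_
  intro hrange
  have hx : (⟨x, subset_closure rfl⟩ : ↥(closure ({x} : Set X))) ∈
      Set.range (Set.inclusion hsub) := by rw [hrange]; trivial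
  obtain ⟨⟨z, hz⟩, hzx⟩ := hx
  have hzx' : z = x := congrArg Subtype.val hzx
  subst hzx'
  have h2 : y ⤳ z := specializes_iff_mem_closure.mpr hz
  exact hne ((h.antisymm h2).eq).symm

theorem codim_lt_of_specializes (hfin : topologicalKrullDim X < ⊤) {x y : X} (h : x ⤳ y)
    (hne : y ≠ x) : WeilCoh.codim X x < WeilCoh.codim X y := by
  have h1 := pdim_lt_of_specializes X hfin h hne
  have h2 := pdim_le_dim X hfin x
  unfold WeilCoh.codim
  omega

/-- On a nonempty noetherian scheme of finite dimension some point has codimension zero. -/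
theorem exists_pdim_eq_dim [NoetherianSpace X] [Nonempty X] : ∃ x : X, WeilCoh.pdim X x = WeilCoh.dim X := by
  have hS : (irreducibleComponents X).Finite := NoetherianSpace.finite_irreducibleComponents
  have hne : (irreducibleComponents X).Nonempty :=
    ⟨irreducibleComponent (Classical.arbitrary X), irreducibleComponent_mem_irreducibleComponents _⟩
  obtain ⟨Y₀, hY₀, hmax⟩ := Set.exists_max_image (irreducibleComponents X)
    (fun Y => topologicalKrullDim ↥Y) hS hne
  have hsup : topologicalKrullDim X = topologicalKrullDim ↥Y₀ := by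
    rw [Groth.Agent.Lib.Helper9.topologicalKrullDim_eq_iSup_irreducibleComponents]
    apply le_antisymm
    · exact iSup₂_le fun Y hY => hmax Y hY
    · exact le_iSup₂ (f := fun Y (_ : Y ∈ irreducibleComponents X) => topologicalKrullDim ↥Y)
        Y₀ hY₀
  have hirr : IsIrreducible Y₀ := hY₀.1
  have hcl : IsClosed Y₀ := isClosed_of_mem_irreducibleComponents Y₀ hY₀
  obtain ⟨x, hx⟩ := QuasiSober.sober hirr hcl
  refine ⟨x, ?_⟩
  unfold WeilCoh.pdim WeilCoh.dim WeilCoh.natDim
  rw [hx.def, hsup]

end Pdim

end Groth.Agent.Lib.Helper23.BMTop
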