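import Mathlib
import Groth.Prelude.Def_BMCoh2
import Groth.Agent.Lib.Helper23.BMTop
import Groth.Agent.Lib.Helper23.WeilCohDim

/-!
# Objects, pieces of closures of points and decompositions for twisted Borel–Moore theories (helper23)
-/

set_option autoImplicit false
universe u
open CategoryTheory AlgebraicGeometry Opposite TopologicalSpace

namespace Groth.Agent.Lib.Helper23.BMObj

open BMCoh Groth.Agent.Lib.Helper23.WeilCohDim

variable {V : ObjectProperty Scheme.{u}} [BMCoh.IsConstructible V]

section Basic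

variable (X : Obj V)

theorem finDim : topologicalKrullDim X.scheme < ⊤ := IsConstructible.finiteDim X.mem

theorem isNoetherian : IsNoetherian X.scheme := IsConstructible.isNoetherian X.mem

theorem pdim_le_dim (x : X.scheme) : WeilCoh.pdim X.scheme x ≤ WeilCoh.dim X.scheme :=
  BMTop.pdim_le_dim X.scheme (finDim X) x

theorem codim_cast (x : X.scheme) :
    ((WeilCoh.codim X.scheme x : ℕ) : ℤ) =
      (WeilCoh.dim X.scheme : ℤ) - (WeilCoh.pdim X.scheme x : ℤ) :=
  BMTop.codim_cast X.scheme (finDim X) x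

theorem codim_lt_of_specializes {x y : X.scheme} (h : x ⤳ y) (hne : y ≠ x) :
    WeilCoh.codim X.scheme x < WeilCoh.codim X.scheme y :=
  BMTop.codim_lt_of_specializes X.scheme (finDim X) h hne

theorem codim_le_of_specializes {x y : X.scheme} (h : x ⤳ y) :
    WeilCoh.codim X.scheme x ≤ WeilCoh.codim X.scheme y := by
  by_cases hne : y = x
  · rw [hne]
  · exact (codim_lt_of_specializes X h hne).le

end Basic

section PtSub

variable (X : Obj V) (x : X.scheme)

theorem range_ptSubι : Set.range (X.ptSubι x) = closure {x} := range_clι x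

instance : IrreducibleSpace (X.ptSub x).scheme :=
  inferInstanceAs (IrreducibleSpace (clSub x))

theorem dim_ptSub : WeilCoh.dim (X.ptSub x).scheme = WeilCoh.pdim X.scheme x :=
  (pdim_eq_natDim_clSub x).symm

theorem ptSubι_genericPoint : X.ptSubι x (genericPoint (X.ptSub x).scheme) = x :=
  clι_genericPoint x

theorem genericPoint_mem_of_nonempty (W : (X.ptSub x).scheme.Opens)
    (hW : (W : Set (X.ptSub x).scheme).Nonempty) : genericPoint (X.ptSub x).scheme ∈ W := by
  obtain ⟨w, hw⟩ := hW
  exact (genericPoint_specializes w).mem_open W.2 hw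

theorem dim_ptOpens (W : (X.ptSub x).scheme.Opens)
    (hW : (W : Set (X.ptSub x).scheme).Nonempty) :
    WeilCoh.dim (W : Scheme.{u}) = WeilCoh.pdim X.scheme x := by
  rw [IsConstructible.dim_open (X.ptSub x).mem inferInstance W hW, dim_ptSub]

/-- The trace on the reduced closure of `x` of an open of `X`. -/
noncomputable abbrev ptOpen (U : X.scheme.Opens) : (X.ptSub x).scheme.Opens := (X.ptSubι x) ⁻¹ᵁ U

variable {X x}

theorem ptOpen_nonempty {U : X.scheme.Opens} (hx : x ∈ U) :
    ((ptOpen X x U : (X.ptSub x).scheme.Opens) : Set (X.ptSub x).scheme).Nonempty :=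
  ⟨genericPoint _, by
    change X.ptSubι x (genericPoint _) ∈ U
    rw [ptSubι_genericPoint]
    exact hx⟩

theorem dim_ptOpen {U : X.scheme.Opens} (hx : x ∈ U) :
    WeilCoh.dim ((ptOpen X x U : (X.ptSub x).scheme.Opens) : Scheme.{u}) =
      WeilCoh.pdim X.scheme x :=
  dim_ptOpens X x _ (ptOpen_nonempty hx)

theorem ptOpen_mono {U U' : X.scheme.Opens} (h : U ≤ U') : ptOpen X x U ≤ ptOpen X x U' :=
  fun _ hz => h hz

end PtSub

section Full

variable (X : Obj V)

/-- An open containing a point of codimension zero has the dimension of the whole scheme. -/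
theorem dim_open_eq_of_mem (U : X.scheme.Opens) (x₀ : X.scheme)
    (hx₀ : WeilCoh.pdim X.scheme x₀ = WeilCoh.dim X.scheme) (hU : x₀ ∈ U) :
    WeilCoh.dim (U : Scheme.{u}) = WeilCoh.dim X.scheme := by
  have hUfin : topologicalKrullDim ↥(U : Scheme.{u}) < ⊤ :=
    BMTop.topologicalKrullDim_lt_top_of_isInducing U.ι U.ι.isOpenEmbedding.isInducing (finDim X)
  apply le_antisymm
  · exact BMTop.natDim_le_of_isInducing U.ι U.ι.isOpenEmbedding.isInducing (finDim X)
  · have hW := dim_ptOpen (X := X) (x := x₀) hU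
    rw [← hx₀, ← hW]
    exact BMTop.natDim_le_of_isInducing (X.ptSubι x₀ ∣_ U)
      (X.ptSubι x₀ ∣_ U).isClosedEmbedding.isInducing hUfin

/-- An open containing all points of codimension zero has the dimension of the whole scheme. -/
theorem dim_eq_of_containsFj (j : ℕ) (U : X.scheme.Opens) (hU : ContainsFj X j U) :
    WeilCoh.dim (U : Scheme.{u}) = WeilCoh.dim X.scheme := by
  haveI := isNoetherian X
  rcases isEmpty_or_nonempty X.scheme with hE | hN
  · haveI : IsEmpty ↥(U : Scheme.{u}) := ⟨fun z => hE.false (U.ι z)⟩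
    exact (BMTop.natDim_eq_zero_of_isEmpty (S := ↥(U : Scheme.{u}))).trans
      (BMTop.natDim_eq_zero_of_isEmpty (S := ↥X.scheme)).symm
  · obtain ⟨x₀, hx₀⟩ := BMTop.exists_pdim_eq_dim X.scheme
    refine dim_open_eq_of_mem X U x₀ hx₀ (hU x₀ ?_)
    unfold WeilCoh.codim
    rw [hx₀, Nat.sub_self]
    exact Nat.zero_le j

end Full

end Groth.Agent.Lib.Helper23.BMObj
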