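import Mathlib
import Groth.Prelude.Def_BMCoh3
import Groth.Agent.Lib.Helper23.BMObj

/-!
# Filtered colimits of module-valued functors, evaluated; the colimits `ocolim` of a pre-theory (helper23)
-/

set_option autoImplicit false
universe u
open CategoryTheory CategoryTheory.Limits AlgebraicGeometry Opposite TopologicalSpace

namespace Groth.Agent.Lib.Helper23.BMColim

noncomputable section

section General

variable {R : Type u} [CommRing R] {J : Type u} [SmallCategory J] [IsFiltered J]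
  {C : Type (u+1)} [Category.{u} C] (F : J ⥤ (C ⥤ ModuleCat.{u} R)) (M : C)

/-- The colimit cocone evaluated at `M`. -/
noncomputable def evCocone : Cocone (F ⋙ (evaluation C (ModuleCat.{u} R)).obj M) :=
  ((evaluation C (ModuleCat.{u} R)).obj M).mapCocone (colimit.cocone F)

noncomputable def evIsColimit : IsColimit (evCocone F M) :=
  isColimitOfPreserves _ (colimit.isColimit F)

theorem exists_rep (a : (colimit F).obj M) :
    ∃ (j : J) (b : (F.obj j).obj M), ((colimit.ι F j).app M).hom b = a := by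
  obtain ⟨j, b, hb⟩ := Concrete.isColimit_exists_rep _ (evIsColimit F M) a
  exact ⟨j, b, hb⟩

theorem ι_eq_iff {j j' : J} (b : (F.obj j).obj M) (b' : (F.obj j').obj M) :
    ((colimit.ι F j).app M).hom b = ((colimit.ι F j').app M).hom b' ↔
      ∃ (k : J) (f : j ⟶ k) (g : j' ⟶ k), ((F.map f).app M).hom b = ((F.map g).app M).hom b' :=
  Concrete.isColimit_rep_eq_iff_exists (F ⋙ (evaluation C (ModuleCat.{u} R)).obj M)
    (evIsColimit F M) b b'

theorem ι_eq_zero_iff {j : J} (b : (F.obj j).obj M) :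
    ((colimit.ι F j).app M).hom b = 0 ↔
      ∃ (k : J) (f : j ⟶ k), ((F.map f).app M).hom b = 0 := by
  constructor
  · intro h
    have h' : ((colimit.ι F j).app M).hom b = ((colimit.ι F j).app M).hom 0 := by
      rw [h, map_zero]
    obtain ⟨k, f, g, hfg⟩ := (ι_eq_iff F M b 0).1 h'
    exact ⟨k, f, by rw [hfg, map_zero]⟩
  · rintro ⟨k, f, hf⟩
    have hw : (F.map f).app M ≫ (colimit.ι F k).app M = (colimit.ι F j).app M := by
      rw [← NatTrans.comp_app, colimit.w]
    rw [← hw, ModuleCat.comp_apply, hf, map_zero]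

theorem hom_ext {N : ModuleCat.{u} R} (f g : (colimit F).obj M ⟶ N)
    (h : ∀ j, (colimit.ι F j).app M ≫ f = (colimit.ι F j).app M ≫ g) : f = g :=
  (evIsColimit F M).hom_ext h

end General

section Ocolim

open BMCoh

variable {V : ObjectProperty Scheme.{u}} [BMCoh.IsConstructible V] {R : Type u} [CommRing R]
  {A : BMCoh.Coefs R} (T : BMCoh.PreTheory V R A)
variable (X : Obj V) (P : X.scheme.Opens → Prop) (M : A.Cat) (i n : ℤ)

theorem ocolimι_w {U U' : Idx X P} (h : U' ≤ U) :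
    T.pull ((idxDiag X P).map (homOfLE h)) M i n ≫ (T.ocolimι X P i n U').app M =
      (T.ocolimι X P i n U).app M := by
  have := colimit.w ((idxDiag X P).op ⋙ T.H i n) (homOfLE h).op
  exact congrArg (fun t => t.app M) this

theorem ocolimι_w_apply {U U' : Idx X P} (h : U' ≤ U) (b : T.gp (X.res U.1) M i n) :
    ((T.ocolimι X P i n U').app M).hom ((T.pull ((idxDiag X P).map (homOfLE h)) M i n).hom b) =
      ((T.ocolimι X P i n U).app M).hom b := by
  rw [← ocolimι_w T X P M i n h]; rfl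

/-- Variant of `ocolimι_w` with the transition map written as `resLE`. -/
theorem ocolimι_resLE {U U' : Idx X P} (h : U'.1 ≤ U.1)
    (hd : WeilCoh.dim (U'.1 : Scheme.{u}) = WeilCoh.dim (U.1 : Scheme.{u})) :
    T.pull (X.resLE h hd) M i n ≫ (T.ocolimι X P i n U').app M =
      (T.ocolimι X P i n U).app M :=
  ocolimι_w T X P M i n (U := U) (U' := U') h

theorem ocolimι_resLE_apply {U U' : Idx X P} (h : U'.1 ≤ U.1)
    (hd : WeilCoh.dim (U'.1 : Scheme.{u}) = WeilCoh.dim (U.1 : Scheme.{u}))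
    (b : T.gp (X.res U.1) M i n) :
    ((T.ocolimι X P i n U').app M).hom ((T.pull (X.resLE h hd) M i n).hom b) =
      ((T.ocolimι X P i n U).app M).hom b := by
  rw [← ocolimι_resLE T X P M i n h hd]; rfl

theorem ocolimMap_ι {Q : X.scheme.Opens → Prop} (h : ∀ U, P U → Q U) (U : Idx X P) :
    (T.ocolimι X P i n U).app M ≫ (T.ocolimMap X h i n).app M =
      (T.ocolimι X Q i n ((idxIncl X h).obj U)).app M := by
  have := colimit.ι_pre ((idxDiag X Q).op ⋙ T.H i n) (idxIncl X h).op (op U)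
  exact congrArg (fun t => t.app M) this

theorem ocolimMap_ι_apply {Q : X.scheme.Opens → Prop} (h : ∀ U, P U → Q U) (U : Idx X P)
    (b : T.gp (X.res U.1) M i n) :
    ((T.ocolimMap X h i n).app M).hom (((T.ocolimι X P i n U).app M).hom b) =
      ((T.ocolimι X Q i n ((idxIncl X h).obj U)).app M).hom b := by
  rw [← ocolimMap_ι T X P M i n h]; rfl

variable [IsFiltered (Idx X P)ᵒᵖ]

theorem ocolim_exists_rep (a : (T.ocolim X P i n).obj M) :
    ∃ (U : Idx X P) (b : T.gp (X.res U.1) M i n), ((T.ocolimι X P i n U).app M).hom b = a := by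
  obtain ⟨j, b, hb⟩ := exists_rep ((idxDiag X P).op ⋙ T.H i n) M a
  exact ⟨j.unop, b, hb⟩

theorem ocolimι_eq_zero_iff (U : Idx X P) (b : T.gp (X.res U.1) M i n) :
    ((T.ocolimι X P i n U).app M).hom b = 0 ↔
      ∃ (U' : Idx X P) (h : U' ≤ U),
        (T.pull ((idxDiag X P).map (homOfLE h)) M i n).hom b = 0 := by
  constructor
  · intro h0
    obtain ⟨k, f, hf⟩ := (ι_eq_zero_iff ((idxDiag X P).op ⋙ T.H i n) M (j := op U) b).1 h0
    exact ⟨k.unop, leOfHom f.unop, hf⟩
  · rintro ⟨U', h, hb⟩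
    rw [← ocolimι_w_apply T X P M i n h, hb]
    exact map_zero _

theorem ocolimι_eq_iff (U U' : Idx X P) (b : T.gp (X.res U.1) M i n)
    (b' : T.gp (X.res U'.1) M i n) :
    ((T.ocolimι X P i n U).app M).hom b = ((T.ocolimι X P i n U').app M).hom b' ↔
      ∃ (U'' : Idx X P) (h : U'' ≤ U) (h' : U'' ≤ U'),
        (T.pull ((idxDiag X P).map (homOfLE h)) M i n).hom b =
          (T.pull ((idxDiag X P).map (homOfLE h')) M i n).hom b' := by
  constructor
  · intro h0
    obtain ⟨k, f, g, hf⟩ :=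
      (ι_eq_iff ((idxDiag X P).op ⋙ T.H i n) M (j := op U) (j' := op U') b b').1 h0
    exact ⟨k.unop, leOfHom f.unop, leOfHom g.unop, hf⟩
  · rintro ⟨U'', h, h', hb⟩
    rw [← ocolimι_w_apply T X P M i n h, ← ocolimι_w_apply T X P M i n h', hb]

theorem ocolimι_eq_zero_iff' (U : Idx X P) (b : T.gp (X.res U.1) M i n) :
    ((T.ocolimι X P i n U).app M).hom b = 0 ↔
      ∃ (U' : Idx X P) (h : U'.1 ≤ U.1)
        (hd : WeilCoh.dim (U'.1 : Scheme.{u}) = WeilCoh.dim (U.1 : Scheme.{u})),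
        (T.pull (X.resLE h hd) M i n).hom b = 0 := by
  rw [ocolimι_eq_zero_iff]
  constructor
  · rintro ⟨U', h, hb⟩
    exact ⟨U', h, U'.2.2.trans U.2.2.symm, hb⟩
  · rintro ⟨U', h, hd, hb⟩
    exact ⟨U', h, hb⟩

theorem ocolim_hom_ext {N : ModuleCat.{u} R} (f g : (T.ocolim X P i n).obj M ⟶ N)
    (h : ∀ U : Idx X P, (T.ocolimι X P i n U).app M ≫ f = (T.ocolimι X P i n U).app M ≫ g) :
    f = g :=
  hom_ext ((idxDiag X P).op ⋙ T.H i n) M f g (fun j => h j.unop)

end Ocolim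

section Directed

open BMCoh BMObj

variable {V : ObjectProperty Scheme.{u}} [BMCoh.IsConstructible V]

/-- The open `U₁ ⊓ U₂` in the index family of `F_j`. -/
abbrev fjInf (X : Obj V) (j : ℕ) (U₁ U₂ : Idx X (ContainsFj X j)) : Idx X (ContainsFj X j) :=
  ⟨U₁.1 ⊓ U₂.1, fun y hy => ⟨U₁.2.1 y hy, U₂.2.1 y hy⟩,
    dim_eq_of_containsFj X j _ (fun y hy => ⟨U₁.2.1 y hy, U₂.2.1 y hy⟩)⟩

/-- Make an index of `F_j` from an open containing `F_j`. -/
abbrev fjMk (X : Obj V) (j : ℕ) (U : X.scheme.Opens) (hU : ContainsFj X j U) :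
    Idx X (ContainsFj X j) :=
  ⟨U, hU, dim_eq_of_containsFj X j U hU⟩

abbrev fjTop (X : Obj V) (j : ℕ) : Idx X (ContainsFj X j) :=
  ⟨⊤, fun _ _ => trivial, dim_top X.scheme⟩

instance (X : Obj V) (j : ℕ) : Nonempty (Idx X (ContainsFj X j)) := ⟨fjTop X j⟩

instance (X : Obj V) (j : ℕ) : IsDirected (Idx X (ContainsFj X j)) (· ≥ ·) :=
  ⟨fun U₁ U₂ => ⟨fjInf X j U₁ U₂, inf_le_left (a := U₁.1) (b := U₂.1),
    inf_le_right (a := U₁.1) (b := U₂.1)⟩⟩

instance (X : Obj V) (j : ℕ) : IsFiltered (Idx X (ContainsFj X j))ᵒᵖ :=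
  inferInstance

/-- Make an index of the point family from a nonempty open of the reduced closure. -/
abbrev ptMk (X : Obj V) (x : X.scheme) (W : (X.ptSub x).scheme.Opens)
    (hW : (W : Set (X.ptSub x).scheme).Nonempty) : ptIdx X x :=
  ⟨W, hW, (dim_ptOpens X x W hW).trans (dim_ptSub X x).symm⟩

abbrev ptInf (X : Obj V) (x : X.scheme) (W₁ W₂ : ptIdx X x) : ptIdx X x :=
  ptMk X x (W₁.1 ⊓ W₂.1) ⟨genericPoint _, genericPoint_mem_of_nonempty X x W₁.1 W₁.2.1,
    genericPoint_mem_of_nonempty X x W₂.1 W₂.2.1⟩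

abbrev ptTop (X : Obj V) (x : X.scheme) : ptIdx X x :=
  ptMk X x ⊤ ⟨genericPoint _, trivial⟩

instance (X : Obj V) (x : X.scheme) : Nonempty (ptIdx X x) := ⟨ptTop X x⟩

instance (X : Obj V) (x : X.scheme) : IsDirected (ptIdx X x) (· ≥ ·) :=
  ⟨fun W₁ W₂ => ⟨ptInf X x W₁ W₂, inf_le_left (a := W₁.1) (b := W₂.1),
    inf_le_right (a := W₁.1) (b := W₂.1)⟩⟩

instance (X : Obj V) (x : X.scheme) : IsFiltered (ptIdx X x)ᵒᵖ :=
  inferInstance

instance (X : Obj V) (x : X.scheme) :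
    IsFiltered (Idx (X.ptSub x) (fun U => (U : Set (X.ptSub x).scheme).Nonempty))ᵒᵖ :=
  inferInstanceAs (IsFiltered (ptIdx X x)ᵒᵖ)

end Directed

end

end Groth.Agent.Lib.Helper23.BMColim
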