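import Mathlib
import Groth.Prelude.Def_BMCoh3
import Groth.Agent.Lib.Helper23.BMObj
import Groth.Agent.Lib.Helper23.BMColim

/-!
# Single-piece decompositions and base change squares for twisted Borel–Moore theories (helper23)
-/

set_option autoImplicit false
universe u
open CategoryTheory CategoryTheory.Limits AlgebraicGeometry Opposite TopologicalSpace

namespace Groth.Agent.Lib.Helper23.BMObj2

open BMCoh BMObj BMColim

noncomputable section

variable {V : ObjectProperty Scheme.{u}} [BMCoh.IsConstructible V]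

section Ranges

theorem range_homOfLE {X : Scheme.{u}} {U₀ U : X.Opens} (h : U₀ ≤ U) :
    Set.range (X.homOfLE h) = {u : U | u.1 ∈ U₀} := by
  ext u
  constructor
  · rintro ⟨z, rfl⟩
    change ((X.homOfLE h) z).1 ∈ U₀
    rw [Scheme.homOfLE_apply]
    exact z.2
  · intro hu
    refine ⟨⟨u.1, hu⟩, ?_⟩
    apply Subtype.ext
    rw [Scheme.homOfLE_apply]

theorem range_morphismRestrict {X Y : Scheme.{u}} (f : X ⟶ Y) (U : Y.Opens) :
    Set.range (f ∣_ U) = {u : U | u.1 ∈ Set.range f} := by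
  ext u
  constructor
  · rintro ⟨z, rfl⟩
    exact ⟨z.1, (morphismRestrict_base_coe f U z).symm⟩
  · rintro ⟨z, hz⟩
    have hzU : z ∈ f ⁻¹ᵁ U := by
      change f z ∈ U
      rw [hz]; exact u.2
    refine ⟨⟨z, hzU⟩, ?_⟩
    apply Subtype.ext
    rw [morphismRestrict_base_coe]
    exact hz

end Ranges

section Dims

variable (X : Obj V)

/-- An open between an open of full dimension and the whole scheme has full dimension. -/
theorem dim_eq_of_le {U₀ U₁ : X.scheme.Opens} (h : U₀ ≤ U₁)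
    (hd : WeilCoh.dim (U₀ : Scheme.{u}) = WeilCoh.dim X.scheme) :
    WeilCoh.dim (U₁ : Scheme.{u}) = WeilCoh.dim X.scheme := by
  have hU₁fin : topologicalKrullDim ↥(U₁ : Scheme.{u}) < ⊤ :=
    BMTop.topologicalKrullDim_lt_top_of_isInducing U₁.ι U₁.ι.isOpenEmbedding.isInducing (finDim X)
  apply le_antisymm
  · exact BMTop.natDim_le_of_isInducing U₁.ι U₁.ι.isOpenEmbedding.isInducing (finDim X)
  · rw [← hd]
    exact BMTop.natDim_le_of_isInducing (X.scheme.homOfLE h)
      (X.scheme.homOfLE h).isOpenEmbedding.isInducing hU₁fin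

/-- The relative codimension of a piece of the closure of `y` in an open of full dimension. -/
theorem relCodim_piece (U : X.scheme.Opens) (y : X.scheme) (hy : y ∈ U)
    (hd : WeilCoh.dim (U : Scheme.{u}) = WeilCoh.dim X.scheme) :
    relCodim ((X.ptSub y).res (ptOpen X y U)).scheme (X.res U).scheme =
      (WeilCoh.codim X.scheme y : ℤ) := by
  unfold relCodim
  rw [codim_cast]
  change ((WeilCoh.dim (U : Scheme.{u}) : ℕ) : ℤ) -
    ((WeilCoh.dim ((ptOpen X y U : (X.ptSub y).scheme.Opens) : Scheme.{u}) : ℕ) : ℤ) = _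
  rw [hd, dim_ptOpen hy]

theorem relCodim_pieceW (U : X.scheme.Opens) (y : X.scheme) (W : ptIdx X y)
    (hd : WeilCoh.dim (U : Scheme.{u}) = WeilCoh.dim X.scheme) :
    relCodim ((X.ptSub y).res W.1).scheme (X.res U).scheme =
      (WeilCoh.codim X.scheme y : ℤ) := by
  unfold relCodim
  rw [codim_cast]
  change ((WeilCoh.dim (U : Scheme.{u}) : ℕ) : ℤ) -
    ((WeilCoh.dim ((W.1 : (X.ptSub y).scheme.Opens) : Scheme.{u}) : ℕ) : ℤ) = _
  rw [hd, W.2.2, dim_ptSub]

end Dims

section Shrink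

variable (X : Obj V)

/-- Points of the closure of `x` other than `x` have bigger codimension. -/
theorem codim_lt_of_mem_closure {x y : X.scheme} (hy : y ∈ closure ({x} : Set X.scheme))
    (hne : y ≠ x) : WeilCoh.codim X.scheme x < WeilCoh.codim X.scheme y :=
  codim_lt_of_specializes X (specializes_iff_mem_closure.mpr hy) hne

theorem codim_le_of_mem_closure {x y : X.scheme} (hy : y ∈ closure ({x} : Set X.scheme)) :
    WeilCoh.codim X.scheme x ≤ WeilCoh.codim X.scheme y :=
  codim_le_of_specializes X (specializes_iff_mem_closure.mpr hy)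

/-- Shrinking: every nonempty open `W` of the reduced closure of a point `x` of codimension `j`
contains the trace of an open of `X` containing `F_j X`. -/
theorem exists_shrink (j : ℕ) (x : X.scheme) (hx : WeilCoh.codim X.scheme x = j)
    (W : (X.ptSub x).scheme.Opens) (hW : (W : Set (X.ptSub x).scheme).Nonempty) :
    ∃ U : X.scheme.Opens, ContainsFj X j U ∧ x ∈ U ∧ ptOpen X x U ≤ W := by
  have hcl : IsClosed ((X.ptSubι x) '' ((W : Set (X.ptSub x).scheme)ᶜ)) :=
    (X.ptSubι x).isClosedEmbedding.isClosedMap _ W.2.isClosed_compl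
  have hinj : Function.Injective (X.ptSubι x) := (X.ptSubι x).isClosedEmbedding.injective
  have hgen := genericPoint_mem_of_nonempty X x W hW
  have hxC : x ∉ (X.ptSubι x) '' ((W : Set (X.ptSub x).scheme)ᶜ) := by
    rintro ⟨z, hz, hzx⟩
    have hzx' : X.ptSubι x z = X.ptSubι x (genericPoint _) := hzx.trans (ptSubι_genericPoint X x).symm
    exact hz (hinj hzx' ▸ hgen)
  refine ⟨⟨_, hcl.isOpen_compl⟩, ?_, hxC, ?_⟩
  · intro y hy hyC
    obtain ⟨z, hz, rfl⟩ := hyC
    have hzcl : X.ptSubι x z ∈ closure ({x} : Set X.scheme) := by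
      rw [← range_ptSubι]; exact ⟨z, rfl⟩
    have hne : X.ptSubι x z ≠ x := fun h => hxC ⟨z, hz, h⟩
    have := codim_lt_of_mem_closure X hzcl hne
    omega
  · intro z hz
    by_contra hzW
    exact hz ⟨z, hzW, rfl⟩

end Shrink

section Pull

variable {R : Type u} [CommRing R] {A : BMCoh.Coefs R} (T : BMCoh.PreTheory V R A)

theorem pull_comp {X Y Z : Obj V} (f : X ⟶ Y) (g : Y ⟶ Z) (M : A.Cat) (i n : ℤ) :
    T.pull (f ≫ g) M i n = T.pull g M i n ≫ T.pull f M i n := by
  change ((T.H i n).map (f ≫ g).op).app M = _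
  rw [op_comp, Functor.map_comp, NatTrans.comp_app]

theorem pull_comp_apply {X Y Z : Obj V} (f : X ⟶ Y) (g : Y ⟶ Z) (M : A.Cat) (i n : ℤ)
    (a : T.gp Z M i n) :
    (T.pull (f ≫ g) M i n).hom a = (T.pull f M i n).hom ((T.pull g M i n).hom a) := by
  rw [pull_comp]; rfl

theorem pull_id (X : Obj V) (M : A.Cat) (i n : ℤ) : T.pull (𝟙 X) M i n = 𝟙 _ := by
  change ((T.H i n).map (𝟙 X : X ⟶ X).op).app M = 𝟙 _
  rw [op_id, CategoryTheory.Functor.map_id]
  rfl

/-- A morphism of objects whose underlying morphism of schemes is an isomorphism is an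
isomorphism of objects. -/
theorem isIso_of_isIso_hom {X Y : Obj V} (f : X ⟶ Y) [IsIso f.hom] : IsIso f :=
  ⟨⟨⟨inv f.hom, inferInstance, f.dim_eq.symm⟩, Hom.ext (IsIso.hom_inv_id f.hom),
    Hom.ext (IsIso.inv_hom_id f.hom)⟩⟩

theorem pull_bijective_of_isIso {X Y : Obj V} (f : X ⟶ Y) [IsIso f.hom] (M : A.Cat) (i n : ℤ) :
    Function.Bijective (T.pull f M i n).hom := by
  haveI := isIso_of_isIso_hom f
  haveI : IsIso (T.pull f M i n) := by
    change IsIso (((T.H i n).map f.op).app M)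
    infer_instance
  exact ConcreteCategory.bijective_of_isIso (T.pull f M i n)

theorem resLE_isIso_of_eq (X : Obj V) {U U' : X.scheme.Opens} (h : U ≤ U') (h' : U' ≤ U)
    (hd : WeilCoh.dim (U : Scheme.{u}) = WeilCoh.dim (U' : Scheme.{u})) :
    IsIso (X.resLE h hd).hom := by
  change IsIso (X.scheme.homOfLE h)
  refine ⟨⟨X.scheme.homOfLE h', ?_, ?_⟩⟩
  · rw [Scheme.homOfLE_homOfLE, Scheme.homOfLE_rfl]
  · rw [Scheme.homOfLE_homOfLE, Scheme.homOfLE_rfl]

theorem pull_resLE_bijective_of_eq (X : Obj V) {U U' : X.scheme.Opens} (h : U ≤ U') (h' : U' ≤ U)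
    (hd : WeilCoh.dim (U : Scheme.{u}) = WeilCoh.dim (U' : Scheme.{u})) (M : A.Cat) (i n : ℤ) :
    Function.Bijective (T.pull (X.resLE h hd) M i n).hom := by
  haveI := resLE_isIso_of_eq X h h' hd
  exact pull_bijective_of_isIso T _ M i n

theorem resLE_comp (X : Obj V) {U U' U'' : X.scheme.Opens} (h : U ≤ U') (h' : U' ≤ U'')
    (hd : WeilCoh.dim (U : Scheme.{u}) = WeilCoh.dim (U' : Scheme.{u}))
    (hd' : WeilCoh.dim (U' : Scheme.{u}) = WeilCoh.dim (U'' : Scheme.{u})) :
    X.resLE h hd ≫ X.resLE h' hd' = X.resLE (h.trans h') (hd.trans hd') :=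
  Hom.ext (Scheme.homOfLE_homOfLE X.scheme h h')

/-- The groups of an empty object vanish. -/
theorem gp_eq_zero_of_isEmpty (E : Obj V) [IsEmpty E.scheme] (M : A.Cat) (i n : ℤ)
    (a : T.gp E M i n) : a = 0 := by
  obtain ⟨i₀, rfl⟩ : ∃ i₀, i = i₀ + 1 := ⟨i - 1, by ring⟩
  let D : Decomp E :=
    { Z := E, U := E, i := 𝟙 E.scheme, closedImm := inferInstance, j := 𝟙 E,
      range_eq := Subsingleton.elim _ _ }
  have hc : relCodim E.scheme E.scheme = 0 := by unfold relCodim; ring
  have a1 : i₀ + 1 = i₀ + 1 + 2 * relCodim D.Z.scheme E.scheme := by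
    rw [show relCodim D.Z.scheme E.scheme = 0 from hc]; ring
  have a2 : n = n + relCodim D.Z.scheme E.scheme := by
    rw [show relCodim D.Z.scheme E.scheme = 0 from hc]; ring
  have E1 := T.exact_push_pull D M i₀ n (i₀ + 1) n a1 a2
  have h1 : T.push D.i M (i₀ + 1) n (i₀ + 1) n a1 a2 = 𝟙 _ := T.push_id E M (i₀ + 1) n a1 a2
  have h2 : T.pull D.j M (i₀ + 1) n = 𝟙 _ := pull_id T E M (i₀ + 1) n
  have h3 := (E1 a).mpr ⟨a, by rw [h1]; rfl⟩
  change (T.pull D.j M (i₀ + 1) n).hom a = 0 at h3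
  rw [h2] at h3
  exact h3

end Pull

end

end Groth.Agent.Lib.Helper23.BMObj2
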