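import Mathlib
import Groth.Prelude.Def_BMCoh3
import Groth.Agent.Lib.Helper23.BMObj2

/-!
# Push-forward and residue data on standard pieces (helper23)
-/

set_option autoImplicit false
universe u
open CategoryTheory CategoryTheory.Limits AlgebraicGeometry Opposite TopologicalSpace

namespace Groth.Agent.Lib.Helper23.BMData

open BMCoh BMObj BMColim BMObj2

noncomputable section

variable {V : ObjectProperty Scheme.{u}} [BMCoh.IsConstructible V]
variable {R : Type u} [CommRing R] {A : BMCoh.Coefs R} (T : BMCoh.PreTheory V R A)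
variable {X : Obj V} {j : ℕ}

/-- The standard piece of the closure of `x` cut out by an open `U` containing `x`. -/
abbrev pieceIdx (X : Obj V) (x : X.scheme) (U : X.scheme.Opens) (hxU : x ∈ U) : ptIdx X x :=
  ptMk X x (ptOpen X x U) (ptOpen_nonempty hxU)

theorem relCodim_std (x : X.cdPt j) (U : X.scheme.Opens) (hU : ContainsFj X j U) (hxU : x.1 ∈ U) :
    relCodim ((X.ptSub x.1).res (ptOpen X x.1 U)).scheme (X.res U).scheme = (j : ℤ) := by
  rw [relCodim_piece X U x.1 hxU (dim_eq_of_containsFj X j U hU), x.2]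

variable {T}

/-- The defining property of push-forward data on the standard piece cut out by `U ⊇ F_j X`. -/
theorem pushData_cpt_std (P : T.PushData X j) (x : X.cdPt j) (M : A.Cat) (i n i' n' : ℤ)
    (hi : i' = i + 2 * (j : ℤ)) (hn : n' = n + (j : ℤ)) (U : X.scheme.Opens)
    (hU : ContainsFj X j U) (hxU : x.1 ∈ U)
    (hi' : i' = i + 2 * relCodim ((X.ptSub x.1).res (ptOpen X x.1 U)).scheme (X.res U).scheme)
    (hn' : n' = n + relCodim ((X.ptSub x.1).res (ptOpen X x.1 U)).scheme (X.res U).scheme) :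
    (T.ptι X x.1 i n (pieceIdx X x.1 U hxU)).app M ≫ P.cpt x M i n i' n' hi hn =
      T.push (X := (X.ptSub x.1).res (ptOpen X x.1 U)) (Y := X.res U)
        (X.ptSubι x.1 ∣_ U) M i n i' n' hi' hn' ≫ (T.fjι X j i' n' (fjMk X j U hU)).app M :=
  P.cpt_spec x M i n i' n' hi hn (fjMk X j U hU) (pieceIdx X x.1 U hxU) (X.ptSubι x.1 ∣_ U)
    (morphismRestrict_ι _ _) hi' hn'

/-- The restriction map `H(F_m X) → H(F_j X)` on representatives. -/
theorem fjRes_fjι_apply (T : BMCoh.PreTheory V R A) (X : Obj V) {j m : ℕ} (h : j ≤ m)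
    (M : A.Cat) (i n : ℤ) (U : Idx X (ContainsFj X m)) (b : T.gp (X.res U.1) M i n) :
    ((T.fjRes X h i n).app M).hom (((T.fjι X m i n U).app M).hom b) =
      ((T.fjι X j i n (fjMk X j U.1 (containsFj_mono X h U.1 U.2.1))).app M).hom b :=
  ocolimMap_ι_apply T X (ContainsFj X m) M i n (containsFj_mono X h) U b

/-- Passing to a smaller open in the index family of `F_j X`. -/
theorem fjι_resLE_apply (T : BMCoh.PreTheory V R A) (X : Obj V) (j : ℕ) (M : A.Cat) (i n : ℤ)
    (U U' : X.scheme.Opens) (hU : ContainsFj X j U) (hU' : ContainsFj X j U') (h : U' ≤ U)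
    (hd : WeilCoh.dim (U' : Scheme.{u}) = WeilCoh.dim (U : Scheme.{u}))
    (b : T.gp (X.res U) M i n) :
    ((T.fjι X j i n (fjMk X j U' hU')).app M).hom ((T.pull (X.resLE h hd) M i n).hom b) =
      ((T.fjι X j i n (fjMk X j U hU)).app M).hom b :=
  ocolimι_resLE_apply T X (ContainsFj X j) M i n (U := fjMk X j U hU) (U' := fjMk X j U' hU') h hd b

/-- Vanishing of a class of `H(F_j X)` given on an open `U`. -/
theorem fjι_eq_zero_iff (T : BMCoh.PreTheory V R A) (X : Obj V) (j : ℕ) (M : A.Cat) (i n : ℤ)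
    (U : X.scheme.Opens) (hU : ContainsFj X j U) (b : T.gp (X.res U) M i n) :
    ((T.fjι X j i n (fjMk X j U hU)).app M).hom b = 0 ↔
      ∃ (U' : X.scheme.Opens) (_ : ContainsFj X j U') (h : U' ≤ U)
        (hd : WeilCoh.dim (U' : Scheme.{u}) = WeilCoh.dim (U : Scheme.{u})),
        (T.pull (X.resLE h hd) M i n).hom b = 0 := by
  rw [ocolimι_eq_zero_iff' T X (ContainsFj X j) M i n (fjMk X j U hU) b]
  constructor
  · rintro ⟨U', h, hd, hb⟩
    exact ⟨U'.1, U'.2.1, h, hd, hb⟩
  · rintro ⟨U', hU', h, hd, hb⟩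
    exact ⟨fjMk X j U' hU', h, hd, hb⟩

/-- Every class of `H(F_j X)` is represented on an open containing `F_j X`. -/
theorem fj_exists_rep (T : BMCoh.PreTheory V R A) (X : Obj V) (j : ℕ) (M : A.Cat) (i n : ℤ)
    (a : T.fjGp X j M i n) :
    ∃ (U : X.scheme.Opens) (hU : ContainsFj X j U) (b : T.gp (X.res U) M i n),
      ((T.fjι X j i n (fjMk X j U hU)).app M).hom b = a := by
  obtain ⟨U, b, hb⟩ := ocolim_exists_rep T X (ContainsFj X j) M i n a
  exact ⟨U.1, U.2.1, b, hb⟩

/-- Every class of `H(x)` is represented on a standard piece cut out by an open containing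
`F_j X`, when `x` has codimension `j`. -/
theorem pt_exists_rep (T : BMCoh.PreTheory V R A) (X : Obj V) (j : ℕ) (x : X.scheme)
    (hx : WeilCoh.codim X.scheme x = j) (M : A.Cat) (i n : ℤ) (a : T.ptGp X x M i n) :
    ∃ (U : X.scheme.Opens) (_ : ContainsFj X j U) (hxU : x ∈ U)
      (b : T.gp ((X.ptSub x).res (ptOpen X x U)) M i n),
      ((T.ptι X x i n (pieceIdx X x U hxU)).app M).hom b = a := by
  obtain ⟨W, b, rfl⟩ := ocolim_exists_rep T (X.ptSub x)
    (fun U => (U : Set (X.ptSub x).scheme).Nonempty) M i n a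
  obtain ⟨U, hUF, hxU, hle⟩ := exists_shrink X j x hx W.1 W.2.1
  refine ⟨U, hUF, hxU, (T.pull ((X.ptSub x).resLE hle
    ((pieceIdx X x U hxU).2.2.trans W.2.2.symm)) M i n).hom b, ?_⟩
  exact ocolimι_resLE_apply T (X.ptSub x)
    (fun U => (U : Set (X.ptSub x).scheme).Nonempty) M i n (U := W)
    (U' := pieceIdx X x U hxU) hle ((pieceIdx X x U hxU).2.2.trans W.2.2.symm) b

end

end Groth.Agent.Lib.Helper23.BMData
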