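import Mathlib
import Groth.Prelude.Def_BMCoh3
import Groth.Agent.Lib.Helper23.BMObj2
import Groth.Agent.Lib.Helper23.BMAdd

/-!
# Finite partitions of an object into open and closed pieces: joint injectivity and additivity (helper23)
-/

set_option autoImplicit false
universe u
open CategoryTheory CategoryTheory.Limits AlgebraicGeometry Opposite TopologicalSpace Topology

namespace Groth.Agent.Lib.Helper23.BMPart

open BMCoh BMObj BMColim BMObj2

noncomputable section

variable {V : ObjectProperty Scheme.{u}} [BMCoh.IsConstructible V]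
variable {R : Type u} [CommRing R] {A : BMCoh.Coefs R} (T : BMCoh.PreTheory V R A)

section OpenSub

/-- A morphism of objects with surjective underlying map is an isomorphism of schemes. -/
theorem isIso_hom_of_surjective {Z W : Obj V} (f : Z ⟶ W) (hs : Function.Surjective f.hom) :
    IsIso f.hom := by
  haveI : Epi f.hom.base := (TopCat.epi_iff_surjective _).mpr hs
  exact IsOpenImmersion.isIso f.hom

/-- The dimension of an open of `W` containing the image of a nonempty-or-not piece of full
dimension. -/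
theorem dim_open_of_range_subset {Z W : Obj V} (f : Z ⟶ W) (O : W.scheme.Opens)
    (h : Set.range f.hom ⊆ O) : WeilCoh.dim (O : Scheme.{u}) = WeilCoh.dim W.scheme := by
  have hOfin : topologicalKrullDim ↥(O : Scheme.{u}) < ⊤ :=
    BMTop.topologicalKrullDim_lt_top_of_isInducing O.ι O.ι.isOpenEmbedding.isInducing (finDim W)
  apply le_antisymm
  · exact BMTop.natDim_le_of_isInducing O.ι O.ι.isOpenEmbedding.isInducing (finDim W)
  · rw [← f.dim_eq]
    have hsub : Set.range f.hom ⊆ Set.range O.ι := by rw [Scheme.Opens.range_ι]; exact h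
    have h1 : IsOpenImmersion (IsOpenImmersion.lift O.ι f.hom hsub ≫ O.ι) := by
      rw [IsOpenImmersion.lift_fac]; infer_instance
    have h2 : IsOpenImmersion (IsOpenImmersion.lift O.ι f.hom hsub) :=
      IsOpenImmersion.of_comp _ O.ι
    exact BMTop.natDim_le_of_isInducing (IsOpenImmersion.lift O.ι f.hom hsub)
      (IsOpenImmersion.lift O.ι f.hom hsub).isOpenEmbedding.isInducing hOfin

/-- The factorization of a morphism of objects through an open containing its image. -/
def liftOpen {Z W : Obj V} (f : Z ⟶ W) (O : W.scheme.Opens) (h : Set.range f.hom ⊆ O) :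
    Z ⟶ W.res O :=
  ⟨IsOpenImmersion.lift O.ι f.hom (by rw [Scheme.Opens.range_ι]; exact h), by
    haveI : IsOpenImmersion
        (IsOpenImmersion.lift O.ι f.hom (by rw [Scheme.Opens.range_ι]; exact h) ≫ O.ι) := by
      rw [IsOpenImmersion.lift_fac]; infer_instance
    exact IsOpenImmersion.of_comp _ O.ι,
    f.dim_eq.trans (dim_open_of_range_subset f O h).symm⟩

theorem liftOpen_fac {Z W : Obj V} (f : Z ⟶ W) (O : W.scheme.Opens) (h : Set.range f.hom ⊆ O) :
    liftOpen f O h ≫ W.resι O (dim_open_of_range_subset f O h) = f :=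
  Hom.ext (IsOpenImmersion.lift_fac _ _ _)

theorem liftOpen_apply {Z W : Obj V} (f : Z ⟶ W) (O : W.scheme.Opens) (h : Set.range f.hom ⊆ O)
    (z : Z.scheme) : ((liftOpen f O h).hom z).1 = f.hom z := by
  have := congrArg (fun g : Z.scheme ⟶ W.scheme => g z)
    (IsOpenImmersion.lift_fac O.ι f.hom (by rw [Scheme.Opens.range_ι]; exact h))
  exact this

end OpenSub

section Joint

theorem joint_inj_fin (m : ℕ) : ∀ (W : Obj V) (Z : Fin m → Obj V) (κ : ∀ y, Z y ⟶ W),
    (∀ y y', y ≠ y' → Disjoint (Set.range (κ y).hom) (Set.range (κ y').hom)) →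
    (⋃ y, Set.range (κ y).hom = Set.univ) →
    ∀ (M : A.Cat) (i n : ℤ) (a : T.gp W M i n),
      (∀ y, (T.pull (κ y) M i n).hom a = 0) → a = 0 := by
  induction m with
  | zero =>
    intro W Z κ _ hcov M i n a _
    haveI : IsEmpty W.scheme := by
      refine ⟨fun w => ?_⟩
      have : w ∈ ⋃ y, Set.range (κ y).hom := by rw [hcov]; trivial
      obtain ⟨y, -⟩ := Set.mem_iUnion.mp this
      exact y.elim0
    exact gp_eq_zero_of_isEmpty T W M i n a
  | succ m ih =>
    intro W Z κ hdisj hcov M i n a ha
    by_cases hE : Set.range (κ 0).hom = Set.univ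
    · haveI := isIso_hom_of_surjective (κ 0) (Set.range_eq_univ.mp hE)
      exact (pull_bijective_of_isIso T (κ 0) M i n).1 ((ha 0).trans (map_zero _).symm)
    · -- the open complement
      have hcompl : (Set.range (κ 0).hom)ᶜ = ⋃ y : Fin m, Set.range (κ y.succ).hom := by
        ext w
        simp only [Set.mem_compl_iff, Set.mem_iUnion]
        constructor
        · intro hw
          have : w ∈ ⋃ y, Set.range (κ y).hom := by rw [hcov]; trivial
          obtain ⟨y, hy⟩ := Set.mem_iUnion.mp this
          rcases Fin.eq_zero_or_eq_succ y with rfl | ⟨y', rfl⟩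
          · exact (hw hy).elim
          · exact ⟨y', hy⟩
        · rintro ⟨y, hy⟩ h0
          exact Set.disjoint_left.mp (hdisj 0 y.succ (Fin.succ_ne_zero y).symm) h0 hy
      have hopen : IsOpen (Set.range (κ 0).hom)ᶜ := by
        rw [hcompl]
        exact isOpen_iUnion fun y => (κ y.succ).hom.isOpenEmbedding.isOpen_range
      let O : W.scheme.Opens := ⟨_, hopen⟩
      have hsub : ∀ y : Fin m, Set.range (κ y.succ).hom ⊆ O := fun y w hw => by
        change w ∈ (Set.range (κ 0).hom)ᶜ
        rw [hcompl]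
        exact Set.mem_iUnion.mpr ⟨y, hw⟩
      -- some piece is nonempty, so O has full dimension
      obtain ⟨w, hw⟩ : ∃ w, w ∉ Set.range (κ 0).hom := by
        by_contra hcon
        push Not at hcon
        exact hE (Set.eq_univ_of_forall hcon)
      have hwO : w ∈ (Set.range (κ 0).hom)ᶜ := hw
      rw [hcompl] at hwO
      obtain ⟨y₂, -⟩ := Set.mem_iUnion.mp hwO
      have hdO : WeilCoh.dim (O : Scheme.{u}) = WeilCoh.dim W.scheme :=
        dim_open_of_range_subset (κ y₂.succ) O (hsub y₂)
      -- the restricted family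
      let κ' : ∀ y : Fin m, Z y.succ ⟶ W.res O := fun y => liftOpen (κ y.succ) O (hsub y)
      have hκ' : ∀ y, κ' y ≫ W.resι O hdO = κ y.succ := fun y => liftOpen_fac _ _ _
      have ha' : (T.pull (W.resι O hdO) M i n).hom a = 0 := by
        apply ih (W.res O) (fun y => Z y.succ) κ'
        · intro y y' hyy'
          rw [Set.disjoint_left]
          rintro u ⟨z, rfl⟩ ⟨z', hz'⟩
          have h1 : (κ y.succ).hom z = (κ y'.succ).hom z' := by
            rw [← liftOpen_apply (κ y.succ) O (hsub y), ← liftOpen_apply (κ y'.succ) O (hsub y')]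
            exact congrArg Subtype.val hz'.symm
          exact Set.disjoint_left.mp (hdisj y.succ y'.succ
            (fun h => hyy' (Fin.succ_injective _ h))) ⟨z, rfl⟩ ⟨z', h1.symm⟩
        · apply Set.eq_univ_of_forall
          intro u
          have hu : u.1 ∈ (Set.range (κ 0).hom)ᶜ := u.2
          rw [hcompl] at hu
          obtain ⟨y, z, hz⟩ := Set.mem_iUnion.mp hu
          refine Set.mem_iUnion.mpr ⟨y, z, ?_⟩
          apply Subtype.ext
          rw [liftOpen_apply]
          exact hz
        · intro y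
          rw [← pull_comp_apply, hκ' y]
          exact ha y.succ
      have hrange : Set.range (W.resι O hdO).hom = (Set.range (κ 0).hom)ᶜ := by
        change Set.range O.ι = _
        rw [Scheme.Opens.range_ι]
        rfl
      have hinj := (BMAdd.pull_prod_bijective T (W.resι O hdO) (κ 0) hrange M i n).1
      apply hinj
      apply Prod.ext
      · change (T.pull (W.resι O hdO) M i n).hom a = (T.pull (W.resι O hdO) M i n).hom 0
        rw [ha', map_zero]
      · change (T.pull (κ 0) M i n).hom a = (T.pull (κ 0) M i n).hom 0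
        rw [ha 0, map_zero]

variable {ι : Type*} [Finite ι]

theorem joint_inj {W : Obj V} (Z : ι → Obj V) (κ : ∀ y, Z y ⟶ W)
    (hdisj : ∀ y y', y ≠ y' → Disjoint (Set.range (κ y).hom) (Set.range (κ y').hom))
    (hcov : ⋃ y, Set.range (κ y).hom = Set.univ)
    (M : A.Cat) (i n : ℤ) (a : T.gp W M i n)
    (ha : ∀ y, (T.pull (κ y) M i n).hom a = 0) : a = 0 := by
  obtain ⟨m, ⟨e⟩⟩ := Finite.exists_equiv_fin ι
  apply joint_inj_fin T m W (fun k => Z (e.symm k)) (fun k => κ (e.symm k)) _ _ M i n a
    (fun k => ha (e.symm k))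
  · intro k k' hkk'
    exact hdisj _ _ (fun h => hkk' (e.symm.injective h))
  · apply Set.eq_univ_of_forall
    intro w
    have : w ∈ ⋃ y, Set.range (κ y).hom := by rw [hcov]; trivial
    obtain ⟨y, hy⟩ := Set.mem_iUnion.mp this
    exact Set.mem_iUnion.mpr ⟨e y, by rw [e.symm_apply_apply]; exact hy⟩

end Joint

section Add

theorem relCodim_eq_zero {Z W : Obj V} (f : Z ⟶ W) : relCodim Z.scheme W.scheme = 0 := by
  unfold relCodim; rw [f.dim_eq]; ring

/-- Push-forward along a proper morphism of objects (no shift of bidegree). -/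
def push0 {Z W : Obj V} (f : Z ⟶ W) [IsProper f.hom] (M : A.Cat) (i n : ℤ) :
    T.gp Z M i n ⟶ T.gp W M i n :=
  T.push f.hom M i n i n (by rw [relCodim_eq_zero f]; ring) (by rw [relCodim_eq_zero f]; ring)

theorem pull_push0_self {Z W : Obj V} (f : Z ⟶ W) [IsProper f.hom] (M : A.Cat) (i n : ℤ)
    (b : T.gp Z M i n) : (T.pull f M i n).hom ((push0 T f M i n).hom b) = b := by
  have := BMAdd.pull_push_self T f M i n (by rw [relCodim_eq_zero f]; ring)
    (by rw [relCodim_eq_zero f]; ring)
  exact congrArg (fun φ => φ.hom b) this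

theorem pull_push0_of_disjoint {Z Z' W : Obj V} (f : Z ⟶ W) (f' : Z' ⟶ W)
    [IsClosedImmersion f.hom] (hd : Disjoint (Set.range f.hom) (Set.range f'.hom))
    (M : A.Cat) (i n : ℤ) (b : T.gp Z M i n) :
    (T.pull f' M i n).hom ((push0 T f M i n).hom b) = 0 := by
  obtain ⟨i₀, rfl⟩ : ∃ i₀, i = i₀ + 1 := ⟨i - 1, by ring⟩
  let O : W.scheme.Opens := ⟨(Set.range f.hom)ᶜ, f.hom.isClosedEmbedding.isClosed_range.isOpen_compl⟩
  have hsub : Set.range f'.hom ⊆ O := fun w hw h => Set.disjoint_left.mp hd h hw
  have hdO := dim_open_of_range_subset f' O hsub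
  let D : Decomp W :=
    { Z := Z, U := W.res O, i := f.hom, closedImm := inferInstance, j := W.resι O hdO,
      range_eq := by
        change Set.range O.ι = _
        rw [Scheme.Opens.range_ι]
        rfl }
  have hc : relCodim D.Z.scheme W.scheme = 0 := relCodim_eq_zero f
  have a1 : i₀ + 1 = i₀ + 1 + 2 * relCodim D.Z.scheme W.scheme := by rw [hc]; ring
  have a2 : n = n + relCodim D.Z.scheme W.scheme := by rw [hc]; ring
  have E1 := T.exact_push_pull D M i₀ n (i₀ + 1) n a1 a2
  have h0 : (T.pull (W.resι O hdO) M (i₀ + 1) n).hom ((push0 T f M (i₀ + 1) n).hom b) = 0 :=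
    (E1 _).mpr ⟨b, rfl⟩
  rw [← liftOpen_fac f' O hsub, pull_comp_apply, h0, map_zero]

variable {ι : Type*} [Fintype ι] [DecidableEq ι]

theorem add_id {W : Obj V} (Z : ι → Obj V) (κ : ∀ y, Z y ⟶ W)
    [∀ y, IsClosedImmersion (κ y).hom]
    (hdisj : ∀ y y', y ≠ y' → Disjoint (Set.range (κ y).hom) (Set.range (κ y').hom))
    (hcov : ⋃ y, Set.range (κ y).hom = Set.univ)
    (M : A.Cat) (i n : ℤ) (a : T.gp W M i n) :
    ∑ y, (push0 T (κ y) M i n).hom ((T.pull (κ y) M i n).hom a) = a := by
  apply sub_eq_zero.mp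
  apply joint_inj T Z κ hdisj hcov M i n
  intro y₀
  rw [map_sub, map_sum, Finset.sum_eq_single y₀]
  · rw [pull_push0_self, sub_self]
  · intro y _ hy
    exact pull_push0_of_disjoint T (κ y) (κ y₀) (hdisj y y₀ hy) M i n _
  · intro h
    exact (h (Finset.mem_univ y₀)).elim

theorem pull_sum_push0 {W : Obj V} (Z : ι → Obj V) (κ : ∀ y, Z y ⟶ W)
    [∀ y, IsClosedImmersion (κ y).hom]
    (hdisj : ∀ y y', y ≠ y' → Disjoint (Set.range (κ y).hom) (Set.range (κ y').hom))
    (M : A.Cat) (i n : ℤ) (c : ∀ y, T.gp (Z y) M i n) (y₀ : ι) :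
    (T.pull (κ y₀) M i n).hom (∑ y, (push0 T (κ y) M i n).hom (c y)) = c y₀ := by
  rw [map_sum, Finset.sum_eq_single y₀]
  · rw [pull_push0_self]
  · intro y _ hy
    exact pull_push0_of_disjoint T (κ y) (κ y₀) (hdisj y y₀ hy) M i n _
  · intro h
    exact (h (Finset.mem_univ y₀)).elim

end Add

end

end Groth.Agent.Lib.Helper23.BMPart
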