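import Mathlib
import Groth.Prelude.Def_BMCoh3
import Groth.Agent.Lib.Helper9.TopDim
import Groth.Agent.Lib.Helper23.BMTop

/-!
# Finite disjoint unions of closed subschemes (helper23)
-/

set_option autoImplicit false
universe u
open CategoryTheory CategoryTheory.Limits AlgebraicGeometry Opposite TopologicalSpace Topology

namespace Groth.Agent.Lib.Helper23.BMSigma

noncomputable section

section Top

variable {ι : Type*} [Finite ι] {σ : ι → Type*} [∀ i, TopologicalSpace (σ i)] {B : Type*}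
  [TopologicalSpace B]

theorem isClosedEmbedding_sigma (f : ∀ i, σ i → B) (hf : ∀ i, IsClosedEmbedding (f i))
    (hdisj : ∀ i j, i ≠ j → Disjoint (Set.range (f i)) (Set.range (f j))) :
    IsClosedEmbedding (fun p : Σ i, σ i => f p.1 p.2) := by
  apply IsClosedEmbedding.of_continuous_injective_isClosedMap
  · exact continuous_sigma fun i => (hf i).continuous
  · rintro ⟨i, z⟩ ⟨i', z'⟩ h
    by_cases hii : i = i'
    · subst hii
      have : z = z' := (hf i).injective h
      rw [this]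
    · exact ((Set.disjoint_left.mp (hdisj i i' hii)) ⟨z, rfl⟩ ⟨z', h.symm⟩).elim
  · intro C hC
    have : (fun p : Σ i, σ i => f p.1 p.2) '' C = ⋃ i, f i '' (Sigma.mk i ⁻¹' C) := by
      ext b
      simp only [Set.mem_image, Set.mem_iUnion, Set.mem_preimage]
      constructor
      · rintro ⟨⟨i, z⟩, hz, rfl⟩
        exact ⟨i, z, hz, rfl⟩
      · rintro ⟨i, z, hz, rfl⟩
        exact ⟨⟨i, z⟩, hz, rfl⟩
    rw [this]
    exact isClosed_iUnion_of_finite fun i =>
      (hf i).isClosedMap _ (isClosed_sigma_iff.mp hC i)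

end Top

section Sch

variable {ι : Type u} [Finite ι] {Y : ι → Scheme.{u}} {B : Scheme.{u}}

theorem sigmaDesc_comp_sigmaMk (f : ∀ i, Y i ⟶ B) (p : Σ i, Y i) :
    (Sigma.desc f) (sigmaMk Y p) = f p.1 p.2 := by
  obtain ⟨i, z⟩ := p
  rw [sigmaMk_mk, ← Scheme.Hom.comp_apply, Sigma.ι_desc]

theorem isClosedImmersion_sigmaDesc (f : ∀ i, Y i ⟶ B) [∀ i, IsClosedImmersion (f i)]
    (hdisj : ∀ i j, i ≠ j → Disjoint (Set.range (f i)) (Set.range (f j))) :
    IsClosedImmersion (Sigma.desc f) := by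
  haveI : SurjectiveOnStalks (Sigma.desc f) :=
    IsZariskiLocalAtSource.sigmaDesc (fun i => inferInstance)
  refine ⟨?_⟩
  have hce := isClosedEmbedding_sigma (fun i => ⇑(f i)) (fun i => (f i).isClosedEmbedding) hdisj
  have : ⇑(Sigma.desc f) = (fun p : Σ i, Y i => f p.1 p.2) ∘ (sigmaMk Y).symm := by
    funext z
    obtain ⟨p, rfl⟩ := (sigmaMk Y).surjective z
    rw [Function.comp_apply, Homeomorph.symm_apply_apply, sigmaDesc_comp_sigmaMk]
  rw [this]
  exact hce.comp (sigmaMk Y).symm.isClosedEmbedding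

theorem range_sigmaDesc (f : ∀ i, Y i ⟶ B) :
    Set.range (Sigma.desc f) = ⋃ i, Set.range (f i) := by
  ext b
  simp only [Set.mem_range, Set.mem_iUnion]
  constructor
  · rintro ⟨z, rfl⟩
    obtain ⟨p, rfl⟩ := (sigmaMk Y).surjective z
    exact ⟨p.1, p.2, (sigmaDesc_comp_sigmaMk f p).symm⟩
  · rintro ⟨i, z, rfl⟩
    exact ⟨Sigma.ι Y i z, by rw [← Scheme.Hom.comp_apply, Sigma.ι_desc]⟩

theorem iUnion_range_sigmaι : ⋃ i, Set.range (Sigma.ι Y i) = Set.univ := by
  ext z
  simp only [Set.mem_iUnion, Set.mem_range, Set.mem_univ, iff_true]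
  obtain ⟨p, rfl⟩ := (sigmaMk Y).surjective z
  exact ⟨p.1, p.2, (sigmaMk_mk Y p.1 p.2).symm⟩

theorem disjoint_range_sigmaι (i j : ι) (h : i ≠ j) :
    Disjoint (Set.range (Sigma.ι Y i)) (Set.range (Sigma.ι Y j)) := by
  rw [Set.disjoint_left]
  rintro z ⟨a, rfl⟩ ⟨b, hb⟩
  obtain ⟨rfl⟩ := (sigmaι_eq_iff Y j i b a).mp hb
  exact h rfl

theorem isClosed_range_sigmaι (i : ι) : IsClosed (Set.range (Sigma.ι Y i)) := by
  have h : IsClosedEmbedding (⇑(sigmaMk Y) ∘ (@Sigma.mk ι (fun i => ↥(Y i)) i)) :=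
    (sigmaMk Y).isClosedEmbedding.comp Topology.IsClosedEmbedding.sigmaMk
  have : Set.range (Sigma.ι Y i) =
      Set.range (⇑(sigmaMk Y) ∘ (@Sigma.mk ι (fun i => ↥(Y i)) i)) := by
    ext z
    simp only [Set.mem_range, Function.comp_apply, sigmaMk_mk]
  rw [this]
  exact h.isClosed_range

theorem natDim_sigma [Nonempty ι] (d : ℕ) (hd : ∀ i, WeilCoh.natDim (Y i) = d) :
    WeilCoh.natDim ↥(∐ Y) = d := by
  have h1 := Groth.Agent.Lib.Helper9.topologicalKrullDim_eq_iSup_of_finite_closed_cover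
    (fun i => Set.range (Sigma.ι Y i)) isClosed_range_sigmaι iUnion_range_sigmaι
  have h2 : ∀ i, topologicalKrullDim ↥(Set.range (Sigma.ι Y i)) = topologicalKrullDim (Y i) := by
    intro i
    let e : Y i ≃ₜ ↥(Set.range (Sigma.ι Y i)) :=
      (Sigma.ι Y i).isOpenEmbedding.isEmbedding.toHomeomorph
    exact (IsHomeomorph.topologicalKrullDim_eq e e.isHomeomorph).symm
  obtain ⟨i₀, hi₀⟩ := exists_eq_ciSup_of_finite (f := fun i => topologicalKrullDim (Y i))
  unfold WeilCoh.natDim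
  rw [h1]
  simp_rw [h2]
  rw [← hi₀]
  exact hd i₀

end Sch

end

end Groth.Agent.Lib.Helper23.BMSigma
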