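import Mathlib
import Groth.Prelude.Def_BMCoh3
import Groth.Agent.Lib.Helper23.BMObj2
import Groth.Agent.Lib.Helper23.BMSigma
import Groth.Agent.Lib.Helper23.BMPart

/-!
# Decompositions whose closed part is a finite disjoint union of pieces of closures of points (helper23)
-/

set_option autoImplicit false
universe u
open CategoryTheory CategoryTheory.Limits AlgebraicGeometry Opposite TopologicalSpace Topology

namespace Groth.Agent.Lib.Helper23.BMMulti

open BMCoh BMObj BMColim BMObj2 BMSigma BMPart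

noncomputable section

variable {V : ObjectProperty Scheme.{u}} [BMCoh.IsConstructible V]

/-- The piece of the reduced closure of `y` cut out by the open `U`. -/
abbrev pc (X : Obj V) (U : X.scheme.Opens) (y : X.scheme) : Obj V :=
  (X.ptSub y).res (ptOpen X y U)

/-- The closed immersion of the piece into `U`. -/
abbrev pcι (X : Obj V) (U : X.scheme.Opens) (y : X.scheme) :
    (pc X U y).scheme ⟶ (X.res U).scheme := X.ptSubι y ∣_ U

theorem range_pcι (X : Obj V) (U : X.scheme.Opens) (y : X.scheme) :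
    Set.range (pcι X U y) = U.ι ⁻¹' closure ({y} : Set X.scheme) := by
  change Set.range (X.ptSubι y ∣_ U) = _
  rw [range_morphismRestrict, range_ptSubι]
  rfl

theorem range_homOfLE' {X : Scheme.{u}} {U₀ U : X.Opens} (h : U₀ ≤ U) :
    Set.range (X.homOfLE h) = U.ι ⁻¹' (U₀ : Set X) := by
  rw [range_homOfLE]
  rfl

/-- The complement in `U` of the closures of the points of `S`. -/
def openCompl (X : Obj V) (U : X.scheme.Opens) (S : Finset X.scheme) : X.scheme.Opens :=
  ⟨(U : Set X.scheme) ∩ (⋃ y ∈ S, closure ({y} : Set X.scheme))ᶜ,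
    U.2.inter (S.finite_toSet.isClosed_biUnion fun _ _ => isClosed_closure).isOpen_compl⟩

theorem mem_openCompl {X : Obj V} {U : X.scheme.Opens} {S : Finset X.scheme} {p : X.scheme} :
    p ∈ openCompl X U S ↔ p ∈ U ∧ ∀ y ∈ S, p ∉ closure ({y} : Set X.scheme) := by
  change p ∈ (U : Set X.scheme) ∩ (⋃ y ∈ S, closure ({y} : Set X.scheme))ᶜ ↔ _
  simp only [Set.mem_inter_iff, Set.mem_compl_iff, Set.mem_iUnion, not_exists, SetLike.mem_coe]

theorem openCompl_le (X : Obj V) (U : X.scheme.Opens) (S : Finset X.scheme) :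
    openCompl X U S ≤ U := fun _ hp => (mem_openCompl.mp hp).1

/-- A configuration: an open `U` of full dimension of `X` and a nonempty finite set `S` of points of `U`
whose closures all have dimension `d` and are pairwise disjoint in `U`, such that the complement has
full dimension. -/
structure Cfg (X : Obj V) where
  U : X.scheme.Opens
  S : Finset X.scheme
  d : ℕ
  nonempty : S.Nonempty
  mem : ∀ y ∈ S, y ∈ U
  disj : ∀ y ∈ S, ∀ y' ∈ S, y ≠ y' → ∀ p ∈ U, p ∈ closure ({y} : Set X.scheme) →
    p ∉ closure ({y'} : Set X.scheme)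
  pdim : ∀ y ∈ S, WeilCoh.pdim X.scheme y = d
  dimU : WeilCoh.dim (U : Scheme.{u}) = WeilCoh.dim X.scheme
  dimU₀ : WeilCoh.dim (openCompl X U S : Scheme.{u}) = WeilCoh.dim X.scheme

namespace Cfg

variable {X : Obj V} (C : Cfg X)

/-- The open part. -/
abbrev U₀ : X.scheme.Opens := openCompl X C.U C.S

instance : Nonempty ↥C.S := C.nonempty.to_subtype

/-- The closed part as a scheme: the disjoint union of the pieces. -/
def zsch : Scheme.{u} := ∐ fun y : ↥C.S => (pc X C.U y.1).scheme

/-- The map of the closed part into `U`. -/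
def zι : C.zsch ⟶ (X.res C.U).scheme := Sigma.desc fun y : ↥C.S => pcι X C.U y.1

instance : IsClosedImmersion C.zι := by
  unfold zι
  apply isClosedImmersion_sigmaDesc
  intro y y' hyy'
  rw [range_pcι, range_pcι, Set.disjoint_left]
  intro u hu hu'
  exact C.disj y.1 y.2 y'.1 y'.2 (fun h => hyy' (Subtype.ext h)) (C.U.ι u) u.2 hu hu'

theorem range_zι : Set.range C.zι =
    C.U.ι ⁻¹' (⋃ y ∈ C.S, closure ({y} : Set X.scheme)) := by
  have h1 : Set.range C.zι = ⋃ y : ↥C.S, Set.range (pcι X C.U y.1) :=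
    range_sigmaDesc (Y := fun y : ↥C.S => (pc X C.U y.1).scheme) (fun y : ↥C.S => pcι X C.U y.1)
  rw [h1]
  ext u
  simp only [Set.mem_iUnion, Set.mem_preimage]
  constructor
  · rintro ⟨y, hy⟩
    rw [range_pcι] at hy
    exact ⟨y.1, y.2, hy⟩
  · rintro ⟨y, hyS, hy⟩
    refine ⟨⟨y, hyS⟩, ?_⟩
    rw [range_pcι]
    exact hy

/-- The closed part as an object. -/
abbrev zobj : Obj V := ⟨C.zsch, IsConstructible.of_isClosedImmersion C.zι (X.res C.U).mem⟩

theorem dim_pc (y : ↥C.S) : WeilCoh.dim (pc X C.U y.1).scheme = C.d := by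
  change WeilCoh.dim ((ptOpen X y.1 C.U : (X.ptSub y.1).scheme.Opens) : Scheme.{u}) = C.d
  rw [dim_ptOpen (C.mem y.1 y.2), C.pdim y.1 y.2]

theorem dim_zsch : WeilCoh.dim C.zsch = C.d :=
  natDim_sigma (Y := fun y : ↥C.S => (pc X C.U y.1).scheme) C.d (fun y => C.dim_pc y)

/-- The inclusion of a piece into the closed part, as a morphism of objects. -/
def kap (y : ↥C.S) : pc X C.U y.1 ⟶ C.zobj :=
  ⟨Sigma.ι (fun y : ↥C.S => (pc X C.U y.1).scheme) y,
    (inferInstance : IsOpenImmersion (Sigma.ι (fun y : ↥C.S => (pc X C.U y.1).scheme) y)),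
    (C.dim_pc y).trans C.dim_zsch.symm⟩

theorem kap_zι (y : ↥C.S) : (C.kap y).hom ≫ C.zι = pcι X C.U y.1 := by
  unfold zι
  exact Sigma.ι_desc _ _

instance (y : ↥C.S) : IsClosedImmersion (C.kap y).hom :=
  IsClosedImmersion.of_isPreimmersion _
    (isClosed_range_sigmaι (Y := fun y : ↥C.S => (pc X C.U y.1).scheme) y)

theorem kap_disj (y y' : ↥C.S) (h : y ≠ y') :
    Disjoint (Set.range (C.kap y).hom) (Set.range (C.kap y').hom) :=
  disjoint_range_sigmaι (Y := fun y : ↥C.S => (pc X C.U y.1).scheme) y y' h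

theorem kap_cover : ⋃ y, Set.range (C.kap y).hom = Set.univ :=
  iUnion_range_sigmaι (Y := fun y : ↥C.S => (pc X C.U y.1).scheme)

theorem dimU₀' : WeilCoh.dim (C.U₀ : Scheme.{u}) = WeilCoh.dim (C.U : Scheme.{u}) :=
  C.dimU₀.trans C.dimU.symm

/-- The decomposition of `U` into the closed part and its open complement. -/
def dec : Decomp (X.res C.U) where
  Z := C.zobj
  U := X.res C.U₀
  i := C.zι
  closedImm := (inferInstance : IsClosedImmersion C.zι)
  j := X.resLE (openCompl_le X C.U C.S) C.dimU₀'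
  range_eq := by
    change Set.range (X.scheme.homOfLE (openCompl_le X C.U C.S)) = (Set.range C.zι)ᶜ
    rw [range_homOfLE', range_zι]
    ext u
    simp only [Set.mem_preimage, Set.mem_compl_iff, Set.mem_iUnion, not_exists, SetLike.mem_coe]
    constructor
    · intro hu
      exact (mem_openCompl.mp hu).2
    · intro hu
      exact mem_openCompl.mpr ⟨u.2, hu⟩

theorem dec_codim : C.dec.codim = (WeilCoh.dim X.scheme : ℤ) - (C.d : ℤ) := by
  change relCodim C.zsch (C.U : Scheme.{u}) = _
  unfold relCodim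
  rw [C.dim_zsch, C.dimU]

theorem relCodim_z : relCodim C.dec.Z.scheme (X.res C.U).scheme =
    (WeilCoh.dim X.scheme : ℤ) - (C.d : ℤ) := C.dec_codim

end Cfg

section Push

variable {R : Type u} [CommRing R] {A : BMCoh.Coefs R} (T : BMCoh.PreTheory V R A)

theorem push_congr {Y Z : Obj V} (f f' : Y.scheme ⟶ Z.scheme) [IsProper f] [IsProper f']
    (h : f = f') (M : A.Cat) (i n i' n' : ℤ)
    (hi : i' = i + 2 * relCodim Y.scheme Z.scheme) (hn : n' = n + relCodim Y.scheme Z.scheme) :
    T.push f M i n i' n' hi hn = T.push f' M i n i' n' hi hn := by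
  subst h
  rfl

variable {X : Obj V} (C : Cfg X)

open Classical in
/-- Push-forward from the closed part of a configuration is the sum of the push-forwards from the
pieces. -/
theorem push_zι_eq_sum (M : A.Cat) (i n i' n' : ℤ)
    (hi : i' = i + 2 * relCodim C.zobj.scheme (X.res C.U).scheme)
    (hn : n' = n + relCodim C.zobj.scheme (X.res C.U).scheme)
    (hiy : ∀ y : ↥C.S, i' = i + 2 * relCodim (pc X C.U y.1).scheme (X.res C.U).scheme)
    (hny : ∀ y : ↥C.S, n' = n + relCodim (pc X C.U y.1).scheme (X.res C.U).scheme)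
    (c : T.gp C.zobj M i n) :
    (T.push (X := C.zobj) (Y := X.res C.U) C.zι M i n i' n' hi hn).hom c =
      ∑ y : ↥C.S, (T.push (X := pc X C.U y.1) (Y := X.res C.U) (pcι X C.U y.1) M i n i' n'
        (hiy y) (hny y)).hom ((T.pull (C.kap y) M i n).hom c) := by
  conv_lhs => rw [← add_id T (fun y : ↥C.S => pc X C.U y.1) C.kap C.kap_disj C.kap_cover M i n c]
  rw [map_sum]
  refine Finset.sum_congr rfl fun y _ => ?_
  have hc := T.push_comp (X := pc X C.U y.1) (Y := C.zobj) (Z := X.res C.U) (C.kap y).hom C.zι M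
    i n i n i' n' (by rw [relCodim_eq_zero (C.kap y)]; ring)
    (by rw [relCodim_eq_zero (C.kap y)]; ring) hi hn (hiy y) (hny y)
  have hc' := congrArg (fun φ => φ.hom ((T.pull (C.kap y) M i n).hom c)) hc
  rw [push_congr T _ (pcι X C.U y.1) (C.kap_zι y)] at hc'
  exact hc'

end Push

end

end Groth.Agent.Lib.Helper23.BMMulti
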