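import Mathlib
import Groth.Prelude.Def_BMCoh3
import Groth.Agent.Lib.Helper23.BMMulti

/-!
# The geometry behind the colimit Gysin sequences: opens whose complement is a disjoint union of
pieces of closures of points (helper23)
-/

set_option autoImplicit false
universe u
open CategoryTheory CategoryTheory.Limits AlgebraicGeometry Opposite TopologicalSpace Topology

namespace Groth.Agent.Lib.Helper23.BMGeom

open BMCoh BMObj BMColim BMObj2 BMSigma BMPart BMMulti

noncomputable section

section Top

variable {α : Type*} [TopologicalSpace α] [NoetherianSpace α] [QuasiSober α]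

open Classical in
theorem exists_finset_points {F : Set α} (hF : IsClosed F) :
    ∃ G : Finset α, F = ⋃ g ∈ G, closure ({g} : Set α) := by
  obtain ⟨S, hSf, hSc, hSi, rfl⟩ := NoetherianSpace.exists_finite_set_isClosed_irreducible hF
  lift S to Finset (Set α) using hSf
  clear hF
  induction S using Finset.induction_on with
  | empty => exact ⟨∅, by simp⟩
  | insert t S _ ih =>
    obtain ⟨G, hG⟩ := ih (fun s hs => hSc s (by simp [hs])) (fun s hs => hSi s (by simp [hs]))
    obtain ⟨x, hx⟩ := QuasiSober.sober (hSi t (by simp)) (hSc t (by simp))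
    refine ⟨insert x G, ?_⟩
    rw [Finset.coe_insert, Set.sUnion_insert, hG, Finset.set_biUnion_insert, hx.def]

end Top

variable {V : ObjectProperty Scheme.{u}} [BMCoh.IsConstructible V]

section Geom

variable (X : Obj V) (j : ℕ)

/-- The points of `S` have pairwise disjoint closures in `U`. -/
def PDisj (U : X.scheme.Opens) (S : Finset X.scheme) : Prop :=
  ∀ y ∈ S, ∀ y' ∈ S, y ≠ y' → ∀ p ∈ U, p ∈ closure ({y} : Set X.scheme) →
    p ∉ closure ({y'} : Set X.scheme)

open Classical in
/-- Geometry: for an open `U₀ ⊇ F_j X` there is an open `U ⊇ F_{j+1} X` in which the complement of `U₀`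
is a disjoint union of pieces of closures of points of codimension `j + 1`. -/
theorem exists_cfg (U₀ : X.scheme.Opens) (hU₀ : ContainsFj X j U₀) :
    ∃ (U : X.scheme.Opens) (S : Finset X.scheme), ContainsFj X (j + 1) U ∧
      (∀ y ∈ S, WeilCoh.codim X.scheme y = j + 1) ∧ PDisj X U S ∧ openCompl X U S ≤ U₀ := by
  haveI := isNoetherian X
  obtain ⟨G, hG⟩ := exists_finset_points (α := X.scheme) (F := (U₀ : Set X.scheme)ᶜ)
    U₀.2.isClosed_compl
  have hGcod : ∀ g ∈ G, j + 1 ≤ WeilCoh.codim X.scheme g := by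
    intro g hg
    by_contra hlt
    have hgU : g ∈ U₀ := hU₀ g (by omega)
    have : g ∈ (U₀ : Set X.scheme)ᶜ := by
      rw [hG]
      exact Set.mem_biUnion hg (subset_closure rfl)
    exact this hgU
  let S : Finset X.scheme := G.filter (fun g => WeilCoh.codim X.scheme g = j + 1)
  let B1 : Set X.scheme := ⋃ g ∈ G.filter (fun g => WeilCoh.codim X.scheme g ≠ j + 1),
    closure ({g} : Set X.scheme)
  let B2 : Set X.scheme := ⋃ y ∈ S, ⋃ y' ∈ S.filter (fun y' => y ≠ y'),
    (closure ({y} : Set X.scheme) ∩ closure ({y'} : Set X.scheme))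
  have hB1 : IsClosed B1 :=
    (Finset.finite_toSet _).isClosed_biUnion fun _ _ => isClosed_closure
  have hB2 : IsClosed B2 :=
    (Finset.finite_toSet _).isClosed_biUnion fun _ _ =>
      (Finset.finite_toSet _).isClosed_biUnion fun _ _ => isClosed_closure.inter isClosed_closure
  let U : X.scheme.Opens := ⟨(B1 ∪ B2)ᶜ, (hB1.union hB2).isOpen_compl⟩
  have hScod : ∀ y ∈ S, WeilCoh.codim X.scheme y = j + 1 := fun y hy => (Finset.mem_filter.mp hy).2
  refine ⟨U, S, ?_, hScod, ?_, ?_⟩
  · intro p hp hpB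
    rcases hpB with hp1 | hp2
    · obtain ⟨g, hg, hpg⟩ := Set.mem_iUnion₂.mp hp1
      obtain ⟨hgG, hgne⟩ := Finset.mem_filter.mp hg
      have h1 := hGcod g hgG
      have h2 := codim_le_of_mem_closure X hpg
      omega
    · obtain ⟨y, hy, hp2'⟩ := Set.mem_iUnion₂.mp hp2
      obtain ⟨y', hy', hpy, hpy'⟩ := Set.mem_iUnion₂.mp hp2'
      obtain ⟨hy'S, hne⟩ := Finset.mem_filter.mp hy'
      by_cases hpe : p = y
      · subst hpe
        have := codim_lt_of_mem_closure X hpy' hne
        rw [hScod p hy, hScod y' hy'S] at this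
        exact lt_irrefl _ this
      · have := codim_lt_of_mem_closure X hpy hpe
        rw [hScod y hy] at this
        omega
  · intro y hy y' hy' hne p hpU hpy hpy'
    apply hpU
    right
    exact Set.mem_iUnion₂.mpr ⟨y, hy, Set.mem_iUnion₂.mpr
      ⟨y', Finset.mem_filter.mpr ⟨hy', hne⟩, hpy, hpy'⟩⟩
  · intro p hp
    obtain ⟨hpU, hpS⟩ := mem_openCompl.mp hp
    by_contra hpU₀
    have : p ∈ (U₀ : Set X.scheme)ᶜ := hpU₀
    rw [hG] at this
    obtain ⟨g, hg, hpg⟩ := Set.mem_iUnion₂.mp this
    by_cases hgc : WeilCoh.codim X.scheme g = j + 1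
    · exact hpS g (Finset.mem_filter.mpr ⟨hg, hgc⟩) hpg
    · apply hpU
      left
      exact Set.mem_iUnion₂.mpr ⟨g, Finset.mem_filter.mpr ⟨hg, hgc⟩, hpg⟩

theorem PDisj.mono {U U' : X.scheme.Opens} {S : Finset X.scheme} (h : PDisj X U S) (hle : U' ≤ U) :
    PDisj X U' S :=
  fun y hy y' hy' hne p hp => h y hy y' hy' hne p (hle hp)

theorem openCompl_mono {U U' : X.scheme.Opens} (S : Finset X.scheme) (hle : U' ≤ U) :
    openCompl X U' S ≤ openCompl X U S := fun _ hp =>
  mem_openCompl.mpr ⟨hle (mem_openCompl.mp hp).1, (mem_openCompl.mp hp).2⟩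

theorem openCompl_empty (U : X.scheme.Opens) : U ≤ openCompl X U ∅ := fun _ hp =>
  mem_openCompl.mpr ⟨hp, fun _ hy => (Finset.notMem_empty _ hy).elim⟩

variable {X j}

theorem containsFj_openCompl {U : X.scheme.Opens} {S : Finset X.scheme}
    (hU : ContainsFj X (j + 1) U) (hS : ∀ y ∈ S, WeilCoh.codim X.scheme y = j + 1) :
    ContainsFj X j (openCompl X U S) := by
  intro p hp
  refine mem_openCompl.mpr ⟨hU p (by omega), fun y hy hpy => ?_⟩
  have := codim_le_of_mem_closure X hpy
  rw [hS y hy] at this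
  omega

theorem containsFj_inf {k : ℕ} {U U' : X.scheme.Opens} (hU : ContainsFj X k U)
    (hU' : ContainsFj X k U') : ContainsFj X k (U ⊓ U') :=
  fun y hy => ⟨hU y hy, hU' y hy⟩

/-- The configuration attached to an open `U ⊇ F_{j+1} X` and a nonempty finite set of points of
codimension `j + 1` with pairwise disjoint closures in `U`. -/
abbrev cfgOf (U : X.scheme.Opens) (S : Finset X.scheme) (hne : S.Nonempty)
    (hU : ContainsFj X (j + 1) U) (hS : ∀ y ∈ S, WeilCoh.codim X.scheme y = j + 1)
    (hdisj : PDisj X U S) : Cfg X where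
  U := U
  S := S
  d := WeilCoh.dim X.scheme - (j + 1)
  nonempty := hne
  mem := fun y hy => hU y (by rw [hS y hy])
  disj := hdisj
  pdim := fun y hy => by
    have h1 := codim_cast X y
    rw [hS y hy] at h1
    have h2 := pdim_le_dim X y
    omega
  dimU := dim_eq_of_containsFj X (j + 1) U hU
  dimU₀ := dim_eq_of_containsFj X j _ (containsFj_openCompl hU hS)

theorem cfgOf_relCodim (U : X.scheme.Opens) (S : Finset X.scheme) (hne : S.Nonempty)
    (hU : ContainsFj X (j + 1) U) (hS : ∀ y ∈ S, WeilCoh.codim X.scheme y = j + 1)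
    (hdisj : PDisj X U S) :
    relCodim (cfgOf U S hne hU hS hdisj).zobj.scheme (X.res U).scheme = (j : ℤ) + 1 := by
  have h := (cfgOf U S hne hU hS hdisj).relCodim_z
  have hne' := hne
  obtain ⟨y, hy⟩ := hne'
  have h1 := codim_cast X y
  rw [hS y hy] at h1
  have h2 := pdim_le_dim X y
  refine h.trans ?_
  change (WeilCoh.dim X.scheme : ℤ) - ((WeilCoh.dim X.scheme - (j + 1) : ℕ) : ℤ) = _
  omega

end Geom

end

end Groth.Agent.Lib.Helper23.BMGeom
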