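import Mathlib
import Groth.Prelude.Def_BMCoh3
import Groth.Agent.Lib.Helper23.BMGeom
import Groth.Agent.Lib.Helper23.BMData

/-!
# Gysin sequences of configurations (helper23)
-/

set_option autoImplicit false
universe u
open CategoryTheory CategoryTheory.Limits AlgebraicGeometry Opposite TopologicalSpace Topology

namespace Groth.Agent.Lib.Helper23.BMGysin

open BMCoh BMObj BMColim BMObj2 BMSigma BMPart BMMulti BMGeom BMData

noncomputable section

variable {V : ObjectProperty Scheme.{u}} [BMCoh.IsConstructible V]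
variable {R : Type u} [CommRing R] {A : BMCoh.Coefs R} (T : BMCoh.PreTheory V R A)

section Exact

/-- Exactness at `H(X)` of the Gysin sequence, in arbitrary degree. -/
theorem exact_push_pull' {X : Obj V} (D : Decomp X) (M : A.Cat) (i n i' n' : ℤ)
    (hi' : i = i' + 2 * relCodim D.Z.scheme X.scheme)
    (hn' : n = n' + relCodim D.Z.scheme X.scheme) :
    Function.Exact (T.push D.i M i' n' i n hi' hn').hom (T.pull D.j M i n).hom := by
  obtain ⟨i₀, rfl⟩ : ∃ i₀, i = i₀ + 1 := ⟨i - 1, by ring⟩
  exact T.exact_push_pull D M i₀ n i' n' hi' hn'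

/-- Exactness at `H(Z)` of the Gysin sequence, with the target degree as a variable. -/
theorem exact_res_push' {X : Obj V} (D : Decomp X) (M : A.Cat) (i n i' n' i₁ : ℤ)
    (hi : i' = i + 1 - 2 * D.codim) (hn : n' = n - D.codim)
    (hi' : i₁ = i' + 2 * relCodim D.Z.scheme X.scheme)
    (hn' : n = n' + relCodim D.Z.scheme X.scheme) :
    Function.Exact (T.res D M i n i' n' hi hn).hom (T.push D.i M i' n' i₁ n hi' hn').hom := by
  have h1 : i₁ = i + 1 := by
    rw [hi', hi]
    change i + 1 - 2 * relCodim D.Z.scheme X.scheme + 2 * relCodim D.Z.scheme X.scheme = i + 1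
    ring
  subst h1
  exact T.exact_res_push D M i n i' n' hi hn hi' hn'

end Exact

section Cfg

variable {X : Obj V} (C : Cfg X)

theorem push_pcι_eq (y : ↥C.S) (M : A.Cat) (i n i' n' : ℤ)
    (hi : i' = i + 2 * relCodim C.zobj.scheme (X.res C.U).scheme)
    (hn : n' = n + relCodim C.zobj.scheme (X.res C.U).scheme)
    (hiy : i' = i + 2 * relCodim (pc X C.U y.1).scheme (X.res C.U).scheme)
    (hny : n' = n + relCodim (pc X C.U y.1).scheme (X.res C.U).scheme)
    (b : T.gp (pc X C.U y.1) M i n) :
    (T.push (X := pc X C.U y.1) (Y := X.res C.U) (pcι X C.U y.1) M i n i' n' hiy hny).hom b =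
      (T.push (X := C.zobj) (Y := X.res C.U) C.zι M i n i' n' hi hn).hom
        ((push0 T (C.kap y) M i n).hom b) := by
  have hc := T.push_comp (X := pc X C.U y.1) (Y := C.zobj) (Z := X.res C.U) (C.kap y).hom C.zι M
    i n i n i' n' (by rw [relCodim_eq_zero (C.kap y)]; ring)
    (by rw [relCodim_eq_zero (C.kap y)]; ring) hi hn hiy hny
  have hc' := congrArg (fun φ => φ.hom b) hc
  rw [push_congr T _ (pcι X C.U y.1) (C.kap_zι y)] at hc'
  exact hc'.symm

/-- The index equations for the pieces follow from those of the closed part. -/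
theorem relCodim_pc_eq (y : ↥C.S) :
    relCodim (pc X C.U y.1).scheme (X.res C.U).scheme =
      relCodim C.zobj.scheme (X.res C.U).scheme := by
  unfold relCodim
  rw [(C.kap y).dim_eq]

/-- The restriction to the open part of a class pushed forward from a piece vanishes. -/
theorem pull_j_push_pcι (y : ↥C.S) (M : A.Cat) (i n i' n' : ℤ)
    (hiy : i' = i + 2 * relCodim (pc X C.U y.1).scheme (X.res C.U).scheme)
    (hny : n' = n + relCodim (pc X C.U y.1).scheme (X.res C.U).scheme)
    (b : T.gp (pc X C.U y.1) M i n) :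
    (T.pull C.dec.j M i' n').hom
      ((T.push (X := pc X C.U y.1) (Y := X.res C.U) (pcι X C.U y.1) M i n i' n' hiy hny).hom b) =
      0 := by
  have hi : i' = i + 2 * relCodim C.zobj.scheme (X.res C.U).scheme := by
    rw [← relCodim_pc_eq C y]; exact hiy
  have hn : n' = n + relCodim C.zobj.scheme (X.res C.U).scheme := by
    rw [← relCodim_pc_eq C y]; exact hny
  rw [push_pcι_eq T C y M i n i' n' hi hn hiy hny]
  exact (exact_push_pull' T C.dec M i' n' i n hi hn _).mpr ⟨_, rfl⟩

open Classical in
/-- A class on `U` which vanishes on the open part is a sum of classes pushed forward from the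
pieces. -/
theorem exists_sum_push (M : A.Cat) (i n i' n' : ℤ)
    (hi : i' = i + 2 * relCodim C.zobj.scheme (X.res C.U).scheme)
    (hn : n' = n + relCodim C.zobj.scheme (X.res C.U).scheme)
    (β : T.gp (X.res C.U) M i' n') (hβ : (T.pull C.dec.j M i' n').hom β = 0) :
    ∃ c : ∀ y : ↥C.S, T.gp (pc X C.U y.1) M i n,
      β = ∑ y : ↥C.S, (T.push (X := pc X C.U y.1) (Y := X.res C.U) (pcι X C.U y.1) M i n i' n'
        (by rw [relCodim_pc_eq C y]; exact hi) (by rw [relCodim_pc_eq C y]; exact hn)).hom (c y) := by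
  obtain ⟨c, hc⟩ := (exact_push_pull' T C.dec M i' n' i n hi hn β).mp hβ
  refine ⟨fun y => (T.pull (C.kap y) M i n).hom c, ?_⟩
  rw [← hc]
  exact push_zι_eq_sum T C M i n i' n' hi hn _ _ c

end Cfg

end

end Groth.Agent.Lib.Helper23.BMGysin
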