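import Mathlib
import Groth.Prelude.Def_BMCoh3
import Groth.Agent.Lib.Helper23.BMGysin

/-!
# Restricting configurations to smaller opens; residue data on configurations (helper23)
-/

set_option autoImplicit false
universe u
open CategoryTheory CategoryTheory.Limits AlgebraicGeometry Opposite TopologicalSpace Topology

namespace Groth.Agent.Lib.Helper23.BMShrink

open BMCoh BMObj BMColim BMObj2 BMSigma BMPart BMMulti BMGeom BMData BMGysin

noncomputable section

variable {V : ObjectProperty Scheme.{u}} [BMCoh.IsConstructible V]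

section Restrict

variable {X : Obj V}

/-- The data for restricting a configuration to a smaller open containing its points. -/
structure RData (C : Cfg X) where
  U' : X.scheme.Opens
  le : U' ≤ C.U
  mem : ∀ y ∈ C.S, y ∈ U'
  dimU' : WeilCoh.dim (U' : Scheme.{u}) = WeilCoh.dim X.scheme
  dimU₀' : WeilCoh.dim (openCompl X U' C.S : Scheme.{u}) = WeilCoh.dim X.scheme

variable (C : Cfg X) (r : RData C)

/-- Restricting a configuration to a smaller open containing its points. -/
abbrev restrict : Cfg X where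
  U := r.U'
  S := C.S
  d := C.d
  nonempty := C.nonempty
  mem := r.mem
  disj := fun y hy y' hy' hne p hp => C.disj y hy y' hy' hne p (r.le hp)
  pdim := C.pdim
  dimU := r.dimU'
  dimU₀ := r.dimU₀'

/-- The components of the comparison map between the closed parts. -/
def sigComp (y : ↥C.S) : (pc X r.U' y.1).scheme ⟶ C.zsch :=
  (X.ptSub y.1).scheme.homOfLE (ptOpen_mono r.le) ≫
    Sigma.ι (fun y : ↥C.S => (pc X C.U y.1).scheme) y

instance (y : ↥C.S) : IsOpenImmersion (sigComp C r y) := by
  have hg : @IsOpenImmersion _ C.zsch (Sigma.ι (fun y : ↥C.S => (pc X C.U y.1).scheme) y) :=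
    (inferInstance : IsOpenImmersion (Sigma.ι (fun y : ↥C.S => (pc X C.U y.1).scheme) y))
  unfold sigComp
  infer_instance

theorem range_sigComp_subset (y : ↥C.S) :
    Set.range (sigComp C r y) ⊆
      Set.range (Sigma.ι (fun y : ↥C.S => (pc X C.U y.1).scheme) y) := by
  rintro _ ⟨z, rfl⟩
  exact ⟨(X.ptSub y.1).scheme.homOfLE (ptOpen_mono r.le) z, rfl⟩

/-- The comparison map between the closed parts, as a morphism of schemes. -/
def sigHom : (restrict C r).zsch ⟶ C.zsch :=
  Sigma.desc (fun y : ↥C.S => sigComp C r y)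

instance : IsOpenImmersion (sigHom C r) := by
  unfold sigHom
  apply isOpenImmersion_sigmaDesc
  intro y y' hyy'
  exact (disjoint_range_sigmaι (Y := fun y : ↥C.S => (pc X C.U y.1).scheme) y y' hyy').mono
    (range_sigComp_subset C r y) (range_sigComp_subset C r y')

/-- The comparison map between the closed parts, as a morphism of objects. -/
def sig : (restrict C r).zobj ⟶ C.zobj :=
  ⟨sigHom C r, inferInstance, (restrict C r).dim_zsch.trans C.dim_zsch.symm⟩

theorem dim_pc_restrict (y : ↥C.S) :
    WeilCoh.dim ((ptOpen X y.1 r.U' : (X.ptSub y.1).scheme.Opens) : Scheme.{u}) =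
      WeilCoh.dim ((ptOpen X y.1 C.U : (X.ptSub y.1).scheme.Opens) : Scheme.{u}) :=
  ((restrict C r).dim_pc y).trans (C.dim_pc y).symm

theorem kap_sig (y : ↥C.S) :
    (restrict C r).kap y ≫ sig C r =
      (X.ptSub y.1).resLE (ptOpen_mono r.le) (dim_pc_restrict C r y) ≫ C.kap y := by
  apply Hom.ext
  change Sigma.ι (fun y : ↥C.S => (pc X r.U' y.1).scheme) y ≫
    Sigma.desc (fun y : ↥C.S => sigComp C r y) = _
  rw [Sigma.ι_desc]
  rfl

theorem sigComp_zι (y : ↥C.S) :
    sigComp C r y ≫ C.zι =
      (X.ptSub y.1).scheme.homOfLE (ptOpen_mono r.le) ≫ pcι X C.U y.1 := by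
  unfold sigComp
  rw [Category.assoc]
  exact congrArg (fun t => (X.ptSub y.1).scheme.homOfLE (ptOpen_mono r.le) ≫ t) (C.kap_zι y)

theorem sig_zι : (sig C r).hom ≫ C.zι = (restrict C r).zι ≫ X.scheme.homOfLE r.le := by
  change Sigma.desc (fun y : ↥C.S => sigComp C r y) ≫ C.zι =
    Sigma.desc (fun y : ↥C.S => pcι X r.U' y.1) ≫ X.scheme.homOfLE r.le
  apply Sigma.hom_ext
  intro y
  rw [Sigma.ι_desc_assoc, Sigma.ι_desc_assoc, sigComp_zι]
  exact (morphismRestrict_homOfLE (X.ptSubι y.1) r.U' C.U r.le).symm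

variable {R : Type u} [CommRing R] {A : BMCoh.Coefs R} (T : BMCoh.PreTheory V R A)

theorem dimU₀_restrict :
    WeilCoh.dim (openCompl X r.U' C.S : Scheme.{u}) = WeilCoh.dim (C.U₀ : Scheme.{u}) :=
  r.dimU₀'.trans C.dimU₀.symm

/-- The restriction morphism between the open parts. -/
abbrev resU₀ : X.res (restrict C r).U₀ ⟶ X.res C.U₀ :=
  X.resLE (openCompl_mono X C.S r.le) (dimU₀_restrict C r)

/-- Compatibility of the residue maps of a configuration and of its restriction. -/
theorem res_restrict (M : A.Cat) (i n i' n' : ℤ) (hi : i' = i + 1 - 2 * C.dec.codim)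
    (hn : n' = n - C.dec.codim)
    (hi' : i' = i + 1 - 2 * (restrict C r).dec.codim)
    (hn' : n' = n - (restrict C r).dec.codim) :
    T.res C.dec M i n i' n' hi hn ≫ T.pull (sig C r) M i' n' =
      T.pull (resU₀ C r) M i n ≫ T.res (restrict C r).dec M i n i' n' hi' hn' := by
  refine T.res_pull C.dec (restrict C r).dec
    (X.resLE r.le (r.dimU'.trans C.dimU.symm)) (sig C r) (resU₀ C r) ?_ ?_ M i n i' n' hi hn hi' hn'
  · exact sig_zι C r
  · change X.resLE _ _ ≫ X.resLE _ _ = X.resLE _ _ ≫ X.resLE _ _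
    rw [resLE_comp, resLE_comp]

/-- The residue of a restricted class on a piece of the restricted configuration. -/
theorem pull_kap_res_restrict (y : ↥C.S) (M : A.Cat) (i n i' n' : ℤ)
    (hi : i' = i + 1 - 2 * C.dec.codim) (hn : n' = n - C.dec.codim)
    (hi' : i' = i + 1 - 2 * (restrict C r).dec.codim)
    (hn' : n' = n - (restrict C r).dec.codim)
    (a : T.gp (X.res C.U₀) M i n) :
    (T.pull ((restrict C r).kap y) M i' n').hom
      ((T.res (restrict C r).dec M i n i' n' hi' hn').hom ((T.pull (resU₀ C r) M i n).hom a)) =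
    (T.pull ((X.ptSub y.1).resLE (ptOpen_mono r.le) (dim_pc_restrict C r y)) M i' n').hom
      ((T.pull (C.kap y) M i' n').hom ((T.res C.dec M i n i' n' hi hn).hom a)) := by
  have h1 := congrArg (fun φ => φ.hom a) (res_restrict C r T M i n i' n' hi hn hi' hn')
  change (T.pull (sig C r) M i' n').hom ((T.res C.dec M i n i' n' hi hn).hom a) =
    (T.res (restrict C r).dec M i n i' n' hi' hn').hom
      ((T.pull (resU₀ C r) M i n).hom a) at h1
  rw [← h1, ← pull_comp_apply, kap_sig, pull_comp_apply]

theorem restrict_codim : (restrict C r).dec.codim = C.dec.codim := by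
  rw [(restrict C r).dec_codim, C.dec_codim]

end Restrict

end

end Groth.Agent.Lib.Helper23.BMShrink
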