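import Mathlib
import Groth.Prelude.Def_BMCoh3
import Groth.Agent.Lib.Helper23.BMShrink

/-!
# Residue data evaluated on configurations; simultaneous shrinking (helper23)
-/

set_option autoImplicit false
universe u
open CategoryTheory CategoryTheory.Limits AlgebraicGeometry Opposite TopologicalSpace Topology

namespace Groth.Agent.Lib.Helper23.BMRes

open BMCoh BMObj BMColim BMObj2 BMSigma BMPart BMMulti BMGeom BMData BMGysin BMShrink

noncomputable section

variable {V : ObjectProperty Scheme.{u}} [BMCoh.IsConstructible V]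
variable {R : Type u} [CommRing R] {A : BMCoh.Coefs R} {T : BMCoh.PreTheory V R A}
variable {X : Obj V} {j : ℕ}

/-- The value of the residue `∂_y` on a class given on the open part of a configuration having
`y` among its points. -/
theorem resData_cpt_cfg (Q : T.ResData X j) (C : Cfg X) (y : ↥C.S)
    (hy : WeilCoh.codim X.scheme y.1 = j + 1) (hU₀ : ContainsFj X j C.U₀) (M : A.Cat)
    (i n i' n' : ℤ) (hi : i' = i + 1 - 2 * ((j : ℤ) + 1)) (hn : n' = n - ((j : ℤ) + 1))
    (hiD : i' = i + 1 - 2 * C.dec.codim) (hnD : n' = n - C.dec.codim)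
    (a : T.gp (X.res C.U₀) M i n) :
    (Q.cpt ⟨y.1, hy⟩ M i n i' n' hi hn).hom (((T.fjι X j i n (fjMk X j C.U₀ hU₀)).app M).hom a) =
      ((T.ptι X y.1 i' n' (pieceIdx X y.1 C.U (C.mem y.1 y.2))).app M).hom
        ((T.pull (C.kap y) M i' n').hom ((T.res C.dec M i n i' n' hiD hnD).hom a)) := by
  have c1 : (C.kap y).hom ≫ C.dec.i ≫ (X.resι C.U C.dimU).hom =
      (pieceIdx X y.1 C.U (C.mem y.1 y.2)).1.ι ≫ X.ptSubι y.1 := by
    change (C.kap y).hom ≫ C.zι ≫ C.U.ι = (ptOpen X y.1 C.U).ι ≫ X.ptSubι y.1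
    rw [← Category.assoc, C.kap_zι]
    exact morphismRestrict_ι _ _
  have c2 : (𝟙 (X.res C.U₀) : X.res C.U₀ ⟶ X.res C.U₀).hom ≫ C.dec.j.hom ≫
      (X.resι C.U C.dimU).hom = (fjMk X j C.U₀ hU₀).1.ι := by
    change 𝟙 _ ≫ X.scheme.homOfLE (openCompl_le X C.U C.S) ≫ C.U.ι = C.U₀.ι
    rw [Category.id_comp, Scheme.homOfLE_ι]
  have hspec := Q.cpt_spec ⟨y.1, hy⟩ M i n i' n' hi hn (X.resι C.U C.dimU) C.dec
    (pieceIdx X y.1 C.U (C.mem y.1 y.2)) (C.kap y) c1 (fjMk X j C.U₀ hU₀) (𝟙 (X.res C.U₀)) c2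
    hiD hnD
  have h1 := congrArg (fun φ => φ.hom a) hspec
  have h2 : (T.pull (𝟙 (X.res C.U₀)) M i n).hom a = a := by
    rw [pull_id]; rfl
  change (Q.cpt ⟨y.1, hy⟩ M i n i' n' hi hn).hom (((T.fjι X j i n (fjMk X j C.U₀ hU₀)).app M).hom
    ((T.pull (𝟙 (X.res C.U₀)) M i n).hom a)) = _ at h1
  rw [h2] at h1
  exact h1

section Shrink

/-- Simultaneous shrinking: finitely many nonempty opens of the closures of points of codimension
`j` contain the traces of a common open containing `F_j X`. -/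
theorem exists_shrink_finset (X : Obj V) (j : ℕ) (S : Finset X.scheme)
    (hS : ∀ y ∈ S, WeilCoh.codim X.scheme y = j)
    (W : ∀ y : X.scheme, (X.ptSub y).scheme.Opens)
    (hW : ∀ y ∈ S, ((W y : (X.ptSub y).scheme.Opens) : Set (X.ptSub y).scheme).Nonempty) :
    ∃ U : X.scheme.Opens, ContainsFj X j U ∧ ∀ y ∈ S, ptOpen X y U ≤ W y := by
  classical
  induction S using Finset.induction_on with
  | empty => exact ⟨⊤, fun _ _ => trivial, fun _ hy => (Finset.notMem_empty _ hy).elim⟩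
  | insert y₀ S _ ih =>
    obtain ⟨U, hUF, hU⟩ := ih (fun y hy => hS y (Finset.mem_insert_of_mem hy))
      (fun y hy => hW y (Finset.mem_insert_of_mem hy))
    obtain ⟨U₁, hU₁F, -, hU₁⟩ := exists_shrink X j y₀ (hS y₀ (Finset.mem_insert_self _ _)) (W y₀)
      (hW y₀ (Finset.mem_insert_self _ _))
    refine ⟨U ⊓ U₁, containsFj_inf hUF hU₁F, fun y hy => ?_⟩
    rcases Finset.mem_insert.mp hy with rfl | hyS
    · exact (ptOpen_mono (inf_le_right : U ⊓ U₁ ≤ U₁)).trans hU₁
    · exact (ptOpen_mono (inf_le_left : U ⊓ U₁ ≤ U)).trans (hU y hyS)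

end Shrink

end

end Groth.Agent.Lib.Helper23.BMRes
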