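import Mathlib
import Groth.Prelude.Def_BMCoh3
import Groth.Agent.Lib.Helper23.BMRes

/-!
# Further tools for the colimit Gysin sequences (helper23)
-/

set_option autoImplicit false
universe u
open CategoryTheory CategoryTheory.Limits AlgebraicGeometry Opposite TopologicalSpace Topology

namespace Groth.Agent.Lib.Helper23.BMRes2

open BMCoh BMObj BMColim BMObj2 BMSigma BMPart BMMulti BMGeom BMData BMGysin BMShrink BMRes

noncomputable section

variable {V : ObjectProperty Scheme.{u}} [BMCoh.IsConstructible V]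
variable {R : Type u} [CommRing R] {A : BMCoh.Coefs R} {T : BMCoh.PreTheory V R A}
variable {X : Obj V} {j : ℕ}

section CfgJ

theorem containsFj_openCompl' {U : X.scheme.Opens} {S : Finset X.scheme}
    (hU : ContainsFj X j U) (hS : ∀ y ∈ S, WeilCoh.codim X.scheme y = j + 1) :
    ContainsFj X j (openCompl X U S) := by
  intro p hp
  refine mem_openCompl.mpr ⟨hU p hp, fun y hy hpy => ?_⟩
  have := codim_le_of_mem_closure X hpy
  rw [hS y hy] at this
  omega

/-- The configuration attached to an open `U ⊇ F_j X` and a nonempty finite set of points of `U` of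
codimension `j + 1` with pairwise disjoint closures in `U`. -/
abbrev cfgOfJ (U : X.scheme.Opens) (S : Finset X.scheme) (hne : S.Nonempty)
    (hU : ContainsFj X j U) (hS : ∀ y ∈ S, WeilCoh.codim X.scheme y = j + 1)
    (hmem : ∀ y ∈ S, y ∈ U) (hdisj : PDisj X U S) : Cfg X where
  U := U
  S := S
  d := WeilCoh.dim X.scheme - (j + 1)
  nonempty := hne
  mem := hmem
  disj := hdisj
  pdim := fun y hy => by
    have h1 := codim_cast X y
    rw [hS y hy] at h1
    have h2 := pdim_le_dim X y
    omega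
  dimU := dim_eq_of_containsFj X j U hU
  dimU₀ := dim_eq_of_containsFj X j _ (containsFj_openCompl' hU hS)

theorem cfgOfJ_codim (U : X.scheme.Opens) (S : Finset X.scheme) (hne : S.Nonempty)
    (hU : ContainsFj X j U) (hS : ∀ y ∈ S, WeilCoh.codim X.scheme y = j + 1)
    (hmem : ∀ y ∈ S, y ∈ U) (hdisj : PDisj X U S) :
    (cfgOfJ U S hne hU hS hmem hdisj).dec.codim = (j : ℤ) + 1 := by
  have h := (cfgOfJ U S hne hU hS hmem hdisj).dec_codim
  have hne' := hne
  obtain ⟨y, hy⟩ := hne'
  have h1 := codim_cast X y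
  rw [hS y hy] at h1
  have h2 := pdim_le_dim X y
  refine h.trans ?_
  change (WeilCoh.dim X.scheme : ℤ) - ((WeilCoh.dim X.scheme - (j + 1) : ℕ) : ℤ) = _
  omega

theorem pdisj_singleton (U : X.scheme.Opens) (x : X.scheme) : PDisj X U {x} := by
  intro y hy y' hy' hne
  rw [Finset.mem_singleton.mp hy, Finset.mem_singleton.mp hy'] at hne
  exact (hne rfl).elim

/-- The residue at a point of codimension `j + 1` of a class given on an open containing the point
vanishes. -/
theorem resData_cpt_of_mem (Q : T.ResData X j) (x : X.cdPt (j + 1)) (U₀ : X.scheme.Opens)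
    (hU₀ : ContainsFj X j U₀) (hx : x.1 ∈ U₀) (M : A.Cat) (i n i' n' : ℤ)
    (hi : i' = i + 1 - 2 * ((j : ℤ) + 1)) (hn : n' = n - ((j : ℤ) + 1))
    (a₀ : T.gp (X.res U₀) M i n) :
    (Q.cpt x M i n i' n' hi hn).hom (((T.fjι X j i n (fjMk X j U₀ hU₀)).app M).hom a₀) = 0 := by
  have hSx : ∀ y ∈ ({x.1} : Finset X.scheme), WeilCoh.codim X.scheme y = j + 1 := by
    intro y hy
    rw [Finset.mem_singleton.mp hy]
    exact x.2
  have hmem : ∀ y ∈ ({x.1} : Finset X.scheme), y ∈ U₀ := by
    intro y hy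
    rw [Finset.mem_singleton.mp hy]
    exact hx
  have hdx := pdisj_singleton U₀ x.1
  have hU₀F : ContainsFj X j (openCompl X U₀ {x.1}) := containsFj_openCompl' hU₀ hSx
  have hrc := cfgOfJ_codim U₀ {x.1} (Finset.singleton_nonempty _) hU₀ hSx hmem hdx
  have hiD : i' = i + 1 - 2 *
      (cfgOfJ U₀ {x.1} (Finset.singleton_nonempty _) hU₀ hSx hmem hdx).dec.codim := by
    rw [hrc]; exact hi
  have hnD : n' = n -
      (cfgOfJ U₀ {x.1} (Finset.singleton_nonempty _) hU₀ hSx hmem hdx).dec.codim := by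
    rw [hrc]; exact hn
  rw [← fjι_resLE_apply T X j M i n U₀ (openCompl X U₀ {x.1}) hU₀ hU₀F (openCompl_le X U₀ {x.1})
    (cfgOfJ U₀ {x.1} (Finset.singleton_nonempty _) hU₀ hSx hmem hdx).dimU₀']
  have h1 := resData_cpt_cfg Q (cfgOfJ U₀ {x.1} (Finset.singleton_nonempty _) hU₀ hSx hmem hdx)
    ⟨x.1, Finset.mem_singleton_self _⟩ x.2 hU₀F M i n i' n' hi hn hiD hnD
    ((T.pull (cfgOfJ U₀ {x.1} (Finset.singleton_nonempty _) hU₀ hSx hmem hdx).dec.j M i n).hom a₀)
  have h2 : (T.res (cfgOfJ U₀ {x.1} (Finset.singleton_nonempty _) hU₀ hSx hmem hdx).dec M i n i' n'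
      hiD hnD).hom
      ((T.pull (cfgOfJ U₀ {x.1} (Finset.singleton_nonempty _) hU₀ hSx hmem hdx).dec.j M i n).hom
        a₀) = 0 :=
    (T.exact_pull_res _ M i n i' n' hiD hnD _).mpr ⟨a₀, rfl⟩
  rw [h2] at h1
  exact h1.trans ((congrArg _ (map_zero _)).trans (map_zero _))

end CfgJ

section BaseChange

/-- The base change square of a piece along the inclusion of a smaller open. -/
theorem isPullback_pc (X : Obj V) {U U' : X.scheme.Opens} (h : U' ≤ U) (y : X.scheme) :
    IsPullback ((X.ptSub y).scheme.homOfLE (ptOpen_mono (X := X) (x := y) h)) (pcι X U' y)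
      (pcι X U y) (X.scheme.homOfLE h) := by
  refine (IsOpenImmersion.isPullback (pcι X U' y)
    ((X.ptSub y).scheme.homOfLE (ptOpen_mono (X := X) (x := y) h)) (X.scheme.homOfLE h)
    (pcι X U y) ?_ ?_).flip
  · exact (morphismRestrict_homOfLE (X.ptSubι y) U' U h).symm
  · rw [Scheme.opensRange_homOfLE, Scheme.opensRange_homOfLE]
    ext z
    change ((X.ptSubι y ∣_ U) z).1 ∈ U' ↔ z.1 ∈ ptOpen X y U'
    rw [morphismRestrict_base_coe]
    rfl

/-- Base change for the push-forward from a piece along the inclusion of a smaller open. -/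
theorem pull_push_pcι (T : BMCoh.PreTheory V R A) (X : Obj V) {U U' : X.scheme.Opens} (h : U' ≤ U)
    (hd : WeilCoh.dim (U' : Scheme.{u}) = WeilCoh.dim (U : Scheme.{u})) (y : X.scheme)
    (hdy : WeilCoh.dim ((ptOpen X y U' : (X.ptSub y).scheme.Opens) : Scheme.{u}) =
      WeilCoh.dim ((ptOpen X y U : (X.ptSub y).scheme.Opens) : Scheme.{u}))
    (M : A.Cat) (i n i' n' : ℤ)
    (hi : i' = i + 2 * relCodim (pc X U y).scheme (X.res U).scheme)
    (hn : n' = n + relCodim (pc X U y).scheme (X.res U).scheme)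
    (hi' : i' = i + 2 * relCodim (pc X U' y).scheme (X.res U').scheme)
    (hn' : n' = n + relCodim (pc X U' y).scheme (X.res U').scheme)
    (c : T.gp (pc X U y) M i n) :
    (T.pull (X.resLE h hd) M i' n').hom
      ((T.push (X := pc X U y) (Y := X.res U) (pcι X U y) M i n i' n' hi hn).hom c) =
    (T.push (X := pc X U' y) (Y := X.res U') (pcι X U' y) M i n i' n' hi' hn').hom
      ((T.pull ((X.ptSub y).resLE (ptOpen_mono h) hdy) M i n).hom c) := by
  have := T.push_pull (X := pc X U y) (Y := X.res U) (X' := pc X U' y) (Y' := X.res U')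
    (pcι X U y) (pcι X U' y) (X.resLE h hd) ((X.ptSub y).resLE (ptOpen_mono h) hdy)
    (isPullback_pc X h y) M i n i' n' hi hn hi' hn'
  exact congrArg (fun φ => φ.hom c) this

end BaseChange

end

end Groth.Agent.Lib.Helper23.BMRes2
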