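import Mathlib
import Groth.Prelude.Def_BMCoh3
import Groth.Agent.Lib.Helper23.BMRes2

/-!
# Common representatives, sums over supports, and the extension lemma (helper23)
-/

set_option autoImplicit false
universe u
open CategoryTheory CategoryTheory.Limits AlgebraicGeometry Opposite TopologicalSpace Topology

namespace Groth.Agent.Lib.Helper23.BMRes3

open BMCoh BMObj BMColim BMObj2 BMSigma BMPart BMMulti BMGeom BMData BMGysin BMShrink BMRes BMRes2

noncomputable section

variable {V : ObjectProperty Scheme.{u}} [BMCoh.IsConstructible V]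
variable {R : Type u} [CommRing R] {A : BMCoh.Coefs R}

section Geom

open Classical in
/-- Finitely many points of the same codimension `k` have pairwise disjoint closures in a suitable
open containing `F_k X`. -/
theorem exists_pdisj_open (X : Obj V) (k : ℕ) (S : Finset X.scheme)
    (hS : ∀ y ∈ S, WeilCoh.codim X.scheme y = k) :
    ∃ U : X.scheme.Opens, ContainsFj X k U ∧ PDisj X U S := by
  let B2 : Set X.scheme := ⋃ y ∈ S, ⋃ y' ∈ S.filter (fun y' => y ≠ y'),
    (closure ({y} : Set X.scheme) ∩ closure ({y'} : Set X.scheme))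
  have hB2 : IsClosed B2 :=
    (Finset.finite_toSet _).isClosed_biUnion fun _ _ =>
      (Finset.finite_toSet _).isClosed_biUnion fun _ _ => isClosed_closure.inter isClosed_closure
  refine ⟨⟨B2ᶜ, hB2.isOpen_compl⟩, ?_, ?_⟩
  · intro p hp hp2
    obtain ⟨y, hy, hp2'⟩ := Set.mem_iUnion₂.mp hp2
    obtain ⟨y', hy', hpy, hpy'⟩ := Set.mem_iUnion₂.mp hp2'
    obtain ⟨hy'S, hne⟩ := Finset.mem_filter.mp hy'
    by_cases hpe : p = y
    · subst hpe
      have := codim_lt_of_mem_closure X hpy' hne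
      rw [hS p hy, hS y' hy'S] at this
      exact lt_irrefl _ this
    · have := codim_lt_of_mem_closure X hpy hpe
      rw [hS y hy] at this
      omega
  · intro y hy y' hy' hne p hpU hpy hpy'
    apply hpU
    exact Set.mem_iUnion₂.mpr ⟨y, hy, Set.mem_iUnion₂.mpr
      ⟨y', Finset.mem_filter.mpr ⟨hy', hne⟩, hpy, hpy'⟩⟩

end Geom

section Rep

variable (T : BMCoh.PreTheory V R A) (X : Obj V)

theorem dim_ptOpen_eq {y : X.scheme} {U U' : X.scheme.Opens} (hyU : y ∈ U) (hyU' : y ∈ U') :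
    WeilCoh.dim ((ptOpen X y U' : (X.ptSub y).scheme.Opens) : Scheme.{u}) =
      WeilCoh.dim ((ptOpen X y U : (X.ptSub y).scheme.Opens) : Scheme.{u}) :=
  (dim_ptOpen hyU').trans (dim_ptOpen hyU).symm

/-- Restricting a representative of a class of a point to a smaller standard piece. -/
theorem ptι_pieceIdx_restrict (y : X.scheme) {U U' : X.scheme.Opens} (h : U' ≤ U) (hyU' : y ∈ U')
    (M : A.Cat) (i n : ℤ) (c : T.gp (pc X U y) M i n) :
    ((T.ptι X y i n (pieceIdx X y U' hyU')).app M).hom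
      ((T.pull ((X.ptSub y).resLE (ptOpen_mono h) (dim_ptOpen_eq X (h hyU') hyU')) M i n).hom c) =
      ((T.ptι X y i n (pieceIdx X y U (h hyU'))).app M).hom c :=
  ocolimι_resLE_apply T (X.ptSub y) (fun U => (U : Set (X.ptSub y).scheme).Nonempty) M i n
    (U := pieceIdx X y U (h hyU')) (U' := pieceIdx X y U' hyU') (ptOpen_mono h)
    (dim_ptOpen_eq X (h hyU') hyU') c

/-- Finitely many classes of points of codimension `k` are represented on the standard pieces cut
out by a common open containing `F_k X`. -/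
theorem exists_common_rep (k : ℕ) (S : Finset X.scheme)
    (hS : ∀ y ∈ S, WeilCoh.codim X.scheme y = k) (M : A.Cat) (i n : ℤ)
    (ξ : ∀ y : X.scheme, T.ptGp X y M i n) (U₁ : X.scheme.Opens) (hU₁ : ContainsFj X k U₁) :
    ∃ U : X.scheme.Opens, ContainsFj X k U ∧ U ≤ U₁ ∧ ∀ y ∈ S, ∀ hyU : y ∈ U,
      ∃ c : T.gp (pc X U y) M i n, ((T.ptι X y i n (pieceIdx X y U hyU)).app M).hom c = ξ y := by
  classical
  induction S using Finset.induction_on with
  | empty => exact ⟨U₁, hU₁, le_refl _, fun _ hy => (Finset.notMem_empty _ hy).elim⟩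
  | insert y₀ S _ ih =>
    obtain ⟨U, hUF, hUle, hU⟩ := ih (fun y hy => hS y (Finset.mem_insert_of_mem hy))
    obtain ⟨U₂, hU₂F, hy₀U₂, c₀, hc₀⟩ := pt_exists_rep T X k y₀
      (hS y₀ (Finset.mem_insert_self _ _)) M i n (ξ y₀)
    refine ⟨U ⊓ U₂, containsFj_inf hUF hU₂F, inf_le_left.trans hUle, fun y hy hyU => ?_⟩
    rcases Finset.mem_insert.mp hy with rfl | hyS
    · refine ⟨_, (ptι_pieceIdx_restrict T X y (inf_le_right : U ⊓ U₂ ≤ U₂) hyU M i n c₀).trans hc₀⟩
    · obtain ⟨c, hc⟩ := hU y hyS hyU.1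
      exact ⟨_, (ptι_pieceIdx_restrict T X y (inf_le_left : U ⊓ U₂ ≤ U) hyU M i n c).trans hc⟩

end Rep

section Sum

variable {T : BMCoh.PreTheory V R A} {X : Obj V} {k : ℕ}

open Classical in
/-- An element of the direct sum over the points of codimension `k` supported in a finite set `S` is
the sum of its components over `S`. -/
theorem ptSum_eq_sum (M : A.Cat) (i n : ℤ) (S : Finset X.scheme)
    (hS : ∀ y ∈ S, WeilCoh.codim X.scheme y = k) (ξ : T.ptSum X k M i n)
    (hsupp : ∀ x : X.cdPt k, x.1 ∉ S → ξ x = 0) :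
    ξ = ∑ y : ↥S, DirectSum.lof R (X.cdPt k) (fun y : X.cdPt k => T.ptGp X y.1 M i n)
      ⟨y.1, hS y.1 y.2⟩ (ξ ⟨y.1, hS y.1 y.2⟩) := by
  let emb : ↥S ↪ X.cdPt k :=
    ⟨fun y => ⟨y.1, hS y.1 y.2⟩, fun y y' h => Subtype.ext
      (congrArg (fun z : X.cdPt k => z.1) h)⟩
  have h1 : ∑ y : ↥S, DirectSum.lof R (X.cdPt k) (fun y : X.cdPt k => T.ptGp X y.1 M i n)
      ⟨y.1, hS y.1 y.2⟩ (ξ ⟨y.1, hS y.1 y.2⟩) =
      ∑ x ∈ Finset.univ.map emb, DirectSum.lof R (X.cdPt k)
        (fun y : X.cdPt k => T.ptGp X y.1 M i n) x (ξ x) := by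
    rw [Finset.sum_map]
    rfl
  rw [h1]
  have h2 := DirectSum.sum_support_of (β := fun y : X.cdPt k => T.ptGp X y.1 M i n) ξ
  have hsub : DFinsupp.support ξ ⊆ Finset.univ.map emb := by
    intro x hx
    rw [DFinsupp.mem_support_iff] at hx
    have hxS : x.1 ∈ S := by
      by_contra hcon
      exact hx (hsupp x hcon)
    exact Finset.mem_map.mpr ⟨⟨x.1, hxS⟩, Finset.mem_univ _, rfl⟩
  rw [← Finset.sum_subset hsub]
  · exact h2.symm
  · intro x _ hx
    rw [DFinsupp.notMem_support_iff] at hx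
    rw [hx, map_zero]

/-- The total push-forward of an element supported in a finite set of points. -/
theorem pushData_tot_eq_sum (P : T.PushData X k) (M : A.Cat) (i n i' n' : ℤ)
    (hi : i' = i + 2 * (k : ℤ)) (hn : n' = n + (k : ℤ)) (S : Finset X.scheme)
    (hS : ∀ y ∈ S, WeilCoh.codim X.scheme y = k) (ξ : T.ptSum X k M i n)
    (hsupp : ∀ x : X.cdPt k, x.1 ∉ S → ξ x = 0) :
    (P.tot M i n i' n' hi hn).hom ξ =
      ∑ y : ↥S, (P.cpt ⟨y.1, hS y.1 y.2⟩ M i n i' n' hi hn).hom (ξ ⟨y.1, hS y.1 y.2⟩) := by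
  classical
  conv_lhs => rw [ptSum_eq_sum M i n S hS ξ hsupp]
  rw [map_sum]
  refine Finset.sum_congr rfl fun y _ => ?_
  exact PreTheory.PushData.tot_lof P M i n i' n' hi hn ⟨y.1, hS y.1 y.2⟩ _

end Sum

end

end Groth.Agent.Lib.Helper23.BMRes3
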