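import Mathlib
import Groth.Prelude.Def_BMCoh3
import Groth.Agent.Lib.Helper23.BMRes3

/-!
# The extension lemma and the kernel lemma for `H(F_{j+1} X) → H(F_j X)` (helper23)
-/

set_option autoImplicit false
universe u
open CategoryTheory CategoryTheory.Limits AlgebraicGeometry Opposite TopologicalSpace Topology

namespace Groth.Agent.Lib.Helper23.BMExt

open BMCoh BMObj BMColim BMObj2 BMSigma BMPart BMMulti BMGeom BMData BMGysin BMShrink BMRes BMRes2
  BMRes3

noncomputable section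

variable {V : ObjectProperty Scheme.{u}} [BMCoh.IsConstructible V]
variable {R : Type u} [CommRing R] {A : BMCoh.Coefs R} (T : BMCoh.PreTheory V R A)
variable (X : Obj V) (j : ℕ)

/-- The extension lemma: a class of `H^i(F_j X)` given on `U₀` all of whose residues (computed on
any configuration whose open part lies in `U₀`) vanish in the groups of the points of codimension
`j + 1` comes from `H^i(F_{j+1} X)`. -/
theorem mem_range_fjRes_of_vanish (M : A.Cat) (i n i' n' : ℤ)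
    (hi : i' = i + 1 - 2 * ((j : ℤ) + 1)) (hn : n' = n - ((j : ℤ) + 1))
    (U₀ : X.scheme.Opens) (hU₀ : ContainsFj X j U₀) (a₀ : T.gp (X.res U₀) M i n)
    (hvan : ∀ (C : Cfg X) (hle : C.U₀ ≤ U₀)
      (hd : WeilCoh.dim (C.U₀ : Scheme.{u}) = WeilCoh.dim (U₀ : Scheme.{u}))
      (hiD : i' = i + 1 - 2 * C.dec.codim) (hnD : n' = n - C.dec.codim) (y : ↥C.S),
      WeilCoh.codim X.scheme y.1 = j + 1 →
      ((T.ptι X y.1 i' n' (pieceIdx X y.1 C.U (C.mem y.1 y.2))).app M).hom
        ((T.pull (C.kap y) M i' n').hom ((T.res C.dec M i n i' n' hiD hnD).hom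
          ((T.pull (X.resLE hle hd) M i n).hom a₀))) = 0) :
    ((T.fjι X j i n (fjMk X j U₀ hU₀)).app M).hom a₀ ∈
      Set.range ((T.fjRes X (Nat.le_succ j) i n).app M).hom := by
  classical
  obtain ⟨U, S, hUF, hScod, hdisj, hcompl⟩ := exists_cfg X j U₀ hU₀
  have hdU₀ := dim_eq_of_containsFj X j U₀ hU₀
  have hdU := dim_eq_of_containsFj X (j + 1) U hUF
  by_cases hS : S = ∅
  · subst hS
    have hle : U ≤ U₀ := (openCompl_empty X U).trans hcompl
    refine ⟨((T.fjι X (j + 1) i n (fjMk X (j + 1) U hUF)).app M).hom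
      ((T.pull (X.resLE hle (hdU.trans hdU₀.symm)) M i n).hom a₀), ?_⟩
    rw [fjRes_fjι_apply]
    exact fjι_resLE_apply T X j M i n U₀ U hU₀
      (containsFj_mono X (Nat.le_succ j) U hUF) hle (hdU.trans hdU₀.symm) a₀
  · have hne : S.Nonempty := Finset.nonempty_iff_ne_empty.mpr hS
    have hU₀F : ContainsFj X j (openCompl X U S) := containsFj_openCompl hUF hScod
    have hdC₀ : WeilCoh.dim (openCompl X U S : Scheme.{u}) = WeilCoh.dim (U₀ : Scheme.{u}) :=
      (dim_eq_of_containsFj X j _ hU₀F).trans hdU₀.symm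
    have hrc : (cfgOf U S hne hUF hScod hdisj).dec.codim = (j : ℤ) + 1 :=
      cfgOf_relCodim U S hne hUF hScod hdisj
    have hiD : i' = i + 1 - 2 * (cfgOf U S hne hUF hScod hdisj).dec.codim := by
      rw [hrc]; exact hi
    have hnD : n' = n - (cfgOf U S hne hUF hScod hdisj).dec.codim := by
      rw [hrc]; exact hn
    have hrep := fjι_resLE_apply T X j M i n U₀ (openCompl X U S) hU₀ hU₀F hcompl hdC₀ a₀
    rw [← hrep]
    have hq : ∀ y : ↥S, ∃ (W' : ptIdx X y.1) (h : W'.1 ≤ ptOpen X y.1 U)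
        (hd : WeilCoh.dim (W'.1 : Scheme.{u}) =
          WeilCoh.dim ((ptOpen X y.1 U : (X.ptSub y.1).scheme.Opens) : Scheme.{u})),
        (T.pull ((X.ptSub y.1).resLE h hd) M i' n').hom
          ((T.pull ((cfgOf U S hne hUF hScod hdisj).kap y) M i' n').hom
            ((T.res (cfgOf U S hne hUF hScod hdisj).dec M i n i' n' hiD hnD).hom
              ((T.pull (X.resLE hcompl hdC₀) M i n).hom a₀))) = 0 := by
      intro y
      have h1 := hvan (cfgOf U S hne hUF hScod hdisj) hcompl hdC₀ hiD hnD y (hScod y.1 y.2)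
      exact (ocolimι_eq_zero_iff' T (X.ptSub y.1)
        (fun U => (U : Set (X.ptSub y.1).scheme).Nonempty) M i' n'
        (pieceIdx X y.1 U ((cfgOf U S hne hUF hScod hdisj).mem y.1 y.2)) _).mp h1
    choose Wc hWle hWd hWz using hq
    let Wfun : ∀ y : X.scheme, (X.ptSub y).scheme.Opens :=
      fun y => if hy : y ∈ S then (Wc ⟨y, hy⟩).1 else ⊤
    have hWfun : ∀ y : ↥S, Wfun y.1 = (Wc y).1 := fun y => dif_pos y.2
    obtain ⟨U₂, hU₂F, hU₂⟩ := exists_shrink_finset X (j + 1) S hScod Wfun (fun y hy => by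
      rw [hWfun ⟨y, hy⟩]
      exact (Wc ⟨y, hy⟩).2.1)
    have hU'F : ContainsFj X (j + 1) (U ⊓ U₂) := containsFj_inf hUF hU₂F
    let r : RData (cfgOf U S hne hUF hScod hdisj) :=
      { U' := U ⊓ U₂
        le := inf_le_left
        mem := fun y hy => hU'F y (by rw [hScod y hy])
        dimU' := dim_eq_of_containsFj X (j + 1) _ hU'F
        dimU₀' := dim_eq_of_containsFj X j _ (containsFj_openCompl hU'F hScod) }
    have hiD' : i' = i + 1 - 2 * (restrict (cfgOf U S hne hUF hScod hdisj) r).dec.codim := by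
      rw [restrict_codim]; exact hiD
    have hnD' : n' = n - (restrict (cfgOf U S hne hUF hScod hdisj) r).dec.codim := by
      rw [restrict_codim]; exact hnD
    have hres0 : (T.res (restrict (cfgOf U S hne hUF hScod hdisj) r).dec M i n i' n' hiD'
        hnD').hom ((T.pull (resU₀ (cfgOf U S hne hUF hScod hdisj) r) M i n).hom
          ((T.pull (X.resLE hcompl hdC₀) M i n).hom a₀)) = 0 := by
      apply joint_inj T
        (fun y : ↥S => pc X (U ⊓ U₂) y.1)
        (restrict (cfgOf U S hne hUF hScod hdisj) r).kap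
        (restrict (cfgOf U S hne hUF hScod hdisj) r).kap_disj
        (restrict (cfgOf U S hne hUF hScod hdisj) r).kap_cover M i' n'
      intro y
      rw [pull_kap_res_restrict (cfgOf U S hne hUF hScod hdisj) r T y M i n i' n'
        hiD hnD hiD' hnD']
      have hle2 : ptOpen X y.1 (U ⊓ U₂) ≤ (Wc y).1 := by
        rw [← hWfun y]
        exact (ptOpen_mono (inf_le_right : U ⊓ U₂ ≤ U₂)).trans (hU₂ y.1 y.2)
      have hd2 : WeilCoh.dim ((ptOpen X y.1 (U ⊓ U₂) : (X.ptSub y.1).scheme.Opens) : Scheme.{u}) =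
          WeilCoh.dim ((Wc y).1 : Scheme.{u}) :=
        (dim_pc_restrict (cfgOf U S hne hUF hScod hdisj) r y).trans (hWd y).symm
      rw [← resLE_comp (X.ptSub y.1) hle2 (hWle y) hd2 (hWd y), pull_comp_apply, hWz y, map_zero]
    obtain ⟨b, hb⟩ := (T.exact_pull_res (restrict (cfgOf U S hne hUF hScod hdisj) r).dec M i n
      i' n' hiD' hnD' _).mp hres0
    refine ⟨((T.fjι X (j + 1) i n (fjMk X (j + 1) (U ⊓ U₂) hU'F)).app M).hom b, ?_⟩
    rw [fjRes_fjι_apply]
    have hU₀'F : ContainsFj X j (openCompl X (U ⊓ U₂) S) := containsFj_openCompl hU'F hScod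
    rw [← fjι_resLE_apply T X j M i n (openCompl X U S) (openCompl X (U ⊓ U₂) S)
      hU₀F hU₀'F (openCompl_mono X S inf_le_left)
      (dimU₀_restrict (cfgOf U S hne hUF hScod hdisj) r)]
    rw [← fjι_resLE_apply T X j M i n (U ⊓ U₂) (openCompl X (U ⊓ U₂) S)
      (containsFj_mono X (Nat.le_succ j) _ hU'F) hU₀'F (openCompl_le X _ _)
      (restrict (cfgOf U S hne hUF hScod hdisj) r).dimU₀']
    exact congrArg _ hb

/-- The kernel lemma: a class of `H^{i'}(F_{j+1} X)` which dies in `H^{i'}(F_j X)` is represented, on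
some open `U' ⊇ F_{j+1} X`, by a sum of classes pushed forward from pieces of closures of finitely many
points of codimension `j + 1`. -/
theorem exists_sum_rep_of_fjRes_eq_zero (M : A.Cat) (i n i' n' : ℤ)
    (hi : i' = i + 2 * ((j : ℤ) + 1)) (hn : n' = n + ((j : ℤ) + 1))
    (α : T.fjGp X (j + 1) M i' n')
    (hα : ((T.fjRes X (Nat.le_succ j) i' n').app M).hom α = 0) :
    ∃ (U' : X.scheme.Opens) (hU'F : ContainsFj X (j + 1) U') (S : Finset X.scheme)
      (_ : ∀ y ∈ S, WeilCoh.codim X.scheme y = j + 1)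
      (c : ∀ y : ↥S, T.gp (pc X U' y.1) M i n),
      ∀ (hiy : ∀ y : ↥S, i' = i + 2 * relCodim (pc X U' y.1).scheme (X.res U').scheme)
        (hny : ∀ y : ↥S, n' = n + relCodim (pc X U' y.1).scheme (X.res U').scheme),
        α = ((T.fjι X (j + 1) i' n' (fjMk X (j + 1) U' hU'F)).app M).hom
          (∑ y : ↥S, (T.push (X := pc X U' y.1) (Y := X.res U') (pcι X U' y.1) M i n i' n'
            (hiy y) (hny y)).hom (c y)) := by
  classical
  obtain ⟨U₁, hU₁, β, rfl⟩ := fj_exists_rep T X (j + 1) M i' n' α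
  rw [fjRes_fjι_apply] at hα
  obtain ⟨U₀, hU₀, hle, hd, hβ⟩ := (fjι_eq_zero_iff T X j M i' n' U₁ _ β).mp hα
  obtain ⟨U, S, hUF, hScod, hdisj, hcompl⟩ := exists_cfg X j U₀ hU₀
  have hU'F : ContainsFj X (j + 1) (U ⊓ U₁) := containsFj_inf hUF hU₁
  have hdU₁ := dim_eq_of_containsFj X (j + 1) U₁ hU₁
  have hdU' : WeilCoh.dim ((U ⊓ U₁ : X.scheme.Opens) : Scheme.{u}) =
      WeilCoh.dim (U₁ : Scheme.{u}) :=
    (dim_eq_of_containsFj X (j + 1) _ hU'F).trans hdU₁.symm
  refine ⟨U ⊓ U₁, hU'F, S, hScod, ?_⟩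
  rw [← fjι_resLE_apply T X (j + 1) M i' n' U₁ (U ⊓ U₁) hU₁ hU'F inf_le_right hdU' β]
  have hvan : ∀ (O : X.scheme.Opens) (hO : O ≤ U ⊓ U₁) (hO₀ : O ≤ U₀)
      (hdO : WeilCoh.dim (O : Scheme.{u}) =
        WeilCoh.dim ((U ⊓ U₁ : X.scheme.Opens) : Scheme.{u})),
      (T.pull (X.resLE hO hdO) M i' n').hom
        ((T.pull (X.resLE (inf_le_right : U ⊓ U₁ ≤ U₁) hdU') M i' n').hom β) = 0 := by
    intro O hO hO₀ hdO
    have hdO₀ : WeilCoh.dim (O : Scheme.{u}) = WeilCoh.dim (U₀ : Scheme.{u}) :=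
      (hdO.trans hdU').trans hd.symm
    rw [← pull_comp_apply, resLE_comp, ← resLE_comp X hO₀ hle hdO₀ hd, pull_comp_apply, hβ,
      map_zero]
  by_cases hS : S = ∅
  · subst hS
    have h0 : (T.pull (X.resLE (inf_le_right : U ⊓ U₁ ≤ U₁) hdU') M i' n').hom β = 0 := by
      have hb := pull_resLE_bijective_of_eq T X (le_refl (U ⊓ U₁)) (le_refl _) rfl M i' n'
      apply hb.1
      rw [map_zero]
      exact hvan (U ⊓ U₁) (le_refl _)
        (((openCompl_empty X _).trans (openCompl_mono X ∅ inf_le_left)).trans hcompl) rfl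
    refine ⟨fun y => 0, fun hiy hny => ?_⟩
    rw [h0, Finset.sum_of_isEmpty]
  · have hne : S.Nonempty := Finset.nonempty_iff_ne_empty.mpr hS
    have hdisj' : PDisj X (U ⊓ U₁) S := hdisj.mono X inf_le_left
    have hrc : relCodim (cfgOf (U ⊓ U₁) S hne hU'F hScod hdisj').zobj.scheme
        (X.res (U ⊓ U₁)).scheme = (j : ℤ) + 1 :=
      cfgOf_relCodim (U ⊓ U₁) S hne hU'F hScod hdisj'
    have hi2 : i' = i + 2 * relCodim (cfgOf (U ⊓ U₁) S hne hU'F hScod hdisj').zobj.scheme
        (X.res (U ⊓ U₁)).scheme := by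
      rw [hrc]; exact hi
    have hn2 : n' = n + relCodim (cfgOf (U ⊓ U₁) S hne hU'F hScod hdisj').zobj.scheme
        (X.res (U ⊓ U₁)).scheme := by
      rw [hrc]; exact hn
    have hpull : (T.pull (cfgOf (U ⊓ U₁) S hne hU'F hScod hdisj').dec.j M i' n').hom
        ((T.pull (X.resLE (inf_le_right : U ⊓ U₁ ≤ U₁) hdU') M i' n').hom β) = 0 :=
      hvan (openCompl X (U ⊓ U₁) S) (openCompl_le X _ _)
        ((openCompl_mono X S inf_le_left).trans hcompl)
        (cfgOf (U ⊓ U₁) S hne hU'F hScod hdisj').dimU₀'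
    obtain ⟨c, hc⟩ := exists_sum_push T (cfgOf (U ⊓ U₁) S hne hU'F hScod hdisj')
      M i n i' n' hi2 hn2 _ hpull
    exact ⟨c, fun hiy hny => congrArg _ hc⟩

end

end Groth.Agent.Lib.Helper23.BMExt
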