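import Mathlib
import Groth.Prelude.Def_BMCoh3
import Groth.Agent.Lib.Helper23.BMExt

/-!
# Opens of an object as objects: comparison of codimensions and of nested opens (helper23)
-/

set_option autoImplicit false
universe u
open CategoryTheory CategoryTheory.Limits AlgebraicGeometry Opposite TopologicalSpace Topology

namespace Groth.Agent.Lib.Helper23.BMBig

open BMCoh BMObj BMColim BMObj2 BMPart BMGeom BMData

noncomputable section

variable {V : ObjectProperty Scheme.{u}} [BMCoh.IsConstructible V]

section Pdim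

variable (X : Obj V) (O : X.scheme.Opens)

/-- The closure of a point in an open has dimension at most that of its closure in the whole. -/
theorem pdim_open_le (u : ↥(O : Scheme.{u})) :
    WeilCoh.pdim (O : Scheme.{u}) u ≤ WeilCoh.pdim X.scheme (O.ι u) := by
  unfold WeilCoh.pdim
  have hmem : ∀ p : ↥(closure ({u} : Set ↥(O : Scheme.{u}))),
      O.ι p.1 ∈ closure ({O.ι u} : Set X.scheme) := by
    intro p
    have := image_closure_subset_closure_image O.ι.continuous (s := ({u} : Set ↥(O : Scheme.{u})))
      ⟨p.1, p.2, rfl⟩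
    rwa [Set.image_singleton] at this
  let g : ↥(closure ({u} : Set ↥(O : Scheme.{u}))) → ↥(closure ({O.ι u} : Set X.scheme)) :=
    fun p => ⟨O.ι p.1, hmem p⟩
  have hgc : Continuous g :=
    Continuous.subtype_mk (O.ι.continuous.comp continuous_subtype_val) _
  have hind : IsInducing g := by
    apply IsInducing.of_comp hgc continuous_subtype_val
    exact O.ι.isOpenEmbedding.isInducing.comp IsInducing.subtypeVal
  have hfin : topologicalKrullDim ↥(closure ({O.ι u} : Set X.scheme)) < ⊤ :=
    BMTop.topologicalKrullDim_lt_top_of_isInducing Subtype.val IsInducing.subtypeVal (finDim X)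
  exact BMTop.natDim_le_of_isInducing g hind hfin

/-- Codimension in the whole is at most the codimension in an open of the same dimension. -/
theorem codim_le_codim_open (hd : WeilCoh.dim (O : Scheme.{u}) = WeilCoh.dim X.scheme)
    (u : ↥(O : Scheme.{u})) :
    WeilCoh.codim X.scheme (O.ι u) ≤ WeilCoh.codim (O : Scheme.{u}) u := by
  unfold WeilCoh.codim
  rw [hd]
  exact Nat.sub_le_sub_left (pdim_open_le X O u) _

/-- The trace on `O` of an open containing `F_k X` contains `F_k O`. -/
theorem containsFj_preimage (hd : WeilCoh.dim (O : Scheme.{u}) = WeilCoh.dim X.scheme) (k : ℕ)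
    (O' : X.scheme.Opens) (hO' : ContainsFj X k O') :
    ContainsFj (X.res O) k (O.ι ⁻¹ᵁ O') := by
  intro u hu
  exact hO' (O.ι u) ((codim_le_codim_open X O hd u).trans hu)

end Pdim

section Nested

variable {R : Type u} [CommRing R] {A : BMCoh.Coefs R} (T : BMCoh.PreTheory V R A)
variable (X : Obj V) {O O' : X.scheme.Opens} (h : O' ≤ O)

/-- An open of an open, as an object, is isomorphic to the corresponding open of the whole. -/
def nestedHom : (X.res O).res (O.ι ⁻¹ᵁ O') ⟶ X.res O' :=
  ⟨(Scheme.Opens.isoOfLE h).hom, inferInstance, dim_eq_of_iso (Scheme.Opens.isoOfLE h)⟩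

theorem nestedHom_comp (hd : WeilCoh.dim (O' : Scheme.{u}) = WeilCoh.dim (O : Scheme.{u})) :
    nestedHom X h ≫ X.resLE h hd =
      (X.res O).resι (O.ι ⁻¹ᵁ O') ((dim_eq_of_iso (Scheme.Opens.isoOfLE h)).trans hd) := by
  apply Hom.ext
  change (Scheme.Opens.isoOfLE h).hom ≫ X.scheme.homOfLE h = (O.ι ⁻¹ᵁ O').ι
  rw [← cancel_mono O.ι, Category.assoc, Scheme.homOfLE_ι, Scheme.Opens.isoOfLE_hom_ι]

/-- If a class on `O` dies on `O' ≤ O`, it dies on the trace of `O'` on `O`. -/
theorem pull_resι_preimage_eq_zero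
    (hd : WeilCoh.dim (O' : Scheme.{u}) = WeilCoh.dim (O : Scheme.{u})) (M : A.Cat) (i n : ℤ)
    (c : T.gp (X.res O) M i n) (hc : (T.pull (X.resLE h hd) M i n).hom c = 0) :
    (T.pull ((X.res O).resι (O.ι ⁻¹ᵁ O') ((dim_eq_of_iso (Scheme.Opens.isoOfLE h)).trans hd))
      M i n).hom c = 0 := by
  rw [← nestedHom_comp X h hd, pull_comp_apply, hc, map_zero]

end Nested

end

end Groth.Agent.Lib.Helper23.BMBig
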