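import Mathlib

/-!
# A closed surjective continuous map does not raise the Krull dimension (helper23)
-/

set_option autoImplicit false
open TopologicalSpace Topology

namespace Groth.Agent.Lib.Helper23.BMDimClosed

variable {S T : Type*} [TopologicalSpace S] [TopologicalSpace T]

theorem image_closure_singleton (g : S → T) (hc : Continuous g) (hcl : IsClosedMap g) (a : S) :
    g '' closure {a} = closure {g a} :=
  (specializingMap_iff_closure_singleton hc).mp hcl.specializingMap a

theorem exists_ltSeries_lift [QuasiSober T] (g : S → T) (hc : Continuous g) (hcl : IsClosedMap g)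
    (hs : Function.Surjective g) :
    ∀ (n : ℕ) (p : LTSeries (IrreducibleCloseds T)), p.length = n →
      ∃ q : LTSeries (IrreducibleCloseds S), q.length = n ∧
        g '' (q.head : Set S) = (p.head : Set T) := by
  intro n
  induction n with
  | zero =>
    intro p hp
    obtain ⟨b, hb⟩ := QuasiSober.sober p.head.isIrreducible' p.head.isClosed'
    obtain ⟨a, rfl⟩ := hs b
    refine ⟨RelSeries.singleton _ ⟨closure {a}, isIrreducible_singleton.closure, isClosed_closure⟩,
      rfl, ?_⟩
    change g '' closure {a} = _
    rw [image_closure_singleton g hc hcl a]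
    exact hb
  | succ n ih =>
    intro p hp
    have hne : p.length ≠ 0 := by omega
    obtain ⟨q', hq'l, hq'h⟩ := ih (p.tail hne) (by simp [hp])
    have hlt : p.head < (p.tail hne).head := by
      rw [RelSeries.head_tail]
      apply p.strictMono
      rw [Fin.lt_def, Fin.val_zero, Fin.val_one', Nat.mod_eq_of_lt (by omega)]
      omega
    obtain ⟨b, hb⟩ := QuasiSober.sober p.head.isIrreducible' p.head.isClosed'
    have hbmem : b ∈ (p.head : Set T) := by
      have h0 : b ∈ closure ({b} : Set T) := subset_closure rfl
      rw [hb.def] at h0
      exact h0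
    have hb' : b ∈ g '' (q'.head : Set S) := by
      rw [hq'h]
      exact (le_of_lt hlt) hbmem
    obtain ⟨a, haq, rfl⟩ := hb'
    have himg : g '' closure {a} = (p.head : Set T) := by
      rw [image_closure_singleton g hc hcl a]; exact hb
    let q₀ : IrreducibleCloseds S := ⟨closure {a}, isIrreducible_singleton.closure, isClosed_closure⟩
    have hle : q₀ ≤ q'.head := by
      change closure {a} ⊆ (q'.head : Set S)
      exact closure_minimal (Set.singleton_subset_iff.mpr haq) q'.head.isClosed'
    have hne' : q₀ ≠ q'.head := by
      intro h
      have h1 : g '' (q₀ : Set S) = g '' (q'.head : Set S) := by rw [h]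
      rw [hq'h] at h1
      have h2 : (p.head : Set T) = ((p.tail hne).head : Set T) := himg.symm.trans h1
      exact (ne_of_lt hlt) (SetLike.coe_injective h2)
    refine ⟨q'.cons q₀ (lt_of_le_of_ne hle hne'), by simp [hq'l], ?_⟩
    rw [RelSeries.head_cons]
    exact himg

/-- A closed surjective continuous map onto a quasi-sober space does not raise the dimension. -/
theorem topologicalKrullDim_le_of_isClosedMap [QuasiSober T] (g : S → T) (hc : Continuous g)
    (hcl : IsClosedMap g) (hs : Function.Surjective g) :
    topologicalKrullDim T ≤ topologicalKrullDim S := by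
  unfold topologicalKrullDim Order.krullDim
  refine iSup_le fun p => ?_
  obtain ⟨q, hq, -⟩ := exists_ltSeries_lift g hc hcl hs p.length p rfl
  rw [← hq]
  exact le_iSup (fun q : LTSeries (IrreducibleCloseds S) => (q.length : WithBot ℕ∞)) q

end Groth.Agent.Lib.Helper23.BMDimClosed
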