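import Mathlib
import Groth.Prelude.Def_BMCoh4
import Groth.Agent.Lib.Helper23.BMDimClosed
import Groth.Agent.Lib.Helper23.BMData

/-!
# The map between reduced closures of points induced by a proper morphism (helper23)
-/

set_option autoImplicit false
universe u
open CategoryTheory AlgebraicGeometry Opposite TopologicalSpace Topology

namespace Groth.Agent.Lib.Helper23.BMPtMap

open BMCoh Groth.Agent.Lib.Helper23.BMObj Groth.Agent.Lib.Helper23.BMColim
  Groth.Agent.Lib.Helper23.BMDimClosed Groth.Agent.Lib.Helper23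

section Top

variable {S T : Type*} [TopologicalSpace S] [TopologicalSpace T]

/-- For a closed continuous map the closure of the image of a point has at most the dimension of
the closure of the point. -/
theorem topologicalKrullDim_closure_le [QuasiSober T] (g : S → T) (hc : Continuous g)
    (hcl : IsClosedMap g) (a : S) :
    topologicalKrullDim ↥(closure ({g a} : Set T)) ≤ topologicalKrullDim ↥(closure ({a} : Set S)) := by
  have himg := image_closure_singleton g hc hcl a
  have hmaps : ∀ s : ↥(closure ({a} : Set S)), g s.1 ∈ closure ({g a} : Set T) := by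
    intro s
    rw [← himg]
    exact ⟨s.1, s.2, rfl⟩
  let h : ↥(closure ({a} : Set S)) → ↥(closure ({g a} : Set T)) := fun s => ⟨g s.1, hmaps s⟩
  have hhc : Continuous h := (hc.comp continuous_subtype_val).subtype_mk _
  have hhcl : IsClosedMap h := by
    intro C hC
    have h1 : IsClosed (g '' (Subtype.val '' C)) :=
      hcl _ ((isClosed_closure.isClosedEmbedding_subtypeVal).isClosedMap _ hC)
    have h2 : h '' C = Subtype.val ⁻¹' (g '' (Subtype.val '' C)) := by
      ext t
      constructor
      · rintro ⟨s, hs, rfl⟩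
        exact ⟨s.1, ⟨s, hs, rfl⟩, rfl⟩
      · rintro ⟨_, ⟨s, hs, rfl⟩, hst⟩
        exact ⟨s, hs, Subtype.ext hst⟩
    rw [h2]
    exact h1.preimage continuous_subtype_val
  have hhs : Function.Surjective h := by
    rintro ⟨t, ht⟩
    rw [← himg] at ht
    obtain ⟨s, hs, rfl⟩ := ht
    exact ⟨⟨s, hs⟩, rfl⟩
  haveI : QuasiSober ↥(closure ({g a} : Set T)) :=
    (isClosed_closure.isClosedEmbedding_subtypeVal).quasiSober
  exact topologicalKrullDim_le_of_isClosedMap h hhc hhcl hhs

end Top

variable {V : ObjectProperty Scheme.{u}} [BMCoh.IsConstructible V]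

section Pdim

variable (Y X : Obj V) (φ : Y.scheme ⟶ X.scheme) [IsProper φ]

theorem pdim_map_le (z : Y.scheme) : WeilCoh.pdim X.scheme (φ.base z) ≤ WeilCoh.pdim Y.scheme z := by
  unfold WeilCoh.pdim WeilCoh.natDim
  refine BMTop.toNat_unbotD_le
    (topologicalKrullDim_closure_le φ.base φ.continuous φ.isClosedMap z) ?_
  exact BMTop.topologicalKrullDim_lt_top_of_isInducing Subtype.val IsInducing.subtypeVal (finDim Y)

end Pdim

section PtMap

variable (Y X : Obj V) (φ : Y.scheme ⟶ X.scheme) (y : Y.scheme) (x : X.scheme)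
  (hyx : φ.base y = x)

include hyx in
theorem ptIdeal_le : X.ptIdeal x ≤ (Y.ptIdeal y).map φ := by
  rw [Scheme.IdealSheafData.map_vanishingIdeal]
  apply Scheme.IdealSheafData.vanishingIdeal_antimono
  rw [TopologicalSpace.Closeds.closure_le]
  change φ.base '' closure {y} ⊆ closure {x}
  rw [← hyx]
  exact image_closure_subset_closure_image φ.continuous |>.trans (by rw [Set.image_singleton])

/-- The morphism between the reduced closures of `y` and of `x = φ y` induced by `φ`. -/
noncomputable def ptMap : (Y.ptSub y).scheme ⟶ (X.ptSub x).scheme :=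
  Scheme.IdealSheafData.subschemeMap (Y.ptIdeal y) (X.ptIdeal x) φ (ptIdeal_le Y X φ y x hyx)

@[reassoc]
theorem ptMap_fac : ptMap Y X φ y x hyx ≫ X.ptSubι x = Y.ptSubι y ≫ φ :=
  Scheme.IdealSheafData.subschemeMap_subschemeι _ _ _ _

instance [IsProper φ] : IsProper (ptMap Y X φ y x hyx) := by
  haveI : IsProper (ptMap Y X φ y x hyx ≫ X.ptSubι x) := by
    rw [ptMap_fac]; infer_instance
  exact IsProper.of_comp (ptMap Y X φ y x hyx) (X.ptSubι x)

theorem ptSubι_injective : Function.Injective (X.ptSubι x).base :=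
  (X.ptSubι x).isClosedEmbedding.injective

theorem ptMap_genericPoint :
    (ptMap Y X φ y x hyx).base (genericPoint (Y.ptSub y).scheme) = genericPoint (X.ptSub x).scheme := by
  apply ptSubι_injective X x
  rw [ptSubι_genericPoint]
  have h := congrArg (fun f => f.base (genericPoint (Y.ptSub y).scheme)) (ptMap_fac Y X φ y x hyx)
  simp only [Scheme.Hom.comp_base, TopCat.hom_comp, ContinuousMap.comp_apply] at h
  rw [h, ptSubι_genericPoint]
  exact hyx

variable [IsProper φ]
  (hd : relCodim (Y.ptSub y).scheme (X.ptSub x).scheme = 0)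

include hd in
/-- When the two closures have the same dimension only the generic point maps to the generic
point. -/
theorem eq_genericPoint_of_ptMap_eq (z : (Y.ptSub y).scheme)
    (hz : (ptMap Y X φ y x hyx).base z = genericPoint (X.ptSub x).scheme) :
    z = genericPoint (Y.ptSub y).scheme := by
  by_contra hne
  set z' : Y.scheme := (Y.ptSubι y).base z with hz'
  have hφz : φ.base z' = x := by
    have h := congrArg (fun f => f.base z) (ptMap_fac Y X φ y x hyx)
    simp only [Scheme.Hom.comp_base, TopCat.hom_comp, ContinuousMap.comp_apply] at h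
    rw [hz', ← h, hz, ptSubι_genericPoint]
  have hspec : y ⤳ z' := by
    have h1 : genericPoint (Y.ptSub y).scheme ⤳ z := genericPoint_specializes z
    have h2 := h1.map (Y.ptSubι y).continuous
    rwa [ptSubι_genericPoint] at h2
  have hne' : z' ≠ y := by
    intro h
    apply hne
    apply ptSubι_injective Y y
    rw [ptSubι_genericPoint]
    exact h
  have h1 := BMTop.pdim_lt_of_specializes Y.scheme (finDim Y) hspec hne'
  have h2 := pdim_map_le Y X φ z'
  rw [hφz] at h2
  have h3 : WeilCoh.dim (X.ptSub x).scheme = WeilCoh.dim (Y.ptSub y).scheme := by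
    unfold relCodim at hd
    omega
  rw [dim_ptSub, dim_ptSub] at h3
  omega

include hyx hd in
/-- Every nonempty open of the reduced closure of `y` contains the preimage of a nonempty open of
the reduced closure of `x`, and the restriction of the induced map is a proper morphism compatible
with `φ`. -/
theorem exists_piece (W : ptIdx Y y) :
    ∃ (W₀ : ptIdx Y y) (W'₀ : ptIdx X x) (_ : W₀.1 ≤ W.1)
      (f : ((Y.ptSub y).res W₀.1).scheme ⟶ ((X.ptSub x).res W'₀.1).scheme) (_ : IsProper f),
      f ≫ W'₀.1.ι ≫ X.ptSubι x = W₀.1.ι ≫ Y.ptSubι y ≫ φ := by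
  set ψ := ptMap Y X φ y x hyx with hψ
  have hfac : ψ ≫ X.ptSubι x = Y.ptSubι y ≫ φ := ptMap_fac Y X φ y x hyx
  have hcl : IsClosed (ψ.base '' ((W.1 : Set (Y.ptSub y).scheme)ᶜ)) :=
    ψ.isClosedMap _ W.1.2.isClosed_compl
  let W' : (X.ptSub x).scheme.Opens := ⟨(ψ.base '' ((W.1 : Set (Y.ptSub y).scheme)ᶜ))ᶜ, hcl.isOpen_compl⟩
  have hgx : genericPoint (X.ptSub x).scheme ∈ W' := by
    rintro ⟨z, hzW, hz⟩
    have := eq_genericPoint_of_ptMap_eq Y X φ y x hyx hd z hz
    rw [this] at hzW
    exact hzW (genericPoint_mem_of_nonempty Y y W.1 W.2.1)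
  have hgy : genericPoint (Y.ptSub y).scheme ∈ ψ ⁻¹ᵁ W' := by
    change ψ.base (genericPoint (Y.ptSub y).scheme) ∈ W'
    rw [hψ, ptMap_genericPoint]
    exact hgx
  have hle : ψ ⁻¹ᵁ W' ≤ W.1 := by
    intro a ha
    by_contra hna
    exact ha ⟨a, hna, rfl⟩
  refine ⟨ptMk Y y (ψ ⁻¹ᵁ W') ⟨_, hgy⟩, ptMk X x W' ⟨_, hgx⟩, hle, ψ ∣_ W', inferInstance, ?_⟩
  rw [← Category.assoc, morphismRestrict_ι, Category.assoc, hfac]

end PtMap

end Groth.Agent.Lib.Helper23.BMPtMap
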