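import Mathlib
import Groth.Prelude.Def_BMCoh4
import Groth.Agent.Lib.Helper23.BMPtMap

/-!
# Dimension of closures of points under finite morphisms (helper23)
-/

set_option autoImplicit false
universe u
open CategoryTheory AlgebraicGeometry Opposite TopologicalSpace Topology

namespace Groth.Agent.Lib.Helper23.BMFin

open BMCoh Groth.Agent.Lib.Helper23.BMObj Groth.Agent.Lib.Helper23.BMPtMap Groth.Agent.Lib.Helper23

section Top

variable {S T : Type*} [TopologicalSpace S] [TopologicalSpace T]

theorem eq_of_specializes_of_isDiscrete {F : Set S} (hF : IsDiscrete F) {a b : S} (ha : a ∈ F)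
    (hb : b ∈ F) (h : a ⤳ b) : a = b := by
  haveI : DiscreteTopology ↥F := hF.to_subtype
  have h' : (⟨a, ha⟩ : ↥F) ⤳ ⟨b, hb⟩ := (IsInducing.subtypeVal.specializes_iff).mp h
  exact congrArg Subtype.val h'.eq

/-- A continuous map from a quasi-sober space to a T0 space without proper specializations inside
its fibres does not lower the dimension. -/
theorem topologicalKrullDim_le_of_no_spec [QuasiSober S] [T0Space T] (f : S → T)
    (hc : Continuous f) (hfib : ∀ a b : S, a ⤳ b → f a = f b → a = b) :
    topologicalKrullDim S ≤ topologicalKrullDim T := by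
  let g : IrreducibleCloseds S → IrreducibleCloseds T := fun C =>
    ⟨closure (f '' (C : Set S)), (C.isIrreducible'.image f hc.continuousOn).closure,
      isClosed_closure⟩
  have hmono : Monotone g := fun C C' h => by
    change closure (f '' (C : Set S)) ⊆ closure (f '' (C' : Set S))
    exact closure_mono (Set.image_mono h)
  have hg : StrictMono g := by
    intro C C' hlt
    refine lt_of_le_of_ne (hmono hlt.le) ?_
    intro heq
    obtain ⟨c, hc1⟩ := QuasiSober.sober C.isIrreducible' C.isClosed'
    obtain ⟨c', hc1'⟩ := QuasiSober.sober C'.isIrreducible' C'.isClosed'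
    have e1 : closure (f '' (C : Set S)) = closure {f c} := by
      have : (C : Set S) = closure {c} := hc1.def.symm
      rw [this, closure_image_closure hc, Set.image_singleton]
    have e2 : closure (f '' (C' : Set S)) = closure {f c'} := by
      have : (C' : Set S) = closure {c'} := hc1'.def.symm
      rw [this, closure_image_closure hc, Set.image_singleton]
    have heq' : closure (f '' (C : Set S)) = closure (f '' (C' : Set S)) :=
      congrArg (fun D : IrreducibleCloseds T => (D : Set T)) heq
    rw [e1, e2] at heq'
    have hfc : f c' = f c := ((inseparable_iff_closure_eq.mpr heq').eq).symm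
    have hcC' : c ∈ (C' : Set S) := hlt.le (by
      have h0 : c ∈ closure ({c} : Set S) := subset_closure rfl
      rw [hc1.def] at h0
      exact h0)
    have hspec : c' ⤳ c := by
      rw [specializes_iff_mem_closure, hc1'.def]
      exact hcC'
    have hcc : c' = c := hfib c' c hspec hfc
    have : (C : Set S) = (C' : Set S) := by
      have h1 : (C : Set S) = closure {c} := hc1.def.symm
      have h2 : (C' : Set S) = closure {c'} := hc1'.def.symm
      rw [h1, h2, hcc]
    exact (ne_of_lt hlt) (SetLike.coe_injective this)
  exact Order.krullDim_le_of_strictMono g hg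

theorem topologicalKrullDim_closure_le_of_no_spec [QuasiSober S] [T0Space T] (f : S → T)
    (hc : Continuous f) (hfib : ∀ a b : S, a ⤳ b → f a = f b → a = b) (y : S) :
    topologicalKrullDim ↥(closure ({y} : Set S)) ≤ topologicalKrullDim ↥(closure ({f y} : Set T)) := by
  have hmaps : ∀ s : ↥(closure ({y} : Set S)), f s.1 ∈ closure ({f y} : Set T) := by
    intro s
    have h1 : f s.1 ∈ f '' closure ({y} : Set S) := ⟨s.1, s.2, rfl⟩
    have h2 := image_closure_subset_closure_image hc h1
    rwa [Set.image_singleton] at h2
  let h : ↥(closure ({y} : Set S)) → ↥(closure ({f y} : Set T)) := fun s => ⟨f s.1, hmaps s⟩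
  have hhc : Continuous h := (hc.comp continuous_subtype_val).subtype_mk _
  haveI : QuasiSober ↥(closure ({y} : Set S)) :=
    (isClosed_closure.isClosedEmbedding_subtypeVal).quasiSober
  refine topologicalKrullDim_le_of_no_spec h hhc ?_
  intro a b hab hfab
  apply Subtype.ext
  exact hfib a.1 b.1 (hab.map continuous_subtype_val) (congrArg Subtype.val hfab)

end Top

variable {V : ObjectProperty Scheme.{u}} [BMCoh.IsConstructible V]

section Fin

variable (Y X : Obj V) (φ : Y.scheme ⟶ X.scheme) [IsFinite φ]

theorem eq_of_specializes_of_map_eq {a b : Y.scheme} (h : a ⤳ b) (hab : φ.base a = φ.base b) :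
    a = b :=
  eq_of_specializes_of_isDiscrete (φ.isDiscrete_preimage_singleton (φ.base b))
    (by simpa using hab) (by simp) h

theorem pdim_le_map (z : Y.scheme) : WeilCoh.pdim Y.scheme z ≤ WeilCoh.pdim X.scheme (φ.base z) := by
  unfold WeilCoh.pdim WeilCoh.natDim
  refine BMTop.toNat_unbotD_le
    (topologicalKrullDim_closure_le_of_no_spec φ.base φ.continuous
      (fun a b h hab => eq_of_specializes_of_map_eq Y X φ h hab) z) ?_
  exact BMTop.topologicalKrullDim_lt_top_of_isInducing Subtype.val IsInducing.subtypeVal (finDim X)

theorem pdim_map_eq (z : Y.scheme) : WeilCoh.pdim X.scheme (φ.base z) = WeilCoh.pdim Y.scheme z :=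
  le_antisymm (pdim_map_le Y X φ z) (pdim_le_map Y X φ z)

theorem finite_fibre (x : X.scheme) : (φ.base ⁻¹' {x}).Finite :=
  φ.finite_preimage_singleton x

end Fin

end Groth.Agent.Lib.Helper23.BMFin
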