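import Mathlib
import Groth.Prelude.Def_BMCoh4
import Groth.Agent.Lib.Helper23.BMFin
import Groth.Agent.Lib.Helper7.RedLib

/-!
# Points of every dimension; reduced closed subschemes as objects (helper23)
-/

set_option autoImplicit false
universe u
open CategoryTheory AlgebraicGeometry Opposite TopologicalSpace Topology

namespace Groth.Agent.Lib.Helper23.BMCl1

open BMCoh Groth.Agent.Lib.Helper23.BMObj Groth.Agent.Lib.Helper23

section Arith

theorem strictMono_fin_add {n : ℕ} (f : Fin (n + 1) → ℕ) (hf : StrictMono f) :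
    ∀ (d : ℕ) (a b : Fin (n + 1)), (a : ℕ) + d = (b : ℕ) → f a + d ≤ f b := by
  intro d
  induction d with
  | zero =>
    intro a b hab
    have : a = b := Fin.ext (by omega)
    subst this
    omega
  | succ d ih =>
    intro a b hab
    have hb : (a : ℕ) + d < n + 1 := by have := b.2; omega
    have h1 := ih a ⟨(a : ℕ) + d, hb⟩ rfl
    have h2 : f ⟨(a : ℕ) + d, hb⟩ < f b := hf (by
      rw [Fin.lt_def]
      simp only
      omega)
    omega

theorem strictMono_fin_eq {n : ℕ} (f : Fin (n + 1) → ℕ) (hf : StrictMono f)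
    (hle : ∀ a, f a ≤ n) (a : Fin (n + 1)) : f a = a := by
  have h1 := strictMono_fin_add f hf (a : ℕ) ⟨0, Nat.succ_pos n⟩ a (by simp)
  have h2 := strictMono_fin_add f hf (n - (a : ℕ)) a (Fin.last n) (by
    have := a.2
    simp only [Fin.val_last]
    omega)
  have h3 := hle (Fin.last n)
  have := a.2
  omega

end Arith

section Top

variable (X : Scheme.{u})

theorem krullDim_eq_natDim (hfin : topologicalKrullDim X < ⊤) [Nonempty X] :
    topologicalKrullDim X = ((WeilCoh.dim X : ℕ) : WithBot ℕ∞) := by
  have h0 := Groth.Agent.Lib.Helper9.topologicalKrullDim_nonneg_of_nonempty (X := X)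
  unfold WeilCoh.dim WeilCoh.natDim
  generalize topologicalKrullDim X = a at *
  rcases a with _ | a
  · exact absurd h0 (not_le.mpr (WithBot.bot_lt_coe (0 : ℕ∞)))
  · have ha : a ≠ ⊤ := by
      rintro rfl
      exact lt_irrefl _ hfin
    lift a to ℕ using ha
    change ((a : ℕ∞) : WithBot ℕ∞) = ((ENat.toNat (a : ℕ∞) : ℕ) : WithBot ℕ∞)
    rw [ENat.toNat_natCast]
    rfl

/-- On a scheme of finite dimension there are points of every dimension up to the dimension. -/
theorem exists_pdim_eq (hfin : topologicalKrullDim X < ⊤) [Nonempty X] (k : ℕ)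
    (hk : k ≤ WeilCoh.dim X) : ∃ x : X, WeilCoh.pdim X x = k := by
  have h1 : ((WeilCoh.dim X : ℕ) : WithBot ℕ∞) ≤ topologicalKrullDim X :=
    le_of_eq (krullDim_eq_natDim X hfin).symm
  obtain ⟨p, hp⟩ := Order.le_krullDim_iff.mp h1
  have hgen : ∀ i : Fin (p.length + 1), ∃ x : X, IsGenericPoint x (p i : Set X) := fun i =>
    QuasiSober.sober (p i).isIrreducible' (p i).isClosed'
  choose g hg using hgen
  have hmono : StrictMono (fun i : Fin (p.length + 1) => WeilCoh.pdim X (g i)) := by
    intro a b hab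
    have hlt : p a < p b := p.strictMono hab
    have hsub : (p a : Set X) ⊆ (p b : Set X) := hlt.le
    have hmem : g a ∈ (p b : Set X) := hsub (by
      have h0 : g a ∈ closure ({g a} : Set X) := subset_closure rfl
      rw [(hg a).def] at h0
      exact h0)
    have hspec : g b ⤳ g a := by
      rw [specializes_iff_mem_closure, (hg b).def]
      exact hmem
    have hne : g a ≠ g b := by
      intro h
      have : (p a : Set X) = (p b : Set X) := by
        rw [← (hg a).def, ← (hg b).def, h]
      exact hlt.ne (IrreducibleCloseds.ext this)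
    exact BMTop.pdim_lt_of_specializes X hfin hspec hne
  have hle : ∀ a : Fin (p.length + 1), WeilCoh.pdim X (g a) ≤ p.length := fun a => by
    rw [hp]
    exact BMTop.pdim_le_dim X hfin (g a)
  have hk' : k < p.length + 1 := by omega
  exact ⟨g ⟨k, hk'⟩, strictMono_fin_eq _ hmono hle ⟨k, hk'⟩⟩

end Top

variable {V : ObjectProperty Scheme.{u}} [BMCoh.IsConstructible V]

section ClObj

variable (X : Obj V) (F : Closeds X.scheme)

/-- The ideal sheaf of a closed subset. -/
noncomputable abbrev clIdeal : X.scheme.IdealSheafData :=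
  Scheme.IdealSheafData.vanishingIdeal (X := X.scheme) F

/-- A closed subset with its reduced structure, as an object. -/
noncomputable abbrev clObj : Obj V :=
  ⟨(clIdeal X F).subscheme,
    IsConstructible.of_isClosedImmersion (clIdeal X F).subschemeι
      (h := (inferInstance : IsClosedImmersion (clIdeal X F).subschemeι)) X.mem⟩

/-- Its closed immersion. -/
noncomputable abbrev clObjι : (clObj X F).scheme ⟶ X.scheme := (clIdeal X F).subschemeι

theorem range_clObjι : Set.range (clObjι X F) = (F : Set X.scheme) := by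
  refine (Scheme.IdealSheafData.range_subschemeι (clIdeal X F)).trans ?_
  exact Scheme.IdealSheafData.coe_support_vanishingIdeal _

instance : IsReduced (clObj X F).scheme :=
  Groth.Agent.Lib.Helper7.isReduced_vanishingIdeal_subscheme F

end ClObj

section ClImm

variable (Z X : Obj V) (ι : Z.scheme ⟶ X.scheme) [IsClosedImmersion ι]

theorem pdim_clImm (z : Z.scheme) : WeilCoh.pdim X.scheme (ι.base z) = WeilCoh.pdim Z.scheme z :=
  BMFin.pdim_map_eq Z X ι z

/-- The dimension of the source of a closed immersion is bounded by the dimensions of the points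
of its image. -/
theorem dim_le_of_clImm (k : ℕ) (h : ∀ z : Z.scheme, WeilCoh.pdim X.scheme (ι.base z) ≤ k) :
    WeilCoh.dim Z.scheme ≤ k := by
  rcases isEmpty_or_nonempty Z.scheme with he | hne
  · have : WeilCoh.dim Z.scheme = 0 := BMTop.natDim_eq_zero_of_isEmpty
    omega
  · haveI := isNoetherian Z
    obtain ⟨z, hz⟩ := BMTop.exists_pdim_eq_dim Z.scheme
    rw [← hz, ← pdim_clImm Z X ι z]
    exact h z

theorem pdim_le_dim_clImm (z : Z.scheme) :
    WeilCoh.pdim X.scheme (ι.base z) ≤ WeilCoh.dim Z.scheme := by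
  rw [pdim_clImm Z X ι z]
  exact pdim_le_dim Z z

variable (c : ℕ) (hdim : WeilCoh.dim Z.scheme + c = WeilCoh.dim X.scheme)

include hdim in
theorem codim_clImm (z : Z.scheme) :
    WeilCoh.codim X.scheme (ι.base z) = c + WeilCoh.codim Z.scheme z := by
  unfold WeilCoh.codim
  rw [pdim_clImm Z X ι z]
  have := pdim_le_dim Z z
  omega

include hdim in
theorem containsFj_preimage (m : ℕ) (U : X.scheme.Opens) (hU : ContainsFj X (c + m) U) :
    ContainsFj Z m (ι ⁻¹ᵁ U) := by
  intro z hz
  change ι.base z ∈ U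
  apply hU
  rw [codim_clImm Z X ι c hdim z]
  omega

/-- The open of `X` whose complement is the image of the complement of `W`. -/
def clOpen (W : Z.scheme.Opens) : X.scheme.Opens :=
  ⟨(ι.base '' (W : Set Z.scheme)ᶜ)ᶜ,
    (ι.isClosedEmbedding.isClosedMap _ W.isOpen.isClosed_compl).isOpen_compl⟩

theorem mem_clOpen (W : Z.scheme.Opens) (x : X.scheme) :
    x ∈ clOpen Z X ι W ↔ ∀ z : Z.scheme, ι.base z = x → z ∈ W := by
  change x ∈ (ι.base '' (W : Set Z.scheme)ᶜ)ᶜ ↔ _
  simp only [Set.mem_compl_iff, Set.mem_image, not_exists, not_and]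
  constructor
  · intro h z hz
    by_contra hzW
    exact h z hzW hz
  · intro h z hzW hz
    exact hzW (h z hz)

theorem preimage_clOpen_le (W : Z.scheme.Opens) : ι ⁻¹ᵁ (clOpen Z X ι W) ≤ W := by
  intro z hz
  exact (mem_clOpen Z X ι W (ι.base z)).mp hz z rfl

theorem le_preimage_clOpen (W : Z.scheme.Opens) : W ≤ ι ⁻¹ᵁ (clOpen Z X ι W) := by
  intro z hz
  change ι.base z ∈ clOpen Z X ι W
  rw [mem_clOpen]
  intro z' hz'
  have : z' = z := ι.isClosedEmbedding.injective hz'
  rw [this]
  exact hz

include hdim in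
theorem containsFj_clOpen (m : ℕ) (W : Z.scheme.Opens) (hW : ContainsFj Z m W) :
    ContainsFj X (c + m) (clOpen Z X ι W) := by
  intro x hx
  rw [mem_clOpen]
  rintro z rfl
  apply hW
  rw [codim_clImm Z X ι c hdim z] at hx
  omega

/-- The open complement of the image. -/
def clCompl : X.scheme.Opens :=
  ⟨(Set.range ι.base)ᶜ, ι.isClosedEmbedding.isClosed_range.isOpen_compl⟩

theorem mem_clCompl (x : X.scheme) : x ∈ clCompl Z X ι ↔ x ∉ Set.range ι.base := Iff.rfl

theorem clCompl_le_clOpen (W : Z.scheme.Opens) : clCompl Z X ι ≤ clOpen Z X ι W := by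
  intro x hx
  rw [mem_clOpen]
  intro z hz
  exact absurd ⟨z, hz⟩ hx

include hdim in
theorem containsFj_clCompl (j : ℕ) (hj : j < c) : ContainsFj X j (clCompl Z X ι) := by
  intro x hx
  rw [mem_clCompl]
  rintro ⟨z, rfl⟩
  rw [codim_clImm Z X ι c hdim z] at hx
  omega

end ClImm

end Groth.Agent.Lib.Helper23.BMCl1
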