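import Mathlib
import Groth.Prelude.Def_BMCoh4
import Groth.Agent.Lib.Helper23.BMFin
import Groth.Agent.Lib.Helper23.BMGeom
import Groth.Agent.Lib.Helper23.BMRes2

/-!
# First differential lemma, step 2: geometry around a point of codimension `q + 1` (helper23)
-/

set_option autoImplicit false
universe u
open CategoryTheory AlgebraicGeometry Opposite TopologicalSpace Topology

namespace Groth.Agent.Lib.Helper23.BMFirst2

open BMCoh Groth.Agent.Lib.Helper23.BMObj Groth.Agent.Lib.Helper23.BMObj2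
  Groth.Agent.Lib.Helper23.BMMulti Groth.Agent.Lib.Helper23.BMGeom
  Groth.Agent.Lib.Helper23.BMDimClosed
  Groth.Agent.Lib.Helper23.BMFin Groth.Agent.Lib.Helper23

variable {V : ObjectProperty Scheme.{u}} [BMCoh.IsConstructible V]

section G1

variable (X : Obj V) (q : ℕ)

/-- Around a point `x` of codimension `q + 1` outside an open `U ⊇ F_q X`, and away from a closed
subset `B` of the closure of `x` not containing `x`, there is an open `U₁ ⊇ F_q X` containing `x`
whose part off the closure of `x` lies in `U`. -/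
theorem exists_nbhd (U : X.scheme.Opens) (hU : ContainsFj X q U) (x : X.cdPt (q + 1))
    (hxU : x.1 ∉ U) (B : Set X.scheme) (hB : IsClosed B) (hBx : B ⊆ closure ({x.1} : Set X.scheme))
    (hxB : x.1 ∉ B) :
    ∃ U₁ : X.scheme.Opens, ContainsFj X q U₁ ∧ x.1 ∈ U₁ ∧ openCompl X U₁ {x.1} ≤ U ∧
      ∀ p ∈ U₁, p ∉ B := by
  classical
  obtain ⟨U', S, hU'F, hS, hPD, hle⟩ := exists_cfg X q U hU
  have hxU' : x.1 ∈ U' := hU'F x.1 (by rw [x.2])
  have hxS : x.1 ∈ S := by
    by_contra hxS
    apply hxU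
    apply hle
    refine mem_openCompl.mpr ⟨hxU', fun y hy hxy => ?_⟩
    by_cases hxy' : x.1 = y
    · exact hxS (hxy' ▸ hy)
    · have := codim_lt_of_mem_closure X hxy hxy'
      rw [hS y hy, x.2] at this
      exact lt_irrefl _ this
  let C : Set X.scheme := (⋃ y ∈ S.erase x.1, closure ({y} : Set X.scheme)) ∪ B
  have hC : IsClosed C :=
    ((S.erase x.1).finite_toSet.isClosed_biUnion fun _ _ => isClosed_closure).union hB
  refine ⟨⟨(U' : Set X.scheme) ∩ Cᶜ, U'.2.inter hC.isOpen_compl⟩, ?_, ?_, ?_, ?_⟩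
  · intro p hp
    refine ⟨hU'F p (by omega), ?_⟩
    rintro (hp1 | hp2)
    · obtain ⟨y, hy, hpy⟩ := Set.mem_iUnion₂.mp hp1
      have := codim_le_of_mem_closure X hpy
      rw [hS y (Finset.mem_of_mem_erase hy)] at this
      omega
    · have := codim_le_of_mem_closure X (hBx hp2)
      rw [x.2] at this
      omega
  · refine ⟨hxU', ?_⟩
    rintro (hp1 | hp2)
    · obtain ⟨y, hy, hxy⟩ := Set.mem_iUnion₂.mp hp1
      have hyS := Finset.mem_of_mem_erase hy
      have hne : x.1 ≠ y := (Finset.ne_of_mem_erase hy).symm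
      exact hPD x.1 hxS y hyS hne x.1 hxU' (subset_closure rfl) hxy
    · exact hxB hp2
  · intro p hp
    obtain ⟨⟨hpU', hpC⟩, hpx⟩ := mem_openCompl.mp hp
    apply hle
    refine mem_openCompl.mpr ⟨hpU', fun y hy hpy => ?_⟩
    by_cases hyx : y = x.1
    · subst hyx
      exact hpx _ (Finset.mem_singleton_self _) hpy
    · exact hpC (Or.inl (Set.mem_iUnion₂.mpr ⟨y, Finset.mem_erase.mpr ⟨hyx, hy⟩, hpy⟩))
  · intro p hp hpB
    exact hp.2 (Or.inr hpB)

end G1

section G2

variable (Y X : Obj V) (φ : Y.scheme ⟶ X.scheme) [IsFinite φ] (x : X.scheme)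

/-- The fibre of a finite morphism over `x`, as a finite set. -/
noncomputable def fibre : Finset Y.scheme := (finite_fibre Y X φ x).toFinset

variable {Y X φ x}

theorem mem_fibre {y : Y.scheme} : y ∈ fibre Y X φ x ↔ φ.base y = x := by
  unfold fibre
  rw [Set.Finite.mem_toFinset]
  rfl

variable (Y X φ x)

theorem image_closure (y : Y.scheme) :
    φ.base '' closure ({y} : Set Y.scheme) = closure {φ.base y} :=
  image_closure_singleton φ.base φ.continuous φ.isClosedMap y

/-- The bad locus: images of the pairwise intersections of the closures of the points of the fibre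
and of the components of the preimage of the closure of `x` not dominating it. -/
theorem exists_bad :
    ∃ B : Set X.scheme, IsClosed B ∧ B ⊆ closure ({x} : Set X.scheme) ∧ x ∉ B ∧
      ∀ U₁ : X.scheme.Opens, (∀ p ∈ U₁, p ∉ B) →
        PDisj Y (φ ⁻¹ᵁ U₁) (fibre Y X φ x) ∧
        ∀ p ∈ φ ⁻¹ᵁ U₁, φ.base p ∈ closure ({x} : Set X.scheme) →
          ∃ y ∈ fibre Y X φ x, p ∈ closure ({y} : Set Y.scheme) := by
  classical
  haveI := isNoetherian Y
  obtain ⟨G, hG⟩ := exists_finset_points (α := Y.scheme)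
    (F := φ.base ⁻¹' closure ({x} : Set X.scheme)) (isClosed_closure.preimage φ.continuous)
  let Bd : Set X.scheme := ⋃ y ∈ fibre Y X φ x, ⋃ y' ∈ (fibre Y X φ x).filter (fun y' => y ≠ y'),
    φ.base '' (closure ({y} : Set Y.scheme) ∩ closure ({y'} : Set Y.scheme))
  let Be : Set X.scheme := ⋃ g ∈ G.filter (fun g => φ.base g ≠ x),
    φ.base '' closure ({g} : Set Y.scheme)
  have hBd : IsClosed Bd :=
    (Finset.finite_toSet _).isClosed_biUnion fun _ _ =>
      (Finset.finite_toSet _).isClosed_biUnion fun _ _ =>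
        φ.isClosedMap _ (isClosed_closure.inter isClosed_closure)
  have hBe : IsClosed Be :=
    (Finset.finite_toSet _).isClosed_biUnion fun _ _ => φ.isClosedMap _ isClosed_closure
  have hGmem : ∀ g ∈ G, φ.base g ∈ closure ({x} : Set X.scheme) := by
    intro g hg
    have : g ∈ φ.base ⁻¹' closure ({x} : Set X.scheme) := by
      rw [hG]
      exact Set.mem_biUnion hg (subset_closure rfl)
    exact this
  refine ⟨Bd ∪ Be, hBd.union hBe, ?_, ?_, ?_⟩
  · rintro p (hp | hp)
    · obtain ⟨y, hy, hp'⟩ := Set.mem_iUnion₂.mp hp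
      obtain ⟨y', -, ⟨z, ⟨hzy, -⟩, rfl⟩⟩ := Set.mem_iUnion₂.mp hp'
      have : φ.base z ∈ φ.base '' closure ({y} : Set Y.scheme) := ⟨z, hzy, rfl⟩
      rw [image_closure, mem_fibre.mp hy] at this
      exact this
    · obtain ⟨g, hg, ⟨z, hzg, rfl⟩⟩ := Set.mem_iUnion₂.mp hp
      have hgG := (Finset.mem_filter.mp hg).1
      have : φ.base z ∈ φ.base '' closure ({g} : Set Y.scheme) := ⟨z, hzg, rfl⟩
      rw [image_closure] at this
      exact closure_minimal (Set.singleton_subset_iff.mpr (hGmem g hgG)) isClosed_closure this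
  · rintro (hp | hp)
    · obtain ⟨y, hy, hp'⟩ := Set.mem_iUnion₂.mp hp
      obtain ⟨y', hy', ⟨z, ⟨hzy, hzy'⟩, hzx⟩⟩ := Set.mem_iUnion₂.mp hp'
      obtain ⟨hy'F, hne⟩ := Finset.mem_filter.mp hy'
      have h1 : y = z := eq_of_specializes_of_map_eq Y X φ
        (specializes_iff_mem_closure.mpr hzy) ((mem_fibre.mp hy).trans hzx.symm)
      have h2 : y' = z := eq_of_specializes_of_map_eq Y X φ
        (specializes_iff_mem_closure.mpr hzy') ((mem_fibre.mp hy'F).trans hzx.symm)
      exact hne (h1.trans h2.symm)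
    · obtain ⟨g, hg, hxg⟩ := Set.mem_iUnion₂.mp hp
      obtain ⟨hgG, hgx⟩ := Finset.mem_filter.mp hg
      rw [image_closure] at hxg
      have h1 : φ.base g ⤳ x := specializes_iff_mem_closure.mpr hxg
      have h2 : x ⤳ φ.base g := specializes_iff_mem_closure.mpr (hGmem g hgG)
      exact hgx (h1.antisymm h2).eq
  · intro U₁ hU₁
    constructor
    · intro y hy y' hy' hne p hp hpy hpy'
      have hpU₁ : φ.base p ∈ U₁ := hp
      apply hU₁ _ hpU₁
      left
      exact Set.mem_iUnion₂.mpr ⟨y, hy, Set.mem_iUnion₂.mpr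
        ⟨y', Finset.mem_filter.mpr ⟨hy', hne⟩, ⟨p, ⟨hpy, hpy'⟩, rfl⟩⟩⟩
    · intro p hp hpx
      have hpT : p ∈ φ.base ⁻¹' closure ({x} : Set X.scheme) := hpx
      rw [hG] at hpT
      obtain ⟨g, hg, hpg⟩ := Set.mem_iUnion₂.mp hpT
      by_cases hgx : φ.base g = x
      · exact ⟨g, mem_fibre.mpr hgx, hpg⟩
      · exfalso
        have hpU₁ : φ.base p ∈ U₁ := hp
        apply hU₁ _ hpU₁
        right
        exact Set.mem_iUnion₂.mpr ⟨g, Finset.mem_filter.mpr ⟨hg, hgx⟩, ⟨p, hpg, rfl⟩⟩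

end G2

end Groth.Agent.Lib.Helper23.BMFirst2
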