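import Mathlib
import Groth.Prelude.Def_BMCoh4
import Groth.Agent.Lib.Helper23.BMPtMap

/-!
# Push-forward data of groups of points along maps that are generically isomorphisms (helper23)
-/

set_option autoImplicit false
universe u
open CategoryTheory AlgebraicGeometry Opposite TopologicalSpace Topology

namespace Groth.Agent.Lib.Helper23.BMPtIso

open BMCoh Groth.Agent.Lib.Helper23.BMObj Groth.Agent.Lib.Helper23.BMColim
  Groth.Agent.Lib.Helper23.BMObj2 Groth.Agent.Lib.Helper23.BMPtMap Groth.Agent.Lib.Helper23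

variable {V : ObjectProperty Scheme.{u}} [BMCoh.IsConstructible V]
  {R : Type u} [CommRing R] {A : BMCoh.Coefs R} (T : BMCoh.PreTheory V R A)

section PushIso

theorem push_congr' {Y Z : Obj V} (f f' : Y.scheme ⟶ Z.scheme) [IsProper f] [IsProper f']
    (h : f = f') (M : A.Cat) (i n i' n' : ℤ)
    (hi : i' = i + 2 * relCodim Y.scheme Z.scheme) (hn : n' = n + relCodim Y.scheme Z.scheme) :
    T.push f M i n i' n' hi hn = T.push f' M i n i' n' hi hn := by
  subst h
  rfl

/-- Push-forward along an isomorphism of schemes is bijective. -/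
theorem push_bijective_of_isIso {X Y : Obj V} (f : X.scheme ⟶ Y.scheme) [IsIso f] (M : A.Cat)
    (i n : ℤ) (hi : i = i + 2 * relCodim X.scheme Y.scheme)
    (hn : n = n + relCodim X.scheme Y.scheme) :
    Function.Bijective (T.push f M i n i n hi hn).hom := by
  have h0 : relCodim X.scheme Y.scheme = 0 := by omega
  have h0' : relCodim Y.scheme X.scheme = 0 := by
    unfold relCodim at h0 ⊢; omega
  have hXX : relCodim X.scheme X.scheme = 0 := by unfold relCodim; omega
  have hYY : relCodim Y.scheme Y.scheme = 0 := by unfold relCodim; omega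
  have e1 : T.push f M i n i n hi hn ≫ T.push (inv f) M i n i n (by rw [h0']; ring)
      (by rw [h0']; ring) = 𝟙 _ := by
    rw [T.push_comp f (inv f) M i n i n i n hi hn (by rw [h0']; ring) (by rw [h0']; ring)
      (by rw [hXX]; ring) (by rw [hXX]; ring)]
    rw [push_congr' T (f ≫ inv f) (𝟙 X.scheme) (IsIso.hom_inv_id f)]
    exact T.push_id X M i n _ _
  have e2 : T.push (inv f) M i n i n (by rw [h0']; ring) (by rw [h0']; ring) ≫
      T.push f M i n i n hi hn = 𝟙 _ := by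
    rw [T.push_comp (inv f) f M i n i n i n (by rw [h0']; ring) (by rw [h0']; ring) hi hn
      (by rw [hYY]; ring) (by rw [hYY]; ring)]
    rw [push_congr' T (inv f ≫ f) (𝟙 Y.scheme) (IsIso.inv_hom_id f)]
    exact T.push_id Y M i n _ _
  constructor
  · intro a b hab
    have h1 := congrArg (fun g => g.hom a) e1
    have h2 := congrArg (fun g => g.hom b) e1
    simp only [ModuleCat.hom_comp, LinearMap.comp_apply, ModuleCat.hom_id, LinearMap.id_apply]
      at h1 h2
    rw [← h1, ← h2, hab]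
  · intro b
    refine ⟨(T.push (inv f) M i n i n (by rw [h0']; ring) (by rw [h0']; ring)).hom b, ?_⟩
    have h1 := congrArg (fun g => g.hom b) e2
    simpa only [ModuleCat.hom_comp, LinearMap.comp_apply, ModuleCat.hom_id, LinearMap.id_apply]
      using h1

end PushIso

section Nested

variable {A' B' : Scheme.{u}} (ψ : A' ⟶ B') {W'' W' : B'.Opens} (h : W'' ≤ W')

include h in
theorem preimage_mono : ψ ⁻¹ᵁ W'' ≤ ψ ⁻¹ᵁ W' := fun _ ha => h ha

theorem isPullback_nested :
    IsPullback (A'.homOfLE (preimage_mono ψ h)) (ψ ∣_ W'') (ψ ∣_ W') (B'.homOfLE h) := by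
  have hbig : IsPullback (ψ ∣_ W'') (A'.homOfLE (preimage_mono ψ h) ≫ (ψ ⁻¹ᵁ W').ι)
      (B'.homOfLE h ≫ W'.ι) ψ := by
    rw [Scheme.homOfLE_ι, Scheme.homOfLE_ι]
    exact isPullback_morphismRestrict ψ W''
  have hp : (ψ ∣_ W'') ≫ B'.homOfLE h = A'.homOfLE (preimage_mono ψ h) ≫ (ψ ∣_ W') := by
    rw [← cancel_mono W'.ι, Category.assoc, Category.assoc, Scheme.homOfLE_ι, morphismRestrict_ι,
      morphismRestrict_ι, Scheme.homOfLE_ι_assoc]
  exact (IsPullback.of_bot hbig hp (isPullback_morphismRestrict ψ W')).flip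

end Nested

section Pieces

variable (Y X : Obj V) (φ : Y.scheme ⟶ X.scheme) (y : Y.scheme) (x : X.scheme)
  (hyx : φ.base y = x)

/-- The piece of the reduced closure of `y` over an open `W'` of the reduced closure of `x`
containing its generic point. -/
noncomputable abbrev pieceY (W' : (X.ptSub x).scheme.Opens) (hW' : genericPoint (X.ptSub x).scheme ∈ W') :
    ptIdx Y y :=
  ptMk Y y (ptMap Y X φ y x hyx ⁻¹ᵁ W') ⟨genericPoint (Y.ptSub y).scheme, by
    change (ptMap Y X φ y x hyx).base (genericPoint (Y.ptSub y).scheme) ∈ W'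
    rw [ptMap_genericPoint]; exact hW'⟩

noncomputable abbrev pieceX (W' : (X.ptSub x).scheme.Opens) (hW' : genericPoint (X.ptSub x).scheme ∈ W') :
    ptIdx X x :=
  ptMk X x W' ⟨_, hW'⟩

theorem piece_fac (W' : (X.ptSub x).scheme.Opens) :
    (ptMap Y X φ y x hyx ∣_ W') ≫ W'.ι ≫ X.ptSubι x =
      (ptMap Y X φ y x hyx ⁻¹ᵁ W').ι ≫ Y.ptSubι y ≫ φ := by
  rw [← Category.assoc, morphismRestrict_ι, Category.assoc, ptMap_fac]

theorem relCodim_piece_eq_zero (hd : relCodim (Y.ptSub y).scheme (X.ptSub x).scheme = 0)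
    (W : ptIdx Y y) (W' : ptIdx X x) :
    relCodim ((Y.ptSub y).res W.1).scheme ((X.ptSub x).res W'.1).scheme = 0 := by
  have h2 := W.2.2
  have h3 := W'.2.2
  unfold relCodim at hd ⊢
  change ((WeilCoh.dim (W'.1 : Scheme.{u}) : ℤ)) - (WeilCoh.dim (W.1 : Scheme.{u}) : ℤ) = 0
  rw [h2, h3]
  exact hd

variable {T} in
theorem cpt_piece [IsProper φ] (L : T.PtPush φ y x) (W' : (X.ptSub x).scheme.Opens)
    (hW' : genericPoint (X.ptSub x).scheme ∈ W') (M : A.Cat) (i n : ℤ)
    (hi : i = i + 2 * relCodim ((Y.ptSub y).res (pieceY Y X φ y x L.maps_pt W' hW').1).scheme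
      ((X.ptSub x).res (pieceX X x W' hW').1).scheme)
    (hn : n = n + relCodim ((Y.ptSub y).res (pieceY Y X φ y x L.maps_pt W' hW').1).scheme
      ((X.ptSub x).res (pieceX X x W' hW').1).scheme) :
    (T.ptι Y y i n (pieceY Y X φ y x L.maps_pt W' hW')).app M ≫ L.cpt M i n =
      T.push (ptMap Y X φ y x L.maps_pt ∣_ W') M i n i n hi hn ≫
        (T.ptι X x i n (pieceX X x W' hW')).app M :=
  L.cpt_spec M i n (pieceY Y X φ y x L.maps_pt W' hW') (pieceX X x W' hW')
    (ptMap Y X φ y x L.maps_pt ∣_ W') (piece_fac Y X φ y x L.maps_pt W') hi hn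

variable [IsProper φ] (hd : relCodim (Y.ptSub y).scheme (X.ptSub x).scheme = 0)

include hd in
theorem exists_piece_le (W : ptIdx Y y) (U' : (X.ptSub x).scheme.Opens)
    (hU' : genericPoint (X.ptSub x).scheme ∈ U') :
    ∃ W' : (X.ptSub x).scheme.Opens, genericPoint (X.ptSub x).scheme ∈ W' ∧ W' ≤ U' ∧
      ptMap Y X φ y x hyx ⁻¹ᵁ W' ≤ W.1 := by
  have hcl : IsClosed ((ptMap Y X φ y x hyx).base '' ((W.1 : Set (Y.ptSub y).scheme)ᶜ)) :=
    (ptMap Y X φ y x hyx).isClosedMap _ W.1.2.isClosed_compl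
  let W' : (X.ptSub x).scheme.Opens :=
    ⟨((ptMap Y X φ y x hyx).base '' ((W.1 : Set (Y.ptSub y).scheme)ᶜ))ᶜ, hcl.isOpen_compl⟩
  have hgx : genericPoint (X.ptSub x).scheme ∈ W' := by
    rintro ⟨z, hzW, hz⟩
    have := eq_genericPoint_of_ptMap_eq Y X φ y x hyx hd z hz
    rw [this] at hzW
    exact hzW (genericPoint_mem_of_nonempty Y y W.1 W.2.1)
  refine ⟨W' ⊓ U', ⟨hgx, hU'⟩, inf_le_right, ?_⟩
  intro a ha
  by_contra hna
  exact ha.1 ⟨a, hna, rfl⟩

end Pieces

section Bij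

variable {T} (Y X : Obj V) (φ : Y.scheme ⟶ X.scheme) [IsProper φ] (y : Y.scheme) (x : X.scheme)
  (L : T.PtPush φ y x)

/-- If the map between the reduced closures induced by `φ` is an isomorphism over every small
enough neighbourhood of the generic point, the push-forward datum is bijective. -/
theorem cpt_bijective_of_isIso (U : (X.ptSub x).scheme.Opens)
    (hU : genericPoint (X.ptSub x).scheme ∈ U)
    (hiso : ∀ W' : (X.ptSub x).scheme.Opens, W' ≤ U → genericPoint (X.ptSub x).scheme ∈ W' →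
      IsIso (ptMap Y X φ y x L.maps_pt ∣_ W'))
    (M : A.Cat) (i n : ℤ) : Function.Bijective (L.cpt M i n).hom := by
  have hrc := fun (W : ptIdx Y y) (W' : ptIdx X x) =>
    relCodim_piece_eq_zero Y X y x L.codim_eq W W'
  constructor
  · -- injectivity
    rw [injective_iff_map_eq_zero]
    intro a ha
    obtain ⟨W₁, a₁, rfl⟩ := ocolim_exists_rep T (Y.ptSub y)
      (fun U => (U : Set (Y.ptSub y).scheme).Nonempty) M i n a
    obtain ⟨W', hgW', hW'U, hpre⟩ := exists_piece_le Y X φ y x L.maps_pt L.codim_eq W₁ U hU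
    have hdim1 : WeilCoh.dim ((pieceY Y X φ y x L.maps_pt W' hgW').1 : Scheme.{u}) =
        WeilCoh.dim (W₁.1 : Scheme.{u}) :=
      (pieceY Y X φ y x L.maps_pt W' hgW').2.2.trans W₁.2.2.symm
    have hrep := ocolimι_resLE_apply T (Y.ptSub y)
      (fun U => (U : Set (Y.ptSub y).scheme).Nonempty) M i n (U := W₁)
      (U' := pieceY Y X φ y x L.maps_pt W' hgW') hpre hdim1 a₁
    set a₂ := (T.pull ((Y.ptSub y).resLE hpre hdim1) M i n).hom a₁ with ha₂
    change ((T.ptι Y y i n (pieceY Y X φ y x L.maps_pt W' hgW')).app M).hom a₂ =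
      ((T.ptι Y y i n W₁).app M).hom a₁ at hrep
    change ((T.ptι Y y i n W₁).app M).hom a₁ = 0
    change (L.cpt M i n).hom (((T.ptι Y y i n W₁).app M).hom a₁) = 0 at ha
    rw [← hrep] at ha ⊢
    have hcp := cpt_piece Y X φ y x L W' hgW' M i n
      (by rw [hrc]; ring) (by rw [hrc]; ring)
    have hcp' := congrArg (fun g => g.hom a₂) hcp
    simp only [ModuleCat.hom_comp, LinearMap.comp_apply] at hcp'
    rw [hcp'] at ha
    change ((T.ocolimι (X.ptSub x) (fun U => (U : Set (X.ptSub x).scheme).Nonempty) i n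
      (pieceX X x W' hgW')).app M).hom _ = 0 at ha
    rw [ocolimι_eq_zero_iff'] at ha
    obtain ⟨W'', hle, hdim2, hz⟩ := ha
    have hgW'' : genericPoint (X.ptSub x).scheme ∈ W''.1 :=
      genericPoint_mem_of_nonempty X x W''.1 W''.2.1
    haveI : IsIso (ptMap Y X φ y x L.maps_pt ∣_ W''.1) := hiso W''.1 (hle.trans hW'U) hgW''
    have hpre2 : (pieceY Y X φ y x L.maps_pt W''.1 hgW'').1 ≤
        (pieceY Y X φ y x L.maps_pt W' hgW').1 := preimage_mono _ hle
    have hdim3 : WeilCoh.dim ((pieceY Y X φ y x L.maps_pt W''.1 hgW'').1 : Scheme.{u}) =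
        WeilCoh.dim ((pieceY Y X φ y x L.maps_pt W' hgW').1 : Scheme.{u}) :=
      (pieceY Y X φ y x L.maps_pt W''.1 hgW'').2.2.trans
        (pieceY Y X φ y x L.maps_pt W' hgW').2.2.symm
    have hpp := T.push_pull (X := (Y.ptSub y).res (ptMap Y X φ y x L.maps_pt ⁻¹ᵁ W'))
      (Y := (X.ptSub x).res W') (X' := (Y.ptSub y).res (ptMap Y X φ y x L.maps_pt ⁻¹ᵁ W''.1))
      (Y' := (X.ptSub x).res W''.1)
      (ptMap Y X φ y x L.maps_pt ∣_ W') (ptMap Y X φ y x L.maps_pt ∣_ W''.1)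
      ((X.ptSub x).resLE hle hdim2) ((Y.ptSub y).resLE hpre2 hdim3)
      (isPullback_nested (ptMap Y X φ y x L.maps_pt) hle) M i n i n
      (by rw [hrc (pieceY Y X φ y x L.maps_pt W' hgW') (pieceX X x W' hgW')]; ring)
      (by rw [hrc (pieceY Y X φ y x L.maps_pt W' hgW') (pieceX X x W' hgW')]; ring)
      (by rw [hrc (pieceY Y X φ y x L.maps_pt W''.1 hgW'') W'']; ring)
      (by rw [hrc (pieceY Y X φ y x L.maps_pt W''.1 hgW'') W'']; ring)
    have hpp' := congrArg (fun g => g.hom a₂) hpp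
    simp only [ModuleCat.hom_comp, LinearMap.comp_apply] at hpp'
    change (T.pull ((X.ptSub x).resLE hle hdim2) M i n).hom _ = _ at hpp'
    rw [hz] at hpp'
    have hinj := (push_bijective_of_isIso T (X := (Y.ptSub y).res (ptMap Y X φ y x L.maps_pt ⁻¹ᵁ W''.1))
      (Y := (X.ptSub x).res W''.1) (ptMap Y X φ y x L.maps_pt ∣_ W''.1) M i n
      (by rw [hrc (pieceY Y X φ y x L.maps_pt W''.1 hgW'') W'']; ring)
      (by rw [hrc (pieceY Y X φ y x L.maps_pt W''.1 hgW'') W'']; ring)).1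
    have hzero : (T.pull ((Y.ptSub y).resLE hpre2 hdim3) M i n).hom a₂ = 0 := by
      apply hinj
      rw [map_zero]
      exact hpp'.symm
    have hrep2 := ocolimι_resLE_apply T (Y.ptSub y)
      (fun U => (U : Set (Y.ptSub y).scheme).Nonempty) M i n
      (U := pieceY Y X φ y x L.maps_pt W' hgW')
      (U' := pieceY Y X φ y x L.maps_pt W''.1 hgW'') hpre2 hdim3 a₂
    change _ = ((T.ptι Y y i n (pieceY Y X φ y x L.maps_pt W' hgW')).app M).hom a₂ at hrep2
    rw [← hrep2, hzero, map_zero]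
  · -- surjectivity
    intro b
    obtain ⟨W₁, b₁, rfl⟩ := ocolim_exists_rep T (X.ptSub x)
      (fun U => (U : Set (X.ptSub x).scheme).Nonempty) M i n b
    have hgW₁ : genericPoint (X.ptSub x).scheme ∈ W₁.1 :=
      genericPoint_mem_of_nonempty X x W₁.1 W₁.2.1
    have hgW' : genericPoint (X.ptSub x).scheme ∈ W₁.1 ⊓ U := ⟨hgW₁, hU⟩
    haveI : IsIso (ptMap Y X φ y x L.maps_pt ∣_ (W₁.1 ⊓ U)) := hiso _ inf_le_right hgW'
    have hdim1 : WeilCoh.dim ((pieceX X x (W₁.1 ⊓ U) hgW').1 : Scheme.{u}) =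
        WeilCoh.dim (W₁.1 : Scheme.{u}) :=
      (pieceX X x (W₁.1 ⊓ U) hgW').2.2.trans W₁.2.2.symm
    have hrep := ocolimι_resLE_apply T (X.ptSub x)
      (fun U => (U : Set (X.ptSub x).scheme).Nonempty) M i n (U := W₁)
      (U' := pieceX X x (W₁.1 ⊓ U) hgW') inf_le_left hdim1 b₁
    obtain ⟨a', ha'⟩ := (push_bijective_of_isIso T
      (X := (Y.ptSub y).res (ptMap Y X φ y x L.maps_pt ⁻¹ᵁ (W₁.1 ⊓ U)))
      (Y := (X.ptSub x).res (W₁.1 ⊓ U)) (ptMap Y X φ y x L.maps_pt ∣_ (W₁.1 ⊓ U)) M i n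
      (by rw [hrc (pieceY Y X φ y x L.maps_pt (W₁.1 ⊓ U) hgW') (pieceX X x (W₁.1 ⊓ U) hgW')]; ring)
      (by rw [hrc (pieceY Y X φ y x L.maps_pt (W₁.1 ⊓ U) hgW') (pieceX X x (W₁.1 ⊓ U) hgW')]; ring)).2
      ((T.pull ((X.ptSub x).resLE inf_le_left hdim1) M i n).hom b₁)
    refine ⟨((T.ptι Y y i n (pieceY Y X φ y x L.maps_pt (W₁.1 ⊓ U) hgW')).app M).hom a', ?_⟩
    have hcp := cpt_piece Y X φ y x L (W₁.1 ⊓ U) hgW' M i n
      (by rw [hrc]; ring) (by rw [hrc]; ring)
    have hcp' := congrArg (fun g => g.hom a') hcp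
    simp only [ModuleCat.hom_comp, LinearMap.comp_apply] at hcp'
    rw [hcp', ha']
    exact hrep

end Bij

end Groth.Agent.Lib.Helper23.BMPtIso
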