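import Mathlib
import Groth.Prelude.Def_BMCoh4
import Groth.Agent.Lib.Helper23.BMPtIso

/-!
# First differential lemma, step 3: residues and proper push-forward when the closed part upstairs is
only set-theoretically the preimage (helper23)
-/

set_option autoImplicit false
universe u
open CategoryTheory CategoryTheory.Limits AlgebraicGeometry Opposite TopologicalSpace Topology

namespace Groth.Agent.Lib.Helper23.BMFirst3

open BMCoh Groth.Agent.Lib.Helper23.BMObj Groth.Agent.Lib.Helper23.BMObj2
  Groth.Agent.Lib.Helper23.BMPtIso Groth.Agent.Lib.Helper23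

variable {V : ObjectProperty Scheme.{u}} [BMCoh.IsConstructible V]
  {R : Type u} [CommRing R] {A : BMCoh.Coefs R}

/-- Compatibility of the residue maps with replacing the closed part by a closed subscheme with the
same support. -/
def HRed (T : BMCoh.PreTheory V R A) : Prop :=
  ∀ (S : BMCoh.Obj V) (D D'' : BMCoh.Decomp S) (gU : D''.U ⟶ D.U)
    (k : D''.Z.scheme ⟶ D.Z.scheme) [IsClosedImmersion k] [AlgebraicGeometry.Surjective k],
    gU ≫ D.j = D''.j → k ≫ D.i = D''.i →
    ∀ (M : A.Cat) (i n i' n' : ℤ) (hi : i' = i + 1 - 2 * D.codim) (hn : n' = n - D.codim)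
      (hi'' : i' = i + 1 - 2 * D''.codim) (hn'' : n' = n - D''.codim)
      (hk : i' = i' + 2 * BMCoh.relCodim D''.Z.scheme D.Z.scheme)
      (hk' : n' = n' + BMCoh.relCodim D''.Z.scheme D.Z.scheme),
    T.pull gU M i n ≫ T.res D'' M i n i' n' hi'' hn'' ≫ T.push k M i' n' i' n' hk hk' =
      T.res D M i n i' n' hi hn

variable {T : BMCoh.PreTheory V R A}

section Abstract

variable {X' Y' : Obj V} (f : Y'.scheme ⟶ X'.scheme) [IsProper f] (D : Decomp X')
  (D'' : Decomp Y') (m : D''.Z.scheme ⟶ D.Z.scheme) [IsProper m]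
  (fU : D''.U.scheme ⟶ D.U.scheme) [IsProper fU]

/-- The scheme-theoretic preimage of the closed part, as an object. -/
noncomputable abbrev pbZ : Obj V :=
  ⟨pullback f D.i, IsConstructible.of_isClosedImmersion (pullback.fst f D.i)
    (h := (inferInstance : IsClosedImmersion (pullback.fst f D.i))) Y'.mem⟩

/-- The decomposition upstairs whose closed part is the scheme-theoretic preimage. -/
noncomputable abbrev pbDec (hrange : Set.range D''.i.base = f.base ⁻¹' Set.range D.i.base) :
    Decomp Y' where
  Z := pbZ f D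
  U := D''.U
  i := pullback.fst f D.i
  closedImm := inferInstance
  j := D''.j
  range_eq := by
    rw [D''.range_eq]
    congr 1
    rw [Scheme.Pullback.range_fst]
    exact hrange

variable {f D D'' m}

/-- The comparison closed immersion from the given closed part to the scheme-theoretic preimage. -/
noncomputable def cmp (hm : m ≫ D.i = D''.i ≫ f) : D''.Z.scheme ⟶ (pbZ f D).scheme :=
  pullback.lift D''.i m hm.symm

theorem cmp_fst (hm : m ≫ D.i = D''.i ≫ f) : cmp hm ≫ pullback.fst f D.i = D''.i :=
  pullback.lift_fst _ _ _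

theorem cmp_snd (hm : m ≫ D.i = D''.i ≫ f) : cmp hm ≫ pullback.snd f D.i = m :=
  pullback.lift_snd _ _ _

instance (hm : m ≫ D.i = D''.i ≫ f) : IsClosedImmersion (cmp hm) := by
  haveI : IsClosedImmersion (cmp hm ≫ pullback.fst f D.i) := by
    rw [cmp_fst]; infer_instance
  exact IsClosedImmersion.of_comp (cmp hm) (pullback.fst f D.i)

theorem cmp_surjective (hm : m ≫ D.i = D''.i ≫ f)
    (hrange : Set.range D''.i.base = f.base ⁻¹' Set.range D.i.base) :
    Function.Surjective (cmp hm).base := by
  intro z
  have hz : (pullback.fst f D.i).base z ∈ Set.range D''.i.base := by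
    rw [hrange, ← Scheme.Pullback.range_fst]
    exact ⟨z, rfl⟩
  obtain ⟨z', hz'⟩ := hz
  refine ⟨z', ?_⟩
  apply (pullback.fst f D.i).isClosedEmbedding.injective
  rw [← hz']
  have h := congrArg (fun g => g.base z') (cmp_fst hm)
  simpa only [Scheme.Hom.comp_base, TopCat.hom_comp, ContinuousMap.comp_apply] using h

theorem dim_pbZ (hm : m ≫ D.i = D''.i ≫ f)
    (hrange : Set.range D''.i.base = f.base ⁻¹' Set.range D.i.base) :
    WeilCoh.dim (pbZ f D).scheme = WeilCoh.dim D''.Z.scheme := by
  have hhomeo : IsHomeomorph (cmp hm).base :=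
    isHomeomorph_iff_isEmbedding_surjective.mpr
      ⟨(cmp hm).isClosedEmbedding.isEmbedding, cmp_surjective hm hrange⟩
  unfold WeilCoh.dim WeilCoh.natDim
  rw [IsHomeomorph.topologicalKrullDim_eq _ hhomeo]

variable (f D D'' m)

/-- Residue upstairs followed by push-forward between the closed parts is push-forward between the
open parts followed by residue downstairs, when the closed part upstairs has the preimage of the
closed part downstairs as its support. -/
theorem res_push_red (hred : HRed T) (hm : m ≫ D.i = D''.i ≫ f)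
    (hrange : Set.range D''.i.base = f.base ⁻¹' Set.range D.i.base)
    (hU : IsPullback D''.j.hom fU f D.j.hom) (M : A.Cat) (i n a b c d e k : ℤ)
    (ha : a = i + 1 - 2 * D''.codim) (hb : b = n - D''.codim)
    (hc : c = i + 2 * relCodim D''.U.scheme D.U.scheme)
    (hd : d = n + relCodim D''.U.scheme D.U.scheme)
    (he : e = a + 2 * relCodim D''.Z.scheme D.Z.scheme)
    (hk : k = b + relCodim D''.Z.scheme D.Z.scheme)
    (he' : e = c + 1 - 2 * D.codim) (hk' : k = d - D.codim) :
    T.res D'' M i n a b ha hb ≫ T.push m M a b e k he hk =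
      T.push fU M i n c d hc hd ≫ T.res D M c d e k he' hk' := by
  have hdim := dim_pbZ hm hrange
  have hcod : (pbDec f D D'' hrange).codim = D''.codim := by
    change relCodim (pbZ f D).scheme Y'.scheme = relCodim D''.Z.scheme Y'.scheme
    unfold relCodim
    rw [hdim]
  have hrc0 : relCodim D''.Z.scheme (pbZ f D).scheme = 0 := by
    unfold relCodim
    rw [hdim]; ring
  have hrc1 : relCodim (pbZ f D).scheme D.Z.scheme = relCodim D''.Z.scheme D.Z.scheme := by
    unfold relCodim
    rw [hdim]
  haveI : AlgebraicGeometry.Surjective (cmp hm) := ⟨cmp_surjective hm hrange⟩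
  have h1 := hred Y' (pbDec f D D'' hrange) D'' (𝟙 D''.U) (cmp hm) (Category.id_comp _)
    (cmp_fst hm) M i n a b (by rw [hcod]; exact ha) (by rw [hcod]; exact hb) ha hb
    (by rw [hrc0]; ring) (by rw [hrc0]; ring)
  have h2 := T.res_push D (pbDec f D D'' hrange) f (pullback.snd f D.i) fU
    (IsPullback.of_hasPullback f D.i) hU M i n a b c d e k
    (by rw [hcod]; exact ha) (by rw [hcod]; exact hb) hc hd
    (by rw [hrc1]; exact he) (by rw [hrc1]; exact hk) he' hk'
  have h3 := T.push_comp (X := D''.Z) (Y := pbZ f D) (Z := D.Z) (cmp hm) (pullback.snd f D.i) M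
    a b a b e k (by rw [hrc0]; ring) (by rw [hrc0]; ring)
    (by rw [hrc1]; exact he) (by rw [hrc1]; exact hk) he hk
  have h4 := push_congr' T (Y := D''.Z) (Z := D.Z) (cmp hm ≫ pullback.snd f D.i) m (cmp_snd hm)
    M a b e k he hk
  have hpid : T.pull (𝟙 D''.U) M i n = 𝟙 _ := pull_id T D''.U M i n
  rw [hpid, Category.id_comp] at h1
  rw [← h2, ← h1, Category.assoc, h3, h4]

end Abstract

end Groth.Agent.Lib.Helper23.BMFirst3
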