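import Mathlib
import Groth.Prelude.Def_BMCoh4
import Groth.Agent.Lib.Helper23.BMFirst3
import Groth.Agent.Lib.Helper23.BMRes2
import Groth.Agent.Lib.Helper23.BMRes
import Groth.Agent.Lib.Helper23.BMGysin

/-!
# First differential lemma, step 4: the two decompositions around a point of codimension `q + 1`
(helper23)
-/

set_option autoImplicit false
universe u
open CategoryTheory CategoryTheory.Limits AlgebraicGeometry Opposite TopologicalSpace Topology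

namespace Groth.Agent.Lib.Helper23.BMFirst4

open BMCoh Groth.Agent.Lib.Helper23.BMObj Groth.Agent.Lib.Helper23.BMObj2
  Groth.Agent.Lib.Helper23.BMColim Groth.Agent.Lib.Helper23.BMData
  Groth.Agent.Lib.Helper23.BMMulti Groth.Agent.Lib.Helper23.BMGeom
  Groth.Agent.Lib.Helper23.BMRes2 Groth.Agent.Lib.Helper23.BMPart
  Groth.Agent.Lib.Helper23.BMPtMap Groth.Agent.Lib.Helper23.BMPtIso
  Groth.Agent.Lib.Helper23.BMFirst3 Groth.Agent.Lib.Helper23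

variable {V : ObjectProperty Scheme.{u}} [BMCoh.IsConstructible V]
  {R : Type u} [CommRing R] {A : BMCoh.Coefs R}

noncomputable section

theorem dim_sub_one (Y X : Obj V) (q : ℕ) (x : X.cdPt (q + 1)) (S : Finset Y.scheme)
    (hne : S.Nonempty) (hS : ∀ y ∈ S, WeilCoh.codim Y.scheme y = 0 + 1)
    (hdimYX : (WeilCoh.dim X.scheme : ℤ) - (WeilCoh.dim Y.scheme : ℤ) = (q : ℤ)) :
    ((WeilCoh.dim X.scheme - (q + 1) : ℕ) : ℤ) = ((WeilCoh.dim Y.scheme - (0 + 1) : ℕ) : ℤ) := by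
  have hx1 := codim_cast X x.1
  rw [x.2] at hx1
  have hx2 := pdim_le_dim X x.1
  obtain ⟨y, hy⟩ := hne
  have hy1 := codim_cast Y y
  rw [hS y hy] at hy1
  have hy2 := pdim_le_dim Y y
  push_cast at hx1 hy1
  omega

section Setup

variable (Y X : Obj V) (φ : Y.scheme ⟶ X.scheme) [IsProper φ] (q : ℕ)
  (U₁ : X.scheme.Opens) (x : X.cdPt (q + 1)) (hU₁ : ContainsFj X q U₁) (hxU₁ : x.1 ∈ U₁)
  (S : Finset Y.scheme) (hne : S.Nonempty) (hY₁ : ContainsFj Y 0 (φ ⁻¹ᵁ U₁))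
  (hS : ∀ y ∈ S, WeilCoh.codim Y.scheme y = 0 + 1) (hmem : ∀ y ∈ S, y ∈ φ ⁻¹ᵁ U₁)
  (hdisj : PDisj Y (φ ⁻¹ᵁ U₁) S) (hfib : ∀ y ∈ S, φ.base y = x.1)
  (hcov : ∀ p ∈ φ ⁻¹ᵁ U₁, φ.base p ∈ closure ({x.1} : Set X.scheme) →
    ∃ y ∈ S, p ∈ closure ({y} : Set Y.scheme))

theorem hSx : ∀ y ∈ ({x.1} : Finset X.scheme), WeilCoh.codim X.scheme y = q + 1 := by
  intro y hy
  rw [Finset.mem_singleton.mp hy]
  exact x.2

include hxU₁ in
theorem hmemx : ∀ y ∈ ({x.1} : Finset X.scheme), y ∈ U₁ := by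
  intro y hy
  rw [Finset.mem_singleton.mp hy]
  exact hxU₁

/-- The configuration downstairs: the single point `x` in `U₁`. -/
abbrev CX : Cfg X :=
  cfgOfJ U₁ {x.1} (Finset.singleton_nonempty _) hU₁ (hSx X q x) (hmemx X q U₁ x hxU₁)
    (pdisj_singleton U₁ x.1)

/-- The configuration upstairs: the fibre in the preimage of `U₁`. -/
abbrev CY : Cfg Y := cfgOfJ (φ ⁻¹ᵁ U₁) S hne hY₁ hS hmem hdisj

/-- The point `x` as an element of the configuration downstairs. -/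
abbrev xpt : ↥(CX X q U₁ x hU₁ hxU₁).S := ⟨x.1, Finset.mem_singleton_self _⟩

include hfib hcov in
/-- A point of the preimage of `U₁` lies over the open part downstairs iff it is in no closure of a
point of the fibre. -/
theorem mem_preimage_U₀_iff (p : Y.scheme) (hp : p ∈ φ ⁻¹ᵁ U₁) :
    p ∈ φ ⁻¹ᵁ (openCompl X U₁ {x.1}) ↔ ∀ y ∈ S, p ∉ closure ({y} : Set Y.scheme) := by
  constructor
  · intro hpU₀ y hy hpy
    have h1 : φ.base p ∈ openCompl X U₁ {x.1} := hpU₀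
    refine (mem_openCompl.mp h1).2 x.1 (Finset.mem_singleton_self _) ?_
    have h2 : φ.base p ∈ φ.base '' closure ({y} : Set Y.scheme) := ⟨p, hpy, rfl⟩
    have h3 := image_closure_subset_closure_image φ.continuous h2
    rwa [Set.image_singleton, hfib y hy] at h3
  · intro hp'
    change φ.base p ∈ openCompl X U₁ {x.1}
    refine mem_openCompl.mpr ⟨hp, fun y hy hpy => ?_⟩
    rw [Finset.mem_singleton.mp hy] at hpy
    obtain ⟨y', hy', hpy'⟩ := hcov p hp hpy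
    exact hp' y' hy' hpy'

include hY₁ hS hfib hcov in
theorem containsFj_preimage_U₀ : ContainsFj Y 0 (φ ⁻¹ᵁ (openCompl X U₁ {x.1})) := by
  intro p hp
  have hpU₁ := hY₁ p hp
  rw [mem_preimage_U₀_iff Y X φ q U₁ x S hfib hcov p hpU₁]
  intro y hy hpy
  have := codim_le_of_mem_closure Y hpy
  rw [hS y hy] at this
  omega

include hY₁ hS hfib hcov in
theorem dim_preimage_U₀ :
    WeilCoh.dim ((φ ⁻¹ᵁ (openCompl X U₁ {x.1}) : Y.scheme.Opens) : Scheme.{u}) =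
      WeilCoh.dim ((φ ⁻¹ᵁ U₁ : Y.scheme.Opens) : Scheme.{u}) :=
  (dim_eq_of_containsFj Y 0 _ (containsFj_preimage_U₀ Y X φ q U₁ x S hY₁ hS hfib hcov)).trans
    (dim_eq_of_containsFj Y 0 _ hY₁).symm

/-- The decomposition upstairs: the closed part is the disjoint union of the pieces of the closures of
the points of the fibre, the open part is the preimage of the open part downstairs. -/
abbrev decY : Decomp (Y.res (φ ⁻¹ᵁ U₁)) where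
  Z := (CY Y X φ U₁ S hne hY₁ hS hmem hdisj).zobj
  U := Y.res (φ ⁻¹ᵁ (openCompl X U₁ {x.1}))
  i := (CY Y X φ U₁ S hne hY₁ hS hmem hdisj).zι
  closedImm := (inferInstance : IsClosedImmersion (CY Y X φ U₁ S hne hY₁ hS hmem hdisj).zι)
  j := Y.resLE (preimage_mono φ (openCompl_le X U₁ {x.1}))
    (dim_preimage_U₀ Y X φ q U₁ x S hY₁ hS hfib hcov)
  range_eq := by
    change Set.range (Y.scheme.homOfLE (preimage_mono φ (openCompl_le X U₁ {x.1}))) =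
      (Set.range (CY Y X φ U₁ S hne hY₁ hS hmem hdisj).zι)ᶜ
    rw [range_homOfLE', (CY Y X φ U₁ S hne hY₁ hS hmem hdisj).range_zι]
    ext u
    simp only [Set.mem_preimage, Set.mem_compl_iff, Set.mem_iUnion, not_exists, SetLike.mem_coe]
    exact mem_preimage_U₀_iff Y X φ q U₁ x S hfib hcov _ u.2

theorem my_range (y : ↥S) :
    Set.range ((ptOpen Y y.1 (φ ⁻¹ᵁ U₁)).ι ≫ ptMap Y X φ y.1 x.1 (hfib y.1 y.2)).base ⊆
      Set.range (ptOpen X x.1 U₁).ι.base := by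
  rintro _ ⟨p, rfl⟩
  rw [Scheme.Opens.range_ι]
  change (X.ptSubι x.1).base ((ptMap Y X φ y.1 x.1 (hfib y.1 y.2)).base p.1) ∈ U₁
  have h := congrArg (fun f => f.base p.1) (ptMap_fac Y X φ y.1 x.1 (hfib y.1 y.2))
  simp only [Scheme.Hom.comp_base, TopCat.hom_comp, ContinuousMap.comp_apply] at h
  rw [h]
  exact p.2

/-- The map from the piece of the closure of a point of the fibre to the piece of the closure of
`x`. -/
def my (y : ↥S) : (pc Y (φ ⁻¹ᵁ U₁) y.1).scheme ⟶ (pc X U₁ x.1).scheme :=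
  IsOpenImmersion.lift (ptOpen X x.1 U₁).ι
    ((ptOpen Y y.1 (φ ⁻¹ᵁ U₁)).ι ≫ ptMap Y X φ y.1 x.1 (hfib y.1 y.2))
    (my_range Y X φ q U₁ x S hfib y)

theorem my_ι (y : ↥S) : my Y X φ q U₁ x S hfib y ≫ (ptOpen X x.1 U₁).ι =
    (ptOpen Y y.1 (φ ⁻¹ᵁ U₁)).ι ≫ ptMap Y X φ y.1 x.1 (hfib y.1 y.2) :=
  IsOpenImmersion.lift_fac _ _ _

theorem my_fac (y : ↥S) : my Y X φ q U₁ x S hfib y ≫ (ptOpen X x.1 U₁).ι ≫ X.ptSubι x.1 =
    (ptOpen Y y.1 (φ ⁻¹ᵁ U₁)).ι ≫ Y.ptSubι y.1 ≫ φ := by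
  rw [← Category.assoc, my_ι, Category.assoc, ptMap_fac]

theorem my_pcι (y : ↥S) : my Y X φ q U₁ x S hfib y ≫ pcι X U₁ x.1 =
    pcι Y (φ ⁻¹ᵁ U₁) y.1 ≫ (φ ∣_ U₁) := by
  have e1 : pcι X U₁ x.1 ≫ U₁.ι = (ptOpen X x.1 U₁).ι ≫ X.ptSubι x.1 := morphismRestrict_ι _ _
  have e2 : pcι Y (φ ⁻¹ᵁ U₁) y.1 ≫ (φ ⁻¹ᵁ U₁).ι = (ptOpen Y y.1 (φ ⁻¹ᵁ U₁)).ι ≫ Y.ptSubι y.1 :=
    morphismRestrict_ι _ _
  have e3 : (φ ∣_ U₁) ≫ U₁.ι = (φ ⁻¹ᵁ U₁).ι ≫ φ := morphismRestrict_ι _ _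
  rw [← cancel_mono U₁.ι, Category.assoc, Category.assoc, e1, my_fac, e3]
  conv_rhs => rw [← Category.assoc, e2, Category.assoc]

instance (y : ↥S) : IsProper (my Y X φ q U₁ x S hfib y) := by
  haveI : IsProper (my Y X φ q U₁ x S hfib y ≫ pcι X U₁ x.1) := by
    rw [my_pcι]; infer_instance
  exact IsProper.of_comp (my Y X φ q U₁ x S hfib y) (pcι X U₁ x.1)

/-- The map between the closed parts. -/
def mZ : (CY Y X φ U₁ S hne hY₁ hS hmem hdisj).zsch ⟶ (CX X q U₁ x hU₁ hxU₁).zsch :=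
  Sigma.desc fun y : ↥S => my Y X φ q U₁ x S hfib y ≫
    ((CX X q U₁ x hU₁ hxU₁).kap (xpt X q U₁ x hU₁ hxU₁)).hom

theorem kap_mZ (y : ↥S) :
    ((CY Y X φ U₁ S hne hY₁ hS hmem hdisj).kap y).hom ≫
      mZ Y X φ q U₁ x hU₁ hxU₁ S hne hY₁ hS hmem hdisj hfib =
    my Y X φ q U₁ x S hfib y ≫ ((CX X q U₁ x hU₁ hxU₁).kap (xpt X q U₁ x hU₁ hxU₁)).hom := by
  unfold mZ
  exact Sigma.ι_desc _ _

theorem mZ_zι : mZ Y X φ q U₁ x hU₁ hxU₁ S hne hY₁ hS hmem hdisj hfib ≫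
    (CX X q U₁ x hU₁ hxU₁).zι =
    (CY Y X φ U₁ S hne hY₁ hS hmem hdisj).zι ≫ (φ ∣_ U₁) := by
  apply Sigma.hom_ext
  intro y
  have h1 := kap_mZ Y X φ q U₁ x hU₁ hxU₁ S hne hY₁ hS hmem hdisj hfib y
  have h2 := (CY Y X φ U₁ S hne hY₁ hS hmem hdisj).kap_zι y
  have h3 := (CX X q U₁ x hU₁ hxU₁).kap_zι (xpt X q U₁ x hU₁ hxU₁)
  change ((CY Y X φ U₁ S hne hY₁ hS hmem hdisj).kap y).hom ≫ _ ≫ _ =
    ((CY Y X φ U₁ S hne hY₁ hS hmem hdisj).kap y).hom ≫ _ ≫ _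
  rw [← Category.assoc, h1, Category.assoc, h3, ← Category.assoc, h2]
  exact my_pcι Y X φ q U₁ x S hfib y

instance : IsProper (mZ Y X φ q U₁ x hU₁ hxU₁ S hne hY₁ hS hmem hdisj hfib) := by
  haveI : IsProper (mZ Y X φ q U₁ x hU₁ hxU₁ S hne hY₁ hS hmem hdisj hfib ≫
      (CX X q U₁ x hU₁ hxU₁).zι) := by
    rw [mZ_zι]
    haveI : IsClosedImmersion (CY Y X φ U₁ S hne hY₁ hS hmem hdisj).zι := inferInstance
    infer_instance
  exact IsProper.of_comp (mZ Y X φ q U₁ x hU₁ hxU₁ S hne hY₁ hS hmem hdisj hfib)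
    (CX X q U₁ x hU₁ hxU₁).zι

section Codim

variable (hdimYX : (WeilCoh.dim X.scheme : ℤ) - (WeilCoh.dim Y.scheme : ℤ) = (q : ℤ))

theorem codim_CX : (CX X q U₁ x hU₁ hxU₁).dec.codim = (q : ℤ) + 1 :=
  cfgOfJ_codim U₁ {x.1} (Finset.singleton_nonempty _) hU₁ (hSx X q x) (hmemx X q U₁ x hxU₁)
    (pdisj_singleton U₁ x.1)

theorem codim_decY : (decY Y X φ q U₁ x S hne hY₁ hS hmem hdisj hfib hcov).codim =
    ((0 : ℕ) : ℤ) + 1 :=
  cfgOfJ_codim (φ ⁻¹ᵁ U₁) S hne hY₁ hS hmem hdisj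

include hU₁ hxU₁ hY₁ hS hfib hcov hdimYX in
theorem relCodim_U₀ :
    relCodim (Y.res (φ ⁻¹ᵁ (openCompl X U₁ {x.1}))).scheme (X.res (openCompl X U₁ {x.1})).scheme =
      (q : ℤ) := by
  have h1 := (CX X q U₁ x hU₁ hxU₁).dimU₀
  have h2 := dim_eq_of_containsFj Y 0 _ (containsFj_preimage_U₀ Y X φ q U₁ x S hY₁ hS hfib hcov)
  unfold relCodim
  change ((WeilCoh.dim ((openCompl X U₁ {x.1} : X.scheme.Opens) : Scheme.{u}) : ℤ)) -
    (WeilCoh.dim ((φ ⁻¹ᵁ (openCompl X U₁ {x.1}) : Y.scheme.Opens) : Scheme.{u}) : ℤ) = _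
  rw [h2]
  change ((WeilCoh.dim ((openCompl X U₁ {x.1} : X.scheme.Opens) : Scheme.{u}) : ℤ)) - _ = _ at *
  have h1' : WeilCoh.dim ((openCompl X U₁ {x.1} : X.scheme.Opens) : Scheme.{u}) =
      WeilCoh.dim X.scheme := h1
  rw [h1']
  exact hdimYX

include hU₁ hxU₁ hne hY₁ hS hmem hdisj hdimYX in
theorem relCodim_Z :
    relCodim (CY Y X φ U₁ S hne hY₁ hS hmem hdisj).zobj.scheme
      (CX X q U₁ x hU₁ hxU₁).zobj.scheme = 0 := by
  unfold relCodim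
  change ((WeilCoh.dim (CX X q U₁ x hU₁ hxU₁).zsch : ℤ)) -
    (WeilCoh.dim (CY Y X φ U₁ S hne hY₁ hS hmem hdisj).zsch : ℤ) = 0
  rw [(CX X q U₁ x hU₁ hxU₁).dim_zsch, (CY Y X φ U₁ S hne hY₁ hS hmem hdisj).dim_zsch]
  change ((WeilCoh.dim X.scheme - (q + 1) : ℕ) : ℤ) - ((WeilCoh.dim Y.scheme - (0 + 1) : ℕ) : ℤ) = 0
  rw [dim_sub_one Y X q x S hne hS hdimYX]
  ring

include hU₁ hxU₁ hne hY₁ hS hmem hdisj hdimYX in
theorem relCodim_pc (y : ↥S) :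
    relCodim (pc Y (φ ⁻¹ᵁ U₁) y.1).scheme (pc X U₁ x.1).scheme = 0 := by
  have h1 := (CX X q U₁ x hU₁ hxU₁).dim_pc (xpt X q U₁ x hU₁ hxU₁)
  have h2 := (CY Y X φ U₁ S hne hY₁ hS hmem hdisj).dim_pc y
  unfold relCodim
  change ((WeilCoh.dim (pc X U₁ x.1).scheme : ℤ)) -
    (WeilCoh.dim (pc Y (φ ⁻¹ᵁ U₁) y.1).scheme : ℤ) = 0
  have h1' : WeilCoh.dim (pc X U₁ x.1).scheme = WeilCoh.dim X.scheme - (q + 1) := h1
  have h2' : WeilCoh.dim (pc Y (φ ⁻¹ᵁ U₁) y.1).scheme = WeilCoh.dim Y.scheme - (0 + 1) := h2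
  rw [h1', h2', dim_sub_one Y X q x S hne hS hdimYX]
  ring

end Codim

section Core

variable {T : BMCoh.PreTheory V R A}
  (hdimYX : (WeilCoh.dim X.scheme : ℤ) - (WeilCoh.dim Y.scheme : ℤ) = (q : ℤ))

local notation "CXc" => CX X q U₁ x hU₁ hxU₁
local notation "CYc" => CY Y X φ U₁ S hne hY₁ hS hmem hdisj
local notation "DYc" => decY Y X φ q U₁ x S hne hY₁ hS hmem hdisj hfib hcov
local notation "mZc" => mZ Y X φ q U₁ x hU₁ hxU₁ S hne hY₁ hS hmem hdisj hfib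
local notation "myc" => my Y X φ q U₁ x S hfib
local notation "xp" => xpt X q U₁ x hU₁ hxU₁

include hfib hcov in
theorem range_zι_eq : Set.range (CYc).zι.base = (φ ∣_ U₁).base ⁻¹' Set.range (CXc).zι.base := by
  have h1 := (CYc).range_zι
  have h2 := (CXc).range_zι
  ext u
  constructor
  · intro hu
    have hu' : u ∈ Set.range (CYc).zι := hu
    rw [h1] at hu'
    obtain ⟨y, hy, huy⟩ := Set.mem_iUnion₂.mp hu'
    change (φ ∣_ U₁).base u ∈ Set.range (CXc).zι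
    rw [h2]
    refine Set.mem_iUnion₂.mpr ⟨x.1, Finset.mem_singleton_self _, ?_⟩
    change ((φ ∣_ U₁).base u).1 ∈ closure ({x.1} : Set X.scheme)
    rw [morphismRestrict_base_coe]
    have h3 : φ.base u.1 ∈ φ.base '' closure ({y} : Set Y.scheme) := ⟨u.1, huy, rfl⟩
    have h4 := image_closure_subset_closure_image φ.continuous h3
    rwa [Set.image_singleton, hfib y hy] at h4
  · intro hu
    have hu' : (φ ∣_ U₁).base u ∈ Set.range (CXc).zι := hu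
    rw [h2] at hu'
    obtain ⟨x', hx', hux'⟩ := Set.mem_iUnion₂.mp hu'
    rw [Finset.mem_singleton.mp hx'] at hux'
    have hux : φ.base u.1 ∈ closure ({x.1} : Set X.scheme) := by
      have : ((φ ∣_ U₁).base u).1 ∈ closure ({x.1} : Set X.scheme) := hux'
      rwa [morphismRestrict_base_coe] at this
    obtain ⟨y, hy, huy⟩ := hcov u.1 u.2 hux
    change u ∈ Set.range (CYc).zι
    rw [h1]
    exact Set.mem_iUnion₂.mpr ⟨y, hy, huy⟩

theorem res_push_first (hred : HRed T) (M : A.Cat) (i n i₁ n₁ i₂ n₂ : ℤ)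
    (hiY : i₂ = i + 1 - 2 * (DYc).codim) (hnY : n₂ = n - (DYc).codim)
    (hiU : i₁ = i + 2 * relCodim (Y.res (φ ⁻¹ᵁ (openCompl X U₁ {x.1}))).scheme
      (X.res (openCompl X U₁ {x.1})).scheme)
    (hnU : n₁ = n + relCodim (Y.res (φ ⁻¹ᵁ (openCompl X U₁ {x.1}))).scheme
      (X.res (openCompl X U₁ {x.1})).scheme)
    (hiZ : i₂ = i₂ + 2 * relCodim (CYc).zobj.scheme (CXc).zobj.scheme)
    (hnZ : n₂ = n₂ + relCodim (CYc).zobj.scheme (CXc).zobj.scheme)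
    (hiX : i₂ = i₁ + 1 - 2 * (CXc).dec.codim) (hnX : n₂ = n₁ - (CXc).dec.codim)
    (α₁ : T.gp (Y.res (φ ⁻¹ᵁ (openCompl X U₁ {x.1}))) M i n) :
    (T.push (X := (CYc).zobj) (Y := (CXc).zobj) mZc M i₂ n₂ i₂ n₂ hiZ hnZ).hom
        ((T.res DYc M i n i₂ n₂ hiY hnY).hom α₁) =
      (T.res (CXc).dec M i₁ n₁ i₂ n₂ hiX hnX).hom
        ((T.push (X := Y.res (φ ⁻¹ᵁ (openCompl X U₁ {x.1}))) (Y := X.res (openCompl X U₁ {x.1}))
          (φ ∣_ openCompl X U₁ {x.1}) M i n i₁ n₁ hiU hnU).hom α₁) := by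
  have hP : IsProper mZc := inferInstance
  have hP' : IsProper (φ ∣_ openCompl X U₁ {x.1}) := inferInstance
  have hP'' : IsProper (φ ∣_ U₁) := inferInstance
  have h := @res_push_red V _ R _ A T (X.res U₁) (Y.res (φ ⁻¹ᵁ U₁)) (φ ∣_ U₁) hP''
    (CXc).dec DYc mZc hP (φ ∣_ openCompl X U₁ {x.1}) hP' hred
    (mZ_zι Y X φ q U₁ x hU₁ hxU₁ S hne hY₁ hS hmem hdisj hfib)
    (range_zι_eq Y X φ q U₁ x hU₁ hxU₁ S hne hY₁ hS hmem hdisj hfib hcov)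
    (isPullback_nested φ (openCompl_le X U₁ {x.1})) M i n i₂ n₂ i₁ n₁ i₂ n₂ hiY hnY hiU hnU
    hiZ hnZ hiX hnX
  exact congrArg (fun g => g.hom α₁) h

open Classical in
include hdimYX in
/-- The residue downstairs of the push-forward of a class, restricted to the piece of the closure of
`x`, is the sum of the push-forwards of the residues upstairs at the points of the fibre. -/
theorem core_geo (hred : HRed T) (M : A.Cat) (i n i₁ n₁ i₂ n₂ : ℤ)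
    (hiY : i₂ = i + 1 - 2 * (DYc).codim) (hnY : n₂ = n - (DYc).codim)
    (hiU : i₁ = i + 2 * relCodim (Y.res (φ ⁻¹ᵁ (openCompl X U₁ {x.1}))).scheme
      (X.res (openCompl X U₁ {x.1})).scheme)
    (hnU : n₁ = n + relCodim (Y.res (φ ⁻¹ᵁ (openCompl X U₁ {x.1}))).scheme
      (X.res (openCompl X U₁ {x.1})).scheme)
    (hiX : i₂ = i₁ + 1 - 2 * (CXc).dec.codim) (hnX : n₂ = n₁ - (CXc).dec.codim)
    (hiP : ∀ y : ↥S, i₂ = i₂ + 2 * relCodim (pc Y (φ ⁻¹ᵁ U₁) y.1).scheme (pc X U₁ x.1).scheme)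
    (hnP : ∀ y : ↥S, n₂ = n₂ + relCodim (pc Y (φ ⁻¹ᵁ U₁) y.1).scheme (pc X U₁ x.1).scheme)
    (α₁ : T.gp (Y.res (φ ⁻¹ᵁ (openCompl X U₁ {x.1}))) M i n) :
    (T.pull ((CXc).kap xp) M i₂ n₂).hom
      ((T.res (CXc).dec M i₁ n₁ i₂ n₂ hiX hnX).hom
        ((T.push (X := Y.res (φ ⁻¹ᵁ (openCompl X U₁ {x.1}))) (Y := X.res (openCompl X U₁ {x.1}))
          (φ ∣_ openCompl X U₁ {x.1}) M i n i₁ n₁ hiU hnU).hom α₁)) =
    ∑ y : ↥S, (T.push (X := pc Y (φ ⁻¹ᵁ U₁) y.1) (Y := pc X U₁ x.1) (myc y) M i₂ n₂ i₂ n₂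
      (hiP y) (hnP y)).hom
        ((T.pull ((CYc).kap y) M i₂ n₂).hom ((T.res DYc M i n i₂ n₂ hiY hnY).hom α₁)) := by
  have hrcZ := relCodim_Z Y X φ q U₁ x hU₁ hxU₁ S hne hY₁ hS hmem hdisj hdimYX
  have hiZ : i₂ = i₂ + 2 * relCodim (CYc).zobj.scheme (CXc).zobj.scheme := by rw [hrcZ]; ring
  have hnZ : n₂ = n₂ + relCodim (CYc).zobj.scheme (CXc).zobj.scheme := by rw [hrcZ]; ring
  rw [← res_push_first Y X φ q U₁ x hU₁ hxU₁ S hne hY₁ hS hmem hdisj hfib hcov hred M i n i₁ n₁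
    i₂ n₂ hiY hnY hiU hnU hiZ hnZ hiX hnX α₁]
  set ρ := (T.res DYc M i n i₂ n₂ hiY hnY).hom α₁ with hρ
  have hadd := add_id T (fun y : ↥S => pc Y (φ ⁻¹ᵁ U₁) y.1) (CYc).kap (CYc).kap_disj
    (CYc).kap_cover M i₂ n₂ ρ
  have hkx0 : relCodim (pc X U₁ x.1).scheme (CXc).zobj.scheme = 0 :=
    relCodim_eq_zero ((CXc).kap xp)
  have e1 : (T.push (X := (CYc).zobj) (Y := (CXc).zobj) mZc M i₂ n₂ i₂ n₂ hiZ hnZ).hom ρ =
      ∑ y : ↥S, (push0 T ((CXc).kap xp) M i₂ n₂).hom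
        ((T.push (X := pc Y (φ ⁻¹ᵁ U₁) y.1) (Y := pc X U₁ x.1) (myc y) M i₂ n₂ i₂ n₂
          (hiP y) (hnP y)).hom ((T.pull ((CYc).kap y) M i₂ n₂).hom ρ)) := by
    conv_lhs => rw [← hadd]
    rw [map_sum]
    refine Finset.sum_congr rfl fun y _ => ?_
    have hky0 : relCodim (pc Y (φ ⁻¹ᵁ U₁) y.1).scheme (CYc).zobj.scheme = 0 :=
      relCodim_eq_zero ((CYc).kap y)
    have hrcYX : relCodim (pc Y (φ ⁻¹ᵁ U₁) y.1).scheme (CXc).zobj.scheme = 0 := by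
      have h1 := relCodim_pc Y X φ q U₁ x hU₁ hxU₁ S hne hY₁ hS hmem hdisj hdimYX y
      unfold relCodim at h1 hkx0 ⊢
      omega
    have hc1 := T.push_comp (X := pc Y (φ ⁻¹ᵁ U₁) y.1) (Y := (CYc).zobj) (Z := (CXc).zobj)
      ((CYc).kap y).hom mZc M i₂ n₂ i₂ n₂ i₂ n₂ (by rw [hky0]; ring) (by rw [hky0]; ring)
      hiZ hnZ (by rw [hrcYX]; ring) (by rw [hrcYX]; ring)
    have hc2 := T.push_comp (X := pc Y (φ ⁻¹ᵁ U₁) y.1) (Y := pc X U₁ x.1) (Z := (CXc).zobj)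
      (myc y) ((CXc).kap xp).hom M i₂ n₂ i₂ n₂ i₂ n₂ (hiP y) (hnP y)
      (by rw [hkx0]; ring) (by rw [hkx0]; ring) (by rw [hrcYX]; ring) (by rw [hrcYX]; ring)
    have hc3 := push_congr' T (Y := pc Y (φ ⁻¹ᵁ U₁) y.1) (Z := (CXc).zobj) _ _
      (kap_mZ Y X φ q U₁ x hU₁ hxU₁ S hne hY₁ hS hmem hdisj hfib y) M i₂ n₂ i₂ n₂
      (by rw [hrcYX]; ring) (by rw [hrcYX]; ring)
    have hc1' := congrArg (fun g => g.hom ((T.pull ((CYc).kap y) M i₂ n₂).hom ρ)) hc1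
    have hc2' := congrArg (fun g => g.hom ((T.pull ((CYc).kap y) M i₂ n₂).hom ρ)) hc2
    have hc3' := congrArg (fun g => g.hom ((T.pull ((CYc).kap y) M i₂ n₂).hom ρ)) hc3
    simp only [ModuleCat.hom_comp, LinearMap.comp_apply] at hc1' hc2'
    unfold push0
    exact hc1'.trans (hc3'.trans hc2'.symm)
  rw [e1, map_sum]
  refine Finset.sum_congr rfl fun y _ => ?_
  exact pull_push0_self T ((CXc).kap xp) M i₂ n₂ _

end Core

end Setup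

end

end Groth.Agent.Lib.Helper23.BMFirst4
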