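import Mathlib
import Groth.Prelude.Def_BMCoh4
import Groth.Agent.Lib.Helper23.BMFirst4

/-!
# First differential lemma, step 5: the residue at a point with nonempty fibre (helper23)
-/

set_option autoImplicit false
universe u
open CategoryTheory CategoryTheory.Limits AlgebraicGeometry Opposite TopologicalSpace Topology

namespace Groth.Agent.Lib.Helper23.BMFirst5

open BMCoh Groth.Agent.Lib.Helper23.BMObj Groth.Agent.Lib.Helper23.BMObj2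
  Groth.Agent.Lib.Helper23.BMColim Groth.Agent.Lib.Helper23.BMData
  Groth.Agent.Lib.Helper23.BMMulti Groth.Agent.Lib.Helper23.BMGeom
  Groth.Agent.Lib.Helper23.BMRes Groth.Agent.Lib.Helper23.BMRes2 Groth.Agent.Lib.Helper23.BMPart
  Groth.Agent.Lib.Helper23.BMPtMap Groth.Agent.Lib.Helper23.BMPtIso
  Groth.Agent.Lib.Helper23.BMFirst3 Groth.Agent.Lib.Helper23.BMFirst4 Groth.Agent.Lib.Helper23

variable {V : ObjectProperty Scheme.{u}} [BMCoh.IsConstructible V]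
  {R : Type u} [CommRing R] {A : BMCoh.Coefs R} {T : BMCoh.PreTheory V R A}

section Core

variable (Y X : Obj V) (φ : Y.scheme ⟶ X.scheme) [IsProper φ] (q : ℕ)
  (U₁ : X.scheme.Opens) (x : X.cdPt (q + 1)) (hU₁ : ContainsFj X q U₁) (hxU₁ : x.1 ∈ U₁)
  (S : Finset Y.scheme) (hne : S.Nonempty) (hY₁ : ContainsFj Y 0 (φ ⁻¹ᵁ U₁))
  (hS : ∀ y ∈ S, WeilCoh.codim Y.scheme y = 0 + 1) (hmem : ∀ y ∈ S, y ∈ φ ⁻¹ᵁ U₁)
  (hdisj : PDisj Y (φ ⁻¹ᵁ U₁) S) (hfib : ∀ y ∈ S, φ.base y = x.1)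
  (hcov : ∀ p ∈ φ ⁻¹ᵁ U₁, φ.base p ∈ closure ({x.1} : Set X.scheme) →
    ∃ y ∈ S, p ∈ closure ({y} : Set Y.scheme))
  (hdimYX : (WeilCoh.dim X.scheme : ℤ) - (WeilCoh.dim Y.scheme : ℤ) = (q : ℤ))

local notation "CXc" => CX X q U₁ x hU₁ hxU₁
local notation "CYc" => CY Y X φ U₁ S hne hY₁ hS hmem hdisj
local notation "DYc" => decY Y X φ q U₁ x S hne hY₁ hS hmem hdisj hfib hcov
local notation "myc" => my Y X φ q U₁ x S hfib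
local notation "xp" => xpt X q U₁ x hU₁ hxU₁

/-- The residue upstairs at a point of the fibre of a class given on the preimage of the open part
downstairs. -/
theorem resData_cpt_decY (Q' : T.ResData Y 0) (y : ↥S) (M : A.Cat) (i n i' n' : ℤ)
    (hi : i' = i + 1 - 2 * (((0 : ℕ) : ℤ) + 1)) (hn : n' = n - (((0 : ℕ) : ℤ) + 1))
    (hiD : i' = i + 1 - 2 * (DYc).codim) (hnD : n' = n - (DYc).codim)
    (a : T.gp (Y.res (φ ⁻¹ᵁ (openCompl X U₁ {x.1}))) M i n) :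
    (Q'.cpt ⟨y.1, hS y.1 y.2⟩ M i n i' n' hi hn).hom
      (((T.fjι Y 0 i n (fjMk Y 0 (φ ⁻¹ᵁ (openCompl X U₁ {x.1}))
        (containsFj_preimage_U₀ Y X φ q U₁ x S hY₁ hS hfib hcov))).app M).hom a) =
      ((T.ptι Y y.1 i' n' (pieceIdx Y y.1 (φ ⁻¹ᵁ U₁) (hmem y.1 y.2))).app M).hom
        ((T.pull ((CYc).kap y) M i' n').hom ((T.res DYc M i n i' n' hiD hnD).hom a)) := by
  have c1 : ((CYc).kap y).hom ≫ (DYc).i ≫ (Y.resι (φ ⁻¹ᵁ U₁) (CYc).dimU).hom =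
      (pieceIdx Y y.1 (φ ⁻¹ᵁ U₁) (hmem y.1 y.2)).1.ι ≫ Y.ptSubι y.1 := by
    change ((CYc).kap y).hom ≫ (CYc).zι ≫ (φ ⁻¹ᵁ U₁).ι = (ptOpen Y y.1 (φ ⁻¹ᵁ U₁)).ι ≫ Y.ptSubι y.1
    rw [← Category.assoc, (CYc).kap_zι]
    exact morphismRestrict_ι _ _
  have c2 : (𝟙 (Y.res (φ ⁻¹ᵁ (openCompl X U₁ {x.1}))) :
      Y.res (φ ⁻¹ᵁ (openCompl X U₁ {x.1})) ⟶ Y.res (φ ⁻¹ᵁ (openCompl X U₁ {x.1}))).hom ≫
      (DYc).j.hom ≫ (Y.resι (φ ⁻¹ᵁ U₁) (CYc).dimU).hom =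
      (fjMk Y 0 (φ ⁻¹ᵁ (openCompl X U₁ {x.1}))
        (containsFj_preimage_U₀ Y X φ q U₁ x S hY₁ hS hfib hcov)).1.ι := by
    change 𝟙 _ ≫ Y.scheme.homOfLE (preimage_mono φ (openCompl_le X U₁ {x.1})) ≫ (φ ⁻¹ᵁ U₁).ι =
      (φ ⁻¹ᵁ (openCompl X U₁ {x.1})).ι
    rw [Category.id_comp, Scheme.homOfLE_ι]
  have hspec := Q'.cpt_spec ⟨y.1, hS y.1 y.2⟩ M i n i' n' hi hn (Y.resι (φ ⁻¹ᵁ U₁) (CYc).dimU) DYc
    (pieceIdx Y y.1 (φ ⁻¹ᵁ U₁) (hmem y.1 y.2)) ((CYc).kap y) c1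
    (fjMk Y 0 (φ ⁻¹ᵁ (openCompl X U₁ {x.1}))
      (containsFj_preimage_U₀ Y X φ q U₁ x S hY₁ hS hfib hcov))
    (𝟙 (Y.res (φ ⁻¹ᵁ (openCompl X U₁ {x.1})))) c2 hiD hnD
  have h1 := congrArg (fun ψ => ψ.hom a) hspec
  have h2 : (T.pull (𝟙 (Y.res (φ ⁻¹ᵁ (openCompl X U₁ {x.1})))) M i n).hom a = a := by
    rw [pull_id]; rfl
  change (Q'.cpt ⟨y.1, hS y.1 y.2⟩ M i n i' n' hi hn).hom
    (((T.fjι Y 0 i n (fjMk Y 0 (φ ⁻¹ᵁ (openCompl X U₁ {x.1}))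
      (containsFj_preimage_U₀ Y X φ q U₁ x S hY₁ hS hfib hcov))).app M).hom
    ((T.pull (𝟙 (Y.res (φ ⁻¹ᵁ (openCompl X U₁ {x.1})))) M i n).hom a)) = _ at h1
  rw [h2] at h1
  exact h1

open Classical in
include hxU₁ hne hmem hdisj hdimYX in
/-- The residue at `x` of the push-forward of a class from upstairs is the sum over the fibre of the
push-forwards of the residues upstairs. -/
theorem core (hred : HRed T) (Q : T.ResData X q) (Q' : T.ResData Y 0)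
    (G : ∀ y : ↥S, T.PtPush φ y.1 x.1) (M : A.Cat) (i n i₁ n₁ i₂ n₂ : ℤ)
    (h2 : i₂ = i₁ + 1 - 2 * ((q : ℤ) + 1)) (h2' : n₂ = n₁ - ((q : ℤ) + 1))
    (h4 : i₂ = i + 1 - 2 * (((0 : ℕ) : ℤ) + 1)) (h4' : n₂ = n - (((0 : ℕ) : ℤ) + 1))
    (hiU : i₁ = i + 2 * relCodim (Y.res (φ ⁻¹ᵁ (openCompl X U₁ {x.1}))).scheme
      (X.res (openCompl X U₁ {x.1})).scheme)
    (hnU : n₁ = n + relCodim (Y.res (φ ⁻¹ᵁ (openCompl X U₁ {x.1}))).scheme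
      (X.res (openCompl X U₁ {x.1})).scheme)
    (α₁ : T.gp (Y.res (φ ⁻¹ᵁ (openCompl X U₁ {x.1}))) M i n) :
    (Q.cpt x M i₁ n₁ i₂ n₂ h2 h2').hom
      (((T.fjι X q i₁ n₁ (fjMk X q (openCompl X U₁ {x.1})
        (containsFj_openCompl' hU₁ (hSx X q x)))).app M).hom
        ((T.push (X := Y.res (φ ⁻¹ᵁ (openCompl X U₁ {x.1}))) (Y := X.res (openCompl X U₁ {x.1}))
          (φ ∣_ openCompl X U₁ {x.1}) M i n i₁ n₁ hiU hnU).hom α₁)) =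
    ∑ y : ↥S, ((G y).cpt M i₂ n₂).hom
      ((Q'.cpt ⟨y.1, hS y.1 y.2⟩ M i n i₂ n₂ h4 h4').hom
        (((T.fjι Y 0 i n (fjMk Y 0 (φ ⁻¹ᵁ (openCompl X U₁ {x.1}))
          (containsFj_preimage_U₀ Y X φ q U₁ x S hY₁ hS hfib hcov))).app M).hom α₁)) := by
  have hcX := codim_CX X q U₁ x hU₁ hxU₁
  have hcY := codim_decY Y X φ q U₁ x S hne hY₁ hS hmem hdisj hfib hcov
  have hiX : i₂ = i₁ + 1 - 2 * (CXc).dec.codim := by rw [hcX]; exact h2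
  have hnX : n₂ = n₁ - (CXc).dec.codim := by rw [hcX]; exact h2'
  have hiY : i₂ = i + 1 - 2 * (DYc).codim := by rw [hcY]; exact h4
  have hnY : n₂ = n - (DYc).codim := by rw [hcY]; exact h4'
  have hrcP := relCodim_pc Y X φ q U₁ x hU₁ hxU₁ S hne hY₁ hS hmem hdisj hdimYX
  have hiP : ∀ y : ↥S, i₂ = i₂ + 2 * relCodim (pc Y (φ ⁻¹ᵁ U₁) y.1).scheme (pc X U₁ x.1).scheme :=
    fun y => by rw [hrcP y]; ring
  have hnP : ∀ y : ↥S, n₂ = n₂ + relCodim (pc Y (φ ⁻¹ᵁ U₁) y.1).scheme (pc X U₁ x.1).scheme :=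
    fun y => by rw [hrcP y]; ring
  have hL := resData_cpt_cfg Q CXc xp x.2 (containsFj_openCompl' hU₁ (hSx X q x)) M i₁ n₁ i₂ n₂
    h2 h2' hiX hnX
    ((T.push (X := Y.res (φ ⁻¹ᵁ (openCompl X U₁ {x.1}))) (Y := X.res (openCompl X U₁ {x.1}))
      (φ ∣_ openCompl X U₁ {x.1}) M i n i₁ n₁ hiU hnU).hom α₁)
  refine hL.trans ?_
  rw [core_geo Y X φ q U₁ x hU₁ hxU₁ S hne hY₁ hS hmem hdisj hfib hcov hdimYX hred M i n i₁ n₁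
    i₂ n₂ hiY hnY hiU hnU hiX hnX hiP hnP α₁, map_sum]
  refine Finset.sum_congr rfl fun y _ => ?_
  rw [resData_cpt_decY Y X φ q U₁ x S hne hY₁ hS hmem hdisj hfib hcov Q' y M i n i₂ n₂ h4 h4'
    hiY hnY α₁]
  have hG := (G y).cpt_spec M i₂ n₂ (pieceIdx Y y.1 (φ ⁻¹ᵁ U₁) (hmem y.1 y.2))
    (pieceIdx X x.1 U₁ hxU₁) (myc y) (my_fac Y X φ q U₁ x S hfib y) (hiP y) (hnP y)
  exact (congrArg (fun g => g.hom ((T.pull ((CYc).kap y) M i₂ n₂).hom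
    ((T.res DYc M i n i₂ n₂ hiY hnY).hom α₁))) hG).symm

end Core

end Groth.Agent.Lib.Helper23.BMFirst5
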