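import Mathlib
import Groth.Prelude.Def_BMCoh4
import Groth.Agent.Lib.Helper23.BMFirst5
import Groth.Agent.Lib.Helper23.BMFirst2

/-!
# First differential lemma, step 6: the residue at an arbitrary point of codimension `q + 1`
(helper23)
-/

set_option autoImplicit false
universe u
open CategoryTheory CategoryTheory.Limits AlgebraicGeometry Opposite TopologicalSpace Topology

namespace Groth.Agent.Lib.Helper23.BMFirst6

open BMCoh Groth.Agent.Lib.Helper23.BMObj Groth.Agent.Lib.Helper23.BMObj2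
  Groth.Agent.Lib.Helper23.BMColim Groth.Agent.Lib.Helper23.BMData
  Groth.Agent.Lib.Helper23.BMMulti Groth.Agent.Lib.Helper23.BMGeom
  Groth.Agent.Lib.Helper23.BMRes Groth.Agent.Lib.Helper23.BMRes2 Groth.Agent.Lib.Helper23.BMPart
  Groth.Agent.Lib.Helper23.BMPtMap Groth.Agent.Lib.Helper23.BMPtIso Groth.Agent.Lib.Helper23.BMFin
  Groth.Agent.Lib.Helper23.BMFirst2
  Groth.Agent.Lib.Helper23.BMFirst3 Groth.Agent.Lib.Helper23.BMFirst4
  Groth.Agent.Lib.Helper23.BMFirst5 Groth.Agent.Lib.Helper23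

variable {V : ObjectProperty Scheme.{u}} [BMCoh.IsConstructible V]
  {R : Type u} [CommRing R] {A : BMCoh.Coefs R} {T : BMCoh.PreTheory V R A}

section Restrict

variable (Y X : Obj V) (φ : Y.scheme ⟶ X.scheme) [IsProper φ]

/-- Base change of the push-forward along `φ` to a smaller open. -/
theorem pull_push_restrict {U U' : X.scheme.Opens} (h : U' ≤ U)
    (hd : WeilCoh.dim (U' : Scheme.{u}) = WeilCoh.dim (U : Scheme.{u}))
    (hd' : WeilCoh.dim ((φ ⁻¹ᵁ U' : Y.scheme.Opens) : Scheme.{u}) =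
      WeilCoh.dim ((φ ⁻¹ᵁ U : Y.scheme.Opens) : Scheme.{u}))
    (M : A.Cat) (i n i₁ n₁ : ℤ)
    (hi : i₁ = i + 2 * relCodim (Y.res (φ ⁻¹ᵁ U)).scheme (X.res U).scheme)
    (hn : n₁ = n + relCodim (Y.res (φ ⁻¹ᵁ U)).scheme (X.res U).scheme)
    (hi' : i₁ = i + 2 * relCodim (Y.res (φ ⁻¹ᵁ U')).scheme (X.res U').scheme)
    (hn' : n₁ = n + relCodim (Y.res (φ ⁻¹ᵁ U')).scheme (X.res U').scheme)
    (α : T.gp (Y.res (φ ⁻¹ᵁ U)) M i n) :
    (T.pull (X.resLE h hd) M i₁ n₁).hom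
      ((T.push (X := Y.res (φ ⁻¹ᵁ U)) (Y := X.res U) (φ ∣_ U) M i n i₁ n₁ hi hn).hom α) =
    (T.push (X := Y.res (φ ⁻¹ᵁ U')) (Y := X.res U') (φ ∣_ U') M i n i₁ n₁ hi' hn').hom
      ((T.pull (Y.resLE (preimage_mono φ h) hd') M i n).hom α) := by
  have hpp := T.push_pull (X := Y.res (φ ⁻¹ᵁ U)) (Y := X.res U) (X' := Y.res (φ ⁻¹ᵁ U'))
    (Y' := X.res U') (φ ∣_ U) (φ ∣_ U') (X.resLE h hd) (Y.resLE (preimage_mono φ h) hd')
    (isPullback_nested φ h) M i n i₁ n₁ hi hn hi' hn'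
  exact congrArg (fun g => g.hom α) hpp

end Restrict

section Component

variable (Y X : Obj V) (φ : Y.scheme ⟶ X.scheme) [IsFinite φ] (q : ℕ)
  (hdimYX : (WeilCoh.dim X.scheme : ℤ) - (WeilCoh.dim Y.scheme : ℤ) = (q : ℤ))
  (hpre : ∀ U' : X.scheme.Opens, ContainsFj X q U' → ContainsFj Y 0 (φ ⁻¹ᵁ U'))

include hdimYX in
theorem codim_fibre (x : X.cdPt (q + 1)) :
    ∀ y ∈ fibre Y X φ x.1, WeilCoh.codim Y.scheme y = 0 + 1 := by
  intro y hy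
  have h1 := pdim_map_eq Y X φ y
  rw [mem_fibre.mp hy] at h1
  have h2 := codim_cast X x.1
  rw [x.2] at h2
  have h3 := codim_cast Y y
  push_cast at h2
  omega

include hdimYX hpre in
theorem relCodim_pre (U' : X.scheme.Opens) (hU' : ContainsFj X q U') :
    relCodim (Y.res (φ ⁻¹ᵁ U')).scheme (X.res U').scheme = (q : ℤ) := by
  have h1 := dim_eq_of_containsFj X q U' hU'
  have h2 := dim_eq_of_containsFj Y 0 (φ ⁻¹ᵁ U') (hpre U' hU')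
  unfold relCodim
  change ((WeilCoh.dim (U' : Scheme.{u}) : ℤ)) -
    (WeilCoh.dim ((φ ⁻¹ᵁ U' : Y.scheme.Opens) : Scheme.{u}) : ℤ) = _
  rw [h1, h2]
  exact hdimYX

include hpre in
theorem dim_pre_eq {U U' : X.scheme.Opens} (hU : ContainsFj X q U) (hU' : ContainsFj X q U') :
    WeilCoh.dim ((φ ⁻¹ᵁ U' : Y.scheme.Opens) : Scheme.{u}) =
      WeilCoh.dim ((φ ⁻¹ᵁ U : Y.scheme.Opens) : Scheme.{u}) :=
  (dim_eq_of_containsFj Y 0 _ (hpre U' hU')).trans (dim_eq_of_containsFj Y 0 _ (hpre U hU)).symm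

theorem dim_eq' {U U' : X.scheme.Opens} (hU : ContainsFj X q U) (hU' : ContainsFj X q U') :
    WeilCoh.dim (U' : Scheme.{u}) = WeilCoh.dim (U : Scheme.{u}) :=
  (dim_eq_of_containsFj X q _ hU').trans (dim_eq_of_containsFj X q _ hU).symm

include hdimYX hpre in
/-- Passing to a smaller open containing `F_q X` for the class `ι (φ_* α)`. -/
theorem fjι_push_restrict {U U' : X.scheme.Opens} (hU : ContainsFj X q U)
    (hU' : ContainsFj X q U') (h : U' ≤ U) (M : A.Cat) (i n i₁ n₁ : ℤ)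
    (hi : i₁ = i + 2 * relCodim (Y.res (φ ⁻¹ᵁ U)).scheme (X.res U).scheme)
    (hn : n₁ = n + relCodim (Y.res (φ ⁻¹ᵁ U)).scheme (X.res U).scheme)
    (hi' : i₁ = i + 2 * relCodim (Y.res (φ ⁻¹ᵁ U')).scheme (X.res U').scheme)
    (hn' : n₁ = n + relCodim (Y.res (φ ⁻¹ᵁ U')).scheme (X.res U').scheme)
    (α : T.gp (Y.res (φ ⁻¹ᵁ U)) M i n) :
    ((T.fjι X q i₁ n₁ (fjMk X q U hU)).app M).hom
      ((T.push (X := Y.res (φ ⁻¹ᵁ U)) (Y := X.res U) (φ ∣_ U) M i n i₁ n₁ hi hn).hom α) =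
    ((T.fjι X q i₁ n₁ (fjMk X q U' hU')).app M).hom
      ((T.push (X := Y.res (φ ⁻¹ᵁ U')) (Y := X.res U') (φ ∣_ U') M i n i₁ n₁ hi' hn').hom
        ((T.pull (Y.resLE (preimage_mono φ h) (dim_pre_eq Y X φ q hpre hU hU')) M i n).hom α)) := by
  rw [← fjι_resLE_apply T X q M i₁ n₁ U U' hU hU' h (dim_eq' X q hU hU')]
  rw [pull_push_restrict Y X φ h (dim_eq' X q hU hU') (dim_pre_eq Y X φ q hpre hU hU') M i n i₁ n₁
    hi hn hi' hn' α]

include hdimYX hpre in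
/-- Case of a point with empty fibre: the residue vanishes. -/
theorem cpt_eq_zero_of_fibre_empty (Q : T.ResData X q) (U : X.scheme.Opens)
    (hU : ContainsFj X q U) (x : X.cdPt (q + 1)) (hxU : x.1 ∉ U)
    (hfe : ∀ p : Y.scheme, φ.base p ≠ x.1) (M : A.Cat) (i n i₁ n₁ i₂ n₂ : ℤ)
    (h2 : i₂ = i₁ + 1 - 2 * ((q : ℤ) + 1)) (h2' : n₂ = n₁ - ((q : ℤ) + 1))
    (hi : i₁ = i + 2 * relCodim (Y.res (φ ⁻¹ᵁ U)).scheme (X.res U).scheme)
    (hn : n₁ = n + relCodim (Y.res (φ ⁻¹ᵁ U)).scheme (X.res U).scheme)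
    (α : T.gp (Y.res (φ ⁻¹ᵁ U)) M i n) :
    (Q.cpt x M i₁ n₁ i₂ n₂ h2 h2').hom
      (((T.fjι X q i₁ n₁ (fjMk X q U hU)).app M).hom
        ((T.push (X := Y.res (φ ⁻¹ᵁ U)) (Y := X.res U) (φ ∣_ U) M i n i₁ n₁ hi hn).hom α)) = 0 := by
  have hBc : IsClosed (Set.range φ.base ∩ closure ({x.1} : Set X.scheme)) :=
    φ.isClosedMap.isClosed_range.inter isClosed_closure
  obtain ⟨U₁, hU₁, hxU₁, hle, hU₁B⟩ := exists_nbhd X q U hU x hxU _ hBc Set.inter_subset_right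
    (fun hx => by
      obtain ⟨p, hp⟩ := hx.1
      exact hfe p hp)
  have hU₀ : ContainsFj X q (openCompl X U₁ {x.1}) := containsFj_openCompl' hU₁ (hSx X q x)
  have hrc₀ := relCodim_pre Y X φ q hdimYX hpre _ hU₀
  have hrc₁ := relCodim_pre Y X φ q hdimYX hpre _ hU₁
  have hrcU := relCodim_pre Y X φ q hdimYX hpre _ hU
  rw [fjι_push_restrict Y X φ q hdimYX hpre hU hU₀ hle M i n i₁ n₁ hi hn
    (by rw [hrc₀, ← hrcU]; exact hi) (by rw [hrc₀, ← hrcU]; exact hn) α]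
  set α₁ := (T.pull (Y.resLE (preimage_mono φ hle) (dim_pre_eq Y X φ q hpre hU hU₀)) M i n).hom α
    with hα₁
  -- the preimages of `U₁` and of its part off the closure of `x` coincide
  have hge : φ ⁻¹ᵁ U₁ ≤ φ ⁻¹ᵁ (openCompl X U₁ {x.1}) := by
    intro p hp
    change φ.base p ∈ openCompl X U₁ {x.1}
    refine mem_openCompl.mpr ⟨hp, fun y hy hpy => ?_⟩
    rw [Finset.mem_singleton.mp hy] at hpy
    exact hU₁B _ hp ⟨⟨p, rfl⟩, hpy⟩
  obtain ⟨γ, hγ⟩ := (pull_resLE_bijective_of_eq T Y (preimage_mono φ (openCompl_le X U₁ {x.1}))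
    hge (dim_pre_eq Y X φ q hpre hU₁ hU₀) M i n).2 α₁
  have hpp := pull_push_restrict (T := T) Y X φ (openCompl_le X U₁ {x.1}) (dim_eq' X q hU₁ hU₀)
    (dim_pre_eq Y X φ q hpre hU₁ hU₀) M i n i₁ n₁
    (by rw [hrc₁, ← hrcU]; exact hi) (by rw [hrc₁, ← hrcU]; exact hn)
    (by rw [hrc₀, ← hrcU]; exact hi) (by rw [hrc₀, ← hrcU]; exact hn) γ
  rw [hγ] at hpp
  rw [← hpp]
  have hcX := codim_CX X q U₁ x hU₁ hxU₁
  have hiX : i₂ = i₁ + 1 - 2 * (CX X q U₁ x hU₁ hxU₁).dec.codim := by rw [hcX]; exact h2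
  have hnX : n₂ = n₁ - (CX X q U₁ x hU₁ hxU₁).dec.codim := by rw [hcX]; exact h2'
  have hL := resData_cpt_cfg Q (CX X q U₁ x hU₁ hxU₁) (xpt X q U₁ x hU₁ hxU₁) x.2 hU₀ M i₁ n₁ i₂ n₂
    h2 h2' hiX hnX
    ((T.pull (X.resLE (openCompl_le X U₁ {x.1}) (dim_eq' X q hU₁ hU₀)) M i₁ n₁).hom
      ((T.push (X := Y.res (φ ⁻¹ᵁ U₁)) (Y := X.res U₁) (φ ∣_ U₁) M i n i₁ n₁
        (by rw [hrc₁, ← hrcU]; exact hi) (by rw [hrc₁, ← hrcU]; exact hn)).hom γ))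
  refine hL.trans ?_
  have hz : (T.res (CX X q U₁ x hU₁ hxU₁).dec M i₁ n₁ i₂ n₂ hiX hnX).hom
      ((T.pull (X.resLE (openCompl_le X U₁ {x.1}) (dim_eq' X q hU₁ hU₀)) M i₁ n₁).hom
        ((T.push (X := Y.res (φ ⁻¹ᵁ U₁)) (Y := X.res U₁) (φ ∣_ U₁) M i n i₁ n₁
          (by rw [hrc₁, ← hrcU]; exact hi) (by rw [hrc₁, ← hrcU]; exact hn)).hom γ)) = 0 :=
    (T.exact_pull_res (CX X q U₁ x hU₁ hxU₁).dec M i₁ n₁ i₂ n₂ hiX hnX _).mpr ⟨_, rfl⟩
  rw [hz]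
  exact (congrArg _ (map_zero _)).trans (map_zero _)

open Classical in
include hpre in
/-- The residue at a point `x` of codimension `q + 1` of the class `ι (φ_* α)` is the sum over the
fibre of `x` of the push-forwards of the residues of the class of `α` upstairs. -/
theorem component (hred : HRed T) (Q : T.ResData X q) (Q' : T.ResData Y 0)
    (U : X.scheme.Opens) (hU : ContainsFj X q U) (x : X.cdPt (q + 1))
    (G : ∀ y : ↥(fibre Y X φ x.1), T.PtPush φ y.1 x.1) (M : A.Cat) (i n i₁ n₁ i₂ n₂ : ℤ)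
    (h2 : i₂ = i₁ + 1 - 2 * ((q : ℤ) + 1)) (h2' : n₂ = n₁ - ((q : ℤ) + 1))
    (h4 : i₂ = i + 1 - 2 * (((0 : ℕ) : ℤ) + 1)) (h4' : n₂ = n - (((0 : ℕ) : ℤ) + 1))
    (hi : i₁ = i + 2 * relCodim (Y.res (φ ⁻¹ᵁ U)).scheme (X.res U).scheme)
    (hn : n₁ = n + relCodim (Y.res (φ ⁻¹ᵁ U)).scheme (X.res U).scheme)
    (α : T.gp (Y.res (φ ⁻¹ᵁ U)) M i n) :
    (Q.cpt x M i₁ n₁ i₂ n₂ h2 h2').hom
      (((T.fjι X q i₁ n₁ (fjMk X q U hU)).app M).hom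
        ((T.push (X := Y.res (φ ⁻¹ᵁ U)) (Y := X.res U) (φ ∣_ U) M i n i₁ n₁ hi hn).hom α)) =
    ∑ y : ↥(fibre Y X φ x.1), ((G y).cpt M i₂ n₂).hom
      ((Q'.cpt ⟨y.1, codim_fibre Y X φ q hdimYX x y.1 y.2⟩ M i n i₂ n₂ h4 h4').hom
        (((T.fjι Y 0 i n (fjMk Y 0 (φ ⁻¹ᵁ U) (hpre U hU))).app M).hom α)) := by
  by_cases hxU : x.1 ∈ U
  · -- both sides vanish
    rw [resData_cpt_of_mem Q x U hU hxU M i₁ n₁ i₂ n₂ h2 h2']
    symm
    refine Finset.sum_eq_zero fun y _ => ?_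
    have hyU : y.1 ∈ φ ⁻¹ᵁ U := by
      change φ.base y.1 ∈ U
      rw [mem_fibre.mp y.2]; exact hxU
    rw [resData_cpt_of_mem Q' ⟨y.1, codim_fibre Y X φ q hdimYX x y.1 y.2⟩ (φ ⁻¹ᵁ U) (hpre U hU)
      hyU M i n i₂ n₂ h4 h4', map_zero]
  · by_cases hfe : (fibre Y X φ x.1).Nonempty
    · -- the main case
      obtain ⟨B, hBc, hBx, hxB, hBprop⟩ := exists_bad Y X φ x.1
      obtain ⟨U₁, hU₁, hxU₁, hle, hU₁B⟩ := exists_nbhd X q U hU x hxU B hBc hBx hxB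
      obtain ⟨hdisj, hcov⟩ := hBprop U₁ hU₁B
      have hU₀ : ContainsFj X q (openCompl X U₁ {x.1}) := containsFj_openCompl' hU₁ (hSx X q x)
      have hrc₀ := relCodim_pre Y X φ q hdimYX hpre _ hU₀
      have hrcU := relCodim_pre Y X φ q hdimYX hpre _ hU
      have hmem : ∀ y ∈ fibre Y X φ x.1, y ∈ φ ⁻¹ᵁ U₁ := by
        intro y hy
        change φ.base y ∈ U₁
        rw [mem_fibre.mp hy]; exact hxU₁
      rw [fjι_push_restrict Y X φ q hdimYX hpre hU hU₀ hle M i n i₁ n₁ hi hn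
        (by rw [hrc₀, ← hrcU]; exact hi) (by rw [hrc₀, ← hrcU]; exact hn) α]
      have hc := core Y X φ q U₁ x hU₁ hxU₁ (fibre Y X φ x.1) hfe (hpre U₁ hU₁)
        (codim_fibre Y X φ q hdimYX x) hmem hdisj (fun y hy => mem_fibre.mp hy) hcov hdimYX hred
        Q Q' G M i n i₁ n₁ i₂ n₂ h2 h2' h4 h4'
        (by rw [hrc₀, ← hrcU]; exact hi) (by rw [hrc₀, ← hrcU]; exact hn)
        ((T.pull (Y.resLE (preimage_mono φ hle) (dim_pre_eq Y X φ q hpre hU hU₀)) M i n).hom α)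
      refine hc.trans ?_
      refine Finset.sum_congr rfl fun y _ => ?_
      congr 2
      exact fjι_resLE_apply T Y 0 M i n (φ ⁻¹ᵁ U) (φ ⁻¹ᵁ (openCompl X U₁ {x.1})) (hpre U hU)
        (hpre _ hU₀) (preimage_mono φ hle) (dim_pre_eq Y X φ q hpre hU hU₀) α
    · -- empty fibre
      have hfe' : ∀ p : Y.scheme, φ.base p ≠ x.1 := fun p hp => hfe ⟨p, mem_fibre.mpr hp⟩
      rw [cpt_eq_zero_of_fibre_empty Y X φ q hdimYX hpre Q U hU x hxU hfe' M i n i₁ n₁ i₂ n₂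
        h2 h2' hi hn α]
      symm
      refine Finset.sum_eq_zero fun y _ => ?_
      exact (hfe ⟨y.1, y.2⟩).elim

end Component

end Groth.Agent.Lib.Helper23.BMFirst6
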