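import Mathlib
import Groth.Prelude.Def_BMCoh4
import Groth.Agent.Lib.Helper23.BMCl1
import Groth.Agent.Lib.Helper23.BMFirst6

/-!
# The Gysin decomposition of a closed immersion on opens, and the two extension steps (helper23)
-/

set_option autoImplicit false
universe u
open CategoryTheory CategoryTheory.Limits AlgebraicGeometry Opposite TopologicalSpace Topology

namespace Groth.Agent.Lib.Helper23.BMCl2

open BMCoh Groth.Agent.Lib.Helper23.BMObj Groth.Agent.Lib.Helper23.BMObj2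
  Groth.Agent.Lib.Helper23.BMColim Groth.Agent.Lib.Helper23.BMData
  Groth.Agent.Lib.Helper23.BMMulti Groth.Agent.Lib.Helper23.BMGeom
  Groth.Agent.Lib.Helper23.BMGysin Groth.Agent.Lib.Helper23.BMPtIso
  Groth.Agent.Lib.Helper23.BMFirst6 Groth.Agent.Lib.Helper23.BMCl1 Groth.Agent.Lib.Helper23

variable {V : ObjectProperty Scheme.{u}} [BMCoh.IsConstructible V]
  {R : Type u} [CommRing R] {A : BMCoh.Coefs R} {T : BMCoh.PreTheory V R A}

section Dec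

variable (Z X : Obj V) (ι : Z.scheme ⟶ X.scheme) [IsClosedImmersion ι]

/-- The decomposition of an open `U` of `X` into the trace of `Z` and its complement. -/
noncomputable abbrev clDec (U : X.scheme.Opens)
    (hd : WeilCoh.dim ((U ⊓ clCompl Z X ι : X.scheme.Opens) : Scheme.{u}) =
      WeilCoh.dim (U : Scheme.{u})) : Decomp (X.res U) where
  Z := Z.res (ι ⁻¹ᵁ U)
  U := X.res (U ⊓ clCompl Z X ι)
  i := ι ∣_ U
  closedImm := (inferInstance : IsClosedImmersion (ι ∣_ U))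
  j := X.resLE inf_le_left hd
  range_eq := by
    change Set.range (X.scheme.homOfLE (inf_le_left : U ⊓ clCompl Z X ι ≤ U)) =
      (Set.range (ι ∣_ U))ᶜ
    rw [range_homOfLE, range_morphismRestrict]
    ext u
    simp only [Set.mem_setOf_eq]
    constructor
    · intro h
      exact (mem_clCompl Z X ι u.1).mp h.2
    · intro h
      exact ⟨u.2, (mem_clCompl Z X ι u.1).mpr h⟩

variable (c : ℕ) (hdim : WeilCoh.dim Z.scheme + c = WeilCoh.dim X.scheme) (hc : 0 < c) (m : ℕ)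

include hdim hc in
theorem dim_inf_clCompl (U : X.scheme.Opens) (hU : ContainsFj X (c + m) U) :
    WeilCoh.dim ((U ⊓ clCompl Z X ι : X.scheme.Opens) : Scheme.{u}) =
      WeilCoh.dim (U : Scheme.{u}) := by
  have h1 : ContainsFj X 0 (U ⊓ clCompl Z X ι) :=
    containsFj_inf (containsFj_mono X (Nat.zero_le _) U hU) (containsFj_clCompl Z X ι c hdim 0 hc)
  rw [dim_eq_of_containsFj X 0 _ h1, dim_eq_of_containsFj X (c + m) U hU]

include hdim in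
theorem relCodim_clDec (U : X.scheme.Opens) (hU : ContainsFj X (c + m) U) :
    relCodim (Z.res (ι ⁻¹ᵁ U)).scheme (X.res U).scheme = (c : ℤ) := by
  unfold relCodim
  change (WeilCoh.dim (U : Scheme.{u}) : ℤ) -
    (WeilCoh.dim ((ι ⁻¹ᵁ U : Z.scheme.Opens) : Scheme.{u}) : ℤ) = (c : ℤ)
  rw [dim_eq_of_containsFj X (c + m) U hU,
    dim_eq_of_containsFj Z m _ (containsFj_preimage Z X ι c hdim m U hU)]
  omega

end Dec

section Steps

variable (Z X : Obj V) (ι : Z.scheme ⟶ X.scheme) [IsClosedImmersion ι]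
  (c : ℕ) (hdim : WeilCoh.dim Z.scheme + c = WeilCoh.dim X.scheme) (hc : 0 < c) (m : ℕ)

include hdim in
/-- A class on an open containing `F_{c+m}X` which dies off `Z` dies on a smaller such open, if
`H(F_m Z)` vanishes in the relevant bidegree. -/
theorem inj_step (M : A.Cat) (i n i' n' : ℤ) (hi : i = i' + 2 * (c : ℤ)) (hn : n = n' + (c : ℤ))
    (hzero : IsZero (T.fjGp Z m M i' n'))
    (U₀ : X.scheme.Opens) (hU₀ : ContainsFj X (c + m) U₀) (a₀ : T.gp (X.res U₀) M i n)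
    (hd : WeilCoh.dim ((U₀ ⊓ clCompl Z X ι : X.scheme.Opens) : Scheme.{u}) =
      WeilCoh.dim (U₀ : Scheme.{u}))
    (ha₀ : (T.pull (X.resLE (inf_le_left : U₀ ⊓ clCompl Z X ι ≤ U₀) hd) M i n).hom a₀ = 0) :
    ∃ (U₂ : X.scheme.Opens) (_ : ContainsFj X (c + m) U₂) (h : U₂ ≤ U₀)
      (hd₂ : WeilCoh.dim (U₂ : Scheme.{u}) = WeilCoh.dim (U₀ : Scheme.{u})),
      (T.pull (X.resLE h hd₂) M i n).hom a₀ = 0 := by
  have hrc := relCodim_clDec Z X ι c hdim m U₀ hU₀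
  have hi' : i = i' + 2 * relCodim (clDec Z X ι U₀ hd).Z.scheme (X.res U₀).scheme := by
    change i = i' + 2 * relCodim (Z.res (ι ⁻¹ᵁ U₀)).scheme (X.res U₀).scheme
    rw [hrc]; exact hi
  have hn' : n = n' + relCodim (clDec Z X ι U₀ hd).Z.scheme (X.res U₀).scheme := by
    change n = n' + relCodim (Z.res (ι ⁻¹ᵁ U₀)).scheme (X.res U₀).scheme
    rw [hrc]; exact hn
  have hex := exact_push_pull' T (clDec Z X ι U₀ hd) M i n i' n' hi' hn'
  obtain ⟨b, hb⟩ := (hex a₀).mp ha₀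
  have hZU₀ := containsFj_preimage Z X ι c hdim m U₀ hU₀
  haveI := ModuleCat.subsingleton_of_isZero hzero
  have hb0 : ((T.fjι Z m i' n' (fjMk Z m (ι ⁻¹ᵁ U₀) hZU₀)).app M).hom b = 0 :=
    Subsingleton.elim _ _
  obtain ⟨W', hW', hle, hdW, hbW⟩ := (fjι_eq_zero_iff T Z m M i' n' (ι ⁻¹ᵁ U₀) hZU₀ b).mp hb0
  have hU₂ : ContainsFj X (c + m) (U₀ ⊓ clOpen Z X ι W') :=
    containsFj_inf hU₀ (containsFj_clOpen Z X ι c hdim m W' hW')
  have hd₂ : WeilCoh.dim ((U₀ ⊓ clOpen Z X ι W' : X.scheme.Opens) : Scheme.{u}) =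
      WeilCoh.dim (U₀ : Scheme.{u}) :=
    (dim_eq_of_containsFj X _ _ hU₂).trans (dim_eq_of_containsFj X _ _ hU₀).symm
  refine ⟨U₀ ⊓ clOpen Z X ι W', hU₂, inf_le_left, hd₂, ?_⟩
  rw [← hb]
  have hZU₂ := containsFj_preimage Z X ι c hdim m _ hU₂
  have hdZ : WeilCoh.dim ((ι ⁻¹ᵁ (U₀ ⊓ clOpen Z X ι W') : Z.scheme.Opens) : Scheme.{u}) =
      WeilCoh.dim ((ι ⁻¹ᵁ U₀ : Z.scheme.Opens) : Scheme.{u}) :=
    (dim_eq_of_containsFj Z m _ hZU₂).trans (dim_eq_of_containsFj Z m _ hZU₀).symm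
  have hrc₂ := relCodim_clDec Z X ι c hdim m _ hU₂
  refine (pull_push_restrict Z X ι (inf_le_left : U₀ ⊓ clOpen Z X ι W' ≤ U₀) hd₂ hdZ M i' n' i n
    (by rw [hrc]; exact hi) (by rw [hrc]; exact hn) (by rw [hrc₂]; exact hi)
    (by rw [hrc₂]; exact hn) b).trans ?_
  have hle₂ : ι ⁻¹ᵁ (U₀ ⊓ clOpen Z X ι W') ≤ W' :=
    (preimage_mono ι (inf_le_right : U₀ ⊓ clOpen Z X ι W' ≤ clOpen Z X ι W')).trans
      (preimage_clOpen_le Z X ι W')
  have hd3 : WeilCoh.dim ((ι ⁻¹ᵁ (U₀ ⊓ clOpen Z X ι W') : Z.scheme.Opens) : Scheme.{u}) =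
      WeilCoh.dim (W' : Scheme.{u}) := hdZ.trans hdW.symm
  have hcomp : Z.resLE (preimage_mono ι (inf_le_left : U₀ ⊓ clOpen Z X ι W' ≤ U₀)) hdZ =
      Z.resLE hle₂ hd3 ≫ Z.resLE hle hdW := (resLE_comp Z hle₂ hle hd3 hdW).symm
  rw [hcomp, pull_comp_apply, hbW, map_zero, map_zero]

theorem containsFj_top (k : ℕ) : ContainsFj X k (⊤ : X.scheme.Opens) := fun _ _ => trivial

include hdim hc in
/-- A class on the complement of `Z` extends to an open containing `F_{c+m}X`, if `H(F_m Z)`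
vanishes in the relevant bidegree. -/
theorem surj_step (M : A.Cat) (i n i' n' : ℤ) (hi : i' = i + 1 - 2 * (c : ℤ))
    (hn : n' = n - (c : ℤ)) (hzero : IsZero (T.fjGp Z m M i' n'))
    (hd : WeilCoh.dim (((⊤ : X.scheme.Opens) ⊓ clCompl Z X ι : X.scheme.Opens) : Scheme.{u}) =
      WeilCoh.dim ((⊤ : X.scheme.Opens) : Scheme.{u}))
    (a : T.gp (X.res (⊤ ⊓ clCompl Z X ι)) M i n) :
    ∃ (U₂ : X.scheme.Opens) (_ : ContainsFj X (c + m) U₂)
      (hd₂ : WeilCoh.dim ((U₂ ⊓ clCompl Z X ι : X.scheme.Opens) : Scheme.{u}) =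
        WeilCoh.dim (U₂ : Scheme.{u}))
      (hd₃ : WeilCoh.dim ((U₂ ⊓ clCompl Z X ι : X.scheme.Opens) : Scheme.{u}) =
        WeilCoh.dim (((⊤ : X.scheme.Opens) ⊓ clCompl Z X ι : X.scheme.Opens) : Scheme.{u}))
      (a₂ : T.gp (X.res U₂) M i n),
      (T.pull (X.resLE (inf_le_left : U₂ ⊓ clCompl Z X ι ≤ U₂) hd₂) M i n).hom a₂ =
        (T.pull (X.resLE (inf_le_inf_right _ le_top : U₂ ⊓ clCompl Z X ι ≤ ⊤ ⊓ clCompl Z X ι)
          hd₃) M i n).hom a := by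
  have hTop := containsFj_top X (c + m)
  have hrc := relCodim_clDec Z X ι c hdim m ⊤ hTop
  have hiD : i' = i + 1 - 2 * (clDec Z X ι ⊤ hd).codim := by
    change i' = i + 1 - 2 * relCodim (Z.res (ι ⁻¹ᵁ ⊤)).scheme (X.res ⊤).scheme
    rw [hrc]; exact hi
  have hnD : n' = n - (clDec Z X ι ⊤ hd).codim := by
    change n' = n - relCodim (Z.res (ι ⁻¹ᵁ ⊤)).scheme (X.res ⊤).scheme
    rw [hrc]; exact hn
  have hZTop := containsFj_preimage Z X ι c hdim m ⊤ hTop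
  haveI := ModuleCat.subsingleton_of_isZero hzero
  have hr0 : ((T.fjι Z m i' n' (fjMk Z m (ι ⁻¹ᵁ ⊤) hZTop)).app M).hom
      ((T.res (clDec Z X ι ⊤ hd) M i n i' n' hiD hnD).hom a) = 0 := Subsingleton.elim _ _
  obtain ⟨W', hW', hle, hdW, hrW⟩ := (fjι_eq_zero_iff T Z m M i' n' (ι ⁻¹ᵁ ⊤) hZTop _).mp hr0
  have hU₂ : ContainsFj X (c + m) (clOpen Z X ι W') := containsFj_clOpen Z X ι c hdim m W' hW'
  have hF0 : ∀ U : X.scheme.Opens, ContainsFj X (c + m) U → ContainsFj X 0 (U ⊓ clCompl Z X ι) :=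
    fun U hU => containsFj_inf (containsFj_mono X (Nat.zero_le _) U hU)
      (containsFj_clCompl Z X ι c hdim 0 hc)
  have hd₂ : WeilCoh.dim ((clOpen Z X ι W' ⊓ clCompl Z X ι : X.scheme.Opens) : Scheme.{u}) =
      WeilCoh.dim (clOpen Z X ι W' : Scheme.{u}) :=
    (dim_eq_of_containsFj X 0 _ (hF0 _ hU₂)).trans (dim_eq_of_containsFj X _ _ hU₂).symm
  have hd₃ : WeilCoh.dim ((clOpen Z X ι W' ⊓ clCompl Z X ι : X.scheme.Opens) : Scheme.{u}) =
      WeilCoh.dim (((⊤ : X.scheme.Opens) ⊓ clCompl Z X ι : X.scheme.Opens) : Scheme.{u}) :=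
    (dim_eq_of_containsFj X 0 _ (hF0 _ hU₂)).trans (dim_eq_of_containsFj X 0 _ (hF0 _ hTop)).symm
  have hrc₂ := relCodim_clDec Z X ι c hdim m _ hU₂
  have hiD₂ : i' = i + 1 - 2 * (clDec Z X ι (clOpen Z X ι W') hd₂).codim := by
    change i' = i + 1 - 2 * relCodim (Z.res (ι ⁻¹ᵁ (clOpen Z X ι W'))).scheme
      (X.res (clOpen Z X ι W')).scheme
    rw [hrc₂]; exact hi
  have hnD₂ : n' = n - (clDec Z X ι (clOpen Z X ι W') hd₂).codim := by
    change n' = n - relCodim (Z.res (ι ⁻¹ᵁ (clOpen Z X ι W'))).scheme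
      (X.res (clOpen Z X ι W')).scheme
    rw [hrc₂]; exact hn
  have hZU₂ := containsFj_preimage Z X ι c hdim m _ hU₂
  have hdg : WeilCoh.dim (clOpen Z X ι W' : Scheme.{u}) =
      WeilCoh.dim ((⊤ : X.scheme.Opens) : Scheme.{u}) :=
    (dim_eq_of_containsFj X _ _ hU₂).trans (dim_eq_of_containsFj X _ _ hTop).symm
  have hdZ : WeilCoh.dim ((ι ⁻¹ᵁ (clOpen Z X ι W') : Z.scheme.Opens) : Scheme.{u}) =
      WeilCoh.dim ((ι ⁻¹ᵁ ⊤ : Z.scheme.Opens) : Scheme.{u}) :=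
    (dim_eq_of_containsFj Z m _ hZU₂).trans (dim_eq_of_containsFj Z m _ hZTop).symm
  have hrp := T.res_pull (clDec Z X ι ⊤ hd) (clDec Z X ι (clOpen Z X ι W') hd₂)
    (X.resLE (le_top : clOpen Z X ι W' ≤ ⊤) hdg)
    (Z.resLE (preimage_mono ι (le_top : clOpen Z X ι W' ≤ ⊤)) hdZ)
    (X.resLE (inf_le_inf_right _ le_top : clOpen Z X ι W' ⊓ clCompl Z X ι ≤ ⊤ ⊓ clCompl Z X ι) hd₃)
    (isPullback_nested ι (le_top : clOpen Z X ι W' ≤ ⊤)).w
    (by rw [resLE_comp, resLE_comp])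
    M i n i' n' hiD hnD hiD₂ hnD₂
  have hrp' := congrArg (fun g => g.hom a) hrp
  simp only [ModuleCat.hom_comp, LinearMap.comp_apply] at hrp'
  have hle₂ : ι ⁻¹ᵁ (clOpen Z X ι W') ≤ W' := preimage_clOpen_le Z X ι W'
  have hd4 : WeilCoh.dim ((ι ⁻¹ᵁ (clOpen Z X ι W') : Z.scheme.Opens) : Scheme.{u}) =
      WeilCoh.dim (W' : Scheme.{u}) := hdZ.trans hdW.symm
  have hcomp : Z.resLE (preimage_mono ι (le_top : clOpen Z X ι W' ≤ ⊤)) hdZ =
      Z.resLE hle₂ hd4 ≫ Z.resLE hle hdW := (resLE_comp Z hle₂ hle hd4 hdW).symm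
  rw [hcomp, pull_comp_apply, hrW, map_zero] at hrp'
  obtain ⟨a₂, ha₂⟩ := (T.exact_pull_res (clDec Z X ι (clOpen Z X ι W') hd₂) M i n i' n' hiD₂ hnD₂
    _).mp hrp'.symm
  exact ⟨clOpen Z X ι W', hU₂, hd₂, hd₃, a₂, ha₂⟩

end Steps

end Groth.Agent.Lib.Helper23.BMCl2
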