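import Mathlib
import Groth.Prelude.Def_BMCoh4
import Groth.Agent.Lib.Helper23.BMCl2

/-!
# Bijectivity of `H(F_{j+1+m}X) → H(F_jX)` from vanishing on closed subschemes (helper23)
-/

set_option autoImplicit false
universe u
open CategoryTheory CategoryTheory.Limits AlgebraicGeometry Opposite TopologicalSpace Topology

namespace Groth.Agent.Lib.Helper23.BMCl3

open BMCoh Groth.Agent.Lib.Helper23.BMObj Groth.Agent.Lib.Helper23.BMObj2
  Groth.Agent.Lib.Helper23.BMColim Groth.Agent.Lib.Helper23.BMData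
  Groth.Agent.Lib.Helper23.BMMulti Groth.Agent.Lib.Helper23.BMGeom
  Groth.Agent.Lib.Helper23.BMGysin Groth.Agent.Lib.Helper23.BMPtIso
  Groth.Agent.Lib.Helper23.BMFirst6 Groth.Agent.Lib.Helper23.BMCl1
  Groth.Agent.Lib.Helper23.BMCl2 Groth.Agent.Lib.Helper23

variable {V : ObjectProperty Scheme.{u}} [BMCoh.IsConstructible V]
  {R : Type u} [CommRing R] {A : BMCoh.Coefs R} (T : BMCoh.PreTheory V R A)

section Generic

variable (X : Obj V) (M : A.Cat) {j k : ℕ} (hjk : j ≤ k) (i n : ℤ)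

/-- Bijectivity of the restriction map from the two extension properties. -/
theorem bijective_of_steps
    (hI : ∀ (U₀ : X.scheme.Opens) (_ : ContainsFj X k U₀) (a₀ : T.gp (X.res U₀) M i n)
      (U₁ : X.scheme.Opens) (_ : ContainsFj X j U₁) (h : U₁ ≤ U₀)
      (hd : WeilCoh.dim (U₁ : Scheme.{u}) = WeilCoh.dim (U₀ : Scheme.{u})),
      (T.pull (X.resLE h hd) M i n).hom a₀ = 0 →
      ∃ (U₂ : X.scheme.Opens) (_ : ContainsFj X k U₂) (h₂ : U₂ ≤ U₀)
        (hd₂ : WeilCoh.dim (U₂ : Scheme.{u}) = WeilCoh.dim (U₀ : Scheme.{u})),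
        (T.pull (X.resLE h₂ hd₂) M i n).hom a₀ = 0)
    (hS : ∀ (U₀ : X.scheme.Opens) (_ : ContainsFj X j U₀) (a₀ : T.gp (X.res U₀) M i n),
      ∃ (U₂ : X.scheme.Opens) (_ : ContainsFj X k U₂) (a₂ : T.gp (X.res U₂) M i n)
        (U₃ : X.scheme.Opens) (_ : ContainsFj X j U₃) (h₂ : U₃ ≤ U₂) (h₀ : U₃ ≤ U₀)
        (hd₂ : WeilCoh.dim (U₃ : Scheme.{u}) = WeilCoh.dim (U₂ : Scheme.{u}))
        (hd₀ : WeilCoh.dim (U₃ : Scheme.{u}) = WeilCoh.dim (U₀ : Scheme.{u})),
        (T.pull (X.resLE h₂ hd₂) M i n).hom a₂ = (T.pull (X.resLE h₀ hd₀) M i n).hom a₀) :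
    Function.Bijective ((T.fjRes X hjk i n).app M).hom := by
  constructor
  · rw [injective_iff_map_eq_zero]
    intro α hα
    obtain ⟨U₀, hU₀, a₀, rfl⟩ := fj_exists_rep T X k M i n α
    rw [fjRes_fjι_apply] at hα
    obtain ⟨U₁, hU₁, h, hd, h0⟩ := (fjι_eq_zero_iff T X j M i n U₀
      (containsFj_mono X hjk U₀ hU₀) a₀).mp hα
    obtain ⟨U₂, hU₂, h₂, hd₂, h2⟩ := hI U₀ hU₀ a₀ U₁ hU₁ h hd h0
    rw [← fjι_resLE_apply T X k M i n U₀ U₂ hU₀ hU₂ h₂ hd₂, h2, map_zero]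
  · intro a
    obtain ⟨U₀, hU₀, a₀, rfl⟩ := fj_exists_rep T X j M i n a
    obtain ⟨U₂, hU₂, a₂, U₃, hU₃, h₂, h₀, hd₂, hd₀, heq⟩ := hS U₀ hU₀ a₀
    refine ⟨((T.fjι X k i n (fjMk X k U₂ hU₂)).app M).hom a₂, ?_⟩
    rw [fjRes_fjι_apply]
    rw [← fjι_resLE_apply T X j M i n U₂ U₃ (containsFj_mono X hjk U₂ hU₂) hU₃ h₂ hd₂, heq,
      fjι_resLE_apply T X j M i n U₀ U₃ hU₀ hU₃ h₀ hd₀]

end Generic

section Geo

variable (X : Obj V) (j : ℕ)

/-- A closed subset all of whose points have codimension at least `j + 1` lies in a reduced closed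
subscheme of codimension exactly `j + 1`, if `j + 1 ≤ dim X`. -/
theorem exists_closed_obj (hj : j + 1 ≤ WeilCoh.dim X.scheme) (F : Closeds X.scheme)
    (hF : ∀ x ∈ F, j + 1 ≤ WeilCoh.codim X.scheme x) :
    ∃ (Z : Obj V) (ι : Z.scheme ⟶ X.scheme) (_ : IsClosedImmersion ι) (_ : IsReduced Z.scheme),
      WeilCoh.dim Z.scheme + (j + 1) = WeilCoh.dim X.scheme ∧
        (F : Set X.scheme) ⊆ Set.range ι.base := by
  haveI : Nonempty X.scheme := by
    by_contra hne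
    rw [not_nonempty_iff] at hne
    have : WeilCoh.dim X.scheme = 0 := BMTop.natDim_eq_zero_of_isEmpty
    omega
  obtain ⟨x₀, hx₀⟩ := exists_pdim_eq X.scheme (finDim X) (WeilCoh.dim X.scheme - (j + 1))
    (Nat.sub_le _ _)
  have hcod₀ : WeilCoh.codim X.scheme x₀ = j + 1 := by
    unfold WeilCoh.codim
    rw [hx₀]
    omega
  let F' : Closeds X.scheme := F ⊔ ⟨closure {x₀}, isClosed_closure⟩
  have hF' : ∀ x ∈ F', j + 1 ≤ WeilCoh.codim X.scheme x := by
    intro x hx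
    rcases hx with hx | hx
    · exact hF x hx
    · have := codim_le_of_mem_closure X hx
      omega
  have hrange : Set.range (clObjι X F').base = (F' : Set X.scheme) := range_clObjι X F'
  refine ⟨clObj X F', clObjι X F', inferInstance, inferInstance, ?_, ?_⟩
  · have h1 : WeilCoh.dim (clObj X F').scheme ≤ WeilCoh.dim X.scheme - (j + 1) := by
      apply dim_le_of_clImm (clObj X F') X (clObjι X F')
      intro z
      have hz : (clObjι X F').base z ∈ (F' : Set X.scheme) := by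
        rw [← hrange]; exact ⟨z, rfl⟩
      have h2 := hF' _ hz
      unfold WeilCoh.codim at h2
      omega
    have h2 : WeilCoh.dim X.scheme - (j + 1) ≤ WeilCoh.dim (clObj X F').scheme := by
      have hx₀F : x₀ ∈ (F' : Set X.scheme) := Or.inr (subset_closure rfl)
      rw [← hrange] at hx₀F
      obtain ⟨z₀, hz₀⟩ := hx₀F
      have h3 := pdim_le_dim_clImm (clObj X F') X (clObjι X F') z₀
      rw [hz₀, hx₀] at h3
      exact h3
    omega
  · intro x hx
    rw [hrange]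
    exact Or.inl hx

end Geo

section Main

variable (X : Obj V) (M : A.Cat) (j m : ℕ) (i n : ℤ)

theorem fjRes_bijective_of_closed_isZero (hjm : j ≤ j + 1 + m)
    (hZ : ∀ (Z : Obj V) (ι : Z.scheme ⟶ X.scheme) [IsClosedImmersion ι] [IsReduced Z.scheme],
      WeilCoh.dim Z.scheme + (j + 1) = WeilCoh.dim X.scheme →
      IsZero (T.fjGp Z m M (i - 2 * ((j : ℤ) + 1)) (n - ((j : ℤ) + 1))) ∧
        IsZero (T.fjGp Z m M (i + 1 - 2 * ((j : ℤ) + 1)) (n - ((j : ℤ) + 1)))) :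
    Function.Bijective ((T.fjRes X hjm i n).app M).hom := by
  have hcast : (((j + 1 : ℕ)) : ℤ) = (j : ℤ) + 1 := by push_cast; ring
  by_cases hj : j + 1 ≤ WeilCoh.dim X.scheme
  · -- the main case
    have hcompl : ∀ (U : X.scheme.Opens), ContainsFj X j U →
        ∀ x ∈ (⟨(U : Set X.scheme)ᶜ, U.isOpen.isClosed_compl⟩ : Closeds X.scheme),
          j + 1 ≤ WeilCoh.codim X.scheme x := by
      intro U hU x hx
      by_contra hlt
      exact hx (hU x (by omega))
    apply bijective_of_steps T X M hjm i n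
    · intro U₀ hU₀ a₀ U₁ hU₁ h hd h0
      obtain ⟨Z, ι, hι, hred, hdim, hsub⟩ := exists_closed_obj X j hj _ (hcompl U₁ hU₁)
      have hle : clCompl Z X ι ≤ U₁ := by
        intro x hx
        by_contra hxU
        exact hx (hsub hxU)
      have hd0 := dim_inf_clCompl Z X ι (j + 1) hdim (Nat.succ_pos j) m U₀ hU₀
      have hle₁ : U₀ ⊓ clCompl Z X ι ≤ U₁ := inf_le_right.trans hle
      have hd1 : WeilCoh.dim ((U₀ ⊓ clCompl Z X ι : X.scheme.Opens) : Scheme.{u}) =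
          WeilCoh.dim (U₁ : Scheme.{u}) := hd0.trans hd.symm
      have hcomp : X.resLE (inf_le_left : U₀ ⊓ clCompl Z X ι ≤ U₀) hd0 =
          X.resLE hle₁ hd1 ≫ X.resLE h hd := (resLE_comp X hle₁ h hd1 hd).symm
      exact inj_step Z X ι (j + 1) hdim m M i n (i - 2 * ((j : ℤ) + 1)) (n - ((j : ℤ) + 1))
        (by rw [hcast]; ring) (by rw [hcast]; ring) (hZ Z ι hdim).1 U₀ hU₀ a₀ hd0
        (by rw [hcomp, pull_comp_apply, h0, map_zero])
    · intro U₀ hU₀ a₀
      obtain ⟨Z, ι, hι, hred, hdim, hsub⟩ := exists_closed_obj X j hj _ (hcompl U₀ hU₀)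
      have hle : clCompl Z X ι ≤ U₀ := by
        intro x hx
        by_contra hxU
        exact hx (hsub hxU)
      have hTop := containsFj_top X (j + 1 + m)
      have hd0 := dim_inf_clCompl Z X ι (j + 1) hdim (Nat.succ_pos j) m ⊤ hTop
      have hle₀ : (⊤ : X.scheme.Opens) ⊓ clCompl Z X ι ≤ U₀ := inf_le_right.trans hle
      have hd1 : WeilCoh.dim (((⊤ : X.scheme.Opens) ⊓ clCompl Z X ι : X.scheme.Opens) :
          Scheme.{u}) = WeilCoh.dim (U₀ : Scheme.{u}) :=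
        (hd0.trans (dim_eq_of_containsFj X _ _ hTop)).trans
          (dim_eq_of_containsFj X j U₀ hU₀).symm
      obtain ⟨U₂, hU₂, hd₂, hd₃, a₂, ha₂⟩ := surj_step Z X ι (j + 1) hdim (Nat.succ_pos j) m M i n
        (i + 1 - 2 * ((j : ℤ) + 1)) (n - ((j : ℤ) + 1)) (by rw [hcast]) (by rw [hcast])
        (hZ Z ι hdim).2 hd0 ((T.pull (X.resLE hle₀ hd1) M i n).hom a₀)
      have hU₃ : ContainsFj X j (U₂ ⊓ clCompl Z X ι) :=
        containsFj_inf (containsFj_mono X hjm U₂ hU₂)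
          (containsFj_clCompl Z X ι (j + 1) hdim j (Nat.lt_succ_self j))
      refine ⟨U₂, hU₂, a₂, U₂ ⊓ clCompl Z X ι, hU₃, inf_le_left,
        (inf_le_inf_right _ le_top).trans hle₀, hd₂, hd₃.trans hd1, ?_⟩
      rw [ha₂, ← pull_comp_apply, resLE_comp]
  · -- the degenerate case: every point has codimension at most `j`
    have hall : ∀ U : X.scheme.Opens, ContainsFj X j U → ContainsFj X (j + 1 + m) U := by
      intro U hU x _
      apply hU
      unfold WeilCoh.codim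
      omega
    apply bijective_of_steps T X M hjm i n
    · intro U₀ hU₀ a₀ U₁ hU₁ h hd h0
      exact ⟨U₁, hall U₁ hU₁, h, hd, h0⟩
    · intro U₀ hU₀ a₀
      exact ⟨U₀, hall U₀ hU₀, a₀, U₀, hU₀, le_rfl, le_rfl, rfl, rfl, rfl⟩

end Main

end Groth.Agent.Lib.Helper23.BMCl3
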