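import Mathlib
import Groth.Prelude.Def_BMCoh4
import Groth.Agent.Lib.Helper23.BMPtIso
import Groth.Agent.Lib.Helper23.BMData

/-!
# First differential lemma, step 1: representatives (helper23)
-/

set_option autoImplicit false
universe u
open CategoryTheory AlgebraicGeometry Opposite TopologicalSpace Topology

namespace Groth.Agent.Lib.Helper23.BMFirst1

open BMCoh Groth.Agent.Lib.Helper23.BMObj Groth.Agent.Lib.Helper23.BMColim
  Groth.Agent.Lib.Helper23.BMObj2 Groth.Agent.Lib.Helper23.BMData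
  Groth.Agent.Lib.Helper23.BMPtMap Groth.Agent.Lib.Helper23.BMPtIso Groth.Agent.Lib.Helper23

variable {V : ObjectProperty Scheme.{u}} [BMCoh.IsConstructible V]
  {R : Type u} [CommRing R] {A : BMCoh.Coefs R} {T : BMCoh.PreTheory V R A}

section Irr

variable (Y : Obj V) [IsIntegral Y.scheme]

theorem pdim_genericPoint : WeilCoh.pdim Y.scheme (genericPoint Y.scheme) = WeilCoh.dim Y.scheme := by
  have h : closure ({genericPoint Y.scheme} : Set Y.scheme) = Set.univ :=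
    (genericPoint_spec Y.scheme).def
  unfold WeilCoh.pdim WeilCoh.dim WeilCoh.natDim
  rw [h]
  rw [IsHomeomorph.topologicalKrullDim_eq _ (Homeomorph.Set.univ Y.scheme).isHomeomorph]

theorem eq_genericPoint_of_codim_zero (y : Y.scheme) (hy : WeilCoh.codim Y.scheme y ≤ 0) :
    y = genericPoint Y.scheme := by
  by_contra hne
  have h1 := codim_lt_of_specializes Y (genericPoint_specializes y) hne
  omega

theorem containsFj_zero_of_mem (O : Y.scheme.Opens) (h : genericPoint Y.scheme ∈ O) :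
    ContainsFj Y 0 O := by
  intro y hy
  rw [eq_genericPoint_of_codim_zero Y y hy]
  exact h

end Irr

section Rep

variable (Y X : Obj V) (φ : Y.scheme ⟶ X.scheme) [IsProper φ] [IsIntegral Y.scheme]
  (q : ℕ) (w : X.cdPt q) (L : T.PtPush φ (genericPoint Y.scheme) w.1)

include L in
theorem containsFj_zero_preimage (U : X.scheme.Opens) (hwU : w.1 ∈ U) :
    ContainsFj Y 0 (φ ⁻¹ᵁ U) := by
  apply containsFj_zero_of_mem
  change φ.base (genericPoint Y.scheme) ∈ U
  rw [L.maps_pt]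
  exact hwU

include L in
theorem dim_sub : (WeilCoh.dim X.scheme : ℤ) - (WeilCoh.dim Y.scheme : ℤ) = (q : ℤ) := by
  have h1 := L.codim_eq
  unfold relCodim at h1
  rw [dim_ptSub, dim_ptSub, pdim_genericPoint] at h1
  have h2 := codim_cast X w.1
  rw [w.2] at h2
  omega

include L in
theorem relCodim_preimage (U : X.scheme.Opens) (hU : ContainsFj X q U) (hwU : w.1 ∈ U) :
    relCodim (Y.res (φ ⁻¹ᵁ U)).scheme (X.res U).scheme = (q : ℤ) := by
  have h1 := dim_eq_of_containsFj X q U hU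
  have h2 := dim_eq_of_containsFj Y 0 (φ ⁻¹ᵁ U) (containsFj_zero_preimage Y X φ q w L U hwU)
  unfold relCodim
  change ((WeilCoh.dim (U : Scheme.{u}) : ℤ)) - (WeilCoh.dim ((φ ⁻¹ᵁ U : Y.scheme.Opens) : Scheme.{u}) : ℤ) = _
  rw [h1, h2]
  exact dim_sub Y X φ q w L

variable (hη : WeilCoh.codim Y.scheme (genericPoint Y.scheme) = 0)
  (P : T.PushData X q) (P' : T.PushData Y 0)

/-- Representatives: the class `ι_w (L a)` and the class `ι'_η a` come from one class on the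
preimage of an open `U ⊇ F_q X`. -/
theorem exists_rep (M : A.Cat) (i n i₁ n₁ : ℤ) (h1 : i₁ = i + 2 * (q : ℤ))
    (h1' : n₁ = n + (q : ℤ)) (h3 : i = i + 2 * ((0 : ℕ) : ℤ)) (h3' : n = n + ((0 : ℕ) : ℤ))
    (a : T.ptGp Y (genericPoint Y.scheme) M i n) :
    ∃ (U : X.scheme.Opens) (hU : ContainsFj X q U) (hwU : w.1 ∈ U)
      (α : T.gp (Y.res (φ ⁻¹ᵁ U)) M i n)
      (hi : i₁ = i + 2 * relCodim (Y.res (φ ⁻¹ᵁ U)).scheme (X.res U).scheme)
      (hn : n₁ = n + relCodim (Y.res (φ ⁻¹ᵁ U)).scheme (X.res U).scheme),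
      (P.cpt w M i n i₁ n₁ h1 h1').hom ((L.cpt M i n).hom a) =
        ((T.fjι X q i₁ n₁ (fjMk X q U hU)).app M).hom
          ((T.push (X := Y.res (φ ⁻¹ᵁ U)) (Y := X.res U) (φ ∣_ U) M i n i₁ n₁ hi hn).hom α) ∧
      (P'.cpt ⟨genericPoint Y.scheme, hη⟩ M i n i n h3 h3').hom a =
        ((T.fjι Y 0 i n (fjMk Y 0 (φ ⁻¹ᵁ U)
          (containsFj_zero_preimage Y X φ q w L U hwU))).app M).hom α := by
  obtain ⟨W_a, α₀, rfl⟩ := ocolim_exists_rep T (Y.ptSub (genericPoint Y.scheme))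
    (fun U => (U : Set (Y.ptSub (genericPoint Y.scheme)).scheme).Nonempty) M i n a
  obtain ⟨W'₀, hgW'₀, -, hpre₀⟩ := exists_piece_le Y X φ (genericPoint Y.scheme) w.1 L.maps_pt
    L.codim_eq W_a ⊤ trivial
  obtain ⟨U, hU, hwU, hUW'₀⟩ := exists_shrink X q w.1 w.2 W'₀ ⟨_, hgW'₀⟩
  have hgW' : genericPoint (X.ptSub w.1).scheme ∈ ptOpen X w.1 U := by
    change (X.ptSubι w.1).base (genericPoint _) ∈ U
    rw [ptSubι_genericPoint]; exact hwU
  refine ⟨U, hU, hwU, ?_⟩
  -- the piece of the closure of the generic point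
  have hWle : (pieceY Y X φ (genericPoint Y.scheme) w.1 L.maps_pt (ptOpen X w.1 U) hgW').1 ≤ W_a.1 :=
    (preimage_mono _ hUW'₀).trans hpre₀
  have hdimW : WeilCoh.dim ((pieceY Y X φ (genericPoint Y.scheme) w.1 L.maps_pt
      (ptOpen X w.1 U) hgW').1 : Scheme.{u}) = WeilCoh.dim (W_a.1 : Scheme.{u}) :=
    (pieceY Y X φ (genericPoint Y.scheme) w.1 L.maps_pt (ptOpen X w.1 U) hgW').2.2.trans
      W_a.2.2.symm
  have hrep := ocolimι_resLE_apply T (Y.ptSub (genericPoint Y.scheme))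
    (fun U => (U : Set (Y.ptSub (genericPoint Y.scheme)).scheme).Nonempty) M i n (U := W_a)
    (U' := pieceY Y X φ (genericPoint Y.scheme) w.1 L.maps_pt (ptOpen X w.1 U) hgW') hWle hdimW α₀
  set αW := (T.pull ((Y.ptSub (genericPoint Y.scheme)).resLE hWle hdimW) M i n).hom α₀ with hαW
  -- the map to the preimage of `U`
  have hrange : Set.range ((ptMap Y X φ (genericPoint Y.scheme) w.1 L.maps_pt ⁻¹ᵁ
      (ptOpen X w.1 U)).ι ≫ Y.ptSubι (genericPoint Y.scheme)).base ⊆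
      Set.range (φ ⁻¹ᵁ U).ι.base := by
    rintro _ ⟨p, rfl⟩
    rw [Scheme.Opens.range_ι]
    change φ.base ((Y.ptSubι (genericPoint Y.scheme)).base p.1) ∈ U
    have h := congrArg (fun f => f.base p.1) (ptMap_fac Y X φ (genericPoint Y.scheme) w.1 L.maps_pt)
    simp only [Scheme.Hom.comp_base, TopCat.hom_comp, ContinuousMap.comp_apply] at h
    rw [← h]
    exact p.2
  let f'' : ((ptMap Y X φ (genericPoint Y.scheme) w.1 L.maps_pt ⁻¹ᵁ (ptOpen X w.1 U) :
      (Y.ptSub (genericPoint Y.scheme)).scheme.Opens) : Scheme.{u}) ⟶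
      ((φ ⁻¹ᵁ U : Y.scheme.Opens) : Scheme.{u}) :=
    IsOpenImmersion.lift (φ ⁻¹ᵁ U).ι _ hrange
  have hf''fac : f'' ≫ (φ ⁻¹ᵁ U).ι = (ptMap Y X φ (genericPoint Y.scheme) w.1 L.maps_pt ⁻¹ᵁ
      (ptOpen X w.1 U)).ι ≫ Y.ptSubι (genericPoint Y.scheme) := IsOpenImmersion.lift_fac _ _ _
  have hkey : f'' ≫ (φ ∣_ U) =
      (ptMap Y X φ (genericPoint Y.scheme) w.1 L.maps_pt ∣_ (ptOpen X w.1 U)) ≫
        (X.ptSubι w.1 ∣_ U) := by
    rw [← cancel_mono U.ι, Category.assoc, Category.assoc, morphismRestrict_ι,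
      morphismRestrict_ι, ← Category.assoc, hf''fac, Category.assoc]
    exact (piece_fac Y X φ (genericPoint Y.scheme) w.1 L.maps_pt (ptOpen X w.1 U)).symm
  haveI : IsProper (f'' ≫ (φ ∣_ U)) := by rw [hkey]; infer_instance
  haveI : IsProper f'' := IsProper.of_comp f'' (φ ∣_ U)
  -- relative codimensions
  have hrcU := relCodim_preimage Y X φ q w L U hU hwU
  have hrcW' := relCodim_std w U hU hwU
  have hrcWW' : relCodim ((Y.ptSub (genericPoint Y.scheme)).res (ptMap Y X φ (genericPoint Y.scheme)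
      w.1 L.maps_pt ⁻¹ᵁ (ptOpen X w.1 U))).scheme
      ((X.ptSub w.1).res (ptOpen X w.1 U)).scheme = 0 :=
    relCodim_piece_eq_zero Y X (genericPoint Y.scheme) w.1 L.codim_eq
      (pieceY Y X φ (genericPoint Y.scheme) w.1 L.maps_pt (ptOpen X w.1 U) hgW')
      (pieceX X w.1 (ptOpen X w.1 U) hgW')
  have hrcWU : relCodim ((Y.ptSub (genericPoint Y.scheme)).res (ptMap Y X φ (genericPoint Y.scheme)
      w.1 L.maps_pt ⁻¹ᵁ (ptOpen X w.1 U))).scheme (X.res U).scheme = (q : ℤ) := by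
    unfold relCodim at hrcW' hrcWW' ⊢
    omega
  have hrcWUY : relCodim ((Y.ptSub (genericPoint Y.scheme)).res (ptMap Y X φ (genericPoint Y.scheme)
      w.1 L.maps_pt ⁻¹ᵁ (ptOpen X w.1 U))).scheme (Y.res (φ ⁻¹ᵁ U)).scheme = 0 := by
    unfold relCodim at hrcU hrcWU ⊢
    omega
  refine ⟨(T.push (X := (Y.ptSub (genericPoint Y.scheme)).res (ptMap Y X φ (genericPoint Y.scheme)
      w.1 L.maps_pt ⁻¹ᵁ (ptOpen X w.1 U))) (Y := Y.res (φ ⁻¹ᵁ U)) f'' M i n i n
      (by rw [hrcWUY]; ring) (by rw [hrcWUY]; ring)).hom αW,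
    by rw [hrcU]; exact h1, by rw [hrcU]; exact h1', ?_, ?_⟩
  · -- the push-forward side
    change (P.cpt w M i n i₁ n₁ h1 h1').hom ((L.cpt M i n).hom
      (((T.ptι Y (genericPoint Y.scheme) i n W_a).app M).hom α₀)) = _
    change ((T.ptι Y (genericPoint Y.scheme) i n (pieceY Y X φ (genericPoint Y.scheme) w.1
      L.maps_pt (ptOpen X w.1 U) hgW')).app M).hom αW = _ at hrep
    rw [← hrep]
    have hL := cpt_piece Y X φ (genericPoint Y.scheme) w.1 L (ptOpen X w.1 U) hgW' M i n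
      (by rw [hrcWW']; ring) (by rw [hrcWW']; ring)
    have hL' := congrArg (fun g => g.hom αW) hL
    simp only [ModuleCat.hom_comp, LinearMap.comp_apply] at hL'
    rw [hL']
    have hP := pushData_cpt_std P w M i n i₁ n₁ h1 h1' U hU hwU
      (by rw [hrcW']; exact h1) (by rw [hrcW']; exact h1')
    have hP' := congrArg (fun g => g.hom ((T.push (X := (Y.ptSub (genericPoint Y.scheme)).res
      (ptMap Y X φ (genericPoint Y.scheme) w.1 L.maps_pt ⁻¹ᵁ (ptOpen X w.1 U)))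
      (Y := (X.ptSub w.1).res (ptOpen X w.1 U))
      (ptMap Y X φ (genericPoint Y.scheme) w.1 L.maps_pt ∣_ (ptOpen X w.1 U)) M i n i n
      (by rw [hrcWW']; ring) (by rw [hrcWW']; ring)).hom αW)) hP
    simp only [ModuleCat.hom_comp, LinearMap.comp_apply] at hP'
    refine hP'.trans ?_
    congr 1
    have hc1 := T.push_comp (X := (Y.ptSub (genericPoint Y.scheme)).res
      (ptMap Y X φ (genericPoint Y.scheme) w.1 L.maps_pt ⁻¹ᵁ (ptOpen X w.1 U)))
      (Y := (X.ptSub w.1).res (ptOpen X w.1 U)) (Z := X.res U)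
      (ptMap Y X φ (genericPoint Y.scheme) w.1 L.maps_pt ∣_ (ptOpen X w.1 U))
      (X.ptSubι w.1 ∣_ U) M i n i n i₁ n₁ (by rw [hrcWW']; ring) (by rw [hrcWW']; ring)
      (by rw [hrcW']; exact h1) (by rw [hrcW']; exact h1')
      (by rw [hrcWU]; exact h1) (by rw [hrcWU]; exact h1')
    have hc2 := T.push_comp (X := (Y.ptSub (genericPoint Y.scheme)).res
      (ptMap Y X φ (genericPoint Y.scheme) w.1 L.maps_pt ⁻¹ᵁ (ptOpen X w.1 U)))
      (Y := Y.res (φ ⁻¹ᵁ U)) (Z := X.res U) f'' (φ ∣_ U) M i n i n i₁ n₁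
      (by rw [hrcWUY]; ring) (by rw [hrcWUY]; ring)
      (by rw [hrcU]; exact h1) (by rw [hrcU]; exact h1')
      (by rw [hrcWU]; exact h1) (by rw [hrcWU]; exact h1')
    have hc1' := congrArg (fun g => g.hom αW) hc1
    have hc2' := congrArg (fun g => g.hom αW) hc2
    simp only [ModuleCat.hom_comp, LinearMap.comp_apply] at hc1' hc2'
    rw [hc1', hc2']
    exact congrArg (fun g => g.hom αW) (push_congr' T
      (Y := (Y.ptSub (genericPoint Y.scheme)).res
        (ptMap Y X φ (genericPoint Y.scheme) w.1 L.maps_pt ⁻¹ᵁ (ptOpen X w.1 U)))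
      (Z := X.res U) _ _ hkey.symm M i n i₁ n₁ _ _)
  · -- the side of the normalisation
    change (P'.cpt ⟨genericPoint Y.scheme, hη⟩ M i n i n h3 h3').hom
      (((T.ptι Y (genericPoint Y.scheme) i n W_a).app M).hom α₀) = _
    change ((T.ptι Y (genericPoint Y.scheme) i n (pieceY Y X φ (genericPoint Y.scheme) w.1
      L.maps_pt (ptOpen X w.1 U) hgW')).app M).hom αW = _ at hrep
    rw [← hrep]
    have hQ := P'.cpt_spec ⟨genericPoint Y.scheme, hη⟩ M i n i n h3 h3'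
      (fjMk Y 0 (φ ⁻¹ᵁ U) (containsFj_zero_preimage Y X φ q w L U hwU))
      (pieceY Y X φ (genericPoint Y.scheme) w.1 L.maps_pt (ptOpen X w.1 U) hgW') f'' hf''fac
      (by rw [hrcWUY]; ring) (by rw [hrcWUY]; ring)
    exact congrArg (fun g => g.hom αW) hQ

end Rep

end Groth.Agent.Lib.Helper23.BMFirst1
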