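import Mathlib
import Groth.Prelude.Def_BMCoh4

/-!
# Components of the sum map induced by a family of push-forward data of groups of points (helper23)
-/

set_option autoImplicit false
universe u
open CategoryTheory AlgebraicGeometry Opposite DirectSum

namespace Groth.Agent.Lib.Helper23.BMFirst7

open BMCoh

variable {V : ObjectProperty Scheme.{u}} [BMCoh.IsConstructible V]
  {R : Type u} [CommRing R] {A : BMCoh.Coefs R} {T : BMCoh.PreTheory V R A}
  {Y X : Obj V} {φ : Y.scheme ⟶ X.scheme} {j k : ℕ}

/-- Transport of a push-forward datum along an equality of target points. -/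
def castPt {y : Y.scheme} {x' x : X.cdPt k} (h : x' = x) (Fy : T.PtPush φ y x'.1) :
    T.PtPush φ y x.1 := h ▸ Fy

theorem cast_cpt {y : Y.scheme} {x' x : X.cdPt k} (h : x' = x) (Fy : T.PtPush φ y x'.1)
    (M : A.Cat) (i n : ℤ) (v : T.ptGp Y y M i n) :
    (Eq.recOn h ((Fy.cpt M i n).hom v) : T.ptGp X x.1 M i n) =
      ((castPt h Fy).cpt M i n).hom v := by
  subst h
  rfl

open Classical in
/-- The component at `x` of the image of `b` under the sum map, as a sum over any finite set
containing the points mapped to `x`. -/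
theorem famTot_apply_eq (t : Y.cdPt j → X.cdPt k) (F : ∀ y : Y.cdPt j, T.PtPush φ y.1 (t y).1)
    (M : A.Cat) (i n : ℤ) (b : T.ptSum Y j M i n) (x : X.cdPt k) (E : Finset (Y.cdPt j))
    (hE : ∀ y, t y = x → y ∈ E) :
    (PreTheory.PtPush.famTot t F M i n).hom b x =
      ∑ y ∈ E, (if h : t y = x then ((castPt h (F y)).cpt M i n).hom (b y) else 0) := by
  have hb : b = ∑ y ∈ DFinsupp.support b,
      DirectSum.lof R (Y.cdPt j) (fun z : Y.cdPt j => T.ptGp Y z.1 M i n) y (b y) :=
    (DirectSum.sum_support_of (β := fun z : Y.cdPt j => T.ptGp Y z.1 M i n) b).symm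
  have hA : (PreTheory.PtPush.famTot t F M i n).hom b x =
      ∑ y ∈ DFinsupp.support b,
        (if h : t y = x then ((castPt h (F y)).cpt M i n).hom (b y) else 0) := by
    conv_lhs => rw [hb]
    rw [map_sum]
    rw [DFinsupp.finset_sum_apply]
    refine Finset.sum_congr rfl fun y _ => ?_
    rw [PreTheory.PtPush.famTot_lof, DirectSum.lof_eq_of, DirectSum.of_apply]
    split_ifs with h
    · exact cast_cpt h (F y) M i n (b y)
    · rfl
  rw [hA]
  have h1 : ∑ y ∈ DFinsupp.support b,
      (if h : t y = x then ((castPt h (F y)).cpt M i n).hom (b y) else 0) =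
      ∑ y ∈ DFinsupp.support b ∪ E,
        (if h : t y = x then ((castPt h (F y)).cpt M i n).hom (b y) else 0) := by
    apply Finset.sum_subset Finset.subset_union_left
    intro y _ hy
    have hby : b y = 0 := by
      by_contra hne
      exact hy (DFinsupp.mem_support_iff.mpr hne)
    split_ifs with h
    · rw [hby, map_zero]
    · rfl
  have h2 : ∑ y ∈ E,
      (if h : t y = x then ((castPt h (F y)).cpt M i n).hom (b y) else 0) =
      ∑ y ∈ DFinsupp.support b ∪ E,
        (if h : t y = x then ((castPt h (F y)).cpt M i n).hom (b y) else 0) := by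
    apply Finset.sum_subset Finset.subset_union_right
    intro y _ hy
    split_ifs with h
    · exact (hy (hE y h)).elim
    · rfl
  rw [h1, h2]

end Groth.Agent.Lib.Helper23.BMFirst7
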