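import Mathlib
import Groth.Prelude.Def_Curv2

/-!
# The normalisation of an integral scheme is an isomorphism over a dense open when it is of finite
type (helper23)
-/

set_option autoImplicit false
universe u
open CategoryTheory AlgebraicGeometry Opposite TopologicalSpace Topology

namespace Groth.Agent.Lib.Helper23.BMNorm

section Section

variable {N Z : Scheme.{u}} (ν : N ⟶ Z) [IsSeparated ν] [IsReduced N]

/-- A section over an open `W` of a separated morphism with reduced source, whose range is dense in the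
preimage of `W`, exhibits the restriction over `W` as an isomorphism. -/
theorem isIso_morphismRestrict_of_section (W : Z.Opens) (s : W.toScheme ⟶ N) (hs : s ≫ ν = W.ι)
    (hdense : ∀ O : N.Opens, O ≤ ν ⁻¹ᵁ W → (O : Set N).Nonempty →
      ((O : Set N) ∩ Set.range s.base).Nonempty) :
    IsIso (ν ∣_ W) := by
  have hrange : Set.range s.base ⊆ Set.range (ν ⁻¹ᵁ W).ι.base := by
    rintro _ ⟨p, rfl⟩
    rw [Scheme.Opens.range_ι]
    change ν.base (s.base p) ∈ W
    have h := congrArg (fun f => f.base p) hs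
    simp only [Scheme.Hom.comp_base, TopCat.hom_comp, ContinuousMap.comp_apply] at h
    rw [h]
    exact p.2
  let σ : W.toScheme ⟶ (ν ⁻¹ᵁ W).toScheme := IsOpenImmersion.lift (ν ⁻¹ᵁ W).ι s hrange
  have hσ : σ ≫ (ν ⁻¹ᵁ W).ι = s := IsOpenImmersion.lift_fac _ _ _
  have hσν : σ ≫ (ν ∣_ W) = 𝟙 _ := by
    rw [← cancel_mono W.ι, Category.assoc, morphismRestrict_ι, ← Category.assoc, hσ, hs,
      Category.id_comp]
  haveI : IsSeparated (ν ∣_ W) := MorphismProperty.of_isPullback
    (isPullback_morphismRestrict ν W).flip inferInstance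
  haveI : IsClosedImmersion (σ ≫ (ν ∣_ W)) := by rw [hσν]; infer_instance
  haveI : IsClosedImmersion σ := IsClosedImmersion.of_comp σ (ν ∣_ W)
  haveI : Surjective σ := by
    constructor
    have hcl : IsClosed (Set.range σ.base) := σ.isClosedEmbedding.isClosed_range
    have hd : Dense (Set.range σ.base) := by
      rw [dense_iff_inter_open]
      intro O hO hOne
      let O' : N.Opens := (ν ⁻¹ᵁ W).ι ''ᵁ ⟨O, hO⟩
      have hO'le : O' ≤ ν ⁻¹ᵁ W := by
        rintro _ ⟨q, -, rfl⟩
        exact q.2
      obtain ⟨q, hq⟩ := hOne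
      obtain ⟨_, ⟨q', hq'O, rfl⟩, ⟨p, hp⟩⟩ := hdense O' hO'le ⟨_, ⟨q, hq, rfl⟩⟩
      refine ⟨q', hq'O, p, ?_⟩
      apply (ν ⁻¹ᵁ W).ι.isOpenEmbedding.injective
      have h5 : (σ ≫ (ν ⁻¹ᵁ W).ι).base p = s.base p := by rw [hσ]
      exact h5.trans hp
    rw [← Set.range_eq_univ, ← hcl.closure_eq]
    exact hd.closure_eq
  haveI : IsIso σ := isIso_of_isClosedImmersion_of_surjective σ
  haveI : IsIso (σ ≫ (ν ∣_ W)) := by rw [hσν]; infer_instance
  exact IsIso.of_isIso_comp_left σ (ν ∣_ W)

end Section

section Norm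

variable (Z : Scheme.{u}) [IsIntegral Z]
  [QuasiCompact (Z.fromSpecStalk (genericPoint Z))]
  [QuasiSeparated (Z.fromSpecStalk (genericPoint Z))]

/-- If the normalisation of an integral scheme is of finite type, it is an isomorphism over a
neighbourhood of the generic point. -/
theorem exists_open_isIso_normalization [LocallyOfFiniteType (Curv2.normalizationι Z)] :
    ∃ U : Z.Opens, genericPoint Z ∈ U ∧ ∀ W : Z.Opens, W ≤ U → genericPoint Z ∈ W →
      IsIso (Curv2.normalizationι Z ∣_ W) := by
  have hν : Curv2.normalizationι Z = (Z.fromSpecStalk (genericPoint Z)).fromNormalization := rfl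
  haveI : LocallyOfFiniteType (Z.fromSpecStalk (genericPoint Z)).fromNormalization :=
    inferInstanceAs (LocallyOfFiniteType (Curv2.normalizationι Z))
  have hfac : (Z.fromSpecStalk (genericPoint Z)).toNormalization ≫ (Z.fromSpecStalk (genericPoint Z)).fromNormalization = Z.fromSpecStalk (genericPoint Z) ≫ 𝟙 Z := by
    rw [Category.comp_id]; exact (Z.fromSpecStalk (genericPoint Z)).toNormalization_fromNormalization
  obtain ⟨U, hηU, s, hs1, hs2⟩ :=
    spread_out_of_isGermInjective' (𝟙 Z) (Z.fromSpecStalk (genericPoint Z)).fromNormalization (Z.fromSpecStalk (genericPoint Z)).toNormalization hfac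
  rw [Category.comp_id] at hs2
  refine ⟨U, hηU, fun W hWU hηW => ?_⟩
  rw [hν]
  haveI : IsSeparated (Z.fromSpecStalk (genericPoint Z)).fromNormalization := inferInstance
  haveI : IsReduced (Z.fromSpecStalk (genericPoint Z)).normalization := inferInstance
  refine isIso_morphismRestrict_of_section (Z.fromSpecStalk (genericPoint Z)).fromNormalization W (Z.homOfLE hWU ≫ s)
    (by rw [Category.assoc, hs2, Scheme.homOfLE_ι]) ?_
  intro O hO hOne
  have hdom : DenseRange (Z.fromSpecStalk (genericPoint Z)).toNormalization.base := (Z.fromSpecStalk (genericPoint Z)).toNormalization.denseRange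
  obtain ⟨_, hqO, ⟨p, rfl⟩⟩ := hdom.inter_open_nonempty _ O.2 hOne
  refine ⟨_, hqO, ?_⟩
  -- the point `U.fromSpecStalkOfMem p` lies in `W`
  set q := (U.fromSpecStalkOfMem (genericPoint Z) hηU).base p with hq
  have hqspec : (U.ι.base q) ⤳ genericPoint Z := by
    have h1 : U.ι.base q = (Z.fromSpecStalk (genericPoint Z)).base p := by
      rw [← Scheme.Opens.fromSpecStalkOfMem_ι U (genericPoint Z) hηU]
      rfl
    have h2 : (Z.fromSpecStalk (genericPoint Z)).base p ∈
        Set.range (Z.fromSpecStalk (genericPoint Z)).base := ⟨p, rfl⟩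
    rw [Scheme.range_fromSpecStalk] at h2
    rw [h1]
    exact h2
  have hqW : U.ι.base q ∈ W := hqspec.mem_open W.2 hηW
  refine ⟨⟨U.ι.base q, hqW⟩, ?_⟩
  have h3 : (Z.homOfLE hWU).base ⟨U.ι.base q, hqW⟩ = q := by
    apply U.ι.isOpenEmbedding.injective
    have := congrArg (fun g => g.base ⟨U.ι.base q, hqW⟩) (Z.homOfLE_ι hWU)
    simp only [Scheme.Hom.comp_base, TopCat.hom_comp, ContinuousMap.comp_apply] at this
    rw [this]
    rfl
  change s.base ((Z.homOfLE hWU).base ⟨U.ι.base q, hqW⟩) = _
  rw [h3, hq, hs1]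
  rfl

end Norm

end Groth.Agent.Lib.Helper23.BMNorm
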