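import Mathlib
import Groth.Prelude.Def_BMCoh3
import Groth.Agent.Lib.Helper23.BMBig

/-!
# Level zero: a reduced object is generically the disjoint union of pieces of its top-dimensional
components (helper23)
-/

set_option autoImplicit false
universe u
open CategoryTheory CategoryTheory.Limits AlgebraicGeometry Opposite TopologicalSpace Topology

namespace Groth.Agent.Lib.Helper23.BMZero

open BMCoh BMObj BMColim BMObj2 BMPart BMMulti BMGeom BMData BMRes2 BMRes3

noncomputable section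

variable {V : ObjectProperty Scheme.{u}} [BMCoh.IsConstructible V]

/-- A level-zero configuration: an open `U` of full dimension covered by the closures of finitely many
points of codimension `0`, pairwise disjoint in `U`. -/
structure Cfg0 (X : Obj V) where
  U : X.scheme.Opens
  S : Finset X.scheme
  mem : ∀ y ∈ S, y ∈ U
  disj : PDisj X U S
  cod : ∀ y ∈ S, WeilCoh.codim X.scheme y = 0
  cover : ∀ p ∈ U, ∃ y ∈ S, p ∈ closure ({y} : Set X.scheme)
  dimU : WeilCoh.dim (U : Scheme.{u}) = WeilCoh.dim X.scheme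

namespace Cfg0

variable {X : Obj V} (C : Cfg0 X)

theorem pdim_eq (y : ↥C.S) : WeilCoh.pdim X.scheme y.1 = WeilCoh.dim X.scheme := by
  have h1 := codim_cast X y.1
  rw [C.cod y.1 y.2] at h1
  have h2 := pdim_le_dim X y.1
  omega

theorem dim_pc (y : ↥C.S) : WeilCoh.dim (pc X C.U y.1).scheme = WeilCoh.dim (X.res C.U).scheme := by
  change WeilCoh.dim ((ptOpen X y.1 C.U : (X.ptSub y.1).scheme.Opens) : Scheme.{u}) =
    WeilCoh.dim (C.U : Scheme.{u})
  rw [dim_ptOpen (C.mem y.1 y.2), C.pdim_eq y, C.dimU]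

/-- The range of a piece is open in `U`. -/
theorem isOpen_range_pcι (y : ↥C.S) : IsOpen (Set.range (pcι X C.U y.1)) := by
  classical
  rw [range_pcι]
  have hcompl : (C.U.ι ⁻¹' closure ({y.1} : Set X.scheme))ᶜ =
      C.U.ι ⁻¹' (⋃ y' ∈ C.S.erase y.1, closure ({y'} : Set X.scheme)) := by
    ext p
    simp only [Set.mem_compl_iff, Set.mem_preimage, Set.mem_iUnion]
    constructor
    · intro hp
      obtain ⟨y', hy', hpy'⟩ := C.cover (C.U.ι p) p.2
      refine ⟨y', Finset.mem_erase.mpr ⟨?_, hy'⟩, hpy'⟩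
      rintro rfl
      exact hp hpy'
    · rintro ⟨y', hy', hpy'⟩ hpy
      obtain ⟨hne, hy'S⟩ := Finset.mem_erase.mp hy'
      exact C.disj y.1 y.2 y' hy'S (Ne.symm hne) (C.U.ι p) p.2 hpy hpy'
  have hcl : IsClosed (C.U.ι ⁻¹' (⋃ y' ∈ C.S.erase y.1, closure ({y'} : Set X.scheme))) :=
    ((Finset.finite_toSet _).isClosed_biUnion fun _ _ => isClosed_closure).preimage
      C.U.ι.continuous
  rw [← hcompl] at hcl
  have := hcl.isOpen_compl
  rwa [compl_compl] at this

variable [IsReduced X.scheme]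

/-- On a reduced object, the pieces of a level-zero configuration are open subschemes of `U`. -/
theorem isOpenImmersion_pcι (y : ↥C.S) : IsOpenImmersion (pcι X C.U y.1) := by
  let E : (X.res C.U).scheme.Opens := ⟨Set.range (pcι X C.U y.1), C.isOpen_range_pcι y⟩
  have hsub : Set.range (pcι X C.U y.1) ⊆ Set.range E.ι := by
    rw [Scheme.Opens.range_ι]
    exact fun _ h => h
  let g := IsOpenImmersion.lift E.ι (pcι X C.U y.1) hsub
  have hfac : g ≫ E.ι = pcι X C.U y.1 := IsOpenImmersion.lift_fac _ _ _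
  haveI : IsClosedImmersion (g ≫ E.ι) := by rw [hfac]; infer_instance
  haveI : IsClosedImmersion g := IsClosedImmersion.of_comp g E.ι
  haveI : Surjective g := by
    refine ⟨fun e => ?_⟩
    obtain ⟨z, hz⟩ := e.2
    refine ⟨z, ?_⟩
    apply E.ι.isOpenEmbedding.injective
    rw [← Scheme.Hom.comp_apply, hfac]
    exact hz
  haveI : IsIso g := isIso_of_isClosedImmersion_of_surjective g
  rw [← hfac]
  infer_instance

/-- The inclusion of a piece, as a morphism of objects. -/
def kap (y : ↥C.S) : pc X C.U y.1 ⟶ X.res C.U :=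
  ⟨pcι X C.U y.1, C.isOpenImmersion_pcι y, C.dim_pc y⟩

instance (y : ↥C.S) : IsClosedImmersion (C.kap y).hom :=
  (inferInstance : IsClosedImmersion (pcι X C.U y.1))

theorem kap_disj (y y' : ↥C.S) (h : y ≠ y') :
    Disjoint (Set.range (C.kap y).hom) (Set.range (C.kap y').hom) := by
  change Disjoint (Set.range (pcι X C.U y.1)) (Set.range (pcι X C.U y'.1))
  rw [range_pcι, range_pcι, Set.disjoint_left]
  intro p hp hp'
  exact C.disj y.1 y.2 y'.1 y'.2 (fun hh => h (Subtype.ext hh)) (C.U.ι p) p.2 hp hp'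

theorem kap_cover : ⋃ y, Set.range (C.kap y).hom = Set.univ := by
  apply Set.eq_univ_of_forall
  intro p
  obtain ⟨y, hy, hpy⟩ := C.cover (C.U.ι p) p.2
  refine Set.mem_iUnion.mpr ⟨⟨y, hy⟩, ?_⟩
  change p ∈ Set.range (pcι X C.U y)
  rw [range_pcι]
  exact hpy

end Cfg0

section Exists

variable (X : Obj V)

open Classical in
/-- Geometry at level zero. -/
theorem exists_cfg0 (U₀ : X.scheme.Opens) (hU₀ : ContainsFj X 0 U₀) :
    ∃ C : Cfg0 X, C.U ≤ U₀ ∧ ContainsFj X 0 C.U := by
  haveI := isNoetherian X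
  obtain ⟨G, hG⟩ := exists_finset_points (α := X.scheme) (F := Set.univ) isClosed_univ
  let S : Finset X.scheme := G.filter (fun g => WeilCoh.codim X.scheme g = 0)
  let B1 : Set X.scheme := ⋃ g ∈ G.filter (fun g => WeilCoh.codim X.scheme g ≠ 0),
    closure ({g} : Set X.scheme)
  let B2 : Set X.scheme := ⋃ y ∈ S, ⋃ y' ∈ S.filter (fun y' => y ≠ y'),
    (closure ({y} : Set X.scheme) ∩ closure ({y'} : Set X.scheme))
  have hB1 : IsClosed B1 :=
    (Finset.finite_toSet _).isClosed_biUnion fun _ _ => isClosed_closure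
  have hB2 : IsClosed B2 :=
    (Finset.finite_toSet _).isClosed_biUnion fun _ _ =>
      (Finset.finite_toSet _).isClosed_biUnion fun _ _ => isClosed_closure.inter isClosed_closure
  let U : X.scheme.Opens := U₀ ⊓ ⟨(B1 ∪ B2)ᶜ, (hB1.union hB2).isOpen_compl⟩
  have hScod : ∀ y ∈ S, WeilCoh.codim X.scheme y = 0 := fun y hy => (Finset.mem_filter.mp hy).2
  have hUF : ContainsFj X 0 U := by
    intro p hp
    refine ⟨hU₀ p hp, ?_⟩
    intro hpB
    rcases hpB with hp1 | hp2
    · obtain ⟨g, hg, hpg⟩ := Set.mem_iUnion₂.mp hp1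
      obtain ⟨hgG, hgne⟩ := Finset.mem_filter.mp hg
      have h2 := codim_le_of_mem_closure X hpg
      omega
    · obtain ⟨y, hy, hp2'⟩ := Set.mem_iUnion₂.mp hp2
      obtain ⟨y', hy', hpy, hpy'⟩ := Set.mem_iUnion₂.mp hp2'
      obtain ⟨hy'S, hne⟩ := Finset.mem_filter.mp hy'
      by_cases hpe : p = y
      · subst hpe
        have := codim_lt_of_mem_closure X hpy' hne
        rw [hScod p hy, hScod y' hy'S] at this
        exact lt_irrefl _ this
      · have := codim_lt_of_mem_closure X hpy hpe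
        rw [hScod y hy] at this
        omega
  have hdisj : PDisj X U S := by
    intro y hy y' hy' hne p hpU hpy hpy'
    apply hpU.2
    right
    exact Set.mem_iUnion₂.mpr ⟨y, hy, Set.mem_iUnion₂.mpr
      ⟨y', Finset.mem_filter.mpr ⟨hy', hne⟩, hpy, hpy'⟩⟩
  have hcover : ∀ p ∈ U, ∃ y ∈ S, p ∈ closure ({y} : Set X.scheme) := by
    intro p hpU
    have : p ∈ (Set.univ : Set X.scheme) := trivial
    rw [hG] at this
    obtain ⟨g, hg, hpg⟩ := Set.mem_iUnion₂.mp this
    by_cases hgc : WeilCoh.codim X.scheme g = 0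
    · exact ⟨g, Finset.mem_filter.mpr ⟨hg, hgc⟩, hpg⟩
    · exfalso
      apply hpU.2
      left
      exact Set.mem_iUnion₂.mpr ⟨g, Finset.mem_filter.mpr ⟨hg, hgc⟩, hpg⟩
  exact ⟨⟨U, S, fun y hy => hUF y (le_of_eq (hScod y hy)), hdisj, hScod, hcover,
    dim_eq_of_containsFj X 0 U hUF⟩, inf_le_left, hUF⟩

/-- Restricting a level-zero configuration to a smaller open containing `F_0 X`. -/
abbrev Cfg0.restrict {X : Obj V} (C : Cfg0 X) (U' : X.scheme.Opens) (h : U' ≤ C.U)
    (hU' : ContainsFj X 0 U') : Cfg0 X where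
  U := U'
  S := C.S
  mem := fun y hy => hU' y (le_of_eq (C.cod y hy))
  disj := C.disj.mono X h
  cod := C.cod
  cover := fun p hp => C.cover p (h hp)
  dimU := dim_eq_of_containsFj X 0 U' hU'

end Exists

section Compat

variable {X : Obj V} [IsReduced X.scheme] (C : Cfg0 X)

omit [IsReduced X.scheme] in
theorem dimU'_eq (U' : X.scheme.Opens) (hU' : ContainsFj X 0 U') :
    WeilCoh.dim (U' : Scheme.{u}) = WeilCoh.dim (C.U : Scheme.{u}) :=
  (dim_eq_of_containsFj X 0 U' hU').trans C.dimU.symm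

omit [IsReduced X.scheme] in
theorem dim_pc_restrict (U' : X.scheme.Opens) (hU' : ContainsFj X 0 U') (y : ↥C.S) :
    WeilCoh.dim ((ptOpen X y.1 U' : (X.ptSub y.1).scheme.Opens) : Scheme.{u}) =
      WeilCoh.dim ((ptOpen X y.1 C.U : (X.ptSub y.1).scheme.Opens) : Scheme.{u}) :=
  dim_ptOpen_eq X (C.mem y.1 y.2) (hU' y.1 (le_of_eq (C.cod y.1 y.2)))

/-- Compatibility of the pieces of a level-zero configuration and of its restriction. -/
theorem kap_restrict (U' : X.scheme.Opens) (h : U' ≤ C.U) (hU' : ContainsFj X 0 U') (y : ↥C.S) :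
    (C.restrict U' h hU').kap y ≫ X.resLE h (dimU'_eq C U' hU') =
      (X.ptSub y.1).resLE (ptOpen_mono h) (dim_pc_restrict C U' hU' y) ≫ C.kap y :=
  Hom.ext (morphismRestrict_homOfLE (X.ptSubι y.1) U' C.U h)

end Compat

end

end Groth.Agent.Lib.Helper23.BMZero
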