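import Mathlib
import Groth.Prelude.Def_BMCoh3
import Groth.Agent.Lib.Helper23.BMZero

/-!
# Level zero: vanishing of the groups of `F_0 X` from vanishing of the groups of the generic points (helper23)
-/

set_option autoImplicit false
universe u
open CategoryTheory CategoryTheory.Limits AlgebraicGeometry Opposite TopologicalSpace Topology

namespace Groth.Agent.Lib.Helper23.BMZero2

open BMCoh BMObj BMColim BMObj2 BMPart BMMulti BMGeom BMData BMRes BMRes2 BMRes3 BMZero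

noncomputable section

variable {V : ObjectProperty Scheme.{u}} [BMCoh.IsConstructible V]
variable {R : Type u} [CommRing R] {A : BMCoh.Coefs R} (T : BMCoh.PreTheory V R A)

/-- On a reduced object, a class on an open containing `F_0 X` whose restrictions to the generic
points of the top-dimensional components vanish dies in `H(F_0 X)`. -/
theorem fjι_zero_eq_zero_of_pt (X : Obj V) [IsReduced X.scheme] (M : A.Cat) (i n : ℤ)
    (U₀ : X.scheme.Opens) (hU₀ : ContainsFj X 0 U₀) (a₀ : T.gp (X.res U₀) M i n)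
    (hpt : ∀ (C : Cfg0 X) (hle : C.U ≤ U₀)
      (hd : WeilCoh.dim (C.U : Scheme.{u}) = WeilCoh.dim (U₀ : Scheme.{u})) (y : ↥C.S),
      ((T.ptι X y.1 i n (pieceIdx X y.1 C.U (C.mem y.1 y.2))).app M).hom
        ((T.pull (C.kap y) M i n).hom ((T.pull (X.resLE hle hd) M i n).hom a₀)) = 0) :
    ((T.fjι X 0 i n (fjMk X 0 U₀ hU₀)).app M).hom a₀ = 0 := by
  classical
  obtain ⟨C, hCle, hCF⟩ := exists_cfg0 X U₀ hU₀
  have hdC : WeilCoh.dim (C.U : Scheme.{u}) = WeilCoh.dim (U₀ : Scheme.{u}) :=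
    C.dimU.trans (dim_eq_of_containsFj X 0 U₀ hU₀).symm
  rw [← fjι_resLE_apply T X 0 M i n U₀ C.U hU₀ hCF hCle hdC a₀]
  have hq : ∀ y : ↥C.S, ∃ (W' : ptIdx X y.1) (h : W'.1 ≤ ptOpen X y.1 C.U)
      (hd : WeilCoh.dim (W'.1 : Scheme.{u}) =
        WeilCoh.dim ((ptOpen X y.1 C.U : (X.ptSub y.1).scheme.Opens) : Scheme.{u})),
      (T.pull ((X.ptSub y.1).resLE h hd) M i n).hom
        ((T.pull (C.kap y) M i n).hom ((T.pull (X.resLE hCle hdC) M i n).hom a₀)) = 0 := by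
    intro y
    exact (ocolimι_eq_zero_iff' T (X.ptSub y.1)
      (fun U => (U : Set (X.ptSub y.1).scheme).Nonempty) M i n
      (pieceIdx X y.1 C.U (C.mem y.1 y.2)) _).mp (hpt C hCle hdC y)
  choose Wc hWle hWd hWz using hq
  let Wfun : ∀ y : X.scheme, (X.ptSub y).scheme.Opens :=
    fun y => if hy : y ∈ C.S then (Wc ⟨y, hy⟩).1 else ⊤
  have hWfun : ∀ y : ↥C.S, Wfun y.1 = (Wc y).1 := fun y => dif_pos y.2
  obtain ⟨U₂, hU₂F, hU₂⟩ := exists_shrink_finset X 0 C.S C.cod Wfun (fun y hy => by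
    rw [hWfun ⟨y, hy⟩]
    exact (Wc ⟨y, hy⟩).2.1)
  have hU'F : ContainsFj X 0 (C.U ⊓ U₂) := containsFj_inf hCF hU₂F
  rw [← fjι_resLE_apply T X 0 M i n C.U (C.U ⊓ U₂) hCF hU'F inf_le_left
    (dimU'_eq C (C.U ⊓ U₂) hU'F)]
  have hzero : (T.pull (X.resLE (inf_le_left : C.U ⊓ U₂ ≤ C.U) (dimU'_eq C (C.U ⊓ U₂) hU'F))
      M i n).hom ((T.pull (X.resLE hCle hdC) M i n).hom a₀) = 0 := by
    apply joint_inj T (fun y : ↥C.S => pc X (C.U ⊓ U₂) y.1)
      (C.restrict (C.U ⊓ U₂) inf_le_left hU'F).kap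
      (C.restrict (C.U ⊓ U₂) inf_le_left hU'F).kap_disj
      (C.restrict (C.U ⊓ U₂) inf_le_left hU'F).kap_cover M i n
    intro y
    rw [← pull_comp_apply, kap_restrict C (C.U ⊓ U₂) inf_le_left hU'F y, pull_comp_apply]
    have hle2 : ptOpen X y.1 (C.U ⊓ U₂) ≤ (Wc y).1 := by
      rw [← hWfun y]
      exact (ptOpen_mono (inf_le_right : C.U ⊓ U₂ ≤ U₂)).trans (hU₂ y.1 y.2)
    have hd2 : WeilCoh.dim ((ptOpen X y.1 (C.U ⊓ U₂) : (X.ptSub y.1).scheme.Opens) :
        Scheme.{u}) = WeilCoh.dim ((Wc y).1 : Scheme.{u}) :=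
      (dim_pc_restrict C (C.U ⊓ U₂) hU'F y).trans (hWd y).symm
    rw [← resLE_comp (X.ptSub y.1) hle2 (hWle y) hd2 (hWd y), pull_comp_apply, hWz y, map_zero]
  exact (congrArg _ hzero).trans (map_zero _)

/-- On a reduced object, if the groups of all points of codimension `0` vanish in bidegree `(i, n)`
then so does the group of `F_0 X`. -/
theorem isZero_fjGp_zero (X : Obj V) [IsReduced X.scheme] (M : A.Cat) (i n : ℤ)
    (h : ∀ x : X.scheme, WeilCoh.codim X.scheme x = 0 → IsZero (T.ptGp X x M i n)) :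
    IsZero (T.fjGp X 0 M i n) := by
  rw [ModuleCat.isZero_iff_subsingleton]
  refine ⟨fun a b => ?_⟩
  have h0 : ∀ a : T.fjGp X 0 M i n, a = 0 := by
    intro a
    obtain ⟨U₀, hU₀, a₀, rfl⟩ := fj_exists_rep T X 0 M i n a
    apply fjι_zero_eq_zero_of_pt T X M i n U₀ hU₀ a₀
    intro C hle hd y
    haveI := ModuleCat.subsingleton_of_isZero (h y.1 (C.cod y.1 y.2))
    exact Subsingleton.elim _ _
  rw [h0 a, h0 b]

end

end Groth.Agent.Lib.Helper23.BMZero2
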