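import Mathlib
import Groth.Prelude.Def_BMCoh3
import Groth.Agent.Lib.Helper23.BMZero2
import Groth.Agent.S15886

/-!
# Vanishing of the groups of `F_j X` in high degrees (helper23)
-/

set_option autoImplicit false
universe u
open CategoryTheory CategoryTheory.Limits AlgebraicGeometry Opposite

namespace Groth.Agent.Lib.Helper23.BMVan

open BMCoh BMObj BMZero2

variable {V : ObjectProperty Scheme.{u}} [BMCoh.IsConstructible V]
variable {R : Type u} [CommRing R] {A : BMCoh.Coefs R}

/-- The vanishing of `H^i(F_j X, M(n))` for `i > dim X + j + c` on a reduced object, from the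
vanishing of the groups of the points of `X` above the dimension of their closure plus `c`. -/
theorem isZero_fjGp_of_hc (T : BMCoh.TheoryOn V R A) (X : Obj V) [IsReduced X.scheme] (M : A.Cat)
    (c : ℕ) (hc : ∀ (y : X.scheme) (k l : ℤ), (WeilCoh.pdim X.scheme y : ℤ) + c < k →
      Limits.IsZero (T.ptGp X y M k l)) :
    ∀ (j : ℕ) (i n : ℤ), (WeilCoh.dim X.scheme : ℤ) + j + c < i →
      Limits.IsZero (T.fjGp X j M i n) := by
  classical
  intro j
  induction j with
  | zero =>
    intro i n hi
    apply isZero_fjGp_zero T.toPreTheory X M i n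
    intro x hx
    apply hc x i n
    have h1 := pdim_le_dim X x
    have h1' : (WeilCoh.pdim X.scheme x : ℤ) ≤ (WeilCoh.dim X.scheme : ℤ) := by exact_mod_cast h1
    push_cast at hi
    linarith
  | succ j ih =>
    intro i n hi
    have hpd : ∀ x : X.scheme, WeilCoh.codim X.scheme x = j + 1 →
        (WeilCoh.pdim X.scheme x : ℤ) = (WeilCoh.dim X.scheme : ℤ) - ((j : ℤ) + 1) := by
      intro x hx
      have h1 := codim_cast X x
      rw [hx] at h1
      push_cast at h1
      linarith
    push_cast at hi
    have hbij := Groth.Agent.S15886.result V R A T X M j i n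
      (fun x hx => hc x _ _ (by rw [hpd x hx]; linarith))
      (fun x hx => hc x _ _ (by rw [hpd x hx]; linarith))
    have hz := ih i n (by linarith)
    rw [ModuleCat.isZero_iff_subsingleton] at hz ⊢
    exact hbij.1.subsingleton

end Groth.Agent.Lib.Helper23.BMVan
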