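import Mathlib
import Groth.Prelude
import Groth.Agent.Lib.Helper23.BddE
import Groth.Agent.Lib.Helper23.MumL
import Groth.Agent.Lib.Helper7.GGTwist
import Groth.Agent.Lib.Helper7.GGNodal

/-!
# Helper library (helper23): bounded families on projective space (S5699)
-/

set_option autoImplicit false
set_option linter.unusedSectionVars false
set_option linter.style.haveILetI false
universe u
open CategoryTheory CategoryTheory.Limits AlgebraicGeometry TopologicalSpace Opposite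
open Scheme.Modules Polynomial

noncomputable section
namespace Groth.Agent.Lib.Helper23.Bdd

open Groth.Agent.Lib.Helper3 Groth.Agent.Lib.Helper3.QCSec Groth.Agent.Lib.Helper3.InvGen
  Groth.Agent.Lib.Helper3.InvTensor Groth.Agent.Lib.Helper3.InvMonoidal
  Groth.Agent.Lib.Helper7.TwFun Groth.Agent.Lib.Helper7.TwProj Groth.Agent.Lib.Helper7.MulSurj
  Groth.Agent.Lib.Helper7 Groth.Agent.Lib.Helper23.Simp Groth.Agent.Lib.Helper17
  Groth.Agent.Lib.Helper23.HilbP Groth.Agent.Lib.Helper23.Mum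

section Pn
variable (n : ℕ) (k : Type u) [Field k]

/-- `(F(a))(b) ≅ F(c)` for `a + b = c`. -/
def twA (F : (CohB1.ProjSpace n k).Modules) (a b c : ℤ) (h : a + b = c) :
    CohB1.tensorMod (CohB1.tensorMod F (Twist.twistProjSpace n k a)) (Twist.twistProjSpace n k b) ≅
      CohB1.tensorMod F (Twist.twistProjSpace n k c) :=
  twAdd' (Mumford.hU n k) F a b c h

/-- `(F(a))(-a) ≅ F`. -/
def twCancel (F : (CohB1.ProjSpace n k).Modules) (a b : ℤ) (h : a + b = 0) :
    CohB1.tensorMod (CohB1.tensorMod F (Twist.twistProjSpace n k a)) (Twist.twistProjSpace n k b) ≅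
      F :=
  twA n k F a b 0 h ≪≫ H0DropPn.tw0 F

/-- every coherent module on projective space is a quotient of a finite sum of copies of `O(-a)`. -/
theorem exists_presentation (E : (CohB1.ProjSpace n k).Modules) (hE : Coh.IsCoh E) :
    ∃ (a : ℤ) (N₀ : ℕ) (π : CohB1.tensorMod (FlatMod.freeMod (CohB1.ProjSpace n k) N₀)
      (Twist.twistProjSpace n k (-a)) ⟶ E), Epi π := by
  obtain ⟨n₀, hn₀⟩ := @GGTwist.exists_isSpanned n k _ E hE.1 hE.2
  have hq : (CohB1.tensorMod E (Twist.twistProjSpace n k (n₀ : ℤ))).IsQuasicoherent :=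
    Mumford.isQCoh_tw n k E hE.1 (n₀ : ℤ)
  have hgg : Curv2.IsGloballyGenerated (CohB1.tensorMod E (Twist.twistProjSpace n k (n₀ : ℤ))) :=
    @GlobGen.IsSpanned.isGloballyGenerated _ _ hq (hn₀ n₀ le_rfl)
  have hc := MumLem.isCoh_tw n k E hE (n₀ : ℤ)
  have hfin := finite_Γ k _ hc
  obtain ⟨ψ, hψ⟩ := exists_epi_freeMod k _ hgg hfin
  haveI := hψ
  have h1 := GGNodal.epi_twR (Twist.twistProjSpace n k (-(n₀ : ℤ))) ψ
  exact ⟨(n₀ : ℤ), _, (twR (Twist.twistProjSpace n k (-(n₀ : ℤ)))).map ψ ≫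
    (twCancel n k E (n₀ : ℤ) (-(n₀ : ℤ)) (by ring)).hom,
    @epi_comp _ _ _ _ _ _ h1 _ inferInstance⟩

theorem main5699 [IsAlgClosed k]
    (E : (CohB1.ProjSpace n k).Modules) (hE : Coh.IsCoh E) (Φ : Set (ℤ → ℤ)) (hΦ : Φ.Finite) :
    Pic13.IsBounded k (CohB1.ProjSpace n k) (fun F =>
      Coh.IsCoh F ∧ (∃ p : E ⟶ F, Epi p) ∧
        (fun r : ℤ => FGA.eulerCharLE k (CohB1.ProjSpace n k)
          (CohB1.tensorMod F (Twist.twistProjSpace n k r)) n) ∈ Φ) := by
  classical
  haveI : IsNoetherian (CohB1.ProjSpace n k) := HilbP.isNoetherian_of_isProper k _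
  obtain ⟨a, N₀, π, hπ⟩ := exists_presentation n k E hE
  haveI := hπ
  have hfree : Coh.IsCoh (FlatMod.freeMod (CohB1.ProjSpace n k) N₀) := isCoh_free n k N₀
  have hB₀ : Coh.IsCoh (CohB1.tensorMod (FlatMod.freeMod (CohB1.ProjSpace n k) N₀)
      (Twist.twistProjSpace n k (-a))) := MumLem.isCoh_tw n k _ hfree (-a)
  -- the uniform regularity bound
  let Mf : (ℤ → ℤ) → ℕ := fun f =>
    if h : ∃ Q : ℚ[X], ∀ r : ℤ, (f r : ℚ) = Q.eval (r : ℚ) then
      (Classical.choose (mumford_uniform.{u}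
        ((Classical.choose h).comp (Polynomial.X + Polynomial.C (a : ℚ))))).toNat
    else 0
  let m' : ℕ := hΦ.toFinset.sup Mf
  have hB : Coh.IsCoh (CohB1.tensorMod (CohB1.tensorMod (CohB1.tensorMod
      (FlatMod.freeMod (CohB1.ProjSpace n k) N₀) (Twist.twistProjSpace n k (-a)))
      (Twist.twistProjSpace n k a)) (Twist.twistProjSpace n k (m' : ℤ))) :=
    MumLem.isCoh_tw n k _ (MumLem.isCoh_tw n k _ hB₀ a) (m' : ℤ)
  refine isBounded_mono k ?_ (isBounded_quot_gg k _ hB (finite_Γ k _ hB)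
    (Twist.twistProjSpace n k (-(a + (m' : ℤ)))) (isInvertible_O n k _))
  rintro F ⟨hF, ⟨p, hp⟩, hfΦ⟩
  haveI := hp
  -- the short exact sequence
  let S : ShortComplex (CohB1.ProjSpace n k).Modules :=
    ShortComplex.mk (kernel.ι (π ≫ p)) (π ≫ p) (kernel.condition (π ≫ p))
  have hS : S.ShortExact :=
    ShortComplex.ShortExact.mk (ShortComplex.exact_of_f_is_kernel _ (kernelIsKernel (π ≫ p)))
  let S1 : ShortComplex (CohB1.ProjSpace n k).Modules := S.map (twR (Twist.twistProjSpace n k a))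
  have hS1 : S1.ShortExact := Mumford.shortExact_tw n k a S hS
  have hK : Coh.IsCoh (kernel (π ≫ p)) := DevBasic.isCoh_kernel (π ≫ p) hB₀ hF.1
  have hc1 : Coh.IsCoh S1.X₁ := MumLem.isCoh_tw n k _ hK a
  have hc2 : Coh.IsCoh S1.X₂ := MumLem.isCoh_tw n k _ hB₀ a
  have hc3 : Coh.IsCoh S1.X₃ := MumLem.isCoh_tw n k _ hF a
  have regfree : Reg n k (FlatMod.freeMod (CohB1.ProjSpace n k) N₀) 0 :=
    fun i hi => sub_free_tw n k N₀ i hi (0 - i) (by omega)
  have hr2 : Reg n k S1.X₂ 0 :=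
    regfree.of_iso (twCancel n k (FlatMod.freeMod (CohB1.ProjSpace n k) N₀) (-a) a (by ring)).symm
  -- the Hilbert polynomial
  obtain ⟨Q₀, hQ₀⟩ := exists_isHilbPoly k _ (hL n k) F hF
  have zQ₀ : ZHilb n k F Q₀ := zHilb_of_isHilbPoly hF hQ₀
  have heu : ∀ r : ℤ, FGA.eulerCharLE k (CohB1.ProjSpace n k)
      (CohB1.tensorMod F (Twist.twistProjSpace n k r)) n =
      Curv2.euler k (CohB1.ProjSpace n k) (CohB1.tensorMod F (Twist.twistProjSpace n k r)) :=
    fun r => eulerCharLE_eq n k _ (Mumford.isQCoh_tw n k F hF.1 r)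
  have hex : ∃ Q : ℚ[X], ∀ r : ℤ, ((fun r : ℤ => FGA.eulerCharLE k (CohB1.ProjSpace n k)
      (CohB1.tensorMod F (Twist.twistProjSpace n k r)) n) r : ℚ) = Q.eval (r : ℚ) :=
    ⟨Q₀, fun r => by
      change ((FGA.eulerCharLE k (CohB1.ProjSpace n k)
        (CohB1.tensorMod F (Twist.twistProjSpace n k r)) n : ℤ) : ℚ) = _
      rw [heu r]; exact zQ₀ r⟩
  have zQ : ZHilb n k F (Classical.choose hex) := by
    intro r
    rw [← Classical.choose_spec hex r]
    change _ = ((FGA.eulerCharLE k (CohB1.ProjSpace n k)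
        (CohB1.tensorMod F (Twist.twistProjSpace n k r)) n : ℤ) : ℚ)
    rw [heu r]
  have hz3' : ZHilb n k (CohB1.tensorMod F (Twist.twistProjSpace n k a))
      ((Classical.choose hex).comp (Polynomial.X + Polynomial.C (a : ℚ))) := by
    intro t
    rw [Groth.Agent.Lib.Helper23.FBC.euler_eq_of_iso' k (twAddPn _ a t), zQ (a + t)]
    simp [eval_comp, add_comm]
  have hz3 : ZHilb n k S1.X₃
      ((Classical.choose hex).comp (Polynomial.X + Polynomial.C (a : ℚ))) := hz3'
  have hregK : Reg n k S1.X₁ (Classical.choose (mumford_uniform.{u}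
      ((Classical.choose hex).comp (Polynomial.X + Polynomial.C (a : ℚ))))) :=
    (Classical.choose_spec (mumford_uniform.{u}
      ((Classical.choose hex).comp (Polynomial.X + Polynomial.C (a : ℚ))))).2 k n S1 hS1 hc2 hc3
      hr2 hz3
  have hle : Classical.choose (mumford_uniform.{u}
      ((Classical.choose hex).comp (Polynomial.X + Polynomial.C (a : ℚ)))) ≤ (m' : ℤ) := by
    have h1 : Mf (fun r : ℤ => FGA.eulerCharLE k (CohB1.ProjSpace n k)
        (CohB1.tensorMod F (Twist.twistProjSpace n k r)) n) ≤ m' :=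
      Finset.le_sup (f := Mf) (hΦ.mem_toFinset.2 hfΦ)
    have h2 : Mf (fun r : ℤ => FGA.eulerCharLE k (CohB1.ProjSpace n k)
        (CohB1.tensorMod F (Twist.twistProjSpace n k r)) n) =
        (Classical.choose (mumford_uniform.{u}
          ((Classical.choose hex).comp (Polynomial.X + Polynomial.C (a : ℚ))))).toNat := by
      simp only [Mf]
      rw [dif_pos hex]
    rw [h2] at h1
    have h3 := Int.self_le_toNat (Classical.choose (mumford_uniform.{u}
      ((Classical.choose hex).comp (Polynomial.X + Polynomial.C (a : ℚ)))))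
    have h4 : ((Classical.choose (mumford_uniform.{u}
      ((Classical.choose hex).comp (Polynomial.X + Polynomial.C (a : ℚ))))).toNat : ℤ) ≤ (m' : ℤ) := by
      exact_mod_cast h1
    exact h3.trans h4
  have hregK' : Reg n k S1.X₁ (m' : ℤ) := hregK.mono hc1.1 hle
  have hgg : Curv2.IsGloballyGenerated
      (CohB1.tensorMod S1.X₁ (Twist.twistProjSpace n k (m' : ℤ))) :=
    GGTwist.isGloballyGenerated_twist n k S1.X₁ hc1 (m' : ℤ) hregK'
  let S2 : ShortComplex (CohB1.ProjSpace n k).Modules :=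
    S1.map (twR (Twist.twistProjSpace n k (m' : ℤ)))
  have hS2 : S2.ShortExact := Mumford.shortExact_tw n k (m' : ℤ) S1 hS1
  refine ⟨S2.X₁, S2.f, hS2.mono_f, hgg, ⟨?_⟩⟩
  have ecok : cokernel S2.f ≅ S2.X₃ :=
    IsColimit.coconePointUniqueUpToIso (cokernelIsCokernel S2.f) hS2.gIsCokernel
  have eF : CohB1.tensorMod S2.X₃ (Twist.twistProjSpace n k (-(a + (m' : ℤ)))) ≅ F :=
    tensorMapIso (twA n k F a (m' : ℤ) (a + (m' : ℤ)) rfl) (Iso.refl _) ≪≫
      twCancel n k F (a + (m' : ℤ)) (-(a + (m' : ℤ))) (by ring)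
  exact eF.symm ≪≫ tensorMapIso ecok.symm (Iso.refl _)

end Pn

end Groth.Agent.Lib.Helper23.Bdd
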