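import Mathlib
import Groth.Prelude
import Groth.Agent.Lib.Helper23.BddF
import Groth.Agent.Lib.Helper2.ClImm.FF
import Groth.Agent.Lib.Helper7.ClTransfer

/-!
# Helper library (helper23): bounded families, part G (pullback of cokernel presentations and the
transfer to closed subschemes of projective space)
-/

set_option autoImplicit false
set_option linter.unusedSectionVars false
set_option linter.style.haveILetI false
universe u
open CategoryTheory CategoryTheory.Limits AlgebraicGeometry TopologicalSpace Opposite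
open Scheme.Modules Polynomial

noncomputable section
namespace Groth.Agent.Lib.Helper23.Bdd

open Groth.Agent.Lib.Helper3 Groth.Agent.Lib.Helper3.QCSec Groth.Agent.Lib.Helper3.InvGen
  Groth.Agent.Lib.Helper3.PbBasic Groth.Agent.Lib.Helper3.PullLemmas
  Groth.Agent.Lib.Helper3.InvAmple Groth.Agent.Lib.Helper3.SubIdeal
  Groth.Agent.Lib.Helper3.FreeSec Groth.Agent.Lib.Helper3.GlobGen
  Groth.Agent.Lib.Helper3.InvMonoidal

section Pull
variable (k : Type u) [Field k] {X Y : Scheme.{u}} [X.Over (Spec (CommRingCat.of k))]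
  [Y.Over (Spec (CommRingCat.of k))] (f : X ⟶ Y)
  (hf : f ≫ (Y ↘ Spec (CommRingCat.of k)) = X ↘ Spec (CommRingCat.of k))

include hf in
theorem appTop_κ (c : k) : f.appTop (κ k Y c) = κ k X c := by
  unfold κ Coh.toGlobal
  simp only [RingHom.coe_comp, Function.comp_apply]
  have e1 : (Y ↘ Spec (CommRingCat.of k)).appTop ≫ f.appTop =
      (X ↘ Spec (CommRingCat.of k)).appTop := by
    rw [← Scheme.Hom.comp_appTop, hf]
  exact ConcreteCategory.congr_hom e1 _

include hf in
theorem pullTop_comb (B : Y.Modules) {D : ℕ} (e : Fin D → Γ(B, ⊤)) (c : Fin D → k) :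
    pullTop f B (comb k B e c) =
      comb k ((Scheme.Modules.pullback f).obj B) (fun j => pullTop f B (e j)) c := by
  unfold comb
  rw [pullTop_sum]
  refine Finset.sum_congr rfl (fun j _ => ?_)
  rw [pullTop_smul, appTop_κ k f hf]

include hf in
theorem pullback_cokernel_phi (B : Y.Modules) {D N : ℕ} (e : Fin D → Γ(B, ⊤))
    (c : Fin N → Fin D → k) :
    Nonempty ((Scheme.Modules.pullback f).obj (cokernel (phi k B e c)) ≅
      cokernel (phi k ((Scheme.Modules.pullback f).obj B) (fun j => pullTop f B (e j)) c)) := by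
  have comm : (Scheme.Modules.pullback f).map (phi k B e c) ≫ (Iso.refl _).hom =
      (pbFree f N).hom ≫
        phi k ((Scheme.Modules.pullback f).obj B) (fun j => pullTop f B (e j)) c := by
    rw [Iso.refl_hom, Category.comp_id, ← Iso.inv_comp_eq]
    unfold phi
    rw [pbFree_inv_map_desc]
    congr 1
    funext i
    apply unit_hom_ext
    rw [sec_pullHom_top, sec_globalHom, res_self, sec_globalHom, res_self,
      pullTop_comb k f hf]
  exact ⟨PreservesCokernel.iso (Scheme.Modules.pullback f) (phi k B e c) ≪≫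
    cokernel.mapIso _ _ (pbFree f N) (Iso.refl _) comm⟩

end Pull

section Dim
variable (k : Type u) [Field k] {Y : Scheme.{u}} [Y.Over (Spec (CommRingCat.of k))]

theorem dimΓ_eq (M : Y.Modules) : dimΓ k M = Module.finrank k (Coh.HH Y M 0) := by
  letI := kModule k M
  let e : Coh.HH Y M 0 ≃ₗ[k] Γ(M, ⊤) :=
    { toFun := fun x => Groth.Agent.Lib.Helper23.T2.H0equiv M x
      invFun := fun y => (Groth.Agent.Lib.Helper23.T2.H0equiv M).symm y
      left_inv := fun x => (Groth.Agent.Lib.Helper23.T2.H0equiv M).symm_apply_apply x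
      right_inv := fun y => (Groth.Agent.Lib.Helper23.T2.H0equiv M).apply_symm_apply y
      map_add' := fun x y => map_add _ x y
      map_smul' := fun a x => (Groth.Agent.Lib.Helper23.T2.H0equiv M).map_smul (κ k Y a) x }
  exact (LinearEquiv.finrank_eq e).symm

end Dim

section Core
open Groth.Agent.Lib.Helper3.InvTensor
  Groth.Agent.Lib.Helper7.TwFun Groth.Agent.Lib.Helper7.TwProj Groth.Agent.Lib.Helper7.MulSurj
  Groth.Agent.Lib.Helper7 Groth.Agent.Lib.Helper23.Simp Groth.Agent.Lib.Helper17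
  Groth.Agent.Lib.Helper23.HilbP Groth.Agent.Lib.Helper23.Mum

variable (n : ℕ) (k : Type u) [Field k] [IsAlgClosed k]

/-- quotients of `O(-a)^N₀` with a fixed Hilbert polynomial are cokernels of maps into a fixed
sheaf from globally generated subsheaves, up to a fixed twist. -/
theorem core2 (a : ℤ) (N₀ : ℕ) (Q : ℚ[X]) :
    ∃ m' : ℕ, ∀ (F : (CohB1.ProjSpace n k).Modules)
      (g : CohB1.tensorMod (FlatMod.freeMod (CohB1.ProjSpace n k) N₀)
        (Twist.twistProjSpace n k (-a)) ⟶ F), Coh.IsCoh F → Epi g → ZHilb n k F Q →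
      ∃ (K : (CohB1.ProjSpace n k).Modules)
        (ι : K ⟶ CohB1.tensorMod (CohB1.tensorMod (CohB1.tensorMod
          (FlatMod.freeMod (CohB1.ProjSpace n k) N₀) (Twist.twistProjSpace n k (-a)))
          (Twist.twistProjSpace n k a)) (Twist.twistProjSpace n k (m' : ℤ))),
        Mono ι ∧ Curv2.IsGloballyGenerated K ∧
        Nonempty (F ≅ CohB1.tensorMod (cokernel ι)
          (Twist.twistProjSpace n k (-(a + (m' : ℤ))))) := by
  haveI : IsNoetherian (CohB1.ProjSpace n k) := HilbP.isNoetherian_of_isProper k _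
  obtain ⟨mQ, hmQ0, hmQ⟩ := mumford_uniform.{u} (Q.comp (Polynomial.X + Polynomial.C (a : ℚ)))
  refine ⟨mQ.toNat, ?_⟩
  intro F g hF hg zQ
  haveI := hg
  have hfree : Coh.IsCoh (FlatMod.freeMod (CohB1.ProjSpace n k) N₀) := isCoh_free n k N₀
  have hB₀ : Coh.IsCoh (CohB1.tensorMod (FlatMod.freeMod (CohB1.ProjSpace n k) N₀)
      (Twist.twistProjSpace n k (-a))) := MumLem.isCoh_tw n k _ hfree (-a)
  let S : ShortComplex (CohB1.ProjSpace n k).Modules :=
    ShortComplex.mk (kernel.ι g) g (kernel.condition g)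
  have hS : S.ShortExact :=
    ShortComplex.ShortExact.mk (ShortComplex.exact_of_f_is_kernel _ (kernelIsKernel g))
  let S1 : ShortComplex (CohB1.ProjSpace n k).Modules := S.map (twR (Twist.twistProjSpace n k a))
  have hS1 : S1.ShortExact := Mumford.shortExact_tw n k a S hS
  have hK : Coh.IsCoh (kernel g) := DevBasic.isCoh_kernel g hB₀ hF.1
  have hc1 : Coh.IsCoh S1.X₁ := MumLem.isCoh_tw n k _ hK a
  have hc2 : Coh.IsCoh S1.X₂ := MumLem.isCoh_tw n k _ hB₀ a
  have hc3 : Coh.IsCoh S1.X₃ := MumLem.isCoh_tw n k _ hF a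
  have regfree : Reg n k (FlatMod.freeMod (CohB1.ProjSpace n k) N₀) 0 :=
    fun i hi => sub_free_tw n k N₀ i hi (0 - i) (by omega)
  have hr2 : Reg n k S1.X₂ 0 :=
    regfree.of_iso (twCancel n k (FlatMod.freeMod (CohB1.ProjSpace n k) N₀) (-a) a (by ring)).symm
  have hz3' : ZHilb n k (CohB1.tensorMod F (Twist.twistProjSpace n k a))
      (Q.comp (Polynomial.X + Polynomial.C (a : ℚ))) := by
    intro t
    rw [Groth.Agent.Lib.Helper23.FBC.euler_eq_of_iso' k (twAddPn _ a t), zQ (a + t)]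
    simp [eval_comp, add_comm]
  have hz3 : ZHilb n k S1.X₃ (Q.comp (Polynomial.X + Polynomial.C (a : ℚ))) := hz3'
  have hregK : Reg n k S1.X₁ mQ := hmQ k n S1 hS1 hc2 hc3 hr2 hz3
  have hregK' : Reg n k S1.X₁ (mQ.toNat : ℤ) := hregK.mono hc1.1 (Int.self_le_toNat mQ)
  have hgg : Curv2.IsGloballyGenerated
      (CohB1.tensorMod S1.X₁ (Twist.twistProjSpace n k (mQ.toNat : ℤ))) :=
    GGTwist.isGloballyGenerated_twist n k S1.X₁ hc1 (mQ.toNat : ℤ) hregK'
  let S2 : ShortComplex (CohB1.ProjSpace n k).Modules :=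
    S1.map (twR (Twist.twistProjSpace n k (mQ.toNat : ℤ)))
  have hS2 : S2.ShortExact := Mumford.shortExact_tw n k (mQ.toNat : ℤ) S1 hS1
  refine ⟨S2.X₁, S2.f, hS2.mono_f, hgg, ⟨?_⟩⟩
  have ecok : cokernel S2.f ≅ S2.X₃ :=
    IsColimit.coconePointUniqueUpToIso (cokernelIsCokernel S2.f) hS2.gIsCokernel
  have eF : CohB1.tensorMod S2.X₃ (Twist.twistProjSpace n k (-(a + (mQ.toNat : ℤ)))) ≅ F :=
    tensorMapIso (twA n k F a (mQ.toNat : ℤ) (a + (mQ.toNat : ℤ)) rfl) (Iso.refl _) ≪≫
      twCancel n k F (a + (mQ.toNat : ℤ)) (-(a + (mQ.toNat : ℤ))) (by ring)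
  exact eF.symm ≪≫ tensorMapIso ecok.symm (Iso.refl _)

end Core

end Groth.Agent.Lib.Helper23.Bdd
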