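import Mathlib
import Groth.Prelude
import Groth.Agent.Lib.Helper23.BddG

/-!
# Helper library (helper23): bounded families, part H (regular sheaves with fixed Hilbert
polynomial on a closed subscheme of projective space, S4285)
-/

set_option autoImplicit false
set_option linter.unusedSectionVars false
set_option linter.style.haveILetI false
universe u
open CategoryTheory CategoryTheory.Limits AlgebraicGeometry TopologicalSpace Opposite
open Scheme.Modules Polynomial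

noncomputable section
namespace Groth.Agent.Lib.Helper23.Bdd

open Groth.Agent.Lib.Helper3 Groth.Agent.Lib.Helper3.QCSec Groth.Agent.Lib.Helper3.InvGen
  Groth.Agent.Lib.Helper3.PbBasic Groth.Agent.Lib.Helper3.PullLemmas
  Groth.Agent.Lib.Helper3.InvAmple Groth.Agent.Lib.Helper3.SubIdeal
  Groth.Agent.Lib.Helper3.FreeSec Groth.Agent.Lib.Helper3.GlobGen
  Groth.Agent.Lib.Helper3.InvMonoidal
  Groth.Agent.Lib.Helper3.InvTensor
  Groth.Agent.Lib.Helper7.TwFun Groth.Agent.Lib.Helper7.TwProj Groth.Agent.Lib.Helper7.MulSurj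
  Groth.Agent.Lib.Helper7 Groth.Agent.Lib.Helper23.Simp Groth.Agent.Lib.Helper17
  Groth.Agent.Lib.Helper23.HilbP Groth.Agent.Lib.Helper23.Mum

section CorePn
variable (n : ℕ) (k : Type u) [Field k] [IsAlgClosed k]

theorem core_Pn (m : ℤ) (φ : ℚ[X]) :
    ∃ (B : (CohB1.ProjSpace n k).Modules) (_ : Coh.IsCoh B) (L₀ : (CohB1.ProjSpace n k).Modules)
      (_ : PicF.IsInvertible L₀) (D N : ℕ) (e : Fin D → Γ(B, ⊤)),
      ∀ G : (CohB1.ProjSpace n k).Modules, Coh.IsCoh G → Reg n k G m → ZHilb n k G φ →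
        ∃ c : Fin N → Fin D → k,
          Nonempty (G ≅ CohB1.tensorMod (cokernel (phi k B e c)) L₀) := by
  obtain ⟨N₀, hN₀⟩ : ∃ N₀ : ℕ, N₀ = ⌈φ.eval (m : ℚ)⌉.toNat := ⟨_, rfl⟩
  obtain ⟨m', hcore⟩ := core2 n k m N₀ φ
  have hfree : Coh.IsCoh (FlatMod.freeMod (CohB1.ProjSpace n k) N₀) := isCoh_free n k N₀
  let B : (CohB1.ProjSpace n k).Modules := CohB1.tensorMod (CohB1.tensorMod (CohB1.tensorMod
      (FlatMod.freeMod (CohB1.ProjSpace n k) N₀) (Twist.twistProjSpace n k (-m)))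
      (Twist.twistProjSpace n k m)) (Twist.twistProjSpace n k (m' : ℤ))
  have hB : Coh.IsCoh B :=
    MumLem.isCoh_tw n k _ (MumLem.isCoh_tw n k _ (MumLem.isCoh_tw n k _ hfree (-m)) m) (m' : ℤ)
  have hfinB := finite_Γ k B hB
  refine ⟨B, hB, Twist.twistProjSpace n k (-(m + (m' : ℤ))), isInvertible_O n k _, dimΓ k B,
    dimΓ k B, basisΓ k B hfinB, ?_⟩
  intro G hG hreg hz
  have hGm := MumLem.isCoh_tw n k G hG m
  have hgg : Curv2.IsGloballyGenerated (CohB1.tensorMod G (Twist.twistProjSpace n k m)) :=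
    GGTwist.isGloballyGenerated_twist n k G hG m hreg
  have hfin := finite_Γ k _ hGm
  obtain ⟨ψ, hψ⟩ := exists_epi_freeMod k _ hgg hfin
  have hdim : dimΓ k (CohB1.tensorMod G (Twist.twistProjSpace n k m)) = N₀ := by
    rw [dimΓ_eq, hN₀]
    have h1 := euler_eq_h0 (CohB1.tensorMod G (Twist.twistProjSpace n k m)) hGm
      (fun p hp => hreg.ge hG.1 p m hp (by omega))
    have h2 := hz m
    rw [h1] at h2
    rw [← h2]
    simp
  have hψ' : ∃ ψ' : FlatMod.freeMod (CohB1.ProjSpace n k) N₀ ⟶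
      CohB1.tensorMod G (Twist.twistProjSpace n k m), Epi ψ' := hdim ▸ ⟨ψ, hψ⟩
  obtain ⟨ψ', hψ'⟩ := hψ'
  have h1 := GGNodal.epi_twR (Twist.twistProjSpace n k (-m)) ψ'
  have hg : Epi ((twR (Twist.twistProjSpace n k (-m))).map ψ' ≫
      (twCancel n k G m (-m) (by ring)).hom) := @epi_comp _ _ _ _ _ _ h1 _ inferInstance
  obtain ⟨K, ι, hι, hK, ⟨eF⟩⟩ := hcore G _ hG hg hz
  haveI := hι
  obtain ⟨c, ⟨ec⟩⟩ := exists_coeff_cokernel_iso k B K ι hK hfinB
  exact ⟨c, ⟨eF ≪≫ tensorMapIso ec.symm (Iso.refl _)⟩⟩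

end CorePn

section Main
variable (k : Type u) [Field k] [IsAlgClosed k] (n : ℕ) (X : Scheme.{u})
  [X.Over (Spec (CommRingCat.of k))]
  (i : X ⟶ CohB1.ProjSpace n k) [IsClosedImmersion i]
  (hi : i ≫ CohB1.ProjSpace.toSpec n k = X ↘ Spec (CommRingCat.of k))

include hi in
theorem main4285 (m : ℤ) (φ : Polynomial ℚ) :
    Pic13.IsBounded k X (fun F : X.Modules => Coh.IsCoh F ∧ Pic13.IsMRegular k i F m ∧
      ∀ d : ℤ, (FGA.eulerCharLE k X (Pic13.twistOn k i F d) n : ℚ) = φ.eval (d : ℚ)) := by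
  obtain ⟨B, hB, L₀, hL₀, D, N, e, hcore⟩ := core_Pn n k m φ
  have hf : i ≫ ((CohB1.ProjSpace n k) ↘ Spec (CommRingCat.of k)) =
      X ↘ Spec (CommRingCat.of k) := hi
  refine isBounded_mono k ?_ (isBounded_twisted_cokernels k (N := N)
    ((Scheme.Modules.pullback i).obj B)
    (Groth.Agent.Lib.Helper1.ConsModLocus.isCoh_pullback i B hB)
    ((Scheme.Modules.pullback i).obj L₀) (isInvertible_pullback i hL₀)
    (fun j => pullTop i B (e j)))
  rintro F ⟨hF, hreg, hφ⟩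
  have hG : Coh.IsCoh ((Scheme.Modules.pushforward i).obj F) := ClTransfer.isCoh_push k i F hF
  have hregG : Reg n k ((Scheme.Modules.pushforward i).obj F) m :=
    fun q hq => (ClTransfer.sub_iff k i F (m - q) q).1 (hreg q hq)
  have hzG : ZHilb n k ((Scheme.Modules.pushforward i).obj F) φ := by
    intro d
    rw [← hφ d]
    congr 1
    rw [← eulerCharLE_eq n k _ (Mumford.isQCoh_tw n k _ hG.1 d)]
    unfold FGA.eulerCharLE
    refine Finset.sum_congr rfl (fun j _ => ?_)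
    rw [ClTransfer.finrank_eq k i hi F d j]
  obtain ⟨c, ⟨eG⟩⟩ := hcore _ hG hregG hzG
  obtain ⟨e1⟩ := pullback_cokernel_phi k i hf B e c
  haveI := Groth.Agent.Lib.Helper2.ClImm.isIso_counit_app' i F
  have hdelta : IsIso (PbTensor.delta i (cokernel (phi k B e c)) L₀) :=
    Groth.Agent.Lib.Helper2.Mon.isIso_delta _ _ _
  refine ⟨c, ⟨?_⟩⟩
  exact (asIso ((pullbackPushforwardAdjunction i).counit.app F)).symm ≪≫
    (Scheme.Modules.pullback i).mapIso eG ≪≫ (@asIso _ _ _ _ _ hdelta) ≪≫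
    tensorMapIso e1 (Iso.refl _)

end Main

end Groth.Agent.Lib.Helper23.Bdd
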