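import Mathlib
import Groth.Prelude
import Groth.Agent.Lib.Helper23.BddH
import Groth.Agent.Lib.Helper7.AmpleRes2
import Groth.Agent.Lib.Helper3.AmpleQA
import Groth.Agent.Lib.Helper3.PbTensor

/-!
# Helper library (helper23): bounded families, part I (uniform presentation of the members of a
bounded family by direct sums of negative twists, S12069)
-/

set_option autoImplicit false
set_option linter.unusedSectionVars false
set_option linter.style.haveILetI false
universe u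
open CategoryTheory CategoryTheory.Limits AlgebraicGeometry TopologicalSpace Opposite
open Scheme.Modules Polynomial

noncomputable section
namespace Groth.Agent.Lib.Helper23.Bdd

open Groth.Agent.Lib.Helper3 Groth.Agent.Lib.Helper3.QCSec Groth.Agent.Lib.Helper3.InvGen
  Groth.Agent.Lib.Helper3.PbBasic Groth.Agent.Lib.Helper3.PullLemmas
  Groth.Agent.Lib.Helper3.InvMonoidal
  Groth.Agent.Lib.Helper3.InvTensor
  Groth.Agent.Lib.Helper7.TwFun
  Groth.Agent.Lib.Helper7

section AffineCase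
variable (k : Type u) [Field k] {X : Scheme.{u}} [X.Over (Spec (CommRingCat.of k))]

/-- affine parameter space: uniform epimorphisms from sums of negative powers onto fibres. -/
theorem exists_epi_fibres_affine [CompactSpace X] [QuasiSeparatedSpace X]
    {L M : X.Modules} (hA : CohB1.IsAmple L) (hMinv : PicF.IsInvertible M)
    (hM : ClSub.IsInverseOf M L)
    {T : Scheme.{u}} [IsAffine T] (q : T ⟶ Spec (CommRingCat.of k))
    (F : (Pic13.prodK k X q).Modules) (hF : Coh.IsCoh F) :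
    ∃ (m b : ℕ), ∀ (t : Spec (CommRingCat.of k) ⟶ T) (ht : t ≫ q = 𝟙 _),
      ∃ φ : (∐ fun _ : Fin b => CohB1.tensorPow M m) ⟶ Pic13.fibreMod k X q t ht F, Epi φ := by
  let p : Pic13.prodK k X q ⟶ X := pullback.fst (X ↘ Spec (CommRingCat.of k)) q
  haveI : IsAffineHom q := inferInstance
  haveI : IsAffineHom p :=
    MorphismProperty.pullback_fst (P := @IsAffineHom) _ _ (inferInstance : IsAffineHom q)
  haveI : CompactSpace (Pic13.prodK k X q) := QuasiCompact.compactSpace_of_compactSpace p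
  haveI : QuasiSeparatedSpace (Pic13.prodK k X q) := quasiSeparatedSpace_of_quasiSeparated p
  have hAY : CohB1.IsAmple ((Scheme.Modules.pullback p).obj L) :=
    AmpleQA.isAmple_pullback_of_quasiAffine p hA (fun A hA' => by
      haveI : IsAffine ((p ⁻¹ᵁ A : (Pic13.prodK k X q).Opens) : Scheme.{u}) := hA'.preimage p
      infer_instance)
  have hMY : ClSub.IsInverseOf ((Scheme.Modules.pullback p).obj M)
      ((Scheme.Modules.pullback p).obj L) := by
    obtain ⟨e⟩ := hM
    exact ⟨(PbTensor.pbTensorIso p M L hMinv hA.1).symm ≪≫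
      (Scheme.Modules.pullback p).mapIso e ≪≫ pbUnit p⟩
  haveI := hF.1
  haveI := hF.2
  obtain ⟨m, b, φ, -, hφ⟩ := AmpleRes2.exists_epi_coprod_inverse hAY hMY F 0
  refine ⟨m, b, fun t ht => ?_⟩
  have hs : Pic13.sliceAt k X q t ht ≫ p = 𝟙 X := pullback.lift_fst _ _ _
  let s := Pic13.sliceAt k X q t ht
  have hMYinv : PicF.IsInvertible ((Scheme.Modules.pullback p).obj M) :=
    isInvertible_pullback p hMinv
  let e1 : (Scheme.Modules.pullback s).obj (∐ fun _ : Fin b =>
      CohB1.tensorPow ((Scheme.Modules.pullback p).obj M) m) ≅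
      ∐ fun _ : Fin b => (Scheme.Modules.pullback s).obj
        (CohB1.tensorPow ((Scheme.Modules.pullback p).obj M) m) :=
    PreservesCoproduct.iso (Scheme.Modules.pullback s) _
  let e2 : (Scheme.Modules.pullback s).obj
        (CohB1.tensorPow ((Scheme.Modules.pullback p).obj M) m) ≅ CohB1.tensorPow M m :=
    PbTensor.pbPowIso s _ hMYinv m ≪≫ tensorPowIso (retrIso s p hs M) m
  let e3 : (∐ fun _ : Fin b => (Scheme.Modules.pullback s).obj
        (CohB1.tensorPow ((Scheme.Modules.pullback p).obj M) m)) ≅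
      ∐ fun _ : Fin b => CohB1.tensorPow M m := Sigma.mapIso (fun _ => e2)
  have hepi : Epi ((Scheme.Modules.pullback s).map φ) :=
    (Functor.preservesEpimorphisms_of_adjunction
      (Scheme.Modules.pullbackPushforwardAdjunction s)).preserves φ
  refine ⟨e3.inv ≫ e1.inv ≫ (Scheme.Modules.pullback s).map φ, ?_⟩
  exact @epi_comp _ _ _ _ _ e3.inv inferInstance _
    (@epi_comp _ _ _ _ _ e1.inv inferInstance _ hepi)

end AffineCase

section ChangeT
variable (k : Type u) [Field k] (X : Scheme.{u}) [X.Over (Spec (CommRingCat.of k))]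

/-- the map `X ×_k T' ⟶ X ×_k T` induced by `g : T' ⟶ T`. -/
def prodMap {T T' : Scheme.{u}} (q : T ⟶ Spec (CommRingCat.of k)) (g : T' ⟶ T) :
    Pic13.prodK k X (g ≫ q) ⟶ Pic13.prodK k X q :=
  pullback.lift (pullback.fst _ _) (pullback.snd _ _ ≫ g)
    (by rw [Category.assoc, pullback.condition])

theorem sliceAt_prodMap {T T' : Scheme.{u}} (q : T ⟶ Spec (CommRingCat.of k)) (g : T' ⟶ T)
    (t' : Spec (CommRingCat.of k) ⟶ T') (ht' : t' ≫ (g ≫ q) = 𝟙 _)
    (ht : (t' ≫ g) ≫ q = 𝟙 _) :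
    Pic13.sliceAt k X (g ≫ q) t' ht' ≫ prodMap k X q g = Pic13.sliceAt k X q (t' ≫ g) ht := by
  unfold prodMap Pic13.sliceAt
  apply pullback.hom_ext
  · rw [Category.assoc, pullback.lift_fst, pullback.lift_fst, pullback.lift_fst]
  · rw [Category.assoc, pullback.lift_snd, pullback.lift_snd, pullback.lift_snd_assoc,
      Category.assoc]

/-- fibres at equal points. -/
def fibreCongr {T : Scheme.{u}} (q : T ⟶ Spec (CommRingCat.of k))
    (t₁ t₂ : Spec (CommRingCat.of k) ⟶ T) (h : t₁ = t₂) (ht₁ : t₁ ≫ q = 𝟙 _)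
    (ht₂ : t₂ ≫ q = 𝟙 _) (F : (Pic13.prodK k X q).Modules) :
    Pic13.fibreMod k X q t₁ ht₁ F ≅ Pic13.fibreMod k X q t₂ ht₂ F := by
  subst h
  exact Iso.refl _

/-- fibres of the pulled back family. -/
def fibreChange {T T' : Scheme.{u}} (q : T ⟶ Spec (CommRingCat.of k)) (g : T' ⟶ T)
    (t' : Spec (CommRingCat.of k) ⟶ T') (ht' : t' ≫ (g ≫ q) = 𝟙 _)
    (ht : (t' ≫ g) ≫ q = 𝟙 _) (F : (Pic13.prodK k X q).Modules) :
    Pic13.fibreMod k X (g ≫ q) t' ht' ((Scheme.Modules.pullback (prodMap k X q g)).obj F) ≅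
      Pic13.fibreMod k X q (t' ≫ g) ht F :=
  (pullbackComp _ _).app F ≪≫ (pullbackCongr (sliceAt_prodMap k X q g t' ht' ht)).app F

variable {X}

/-- general quasi-compact parameter space. -/
theorem exists_epi_fibres [CompactSpace X] [QuasiSeparatedSpace X]
    {L M : X.Modules} (hA : CohB1.IsAmple L) (hMinv : PicF.IsInvertible M)
    (hM : ClSub.IsInverseOf M L)
    {T : Scheme.{u}} (q : T ⟶ Spec (CommRingCat.of k)) [QuasiCompact q]
    (F : (Pic13.prodK k X q).Modules) (hF : Coh.IsCoh F) :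
    ∃ (m b : ℕ), ∀ (t : Spec (CommRingCat.of k) ⟶ T) (ht : t ≫ q = 𝟙 _),
      ∃ φ : (∐ fun _ : Fin b => CohB1.tensorPow M m) ⟶ Pic13.fibreMod k X q t ht F, Epi φ := by
  haveI : CompactSpace T := QuasiCompact.compactSpace_of_compactSpace q
  let 𝒰 := T.affineCover.finiteSubcover
  let T' : Scheme.{u} := ∐ (fun i : 𝒰.I₀ ↦ 𝒰.X i)
  let g : T' ⟶ T := Sigma.desc (fun i ↦ 𝒰.f i)
  haveI : IsAffine T' := inferInstance
  obtain ⟨m, b, h⟩ := exists_epi_fibres_affine k hA hMinv hM (g ≫ q)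
    ((Scheme.Modules.pullback (prodMap k X q g)).obj F)
    (Groth.Agent.Lib.Helper1.ConsModLocus.isCoh_pullback _ F hF)
  refine ⟨m, b, fun t ht => ?_⟩
  -- lift the point
  let x : T := t.base default
  obtain ⟨i, y, hy⟩ := 𝒰.exists_eq x
  have hrange : Set.range t.base ⊆ Set.range (𝒰.f i).base := by
    rintro _ ⟨z, rfl⟩
    have hz : z = default := Subsingleton.elim _ _
    rw [hz]
    exact ⟨y, hy⟩
  let t₀ : Spec (CommRingCat.of k) ⟶ 𝒰.X i := IsOpenImmersion.lift (𝒰.f i) t hrange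
  have ht₀ : t₀ ≫ 𝒰.f i = t := IsOpenImmersion.lift_fac _ _ _
  let t' : Spec (CommRingCat.of k) ⟶ T' := t₀ ≫ Sigma.ι (fun i : 𝒰.I₀ ↦ 𝒰.X i) i
  have htg : t' ≫ g = t := by
    change (t₀ ≫ Sigma.ι (fun i : 𝒰.I₀ ↦ 𝒰.X i) i) ≫ Sigma.desc (fun i ↦ 𝒰.f i) = t
    rw [Category.assoc, Sigma.ι_desc, ht₀]
  have ht' : t' ≫ (g ≫ q) = 𝟙 _ := by rw [← Category.assoc, htg, ht]
  have ht'' : (t' ≫ g) ≫ q = 𝟙 _ := by rw [htg, ht]
  obtain ⟨φ, hφ⟩ := h t' ht'
  have e := fibreChange k X q g t' ht' ht'' F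
  have e' : Pic13.fibreMod k X q (t' ≫ g) ht'' F ≅ Pic13.fibreMod k X q t ht F :=
    fibreCongr k X q _ _ htg ht'' ht F
  exact ⟨φ ≫ e.hom ≫ e'.hom, epi_comp _ _⟩

end ChangeT

section Main
variable (n : ℕ) (k : Type u) [Field k]

/-- `O(-1)^{⊗ m} ≅ O(-m)` on projective space. -/
def powNeg : (m : ℕ) → (CohB1.tensorPow (Twist.twistProjSpace n k (-1)) m ≅
    Twist.twistProjSpace n k (-(m : ℤ)))
  | 0 => (TwistMul.unitIso (𝒜 := CohB1.polyGrading n k)) ≪≫ TwistMul.twistCast (by simp)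
  | m + 1 => tensorMapIso (powNeg m) (Iso.refl _) ≪≫
      TwistMul.mulIsoRight (-(m : ℤ)) (-1) (fun x => Mumford.hU n k (-1) x) ≪≫
      TwistMul.twistCast (by push_cast; ring)

variable {X : Scheme.{u}} [X.Over (Spec (CommRingCat.of k))]
  (i : X ⟶ CohB1.ProjSpace n k) [IsClosedImmersion i]

theorem main12069 (P : X.Modules → Prop) (hb : Pic13.IsBounded k X P) :
    ∃ (m : ℤ) (N : ℕ) (E : X.Modules)
      (c : Fin N → (Pic13.twistOn k i (Coh.structureModule X) (-m) ⟶ E)),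
      Nonempty (IsColimit (Cofan.mk E c)) ∧ ∀ F, P F → ∃ p : E ⟶ F, Epi p := by
  haveI : CompactSpace (CohB1.ProjSpace n k) :=
    QuasiCompact.compactSpace_of_compactSpace ((CohB1.ProjSpace n k) ↘ Spec (CommRingCat.of k))
  haveI : QuasiSeparatedSpace (CohB1.ProjSpace n k) :=
    quasiSeparatedSpace_of_quasiSeparated ((CohB1.ProjSpace n k) ↘ Spec (CommRingCat.of k))
  haveI : CompactSpace X := QuasiCompact.compactSpace_of_compactSpace i
  haveI : QuasiSeparatedSpace X := quasiSeparatedSpace_of_quasiSeparated i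
  have hA : CohB1.IsAmple ((Scheme.Modules.pullback i).obj (Twist.twistProjSpace n k 1)) :=
    PbAmple.isAmple_pullback_of_isEmbedding i i.isClosedEmbedding.isEmbedding (Simp.hL n k)
  have hMinv : PicF.IsInvertible ((Scheme.Modules.pullback i).obj (Twist.twistProjSpace n k (-1))) :=
    isInvertible_pullback i (Simp.isInvertible_O n k (-1))
  have hM : ClSub.IsInverseOf ((Scheme.Modules.pullback i).obj (Twist.twistProjSpace n k (-1)))
      ((Scheme.Modules.pullback i).obj (Twist.twistProjSpace n k 1)) :=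
    ⟨(PbTensor.pbTensorIso i _ _ (Simp.isInvertible_O n k (-1)) (Simp.isInvertible_O n k 1)).symm ≪≫
      (Scheme.Modules.pullback i).mapIso
        (TwistMul.mulIsoRight (-1) 1 (fun x => Mumford.hU n k 1 x) ≪≫
          TwistMul.twistCast (by norm_num) ≪≫
          (TwistMul.unitIso (𝒜 := CohB1.polyGrading n k)).symm) ≪≫ pbUnit i⟩
  obtain ⟨T, q, -, hq2, F, hF, hfib⟩ := hb
  haveI := hq2
  obtain ⟨m, b, h⟩ := exists_epi_fibres k hA hMinv hM q F hF
  let eM : CohB1.tensorPow ((Scheme.Modules.pullback i).obj (Twist.twistProjSpace n k (-1))) m ≅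
      Pic13.twistOn k i (Coh.structureModule X) (-(m : ℤ)) :=
    (PbTensor.pbPowIso i _ (Simp.isInvertible_O n k (-1)) m).symm ≪≫
      (Scheme.Modules.pullback i).mapIso (powNeg n k m) ≪≫ (unitorL _).symm
  refine ⟨(m : ℤ), b, ∐ fun _ : Fin b => Pic13.twistOn k i (Coh.structureModule X) (-(m : ℤ)),
    Sigma.ι _, ⟨coproductIsCoproduct _⟩, fun F' hF' => ?_⟩
  obtain ⟨t, ht, ⟨e⟩⟩ := hfib F' hF'
  obtain ⟨φ, hφ⟩ := h t ht
  refine ⟨(Sigma.mapIso (fun _ : Fin b => eM)).inv ≫ φ ≫ e.hom, ?_⟩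
  exact @epi_comp _ _ _ _ _ _ inferInstance _ (@epi_comp _ _ _ _ _ φ hφ _ inferInstance)

end Main

end Groth.Agent.Lib.Helper23.Bdd
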