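import Mathlib
import Groth.Prelude.Def_W4c2arithlefschetzGraph

/-!
Blow-up graphs: the intersection matrix is `-(1 - A)ᵀ (1 - A)` for the incidence matrix `A` of
centres on earlier exceptional curves, the total-transform matrix is `((1 - A)ᵀ)⁻¹`, hence
`mult = -mat⁻¹`; the Lefschetz number identity `lNum = rNum` (S15327).
-/

set_option autoImplicit false

namespace Groth.Agent.Lib.Helper23.BG

open ArLef ArLef.BlowupGraph Matrix

variable {n : ℕ} (G : BlowupGraph n)

/-! ### the recursion for total transforms -/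

theorem ttN_eq_zero {k m : ℕ} (h : m < k) : G.ttN k m = 0 := by
  rw [BlowupGraph.ttN, if_pos h]

theorem ttN_self (k : ℕ) : G.ttN k k = 1 := by
  rw [BlowupGraph.ttN, if_neg (lt_irrefl k), if_pos rfl]

theorem ttN_of_lt {k m : ℕ} (h : k < m) : G.ttN k m = ∑ p ∈ G.parN m, G.ttN k p := by
  conv_lhs => rw [BlowupGraph.ttN]
  rw [if_neg (not_lt.mpr h.le), if_neg h.ne']
  exact Finset.sum_attach (G.parN m) (fun p => G.ttN k p)

theorem tt_rec (k m : Fin n) :
    G.tt k m = (if k = m then 1 else 0) + ∑ p ∈ G.par m, G.tt k p := by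
  unfold BlowupGraph.tt
  have hpar : G.parN m.1 = (G.par m).map Fin.valEmbedding := by
    unfold BlowupGraph.parN
    rw [dif_pos m.2]
  rcases lt_trichotomy m.1 k.1 with h | h | h
  · rw [ttN_eq_zero G h, if_neg (by intro e; rw [e] at h; exact lt_irrefl _ h), zero_add]
    symm
    apply Finset.sum_eq_zero
    intro p hp
    exact ttN_eq_zero G (lt_trans (G.par_lt m p hp) h)
  · have hkm : k = m := Fin.ext h.symm
    subst hkm
    rw [ttN_self, if_pos rfl]
    have : ∑ p ∈ G.par k, G.ttN k.1 p.1 = 0 :=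
      Finset.sum_eq_zero (fun p hp => ttN_eq_zero G (G.par_lt k p hp))
    rw [this, add_zero]
  · rw [ttN_of_lt G h, hpar, Finset.sum_map,
      if_neg (by intro e; rw [e] at h; exact lt_irrefl _ h), zero_add]
    rfl

/-! ### matrices -/

/-- incidence matrix: `A m p = 1` iff the `m`-th centre lies on `E_p`. -/
def A : Matrix (Fin n) (Fin n) ℚ := fun m p => if p ∈ G.par m then 1 else 0

/-- total transform matrix. -/
def T : Matrix (Fin n) (Fin n) ℚ := fun k m => (G.tt k m : ℚ)

theorem sum_mul_A (f : Fin n → ℚ) (m : Fin n) : ∑ p, f p * A G m p = ∑ p ∈ G.par m, f p := by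
  unfold A
  simp only [mul_ite, mul_one, mul_zero]
  rw [Finset.sum_ite_mem, Finset.univ_inter]

theorem T_mul : T G * (1 - (A G)ᵀ) = 1 := by
  ext k m
  rw [Matrix.mul_sub, Matrix.mul_one, Matrix.sub_apply, Matrix.mul_apply, Matrix.one_apply]
  have h1 : ∑ p, T G k p * (A G)ᵀ p m = ∑ p ∈ G.par m, (G.tt k p : ℚ) := by
    simp only [Matrix.transpose_apply]
    exact sum_mul_A G (fun p => T G k p) m
  rw [h1]
  show (G.tt k m : ℚ) - _ = _
  rw [tt_rec G k m]
  push_cast
  split_ifs <;> ring

/-! ### the intersection matrix -/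

theorem par_irrefl (m : Fin n) : m ∉ G.par m := fun h => lt_irrefl _ (G.par_lt m m h)

theorem par_eq_pair {p q m : Fin n} (hpq : p ≠ q) (hp : p ∈ G.par m) (hq : q ∈ G.par m) :
    G.par m = {p, q} := by
  symm
  apply Finset.eq_of_subset_of_card_le
  · intro x hx
    rw [Finset.mem_insert, Finset.mem_singleton] at hx
    rcases hx with rfl | rfl <;> assumption
  · rw [Finset.card_pair hpq]
    exact G.card_le_two m

/-- number of centres lying on both `E_p` and `E_q`. -/
def cnt (p q : Fin n) : ℕ := (Finset.univ.filter (fun m => p ∈ G.par m ∧ q ∈ G.par m)).card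

theorem cnt_comm (p q : Fin n) : cnt G p q = cnt G q p := by
  unfold cnt
  congr 1
  ext m
  simp only [Finset.mem_filter, Finset.mem_univ, true_and]
  exact and_comm

theorem cnt_le_one {p q : Fin n} (hpq : p < q) : cnt G p q ≤ 1 := by
  unfold cnt
  rw [Finset.card_le_one]
  intro m₁ h₁ m₂ h₂
  rw [Finset.mem_filter] at h₁ h₂
  by_contra hne
  wlog hlt : m₁ < m₂ generalizing m₁ m₂
  · exact this m₂ h₂ m₁ h₁ (Ne.symm hne) (lt_of_le_of_ne (not_lt.mp hlt) (Ne.symm hne))
  have := (G.meet_of_two m₂ p q h₂.2.1 h₂.2.2 hpq).2 m₁ (G.par_lt m₁ q h₁.2.2) hlt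
  exact this (par_eq_pair G hpq.ne h₁.2.1 h₁.2.2)

theorem sum_A_mul_A (p q : Fin n) : ∑ m, A G m p * A G m q = (cnt G p q : ℚ) := by
  unfold A cnt
  rw [Finset.card_filter]
  push_cast
  refine Finset.sum_congr rfl fun m _ => ?_
  by_cases hp : p ∈ G.par m <;> by_cases hq : q ∈ G.par m <;> simp [hp, hq]

theorem adj_iff_of_lt {p q : Fin n} (hpq : p < q) :
    G.Adj p q ↔ p ∈ G.par q ∧ ∀ m, q < m → G.par m ≠ {p, q} := by
  unfold BlowupGraph.Adj
  constructor
  · rintro (h | h)
    · exact h
    · exact absurd (G.par_lt p q h.1) (not_lt.mpr hpq.le)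
  · intro h
    exact Or.inl h

theorem adj_comm (p q : Fin n) : G.Adj p q ↔ G.Adj q p := by
  unfold BlowupGraph.Adj
  exact or_comm

theorem adj_eq_of_lt {p q : Fin n} (hpq : p < q) :
    (if G.Adj p q then (1 : ℚ) else 0) = (if p ∈ G.par q then 1 else 0) - (cnt G p q : ℚ) := by
  have hle := cnt_le_one G hpq
  by_cases hp : p ∈ G.par q
  · rw [if_pos hp]
    by_cases hex : ∃ m, G.par m = {p, q}
    · obtain ⟨m, hm⟩ := hex
      have hqm : q < m := G.par_lt m q (by rw [hm]; simp)
      have hadj : ¬ G.Adj p q := by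
        rw [adj_iff_of_lt G hpq]
        rintro ⟨-, h⟩
        exact h m hqm hm
      have hc : cnt G p q = 1 := by
        apply le_antisymm hle
        unfold cnt
        rw [Nat.succ_le_iff, Finset.card_pos]
        exact ⟨m, Finset.mem_filter.mpr ⟨Finset.mem_univ _, by rw [hm]; simp, by rw [hm]; simp⟩⟩
      rw [if_neg hadj, hc]
      norm_num
    · push Not at hex
      have hadj : G.Adj p q := by
        rw [adj_iff_of_lt G hpq]
        exact ⟨hp, fun m _ => hex m⟩
      have hc : cnt G p q = 0 := by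
        unfold cnt
        rw [Finset.card_eq_zero, Finset.filter_eq_empty_iff]
        intro m _ hm
        exact hex m (par_eq_pair G hpq.ne hm.1 hm.2)
      rw [if_pos hadj, hc]
      norm_num
  · rw [if_neg hp]
    have hadj : ¬ G.Adj p q := by
      rw [adj_iff_of_lt G hpq]
      rintro ⟨h, -⟩
      exact hp h
    have hc : cnt G p q = 0 := by
      unfold cnt
      rw [Finset.card_eq_zero, Finset.filter_eq_empty_iff]
      intro m _ hm
      exact hp (G.meet_of_two m p q hm.1 hm.2 hpq).1
    rw [if_neg hadj, hc]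
    norm_num

theorem A_eq_zero_of_le {m p : Fin n} (h : m ≤ p) : A G m p = 0 := by
  unfold A
  rw [if_neg]
  intro hp
  exact absurd (G.par_lt m p hp) (not_lt.mpr h)

theorem mat_eq (p q : Fin n) :
    G.mat p q = -(if p = q then 1 else 0) + A G p q + A G q p - (cnt G p q : ℚ) := by
  unfold BlowupGraph.mat
  by_cases hpq : p = q
  · subst hpq
    rw [if_pos rfl, if_pos rfl, A_eq_zero_of_le G le_rfl]
    unfold BlowupGraph.selfInt cnt
    push_cast
    have : (Finset.univ.filter (fun m => p ∈ G.par m ∧ p ∈ G.par m)) =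
        Finset.univ.filter (fun m => p ∈ G.par m) := by
      ext m
      simp
    rw [this]
    ring
  · rw [if_neg hpq, if_neg hpq]
    rcases lt_or_gt_of_ne hpq with h | h
    · rw [adj_eq_of_lt G h, A_eq_zero_of_le G h.le]
      unfold A
      ring
    · have h1 : (if G.Adj p q then (1 : ℚ) else 0) = if G.Adj q p then 1 else 0 := by
        simp only [adj_comm G p q]
      rw [h1, adj_eq_of_lt G h, A_eq_zero_of_le G h.le, cnt_comm G p q]
      unfold A
      ring

theorem mat_eq_neg_mul : G.mat = -((1 - (A G)ᵀ) * (1 - A G)) := by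
  ext p q
  rw [mat_eq, Matrix.neg_apply, Matrix.sub_mul, Matrix.mul_sub, Matrix.mul_sub, Matrix.one_mul,
    Matrix.mul_one, Matrix.one_mul]
  simp only [Matrix.sub_apply, Matrix.one_apply, Matrix.mul_apply, Matrix.transpose_apply]
  rw [sum_A_mul_A]
  ring

/-! ### the inverse of the intersection matrix -/

/-- `N = -Tᵀ T`, the inverse of `mat`. -/
def N : Matrix (Fin n) (Fin n) ℚ := -((T G)ᵀ * T G)

theorem N_apply (i j : Fin n) : N G i j = -(G.mult i j : ℚ) := by
  unfold N BlowupGraph.mult
  rw [Matrix.neg_apply, Matrix.mul_apply]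
  push_cast
  rfl

theorem N_symm (i j : Fin n) : N G i j = N G j i := by
  rw [N_apply, N_apply]
  unfold BlowupGraph.mult
  congr 2
  exact Finset.sum_congr rfl fun k _ => mul_comm _ _

theorem W_mul_Tt : (1 - A G) * (T G)ᵀ = 1 := by
  have h := congrArg Matrix.transpose (T_mul G)
  rw [Matrix.transpose_mul, Matrix.transpose_sub, Matrix.transpose_one, Matrix.transpose_transpose] at h
  exact h

theorem mat_mul_N : G.mat * N G = 1 := by
  unfold N
  rw [mat_eq_neg_mul, neg_mul_neg, Matrix.mul_assoc, ← Matrix.mul_assoc (1 - A G),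
    W_mul_Tt, Matrix.one_mul]
  exact mul_eq_one_comm.mp (T_mul G)

/-! ### principal minors are invertible -/

theorem isUnit_W : IsUnit (1 - A G) :=
  ⟨⟨1 - A G, (T G)ᵀ, W_mul_Tt G, mul_eq_one_comm.mp (W_mul_Tt G)⟩, rfl⟩

theorem posDef_neg_mat : (-G.mat).PosDef := by
  have h := Matrix.PosDef.conjTranspose_mul_self (1 - A G)
    (Matrix.mulVec_injective_iff_isUnit.mpr (isUnit_W G))
  rw [Matrix.conjTranspose_eq_transpose_of_trivial, Matrix.transpose_sub, Matrix.transpose_one] at h
  rw [mat_eq_neg_mul, neg_neg]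
  exact h

theorem isUnit_det_submatrix (I : Finset (Fin n)) :
    IsUnit (G.mat.submatrix (fun x : I => x.1) (fun x : I => x.1)).det := by
  have h := (posDef_neg_mat G).submatrix (e := fun x : I => x.1) Subtype.val_injective
  have h2 := h.isUnit
  have e : (-G.mat).submatrix (fun x : I => x.1) (fun x : I => x.1) =
      -(G.mat.submatrix (fun x : I => x.1) (fun x : I => x.1)) := rfl
  rw [e] at h2
  have h3 : IsUnit (G.mat.submatrix (fun x : I => x.1) (fun x : I => x.1)) := by
    have := h2.neg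
    rwa [neg_neg] at this
  exact (Matrix.isUnit_iff_isUnit_det _).mp h3

end Groth.Agent.Lib.Helper23.BG
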