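import Mathlib
import Groth.Prelude.Def_W4c2arithlefschetzGraph
import Groth.Agent.Lib.Helper23.BlowupGraph

/-!
Blow-up graphs, part 2: the Schur complement computation and `lNum = rNum` (S15327).
-/

set_option autoImplicit false

namespace Groth.Agent.Lib.Helper23.BG

open ArLef ArLef.BlowupGraph Matrix

variable {n : ℕ} (G : BlowupGraph n)

theorem sum_filter_not_mem (I : Finset (Fin n)) (f : Fin n → ℚ) :
    ∑ j ∈ Finset.univ.filter (fun j => j ∉ I), f j = ∑ j, f j - ∑ j ∈ I, f j := by
  have h := Finset.sum_filter_add_sum_filter_not Finset.univ (fun j => j ∈ I) f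
  rw [Finset.filter_mem_eq_inter, Finset.univ_inter] at h
  linarith

/-- The Schur complement of the `I`-block times the inverse matrix restricted to the complement
of `I` is the identity. -/
theorem schur (I : Finset (Fin n)) {x l : Fin n} (hl : l ∉ I) :
    ∑ j ∈ Finset.univ.filter (fun j => j ∉ I), G.pairing I x j * N G j l =
      if x = l then 1 else 0 := by
  classical
  set MI : Matrix I I ℚ := G.mat.submatrix (fun x : I => x.1) (fun x : I => x.1) with hMI
  have hR : MI⁻¹ * MI = 1 := Matrix.nonsing_inv_mul _ (isUnit_det_submatrix G I)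
  have hMN : ∀ x l : Fin n, ∑ j, G.mat x j * N G j l = if x = l then 1 else 0 := by
    intro x l
    have := congrFun (congrFun (mat_mul_N G) x) l
    rwa [Matrix.mul_apply, Matrix.one_apply] at this
  -- sums over the complement
  have hb : ∀ b : I, ∑ j ∈ Finset.univ.filter (fun j => j ∉ I), G.mat b.1 j * N G j l =
      -∑ c : I, MI b c * N G c.1 l := by
    intro b
    have hbl : (b.1 : Fin n) ≠ l := fun h => hl (h ▸ b.2)
    rw [sum_filter_not_mem, hMN, if_neg hbl, zero_sub, ← Finset.sum_coe_sort I]
    rfl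
  -- the correction term
  have hcorr : ∀ a : I, ∑ b : I, MI⁻¹ a b *
      (∑ j ∈ Finset.univ.filter (fun j => j ∉ I), G.mat b.1 j * N G j l) = -N G a.1 l := by
    intro a
    simp only [hb, mul_neg, Finset.sum_neg_distrib, Finset.mul_sum]
    rw [Finset.sum_comm]
    congr 1
    have : ∀ c : I, ∑ b : I, MI⁻¹ a b * (MI b c * N G c.1 l) =
        (MI⁻¹ * MI) a c * N G c.1 l := by
      intro c
      rw [Matrix.mul_apply, Finset.sum_mul]
      exact Finset.sum_congr rfl fun b _ => (mul_assoc _ _ _).symm
    simp only [this, hR, Matrix.one_apply]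
    simp
  -- expand the pairing
  have hexp : ∀ j : Fin n, G.pairing I x j * N G j l =
      G.mat x j * N G j l -
        ∑ a : I, G.mat x a.1 * ∑ b : I, MI⁻¹ a b * (G.mat b.1 j * N G j l) := by
    intro j
    unfold BlowupGraph.pairing
    rw [sub_mul, Finset.sum_mul]
    congr 1
    refine Finset.sum_congr rfl fun a _ => ?_
    rw [Finset.sum_mul, Finset.mul_sum]
    refine Finset.sum_congr rfl fun b _ => ?_
    ring
  simp only [hexp]
  rw [Finset.sum_sub_distrib, Finset.sum_comm]
  have h2 : ∀ a : I, ∑ j ∈ Finset.univ.filter (fun j => j ∉ I),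
      G.mat x a.1 * ∑ b : I, MI⁻¹ a b * (G.mat b.1 j * N G j l) = G.mat x a.1 * (-N G a.1 l) := by
    intro a
    rw [← Finset.mul_sum, Finset.sum_comm]
    congr 1
    rw [← hcorr a]
    refine Finset.sum_congr rfl fun b _ => ?_
    rw [Finset.mul_sum]
  simp only [h2]
  rw [sum_filter_not_mem, hMN, ← Finset.sum_coe_sort I]
  simp only [mul_neg, Finset.sum_neg_distrib]
  ring

/-- S15327. -/
theorem lNum_eq_rNum (I : Finset (Fin n)) (σ : Equiv.Perm (Fin n)) :
    G.lNum I σ = BlowupGraph.rNum I σ := by
  classical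
  unfold BlowupGraph.lNum BlowupGraph.rNum
  have h1 : ∀ i ∈ Finset.univ.filter (fun i => i ∉ I),
      ∑ j ∈ Finset.univ.filter (fun j => j ∉ I), (G.mult i j : ℚ) * G.pairing I (σ i) j =
        -(if σ i = i then 1 else 0) := by
    intro i hi
    have hi' : i ∉ I := (Finset.mem_filter.mp hi).2
    rw [← schur G I (x := σ i) hi', ← Finset.sum_neg_distrib]
    refine Finset.sum_congr rfl fun j _ => ?_
    rw [N_symm G j i, N_apply]
    ring
  rw [Finset.sum_congr rfl h1, Finset.sum_neg_distrib, Finset.sum_boole, Finset.filter_filter]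

end Groth.Agent.Lib.Helper23.BG
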