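import Mathlib
import Groth.Agent.Lib.Helper1.TruncKan

/-!
# The Čech nerve `n ↦ X^{n+1}` is coskeletal (helper23)
-/

set_option autoImplicit false

open CategoryTheory CategoryTheory.Limits Opposite Simplicial

universe v u

namespace Groth.Agent.Lib.Helper23.CechCosk

open Groth.Agent.Lib.Helper1.TruncKan

variable {C : Type u} [Category.{v} C] [HasFiniteProducts C] (X : C)

/-- The projections of the Čech nerve. -/
noncomputable def proj (m : SimplexCategoryᵒᵖ) (i : Fin (m.unop.len + 1)) :
    (cechNerveTerminalFrom X).obj m ⟶ X :=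
  Pi.π (fun _ : Fin (m.unop.len + 1) => X) i

/-- Lifting into the Čech nerve. -/
noncomputable def lift (m : SimplexCategoryᵒᵖ) {Z : C} (t : Fin (m.unop.len + 1) → (Z ⟶ X)) :
    Z ⟶ (cechNerveTerminalFrom X).obj m :=
  Pi.lift t

theorem lift_proj (m : SimplexCategoryᵒᵖ) {Z : C} (t : Fin (m.unop.len + 1) → (Z ⟶ X))
    (i : Fin (m.unop.len + 1)) : lift X m t ≫ proj X m i = t i :=
  Pi.lift_π _ _

theorem hom_ext (m : SimplexCategoryᵒᵖ) {Z : C} (f g : Z ⟶ (cechNerveTerminalFrom X).obj m)
    (h : ∀ i, f ≫ proj X m i = g ≫ proj X m i) : f = g :=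
  Pi.hom_ext _ _ h

theorem map_proj {a b : SimplexCategoryᵒᵖ} (θ : a ⟶ b) (i : Fin (b.unop.len + 1)) :
    (cechNerveTerminalFrom X).map θ ≫ proj X b i = proj X a (θ.unop.toOrderHom i) := by
  simp [cechNerveTerminalFrom, proj]

/-- The object `⦋0⦌` of the truncated simplex category. -/
def pt0 : (SimplexCategory.Truncated 0)ᵒᵖ := op ⟨SimplexCategory.mk 0, le_refl _⟩

/-- The structured arrow picking the vertex `j`. -/
def vertexArrow (m : SimplexCategoryᵒᵖ) (j : Fin (m.unop.len + 1)) :
    StructuredArrow m (SimplexCategory.Truncated.inclusion 0).op :=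
  StructuredArrow.mk (Y := pt0)
    (f := show m ⟶ (SimplexCategory.Truncated.inclusion 0).op.obj pt0 from
      (SimplexCategory.const (SimplexCategory.mk 0) m.unop j).op)

theorem isPRKE : IsPRKE (SimplexCategory.Truncated.inclusion 0).op (cechNerveTerminalFrom X) := by
  constructor
  · intro m Z π hπ
    refine ⟨lift X m (fun j => π (vertexArrow m j) ≫ proj X (op (SimplexCategory.mk 0)) 0),
      fun g => ?_⟩
    apply hom_ext X
    intro i
    rw [Category.assoc, map_proj, lift_proj]
    -- the morphism g ⟶ vertexArrow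
    let j := g.hom.unop.toOrderHom i
    let φ : g ⟶ vertexArrow m j :=
      StructuredArrow.homMk (Quiver.Hom.op
        (show (⟨SimplexCategory.mk 0, le_refl _⟩ : SimplexCategory.Truncated 0) ⟶ g.right.unop from
          ObjectProperty.homMk (SimplexCategory.const (SimplexCategory.mk 0) g.right.unop.obj i)))
        (by
          apply Quiver.Hom.unop_inj
          apply SimplexCategory.Hom.ext
          ext k
          rfl)
    have h := hπ g (vertexArrow m j) φ
    rw [← h, Category.assoc]
    congr 1
    exact map_proj X ((SimplexCategory.Truncated.inclusion 0).op.map φ.right) 0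
  · intro m Z f₁ f₂ hf
    apply hom_ext X
    intro j
    have h := hf (vertexArrow m j)
    have h2 := map_proj X (vertexArrow m j).hom (0 : Fin (0 + 1))
    have e : proj X m j = (cechNerveTerminalFrom X).map (vertexArrow m j).hom ≫
        proj X (op (SimplexCategory.mk 0)) 0 := h2.symm
    rw [e, ← Category.assoc, ← Category.assoc, h]

theorem isCoskeletal_zero : (cechNerveTerminalFrom X).IsCoskeletal 0 := by
  obtain ⟨h⟩ := (isPRKE X).isPointwise_nonempty
  exact ⟨h.isRightKanExtension⟩

theorem isCoskeletal [HasFiniteLimits C] (n : ℕ) : (cechNerveTerminalFrom X).IsCoskeletal n := by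
  have := isCoskeletal_zero X
  exact isCoskeletal_of_le _ (Nat.zero_le n)

end Groth.Agent.Lib.Helper23.CechCosk
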