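import Mathlib
import Groth.Prelude.Def_FibClv

/-!
Helper lemmas on `FibCat.Cleavage`.
-/

set_option autoImplicit false
set_option backward.isDefEq.respectTransparency false
set_option backward.isDefEq.respectTransparency.types false
open CategoryTheory CategoryTheory.Functor
universe v₁ v₂ u₁ u₂

namespace Groth.Agent.Lib.Helper23.Clv

variable {𝒮 : Type u₁} {𝒳 : Type u₂} [Category.{v₁} 𝒮] [Category.{v₂} 𝒳] {p : 𝒳 ⥤ 𝒮}
  (K : FibCat.Cleavage p)

/-- The identification `K.inverseImageCongr h` followed by the chosen lift along `f'` is the chosen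
lift along `f`. -/
theorem congr_lift {R S : 𝒮} {f f' : R ⟶ S} (h : f = f') (a : p.Fiber S) :
    Fiber.fiberInclusion.map ((K.inverseImageCongr h).hom.app a) ≫ K.lift a.2 f'
      = K.lift a.2 f := by
  subst h
  simp [FibCat.Cleavage.inverseImageCongr]

/-- If the composite of the two chosen lifts is cartesian, the comparison morphism is an
isomorphism (componentwise). -/
theorem isIso_comp_app {R S T : 𝒮} (f : T ⟶ S) (g : R ⟶ T) (a : p.Fiber S)
    [hc : p.IsCartesian (g ≫ f) (K.lift (K.obj_proj a.2 f) g ≫ K.lift a.2 f)] :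
    IsIso ((K.comp f g).app a) := by
  refine ⟨⟨Fiber.homMk p R (IsCartesian.map p (g ≫ f)
    (K.lift (K.obj_proj a.2 f) g ≫ K.lift a.2 f) (K.lift a.2 (g ≫ f))), ?_, ?_⟩⟩
  · apply Fiber.hom_ext
    apply IsCartesian.ext p (g ≫ f) (K.lift (K.obj_proj a.2 f) g ≫ K.lift a.2 f)
    simp only [Functor.map_comp, Category.assoc, Fiber.fiberInclusion_homMk,
      IsCartesian.fac, FibCat.Cleavage.comp_app]
    exact (Category.id_comp _).symm
  · apply Fiber.hom_ext
    apply IsCartesian.ext p (g ≫ f) (K.lift a.2 (g ≫ f))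
    simp only [Functor.map_comp, Category.assoc, Fiber.fiberInclusion_homMk,
      IsCartesian.fac, FibCat.Cleavage.comp_app]
    exact (Category.id_comp _).symm

/-- In a fibred category all comparison morphisms of a cleavage are isomorphisms. -/
theorem isIso_comp [p.IsFibered] {R S T : 𝒮} (f : T ⟶ S) (g : R ⟶ T) : IsIso (K.comp f g) := by
  have : ∀ a, IsIso ((K.comp f g).app a) := fun a => isIso_comp_app K f g a
  exact NatIso.isIso_of_isIso_app _

/-- If all comparison morphisms are isomorphisms, then the functor is fibred. -/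
theorem isFibered_of_isIso_comp
    (h : ∀ (R S T : 𝒮) (f : T ⟶ S) (g : R ⟶ T), IsIso (K.comp f g)) : p.IsFibered := by
  have hpre : p.IsPreFibered := K.isPreFibered
  refine { toIsPreFibered := hpre, comp := ?_ }
  intro R S T f g a b c φ ψ hφ hψ
  have hc : p.obj c = T := IsHomLift.codomain_eq p g ψ
  let βi : b ≅ K.obj hc g := IsCartesian.domainUniqueUpToIso p g (K.lift hc g) ψ
  have hβ : βi.hom ≫ K.lift hc g = ψ := IsCartesian.fac p g (K.lift hc g) ψ
  have hb' : p.obj (K.obj hc g) = S := K.obj_proj hc g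
  let αi : a ≅ K.obj hb' f :=
    IsCartesian.domainUniqueUpToIso p f (K.lift hb' f) (φ ≫ βi.hom)
  have hα : αi.hom ≫ K.lift hb' f = φ ≫ βi.hom :=
    IsCartesian.fac p f (K.lift hb' f) (φ ≫ βi.hom)
  let c' : p.Fiber T := ⟨c, hc⟩
  have hiso : IsIso ((K.comp g f).app c') := by
    have := h R T S g f
    infer_instance
  let γi : a ≅ K.obj hc (f ≫ g) :=
    αi ≪≫ Fiber.fiberInclusion.mapIso (asIso ((K.comp g f).app c'))
  have hγ : γi.hom ≫ K.lift hc (f ≫ g) = φ ≫ ψ := by
    show (αi.hom ≫ Fiber.fiberInclusion.map ((K.comp g f).app c')) ≫ K.lift hc (f ≫ g) = φ ≫ ψ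
    rw [Category.assoc, FibCat.Cleavage.comp_app]
    have h1 : IsCartesian.map p (f ≫ g) (K.lift c'.2 (f ≫ g))
        (K.lift (K.obj_proj c'.2 g) f ≫ K.lift c'.2 g) ≫ K.lift hc (f ≫ g)
        = K.lift hb' f ≫ K.lift hc g :=
      IsCartesian.fac p (f ≫ g) (K.lift c'.2 (f ≫ g)) _
    rw [h1, ← Category.assoc, hα, Category.assoc, hβ]
  have hlift : p.IsHomLift (𝟙 R) γi.hom := by
    show p.IsHomLift (𝟙 R) (αi.hom ≫ Fiber.fiberInclusion.map ((K.comp g f).app c'))
    infer_instance
  rw [← hγ]
  infer_instance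

/-- In a fibred category the inverse image along an identity is isomorphic to the identity
functor of the fibre. -/
noncomputable def inverseImageIdIso [p.IsFibered] (S : 𝒮) :
    K.inverseImage (𝟙 S) ≅ 𝟭 (p.Fiber S) :=
  NatIso.ofComponents (fun a =>
    haveI : IsIso (K.lift a.2 (𝟙 S)) :=
      IsStronglyCartesian.isIso_of_base_isIso p (𝟙 S) (K.lift a.2 (𝟙 S))
    { hom := Fiber.homMk p S (K.lift a.2 (𝟙 S))
      inv := Fiber.homMk p S (inv (K.lift a.2 (𝟙 S)))
      hom_inv_id := by
        apply Fiber.hom_ext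
        rw [Functor.map_comp, Fiber.fiberInclusion_homMk, Fiber.fiberInclusion_homMk,
          IsIso.hom_inv_id]
        rfl
      inv_hom_id := by
        apply Fiber.hom_ext
        rw [Functor.map_comp, Fiber.fiberInclusion_homMk, Fiber.fiberInclusion_homMk,
          IsIso.inv_hom_id]
        rfl })
    (by
      intro a b φ
      apply Fiber.hom_ext
      simp [FibCat.Cleavage.inverseImage_map])

/-- In a fibred category the inverse image functor along an isomorphism is an equivalence. -/
theorem isEquivalence_inverseImage [p.IsFibered] {S T : 𝒮} (f : T ⟶ S) [IsIso f] :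
    (K.inverseImage f).IsEquivalence := by
  have := isIso_comp K f (inv f)
  have := isIso_comp K (inv f) f
  let η : K.inverseImage f ⋙ K.inverseImage (inv f) ≅ 𝟭 (p.Fiber S) :=
    asIso (K.comp f (inv f)) ≪≫ K.inverseImageCongr (IsIso.inv_hom_id f) ≪≫
      inverseImageIdIso K S
  let ε : K.inverseImage (inv f) ⋙ K.inverseImage f ≅ 𝟭 (p.Fiber T) :=
    asIso (K.comp (inv f) f) ≪≫ K.inverseImageCongr (IsIso.hom_inv_id f) ≪≫
      inverseImageIdIso K T
  exact (CategoryTheory.Equivalence.mk (K.inverseImage f) (K.inverseImage (inv f)) η.symm ε).isEquivalence_functor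

end Groth.Agent.Lib.Helper23.Clv
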