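import Groth.Agent.Lib.Helper23.T2N
import Groth.Agent.S9514

/-!
# CohSeq: dimension estimates for cohomology along an exact sequence of coherent modules
-/
set_option autoImplicit false
universe u
open CategoryTheory CategoryTheory.Limits Opposite TopologicalSpace AlgebraicGeometry

noncomputable section

namespace Groth.Agent.Lib.Helper23.CohSeq

open Groth.Agent.Lib.Helper23.T2

section Alg

variable {k : Type*} [Field k] {A B C : Type*} [AddCommGroup A] [AddCommGroup B] [AddCommGroup C]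
  [Module k A] [Module k B] [Module k C] [Module.Finite k A] [Module.Finite k B]
  [Module.Finite k C]

lemma finrank_le_of_exact (f : A →ₗ[k] B) (g : B →ₗ[k] C) (h : Function.Exact f g) :
    Module.finrank k B ≤ Module.finrank k A + Module.finrank k C := by
  have h1 := LinearMap.finrank_range_add_finrank_ker g
  have h2 : LinearMap.ker g = LinearMap.range f := (LinearMap.exact_iff.1 h)
  rw [h2] at h1
  have h3 := LinearMap.finrank_range_le f
  have h4 : Module.finrank k (LinearMap.range g) ≤ Module.finrank k C := Submodule.finrank_le _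
  omega

lemma finrank_le_of_injective (f : A →ₗ[k] B) (h : Function.Injective f) :
    Module.finrank k A ≤ Module.finrank k B :=
  LinearMap.finrank_le_finrank_of_injective h

end Alg

section Cat

variable {𝒜 : Type*} [Category 𝒜] [Abelian 𝒜]

/-- exactness is preserved when `g` is replaced by a lift through a monomorphism. -/
lemma exact_of_comp_mono {A B C K : 𝒜} (f : A ⟶ B) (g : B ⟶ C) (w : f ≫ g = 0) (g' : B ⟶ K)
    (ι : K ⟶ C) [Mono ι] (hg : g' ≫ ι = g) (h : (ShortComplex.mk f g w).Exact) :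
    (ShortComplex.mk f g' (by rw [← cancel_mono ι, Category.assoc, hg, w, zero_comp])).Exact := by
  let φ : ShortComplex.mk f g' (by rw [← cancel_mono ι, Category.assoc, hg, w, zero_comp]) ⟶
      ShortComplex.mk f g w :=
    { τ₁ := 𝟙 _
      τ₂ := 𝟙 _
      τ₃ := ι
      comm₁₂ := by simp
      comm₂₃ := by simp [hg] }
  haveI : Epi φ.τ₁ := inferInstanceAs (Epi (𝟙 A))
  haveI : IsIso φ.τ₂ := inferInstanceAs (IsIso (𝟙 B))
  haveI : Mono φ.τ₃ := inferInstanceAs (Mono ι)
  exact (ShortComplex.exact_iff_of_epi_of_isIso_of_mono φ).2 h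

end Cat

variable (k : Type u) [Field k] {X : Scheme.{u}} [X.Over (Spec (CommRingCat.of k))]
  [IsProper (X ↘ Spec (CommRingCat.of k))]

/-- `hᵐ(F)`. -/
abbrev hh (m : ℕ) (F : X.Modules) : ℕ := Module.finrank k (Coh.HH X F m)

section SES

variable (S : ShortComplex X.Modules) (hS : S.ShortExact) (h1 : Coh.IsCoh S.X₁)
  (h2 : Coh.IsCoh S.X₂) (h3 : Coh.IsCoh S.X₃)

include hS h1 h2 h3

lemma hh_left_succ (m : ℕ) : hh k (m + 1) S.X₁ ≤ hh k m S.X₃ + hh k (m + 1) S.X₂ := by
  haveI := finite_HH k S.X₁ h1 (m + 1)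
  haveI := finite_HH k S.X₂ h2 (m + 1)
  haveI := finite_HH k S.X₃ h3 m
  exact finrank_le_of_exact _ _ (exact_δ_f k S hS m)

lemma hh_left_zero : hh k 0 S.X₁ ≤ hh k 0 S.X₂ := by
  haveI := finite_HH k S.X₁ h1 0
  haveI := finite_HH k S.X₂ h2 0
  haveI := hS.mono_f
  exact finrank_le_of_injective _ (HmapA_injective_zero k S.f)

lemma hh_mid (m : ℕ) : hh k m S.X₂ ≤ hh k m S.X₁ + hh k m S.X₃ := by
  haveI := finite_HH k S.X₁ h1 m
  haveI := finite_HH k S.X₂ h2 m
  haveI := finite_HH k S.X₃ h3 m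
  exact finrank_le_of_exact _ _ (exact_f_g k S hS m)

end SES

lemma sum_Icc_one (f : ℕ → ℤ) (n : ℕ) :
    ∑ j ∈ Finset.Icc 1 n, f j = ∑ t ∈ Finset.range n, f (t + 1) := by
  rw [Finset.range_eq_Ico, Finset.sum_Ico_add' f 0 n 1]
  congr 1

section Seq

variable (C : ℕ → X.Modules) (d : ∀ j, C j ⟶ C (j + 1)) (hd : ∀ j, d j ≫ d (j + 1) = 0)

/-- cycles -/
abbrev Z (j : ℕ) : X.Modules := kernel (d j)

/-- the map `C j → Z (j+1)`. -/
abbrev toZ (j : ℕ) : C j ⟶ Z C d (j + 1) := kernel.lift (d (j + 1)) (d j) (hd j)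

lemma toZ_ι (j : ℕ) : toZ C d hd j ≫ kernel.ι (d (j + 1)) = d j := kernel.lift_ι _ _ _

/-- `0 → Z j → C j → Z (j+1) → 0` -/
def ses (j : ℕ) : ShortComplex X.Modules :=
  ShortComplex.mk (kernel.ι (d j)) (toZ C d hd j) (by
    rw [← cancel_mono (kernel.ι (d (j + 1))), Category.assoc, toZ_ι, kernel.condition, zero_comp])

/-- `0 → C 0 → C 1 → Z 2 → 0` -/
def ses0 : ShortComplex X.Modules :=
  ShortComplex.mk (d 0) (toZ C d hd 1) (by
    rw [← cancel_mono (kernel.ι (d (1 + 1))), Category.assoc, toZ_ι, hd, zero_comp])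

variable (hex : ∀ j, (ShortComplex.mk (d j) (d (j + 1)) (hd j)).Exact)

include hex

lemma epi_toZ (j : ℕ) : Epi (toZ C d hd j) :=
  (ShortComplex.exact_iff_epi_kernel_lift (ShortComplex.mk (d j) (d (j + 1)) (hd j))).1 (hex j)

lemma ses_shortExact (j : ℕ) : (ses C d hd j).ShortExact :=
  { exact := exact_of_comp_mono (kernel.ι (d j)) (d j) (kernel.condition _) (toZ C d hd j)
      (kernel.ι (d (j + 1))) (toZ_ι C d hd j) (ShortComplex.kernelSequence_exact (d j))
    mono_f := inferInstanceAs (Mono (kernel.ι (d j)))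
    epi_g := epi_toZ C d hd hex j }

lemma ses0_shortExact [Mono (d 0)] : (ses0 C d hd).ShortExact :=
  { exact := exact_of_comp_mono (d 0) (d 1) (hd 0) (toZ C d hd 1)
      (kernel.ι (d (1 + 1))) (toZ_ι C d hd 1) (hex 0)
    mono_f := inferInstanceAs (Mono (d 0))
    epi_g := epi_toZ C d hd hex 1 }

variable (hC : ∀ j, Coh.IsCoh (C j))

include hC

omit hex in
include k in
lemma isCoh_Z (j : ℕ) : Coh.IsCoh (Z C d j) := by
  haveI : IsLocallyNoetherian X :=
    LocallyOfFiniteType.isLocallyNoetherian (X ↘ Spec (CommRingCat.of k))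
  exact (Groth.Agent.S9514.result X (hC j) (hC (j + 1)) (d j)).1

lemma hh_Z_le (m : ℕ) : ∀ a : ℕ,
    hh k m (Z C d a) ≤ ∑ t ∈ Finset.range (m + 1), hh k (m - t) (C (a + t)) := by
  induction m with
  | zero =>
    intro a
    have := hh_left_zero k (ses C d hd a) (ses_shortExact C d hd hex a) (isCoh_Z k C d hC a)
      (hC a) (isCoh_Z k C d hC (a + 1))
    change hh k 0 (Z C d a) ≤ hh k 0 (C a) at this
    simpa using this
  | succ m ih =>
    intro a
    have h1 := hh_left_succ k (ses C d hd a) (ses_shortExact C d hd hex a) (isCoh_Z k C d hC a)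
      (hC a) (isCoh_Z k C d hC (a + 1)) m
    have h2 := ih (a + 1)
    rw [Finset.sum_range_succ']
    have h3 : ∑ t ∈ Finset.range (m + 1), hh k (m + 1 - (t + 1)) (C (a + (t + 1))) =
        ∑ t ∈ Finset.range (m + 1), hh k (m - t) (C (a + 1 + t)) := by
      refine Finset.sum_congr rfl fun t _ => ?_
      rw [show a + (t + 1) = a + 1 + t by omega, show m + 1 - (t + 1) = m - t by omega]
    rw [h3]
    change hh k (m + 1) (Z C d a) ≤ _ at h1 ⊢
    have h4 : hh k (m + 1 - 0) (C (a + 0)) = hh k (m + 1) (C a) := rfl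
    rw [h4]
    change hh k (m + 1) (Z C d a) ≤ hh k m (Z C d (a + 1)) + hh k (m + 1) (C a) at h1
    omega

/-- **The dimension estimate.** -/
theorem estimate [Mono (d 0)] (i : ℕ) :
    |(hh k i (C 0) : ℤ) - (hh k i (C 1) : ℤ)| ≤
      (Finset.Icc 1 (i + 1)).sum (fun j => ((hh k (i + 1 - j) (C (j + 1)) : ℕ) : ℤ)) +
        (Finset.Icc 1 i).sum (fun j => ((hh k (i - j) (C (j + 1)) : ℕ) : ℤ)) := by
  have hS0 := ses0_shortExact C d hd hex
  have hZ2 := isCoh_Z k C d hC (1 + 1)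
  have ha := hh_mid k (ses0 C d hd) hS0 (hC 0) (hC 1) hZ2 i
  change hh k i (C 1) ≤ hh k i (C 0) + hh k i (Z C d (1 + 1)) at ha
  have hA := hh_Z_le k C d hd hex hC i (1 + 1)
  rw [sum_Icc_one, sum_Icc_one]
  have e1 : ∑ t ∈ Finset.range (i + 1), ((hh k (i + 1 - (t + 1)) (C (t + 1 + 1)) : ℕ) : ℤ) =
      ((∑ t ∈ Finset.range (i + 1), hh k (i - t) (C (1 + 1 + t)) : ℕ) : ℤ) := by
    push_cast
    refine Finset.sum_congr rfl fun t _ => ?_
    rw [show t + 1 + 1 = 2 + t by omega]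
  rw [e1]
  cases i with
  | zero =>
    have hb := hh_left_zero k (ses0 C d hd) hS0 (hC 0) (hC 1) hZ2
    change hh k 0 (C 0) ≤ hh k 0 (C 1) at hb
    simp only [Finset.range_zero, Finset.sum_empty, add_zero]
    rw [abs_le]
    constructor <;> omega
  | succ m =>
    have hb := hh_left_succ k (ses0 C d hd) hS0 (hC 0) (hC 1) hZ2 m
    change hh k (m + 1) (C 0) ≤ hh k m (Z C d (1 + 1)) + hh k (m + 1) (C 1) at hb
    have hB := hh_Z_le k C d hd hex hC m (1 + 1)
    have e2 : ∑ t ∈ Finset.range (m + 1), ((hh k (m + 1 - (t + 1)) (C (t + 1 + 1)) : ℕ) : ℤ) =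
        ((∑ t ∈ Finset.range (m + 1), hh k (m - t) (C (1 + 1 + t)) : ℕ) : ℤ) := by
      push_cast
      refine Finset.sum_congr rfl fun t _ => ?_
      rw [show t + 1 + 1 = 2 + t by omega]
    rw [e2]
    rw [abs_le]
    constructor <;> omega

end Seq

end Groth.Agent.Lib.Helper23.CohSeq
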