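import Mathlib
import Groth.Prelude.Def_CohTop

/-!
# Sections of a constant sheaf on an irreducible space; subobjects via local sections
-/

set_option autoImplicit false
universe u
open CategoryTheory CategoryTheory.Limits Opposite TopologicalSpace

noncomputable section

namespace Groth.Agent.Lib.Helper23.ConstIrr

section abelian

variable {C : Type*} [Category C] [Abelian C]

lemma imageSubobject_le_of_comp_cokernel_eq_zero {A A' B : C} (f : A ⟶ B) (g : A' ⟶ B)
    (h : f ≫ cokernel.π g = 0) : imageSubobject f ≤ imageSubobject g := by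
  refine imageSubobject_le f (kernel.lift (cokernel.π g) f h ≫ (Abelian.imageIsoImage g).hom ≫
    (imageSubobjectIso g).inv) ?_
  rw [Category.assoc, Category.assoc, imageSubobject_arrow', Abelian.imageIsoImage_hom_comp_image_ι,
    kernel.lift_ι]

end abelian

section sheaf

variable {X : TopCat.{u}}

lemma comp_cokernel_eq_zero_of_sections {F F' G : CohTop.Ab X} (f : F ⟶ G) (g : F' ⟶ G)
    (h : ∀ (V : Opens X) (s : F.obj.obj (op V)), ∃ t : F'.obj.obj (op V),
      (g.hom.app (op V)).hom t = (f.hom.app (op V)).hom s) :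
    f ≫ cokernel.π g = 0 := by
  apply Sheaf.hom_ext
  ext V s
  obtain ⟨V⟩ := V
  obtain ⟨t, ht⟩ := h V s
  have h1 : (g ≫ cokernel.π g).hom.app (op V) = 0 := by rw [cokernel.condition]; rfl
  have h2 := ConcreteCategory.congr_hom h1 t
  change ((cokernel.π g).hom.app (op V)).hom ((f.hom.app (op V)).hom s) = 0
  rw [← ht]
  exact h2

lemma imageSubobject_eq_of_sections {F F' G : CohTop.Ab X} (f : F ⟶ G) (g : F' ⟶ G)
    (h : ∀ (V : Opens X) (s : F.obj.obj (op V)), ∃ t : F'.obj.obj (op V),
      (g.hom.app (op V)).hom t = (f.hom.app (op V)).hom s)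
    (h' : ∀ (V : Opens X) (t : F'.obj.obj (op V)), ∃ s : F.obj.obj (op V),
      (f.hom.app (op V)).hom s = (g.hom.app (op V)).hom t) :
    imageSubobject f = imageSubobject g :=
  le_antisymm
    (imageSubobject_le_of_comp_cokernel_eq_zero f g (comp_cokernel_eq_zero_of_sections f g h))
    (imageSubobject_le_of_comp_cokernel_eq_zero g f (comp_cokernel_eq_zero_of_sections g f h'))

end sheaf

end Groth.Agent.Lib.Helper23.ConstIrr
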