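import Groth.Agent.Lib.Helper23.ConstIrrA

/-!
# Sections of a constant sheaf on an irreducible space
-/

set_option autoImplicit false
universe u
open CategoryTheory CategoryTheory.Limits Opposite TopologicalSpace

noncomputable section

namespace Groth.Agent.Lib.Helper23.ConstIrr

variable {X : TopCat.{u}}

/-- the constant presheaf. -/
abbrev cpre (X : TopCat.{u}) (A : Type u) [AddCommGroup A] : (Opens X)ᵒᵖ ⥤ AddCommGrpCat.{u} :=
  (Functor.const (Opens X)ᵒᵖ).obj (AddCommGrpCat.of A)

/-- the unit of sheafification. -/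
abbrev η (X : TopCat.{u}) (A : Type u) [AddCommGroup A] :
    cpre X A ⟶ (CohTop.const X A).obj :=
  toSheafify (Opens.grothendieckTopology X) (cpre X A)

/-- The constant section with value `a` over `V`. -/
def ηh (A : Type u) [AddCommGroup A] (V : Opens X) : A →+ (CohTop.const X A).obj.obj (op V) :=
  ((η X A).app (op V)).hom

lemma ηh_res (A : Type u) [AddCommGroup A] {U V : Opens X} (h : V ≤ U) (a : A) :
    ((CohTop.const X A).obj.map (homOfLE h).op).hom (ηh A U a) = ηh A V a :=
  (ConcreteCategory.congr_hom ((η X A).naturality (homOfLE h).op) a).symm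

lemma subsingleton_of_empty (F : CohTop.Ab X) {V : Opens X} (hV : ¬ (V : Set X).Nonempty) :
    Subsingleton (F.obj.obj (op V)) := by
  have hbot : V = ⊥ := by
    ext y
    simp only [Opens.coe_bot, Set.mem_empty_iff_false, iff_false]
    exact fun hy => hV ⟨y, hy⟩
  have ht := TopCat.Sheaf.isTerminalOfEqEmpty F hbot
  refine ⟨fun a b => ?_⟩
  have key : ∀ c : F.obj.obj (op V), c = 0 := by
    intro c
    have e : 𝟙 (F.obj.obj (op V)) = 0 := ht.hom_ext _ _
    have := ConcreteCategory.congr_hom e c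
    simpa using this
  rw [key a, key b]

theorem ηh_injective (A : Type u) [AddCommGroup A] {V : Opens X} (hV : (V : Set X).Nonempty) :
    Function.Injective (ηh (X := X) A V) := by
  intro a b e
  have hinj : Presheaf.IsLocallyInjective (Opens.grothendieckTopology X) (η X A) :=
    inferInstanceAs (Presheaf.IsLocallyInjective (Opens.grothendieckTopology X)
      (toSheafify (Opens.grothendieckTopology X) (cpre X A)))
  have hm := hinj.equalizerSieve_mem (X := op V) a b e
  obtain ⟨z, hz⟩ := hV
  obtain ⟨W'', f, hf, -⟩ := hm z hz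
  exact hf

variable [IrreducibleSpace X]

theorem ηh_surjective (A : Type u) [AddCommGroup A] {V : Opens X} (hV : (V : Set X).Nonempty) :
    Function.Surjective (ηh (X := X) A V) := by
  intro s
  let F := CohTop.const X A
  have hsurj : Presheaf.IsLocallySurjective (Opens.grothendieckTopology X) (η X A) :=
    inferInstanceAs (Presheaf.IsLocallySurjective (Opens.grothendieckTopology X)
      (toSheafify (Opens.grothendieckTopology X) (cpre X A)))
  have hloc : ∀ x : V, ∃ (W : Opens X) (hWV : W ≤ V) (a : A), (x : X) ∈ W ∧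
      ηh A W a = (F.obj.map (homOfLE hWV).op).hom s := by
    intro x
    obtain ⟨W, g, ⟨a, ha⟩, hxW⟩ := hsurj.imageSieve_mem s x.1 x.2
    exact ⟨W, g.le, a, hxW, ha⟩
  choose W hWV a hxW ha using hloc
  obtain ⟨x₀, hx₀⟩ := hV
  let x₀' : V := ⟨x₀, hx₀⟩
  have hconst : ∀ x : V, a x = a x₀' := by
    intro x
    obtain ⟨z, hz⟩ : ((W x : Set X) ∩ (W x₀' : Set X)).Nonempty :=
      nonempty_preirreducible_inter (W x).2 (W x₀').2 ⟨x, hxW x⟩ ⟨x₀, hxW x₀'⟩
    let W' : Opens X := W x ⊓ W x₀'
    have e : ηh A W' (a x) = ηh A W' (a x₀') := by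
      rw [← ηh_res A (inf_le_left : W' ≤ W x) (a x), ← ηh_res A (inf_le_right : W' ≤ W x₀') (a x₀'),
        ha, ha]
      change (F.obj.map (homOfLE _).op).hom ((F.obj.map (homOfLE _).op).hom s) =
        (F.obj.map (homOfLE _).op).hom ((F.obj.map (homOfLE _).op).hom s)
      rw [← ConcreteCategory.comp_apply, ← ConcreteCategory.comp_apply, ← F.obj.map_comp,
        ← F.obj.map_comp]
      rfl
    exact ηh_injective A ⟨z, hz⟩ e
  refine ⟨a x₀', ?_⟩
  apply TopCat.Sheaf.eq_of_locally_eq' F W V (fun x => homOfLE (hWV x))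
    (fun y hy => Opens.mem_iSup.2 ⟨⟨y, hy⟩, hxW ⟨y, hy⟩⟩)
  intro x
  have h0 := ηh_res A (hWV x) (a x₀')
  have h1 : ηh A (W x) (a x₀') = ηh A (W x) (a x) := by rw [hconst x]
  exact (h0.trans h1).trans (ha x)

end Groth.Agent.Lib.Helper23.ConstIrr
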