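import Groth.Agent.Lib.Helper23.ConstIrrB

/-!
# Subsheaves of the constant sheaf `ℤ` on an irreducible space
-/

set_option autoImplicit false
universe u
open CategoryTheory CategoryTheory.Limits Opposite TopologicalSpace

noncomputable section

namespace Groth.Agent.Lib.Helper23.ConstIrr

variable {X : TopCat.{u}} {A : Type u} [AddCommGroup A] {H : CohTop.Ab X}
  (ι : H ⟶ CohTop.const X A)

/-- Constants whose constant section over `V` lies in the image of `ι`. -/
def S (V : Opens X) : AddSubgroup A := (ι.hom.app (op V)).hom.range.comap (ηh A V)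

lemma mem_S {V : Opens X} {a : A} :
    a ∈ S ι V ↔ ∃ s : H.obj.obj (op V), (ι.hom.app (op V)).hom s = ηh A V a := Iff.rfl

lemma S_mono {V' V : Opens X} (h : V' ≤ V) : S ι V ≤ S ι V' := by
  rintro a ⟨s, hs⟩
  refine ⟨(H.obj.map (homOfLE h).op).hom s, ?_⟩
  have := ConcreteCategory.congr_hom (ι.hom.naturality (homOfLE h).op) s
  rw [← ηh_res A h a, ← hs]
  exact this

variable [IrreducibleSpace X]

theorem exists_open_dvd (ι : H ⟶ CohTop.const X (ULift.{u} ℤ)) :
    ∃ (U : Opens X) (d : ℤ), (U : Set X).Nonempty ∧ ∀ V : Opens X, V ≤ U →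
      (V : Set X).Nonempty → ∀ a : ULift.{u} ℤ, a ∈ S ι V ↔ d ∣ a.down := by
  let NE := {V : Opens X // (V : Set X).Nonempty}
  haveI : Nonempty NE := ⟨⟨⊤, Set.univ_nonempty⟩⟩
  let T : AddSubgroup (ULift.{u} ℤ) := ⨆ V : NE, S ι V.1
  have hdir : Directed (· ≤ ·) (fun V : NE => S ι V.1) := by
    intro V₁ V₂
    obtain ⟨x₁, h₁⟩ := V₁.2
    obtain ⟨x₂, h₂⟩ := V₂.2
    refine ⟨⟨V₁.1 ⊓ V₂.1, nonempty_preirreducible_inter V₁.1.2 V₂.1.2 ⟨x₁, h₁⟩ ⟨x₂, h₂⟩⟩,
      S_mono ι inf_le_left, S_mono ι inf_le_right⟩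
  let I : Ideal ℤ :=
    { carrier := {n | ULift.up n ∈ T}
      add_mem' := fun {a b} ha hb => T.add_mem ha hb
      zero_mem' := T.zero_mem
      smul_mem' := fun c n hn => by
        have h := T.zsmul_mem hn c
        have e : c • (ULift.up n : ULift.{u} ℤ) = ULift.up (c • n) := rfl
        rw [e] at h
        exact h }
  obtain ⟨d, hd⟩ : ∃ d, I = Ideal.span {d} := (IsPrincipalIdealRing.principal I).principal
  have hdI : d ∈ I := by rw [hd]; exact Ideal.mem_span_singleton_self d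
  have hdT : ULift.up d ∈ T := hdI
  obtain ⟨⟨U, hU⟩, hdU⟩ := (AddSubgroup.mem_iSup_of_directed hdir).mp hdT
  refine ⟨U, d, hU, fun V hVU hV a => ⟨fun ha => ?_, fun ⟨b, hb⟩ => ?_⟩⟩
  · have h1 : a ∈ T := AddSubgroup.mem_iSup_of_mem (⟨V, hV⟩ : NE) ha
    have h2 : a.down ∈ I := h1
    rw [hd, Ideal.mem_span_singleton] at h2
    exact h2
  · have h1 : ULift.up d ∈ S ι V := S_mono ι hVU hdU
    have h2 : a = b • (ULift.up d : ULift.{u} ℤ) := by
      apply ULift.ext
      change a.down = b • d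
      rw [hb, smul_eq_mul, mul_comm]
    rw [h2]
    exact (S ι V).zsmul_mem h1 b

end Groth.Agent.Lib.Helper23.ConstIrr
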