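import Groth.Agent.Lib.Helper23.ConstIrrC

/-!
# Subsheaves of the constant sheaf `ℤ` on an irreducible space: main theorem
-/

set_option autoImplicit false
universe u
open CategoryTheory CategoryTheory.Limits Opposite TopologicalSpace

noncomputable section

namespace Groth.Agent.Lib.Helper23.ConstIrr

variable {X : TopCat.{u}}

/-- The constant sheaf `ℤ`. -/
abbrev cZ (X : TopCat.{u}) : CohTop.Ab X := CohTop.const X (ULift.{u} ℤ)

/-- image of an open of `U` in `X` -/
def im (U : Opens X) (W : Opens ↥U) : Opens X := (U.isOpenEmbedding.isOpenMap.functor).obj W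

lemma im_le (U : Opens X) (W : Opens ↥U) : im U W ≤ U := by
  rintro _ ⟨x, -, rfl⟩
  exact x.2

lemma im_nonempty_iff (U : Opens X) (W : Opens ↥U) :
    (im U W : Set X).Nonempty ↔ (W : Set ↥U).Nonempty := by
  constructor
  · rintro ⟨_, x, hx, rfl⟩
    exact ⟨x, hx⟩
  · rintro ⟨x, hx⟩
    exact ⟨x.1, x, hx, rfl⟩

variable [IrreducibleSpace X]

theorem main {H : CohTop.Ab X} (ι : H ⟶ CohTop.const X (ULift.{u} ℤ)) :
    ∃ (U : Opens X) (d : ℤ), U ≠ ⊥ ∧
      imageSubobject ((CohTop.restrFunctor U).map ι) =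
        imageSubobject ((CohTop.restrFunctor U).map (d • 𝟙 (CohTop.const X (ULift.{u} ℤ)))) := by
  obtain ⟨U, d, hU, hS⟩ := exists_open_dvd ι
  refine ⟨U, d, ?_, ?_⟩
  · rintro rfl
    obtain ⟨x, hx⟩ := hU
    exact hx
  apply imageSubobject_eq_of_sections
  · intro W s
    change ∃ t : (cZ X).obj.obj (op (im U W)), ((d • 𝟙 (cZ X) : cZ X ⟶ cZ X).hom.app (op (im U W))).hom t =
      (ι.hom.app (op (im U W))).hom s
    by_cases hW : (im U W : Set X).Nonempty
    · obtain ⟨a, ha⟩ := ηh_surjective (ULift.{u} ℤ) hW ((ι.hom.app (op (im U W))).hom s)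
      have h1 : a ∈ S ι (im U W) := ⟨s, ha.symm⟩
      obtain ⟨b, hb⟩ := (hS _ (im_le U W) hW a).mp h1
      refine ⟨ηh _ (im U W) (ULift.up b), ?_⟩
      change d • ηh _ (im U W) (ULift.up b) = _
      rw [← ha, ← map_zsmul]
      congr 1
      apply ULift.ext
      change d • b = a.down
      rw [hb, smul_eq_mul]
    · haveI := subsingleton_of_empty (cZ X) hW
      exact ⟨0, Subsingleton.elim _ _⟩
  · intro W t
    change ∃ s : H.obj.obj (op (im U W)), (ι.hom.app (op (im U W))).hom s =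
      ((d • 𝟙 (cZ X) : cZ X ⟶ cZ X).hom.app (op (im U W))).hom t
    by_cases hW : (im U W : Set X).Nonempty
    · obtain ⟨b, rfl⟩ := ηh_surjective (ULift.{u} ℤ) hW t
      have h1 : d • b ∈ S ι (im U W) := by
        rw [hS _ (im_le U W) hW]
        exact ⟨b.down, by change d • b.down = _; rw [smul_eq_mul]⟩
      obtain ⟨s, hs⟩ := h1
      refine ⟨s, hs.trans ?_⟩
      change _ = d • ηh _ (im U W) b
      rw [← map_zsmul]
    · haveI := subsingleton_of_empty (cZ X) hW
      exact ⟨0, Subsingleton.elim _ _⟩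

end Groth.Agent.Lib.Helper23.ConstIrr
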