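import Mathlib

/-!
# Coset prime avoidance

`exists_add_notMem`: for an ideal `I`, an element `x`, and finitely many primes `p` none of which
contains both `x` and `I`, there is `i ∈ I` with `x + i ∉ p` for all `p`.
-/

namespace Groth.Agent.Lib.Helper23.CosetAvoid

universe u v

/-- Coset prime avoidance for an antichain of primes. -/
theorem exists_add_notMem_of_antichain {A : Type u} [CommRing A] (I : Ideal A) (x : A)
    (P : Finset (Ideal A)) (hprime : ∀ p ∈ P, p.IsPrime)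
    (hanti : ∀ p ∈ P, ∀ q ∈ P, q ≤ p → q = p)
    (hnot : ∀ p ∈ P, ¬ (x ∈ p ∧ I ≤ p)) :
    ∃ i ∈ I, ∀ p ∈ P, x + i ∉ p := by
  classical
  set Q₁ := P.filter (fun p => x ∈ p) with hQ₁
  set Q₂ := P.filter (fun p => x ∉ p) with hQ₂
  set K : Ideal A := I ⊓ Q₂.inf id with hK
  have hKnot : ¬ ((K : Set A) ⊆ ⋃ p ∈ (Q₁ : Set (Ideal A)), ((id p : Ideal A) : Set A)) := by
    intro hsub
    rw [Ideal.subset_union_prime (f := id) ⊥ ⊥
      (fun p hp _ _ => hprime p (Finset.mem_filter.mp hp).1)] at hsub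
    obtain ⟨p, hp, hKp⟩ := hsub
    have hpP := (Finset.mem_filter.mp hp).1
    have hxp := (Finset.mem_filter.mp hp).2
    rcases (Ideal.IsPrime.inf_le (hprime p hpP)).mp hKp with h | h
    · exact hnot p hpP ⟨hxp, h⟩
    · obtain ⟨q, hq, hqp⟩ := (Ideal.IsPrime.inf_le' (hprime p hpP)).mp h
      have hqP := (Finset.mem_filter.mp hq).1
      have hxq := (Finset.mem_filter.mp hq).2
      have := hanti p hpP q hqP hqp
      exact hxq (this ▸ hxp)
  obtain ⟨i, hiK, hiU⟩ := Set.not_subset.mp hKnot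
  have hiI : i ∈ I := (Ideal.mem_inf.mp hiK).1
  have hiQ₂ : ∀ q ∈ Q₂, i ∈ q := by
    intro q hq
    have : i ∈ Q₂.inf id := (Ideal.mem_inf.mp hiK).2
    exact (Finset.inf_le hq : Q₂.inf id ≤ id q) this
  refine ⟨i, hiI, fun p hp hmem => ?_⟩
  by_cases hxp : x ∈ p
  · apply hiU
    simp only [Set.mem_iUnion]
    refine ⟨p, Finset.mem_coe.mpr (Finset.mem_filter.mpr ⟨hp, hxp⟩), ?_⟩
    have h2 : (x + i) - x ∈ p := p.sub_mem hmem hxp
    simpa using h2
  · apply hxp
    have hi : i ∈ p := hiQ₂ p (Finset.mem_filter.mpr ⟨hp, hxp⟩)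
    have h2 : (x + i) - i ∈ p := p.sub_mem hmem hi
    simpa using h2

/-- Coset prime avoidance: if no prime `p ∈ P` contains both `x` and `I`, some element of the coset
`x + I` avoids every `p ∈ P`. -/
theorem exists_add_notMem {A : Type u} [CommRing A] (I : Ideal A) (x : A)
    (P : Finset (Ideal A)) (hprime : ∀ p ∈ P, p.IsPrime)
    (hnot : ∀ p ∈ P, ¬ (x ∈ p ∧ I ≤ p)) :
    ∃ i ∈ I, ∀ p ∈ P, x + i ∉ p := by
  classical
  set P' := P.filter (fun p => ∀ q ∈ P, p ≤ q → p = q) with hP'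
  obtain ⟨i, hiI, hi⟩ := exists_add_notMem_of_antichain I x P'
    (fun p hp => hprime p (Finset.mem_filter.mp hp).1)
    (fun p hp q hq hqp => (Finset.mem_filter.mp hq).2 p (Finset.mem_filter.mp hp).1 hqp)
    (fun p hp => hnot p (Finset.mem_filter.mp hp).1)
  refine ⟨i, hiI, fun p hp hmem => ?_⟩
  obtain ⟨q, hpq, hq⟩ := P.exists_le_maximal hp
  refine hi q (Finset.mem_filter.mpr ⟨hq.prop, fun r hr hqr => ?_⟩) (hpq hmem)
  exact le_antisymm hqr (hq.le_of_ge hr hqr)

/-- In a Noetherian ring all of whose associated primes are minimal, a regular element of `A ⧸ I`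
lifts to a regular element of `A`. -/
theorem exists_nonZeroDivisor_lift {A : Type u} [CommRing A]
    [IsNoetherianRing A] (hS1 : ∀ p ∈ associatedPrimes A A, p ∈ minimalPrimes A) (I : Ideal A)
    (b : A ⧸ I) (hb : b ∈ nonZeroDivisors (A ⧸ I)) :
    ∃ a : A, a ∈ nonZeroDivisors A ∧ Ideal.Quotient.mk I a = b := by
  classical
  obtain ⟨x, rfl⟩ := Ideal.Quotient.mk_surjective b
  have hfin : (associatedPrimes A A).Finite := associatedPrimes.finite A A
  set P := hfin.toFinset with hPdef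
  have hmemP : ∀ p, p ∈ P ↔ p ∈ associatedPrimes A A := fun p => hfin.mem_toFinset
  have hnot : ∀ p ∈ P, ¬ (x ∈ p ∧ I ≤ p) := by
    rintro p hp ⟨hxp, hIp⟩
    have hpmin : p ∈ minimalPrimes A := hS1 p ((hmemP p).mp hp)
    have hpI : p ∈ I.minimalPrimes := by
      refine ⟨⟨hpmin.1.1, hIp⟩, fun q hq hqp => ?_⟩
      exact hpmin.2 ⟨hq.1, bot_le⟩ hqp
    rw [Ideal.minimalPrimes_eq_comap] at hpI
    obtain ⟨P', hP', rfl⟩ := hpI
    have : Ideal.Quotient.mk I x ∈ P' := hxp
    exact Set.disjoint_left.mp (Ideal.disjoint_nonZeroDivisors_of_mem_minimalPrimes hP') this hb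
  obtain ⟨i, hiI, hi⟩ := exists_add_notMem I x P
    (fun p hp => ((hmemP p).mp hp).isPrime) hnot
  refine ⟨x + i, ?_, ?_⟩
  · by_contra hnz
    have : x + i ∈ ((nonZeroDivisors A : Set A))ᶜ := hnz
    rw [← biUnion_associatedPrimes_eq_compl_nonZeroDivisors] at this
    simp only [Set.mem_iUnion] at this
    obtain ⟨p, hp, hxp⟩ := this
    exact hi p ((hmemP p).mpr hp) hxp
  · rw [map_add, Ideal.Quotient.eq_zero_iff_mem.mpr hiI, add_zero]


section Graded


variable {R : Type u} {A : Type v} [CommRing R] [CommRing A] [Algebra R A]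
  (𝒜 : ℕ → Submodule R A) [GradedRing 𝒜]

/-- A homogeneous ideal not contained in an ideal `p` has a homogeneous element outside `p`. -/
theorem exists_homogeneous_mem_notMem {K : Ideal A} (hK : K.IsHomogeneous 𝒜) {p : Ideal A}
    (h : ¬ K ≤ p) : ∃ n, ∃ y ∈ 𝒜 n, y ∈ K ∧ y ∉ p := by
  classical
  obtain ⟨x, hxK, hxp⟩ := SetLike.not_le_iff_exists.mp h
  by_contra hcon
  push Not at hcon
  apply hxp
  rw [← DirectSum.sum_support_decompose 𝒜 x]
  exact Ideal.sum_mem _ fun j _ => hcon j _ (SetLike.coe_mem _) (hK j hxK)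

/-- Graded prime avoidance for homogeneous primes. -/
theorem exists_homogeneous_avoid_of_isHomogeneous {K : Ideal A} (hK : K.IsHomogeneous 𝒜)
    (hK0 : K ≤ (HomogeneousIdeal.irrelevant 𝒜).toIdeal) (P : Finset (Ideal A))
    (hP : ∀ p ∈ P, p.IsPrime ∧ p.IsHomogeneous 𝒜 ∧ ¬ K ≤ p) :
    ∃ (z : A) (n : ℕ), 0 < n ∧ z ∈ 𝒜 n ∧ z ∈ K ∧ ∀ p ∈ P, z ∉ p := by
  classical
  induction P using Finset.strongInduction with
  | H P ih =>
    rcases P.eq_empty_or_nonempty with rfl | hne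
    · exact ⟨0, 1, Nat.one_pos, Submodule.zero_mem _, K.zero_mem, by simp⟩
    obtain ⟨p₀, hp₀⟩ := P.exists_minimal hne
    have hp₀P : p₀ ∈ P := hp₀.prop
    obtain ⟨v, m, hm, hvm, hvK, hv⟩ := ih (P.erase p₀) (Finset.erase_ssubset hp₀P)
      (fun p hp => hP p (Finset.mem_of_mem_erase hp))
    by_cases hvp : v ∈ p₀
    swap
    · refine ⟨v, m, hm, hvm, hvK, fun p hp => ?_⟩
      by_cases hpp : p = p₀
      · rw [hpp]; exact hvp
      · exact hv p (Finset.mem_erase.mpr ⟨hpp, hp⟩)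
    obtain ⟨hprime₀, hhom₀, hK₀⟩ := hP p₀ hp₀P
    set L : Ideal A := K ⊓ (P.erase p₀).inf id with hL
    have hLhom : L.IsHomogeneous 𝒜 := by
      refine hK.inf ?_
      rw [Finset.inf_eq_iInf]
      exact Ideal.IsHomogeneous.iInf₂ fun q hq => (hP q (Finset.mem_of_mem_erase hq)).2.1
    have hLp : ¬ L ≤ p₀ := by
      intro hle
      rcases (Ideal.IsPrime.inf_le hprime₀).mp hle with h | h
      · exact hK₀ h
      · obtain ⟨q, hq, hqp⟩ := (Ideal.IsPrime.inf_le' hprime₀).mp h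
        have hqP := Finset.mem_of_mem_erase hq
        have : p₀ ≤ q := hp₀.le_of_le hqP hqp
        exact (Finset.ne_of_mem_erase hq) (le_antisymm hqp this)
    obtain ⟨n₁, u, hun, huL, hup⟩ := exists_homogeneous_mem_notMem 𝒜 hLhom hLp
    have huK : u ∈ K := (Ideal.mem_inf.mp huL).1
    have huq : ∀ q ∈ P.erase p₀, u ∈ q := fun q hq =>
      (Finset.inf_le hq : (P.erase p₀).inf id ≤ id q) (Ideal.mem_inf.mp huL).2
    have hn₁ : 0 < n₁ := by
      rcases Nat.eq_zero_or_pos n₁ with h0 | h0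
      · exfalso
        subst h0
        have h1 : u ∈ HomogeneousIdeal.irrelevant 𝒜 := (hK0 huK)
        rw [HomogeneousIdeal.mem_irrelevant_iff, GradedRing.proj_apply,
          DirectSum.decompose_of_mem_same 𝒜 hun] at h1
        exact hup (h1 ▸ p₀.zero_mem)
      · exact h0
    refine ⟨u ^ m + v ^ n₁, m * n₁, Nat.mul_pos hm hn₁, ?_, ?_, ?_⟩
    · refine Submodule.add_mem _ ?_ ?_
      · have := SetLike.pow_mem_graded m hun
        simpa [smul_eq_mul] using this
      · have := SetLike.pow_mem_graded n₁ hvm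
        simpa [smul_eq_mul, mul_comm] using this
    · exact K.add_mem (Ideal.pow_mem_of_mem K huK m hm) (Ideal.pow_mem_of_mem K hvK n₁ hn₁)
    · intro p hp hz
      by_cases hpp : p = p₀
      · rw [hpp] at hz
        have h1 : v ^ n₁ ∈ p₀ := Ideal.pow_mem_of_mem p₀ hvp n₁ hn₁
        have h2 : u ^ m ∈ p₀ := by
          have := p₀.sub_mem hz h1
          simpa using this
        exact hup (hprime₀.mem_of_pow_mem m h2)
      · have hpe : p ∈ P.erase p₀ := Finset.mem_erase.mpr ⟨hpp, hp⟩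
        have hprime := (hP p hp).1
        have h1 : u ^ m ∈ p := Ideal.pow_mem_of_mem p (huq p hpe) m hm
        have h2 : v ^ n₁ ∈ p := by
          have := p.sub_mem hz h1
          simpa using this
        exact hv p hpe (hprime.mem_of_pow_mem n₁ h2)

/-- Graded prime avoidance: a homogeneous ideal `J` and finitely many (arbitrary) primes, none
containing `J` or the irrelevant ideal; then a homogeneous element of positive degree of `J`
avoids all of them. -/
theorem exists_homogeneous_posDeg_mem_avoid_primes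
    (J : Ideal A) (hJ : J.IsHomogeneous 𝒜) (P : Finset (Ideal A))
    (hP : ∀ p ∈ P, p.IsPrime ∧ ¬ (HomogeneousIdeal.irrelevant 𝒜).toIdeal ≤ p ∧ ¬ J ≤ p) :
    ∃ (z : A) (n : ℕ), 0 < n ∧ z ∈ 𝒜 n ∧ z ∈ J ∧ ∀ p ∈ P, z ∉ p := by
  classical
  set K : Ideal A := J ⊓ (HomogeneousIdeal.irrelevant 𝒜).toIdeal with hKdef
  have hK : K.IsHomogeneous 𝒜 := hJ.inf (HomogeneousIdeal.isHomogeneous _)
  obtain ⟨z, n, hn, hzn, hzK, hz⟩ := exists_homogeneous_avoid_of_isHomogeneous 𝒜 hK inf_le_right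
    (P.image fun p => (p.homogeneousCore 𝒜).toIdeal) (by
      intro q hq
      obtain ⟨p, hp, rfl⟩ := Finset.mem_image.mp hq
      obtain ⟨hprime, hirr, hJp⟩ := hP p hp
      refine ⟨hprime.homogeneousCore, HomogeneousIdeal.isHomogeneous _, fun hle => ?_⟩
      rcases (Ideal.IsPrime.inf_le hprime).mp
        (hle.trans (Ideal.toIdeal_homogeneousCore_le 𝒜 p)) with h | h
      · exact hJp h
      · exact hirr h)
  refine ⟨z, n, hn, hzn, (Ideal.mem_inf.mp hzK).1, fun p hp hzp => ?_⟩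
  exact hz _ (Finset.mem_image_of_mem _ hp)
    (Ideal.mem_homogeneousCore_of_homogeneous_of_mem ⟨n, hzn⟩ hzp)

end Graded

end Groth.Agent.Lib.Helper23.CosetAvoid
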