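import Groth.Agent.Lib.Helper7.AmpleSerre
import Groth.Agent.Lib.Helper1.NoCurveAmple
import Groth.Agent.Lib.Helper23.BddE
import Groth.Agent.Lib.Helper23.CurveNefA

/-!
# Normally generated ample invertible modules on proper schemes over a field are very ample
-/

set_option autoImplicit false
set_option linter.unusedSectionVars false
set_option linter.style.haveILetI false
universe u
open CategoryTheory CategoryTheory.Limits AlgebraicGeometry TopologicalSpace Opposite
open Scheme.Modules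

noncomputable section

namespace Groth.Agent.Lib.Helper23.CurveVA

open Groth.Agent.Lib.Helper3
open QCSec InvGen InvTensor InvTwist InvMonoidal InvCoh InvAmple SecCoord VACore VASegre

section CI
open TwistBasic TwistMul PbTensor PbBasic PEmb2
open Groth.Agent.Lib.Helper7

variable (R : Type u) [CommRing R] {X : Scheme.{u}} (f : X ⟶ Spec (CommRingCat.of R))

/-- relative very ampleness w.r.t. projective space over an affine base, for a proper scheme,
gives a closed immersion into the standard projective space. -/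
theorem exists_closedImmersion_of_isRelVeryAmplePn [IsProper f] {L : X.Modules}
    (h : RelAmple.IsRelVeryAmplePn f L) :
    ∃ (N : ℕ) (ι : X ⟶ CohB1.ProjSpace N R), IsClosedImmersion ι ∧
      ι ≫ CohB1.ProjSpace.toSpec N R = f ∧
      Nonempty (L ≅ (Scheme.Modules.pullback ι).obj (Twist.twistProjSpace N R 1)) := by
  obtain ⟨N, i, hi, hcomp, ⟨τ⟩⟩ := h
  have hP := IsPullback.of_hasPullback (CohB1.ProjSpace.toSpec N (ULift.{u} ℤ))
    (specULiftZIsTerminal.from (Spec (CommRingCat.of R)))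
  haveI hiso := PIso.isIso_lift N (R := R) _ _ hP
  let c : CohB1.ProjSpace N R ⟶ CohB1.ProjSpaceOver N (Spec (CommRingCat.of R)) :=
    hP.lift (gmap N R) (CohB1.ProjSpace.toSpec N R) (specULiftZIsTerminal.hom_ext _ _)
  haveI : IsIso c := hiso
  let S : Scheme.{u} := Spec (CommRingCat.of R)
  let pfst : CohB1.ProjSpaceOver N S ⟶ CohB1.ProjSpace N (ULift.{u} ℤ) :=
    pullback.fst (CohB1.ProjSpace.toSpec N (ULift.{u} ℤ)) (specULiftZIsTerminal.from S)
  let psnd : CohB1.ProjSpaceOver N S ⟶ S :=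
    pullback.snd (CohB1.ProjSpace.toSpec N (ULift.{u} ℤ)) (specULiftZIsTerminal.from S)
  let g' : CohB1.ProjSpace N R ⟶ CohB1.ProjSpace N (ULift.{u} ℤ) := gmap N R
  let tS : CohB1.ProjSpace N R ⟶ S := CohB1.ProjSpace.toSpec N R
  have hc1 : c ≫ pfst = g' := hP.lift_fst _ _ _
  have hc2 : c ≫ psnd = tS := hP.lift_snd _ _ _
  have hcomp' : i ≫ psnd = f := hcomp
  have h1 : inv c ≫ g' = pfst := (IsIso.inv_comp_eq c).2 hc1.symm
  have h2 : inv c ≫ tS = psnd := (IsIso.inv_comp_eq c).2 hc2.symm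
  have hι : (i ≫ inv c) ≫ tS = f :=
    ((Category.assoc i (inv c) tS).trans (congrArg (fun t => i ≫ t) h2)).trans hcomp'
  haveI : IsProper psnd := by
    have h0 : IsProper (CohB1.ProjSpace.toSpec N (ULift.{u} ℤ)) :=
      QProj.isProper_toSpec (ULift.{u} ℤ) N
    exact IsProper.isStableUnderBaseChange.of_isPullback hP h0
  haveI : IsProper (i ≫ psnd) := by
    rw [hcomp']; infer_instance
  haveI : IsProper i := IsProper.of_comp i psnd
  haveI : IsImmersion i := hi
  haveI : IsClosedImmersion i :=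
    IsClosedImmersion.of_isPreimmersion i i.isClosedMap.isClosed_range
  refine ⟨N, i ≫ inv c, inferInstance, hι, ?_⟩
  have hfst : i ≫ pfst = (i ≫ inv c) ≫ g' :=
    ((Category.assoc i (inv c) g').trans (congrArg (fun t => i ≫ t) h1)).symm
  obtain ⟨e0⟩ := GmapTwist.nonempty_iso N R
  let T := Twist.twistProjSpace N (ULift.{u} ℤ) 1
  let e1 : (Scheme.Modules.pullback i).obj (Twist.twistOver N S 1) ≅
      (Scheme.Modules.pullback (i ≫ pfst)).obj T :=
    (Scheme.Modules.pullbackComp i pfst).app T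
  let e2 : (Scheme.Modules.pullback (i ≫ pfst)).obj T ≅
      (Scheme.Modules.pullback ((i ≫ inv c) ≫ g')).obj T :=
    (Scheme.Modules.pullbackCongr hfst).app T
  let e3 : (Scheme.Modules.pullback ((i ≫ inv c) ≫ g')).obj T ≅
      (Scheme.Modules.pullback (i ≫ inv c)).obj ((Scheme.Modules.pullback g').obj T) :=
    ((Scheme.Modules.pullbackComp (i ≫ inv c) g').app T).symm
  exact ⟨τ ≪≫ e1 ≪≫ e2 ≪≫ e3 ≪≫ (Scheme.Modules.pullback (i ≫ inv c)).mapIso e0⟩

end CI

section Core
variable {X : Scheme.{u}}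

theorem P_zero {G : X.Modules} {W : X.Opens} (A : Subring Γ(X, W)) (e : Γ(G, W)) :
    ∃ α ∈ A, res G (le_top : W ≤ ⊤) (0 : Γ(G, ⊤)) = α • e :=
  ⟨0, A.zero_mem, (res_zero _ _).trans (zero_smul _ _).symm⟩

theorem P_add {G : X.Modules} {W : X.Opens} (A : Subring Γ(X, W)) (e : Γ(G, W)) (x y : Γ(G, ⊤))
    (hx : ∃ α ∈ A, res G (le_top : W ≤ ⊤) x = α • e)
    (hy : ∃ α ∈ A, res G (le_top : W ≤ ⊤) y = α • e) :
    ∃ α ∈ A, res G (le_top : W ≤ ⊤) (x + y) = α • e := by
  obtain ⟨α, hα, hαe⟩ := hx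
  obtain ⟨β, hβ, hβe⟩ := hy
  exact ⟨α + β, A.add_mem hα hβ, by rw [QCExact.res_add, hαe, hβe, add_smul]⟩

theorem P_smul {G : X.Modules} {W : X.Opens} (A : Subring Γ(X, W)) (e : Γ(G, W)) (c : Γ(X, ⊤))
    (hc : rres X (le_top : W ≤ ⊤) c ∈ A) (x : Γ(G, ⊤))
    (hx : ∃ α ∈ A, res G (le_top : W ≤ ⊤) x = α • e) :
    ∃ α ∈ A, res G (le_top : W ≤ ⊤) (c • x) = α • e := by
  obtain ⟨α, hα, hαe⟩ := hx
  exact ⟨rres X le_top c * α, A.mul_mem hc hα, by rw [res_smul, hαe, mul_smul]⟩

theorem P_unit {W : X.Opens} (A : Subring Γ(X, W))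
    (hconst : ∀ c : Γ(X, ⊤), rres X (le_top : W ≤ ⊤) c ∈ A) (s : Γ(Coh.structureModule X, ⊤)) :
    ∃ α ∈ A, res (Coh.structureModule X) (le_top : W ≤ ⊤) s = α • ofFun W 1 := by
  refine ⟨rres X le_top (toFun ⊤ s), hconst _, ?_⟩
  rw [smul_ofFun, mul_one]
  rfl

theorem P_tm {F L : X.Modules} (u : Γ(L, ⊤)) (A : Subring Γ(X, locus L u))
    (hA1 : ∀ v : Γ(L, ⊤), ratio L u v ∈ A) (e : Γ(F, locus L u)) (a : Γ(F, ⊤)) (b : Γ(L, ⊤))
    (ha : ∃ α ∈ A, res F (le_top : locus L u ≤ ⊤) a = α • e) :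
    ∃ α ∈ A, res (CohB1.tensorMod F L) (le_top : locus L u ≤ ⊤) (tm F L ⊤ a b) =
      α • tm F L (locus L u) e (res L (le_top : locus L u ≤ ⊤) u) := by
  obtain ⟨α, hα, hαe⟩ := ha
  refine ⟨α * ratio L u b, A.mul_mem hα (hA1 b), ?_⟩
  rw [tm_res, hαe, ← ratio_smul L u b, tm_smul_left, tm_smul_right, ← mul_smul]

/-- every ratio `s / u^n`, `s` a global section of `L^n`, lies in a subring containing the
ratios `v / u` of sections of `L`, when the section ring is generated in degree one. -/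
theorem claim {L : X.Modules} (u : Γ(L, ⊤))
    (A : Subring Γ(X, locus L u)) (hA1 : ∀ v : Γ(L, ⊤), ratio L u v ∈ A)
    (hng : ∀ n : ℕ, Submodule.span (X.ringCatSheaf.obj.obj (Opposite.op ⊤))
        (Set.range (fun p : (CohB1.tensorPow L n).val.obj (Opposite.op ⊤) ×
            L.val.obj (Opposite.op ⊤) =>
          SecTwist.tmul (CohB1.tensorPow L n) L ⊤ p.1 p.2)) = ⊤)
    (n : ℕ) (s : Γ(CohB1.tensorPow L n, ⊤)) :
    ∃ α ∈ A, res (CohB1.tensorPow L n) (le_top : locus L u ≤ ⊤) s =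
      α • lpow L (res L (le_top : locus L u ≤ ⊤) u) n := by
  have hconst : ∀ c : Γ(X, ⊤), rres X (le_top : locus L u ≤ ⊤) c ∈ A := by
    intro c
    have := hA1 (c • u)
    rw [ratio_smul_right, ratio_self, mul_one] at this
    exact this
  induction n with
  | zero => exact P_unit A hconst s
  | succ n ih =>
    have hs : s ∈ Submodule.span (X.ringCatSheaf.obj.obj (Opposite.op ⊤))
        (Set.range (fun p : (CohB1.tensorPow L n).val.obj (Opposite.op ⊤) ×
            L.val.obj (Opposite.op ⊤) =>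
          SecTwist.tmul (CohB1.tensorPow L n) L ⊤ p.1 p.2)) := by
      rw [hng n]; trivial
    induction hs using Submodule.span_induction with
    | mem x hx =>
      obtain ⟨⟨a, b⟩, rfl⟩ := hx
      exact P_tm u A hA1 (lpow L (res L (le_top : locus L u ≤ ⊤) u) n) a b (ih a)
    | zero => exact P_zero A _
    | add x y _ _ hx hy => exact P_add A _ x y hx hy
    | smul c x _ hx => exact P_smul A _ c (hconst c) x hx


theorem subring_eq_top [CompactSpace X] [QuasiSeparatedSpace X] {L : X.Modules}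
    (hL : PicF.IsInvertible L) (u : Γ(L, ⊤))
    (A : Subring Γ(X, locus L u)) (hA1 : ∀ v : Γ(L, ⊤), ratio L u v ∈ A)
    (hng : ∀ n : ℕ, Submodule.span (X.ringCatSheaf.obj.obj (Opposite.op ⊤))
        (Set.range (fun p : (CohB1.tensorPow L n).val.obj (Opposite.op ⊤) ×
            L.val.obj (Opposite.op ⊤) =>
          SecTwist.tmul (CohB1.tensorPow L n) L ⊤ p.1 p.2)) = ⊤) :
    A = ⊤ := by
  haveI : (Coh.structureModule X).IsQuasicoherent :=
    isQuasicoherent_of_isInvertible (isInvertible_structureModule X)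
  have hqs : ∀ U U' : X.Opens, IsAffineOpen U → IsAffineOpen U' → U ≤ ⊤ → U' ≤ ⊤ →
      IsCompact ((U ⊓ U' : X.Opens) : Set X) := fun U U' hU hU' _ _ =>
    QuasiSeparatedSpace.inter_isCompact _ _ U.2 hU.isCompact U'.2 hU'.isCompact
  rw [eq_top_iff]
  intro φ _
  obtain ⟨n₀, hn₀⟩ := exists_tm_lpow_extension hL (globalHom L u) (Coh.structureModule X) ⊤
    isCompact_univ hqs (locus L u) le_top (le_of_eq rfl) inf_le_right (ofFun _ φ)
  obtain ⟨t', ht'⟩ := hn₀ n₀ le_rfl
  have e1 : res (CohB1.tensorPow L n₀) (le_top : locus L u ≤ ⊤)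
      ((unitorL (CohB1.tensorPow L n₀)).hom.app ⊤ t') =
      φ • lpow L (res L (le_top : locus L u ≤ ⊤) u) n₀ := by
    rw [← QCExact.app_res', ht', unitorL_hom_tm, sec_globalHom]
  obtain ⟨α, hα, hαe⟩ := claim u A hA1 hng n₀ ((unitorL (CohB1.tensorPow L n₀)).hom.app ⊤ t')
  have hg := isGen_lpow (isGen_locus L u) n₀
  have h : φ = α := hg.self.smul_inj (e1.symm.trans hαe)
  rw [h]
  exact hα

theorem ratio_sum (L : X.Modules) (u : Γ(L, ⊤)) {ι : Type*} (F : Finset ι) (a : ι → Γ(X, ⊤))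
    (t : ι → Γ(L, ⊤)) :
    ratio L u (∑ j ∈ F, a j • t j) =
      ∑ j ∈ F, rres X (le_top : locus L u ≤ ⊤) (a j) * ratio L u (t j) := by
  classical
  induction F using Finset.induction_on with
  | empty => simp only [Finset.sum_empty]; exact ratio_zero L u
  | insert j F hj ih =>
    rw [Finset.sum_insert hj, Finset.sum_insert hj, ratio_add, ratio_smul_right, ih]

end Core

section Main
variable (k : Type u) [Field k] {X : Scheme.{u}} [X.Over (Spec (CommRingCat.of k))]

open Groth.Agent.Lib.Helper23.Bdd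

theorem rres_κ_mem (W : X.Opens) (h : W ≤ (X ↘ Spec (CommRingCat.of k)) ⁻¹ᵁ ⊤) (c : k) :
    rres X (le_top : W ≤ ⊤) (κ k X c) ∈
      Set.range ((X ↘ Spec (CommRingCat.of k)).appLE ⊤ W h).hom :=
  ⟨(Scheme.ΓSpecIso (CommRingCat.of k)).inv.hom c, rfl⟩

/-- a globally generated invertible module on a proper `k`-scheme whose section ring is
generated in degree one and all of whose section loci are affine is very ample. -/
theorem isVA_of_normallyGenerated [IsProper (X ↘ Spec (CommRingCat.of k))]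
    {L : X.Modules} (hL : PicF.IsInvertible L) (hgg : Curv2.IsGloballyGenerated L)
    (hfin : @Module.Finite k Γ(L, ⊤) _ _ (kModule k L))
    (haff : ∀ u : Γ(L, ⊤), IsAffineOpen (locus L u))
    (hng : ∀ n : ℕ, Submodule.span (X.ringCatSheaf.obj.obj (Opposite.op ⊤))
        (Set.range (fun p : (CohB1.tensorPow L n).val.obj (Opposite.op ⊤) ×
            L.val.obj (Opposite.op ⊤) =>
          SecTwist.tmul (CohB1.tensorPow L n) L ⊤ p.1 p.2)) = ⊤) :
    IsVA (X ↘ Spec (CommRingCat.of k)) L := by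
  classical
  haveI : CompactSpace X :=
    QuasiCompact.compactSpace_of_compactSpace (X ↘ Spec (CommRingCat.of k))
  haveI : QuasiSeparatedSpace X :=
    quasiSeparatedSpace_of_quasiSeparated (X ↘ Spec (CommRingCat.of k))
  choose s hs using fun x => FreeSec.exists_mem_genLocus_of_isGloballyGenerated hL hgg x
  obtain ⟨t, ht⟩ := CompactSpace.elim_nhds_subcover (fun x => (CohB1.genLocus L (s x) : Set X))
    (fun x => (CohB1.genLocus L (s x)).2.mem_nhds (hs x))
  let τ : ↥t → Γ(L, ⊤) := fun j => sec (s j.1) ⊤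
  let β : ULift.{u} (Fin (dimΓ k L)) → Γ(L, ⊤) := fun j => basisΓ k L hfin j.down
  refine ⟨↥t ⊕ ULift.{u} (Fin (dimΓ k L)), inferInstance, Sum.elim τ β, Set.range Sum.inl,
    fun _ => ⊤, ?_, ?_⟩
  · intro x
    have hx : x ∈ ⋃ y ∈ t, (CohB1.genLocus L (s y) : Set X) := ht ▸ Set.mem_univ x
    obtain ⟨y, hy, hxy⟩ := Set.mem_iUnion₂.mp hx
    refine ⟨Sum.inl ⟨y, hy⟩, ⟨_, rfl⟩, ?_⟩
    change x ∈ locus L (sec (s y) ⊤)
    rw [VAMain.locus_sec]
    exact hxy
  · rintro _ ⟨i, rfl⟩
    have hle : locus L (τ i) ≤ (X ↘ Spec (CommRingCat.of k)) ⁻¹ᵁ ⊤ := fun x _ => trivial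
    refine ⟨isAffineOpen_top (Spec (CommRingCat.of k)), haff _, hle, ?_⟩
    apply subring_eq_top hL (τ i) _ ?_ hng
    intro v
    have hv := comb_repr k L hfin v
    rw [← hv]
    unfold comb
    rw [ratio_sum]
    refine Subring.sum_mem _ (fun j _ => Subring.mul_mem _ ?_ ?_)
    · exact Subring.subset_closure (Or.inl (rres_κ_mem k _ hle _))
    · exact Subring.subset_closure (Or.inr ⟨Sum.inr ⟨j⟩, rfl⟩)


/-- an ample, globally generated invertible module with section ring generated in degree one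
on a proper `k`-scheme is very ample. -/
theorem exists_closedImmersion_of_ample_normallyGenerated
    [IsProper (X ↘ Spec (CommRingCat.of k))]
    {L : X.Modules} (hA : CohB1.IsAmple L) (hgg : Curv2.IsGloballyGenerated L)
    (hng : ∀ n : ℕ, Submodule.span (X.ringCatSheaf.obj.obj (Opposite.op ⊤))
        (Set.range (fun p : (CohB1.tensorPow L n).val.obj (Opposite.op ⊤) ×
            L.val.obj (Opposite.op ⊤) =>
          SecTwist.tmul (CohB1.tensorPow L n) L ⊤ p.1 p.2)) = ⊤) :
    ∃ (n : ℕ) (i : X ⟶ CohB1.ProjSpace n k), IsClosedImmersion i ∧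
      i ≫ CohB1.ProjSpace.toSpec n k = X ↘ (Spec (CommRingCat.of k)) ∧
      Nonempty ((Scheme.Modules.pullback i).obj (Twist.twistProjSpace n k 1) ≅ L) := by
  haveI : CompactSpace X :=
    QuasiCompact.compactSpace_of_compactSpace (X ↘ Spec (CommRingCat.of k))
  have hL := hA.1
  have hfin := finite_Γ k L (Groth.Agent.Lib.Helper23.Curve.isCoh_of_isInvertible hL)
  have haff : ∀ u : Γ(L, ⊤), IsAffineOpen (locus L u) := fun u =>
    Groth.Agent.Lib.Helper1.NoCurveAff.isAffineOpen_genLocus_of_no_curves k X L hL hgg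
      (globalHom L u) (fun C hint hdim hsub =>
        Groth.Agent.Lib.Helper1.NoCurveAff.false_of_isAmple_of_subset k X L _ C hint hdim hsub
          (Groth.Agent.Lib.Helper1.NoCurveAmple.isAmple_pullback_subschemeι hA C))
  have hVA := isVA_of_normallyGenerated k hL hgg hfin haff hng
  have hRel := isRelVeryAmplePn_of_isVA _ hVA
  obtain ⟨N, ι, hι, hcomp, ⟨e⟩⟩ :=
    exists_closedImmersion_of_isRelVeryAmplePn k (X ↘ Spec (CommRingCat.of k)) hRel
  exact ⟨N, ι, hι, hcomp, ⟨e.symm⟩⟩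


theorem span_tmul_zero (L : X.Modules) :
    Submodule.span (X.ringCatSheaf.obj.obj (Opposite.op ⊤))
        (Set.range (fun p : (CohB1.tensorPow L 0).val.obj (Opposite.op ⊤) ×
            L.val.obj (Opposite.op ⊤) =>
          SecTwist.tmul (CohB1.tensorPow L 0) L ⊤ p.1 p.2)) = ⊤ := by
  rw [Submodule.eq_top_iff']
  intro z
  have hz : z = tm (Coh.structureModule X) L ⊤ (ofFun ⊤ 1) ((unitorL L).hom.app ⊤ z) := by
    rw [← Groth.Agent.Lib.Helper23.CurveMul.unitorL_inv_app', iso_inv_hom_app]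
  rw [hz]
  exact Submodule.subset_span ⟨(_, _), rfl⟩

include k in
/-- on a proper curve with `H¹(O) = 0` the section ring of a globally generated invertible
module is generated in degree one. -/
theorem span_tmul_all [IsProper (X ↘ Spec (CommRingCat.of k))]
    (hdim : topologicalKrullDim X ≤ 1)
    (h1 : Subsingleton (Coh.HH X (Coh.structureModule X) 1))
    {L : X.Modules} (hL : PicF.IsInvertible L) (hgg : Curv2.IsGloballyGenerated L) (n : ℕ) :
    Submodule.span (X.ringCatSheaf.obj.obj (Opposite.op ⊤))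
        (Set.range (fun p : (CohB1.tensorPow L n).val.obj (Opposite.op ⊤) ×
            L.val.obj (Opposite.op ⊤) =>
          SecTwist.tmul (CohB1.tensorPow L n) L ⊤ p.1 p.2)) = ⊤ := by
  rcases Nat.eq_zero_or_pos n with rfl | hn
  · exact span_tmul_zero L
  · exact Groth.Agent.Lib.Helper23.CurveMul.span_tmul_eq_top k hdim hL hgg 0 h1 n hn

end Main

end Groth.Agent.Lib.Helper23.CurveVA
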