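import Groth.Agent.Lib.Helper23.CurveVAa
import Groth.Agent.Lib.Helper7.DefAmple

/-!
# The square of an ample globally generated invertible module with `H¹ = 0` on a proper curve
is very ample
-/

set_option autoImplicit false
set_option linter.unusedSectionVars false
set_option linter.style.haveILetI false
universe u
open CategoryTheory CategoryTheory.Limits AlgebraicGeometry Opposite TopologicalSpace

namespace Groth.Agent.Lib.Helper23.CurveVB

open Groth.Agent.Lib.Helper3 Groth.Agent.Lib.Helper3.QCSec Groth.Agent.Lib.Helper3.InvGen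
  Groth.Agent.Lib.Helper3.InvTensor Groth.Agent.Lib.Helper3.InvMonoidal
  Groth.Agent.Lib.Helper3.FreeBasis Groth.Agent.Lib.Helper7.TwFun
open Groth.Agent.Lib.Helper7.MulSurj
open Groth.Agent.Lib.Helper23.T2 Groth.Agent.Lib.Helper23.CurveMul
open Scheme.Modules

noncomputable section

variable {X : Scheme.{u}}

/-- sections of `F ⊗ A` are sums of products with the generating sections of `A`, when
`H¹(ker ⊗ F) = 0`. -/
theorem mult_surj {A : X.Modules} (r : ℕ) (ev : FlatMod.freeMod X r ⟶ A) [Epi ev]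
    {F : X.Modules} (hF : PicF.IsInvertible F)
    (hK1 : Subsingleton (Coh.HH X ((twR F).obj (kernel ev)) 1))
    (z' : Γ(CohB1.tensorMod F A, ⊤)) :
    ∃ t : Fin r → Γ(F, ⊤), z' = ∑ l, tm F A ⊤ (t l) (ev.app ⊤ (bsec r l ⊤)) := by
  let S : ShortComplex X.Modules := ShortComplex.mk (kernel.ι ev) ev (kernel.condition ev)
  haveI : Mono S.f := inferInstanceAs (Mono (kernel.ι ev))
  haveI : Epi S.g := inferInstanceAs (Epi ev)
  have hS : S.ShortExact :=
    ShortComplex.ShortExact.mk (ShortComplex.exact_of_f_is_kernel S (kernelIsKernel ev))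
  have hST : (S.map (twR F)).ShortExact :=
    Groth.Agent.Lib.Helper7.AmpleH1.shortExact_tw hF S hS
  obtain ⟨y, hy⟩ := surj_top S.f S.g S.zero (twR F) hST hK1 ((braid F A).hom.app ⊤ z')
  obtain ⟨t, ht⟩ := exists_decomp_free_left r F ⊤ y
  refine ⟨t, ?_⟩
  have e1 : (braid F A).hom.app ⊤ z' = ∑ l, tm A F ⊤ (ev.app ⊤ (bsec r l ⊤)) (t l) := by
    rw [← hy, ht]
    change (tensorMap ev (𝟙 F)).app ⊤ _ = _
    rw [app_sum]
    exact Finset.sum_congr rfl (fun l _ => tensorMap_tm _ _ ⊤ _ _)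
  have e2 : (braid F A).hom.app ⊤ (∑ l, tm F A ⊤ (t l) (ev.app ⊤ (bsec r l ⊤))) =
      (braid F A).hom.app ⊤ z' := by
    rw [e1, app_sum]
    exact Finset.sum_congr rfl (fun l _ => braid_hom_tm _ _ ⊤ _ _)
  have e3 := congrArg ((braid F A).inv.app ⊤) e2
  rw [iso_inv_hom_app, iso_inv_hom_app] at e3
  exact e3.symm

section K
variable (k : Type u) [Field k] [X.Over (Spec (CommRingCat.of k))]
  [IsProper (X ↘ Spec (CommRingCat.of k))]

/-- invertible with vanishing `H¹` -/
def PP (M : X.Modules) : Prop := PicF.IsInvertible M ∧ Subsingleton (Coh.HH X M 1)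

theorem PP_iso {M M' : X.Modules} (e : M ≅ M') (h : PP M) : PP M' :=
  ⟨InvAmple.isInvertible_of_iso e h.1, subsingleton_HH_of_iso e.symm 1 h.2⟩

include k in
theorem PP_tensor (hdim : topologicalKrullDim X ≤ 1) {A : X.Modules}
    (hA : PicF.IsInvertible A) (r : ℕ) (ev : FlatMod.freeMod X r ⟶ A) [Epi ev]
    {M : X.Modules} (h : PP M) : PP (CohB1.tensorMod M A) :=
  ⟨InvTensor.isInvertible_tensorMod h.1 hA,
    subsingleton_HH_of_iso (braid M A) 1 (h1_step k hdim hA r ev h.1 h.2)⟩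

include k in
theorem h1_ker_of_iso (hdim : topologicalKrullDim X ≤ 1) {A : X.Modules}
    (hA : PicF.IsInvertible A) (r : ℕ) (ev : FlatMod.freeMod X r ⟶ A) [Epi ev]
    {W F : X.Modules} (hW : PP W) (e : F ≅ CohB1.tensorMod W A) :
    Subsingleton (Coh.HH X ((twR F).obj (kernel ev)) 1) := by
  have h1 := h1_kernel_tw k hdim hA r ev hW.1 hW.2
  exact subsingleton_HH_of_iso
    (tensorMapIso (Iso.refl (kernel ev)) e ≪≫ (assoc (kernel ev) W A).symm) 1 h1

end K

section Sq
variable (k : Type u) [Field k] [X.Over (Spec (CommRingCat.of k))]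
  [IsProper (X ↘ Spec (CommRingCat.of k))]

include k in
theorem PP_L1 (hdim : topologicalKrullDim X ≤ 1) {L : X.Modules}
    (hL : PicF.IsInvertible L) (r : ℕ) (ev : FlatMod.freeMod X r ⟶ L) [Epi ev]
    {M : X.Modules} (h : PP M) : PP (CohB1.tensorMod M (CohB1.tensorPow L 1)) :=
  PP_iso (tensorMapIso (Iso.refl M) (unitorL L).symm) (PP_tensor k hdim hL r ev h)

include k in
theorem PP_sq_step (hdim : topologicalKrullDim X ≤ 1) {L : X.Modules}
    (hL : PicF.IsInvertible L) (r : ℕ) (ev : FlatMod.freeMod X r ⟶ L) [Epi ev]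
    {M : X.Modules} (h : PP M) : PP (CohB1.tensorMod M (CohB1.tensorPow L 2)) :=
  PP_iso (assoc M (CohB1.tensorPow L 1) L)
    (PP_tensor k hdim hL r ev (PP_L1 k hdim hL r ev h))

include k in
theorem PP_pow (hdim : topologicalKrullDim X ≤ 1) {L : X.Modules}
    (hL : PicF.IsInvertible L) (r : ℕ) (ev : FlatMod.freeMod X r ⟶ L) [Epi ev]
    (h1 : Subsingleton (Coh.HH X L 1)) (m : ℕ) :
    PP (CohB1.tensorPow (CohB1.tensorPow L 2) (m + 1)) := by
  have hP1 : PP (CohB1.tensorPow L 1) := PP_iso (unitorL L).symm ⟨hL, h1⟩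
  have hP2 : PP (CohB1.tensorPow L 2) := PP_tensor k hdim hL r ev hP1
  induction m with
  | zero => exact PP_iso (unitorL (CohB1.tensorPow L 2)).symm hP2
  | succ m ih => exact PP_sq_step k hdim hL r ev ih

include k in
/-- `W_m = N^m ⊗ L¹` has vanishing `H¹`. -/
theorem PP_W (hdim : topologicalKrullDim X ≤ 1) {L : X.Modules}
    (hL : PicF.IsInvertible L) (r : ℕ) (ev : FlatMod.freeMod X r ⟶ L) [Epi ev]
    (h1 : Subsingleton (Coh.HH X L 1)) (m : ℕ) :
    PP (CohB1.tensorMod (CohB1.tensorPow (CohB1.tensorPow L 2) m) (CohB1.tensorPow L 1)) := by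
  have hP1 : PP (CohB1.tensorPow L 1) := PP_iso (unitorL L).symm ⟨hL, h1⟩
  cases m with
  | zero => exact PP_iso (unitorL (CohB1.tensorPow L 1)).symm hP1
  | succ m => exact PP_L1 k hdim hL r ev (PP_pow k hdim hL r ev h1 m)

include k in
theorem span_sq (hdim : topologicalKrullDim X ≤ 1) {L : X.Modules}
    (hL : PicF.IsInvertible L) (r : ℕ) (ev : FlatMod.freeMod X r ⟶ L) [Epi ev]
    (h1 : Subsingleton (Coh.HH X L 1)) (n : ℕ) :
    Submodule.span (X.ringCatSheaf.obj.obj (Opposite.op ⊤))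
        (Set.range (fun p : (CohB1.tensorPow (CohB1.tensorPow L 2) n).val.obj (Opposite.op ⊤) ×
            (CohB1.tensorPow L 2).val.obj (Opposite.op ⊤) =>
          SecTwist.tmul (CohB1.tensorPow (CohB1.tensorPow L 2) n) (CohB1.tensorPow L 2) ⊤
            p.1 p.2)) = ⊤ := by
  cases n with
  | zero => exact Groth.Agent.Lib.Helper23.CurveVA.span_tmul_zero (CohB1.tensorPow L 2)
  | succ m =>
    let L1 : X.Modules := CohB1.tensorPow L 1
    let F : X.Modules := CohB1.tensorPow (CohB1.tensorPow L 2) (m + 1)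
    have hPF : PP F := PP_pow k hdim hL r ev h1 m
    have hPW : PP (CohB1.tensorMod (CohB1.tensorPow (CohB1.tensorPow L 2) m) L1) :=
      PP_W k hdim hL r ev h1 m
    have hL1 : PicF.IsInvertible L1 := InvAmple.isInvertible_of_iso (unitorL L).symm hL
    -- `H¹(ker ⊗ F) = 0`
    have hK : Subsingleton (Coh.HH X ((twR F).obj (kernel ev)) 1) :=
      h1_ker_of_iso k hdim hL r ev hPW
        (assoc (CohB1.tensorPow (CohB1.tensorPow L 2) m) L1 L).symm
    -- `H¹(ker ⊗ (F ⊗ L¹)) = 0`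
    have hK' : Subsingleton (Coh.HH X ((twR (CohB1.tensorMod F L1)).obj (kernel ev)) 1) :=
      h1_ker_of_iso k hdim hL r ev hPF (tensorMapIso (Iso.refl F) (unitorL L))
    rw [Submodule.eq_top_iff']
    intro z
    change Γ(CohB1.tensorMod F (CohB1.tensorMod L1 L), (⊤ : X.Opens)) at z
    obtain ⟨t, ht⟩ := mult_surj r ev (InvTensor.isInvertible_tensorMod hPF.1 hL1) hK'
      ((assoc F L1 L).inv.app ⊤ z)
    have ht2 : ∀ l, ∃ f : Fin r → Γ(F, ⊤),
        (tensorMapIso (Iso.refl F) (unitorL L)).hom.app ⊤ (t l) =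
          ∑ j, tm F L ⊤ (f j) (ev.app ⊤ (bsec r j ⊤)) :=
      fun l => mult_surj r ev hPF.1 hK _
    choose f hf using ht2
    have ht3 : ∀ l, t l = ∑ j, tm F L1 ⊤ (f l j)
        (tm (Coh.structureModule X) L ⊤ (ofFun ⊤ 1) (ev.app ⊤ (bsec r j ⊤))) := by
      intro l
      have h3 := congrArg ((tensorMapIso (Iso.refl F) (unitorL L)).inv.app ⊤) (hf l)
      rw [iso_inv_hom_app, app_sum] at h3
      rw [h3]
      refine Finset.sum_congr rfl (fun j _ => ?_)
      change (tensorMap (𝟙 F) (unitorL L).inv).app ⊤ _ = _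
      rw [tensorMap_tm, unitorL_inv_app']
      rfl
    have hz : z = ∑ l, ∑ j, tm F (CohB1.tensorMod L1 L) ⊤ (f l j)
        (tm L1 L ⊤ (tm (Coh.structureModule X) L ⊤ (ofFun ⊤ 1) (ev.app ⊤ (bsec r j ⊤)))
          (ev.app ⊤ (bsec r l ⊤))) := by
      have h4 := congrArg ((assoc F L1 L).hom.app ⊤) ht
      rw [iso_hom_inv_app, app_sum] at h4
      rw [h4]
      refine Finset.sum_congr rfl (fun l _ => ?_)
      rw [ht3 l, tm_sum_left, app_sum]
      exact Finset.sum_congr rfl (fun j _ => assoc_hom_tm _ _ _ ⊤ _ _ _)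
    rw [hz]
    exact Submodule.sum_mem _ (fun l _ => Submodule.sum_mem _ (fun j _ =>
      Submodule.subset_span ⟨(_, _), rfl⟩))


include k in
/-- `L^{⊗2}` is very ample for `L` ample, globally generated with `H¹(L) = 0` on a proper curve. -/
theorem exists_closedImmersion_sq (hdim : topologicalKrullDim X ≤ 1) {L : X.Modules}
    (hA : CohB1.IsAmple L) (hgg : Curv2.IsGloballyGenerated L)
    (h1 : Subsingleton (Coh.HH X L 1)) :
    ∃ (n : ℕ) (i : X ⟶ CohB1.ProjSpace n k), IsClosedImmersion i ∧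
      i ≫ CohB1.ProjSpace.toSpec n k = X ↘ (Spec (CommRingCat.of k)) ∧
      Nonempty ((Scheme.Modules.pullback i).obj (Twist.twistProjSpace n k 1) ≅
        CohB1.tensorPow L 2) := by
  haveI : CompactSpace X :=
    QuasiCompact.compactSpace_of_compactSpace (X ↘ Spec (CommRingCat.of k))
  have hL := hA.1
  obtain ⟨ev, hev⟩ := Groth.Agent.Lib.Helper23.Bdd.exists_epi_freeMod k L hgg
    (Groth.Agent.Lib.Helper23.Bdd.finite_Γ k L
      (Groth.Agent.Lib.Helper23.Curve.isCoh_of_isInvertible hL))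
  haveI := hev
  have hA2 : CohB1.IsAmple (CohB1.tensorPow L 2) :=
    (InvAmple.isAmple_pow_iff hL (by norm_num)).1 hA
  have hL1 : PicF.IsInvertible (CohB1.tensorPow L 1) :=
    InvAmple.isInvertible_of_iso (unitorL L).symm hL
  have hgg1 : Curv2.IsGloballyGenerated (CohB1.tensorPow L 1) :=
    GlobGen.isGloballyGenerated_of_iso (unitorL L).symm hgg
  have hgg2 : Curv2.IsGloballyGenerated (CohB1.tensorPow L 2) :=
    Groth.Agent.Lib.Helper7.DefAmple.isGloballyGenerated_tensorMod k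
      (Groth.Agent.Lib.Helper23.Curve.isCoh_of_isInvertible hL1) hgg1 hgg
  exact Groth.Agent.Lib.Helper23.CurveVA.exists_closedImmersion_of_ample_normallyGenerated k hA2
    hgg2 (span_sq k hdim hL _ ev h1)

end Sq

end

end Groth.Agent.Lib.Helper23.CurveVB
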