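import Groth.Agent.Lib.Helper23.CurveVAb
import Groth.Agent.Lib.Helper23.DegTensorGen
import Groth.Agent.Lib.Helper7.CurveGG
import Groth.Agent.Lib.Helper23.CurveF

/-!
# `L^{⊗6}` is very ample for an ample invertible module with a regular section and `H¹ = 0`
on a proper curve with `H⁰(O) = k`
-/

set_option autoImplicit false
set_option linter.unusedSectionVars false
set_option linter.style.haveILetI false
universe u
open CategoryTheory CategoryTheory.Limits AlgebraicGeometry Opposite TopologicalSpace

namespace Groth.Agent.Lib.Helper23.CurveVC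

open Groth.Agent.Lib.Helper3 Groth.Agent.Lib.Helper3.QCSec Groth.Agent.Lib.Helper3.InvGen
  Groth.Agent.Lib.Helper3.InvTensor Groth.Agent.Lib.Helper3.InvMonoidal
open Groth.Agent.Lib.Helper23.T2 Groth.Agent.Lib.Helper23.CurveMul
open Scheme.Modules

noncomputable section

variable {X : Scheme.{u}}
variable (k : Type u) [Field k] [X.Over (Spec (CommRingCat.of k))]
  [IsProper (X ↘ Spec (CommRingCat.of k))]

include k in
theorem deg_tensor_inv (hdim : topologicalKrullDim X ≤ 1) {E V : X.Modules}
    (hE : PicF.IsInvertible E) (hV : PicF.IsInvertible V) :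
    Curv2.deg k X (CohB1.tensorMod E V) 1 = Curv2.deg k X E 1 + Curv2.deg k X V 1 := by
  have h := Groth.Agent.Lib.Helper23.DegTensorGen.deg_tensor_gen k
    (Groth.Agent.Lib.Helper23.Curve.isFinLocFreeOfRank_one_of_isInvertible hE) hdim
    (Groth.Agent.Lib.Helper23.Curve.isFinLocFreeOfRank_one_of_isInvertible hV)
  simp only [Nat.mul_one, Nat.cast_one, one_mul] at h
  rw [h]
  ring

include k in
theorem deg_tensorPow_gen (hdim : topologicalKrullDim X ≤ 1) {L : X.Modules}
    (hL : PicF.IsInvertible L) (n : ℕ) :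
    Curv2.deg k X (CohB1.tensorPow L n) 1 = n * Curv2.deg k X L 1 := by
  induction n with
  | zero =>
    change Curv2.deg k X (Coh.structureModule X) 1 = _
    unfold Curv2.deg
    push_cast
    ring
  | succ n ih =>
    change Curv2.deg k X (CohB1.tensorMod (CohB1.tensorPow L n) L) 1 = _
    rw [deg_tensor_inv k hdim (isInvertible_tensorPow hL n) hL, ih]
    push_cast
    ring

include k in
theorem genus_le_deg (hdim : topologicalKrullDim X ≤ 1)
    (h0 : Module.finrank k (Coh.HH X (Coh.structureModule X) 0) = 1)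
    {L : X.Modules} (hL : PicF.IsInvertible L) (s : Coh.structureModule X ⟶ L) [Mono s]
    (h1 : Subsingleton (Coh.HH X L 1)) :
    (Curv2.genus k X : ℤ) ≤ Curv2.deg k X L 1 := by
  haveI : IsNoetherian X := Groth.Agent.Lib.Helper23.HilbP.isNoetherian_of_isProper k X
  have hcL := Groth.Agent.Lib.Helper23.Curve.isCoh_of_isInvertible hL
  have hcO := Groth.Agent.Lib.Helper23.T2.isCoh_structureModule X
  haveI := hcL.1
  haveI := hcO.1
  have hs0 : s ≠ 0 := by
    intro hs
    have hz : IsZero (Coh.structureModule X) := IsZero.of_mono_eq_zero s hs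
    haveI : Subsingleton (Coh.HH X (Coh.structureModule X) 0) :=
      subsingleton_of_Hz_id 0 (by rw [hz.eq_of_src (𝟙 _) 0]; exact Hz_zero 0)
    have : Module.finrank k (Coh.HH X (Coh.structureModule X) 0) = 0 :=
      Module.finrank_zero_of_subsingleton
    omega
  have hsec : sec s ⊤ ≠ 0 := fun h =>
    hs0 (Groth.Agent.Lib.Helper23.CurveNef.hom_eq_zero_of_sec s h)
  haveI := Groth.Agent.Lib.Helper23.T2.finite_HH k L hcL 0
  have e3 : 0 < Module.finrank k (Coh.HH X L 0) := by
    rw [Module.finrank_pos_iff_exists_ne_zero]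
    refine ⟨(H0equiv L).symm (sec s ⊤), ?_⟩
    intro h
    apply hsec
    have := congrArg (H0equiv L) h
    rwa [LinearEquiv.apply_symm_apply, map_zero] at this
  unfold Curv2.deg
  rw [Groth.Agent.Lib.Helper23.NodalGlue.euler_eq_h0_sub_h1' k X L hcL
      (fun n => Groth.Agent.Lib.Helper23.CurveGen.subsingleton_HH_of_dim_le_one k X hdim L n),
    Groth.Agent.Lib.Helper23.NodalGlue.euler_eq_h0_sub_h1' k X _ hcO
      (fun n => Groth.Agent.Lib.Helper23.CurveGen.subsingleton_HH_of_dim_le_one k X hdim _ n)]
  have e1 : Module.finrank k (Coh.HH X L 1) = 0 := Module.finrank_zero_of_subsingleton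
  rw [e1, h0]
  unfold Curv2.genus
  push_cast
  omega

end

end Groth.Agent.Lib.Helper23.CurveVC
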