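import Groth.Agent.Lib.Helper23.CurveVAc
import Groth.Agent.Lib.Helper23.CurveGen
import Groth.Agent.Lib.Helper23.Devissage

/-!
# Regular sections of invertible modules on proper curves
-/

set_option autoImplicit false
set_option linter.unusedSectionVars false
set_option linter.style.haveILetI false
universe u
open CategoryTheory CategoryTheory.Limits AlgebraicGeometry Opposite TopologicalSpace

namespace Groth.Agent.Lib.Helper23.CurveVD

open Groth.Agent.Lib.Helper3 Groth.Agent.Lib.Helper3.QCSec Groth.Agent.Lib.Helper3.InvGen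
  Groth.Agent.Lib.Helper3.InvTensor Groth.Agent.Lib.Helper3.InvMonoidal
  Groth.Agent.Lib.Helper7.TwFun
open Groth.Agent.Lib.Helper23.T2 Groth.Agent.Lib.Helper23.CurveMul
  Groth.Agent.Lib.Helper23.AmpleCurve Groth.Agent.Lib.Helper23.Curve
open Scheme.Modules

noncomputable section

variable {X : Scheme.{u}}

/-- the local coordinate of a regular section is a nonzerodivisor. -/
theorem coord_nzd {L : X.Modules} (s : Coh.structureModule X ⟶ L) [Mono s] {U : X.Opens}
    {e : Γ(L, U)} (hg : IsGen L U e) (f : Γ(X, U)) (hf : sec s U = f • e) (a : Γ(X, U))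
    (ha : a * f = 0) : a = 0 := by
  have h1 : s.app U (ofFun U a) = 0 := by
    rw [app_eq_smul_sec, hf, ← mul_smul, ha, zero_smul]
  have h2 := QCExact.injective_sections s U (h1.trans (QCExact.app_zero s U).symm)
  exact h2

/-- the non-vanishing locus of a regular section is dense. -/
theorem dense_genLocus {L : X.Modules} (hL : PicF.IsInvertible L)
    (s : Coh.structureModule X ⟶ L) [Mono s] : Dense (CohB1.genLocus L s : Set X) := by
  rw [dense_iff_inter_open]
  rintro V hV ⟨y, hy⟩
  obtain ⟨U, e, hUaff, hyU, hUle, hg⟩ := exists_affine_isGen_le hL y ⟨V, hV⟩ hy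
  obtain ⟨f, hf⟩ := hg.self.exists_coord (sec s U)
  have hD := genLocus_inf_eq_basicOpen s hg f hf.symm
  by_contra hcon
  rw [Set.not_nonempty_iff_eq_empty] at hcon
  have hbot : X.basicOpen f = ⊥ := by
    rw [← hD]
    ext z
    simp only [Opens.coe_inf, Set.mem_inter_iff, SetLike.mem_coe, Opens.coe_bot,
      Set.mem_empty_iff_false, iff_false, not_and]
    intro hz hzU
    have : z ∈ V ∩ (CohB1.genLocus L s : Set X) := ⟨hUle hzU, hz⟩
    rw [hcon] at this
    exact this
  have hnil : IsNilpotent f := by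
    rw [← PrimeSpectrum.basicOpen_eq_bot_iff]
    have h3 := hUaff.fromSpec_preimage_basicOpen f
    rw [hbot] at h3
    exact h3.symm
  obtain ⟨n, hn⟩ := hnil
  have h1 : ∀ m : ℕ, f ^ m = 0 → (1 : Γ(X, U)) = 0 := by
    intro m
    induction m with
    | zero => intro h; simpa using h
    | succ m ih =>
      intro h
      apply ih
      apply coord_nzd s hg f hf.symm
      rw [← pow_succ]
      exact h
  have h2 : Subsingleton Γ(X, U) := subsingleton_of_zero_eq_one (h1 n hn).symm
  haveI : Nonempty U := ⟨⟨y, hyU⟩⟩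
  haveI : Nontrivial Γ(X, U) := inferInstance
  exact not_subsingleton _ h2

theorem isoOn_mulBy (M : X.Modules) {L : X.Modules} (s : Coh.structureModule X ⟶ L) :
    Groth.Agent.Lib.Helper23.Dev.IsoOn (mulBy M s) (CohB1.genLocus L s) := by
  intro V hV
  have h := tm_gen_bijective M L (isGen_genLocus s) V hV
  have e : (fun t : Γ(M, V) => tm M L V t (res L hV (sec s _))) = ⇑((mulBy M s).app V) := by
    funext t
    rw [mulBy_app, res_sec]
  rw [← e]
  exact h

theorem mono_mulBy {M L : X.Modules} (hM : PicF.IsInvertible M)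
    (s : Coh.structureModule X ⟶ L) [Mono s] : Mono (mulBy M s) := by
  have hb : tensorMap (𝟙 M) s ≫ (braid M L).hom =
      (braid M (Coh.structureModule X)).hom ≫ tensorMap s (𝟙 M) :=
    Groth.Agent.Lib.Helper17.NoriSSB.tensorMap_braid (𝟙 M) s
  haveI : Mono (tensorMap s (𝟙 M)) := Groth.Agent.Lib.Helper23.Twist.mono_tw hM s
  haveI : Mono (tensorMap (𝟙 M) s ≫ (braid M L).hom) := by rw [hb]; exact mono_comp _ _
  haveI : Mono (tensorMap (𝟙 M) s) := mono_of_mono _ (braid M L).hom
  unfold mulBy
  exact mono_comp _ _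

section K
variable (k : Type u) [Field k] [X.Over (Spec (CommRingCat.of k))]
  [IsProper (X ↘ Spec (CommRingCat.of k))]

include k in
/-- twisting by an invertible module with a regular section keeps `H¹ = 0` and produces
generating sections at the zeros of the section. -/
theorem step (hdim : topologicalKrullDim X ≤ 1) {L : X.Modules} (hL : PicF.IsInvertible L)
    (s : Coh.structureModule X ⟶ L) [Mono s] {M : X.Modules} (hM : PicF.IsInvertible M)
    (hM1 : Subsingleton (Coh.HH X M 1)) :
    Subsingleton (Coh.HH X (CohB1.tensorMod M L) 1) ∧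
      ∀ x : X, x ∉ CohB1.genLocus L s →
        ∃ t : Γ(CohB1.tensorMod M L, ⊤),
          x ∈ CohB1.genLocus (CohB1.tensorMod M L)
            (InvAmple.globalHom (CohB1.tensorMod M L) t) := by
  have hA : PicF.IsInvertible (CohB1.tensorMod M L) := isInvertible_tensorMod hM hL
  haveI : Mono (mulBy M s) := mono_mulBy hM s
  have hvan : VanishesOn (cokernel (mulBy M s)) (CohB1.genLocus L s) :=
    Groth.Agent.Lib.Helper23.Dev.vanishesOn_cokernel_of_comp (mulBy M s) (mulBy M s) (𝟙 M)
      (Category.id_comp _) (isoOn_mulBy M s)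
  have hfl : IsFlq (cokernel (mulBy M s)) :=
    Groth.Agent.Lib.Helper23.CurveGen.isFlq_of_vanishesOn_dense k X hdim _ _
      (dense_genLocus hL s) hvan
  have hQ1 : Subsingleton (Coh.HH X (cokernel (mulBy M s)) 1) := acyclic_of_isFlq hfl 0
  let S : ShortComplex X.Modules :=
    ShortComplex.mk (mulBy M s) (cokernel.π (mulBy M s)) (cokernel.condition (mulBy M s))
  have hS : S.ShortExact :=
    { exact := ShortComplex.exact_cokernel (mulBy M s)
      mono_f := inferInstanceAs (Mono (mulBy M s))
      epi_g := inferInstanceAs (Epi (cokernel.π (mulBy M s))) }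
  refine ⟨sub_mid S hS 1 hM1 hQ1, ?_⟩
  intro x hx
  obtain ⟨U₁, eL₁, -, hxU₁, -, hgL₁⟩ := exists_affine_isGen_le hL x ⊤ trivial
  obtain ⟨U, eM, -, hxU, hUU₁, hgM⟩ := exists_affine_isGen_le hM x U₁ hxU₁
  have hgL : IsGen L U (res L hUU₁ eL₁) := hgL₁.mono hUU₁
  have hga : IsGen (CohB1.tensorMod M L) U (tm M L U eM (res L hUU₁ eL₁)) := isGen_tm hgM hgL
  obtain ⟨f, hf⟩ := hgL.self.exists_coord (sec s U)
  have hD := genLocus_inf_eq_basicOpen s hgL f hf.symm
  have hxf : x ∉ X.basicOpen f := by
    rw [← hD]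
    exact fun h => hx h.1
  -- extend the image of the generator to a global section of the cokernel and lift
  obtain ⟨q, hq⟩ := hfl (homOfLE (le_top : U ≤ ⊤)).op
    ((cokernel.π (mulBy M s)).app U (tm M L U eM (res L hUU₁ eL₁)))
  obtain ⟨t, ht⟩ := Groth.Agent.Lib.Helper7.MulSurj.surj_top_mk (mulBy M s)
    (cokernel.π (mulBy M s)) (cokernel.condition (mulBy M s)) hS hM1 q
  refine ⟨t, ?_⟩
  have h1 : (cokernel.π (mulBy M s)).app U
      (res (CohB1.tensorMod M L) le_top t - tm M L U eM (res L hUU₁ eL₁)) = 0 := by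
    rw [map_sub, QCExact.app_res', ht]
    exact sub_eq_zero.2 hq
  obtain ⟨m, hm⟩ := QCExact.exact_sections S hS.exact U _ h1
  obtain ⟨c, hc⟩ := hgM.self.exists_coord m
  have h2 : res (CohB1.tensorMod M L) le_top t =
      (1 + c * f) • tm M L U eM (res L hUU₁ eL₁) := by
    have h3 : (mulBy M s).app U m = (c * f) • tm M L U eM (res L hUU₁ eL₁) := by
      rw [mulBy_app, ← hc, ← hf, tm_smul_left, tm_smul_right, ← mul_smul]
    have h4 : res (CohB1.tensorMod M L) le_top t - tm M L U eM (res L hUU₁ eL₁) =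
        (c * f) • tm M L U eM (res L hUU₁ eL₁) := hm.symm.trans h3
    rw [add_smul, one_smul, ← h4]
    abel
  have hD2 := genLocus_inf_eq_basicOpen (InvAmple.globalHom (CohB1.tensorMod M L) t) hga
    (1 + c * f) (by rw [InvAmple.sec_globalHom]; exact h2)
  have hx2 : x ∈ X.basicOpen (1 + c * f) := by
    rw [Scheme.mem_basicOpen _ _ x hxU]
    rw [Scheme.mem_basicOpen _ _ x hxU] at hxf
    have h5 : IsUnit ((X.presheaf.germ U x hxU).hom (1 + c * f) +
        (X.presheaf.germ U x hxU).hom (-(c * f))) := by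
      rw [← map_add]
      have : (1 + c * f) + -(c * f) = 1 := by ring
      rw [this, map_one]
      exact isUnit_one
    rcases IsLocalRing.isUnit_or_isUnit_of_isUnit_add h5 with h | h
    · exact h
    · exfalso
      apply hxf
      rw [map_neg, IsUnit.neg_iff, map_mul] at h
      exact isUnit_of_mul_isUnit_right h
  have : x ∈ CohB1.genLocus (CohB1.tensorMod M L)
      (InvAmple.globalHom (CohB1.tensorMod M L) t) ⊓ U := by
    rw [hD2]; exact hx2
  exact this.1


include k in
theorem pow_h1 (hdim : topologicalKrullDim X ≤ 1) {L : X.Modules} (hL : PicF.IsInvertible L)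
    (s : Coh.structureModule X ⟶ L) [Mono s] (h1 : Subsingleton (Coh.HH X L 1)) (n : ℕ) :
    Subsingleton (Coh.HH X (CohB1.tensorPow L (n + 1)) 1) := by
  induction n with
  | zero => exact subsingleton_HH_of_iso (unitorL L) 1 h1
  | succ n ih => exact (step k hdim hL s (isInvertible_tensorPow hL (n + 1)) ih).1

include k in
theorem pow_gg (hdim : topologicalKrullDim X ≤ 1) {L : X.Modules} (hL : PicF.IsInvertible L)
    (s : Coh.structureModule X ⟶ L) [Mono s] (h1 : Subsingleton (Coh.HH X L 1)) (n : ℕ) :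
    Curv2.IsGloballyGenerated (CohB1.tensorPow L (n + 2)) := by
  have hst := (step k hdim hL s (isInvertible_tensorPow hL (n + 1))
    (pow_h1 k hdim hL s h1 n)).2
  apply Groth.Agent.Lib.Helper7.CurvePair.isGloballyGenerated_of_forall_mem_genLocus
    (isInvertible_tensorPow hL (n + 2))
  intro y
  by_cases hy : y ∈ CohB1.genLocus L s
  · refine ⟨sec (SecTwist.powHom s (n + 2)) ⊤, ?_⟩
    rw [SubIdeal.globalHom_sec, genLocus_powHom hL s (n + 1)]
    exact hy
  · exact hst y hy

include k in
/-- `L^{⊗6}` is very ample for `L` ample with a regular section and `H¹(L) = 0` on a proper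
curve. -/
theorem exists_closedImmersion_six (hdim : topologicalKrullDim X ≤ 1) {L : X.Modules}
    (hA : CohB1.IsAmple L) (s : Coh.structureModule X ⟶ L) [Mono s]
    (h1 : Subsingleton (Coh.HH X L 1)) :
    ∃ (n : ℕ) (i : X ⟶ CohB1.ProjSpace n k), IsClosedImmersion i ∧
      i ≫ CohB1.ProjSpace.toSpec n k = X ↘ (Spec (CommRingCat.of k)) ∧
      Nonempty ((Scheme.Modules.pullback i).obj (Twist.twistProjSpace n k 1) ≅
        CohB1.tensorPow L 6) := by
  haveI : CompactSpace X :=
    QuasiCompact.compactSpace_of_compactSpace (X ↘ Spec (CommRingCat.of k))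
  have hL := hA.1
  have h13 := pow_h1 k hdim hL s h1 2
  have hgg3 := pow_gg k hdim hL s h1 1
  have hA3 : CohB1.IsAmple (CohB1.tensorPow L 3) :=
    (InvAmple.isAmple_pow_iff hL (by norm_num)).1 hA
  obtain ⟨n, i, hi, hc, ⟨e⟩⟩ :=
    Groth.Agent.Lib.Helper23.CurveVB.exists_closedImmersion_sq k hdim hA3 hgg3 h13
  exact ⟨n, i, hi, hc, ⟨e ≪≫ powMul L 3 2⟩⟩

end K

end

end Groth.Agent.Lib.Helper23.CurveVD
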