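import Groth.Agent.Lib.Helper23.CurveVAb
import Groth.Agent.S9514

/-!
# Section loci of an ample invertible module on a scheme proper over a Noetherian ring are affine
-/

set_option autoImplicit false
set_option linter.unusedSectionVars false
set_option linter.style.haveILetI false
universe u
open CategoryTheory CategoryTheory.Limits AlgebraicGeometry Opposite TopologicalSpace

namespace Groth.Agent.Lib.Helper23.CurveVE

open Groth.Agent.Lib.Helper3 Groth.Agent.Lib.Helper3.QCSec Groth.Agent.Lib.Helper3.InvGen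
  Groth.Agent.Lib.Helper3.InvTensor Groth.Agent.Lib.Helper3.InvMonoidal
  Groth.Agent.Lib.Helper3.FreeBasis Groth.Agent.Lib.Helper7.TwFun
  Groth.Agent.Lib.Helper3.InvAmple Groth.Agent.Lib.Helper3.SecCoord
  Groth.Agent.Lib.Helper3.InvSum
open Scheme.Modules

noncomputable section

variable {X : Scheme.{u}}

/-- the map `O^r ⟶ M` given by `r` sections -/
def evOf {M : X.Modules} {r : ℕ} (s : Fin r → (Coh.structureModule X ⟶ M)) :
    FlatMod.freeMod X r ⟶ M :=
  Sigma.desc s

theorem inj_evOf {M : X.Modules} {r : ℕ} (s : Fin r → (Coh.structureModule X ⟶ M)) (l : Fin r) :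
    inj X r l ≫ evOf s = s l := Sigma.ι_desc _ _

theorem evOf_bsec {M : X.Modules} {r : ℕ} (s : Fin r → (Coh.structureModule X ⟶ M)) (l : Fin r)
    (U : X.Opens) : (evOf s).app U (bsec r l U) = sec (s l) U := by
  change sec (inj X r l ≫ evOf s) U = _
  rw [inj_evOf]

theorem epi_evOf {M : X.Modules} {r : ℕ} (s : Fin r → (Coh.structureModule X ⟶ M))
    (hcov : ∀ x : X, ∃ l, x ∈ CohB1.genLocus M (s l)) : Epi (evOf s) := by
  apply QCExact.epi_of_locally_surjective
  intro W σ x hx
  obtain ⟨l, hl⟩ := hcov x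
  refine ⟨W ⊓ CohB1.genLocus M (s l), inf_le_left, ⟨hx, hl⟩, ?_⟩
  have hg := isGen_genLocus (s l) (W ⊓ CohB1.genLocus M (s l)) inf_le_right
  rw [res_sec] at hg
  obtain ⟨a, ha⟩ := hg.exists_coord (res M inf_le_left σ)
  refine ⟨a • bsec r l _, ?_⟩
  rw [Scheme.Modules.Hom.app_smul, evOf_bsec, ha]

section Aff
variable (R : Type u) [CommRing R] [IsNoetherianRing R] (f : X ⟶ Spec (CommRingCat.of R))
  [IsProper f]

include R f in
/-- on a scheme proper over a Noetherian ring, the non-vanishing locus of a global section of an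
ample invertible module is affine. -/
theorem isAffineOpen_locus {L : X.Modules} (hA : CohB1.IsAmple L) (u : Γ(L, ⊤)) :
    IsAffineOpen (locus L u) := by
  classical
  have hL := hA.1
  haveI : CompactSpace X := hA.2.1
  haveI : X.IsSeparated := RelAmpleLib.isSeparated_of_isAmple hA
  haveI : IsLocallyNoetherian X := LocallyOfFiniteType.isLocallyNoetherian f
  have h1 : ∀ x : X, ∃ W : X.Opens, W ∈ SecLocus L ∧ x ∈ W ∧ IsAffineOpen W := fun x => by
    obtain ⟨W, hW, hxW, -, hWa⟩ := exists_secLocus_nbhd hA x ⊤ trivial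
    exact ⟨W, hW, hxW, hWa⟩
  choose W hWS hxW hWa using h1
  obtain ⟨T, hT⟩ := CompactSpace.elim_nhds_subcover (fun x => (W x : Set X))
    (fun x => (W x).2.mem_nhds (hxW x))
  obtain ⟨d, hd, hs⟩ := exists_common_degree_finite hL (ι := ↥T) (fun i => W i.1)
    (fun i => hWS i.1)
  choose s hs using hs
  let r := Fintype.card ↥T
  let eq : ↥T ≃ Fin r := Fintype.equivFin ↥T
  let s' : Fin r → (Coh.structureModule X ⟶ CohB1.tensorPow L d) := fun l => s (eq.symm l)
  have hcov : ∀ x : X, ∃ l, x ∈ CohB1.genLocus _ (s' l) := by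
    intro x
    have hx : x ∈ ⋃ y ∈ T, (W y : Set X) := hT ▸ Set.mem_univ x
    obtain ⟨y, hy, hxy⟩ := Set.mem_iUnion₂.mp hx
    refine ⟨eq ⟨y, hy⟩, ?_⟩
    change x ∈ CohB1.genLocus _ (s (eq.symm (eq ⟨y, hy⟩)))
    rw [Equiv.symm_apply_apply, hs]
    exact hxy
  have haff : ∀ l, IsAffineOpen (CohB1.genLocus _ (s' l)) := fun l => by
    change IsAffineOpen (CohB1.genLocus _ (s (eq.symm l)))
    rw [hs]
    exact hWa _
  haveI : Epi (evOf s') := epi_evOf s' hcov
  have hLd := isInvertible_tensorPow hL d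
  haveI : (FlatMod.freeMod X r).IsQuasicoherent :=
    (Groth.Agent.Lib.Helper23.Dev.isCoh_freeMod X r).1
  haveI : (FlatMod.freeMod X r).IsFiniteType :=
    (Groth.Agent.Lib.Helper23.Dev.isCoh_freeMod X r).2
  haveI : (CohB1.tensorPow L d).IsQuasicoherent := InvCoh.isQuasicoherent_of_isInvertible hLd
  haveI : (kernel (evOf s')).IsQuasicoherent := QCProps.isQuasicoherent_kernel (evOf s')
  have hK : Coh.IsCoh (kernel (evOf s')) :=
    ⟨inferInstance, QCProps.isFiniteType_of_mono (kernel.ι (evOf s'))⟩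
  obtain ⟨n₀, hn₀⟩ :=
    Groth.Agent.Lib.Helper7.AmpleSerre.serre_vanishing_of_isAmple R f hA (kernel (evOf s')) hK
  have hK1 : Subsingleton (Coh.HH X ((twR (CohB1.tensorPow L n₀)).obj (kernel (evOf s'))) 1) :=
    hn₀ n₀ le_rfl 1 Nat.one_pos
  obtain ⟨t, ht⟩ := Groth.Agent.Lib.Helper23.CurveVB.mult_surj r (evOf s')
    (isInvertible_tensorPow hL n₀) hK1
    (tm (CohB1.tensorPow L n₀) (CohB1.tensorPow L d) ⊤ (lpow L u n₀) (lpow L u d))
  have hg : IsGen L (locus L u) (res L le_top u) := isGen_locus L u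
  have hgn := isGen_lpow hg n₀
  have hgd := isGen_lpow hg d
  have hgnd := isGen_tm hgn hgd
  choose a ha using fun l => hgn.self.exists_coord (res _ (le_top : locus L u ≤ ⊤) (t l))
  choose b hb using fun l =>
    hgd.self.exists_coord (res _ (le_top : locus L u ≤ ⊤) (sec (s' l) ⊤))
  have hsum : ∑ l, a l * b l = 1 := by
    apply hgnd.self.smul_inj
    rw [one_smul, Finset.sum_smul]
    have h2 := congrArg (res _ (le_top : locus L u ≤ ⊤)) ht
    rw [tm_res, lpow_res, lpow_res, SecLoc.res_sum] at h2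
    refine Eq.trans ?_ h2.symm
    refine Finset.sum_congr rfl (fun l _ => ?_)
    rw [tm_res, evOf_bsec, ← ha l, ← hb l, tm_smul_left, tm_smul_right, ← mul_smul]
  apply isAffineOpen_of_isAffineOpen_basicOpen _ (Set.range b)
  · rw [Ideal.eq_top_iff_one, ← hsum]
    exact Ideal.sum_mem _ (fun l _ => Ideal.mul_mem_left _ _ (Ideal.subset_span ⟨l, rfl⟩))
  · rintro _ ⟨l, rfl⟩
    have h3 : sec (s' l) (locus L u) = b l • lpow L (res L le_top u) d := by
      rw [hb l, res_sec]
    rw [← genLocus_inf_eq_basicOpen (s' l) hgd (b l) h3, inf_comm]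
    exact isAffineOpen_genLocus_inf hL (globalHom L u) (haff l)

end Aff

end

end Groth.Agent.Lib.Helper23.CurveVE
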