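import Groth.Agent.Lib.Helper23.CurveVAe
import Groth.Agent.Lib.Helper26.TwoChart
import Groth.Agent.Lib.Helper7.NumSec
import Groth.Agent.Lib.Helper23.AmpleCurve9
import Groth.Agent.S0002

/-!
# Ample normally generated invertible modules on schemes proper over a Noetherian ring are very
ample
-/

set_option autoImplicit false
set_option linter.unusedSectionVars false
set_option linter.style.haveILetI false
universe u
open CategoryTheory CategoryTheory.Limits AlgebraicGeometry Opposite TopologicalSpace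

namespace Groth.Agent.Lib.Helper23.CurveVF

open Groth.Agent.Lib.Helper3 Groth.Agent.Lib.Helper3.QCSec Groth.Agent.Lib.Helper3.InvGen
  Groth.Agent.Lib.Helper3.InvTensor Groth.Agent.Lib.Helper3.InvMonoidal
  Groth.Agent.Lib.Helper3.InvAmple Groth.Agent.Lib.Helper3.SecCoord
  Groth.Agent.Lib.Helper3.VACore Groth.Agent.Lib.Helper3.VASegre
open Scheme.Modules

noncomputable section

variable {X : Scheme.{u}}

theorem locus_smul_le {L : X.Modules} (hL : PicF.IsInvertible L) (r : Γ(X, ⊤)) (σ : Γ(L, ⊤)) :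
    locus L (r • σ) ≤ locus L σ := by
  intro x hx
  obtain ⟨V, e, hxV, hg⟩ := exists_isGen hL x
  obtain ⟨φ, hφ⟩ := hg.self.exists_coord (res L (le_top : V ≤ ⊤) σ)
  have h1 : CohB1.genLocus L (globalHom L σ) ⊓ V = X.basicOpen φ :=
    genLocus_inf_eq_basicOpen (globalHom L σ) hg φ (by rw [sec_globalHom, hφ])
  have h2 : CohB1.genLocus L (globalHom L (r • σ)) ⊓ V =
      X.basicOpen (rres X (le_top : V ≤ ⊤) r * φ) := by
    apply genLocus_inf_eq_basicOpen (globalHom L (r • σ)) hg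
    rw [sec_globalHom, res_smul, ← hφ, mul_smul]
  have h3 : x ∈ X.basicOpen (rres X (le_top : V ≤ ⊤) r * φ) := h2 ▸ ⟨hx, hxV⟩
  rw [Scheme.basicOpen_mul] at h3
  have h4 : x ∈ CohB1.genLocus L (globalHom L σ) ⊓ V := h1 ▸ h3.2
  exact h4.1

theorem locus_add_le {L : X.Modules} (hL : PicF.IsInvertible L) (a b : Γ(L, ⊤)) :
    locus L (a + b) ≤ locus L a ⊔ locus L b := by
  unfold locus
  rw [Groth.Agent.Lib.Helper23.AmpleCurve.globalHom_add]
  exact Groth.Agent.Lib.Helper26.TwoChart.genLocus_add_le hL _ _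

theorem globalHom_zero (L : X.Modules) : globalHom L (0 : Γ(L, ⊤)) = 0 := by
  have h := Groth.Agent.Lib.Helper23.AmpleCurve.globalHom_add L 0 0
  rw [add_zero] at h
  exact left_eq_add.mp h

theorem notMem_locus_zero (L : X.Modules) (x : X) : x ∉ locus L (0 : Γ(L, ⊤)) := by
  unfold locus
  rw [globalHom_zero]
  exact Groth.Agent.Lib.Helper7.NumSec.notMem_genLocus_zero L x

section Cover

theorem Q_tm {F L : X.Modules} (hF : PicF.IsInvertible F) (hL : PicF.IsInvertible L) (x : X)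
    (a : Γ(F, ⊤)) (b : Γ(L, ⊤)) (h : x ∈ locus (CohB1.tensorMod F L) (tm F L ⊤ a b)) :
    ∃ b : Γ(L, ⊤), x ∈ locus L b := by
  rw [locus_tm hF hL] at h
  exact ⟨b, h.2⟩

theorem Q_zero {G L : X.Modules} (x : X) (h : x ∈ locus G (0 : Γ(G, ⊤))) :
    ∃ b : Γ(L, ⊤), x ∈ locus L b :=
  absurd h (notMem_locus_zero G x)

theorem Q_add {G L : X.Modules} (hG : PicF.IsInvertible G) (x : X) (z₁ z₂ : Γ(G, ⊤))
    (h₁ : x ∈ locus G z₁ → ∃ b : Γ(L, ⊤), x ∈ locus L b)
    (h₂ : x ∈ locus G z₂ → ∃ b : Γ(L, ⊤), x ∈ locus L b)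
    (h : x ∈ locus G (z₁ + z₂)) : ∃ b : Γ(L, ⊤), x ∈ locus L b := by
  rcases locus_add_le hG z₁ z₂ h with h' | h'
  · exact h₁ h'
  · exact h₂ h'

theorem Q_smul {G L : X.Modules} (hG : PicF.IsInvertible G) (x : X) (c : Γ(X, ⊤)) (z : Γ(G, ⊤))
    (h₁ : x ∈ locus G z → ∃ b : Γ(L, ⊤), x ∈ locus L b)
    (h : x ∈ locus G (c • z)) : ∃ b : Γ(L, ⊤), x ∈ locus L b :=
  h₁ (locus_smul_le hG c z h)

theorem Q_of_span {L : X.Modules} (hL : PicF.IsInvertible L) (x : X) (n : ℕ)
    (hng : Submodule.span (X.ringCatSheaf.obj.obj (Opposite.op ⊤))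
        (Set.range (fun p : (CohB1.tensorPow L n).val.obj (Opposite.op ⊤) ×
            L.val.obj (Opposite.op ⊤) =>
          SecTwist.tmul (CohB1.tensorPow L n) L ⊤ p.1 p.2)) = ⊤)
    (z : Γ(CohB1.tensorMod (CohB1.tensorPow L n) L, ⊤)) :
    x ∈ locus (CohB1.tensorMod (CohB1.tensorPow L n) L) z → ∃ b : Γ(L, ⊤), x ∈ locus L b := by
  have hF := isInvertible_tensorPow hL n
  have hG := isInvertible_tensorMod hF hL
  have hz : z ∈ Submodule.span (X.ringCatSheaf.obj.obj (Opposite.op ⊤))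
      (Set.range (fun p : (CohB1.tensorPow L n).val.obj (Opposite.op ⊤) ×
          L.val.obj (Opposite.op ⊤) =>
        SecTwist.tmul (CohB1.tensorPow L n) L ⊤ p.1 p.2)) := by
    rw [hng]; trivial
  induction hz using Submodule.span_induction with
  | mem y hy =>
    obtain ⟨⟨a, b⟩, rfl⟩ := hy
    exact Q_tm hF hL x a b
  | zero => exact Q_zero x
  | add y₁ y₂ _ _ h₁ h₂ => exact Q_add hG x y₁ y₂ h₁ h₂
  | smul c y _ h₁ => exact Q_smul hG x c y h₁

theorem exists_mem_locus {L : X.Modules} (hA : CohB1.IsAmple L)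
    (hng : ∀ n : ℕ, Submodule.span (X.ringCatSheaf.obj.obj (Opposite.op ⊤))
        (Set.range (fun p : (CohB1.tensorPow L n).val.obj (Opposite.op ⊤) ×
            L.val.obj (Opposite.op ⊤) =>
          SecTwist.tmul (CohB1.tensorPow L n) L ⊤ p.1 p.2)) = ⊤) (x : X) :
    ∃ b : Γ(L, ⊤), x ∈ locus L b := by
  obtain ⟨n, T, hxT, -⟩ := hA.2.2 x
  have hz : x ∈ locus (CohB1.tensorPow L (n + 1)) (sec T ⊤) := by
    rw [VAMain.locus_sec]; exact hxT
  exact Q_of_span hA.1 x n (hng n) (sec T ⊤) hz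

end Cover

section Rel
variable (R : Type u) [CommRing R] (f : X ⟶ Spec (CommRingCat.of R))

/-- the structure map on global functions -/
def κR : R →+* Γ(X, ⊤) := Coh.toGlobal f

theorem rres_toGlobal_mem (W : X.Opens) (h : W ≤ f ⁻¹ᵁ ⊤) (c : R) :
    rres X (le_top : W ≤ ⊤) (κR R f c) ∈ Set.range (f.appLE ⊤ W h).hom :=
  ⟨(Scheme.ΓSpecIso (CommRingCat.of R)).inv.hom c, rfl⟩

/-- very ampleness data from: covering section loci, a finite generating family of sections,
affine section loci, and generation of the section ring in degree one. -/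
theorem isVA_rel [CompactSpace X] [QuasiSeparatedSpace X] {L : X.Modules}
    (hL : PicF.IsInvertible L) (hcov : ∀ x : X, ∃ b : Γ(L, ⊤), x ∈ locus L b)
    {p : ℕ} (v : Fin p → Γ(L, ⊤))
    (hv : ∀ w : Γ(L, ⊤), ∃ c : Fin p → R, w = ∑ i, κR R f (c i) • v i)
    (haff : ∀ u : Γ(L, ⊤), IsAffineOpen (locus L u))
    (hng : ∀ n : ℕ, Submodule.span (X.ringCatSheaf.obj.obj (Opposite.op ⊤))
        (Set.range (fun p : (CohB1.tensorPow L n).val.obj (Opposite.op ⊤) ×
            L.val.obj (Opposite.op ⊤) =>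
          SecTwist.tmul (CohB1.tensorPow L n) L ⊤ p.1 p.2)) = ⊤) :
    IsVA f L := by
  classical
  choose s hs using hcov
  obtain ⟨t, ht⟩ := CompactSpace.elim_nhds_subcover (fun x => (locus L (s x) : Set X))
    (fun x => (locus L (s x)).2.mem_nhds (hs x))
  let τ : ↥t → Γ(L, ⊤) := fun j => s j.1
  let β : ULift.{u} (Fin p) → Γ(L, ⊤) := fun j => v j.down
  refine ⟨↥t ⊕ ULift.{u} (Fin p), inferInstance, Sum.elim τ β, Set.range Sum.inl,
    fun _ => ⊤, ?_, ?_⟩
  · intro x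
    have hx : x ∈ ⋃ y ∈ t, (locus L (s y) : Set X) := ht ▸ Set.mem_univ x
    obtain ⟨y, hy, hxy⟩ := Set.mem_iUnion₂.mp hx
    exact ⟨Sum.inl ⟨y, hy⟩, ⟨_, rfl⟩, hxy⟩
  · rintro _ ⟨i, rfl⟩
    have hle : locus L (τ i) ≤ f ⁻¹ᵁ ⊤ := fun x _ => trivial
    refine ⟨isAffineOpen_top (Spec (CommRingCat.of R)), haff _, hle, ?_⟩
    apply Groth.Agent.Lib.Helper23.CurveVA.subring_eq_top hL (τ i) _ ?_ hng
    intro w
    obtain ⟨c, hc⟩ := hv w
    rw [hc, Groth.Agent.Lib.Helper23.CurveVA.ratio_sum]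
    refine Subring.sum_mem _ (fun j _ => Subring.mul_mem _ ?_ ?_)
    · exact Subring.subset_closure (Or.inl (rres_toGlobal_mem R f _ hle _))
    · exact Subring.subset_closure (Or.inr ⟨Sum.inr ⟨j⟩, rfl⟩)

theorem exists_gens [IsNoetherianRing R] [IsProper f] {L : X.Modules}
    (hL : PicF.IsInvertible L) :
    ∃ (p : ℕ) (v : Fin p → Γ(L, ⊤)), ∀ w : Γ(L, ⊤),
      ∃ c : Fin p → R, w = ∑ i, κR R f (c i) • v i := by
  letI : X.Over (Spec (CommRingCat.of R)) := ⟨f⟩
  haveI : IsProper (X ↘ Spec (CommRingCat.of R)) := ‹IsProper f›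
  haveI : Module.Finite R (Coh.HH X L 0) :=
    Groth.Agent.S0002.result R X L (Groth.Agent.Lib.Helper23.Curve.isCoh_of_isInvertible hL) 0
  obtain ⟨p, σ, hσ⟩ := Module.Finite.exists_fin (R := R) (M := Coh.HH X L 0)
  refine ⟨p, fun i => Groth.Agent.Lib.Helper23.T2.H0equiv L (σ i), fun w => ?_⟩
  have hw : (Groth.Agent.Lib.Helper23.T2.H0equiv L).symm w ∈ Submodule.span R (Set.range σ) := by
    rw [hσ]; trivial
  obtain ⟨c, hc⟩ := (Submodule.mem_span_range_iff_exists_fun R).1 hw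
  refine ⟨c, ?_⟩
  have h2 := congrArg (Groth.Agent.Lib.Helper23.T2.H0equiv L) hc
  rw [LinearEquiv.apply_symm_apply, map_sum] at h2
  rw [← h2]
  refine Finset.sum_congr rfl (fun i _ => ?_)
  exact (Groth.Agent.Lib.Helper23.T2.H0equiv L).map_smul (κR R f (c i)) (σ i)

/-- an ample invertible module whose section ring is generated in degree one, on a scheme
proper over a Noetherian ring, is very ample relative to a projective space. -/
theorem isRelVeryAmplePn_of_ample_normallyGenerated [IsNoetherianRing R] [IsProper f]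
    {L : X.Modules} (hA : CohB1.IsAmple L)
    (hng : ∀ n : ℕ, Submodule.span (X.ringCatSheaf.obj.obj (Opposite.op ⊤))
        (Set.range (fun p : (CohB1.tensorPow L n).val.obj (Opposite.op ⊤) ×
            L.val.obj (Opposite.op ⊤) =>
          SecTwist.tmul (CohB1.tensorPow L n) L ⊤ p.1 p.2)) = ⊤) :
    RelAmple.IsRelVeryAmplePn f L := by
  have hL := hA.1
  haveI : CompactSpace X := hA.2.1
  haveI : X.IsSeparated := RelAmpleLib.isSeparated_of_isAmple hA
  obtain ⟨p, v, hv⟩ := exists_gens R f hL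
  exact isRelVeryAmplePn_of_isVA f (isVA_rel R f hL (exists_mem_locus hA hng) v hv
    (fun u => Groth.Agent.Lib.Helper23.CurveVE.isAffineOpen_locus R f hA u) hng)

end Rel

theorem span_of_closure {L : X.Modules}
    (hng : ∀ n : ℕ, 1 ≤ n → AddSubgroup.closure {t | ∃ (m : (CohB1.tensorPow L n).val.obj (op ⊤))
      (s : L.val.obj (op ⊤)), t = SecTwist.tmul (CohB1.tensorPow L n) L ⊤ m s} = ⊤) (n : ℕ) :
    Submodule.span (X.ringCatSheaf.obj.obj (Opposite.op ⊤))
        (Set.range (fun p : (CohB1.tensorPow L n).val.obj (Opposite.op ⊤) ×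
            L.val.obj (Opposite.op ⊤) =>
          SecTwist.tmul (CohB1.tensorPow L n) L ⊤ p.1 p.2)) = ⊤ := by
  rcases Nat.eq_zero_or_pos n with rfl | hn
  · exact Groth.Agent.Lib.Helper23.CurveVA.span_tmul_zero L
  · rw [Submodule.eq_top_iff']
    intro z
    have hz : z ∈ AddSubgroup.closure {t | ∃ (m : (CohB1.tensorPow L n).val.obj (op ⊤))
        (s : L.val.obj (op ⊤)), t = SecTwist.tmul (CohB1.tensorPow L n) L ⊤ m s} := by
      rw [hng n hn]; trivial
    refine (AddSubgroup.closure_le (K := (Submodule.span (X.ringCatSheaf.obj.obj (Opposite.op ⊤))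
        (Set.range (fun p : (CohB1.tensorPow L n).val.obj (Opposite.op ⊤) ×
            L.val.obj (Opposite.op ⊤) =>
          SecTwist.tmul (CohB1.tensorPow L n) L ⊤ p.1 p.2))).toAddSubgroup)).2 ?_ hz
    rintro _ ⟨m, s, rfl⟩
    exact Submodule.subset_span ⟨(m, s), rfl⟩

end

end Groth.Agent.Lib.Helper23.CurveVF
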