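import Groth.Agent.Lib.Helper23.PtLin
import Groth.Agent.Lib.Helper3.ModGlue
import Groth.Agent.Lib.Helper3.AffExt

/-!
# PtLin2: an invertible module of degree `-1` whose dual has a section is the ideal of a
rational point
-/
set_option autoImplicit false
set_option linter.style.haveILetI false
universe u
open CategoryTheory CategoryTheory.Limits Opposite TopologicalSpace AlgebraicGeometry
open Groth.Agent.Lib.Helper3 Groth.Agent.Lib.Helper3.QCSec Groth.Agent.Lib.Helper3.InvGen
open Groth.Agent.Lib.Helper23.T2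

noncomputable section

namespace Groth.Agent.Lib.Helper23.PtDiv

open Groth.Agent.Lib.Helper23.Curve Groth.Agent.Lib.Helper23.EffCart
  Groth.Agent.Lib.Helper23.DegTensor Groth.Agent.Lib.Helper23.Inverse
  Groth.Agent.Lib.Helper23.DualSec

section Hom

variable {X : Scheme.{u}}

/-- a global section of the dual gives a morphism to the structure sheaf with the given stalk
forms -/
theorem exists_hom_of_sec {J : X.Modules} (σ : Γ(dual J, ⊤)) :
    ∃ u : J ⟶ Coh.structureModule X, ∀ (V : X.Opens) (l : Γ(J, V)) (x : X) (hx : x ∈ V),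
      X.presheaf.germ V x hx (toFun V (u.app V l)) =
        σ.1 ⟨x, trivial⟩ (J.presheaf.germ V x hx l) := by
  have hσ : ∀ (V : X.Opens) (l : Γ(J, V)), ∃ a : Γ(X, V), ∀ x : V,
      X.presheaf.germ V x.1 x.2 a = σ.1 ⟨x.1, trivial⟩ (J.presheaf.germ V x.1 x.2 l) :=
    fun V l => σ.2 V le_top l
  choose A hA using hσ
  obtain ⟨u, hu⟩ := ModGlue.exists_hom_of_small (M := J) (N := Coh.structureModule X)
    (fun _ => True) (fun _ _ => trivial) (fun x => ⟨⊤, trivial, trivial⟩)
    (fun V _ l => ofFun V (A V l))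
    (by
      intro V _ s s'
      apply ofFun_injective
      apply fun_ext_germ
      intro x
      change X.presheaf.germ V x.1 x.2 (A V (s + s')) =
        X.presheaf.germ V x.1 x.2 (A V s + A V s')
      rw [map_add, hA, hA, hA, map_add, map_add])
    (by
      intro V _ a s
      apply ofFun_injective
      apply fun_ext_germ
      intro x
      change X.presheaf.germ V x.1 x.2 (A V (a • s)) =
        X.presheaf.germ V x.1 x.2 (a * A V s)
      rw [map_mul, hA, hA, Mero.germ_smul, map_smul]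
      rfl)
    (by
      intro V V' h _ _ s
      apply ofFun_injective
      apply fun_ext_germ
      intro x
      change X.presheaf.germ V' x.1 x.2 (rres X h (A V s)) =
        X.presheaf.germ V' x.1 x.2 (A V' (res J h s))
      rw [germ_rres', hA V s ⟨x.1, h x.2⟩, hA V' _ x, germ_res'])
  refine ⟨u, fun V l x hx => ?_⟩
  rw [hu V trivial l]
  exact hA V l ⟨x, hx⟩

end Hom

section Point

variable (k : Type u) [Field k] (X : Scheme.{u}) [X.Over (Spec (CommRingCat.of k))]
  [IsProper (X ↘ Spec (CommRingCat.of k))] [IsIntegral X]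

attribute [local instance] Curv2.resAlgebra

include k in
/-- a nonzero section of the dual of an invertible module of negative degree has a closed point
where its stalk form is not surjective -/
theorem exists_closed_point_of_sec (hdim : topologicalKrullDim X = 1) {J : X.Modules}
    (hJ : PicF.IsInvertible J) (hdeg : 0 < Curv2.deg k X (dual J) 1) (σ : Γ(dual J, ⊤))
    (hσ : σ ≠ 0) :
    ∃ P : X, IsClosed ({P} : Set X) ∧
      ∀ t, σ.1 ⟨P, trivial⟩ t ∈ IsLocalRing.maximalIdeal (X.presheaf.stalk P) := by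
  haveI := isNoetherian_of_isProper k X
  set s := InvAmple.globalHom (dual J) σ with hs_def
  have hsec : ∀ U : X.Opens, sec s U = res (dual J) le_top σ := InvAmple.sec_globalHom (dual J) σ
  have hs : s ≠ 0 := by
    intro h0
    apply hσ
    have h1 := hsec ⊤
    rw [h0] at h1
    have h2 : res (dual J) (le_top : (⊤ : X.Opens) ≤ ⊤) σ = σ := res_self _ _ σ
    rw [h2] at h1
    rw [← h1]
    rfl
  obtain ⟨P, hP⟩ := Groth.Agent.Lib.Helper23.AmpleCurve.exists_notMem_genLocus k hdim.le s hdeg
  obtain ⟨y, hy⟩ := Groth.Agent.Lib.Helper23.AmpleCurve.exists_mem_genLocus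
    (isInvertible_dual hJ) s hs
  have hne : P ≠ genericPoint X := by
    intro h
    apply hP
    rw [h]
    exact ((genericPoint_spec X).mem_open_set_iff (CohB1.genLocus (dual J) s).2).2
      ⟨y, trivial, hy⟩
  have hcl := Groth.Agent.Lib.Helper23.AmpleCurve.isClosed_singleton_of_ne_genericPoint
    hdim.le P hne
  refine ⟨P, hcl, ?_⟩
  obtain ⟨U, m, hPU, hg⟩ := exists_isGen hJ P
  obtain ⟨f, hf⟩ := (isGen_dualGen hg).self.exists_coord (sec s U)
  have hbo := genLocus_inf_eq_basicOpen s (isGen_dualGen hg) f hf.symm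
  have hPf : P ∉ X.basicOpen f := by
    intro h
    rw [← hbo] at h
    exact hP h.1
  have hmem : X.presheaf.germ U P hPU f ∈ IsLocalRing.maximalIdeal (X.presheaf.stalk P) := by
    rw [IsLocalRing.mem_maximalIdeal, mem_nonunits_iff]
    intro hu
    exact hPf ((X.mem_basicOpen _ P hPU).2 hu)
  have hval : σ.1 ⟨P, trivial⟩ (J.presheaf.germ U P hPU m) = X.presheaf.germ U P hPU f := by
    have h1 : (f • dualGen hg).1 ⟨P, hPU⟩ = (res (dual J) (le_top : U ≤ ⊤) σ).1 ⟨P, hPU⟩ := by
      rw [hf, hsec U]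
    have h2 : (res (dual J) (le_top : U ≤ ⊤) σ).1 ⟨P, hPU⟩ = σ.1 ⟨P, trivial⟩ := rfl
    have h3 : (f • dualGen hg).1 ⟨P, hPU⟩ = X.presheaf.germ U P hPU f • coord hg P hPU := rfl
    rw [← h2, ← h1, h3, LinearMap.smul_apply, coord_germ, smul_eq_mul, mul_one]
  intro t
  obtain ⟨c, rfl⟩ := exists_eq_smul_germ hg P hPU t
  rw [map_smul, hval, smul_eq_mul]
  exact Ideal.mul_mem_left _ _ hmem

omit [IsProper (X ↘ Spec (CommRingCat.of k))] [X.Over (Spec (CommRingCat.of k))] [IsIntegral X] in
/-- a morphism to the structure sheaf all of whose values vanish at the closed point `P` factors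
through the ideal of `P` -/
theorem exists_factor_idealMod (P : X) (hP : IsClosed ({P} : Set X)) {J : X.Modules}
    (u : J ⟶ Coh.structureModule X)
    (h : ∀ (V : X.Opens) (l : Γ(J, V)) (hPV : P ∈ V),
      X.presheaf.germ V P hPV (toFun V (u.app V l)) ∈
        IsLocalRing.maximalIdeal (X.presheaf.stalk P)) :
    ∃ ψ : J ⟶ ClSub.idealMod (Scheme.IdealSheafData.vanishingIdeal ⟨{P}, hP⟩),
      ψ ≫ ClSub.idealModι (Scheme.IdealSheafData.vanishingIdeal ⟨{P}, hP⟩) = u := by
  have hzero : u ≫ ClSub.toSubscheme (Scheme.IdealSheafData.vanishingIdeal ⟨{P}, hP⟩) = 0 := by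
    apply AffExt.hom_ext_of_affine
    intro U l
    have key : (Scheme.IdealSheafData.vanishingIdeal ⟨{P}, hP⟩).subschemeι.app U.1
        (toFun U.1 (u.app U.1 l)) = 0 := by
      have hker := Scheme.IdealSheafData.ker_subschemeι_app
        (Scheme.IdealSheafData.vanishingIdeal ⟨{P}, hP⟩) ⟨U.1, U.2⟩
      have hmem : toFun U.1 (u.app U.1 l) ∈
          (Scheme.IdealSheafData.vanishingIdeal ⟨{P}, hP⟩).ideal ⟨U.1, U.2⟩ := by
        by_cases hPU : P ∈ U.1
        · rw [vanishingIdeal_ideal_of_mem P hP ⟨U.1, U.2⟩ hPU,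
            U.2.primeIdealOf_eq_map_closedPoint]
          exact h U.1 l hPU
        · rw [vanishingIdeal_ideal_of_notMem P hP ⟨U.1, U.2⟩ hPU]
          trivial
      rw [← hker] at hmem
      exact hmem
    exact key
  exact ⟨kernel.lift _ u hzero, kernel.lift_ι _ _ _⟩

include k in
/-- **an invertible module of degree `-1` whose dual has a nonzero section is the ideal sheaf of
a rational point** -/
theorem exists_iso_idealMod_point (hdim : topologicalKrullDim X = 1) {J : X.Modules}
    (hJ : PicF.IsInvertible J) (hdegJ : Curv2.deg k X J 1 = -1)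
    (hreg : ∀ x : X, IsClosed ({x} : Set X) → IsIntegrallyClosed (X.presheaf.stalk x))
    (hnt : Nontrivial (Coh.HH X (dual J) 0)) :
    ∃ (P : X) (hP : IsClosed ({P} : Set X)), Module.finrank k (X.residueField P) = 1 ∧
      Nonempty (J ≅ ClSub.idealMod (Scheme.IdealSheafData.vanishingIdeal ⟨{P}, hP⟩)) := by
  haveI := isNoetherian_of_isProper k X
  obtain ⟨a, ha⟩ := exists_ne (0 : Coh.HH X (dual J) 0)
  have hσ : (show Γ(dual J, ⊤) from H0equiv (dual J) a) ≠ 0 := by
    intro h0
    apply ha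
    apply (H0equiv (dual J)).injective
    rw [map_zero]
    exact h0
  have hdeg : 0 < Curv2.deg k X (dual J) 1 := by
    rw [deg_dual k hdim.le hJ, hdegJ]
    norm_num
  obtain ⟨P, hPcl, hPm⟩ := exists_closed_point_of_sec k X hdim hJ hdeg _ hσ
  obtain ⟨u, hu⟩ := exists_hom_of_sec (show Γ(dual J, ⊤) from H0equiv (dual J) a)
  obtain ⟨ψ, hψ⟩ := exists_factor_idealMod X P hPcl u (fun V l hPV => by
    rw [hu V l P hPV]
    exact hPm _)
  have hψne : ψ ≠ 0 := by
    intro h0
    apply hσ
    have hu0 : u = 0 := by rw [← hψ, h0, zero_comp]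
    apply Subtype.ext
    funext y
    apply LinearMap.ext
    intro t
    obtain ⟨W, hyW, l, rfl⟩ := TopCat.Presheaf.exists_germ_eq _ t
    have h1 := hu W l y.1 hyW
    rw [hu0] at h1
    have h2 : toFun W ((0 : J ⟶ Coh.structureModule X).app W l) = 0 := rfl
    rw [h2, map_zero] at h1
    exact h1.symm
  obtain ⟨hInv, hdegI⟩ := isInvertible_and_deg_idealMod_point k X hdim P hPcl (hreg P hPcl)
  -- the residue degree is positive
  have hpos : Module.finrank k (X.residueField P) ≠ 0 := by
    intro h0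
    have hne : ClSub.idealModι (Scheme.IdealSheafData.vanishingIdeal ⟨{P}, hPcl⟩) ≠ 0 := by
      intro h1
      apply hψne
      haveI := IdealMod.mono_idealModι (Scheme.IdealSheafData.vanishingIdeal ⟨{P}, hPcl⟩)
      rw [← cancel_mono (ClSub.idealModι (Scheme.IdealSheafData.vanishingIdeal ⟨{P}, hPcl⟩)),
        h1, comp_zero, comp_zero]
    obtain ⟨-, hiso⟩ := deg_le_of_map k hdim.le hInv (isInvertible_structureModule X) _ hne
    rw [hdegI, h0, deg_structureModule] at hiso
    haveI := hiso (by simp)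
    set ι := ClSub.idealModι (Scheme.IdealSheafData.vanishingIdeal ⟨{P}, hPcl⟩) with hι
    have h1 : ι.app ⊤ ((inv ι).app ⊤ (ofFun ⊤ 1)) = ofFun ⊤ 1 := by
      have h2 : (inv ι ≫ ι).app ⊤ (ofFun ⊤ 1) = ofFun ⊤ 1 := by
        rw [IsIso.inv_hom_id]
        rfl
      exact h2
    have h3 := stalkForm_idealModι_mem X P hPcl
      ((ClSub.idealMod (Scheme.IdealSheafData.vanishingIdeal ⟨{P}, hPcl⟩)).presheaf.germ ⊤ P
        trivial ((inv ι).app ⊤ (ofFun ⊤ 1)))
    rw [stalkForm_germ, h1] at h3
    have h4 : toFun ⊤ (ofFun ⊤ (1 : Γ(X, ⊤))) = 1 := rfl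
    rw [h4, map_one] at h3
    exact (Ideal.ne_top_iff_one _).1 (IsLocalRing.maximalIdeal.isMaximal _).ne_top h3
  obtain ⟨hle, hiso⟩ := deg_le_of_map k hdim.le hJ hInv ψ hψne
  rw [hdegJ, hdegI] at hle hiso
  have hone : Module.finrank k (X.residueField P) = 1 := by omega
  refine ⟨P, hPcl, hone, ?_⟩
  haveI := hiso (by rw [hone]; rfl)
  exact ⟨asIso ψ⟩

end Point

end Groth.Agent.Lib.Helper23.PtDiv
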