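import Mathlib.Topology.NoetherianSpace
import Mathlib.Topology.Sober

/-! Topological finiteness of immediate specializations outside an open set. -/

set_option autoImplicit false
universe u
open TopologicalSpace Topology

namespace Groth.Agent.Lib.Helper23.CycLib

/-- In a Noetherian quasi-sober space, a point `ξ` has only finitely many immediate
specializations outside a given open neighbourhood `W` of `ξ`. -/
lemma finite_immediate_specializations {Y : Type u} [TopologicalSpace Y] [NoetherianSpace Y]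
    [QuasiSober Y] (ξ : Y) (W : Set Y) (hW : IsOpen W) (hξ : ξ ∈ W) :
    {y : Y | y ∉ W ∧ ξ ⤳ y ∧ ∀ z, ξ ⤳ z → z ⤳ y → z = ξ ∨ z = y}.Finite := by
  classical
  have hZ : IsClosed (closure {ξ} ∩ Wᶜ) := isClosed_closure.inter hW.isClosed_compl
  obtain ⟨S, hSf, hSc, hSi, hSU⟩ := NoetherianSpace.exists_finite_set_isClosed_irreducible hZ
  -- choose generic points
  have hgen : ∀ t ∈ S, ∃ η : Y, IsGenericPoint η t := fun t ht =>
    QuasiSober.sober (hSi t ht) (hSc t ht)
  haveI : Nonempty Y := ⟨ξ⟩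
  choose! g hg using hgen
  refine (hSf.image g).subset ?_
  rintro y ⟨hyW, hξy, him⟩
  have hyZ : y ∈ closure {ξ} ∩ Wᶜ := ⟨hξy.mem_closure, hyW⟩
  rw [hSU] at hyZ
  obtain ⟨t, htS, hyt⟩ := hyZ
  refine ⟨t, htS, ?_⟩
  have hgt := hg t htS
  have h1 : g t ⤳ y := (isGenericPoint_iff_specializes.1 hgt y).2 hyt
  have hgtmem : g t ∈ t := (isGenericPoint_iff_specializes.1 hgt (g t)).1 specializes_rfl
  have hgZ : g t ∈ closure {ξ} ∩ Wᶜ := by
    rw [hSU]; exact ⟨t, htS, hgtmem⟩
  have h2 : ξ ⤳ g t := specializes_iff_mem_closure.2 hgZ.1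
  rcases him (g t) h2 h1 with h | h
  · exact absurd (h ▸ hξ) hgZ.2
  · exact h

end Groth.Agent.Lib.Helper23.CycLib
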