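import Groth.Prelude.Def_Tame

/-! Invariance of `CycAlg.ordFrac` under compatible ring isomorphisms. -/

set_option autoImplicit false
universe u v u' v'
open scoped nonZeroDivisors

namespace Groth.Agent.Lib.Helper23.CycLib

section length

variable {R : Type u} {R' : Type u'} [CommRing R] [CommRing R']

lemma length_eq_of_semilinear {M : Type v} {M' : Type v'} [AddCommGroup M] [Module R M]
    [AddCommGroup M'] [Module R' M'] {σ : R →+* R'} [RingHomSurjective σ]
    (f : M →ₛₗ[σ] M') (hf : Function.Bijective f) :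
    Module.length R M = Module.length R' M' := by
  rw [Module.length, Module.length, WithBot.unbot_inj,
    Order.krullDim_eq_of_orderIso (Submodule.orderIsoMapComapOfBijective f hf)]

lemma ord_ringEquiv (e : R ≃+* R') (a : R) : Ring.ord R' (e a) = Ring.ord R a := by
  unfold Ring.ord
  have hJ : Ideal.span {e a} = Ideal.map (e : R →+* R') (Ideal.span {a}) := by
    rw [Ideal.map_span, Set.image_singleton]; rfl
  let q := Ideal.quotientEquiv (Ideal.span {a}) (Ideal.span {e a}) e hJ
  haveI : RingHomSurjective (e : R →+* R') := ⟨e.surjective⟩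
  let f : (R ⧸ Ideal.span {a}) →ₛₗ[(e : R →+* R')] (R' ⧸ Ideal.span {e a}) :=
    { toFun := q
      map_add' := map_add q
      map_smul' := by
        intro r x
        obtain ⟨x, rfl⟩ := Ideal.Quotient.mk_surjective x
        rw [← Ideal.Quotient.mk_eq_mk, ← Submodule.Quotient.mk_smul]
        simp only [Ideal.Quotient.mk_eq_mk, q, Ideal.quotientEquiv_mk, smul_eq_mul, map_mul]
        rw [← Ideal.Quotient.mk_eq_mk, ← Ideal.Quotient.mk_eq_mk, ← Submodule.Quotient.mk_smul]
        rfl }
  exact (length_eq_of_semilinear f q.bijective).symm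

end length

section ordFrac

variable {R R' : Type u} [CommRing R] [CommRing R'] {K K' : Type v} [Field K] [Field K']
  [Algebra R K] [Algebra R' K']

lemma ordMonoidWithZeroHom_ringEquiv [Nontrivial R] [Nontrivial R'] (e : R ≃+* R') (a : R) :
    Ring.ordMonoidWithZeroHom R' (e a) = Ring.ordMonoidWithZeroHom R a := by
  by_cases ha : a ∈ R⁰
  · have ha' : e a ∈ R'⁰ := by
      rw [mem_nonZeroDivisors_iff] at ha ⊢
      constructor
      · intro x hx
        have := ha.1 (e.symm x) (by apply e.injective; simpa using hx)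
        simpa using congrArg e this
      · intro x hx
        have := ha.2 (e.symm x) (by apply e.injective; simpa using hx)
        simpa using congrArg e this
    rw [Ring.ordMonoidWithZeroHom_eq_ord ha, Ring.ordMonoidWithZeroHom_eq_ord ha', ord_ringEquiv]
  · have ha' : e a ∉ R'⁰ := by
      intro h'
      apply ha
      rw [mem_nonZeroDivisors_iff] at h' ⊢
      constructor
      · intro x hx
        have := h'.1 (e x) (by rw [← map_mul, hx, map_zero])
        exact e.injective (by simpa using this)
      · intro x hx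
        have := h'.2 (e x) (by rw [← map_mul, hx, map_zero])
        exact e.injective (by simpa using this)
    rw [Ring.ordMonoidWithZeroHom_eq_zero ha, Ring.ordMonoidWithZeroHom_eq_zero ha']

/-- One direction of the transport of the standing conditions and the value. -/
lemma ordFrac_congr_aux (e : R ≃+* R') (ρ : K ≃+* K')
    (h : ∀ r, ρ (algebraMap R K r) = algebraMap R' K' (e r))
    (hc : IsNoetherianRing R ∧ Ring.KrullDimLE 1 R ∧ Nontrivial R ∧ IsFractionRing R K) (g : K) :
    (IsNoetherianRing R' ∧ Ring.KrullDimLE 1 R' ∧ Nontrivial R' ∧ IsFractionRing R' K') ∧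
      CycAlg.ordFrac R K g = CycAlg.ordFrac R' K' (ρ g) := by
  obtain ⟨h1, h2, h3, h4⟩ := hc
  haveI := h1; haveI := h2; haveI := h3; haveI := h4
  have h1' : IsNoetherianRing R' := isNoetherianRing_of_ringEquiv R e
  have h2' : Ring.KrullDimLE 1 R' := by
    rw [Ring.krullDimLE_iff, ← ringKrullDim_eq_of_ringEquiv e, ← Ring.krullDimLE_iff]
    exact h2
  have h3' : Nontrivial R' := e.injective.nontrivial
  have hinj : Function.Injective (algebraMap R' K') := by
    intro x y hxy
    have : ρ (algebraMap R K (e.symm x)) = ρ (algebraMap R K (e.symm y)) := by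
      rw [h, h]; simpa using hxy
    exact e.symm.injective (IsFractionRing.injective R K (ρ.injective this))
  haveI : FaithfulSMul R' K' := (faithfulSMul_iff_algebraMap_injective R' K').2 hinj
  have h4' : IsFractionRing R' K' := by
    apply IsFractionRing.of_field
    intro z
    obtain ⟨x, y, _, hxy⟩ := IsFractionRing.div_surjective R (ρ.symm z)
    refine ⟨e x, e y, ?_⟩
    rw [← h, ← h, ← map_div₀, hxy]; simp
  refine ⟨⟨h1', h2', h3', h4'⟩, ?_⟩
  haveI := h1'; haveI := h2'; haveI := h3'; haveI := h4'
  unfold CycAlg.ordFrac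
  rw [dif_pos ⟨h1, h2, h3, h4⟩, dif_pos ⟨h1', h2', h3', h4'⟩]
  congr 1
  obtain ⟨⟨a, b⟩, rfl⟩ := IsLocalization.mk'_surjective R⁰ (S := K) g
  have hb : (b : R) ≠ 0 := nonZeroDivisors.ne_zero b.2
  haveI : IsDomain R := (IsFractionRing.injective R K).isDomain
  haveI : IsDomain R' := hinj.isDomain
  have hb' : e b ∈ R'⁰ := mem_nonZeroDivisors_of_ne_zero (by simpa using hb)
  have hρ : ρ (IsLocalization.mk' K a b) = IsLocalization.mk' K' (e a) ⟨e b, hb'⟩ := by
    rw [IsLocalization.eq_mk'_iff_mul_eq]
    simp only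
    rw [← h, ← h, ← map_mul, IsLocalization.mk'_spec]
  rw [hρ]
  by_cases ha : a = 0
  · subst ha
    simp [IsLocalization.mk'_zero]
  have ha0 : a ∈ R⁰ := mem_nonZeroDivisors_of_ne_zero ha
  have ha' : e a ∈ R'⁰ := mem_nonZeroDivisors_of_ne_zero (by simpa using ha)
  have e1 := Ring.ordFrac_eq_div (R := R) (K := K) ⟨a, ha0⟩ b
  have e2 := Ring.ordFrac_eq_div (R := R') (K := K') ⟨e a, ha'⟩ ⟨e b, hb'⟩
  simp only at e1 e2
  rw [e1, e2, ordMonoidWithZeroHom_ringEquiv, ordMonoidWithZeroHom_ringEquiv]

theorem ordFrac_congr (e : R ≃+* R') (ρ : K ≃+* K')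
    (h : ∀ r, ρ (algebraMap R K r) = algebraMap R' K' (e r)) (g : K) :
    CycAlg.ordFrac R K g = CycAlg.ordFrac R' K' (ρ g) := by
  by_cases hc : IsNoetherianRing R ∧ Ring.KrullDimLE 1 R ∧ Nontrivial R ∧ IsFractionRing R K
  · exact (ordFrac_congr_aux e ρ h hc g).2
  · by_cases hc' : IsNoetherianRing R' ∧ Ring.KrullDimLE 1 R' ∧ Nontrivial R' ∧ IsFractionRing R' K'
    · exfalso
      apply hc
      have h' : ∀ r, ρ.symm (algebraMap R' K' r) = algebraMap R K (e.symm r) := by
        intro r
        apply ρ.injective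
        rw [h]; simp
      exact (ordFrac_congr_aux e.symm ρ.symm h' hc' (ρ g)).1
    · unfold CycAlg.ordFrac
      rw [dif_neg hc, dif_neg hc']

end ordFrac

end Groth.Agent.Lib.Helper23.CycLib
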