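import Groth.Prelude.Def_Cyc
import Groth.Agent.Lib.Helper23.CycA
import Groth.Agent.Lib.Helper23.CycB
import Mathlib.AlgebraicGeometry.Noetherian
import Mathlib.RingTheory.OrderOfVanishing.Noetherian
import Mathlib.AlgebraicGeometry.Properties

/-! Local finiteness of the support of a principal divisor `Cyc.divFun δ ξ f`. -/

set_option autoImplicit false
universe u
open AlgebraicGeometry CategoryTheory TopologicalSpace Topology

namespace Groth.Agent.Lib.Helper23.CycLib

variable {X : Scheme.{u}}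

lemma exists_germ_frac (V : X.Opens) (hV : IsAffineOpen V) (ξ : X) (hξ : ξ ∈ V)
    (s : X.presheaf.stalk ξ) :
    ∃ a b : Γ(X, V), IsUnit (X.presheaf.germ V ξ hξ b) ∧
      s * X.presheaf.germ V ξ hξ b = X.presheaf.germ V ξ hξ a := by
  letI := X.presheaf.algebra_section_stalk ⟨ξ, hξ⟩
  haveI := hV.isLocalization_stalk ⟨ξ, hξ⟩
  obtain ⟨⟨a, b⟩, h⟩ := IsLocalization.surj (hV.primeIdealOf ⟨ξ, hξ⟩).asIdeal.primeCompl s
  exact ⟨a, b, IsLocalization.map_units _ b, h⟩

lemma algebraMap_locQuot_mk (y ξ : X) (h : ξ ⤳ y) (r : X.presheaf.stalk y) :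
    algebraMap (Cyc.LocQuot y ξ h) (X.residueField ξ)
      (Ideal.Quotient.mk (RingHom.ker (Cyc.specMap y ξ h)) r) = Cyc.specMap y ξ h r := rfl

lemma specMap_germ (y ξ : X) (h : ξ ⤳ y) (V : X.Opens) (hy : y ∈ V) (a : Γ(X, V)) :
    Cyc.specMap y ξ h (X.presheaf.germ V y hy a) =
      X.residue ξ (X.presheaf.germ V ξ (h.mem_open V.2 hy) a) := by
  unfold Cyc.specMap
  rw [CommRingCat.hom_comp, RingHom.comp_apply]
  congr 1
  exact congrArg (fun φ => φ.hom a) (X.presheaf.germ_stalkSpecializes (U := V) hy h)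

lemma ordFrac_algebraMap_unit {R : Type u} [CommRing R] {K : Type u} [Field K] [Algebra R K]
    (r : R) (hr : IsUnit r) : CycAlg.ordFrac R K (algebraMap R K r) = 0 := by
  unfold CycAlg.ordFrac
  split_ifs with hc
  · obtain ⟨h1, h2, h3, h4⟩ := hc
    haveI := h1; haveI := h2; haveI := h3; haveI := h4
    haveI : IsDomain R := (IsFractionRing.injective R K).isDomain
    rw [Ring.ordFrac_of_isUnit hr]
    rfl
  · rfl

lemma ordAt_eq_zero_of_units (y ξ : X) (h : ξ ⤳ y) (V : X.Opens) (hy : y ∈ V) (a b : Γ(X, V))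
    (ha : IsUnit (X.presheaf.germ V y hy a)) (hb : IsUnit (X.presheaf.germ V y hy b))
    (f : X.residueField ξ)
    (hf : f * X.residue ξ (X.presheaf.germ V ξ (h.mem_open V.2 hy) b) =
      X.residue ξ (X.presheaf.germ V ξ (h.mem_open V.2 hy) a)) :
    Cyc.ordAt y ξ h f = 0 := by
  unfold Cyc.ordAt
  set mk := Ideal.Quotient.mk (RingHom.ker (Cyc.specMap y ξ h)) with hmk
  have ha' : IsUnit (mk (X.presheaf.germ V y hy a)) := ha.map mk
  have hb' : IsUnit (mk (X.presheaf.germ V y hy b)) := hb.map mk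
  have hbK : IsUnit (algebraMap (Cyc.LocQuot y ξ h) (X.residueField ξ)
      (mk (X.presheaf.germ V y hy b))) := hb'.map _
  have hfeq : f = algebraMap (Cyc.LocQuot y ξ h) (X.residueField ξ)
      (mk (X.presheaf.germ V y hy a) * ↑(hb'.unit⁻¹)) := by
    rw [map_mul]
    have e1 : algebraMap (Cyc.LocQuot y ξ h) (X.residueField ξ) (mk (X.presheaf.germ V y hy b)) =
        X.residue ξ (X.presheaf.germ V ξ (h.mem_open V.2 hy) b) := by
      rw [hmk, algebraMap_locQuot_mk, specMap_germ]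
    have e2 : algebraMap (Cyc.LocQuot y ξ h) (X.residueField ξ) (mk (X.presheaf.germ V y hy a)) =
        X.residue ξ (X.presheaf.germ V ξ (h.mem_open V.2 hy) a) := by
      rw [hmk, algebraMap_locQuot_mk, specMap_germ]
    rw [e2, ← hf, ← e1, mul_assoc, ← map_mul, IsUnit.mul_val_inv, map_one, mul_one]
  rw [hfeq]
  exact ordFrac_algebraMap_unit _ (ha'.mul (hb'.unit⁻¹).isUnit)

lemma ordAt_zero (y ξ : X) (h : ξ ⤳ y) : Cyc.ordAt y ξ h 0 = 0 := by
  unfold Cyc.ordAt CycAlg.ordFrac
  split_ifs with hc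
  · obtain ⟨h1, h2, h3, h4⟩ := hc
    haveI := h1; haveI := h2; haveI := h3; haveI := h4
    rw [map_zero]
    rfl
  · rfl

/-- In the presence of a dimension function, `δ y + 1 = δ ξ` forces the specialization to be
immediate. -/
lemma immediate_of_delta {δ : X → ℤ} (hδ : Cyc.IsDimFun X δ) {ξ y : X}
    (hd : δ y + 1 = δ ξ) (z : X) (h1 : ξ ⤳ z) (h2 : z ⤳ y) : z = ξ ∨ z = y := by
  by_contra hcon
  push_neg at hcon
  have a1 := (hδ ξ z h1 (Ne.symm hcon.1)).1
  have a2 := (hδ z y h2 hcon.2).1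
  omega

theorem divFun_support_locallyFinite [IsLocallyNoetherian X] (δ : X → ℤ)
    (hδ : Cyc.IsDimFun X δ) (ξ : X) (f : X.residueField ξ) (x : X) :
    ∃ V : X.Opens, x ∈ V ∧ {y : X | y ∈ V ∧ Cyc.divFun δ ξ f y ≠ 0}.Finite := by
  classical
  obtain ⟨V, hV, hxV, -⟩ := exists_isAffineOpen_mem_and_subset (x := x) (U := ⊤) trivial
  refine ⟨V, hxV, ?_⟩
  by_cases hξV : ξ ∈ V
  swap
  · convert Set.finite_empty
    ext y
    simp only [Set.mem_setOf_eq, Set.mem_empty_iff_false, iff_false, not_and, not_not]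
    intro hyV
    unfold Cyc.divFun
    rw [dif_neg]
    rintro ⟨h, -⟩
    exact hξV (h.mem_open V.2 hyV)
  obtain ⟨s, rfl⟩ := X.residue_surjective ξ f
  obtain ⟨a, b, hb, hab⟩ := exists_germ_frac V hV ξ hξV s
  by_cases ha0 : X.residue ξ (X.presheaf.germ V ξ hξV a) = 0
  · -- then f = 0
    have hf0 : X.residue ξ s = 0 := by
      have := congrArg (X.residue ξ) hab
      rw [map_mul, ha0] at this
      exact (mul_eq_zero.1 this).resolve_right ((hb.map (X.residue ξ).hom).ne_zero)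
    convert Set.finite_empty
    ext y
    simp only [Set.mem_ofPred_eq, Set.mem_empty_iff_false, iff_false, not_and, not_not]
    intro _
    unfold Cyc.divFun
    split_ifs with hc
    · rw [hf0]; exact ordAt_zero y ξ hc.1
    · rfl
  -- now `a` is a unit at ξ as well
  have haU : IsUnit (X.presheaf.germ V ξ hξV a) := by
    by_contra hnu
    exact ha0 ((IsLocalRing.residue_eq_zero_iff _).2 ((IsLocalRing.mem_maximalIdeal _).2 hnu))
  haveI : IsNoetherianRing Γ(X, V) := IsLocallyNoetherian.component_noetherian ⟨V, hV⟩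
  haveI : NoetherianSpace {x : X // x ∈ V} := noetherianSpace_of_isAffineOpen V hV
  haveI : QuasiSober {x : X // x ∈ V} := V.2.isOpenEmbedding_subtypeVal.quasiSober
  let W : X.Opens := X.basicOpen a ⊓ X.basicOpen b
  have hξW : ξ ∈ W := ⟨(X.mem_basicOpen a ξ hξV).2 haU, (X.mem_basicOpen b ξ hξV).2 hb⟩
  have hfin := finite_immediate_specializations (Y := {x : X // x ∈ V}) ⟨ξ, hξV⟩
    (Subtype.val ⁻¹' (W : Set X)) (W.2.preimage continuous_subtype_val) hξW
  refine (hfin.image Subtype.val).subset ?_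
  rintro y ⟨hyV, hne⟩
  refine ⟨⟨y, hyV⟩, ⟨?_, ?_, ?_⟩, rfl⟩
  · intro hyW
    apply hne
    unfold Cyc.divFun
    split_ifs with hc
    · have hya : IsUnit (X.presheaf.germ V y hyV a) := (X.mem_basicOpen a y hyV).1 hyW.1
      have hyb : IsUnit (X.presheaf.germ V y hyV b) := (X.mem_basicOpen b y hyV).1 hyW.2
      refine ordAt_eq_zero_of_units y ξ hc.1 V hyV a b hya hyb _ ?_
      rw [← map_mul, hab]
    · rfl
  · rw [subtype_specializes_iff]
    by_contra hns
    apply hne
    unfold Cyc.divFun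
    rw [dif_neg (fun hc => hns hc.1)]
  · intro z hz1 hz2
    rw [subtype_specializes_iff] at hz1 hz2
    have hd : δ y + 1 = δ ξ := by
      by_contra hnd
      apply hne
      unfold Cyc.divFun
      rw [dif_neg (fun hc => hnd hc.2)]
    rcases immediate_of_delta hδ hd z.1 hz1 hz2 with h | h
    · exact Or.inl (Subtype.ext h)
    · exact Or.inr (Subtype.ext h)

end Groth.Agent.Lib.Helper23.CycLib
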