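import Groth.Agent.Lib.Helper23.CycC

/-! Transport of `Cyc.ordAt` / `Cyc.divFun` along open immersions. -/

set_option autoImplicit false
universe u
open AlgebraicGeometry CategoryTheory TopologicalSpace Topology

namespace Groth.Agent.Lib.Helper23.CycLib

section algebra

variable {R R' K K' : Type u} [CommRing R] [CommRing R'] [Field K] [Field K']

theorem ordFrac_quot_congr (s : R →+* K) (s' : R' →+* K') (φ : R ≃+* R') (ρ : K ≃+* K')
    (hc : ∀ r, s' (φ r) = ρ (s r)) (g : K) :
    letI : Algebra (R ⧸ RingHom.ker s) K :=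
      (Ideal.Quotient.lift (RingHom.ker s) s (fun _ ha => RingHom.mem_ker.mp ha)).toAlgebra
    letI : Algebra (R' ⧸ RingHom.ker s') K' :=
      (Ideal.Quotient.lift (RingHom.ker s') s' (fun _ ha => RingHom.mem_ker.mp ha)).toAlgebra
    CycAlg.ordFrac (R ⧸ RingHom.ker s) K g = CycAlg.ordFrac (R' ⧸ RingHom.ker s') K' (ρ g) := by
  letI i1 : Algebra (R ⧸ RingHom.ker s) K :=
    (Ideal.Quotient.lift (RingHom.ker s) s (fun _ ha => RingHom.mem_ker.mp ha)).toAlgebra
  letI i2 : Algebra (R' ⧸ RingHom.ker s') K' :=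
    (Ideal.Quotient.lift (RingHom.ker s') s' (fun _ ha => RingHom.mem_ker.mp ha)).toAlgebra
  have hIJ : RingHom.ker s' = Ideal.map (φ : R →+* R') (RingHom.ker s) := by
    ext r'
    rw [show Ideal.map (φ : R →+* R') (RingHom.ker s) = Ideal.map φ (RingHom.ker s) from rfl,
      Ideal.mem_map_of_equiv]
    constructor
    · intro hr'
      refine ⟨φ.symm r', ?_, by simp⟩
      rw [RingHom.mem_ker] at hr' ⊢
      apply ρ.injective
      rw [← hc, map_zero]; simpa using hr'
    · rintro ⟨r, hr, rfl⟩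
      rw [RingHom.mem_ker] at hr ⊢
      rw [hc, hr, map_zero]
  let e := Ideal.quotientEquiv (RingHom.ker s) (RingHom.ker s') φ hIJ
  refine ordFrac_congr e ρ ?_ g
  intro r
  obtain ⟨r, rfl⟩ := Ideal.Quotient.mk_surjective r
  rw [Ideal.quotientEquiv_mk]
  change ρ (s r) = s' (φ r)
  rw [hc]

end algebra

variable {X Y : Scheme.{u}}

theorem ordAt_openImmersion (j : Y ⟶ X) [IsOpenImmersion j] (u ξ : Y) (h : ξ ⤳ u)
    (g : X.residueField (j ξ)) :
    Cyc.ordAt (j u) (j ξ) (j.base.hom.map_specializes h) g =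
      Cyc.ordAt u ξ h (j.residueFieldMap ξ g) := by
  unfold Cyc.ordAt
  have hcomp : ∀ r, Cyc.specMap u ξ h ((asIso (j.stalkMap u)).commRingCatIsoToRingEquiv r) =
      (asIso (j.residueFieldMap ξ)).commRingCatIsoToRingEquiv
        (Cyc.specMap (j u) (j ξ) (j.base.hom.map_specializes h) r) := by
    intro r
    unfold Cyc.specMap
    change (j.stalkMap u ≫ Y.presheaf.stalkSpecializes h ≫ Y.residue ξ).hom r =
      (X.presheaf.stalkSpecializes (j.base.hom.map_specializes h) ≫ X.residue (j ξ) ≫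
        j.residueFieldMap ξ).hom r
    rw [Scheme.residue_residueFieldMap, Scheme.Hom.stalkSpecializes_stalkMap_assoc]
  exact ordFrac_quot_congr _ _ (asIso (j.stalkMap u)).commRingCatIsoToRingEquiv
    (asIso (j.residueFieldMap ξ)).commRingCatIsoToRingEquiv hcomp g

end Groth.Agent.Lib.Helper23.CycLib
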