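import Groth.Agent.Lib.Helper23.CycD

/-! Extending a rational equivalence from an open subscheme. -/

set_option autoImplicit false
universe u
open AlgebraicGeometry CategoryTheory TopologicalSpace Topology

namespace Groth.Agent.Lib.Helper23.CycLib

variable {X Y : Scheme.{u}}

theorem divFun_openImmersion (j : Y ⟶ X) [IsOpenImmersion j] (δ : X → ℤ) (ξ : Y)
    (g : X.residueField (j ξ)) (u : Y) :
    Cyc.divFun δ (j ξ) g (j u) =
      Cyc.divFun (fun y : Y => δ (j y)) ξ (j.residueFieldMap ξ g) u := by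
  unfold Cyc.divFun
  have hiff : (j ξ ⤳ j u) ↔ (ξ ⤳ u) := j.isOpenEmbedding.isInducing.specializes_iff
  by_cases hc : ξ ⤳ u ∧ δ (j u) + 1 = δ (j ξ)
  · rw [dif_pos hc, dif_pos ⟨hiff.2 hc.1, hc.2⟩]
    exact ordAt_openImmersion j u ξ hc.1 g
  · rw [dif_neg hc, dif_neg (fun h => hc ⟨hiff.1 h.1, h.2⟩)]

lemma closure_inter_open_nonempty_iff {T : Type*} [TopologicalSpace T] (a : T) (V : Set T)
    (hV : IsOpen V) : (closure {a} ∩ V).Nonempty ↔ a ∈ V := by
  constructor
  · rintro ⟨z, hz, hzV⟩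
    exact (specializes_iff_mem_closure.2 hz).mem_open hV hzV
  · intro ha
    exact ⟨a, subset_closure rfl, ha⟩

/-- Local finiteness of a family of points of an open subscheme `U`, locally finite in `U`, seen in
a locally Noetherian ambient scheme. -/
lemma locallyFinite_of_open [IsLocallyNoetherian X] (j : Y ⟶ X) [IsOpenImmersion j] {ι : Type u}
    (ξ : ι → Y)
    (hlf : ∀ u : Y, ∃ W : Set Y, IsOpen W ∧ u ∈ W ∧ {i | (closure {ξ i} ∩ W).Nonempty}.Finite)
    (x : X) :
    ∃ V : X.Opens, x ∈ V ∧ {i | j (ξ i) ∈ V}.Finite := by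
  classical
  obtain ⟨V, hV, hxV, -⟩ := exists_isAffineOpen_mem_and_subset (x := x) (U := ⊤) trivial
  refine ⟨V, hxV, ?_⟩
  haveI : IsNoetherianRing Γ(X, V) := IsLocallyNoetherian.component_noetherian ⟨V, hV⟩
  haveI : NoetherianSpace {x : X // x ∈ V} := noetherianSpace_of_isAffineOpen V hV
  -- compactness of the preimage of `V`
  have hcomp : IsCompact (j ⁻¹' (V : Set X)) := by
    have h1 : IsCompact ((V : Set X) ∩ Set.range j) := by
      have := NoetherianSpace.isCompact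
        (Subtype.val ⁻¹' ((V : Set X) ∩ Set.range j) : Set {x : X // x ∈ V})
      rw [Subtype.isCompact_iff] at this
      convert this using 1
      ext z
      constructor
      · rintro ⟨hzV, hzr⟩
        exact ⟨⟨z, hzV⟩, ⟨hzV, hzr⟩, rfl⟩
      · rintro ⟨⟨z', hz'V⟩, ⟨_, hzr⟩, rfl⟩
        exact ⟨hz'V, hzr⟩
    have h2 : j ⁻¹' (V : Set X) = j ⁻¹' ((V : Set X) ∩ Set.range j) := by
      ext z; simp
    rw [h2]
    exact (j.isOpenEmbedding.isInducing.isCompact_preimage_iff Set.inter_subset_right).2 h1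
  choose W hWo hWm hWf using hlf
  obtain ⟨t, -, ht⟩ := hcomp.elim_nhds_subcover W (fun u _ => (hWo u).mem_nhds (hWm u))
  have hfin : (⋃ u ∈ t, {i | (closure {ξ i} ∩ W u).Nonempty}).Finite :=
    t.finite_toSet.biUnion (fun u _ => hWf u)
  refine hfin.subset ?_
  intro i hi
  have hi' : ξ i ∈ j ⁻¹' (V : Set X) := hi
  obtain ⟨u, hut, hu⟩ := Set.mem_iUnion₂.1 (ht hi')
  exact Set.mem_iUnion₂.2 ⟨u, hut, (closure_inter_open_nonempty_iff _ _ (hWo u)).2 hu⟩

end Groth.Agent.Lib.Helper23.CycLib
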