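import Groth.Agent.Lib.Helper23.CycE

/-! Extending a rational equivalence from an open subscheme: main theorem. -/

set_option autoImplicit false
universe u
open AlgebraicGeometry CategoryTheory TopologicalSpace Topology

namespace Groth.Agent.Lib.Helper23.CycLib

theorem exists_supported_on_complement (X : Scheme.{u}) (δ : X → ℤ) (hX : Cyc.IsSetup X δ)
    (U : X.Opens) (k : ℤ) (α β : AlgebraicCycle X ℤ) (hα : α ∈ Cyc.Zk X δ k)
    (hβ : β ∈ Cyc.Zk X δ k) (αU βU : AlgebraicCycle (↑U : Scheme.{u}) ℤ)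
    (hαU : ∀ u : ↥U, αU u = α (U.ι u)) (hβU : ∀ u : ↥U, βU u = β (U.ι u))
    (h : Cyc.RatEquiv (fun u : ↥U => δ (U.ι u)) k αU βU) :
    ∃ γ : AlgebraicCycle X ℤ, γ ∈ Cyc.Zk X δ k ∧ (∀ x : X, x ∈ U → γ x = 0) ∧
      Cyc.RatEquiv δ k α (β + γ) := by
  classical
  obtain ⟨hN, -, hδ⟩ := hX
  haveI := hN
  obtain ⟨ι, ξ, f, hδξ, hf0, hlf, heq⟩ := h
  let j : (U : Scheme.{u}) ⟶ X := U.ι
  let e : ∀ i, X.residueField (j (ξ i)) ≃+* (U : Scheme.{u}).residueField (ξ i) := fun i =>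
    (asIso (j.residueFieldMap (ξ i))).commRingCatIsoToRingEquiv
  let ξ' : ι → X := fun i => j (ξ i)
  let f' : ∀ i, X.residueField (ξ' i) := fun i => (e i).symm (f i)
  have hf' : ∀ i, j.residueFieldMap (ξ i) (f' i) = f i := fun i => (e i).apply_symm_apply (f i)
  have hf'0 : ∀ i, f' i ≠ 0 := fun i =>
    (map_ne_zero_iff _ (e i).symm.injective).2 (hf0 i)
  have hδξ' : ∀ i, δ (ξ' i) = k + 1 := fun i => hδξ i
  let D : X → ℤ := fun x => ∑ᶠ i, Cyc.divFun δ (ξ' i) (f' i) x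
  have hterm : ∀ i x, Cyc.divFun δ (ξ' i) (f' i) x ≠ 0 → ξ' i ⤳ x ∧ δ x = k := by
    intro i x hne
    unfold Cyc.divFun at hne
    split_ifs at hne with hc
    · refine ⟨hc.1, ?_⟩
      have := hc.2
      rw [hδξ' i] at this
      omega
    · exact absurd rfl hne
  have hDne : ∀ x, D x ≠ 0 → ∃ i, Cyc.divFun δ (ξ' i) (f' i) x ≠ 0 := by
    intro x hx
    by_contra hcon
    push_neg at hcon
    exact hx (finsum_eq_zero_of_forall_eq_zero hcon)
  have hDsupp : ∀ x : X, ∃ V' ∈ 𝓝 x, (V' ∩ D.support).Finite := by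
    intro x
    obtain ⟨V, hxV, hfinV⟩ := locallyFinite_of_open j ξ hlf x
    choose Vi hxVi hVifin using fun i => divFun_support_locallyFinite δ hδ (ξ' i) (f' i) x
    refine ⟨(V : Set X) ∩ ⋂ i ∈ hfinV.toFinset, (Vi i : Set X), ?_, ?_⟩
    · refine Filter.inter_mem (V.2.mem_nhds hxV) ?_
      exact (Filter.biInter_finset_mem _).2 fun i _ => (Vi i).2.mem_nhds (hxVi i)
    · have hfin : (⋃ i ∈ hfinV.toFinset,
          {y : X | y ∈ Vi i ∧ Cyc.divFun δ (ξ' i) (f' i) y ≠ 0}).Finite :=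
        hfinV.toFinset.finite_toSet.biUnion (fun i _ => hVifin i)
      refine hfin.subset ?_
      rintro y ⟨⟨hyV, hyVi⟩, hyD⟩
      obtain ⟨i, hi⟩ := hDne y hyD
      have hiV : ξ' i ∈ V := (hterm i y hi).1.mem_open V.2 hyV
      have hi' : i ∈ hfinV.toFinset := hfinV.mem_toFinset.2 hiV
      refine Set.mem_iUnion₂.2 ⟨i, hi', ?_, hi⟩
      exact Set.mem_iInter₂.1 hyVi i hi'
  let Dc : AlgebraicCycle X ℤ := ⟨D, Set.subset_univ _, fun z _ => hDsupp z⟩
  have hDc : ∀ x, Dc x = D x := fun _ => rfl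
  refine ⟨α - β - Dc, ?_, ?_, ?_⟩
  · intro x hx
    have h1 : α x = 0 := hα x hx
    have h2 : β x = 0 := hβ x hx
    have h3 : D x = 0 := by
      by_contra hne
      obtain ⟨i, hi⟩ := hDne x hne
      exact hx (hterm i x hi).2
    simp only [Function.locallyFinsuppWithin.coe_sub, Pi.sub_apply, h1, h2, hDc, h3, sub_self]
  · intro x hxU
    have hD : D x = αU ⟨x, hxU⟩ - βU ⟨x, hxU⟩ := by
      have := heq ⟨x, hxU⟩
      simp only [Function.locallyFinsuppWithin.coe_sub, Pi.sub_apply] at this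
      rw [this]
      apply finsum_congr
      intro i
      have := divFun_openImmersion j δ (ξ i) (f' i) ⟨x, hxU⟩
      rw [hf' i] at this
      exact this
    simp only [Function.locallyFinsuppWithin.coe_sub, Pi.sub_apply, hDc, hD, hαU, hβU]
    exact sub_self _
  · unfold Cyc.RatEquiv
    refine ⟨ι, ξ', f', hδξ', hf'0, ?_, ?_⟩
    · intro x
      obtain ⟨V, hxV, hfinV⟩ := locallyFinite_of_open j ξ hlf x
      refine ⟨V, V.2, hxV, hfinV.subset ?_⟩
      intro i hi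
      exact (closure_inter_open_nonempty_iff _ _ V.2).1 hi
    · intro x
      simp only [Function.locallyFinsuppWithin.coe_sub, Function.locallyFinsuppWithin.coe_add,
        Pi.sub_apply, Pi.add_apply, hDc]
      ring

end Groth.Agent.Lib.Helper23.CycLib
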