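import Mathlib
import Groth.Prelude.Def_Curv2
import Groth.Agent.Lib.Helper27.DeltaInv2

/-!
# `δ(A) ≤ δ(B)` for a flat local homomorphism `A → B`
-/

open TensorProduct
universe u
open IsLocalRing
set_option autoImplicit false

namespace Groth.Agent.Lib.Helper23.DeltaLe

open Groth.Agent.Lib.Helper27.DeltaBC

variable (A B : Type u) [CommRing A] [CommRing B] [Algebra A B] [Module.Flat A B]

/-- `B ⊗ A' → B'`. -/
noncomputable def psi' : (B ⊗[A] (integralClosure A (FractionRing A))) →ₗ[B]
    integralClosure B (FractionRing B) :=
  ((psi A B).codRestrict (integralClosure B (FractionRing B)) (psi_isIntegral A B)).toLinearMap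

theorem psi'_injective : Function.Injective (psi' A B) := by
  intro x y hxy
  apply psi_injective A B
  exact congrArg Subtype.val hxy

theorem psi'_algebraMap (b : B) :
    psi' A B (algebraMap B _ b) = algebraMap B (integralClosure B (FractionRing B)) b := by
  apply Subtype.ext
  show psi A B (algebraMap B _ b) = _
  rw [AlgHom.commutes]
  rfl

theorem deltaInv_le_of_flat [IsLocalRing A] [IsLocalRing B] [IsLocalHom (algebraMap A B)] :
    Curv2.deltaInv A ≤ Curv2.deltaInv B := by
  unfold Curv2.deltaInv
  set RB := LinearMap.range (Algebra.linearMap B (integralClosure B (FractionRing B)))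
  set RT := LinearMap.range (Algebra.linearMap B (B ⊗[A] (integralClosure A (FractionRing A))))
  -- the induced map on quotients
  have hle : RT ≤ RB.comap (psi' A B) := by
    rintro _ ⟨b, rfl⟩
    rw [Submodule.mem_comap]
    exact ⟨b, (psi'_algebraMap A B b).symm⟩
  let φ : ((B ⊗[A] (integralClosure A (FractionRing A))) ⧸ RT) →ₗ[B]
      ((integralClosure B (FractionRing B)) ⧸ RB) := Submodule.mapQ RT RB (psi' A B) hle
  have hφ : Function.Injective φ := by
    rw [← LinearMap.ker_eq_bot, Submodule.ker_mapQ, eq_bot_iff]
    rintro _ ⟨t, ht, rfl⟩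
    rw [SetLike.mem_coe, Submodule.mem_comap] at ht
    obtain ⟨b, hb⟩ := ht
    rw [Submodule.mem_bot, Submodule.mkQ_apply, Submodule.Quotient.mk_eq_zero]
    refine ⟨b, ?_⟩
    apply psi'_injective A B
    rw [← hb]
    exact psi'_algebraMap A B b
  have h1 : Module.length B ((B ⊗[A] (integralClosure A (FractionRing A))) ⧸ RT) ≤
      Module.length B ((integralClosure B (FractionRing B)) ⧸ RB) :=
    Module.length_le_of_injective φ hφ
  refine le_trans ?_ h1
  have h2 : Module.length B ((B ⊗[A] (integralClosure A (FractionRing A))) ⧸ RT) =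
      Module.length B (B ⊗[A] ((integralClosure A (FractionRing A)) ⧸
        LinearMap.range (Algebra.linearMap A (integralClosure A (FractionRing A))))) := by
    show Module.length B (_ ⧸ LinearMap.range (Algebra.linearMap B
      (B ⊗[A] (integralClosure A (FractionRing A))))) = _
    rw [← ker_piQ A B]
    exact ((piQ A B).quotKerEquivOfSurjective (piQ_surjective A B)).length_eq
  rw [h2, IsLocalRing.length_baseChange]
  have h3 : 1 ≤ Module.length B (B ⧸ (maximalIdeal A).map (algebraMap A B)) := by
    rw [Order.one_le_iff_pos, Module.length_pos_iff]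
    exact Ideal.Quotient.nontrivial_iff.mpr (map_maximalIdeal_lt_top (algebraMap A B)).ne
  calc Module.length A _ = Module.length A _ * 1 := (mul_one _).symm
    _ ≤ _ := mul_le_mul_right h3 _

end Groth.Agent.Lib.Helper23.DeltaLe
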