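import Mathlib

/-!
# DeltaSepA: reducedness of tensor products with a field extension

* `isReduced_tensor_of_principal`: for a Noetherian local domain `D` over a field `k` with principal
  maximal ideal, if `κ(D) ⊗[k] K` is reduced then `D ⊗[k] K` is reduced.
* `isReduced_tensor_of_isLocalization`: localizations.
-/

open TensorProduct IsLocalRing
universe u
set_option autoImplicit false
set_option linter.style.haveILetI false

namespace Groth.Agent.Lib.Helper23.DeltaSepA

section Principal

variable (k K D : Type u) [Field k] [Field K] [Algebra k K] [CommRing D] [IsDomain D]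
  [Algebra k D]

/-- the reduction map `D ⊗ K → (D/I) ⊗ K` -/
noncomputable def redMap (I : Ideal D) : D ⊗[k] K →ₐ[k] (D ⧸ I) ⊗[k] K :=
  Algebra.TensorProduct.map (Ideal.Quotient.mkₐ k I) (AlgHom.id k K)

theorem redMap_smul (I : Ideal D) (d : D) (c : D ⊗[k] K) :
    redMap k K D I (d • c) = Ideal.Quotient.mk I d • redMap k K D I c := by
  induction c using TensorProduct.induction_on with
  | zero => simp
  | tmul x y =>
    rw [TensorProduct.smul_tmul']
    simp only [redMap, Algebra.TensorProduct.map_tmul, Ideal.Quotient.mkₐ_eq_mk, AlgHom.coe_id, id_eq,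
      smul_eq_mul, map_mul]
    rw [TensorProduct.smul_tmul', smul_eq_mul]
  | add x y hx hy => rw [smul_add, map_add, hx, hy, map_add, smul_add]

variable {ι : Type u} (b : Module.Basis ι k K)

theorem redMap_basis (I : Ideal D) (i : ι) :
    redMap k K D I (Algebra.TensorProduct.basis D b i) =
      Algebra.TensorProduct.basis (D ⧸ I) b i := by
  rw [Algebra.TensorProduct.basis_apply, Algebra.TensorProduct.basis_apply]
  simp [redMap]

/-- if `c` maps to zero in `(D/I) ⊗ K` then all its coordinates lie in `I`. -/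
theorem repr_mem_of_redMap_eq_zero (I : Ideal D) (c : D ⊗[k] K) (hc : redMap k K D I c = 0)
    (i : ι) : (Algebra.TensorProduct.basis D b).repr c i ∈ I := by
  classical
  set β := Algebra.TensorProduct.basis D b
  set β' := Algebra.TensorProduct.basis (D ⧸ I) b
  have h1 : c = ∑ j ∈ (β.repr c).support, (β.repr c j) • β j := by
    conv_lhs => rw [← β.linearCombination_repr c]
    rw [Finsupp.linearCombination_apply, Finsupp.sum]
  have h2 : ∑ j ∈ (β.repr c).support, Ideal.Quotient.mk I (β.repr c j) • β' j = 0 := by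
    rw [← hc]
    conv_rhs => rw [h1]
    rw [map_sum]
    refine Finset.sum_congr rfl fun j _ => ?_
    rw [redMap_smul, redMap_basis]
  have h3 := (linearIndependent_iff'.mp β'.linearIndependent) _ _ h2
  by_cases hi : i ∈ (β.repr c).support
  · exact Ideal.Quotient.eq_zero_iff_mem.mp (h3 i hi)
  · rw [Finsupp.notMem_support_iff.mp hi]
    exact I.zero_mem

include b in
theorem eq_zero_of_smul_eq_zero (t : D) (ht : t ≠ 0) (c : D ⊗[k] K) (h : t • c = 0) : c = 0 := by
  set β := Algebra.TensorProduct.basis D b
  apply β.repr.injective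
  rw [map_zero]
  ext i
  have h1 : β.repr (t • c) i = 0 := by rw [h, map_zero]; rfl
  rw [map_smul, Finsupp.smul_apply, smul_eq_mul] at h1
  exact (mul_eq_zero.mp h1).resolve_left ht

include b in
/-- a nilpotent element is divisible by the generator `t` of an ideal with reduced quotient
tensor. -/
theorem exists_smul_of_isNilpotent (t : D)
    (hκ : IsReduced ((D ⧸ Ideal.span {t}) ⊗[k] K)) (c : D ⊗[k] K) (hc : IsNilpotent c) :
    ∃ c' : D ⊗[k] K, c = t • c' := by
  classical
  set β := Algebra.TensorProduct.basis D b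
  have h0 : redMap k K D (Ideal.span {t}) c = 0 := (hc.map _).eq_zero
  have hmem := repr_mem_of_redMap_eq_zero k K D b (Ideal.span {t}) c h0
  choose y hy using fun i => Ideal.mem_span_singleton'.mp (hmem i)
  refine ⟨∑ j ∈ (β.repr c).support, (y j) • β j, ?_⟩
  have h1 : c = ∑ j ∈ (β.repr c).support, (β.repr c j) • β j := by
    conv_lhs => rw [← β.linearCombination_repr c]
    rw [Finsupp.linearCombination_apply, Finsupp.sum]
  conv_lhs => rw [h1]
  rw [Finset.smul_sum]
  refine Finset.sum_congr rfl fun j _ => ?_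
  rw [← mul_smul, mul_comm, hy j]

variable [IsLocalRing D] [IsNoetherianRing D]

include b in
theorem isReduced_tensor_of_span (t : D) (ht : maximalIdeal D = Ideal.span {t})
    (hκ : IsReduced ((D ⧸ Ideal.span {t}) ⊗[k] K)) : IsReduced (D ⊗[k] K) := by
  classical
  constructor
  intro c hc
  by_cases ht0 : t = 0
  · obtain ⟨c', hc'⟩ := exists_smul_of_isNilpotent k K D b t hκ c hc
    rw [hc', ht0, zero_smul]
  set β := Algebra.TensorProduct.basis D b
  have key : ∀ m : ℕ, ∃ cm : D ⊗[k] K, IsNilpotent cm ∧ c = t ^ m • cm := by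
    intro m
    induction m with
    | zero => exact ⟨c, hc, by rw [pow_zero, one_smul]⟩
    | succ m ih =>
      obtain ⟨cm, hcm, hcm'⟩ := ih
      obtain ⟨c', hc'⟩ := exists_smul_of_isNilpotent k K D b t hκ cm hcm
      refine ⟨c', ?_, ?_⟩
      · obtain ⟨n, hn⟩ := hcm
        refine ⟨n, ?_⟩
        apply eq_zero_of_smul_eq_zero k K D b (t ^ n) (pow_ne_zero n ht0)
        rw [← hn, hc', smul_pow]
      · rw [hcm', hc', ← mul_smul, pow_succ]
  apply β.repr.injective
  rw [map_zero]
  ext i
  have h1 : β.repr c i ∈ ⨅ m : ℕ, (maximalIdeal D) ^ m := by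
    rw [Ideal.mem_iInf]
    intro m
    obtain ⟨cm, -, hcm⟩ := key m
    rw [hcm, map_smul, Finsupp.smul_apply, smul_eq_mul, ht, Ideal.span_singleton_pow]
    exact Ideal.mul_mem_right _ _ (Ideal.mem_span_singleton_self _)
  rw [Ideal.iInf_pow_eq_bot_of_isLocalRing _ (IsLocalRing.maximalIdeal.isMaximal D).ne_top] at h1
  exact h1

theorem isReduced_tensor_of_principal (hprin : (maximalIdeal D).IsPrincipal)
    (hκ : IsReduced ((D ⧸ maximalIdeal D) ⊗[k] K)) : IsReduced (D ⊗[k] K) := by
  obtain ⟨t, ht⟩ := hprin
  have ht' : maximalIdeal D = Ideal.span {t} := ht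
  rw [ht'] at hκ
  exact isReduced_tensor_of_span k K D (Module.Basis.ofVectorSpace k K) t ht' hκ

end Principal

section Loc

variable (k K D F : Type u) [Field k] [Field K] [Algebra k K] [CommRing D] [CommRing F]
  [Algebra k D] [Algebra k F] [Algebra D F] [IsScalarTower k D F]

theorem isReduced_tensor_of_isLocalization (M : Submonoid D) [IsLocalization M F]
    (h : IsReduced (D ⊗[k] K)) : IsReduced (F ⊗[k] K) := by
  letI : Algebra (D ⊗[k] K) (F ⊗[k] K) :=
    (Algebra.TensorProduct.map (IsScalarTower.toAlgHom k D F) (AlgHom.id k K)).toRingHom.toAlgebra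
  haveI : IsScalarTower D (D ⊗[k] K) (F ⊗[k] K) := IsScalarTower.of_algebraMap_eq (fun d => by
    show algebraMap D (F ⊗[k] K) d =
      (Algebra.TensorProduct.map (IsScalarTower.toAlgHom k D F) (AlgHom.id k K)) (algebraMap D _ d)
    rw [Algebra.TensorProduct.algebraMap_apply, Algebra.TensorProduct.algebraMap_apply]
    simp)
  have hloc := IsLocalization.tensorProduct_tensorProduct k K M F (by
    ext x
    show (Algebra.TensorProduct.map (IsScalarTower.toAlgHom k D F) (AlgHom.id k K)) (1 ⊗ₜ x) = _
    simp)
  exact isReduced_localizationPreserves (Algebra.algebraMapSubmonoid (D ⊗[k] K) M) (F ⊗[k] K) h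

end Loc

end Groth.Agent.Lib.Helper23.DeltaSepA
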