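import Mathlib

/-!
# DeltaSepB: fibres of a localization of `R ⊗[k] K`
-/

open TensorProduct IsLocalRing
universe u
set_option autoImplicit false
set_option linter.style.haveILetI false

namespace Groth.Agent.Lib.Helper23.DeltaSepB

section RedF

variable (k K R : Type u) [Field k] [Field K] [Algebra k K] [CommRing R] [Algebra k R]
  (B : Type u) [CommRing B] [Algebra (R ⊗[k] K) B] (M : Submonoid (R ⊗[k] K)) [IsLocalization M B]
  [Algebra R B] [IsScalarTower R (R ⊗[k] K) B]
  (E : Type u) [CommRing E] [Algebra R E] [Algebra k E] [IsScalarTower k R E]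

include M in
attribute [local instance] Algebra.TensorProduct.rightAlgebra in
theorem isReduced_tensor_loc (hE : IsReduced (E ⊗[k] K)) : IsReduced (E ⊗[R] B) := by
  -- step 1
  have h1 : IsReduced ((R ⊗[k] K) ⊗[R] E) := by
    let e1 : (R ⊗[k] K) ⊗[R] E ≃ₐ[R] E ⊗[R] (R ⊗[k] K) := Algebra.TensorProduct.comm R _ _
    let e2 : E ⊗[R] (R ⊗[k] K) ≃ₐ[R] E ⊗[k] K := Algebra.TensorProduct.cancelBaseChange k R R E K
    exact isReduced_of_injective (e1.trans e2).toRingEquiv.toRingHom (e1.trans e2).injective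
  -- step 2
  have h2 : IsReduced (B ⊗[R ⊗[k] K] ((R ⊗[k] K) ⊗[R] E)) :=
    haveI : IsLocalization (Algebra.algebraMapSubmonoid ((R ⊗[k] K) ⊗[R] E) M)
        (B ⊗[R ⊗[k] K] ((R ⊗[k] K) ⊗[R] E)) := IsLocalization.tensorRight B M
    isReduced_localizationPreserves
      (Algebra.algebraMapSubmonoid ((R ⊗[k] K) ⊗[R] E) M)
      (B ⊗[R ⊗[k] K] ((R ⊗[k] K) ⊗[R] E)) h1
  -- step 3
  let e3 : B ⊗[R ⊗[k] K] ((R ⊗[k] K) ⊗[R] E) ≃ₐ[R ⊗[k] K] B ⊗[R] E :=
    Algebra.TensorProduct.cancelBaseChange R (R ⊗[k] K) (R ⊗[k] K) B E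
  let e4 : E ⊗[R] B ≃ₐ[R] B ⊗[R] E := Algebra.TensorProduct.comm R _ _
  exact isReduced_of_injective
    ((e3.symm.toRingEquiv.toRingHom).comp e4.toRingEquiv.toRingHom)
    (e3.symm.injective.comp e4.injective)

end RedF


section GD

variable (A B : Type u) [CommRing A] [IsDomain A] [IsLocalRing A] [CommRing B] [IsLocalRing B]
  [Algebra A B] [Module.Flat A B] [IsLocalHom (algebraMap A B)]

/-- a prime of `B` lying over the maximal ideal of `A` is the maximal ideal of `B`
(`B` flat local over the one-dimensional local domain `A`, `dim B ≤ 1`). -/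
theorem eq_maximalIdeal_of_under_eq (hA : maximalIdeal A ≠ ⊥) [Ring.KrullDimLE 1 B]
    (Q₁ : Ideal B) [Q₁.IsPrime] (h : Q₁.under A = maximalIdeal A) : Q₁ = maximalIdeal B := by
  by_contra hne
  have hlt : (⊥ : Ideal A) < Q₁.under A := by rw [h]; exact bot_lt_iff_ne_bot.mpr hA
  haveI : (⊥ : Ideal A).IsPrime := Ideal.isPrime_bot
  obtain ⟨P₀, hP₀le, hP₀prime, hP₀over⟩ :=
    Algebra.HasGoingDown.exists_ideal_le_liesOver_of_lt (p := (⊥ : Ideal A)) Q₁ hlt
  have hP₀ne : P₀ ≠ Q₁ := by
    intro heq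
    have h3 : P₀.under A = ⊥ := (hP₀over.over).symm
    rw [heq, h] at h3
    exact hA h3
  rcases (Ring.krullDimLE_one_iff.mp inferInstance) Q₁ inferInstance with hmin | hmax
  · exact hP₀ne (le_antisymm hP₀le (hmin.2 ⟨hP₀prime, bot_le⟩ hP₀le))
  · exact hne (IsLocalRing.eq_maximalIdeal hmax)

theorem map_maximalIdeal_eq (hA : maximalIdeal A ≠ ⊥) [Ring.KrullDimLE 1 B]
    (hred : IsReduced (B ⧸ (maximalIdeal A).map (algebraMap A B))) :
    (maximalIdeal A).map (algebraMap A B) = maximalIdeal B := by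
  set I := (maximalIdeal A).map (algebraMap A B) with hI
  have hIle : I ≤ maximalIdeal B := IsLocalRing.map_maximalIdeal_le (algebraMap A B)
  have hrad : I.IsRadical := (Ideal.isRadical_iff_quotient_reduced I).mpr hred
  rw [← hrad.radical, Ideal.radical_eq_sInf]
  apply le_antisymm
  · exact sInf_le ⟨hIle, inferInstance⟩
  · apply le_sInf
    rintro Q₁ ⟨hQ₁, hQ₁p⟩
    haveI := hQ₁p
    have h1 : maximalIdeal A ≤ Q₁.under A := by
      rw [Ideal.under_def, ← Ideal.map_le_iff_le_comap]
      exact hQ₁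
    have h2 : Q₁.under A = maximalIdeal A := by
      have hne : Q₁.under A ≠ ⊤ := (Ideal.IsPrime.under A Q₁).ne_top
      exact ((IsLocalRing.maximalIdeal.isMaximal A).eq_of_le hne h1).symm
    rw [eq_maximalIdeal_of_under_eq A B hA Q₁ h2]

end GD

section Fibre

variable (R R' A B : Type u) [CommRing R] [CommRing R'] [Algebra R R'] [Algebra.IsIntegral R R']
  [CommRing A] [IsDomain A] [IsLocalRing A] [Algebra R A]
  [CommRing B] [IsLocalRing B] [Algebra A B] [Algebra R B] [IsScalarTower R A B]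
  [Module.Flat A B] [IsLocalHom (algebraMap A B)]

/-- incomparability of primes of `B ⊗[R] R'` with the same contraction to `R'`. -/
theorem incomparable_tensor (hA : maximalIdeal A ≠ ⊥) [Ring.KrullDimLE 1 B]
    (hgen : Ideal.map (algebraMap R A) ((maximalIdeal A).comap (algebraMap R A)) = maximalIdeal A)
    (P1 P2 : Ideal (B ⊗[R] R')) [P1.IsPrime] [P2.IsPrime] (hle : P1 ≤ P2)
    (hu : P1.comap (Algebra.TensorProduct.includeRight : R' →ₐ[R] B ⊗[R] R').toRingHom =
      P2.comap (Algebra.TensorProduct.includeRight : R' →ₐ[R] B ⊗[R] R').toRingHom) :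
    P2 ≤ P1 := by
  by_contra hnle
  have hlt : P1 < P2 := lt_of_le_not_ge hle hnle
  have hQ := Ideal.IsIntegral.comap_lt_comap (R := B) hlt
  set Q1 := P1.comap (algebraMap B (B ⊗[R] R')) with hQ1
  set Q2 := P2.comap (algebraMap B (B ⊗[R] R')) with hQ2
  haveI : Q1.IsPrime := Ideal.comap_isPrime _ _
  haveI : Q2.IsPrime := Ideal.comap_isPrime _ _
  -- contractions to `R` agree
  have key : ∀ P : Ideal (B ⊗[R] R'),
      (P.comap (algebraMap B (B ⊗[R] R'))).comap (algebraMap R B) =
        (P.comap (Algebra.TensorProduct.includeRight : R' →ₐ[R] B ⊗[R] R').toRingHom).comap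
          (algebraMap R R') := by
    intro P
    ext r
    simp only [Ideal.mem_comap, AlgHom.toRingHom_eq_coe, RingHom.coe_coe,
      Algebra.TensorProduct.includeRight_apply, Algebra.TensorProduct.algebraMap_apply,
      Algebra.algebraMap_self, RingHom.id_apply]
    rw [Algebra.algebraMap_eq_smul_one (A := B) r, Algebra.algebraMap_eq_smul_one (A := R') r,
      TensorProduct.tmul_smul, TensorProduct.smul_tmul']
  have hR : Q1.comap (algebraMap R B) = Q2.comap (algebraMap R B) := by
    rw [hQ1, hQ2, key, key, hu]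
  -- `Q2` is the maximal ideal
  have hQ2max : Q2 = maximalIdeal B := by
    rcases (Ring.krullDimLE_one_iff.mp inferInstance) Q2 inferInstance with hmin | hmax
    · exact absurd (hmin.2 ⟨inferInstance, bot_le⟩ hQ.le) (not_le_of_gt hQ)
    · exact IsLocalRing.eq_maximalIdeal hmax
  have hQ2A : Q2.under A = maximalIdeal A := by
    rw [hQ2max]
    exact IsLocalRing.maximalIdeal_comap (algebraMap A B)
  have hQ1A : Q1.under A = maximalIdeal A := by
    have h1 : maximalIdeal A ≤ Q1.under A := by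
      rw [← hgen, Ideal.map_le_iff_le_comap]
      intro r hr
      rw [Ideal.mem_comap] at hr ⊢
      rw [Ideal.under_def, Ideal.mem_comap, ← IsScalarTower.algebraMap_apply]
      have h2 : r ∈ Q2.comap (algebraMap R B) := by
        rw [Ideal.mem_comap, IsScalarTower.algebraMap_apply R A B]
        have : algebraMap R A r ∈ Q2.under A := by rw [hQ2A]; exact hr
        exact this
      rw [← hR] at h2
      exact h2
    have hne : Q1.under A ≠ ⊤ := (Ideal.IsPrime.under A Q1).ne_top
    exact ((IsLocalRing.maximalIdeal.isMaximal A).eq_of_le hne h1).symm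
  have := eq_maximalIdeal_of_under_eq A B hA Q1 hQ1A
  rw [this, ← hQ2max] at hQ
  exact lt_irrefl _ hQ

theorem krullDimLE_zero_fiber (hA : maximalIdeal A ≠ ⊥) [Ring.KrullDimLE 1 B]
    (hgen : Ideal.map (algebraMap R A) ((maximalIdeal A).comap (algebraMap R A)) = maximalIdeal A)
    (p' : Ideal R') [p'.IsPrime] : Ring.KrullDimLE 0 (p'.Fiber (R' ⊗[R] B)) := by
  constructor
  rw [← Order.krullDim_eq_of_orderIso (PrimeSpectrum.primesOverOrderIsoFiber R'
    (R' ⊗[R] B) p'), Nat.cast_zero, Order.krullDim_nonpos_iff_forall_isMax]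
  rintro ⟨P1, hP1, hP1o⟩ ⟨P2, hP2, hP2o⟩ hle
  have hle' : P1 ≤ P2 := hle
  show P2 ≤ P1
  let e := Algebra.TensorProduct.comm R B R'
  haveI : (P1.comap e.toRingHom).IsPrime := Ideal.comap_isPrime _ _
  haveI : (P2.comap e.toRingHom).IsPrime := Ideal.comap_isPrime _ _
  have key : ∀ P : Ideal (R' ⊗[R] B),
      (P.comap e.toRingHom).comap (Algebra.TensorProduct.includeRight :
        R' →ₐ[R] B ⊗[R] R').toRingHom = P.under R' := by
    intro P
    ext a
    simp [e, Ideal.under]
  have h := incomparable_tensor R R' A B hA hgen (P1.comap e.toRingHom) (P2.comap e.toRingHom)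
    (Ideal.comap_mono hle') (by rw [key, key, ← hP1o.over, ← hP2o.over])
  intro x hx
  have hx' : e.symm x ∈ P2.comap e.toRingHom := by
    rw [Ideal.mem_comap]
    simpa using hx
  have := h hx'
  rw [Ideal.mem_comap] at this
  simpa using this

end Fibre

end Groth.Agent.Lib.Helper23.DeltaSepB
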