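import Mathlib
import Groth.Prelude.Def_EGA4b
import Groth.Agent.Lib.Helper23.DeltaSepA
import Groth.Agent.Lib.Helper23.DeltaSepB

/-!
# DeltaSepC: reducedness of the fibres of `R' → R' ⊗[R] B`
-/

open TensorProduct IsLocalRing
universe u
set_option autoImplicit false
set_option linter.style.haveILetI false
set_option linter.unusedSectionVars false

namespace Groth.Agent.Lib.Helper23.DeltaSepC

open Groth.Agent.Lib.Helper23.DeltaSepA Groth.Agent.Lib.Helper23.DeltaSepB

section Basic

variable (k K : Type u) [Field k] [Field K] [Algebra k K]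

theorem isReduced_tensor_of_injective {D₁ D₂ : Type u} [CommRing D₁] [CommRing D₂]
    [Algebra k D₁] [Algebra k D₂] (f : D₁ →ₐ[k] D₂) (hf : Function.Injective f)
    (h : IsReduced (D₂ ⊗[k] K)) : IsReduced (D₁ ⊗[k] K) :=
  isReduced_of_injective (Algebra.TensorProduct.map f (AlgHom.id k K))
    (Module.Flat.rTensor_preserves_injective_linearMap f.toLinearMap hf)

variable (R' : Type u) [CommRing R'] [Algebra k R']

theorem isReduced_residueField_tensor (p' : Ideal R') [p'.IsPrime]
    (h : IsReduced ((R' ⧸ p') ⊗[k] K)) : IsReduced (p'.ResidueField ⊗[k] K) :=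
  isReduced_tensor_of_isLocalization k K (R' ⧸ p') p'.ResidueField (nonZeroDivisors (R' ⧸ p')) h

end Basic

section Primes

variable (R : Type u) [CommRing R] [IsDomain R] (P : Ideal R) [P.IsPrime]
  (A : Type u) [CommRing A] [IsDomain A] [IsLocalRing A] [Algebra R A] [IsLocalization.AtPrime A P]

/-- primes of `R` below `P` when `R_P` has dimension at most one. -/
theorem eq_bot_or_eq_of_le [Ring.KrullDimLE 1 A] (P₁ : Ideal R) [hP₁ : P₁.IsPrime] (hle : P₁ ≤ P) :
    P₁ = ⊥ ∨ P₁ = P := by
  have hdisj : Disjoint (P.primeCompl : Set R) P₁ := by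
    rw [Set.disjoint_left]
    intro x hx hx'
    exact hx (hle hx')
  have hprime : (P₁.map (algebraMap R A)).IsPrime :=
    IsLocalization.isPrime_of_isPrime_disjoint P.primeCompl A P₁ hP₁ hdisj
  have hback : (P₁.map (algebraMap R A)).under R = P₁ :=
    IsLocalization.under_map_of_isPrime_disjoint P.primeCompl A hP₁ hdisj
  by_cases hb : P₁.map (algebraMap R A) = ⊥
  · left
    rw [← hback, hb]
    ext x
    simp only [Ideal.under_def, Ideal.mem_comap, Ideal.mem_bot]
    exact (map_eq_zero_iff _ (IsLocalization.injective A P.primeCompl_le_nonZeroDivisors))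
  · right
    have hmax : (P₁.map (algebraMap R A)).IsMaximal :=
      (Ring.krullDimLE_one_iff_of_noZeroDivisors.mp inferInstance) _ hb hprime
    have h1 : P₁.map (algebraMap R A) = maximalIdeal A := IsLocalRing.eq_maximalIdeal hmax
    rw [← hback, h1]
    exact IsLocalization.AtPrime.under_maximalIdeal A P

end Primes

section DVR

variable (R : Type u) [CommRing R] [IsDomain R] (P : Ideal R) [P.IsPrime]
  (R' : Type u) [CommRing R'] [IsDomain R'] [Algebra R R'] [Algebra.IsIntegral R R']
  [IsIntegrallyClosed R'] [IsNoetherianRing R']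

/-- the localization of `R'` at a prime over `P` has principal maximal ideal -/
theorem isPrincipal_maximalIdeal_localization
    (hP : ∀ P₁ : Ideal R, P₁.IsPrime → P₁ ≤ P → P₁ = ⊥ ∨ P₁ = P)
    (p₁ : Ideal R') [p₁.IsPrime] (hp₁ : p₁.under R = P) :
    (maximalIdeal (Localization.AtPrime p₁)).IsPrincipal := by
  set D := Localization.AtPrime p₁
  haveI : IsIntegrallyClosed D :=
    isIntegrallyClosed_of_isLocalization D p₁.primeCompl p₁.primeCompl_le_nonZeroDivisors
  have key : ∀ 𝔮 : Ideal D, 𝔮 ≠ ⊥ → 𝔮.IsPrime → 𝔮 = maximalIdeal D := by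
    intro 𝔮 hne hprime
    haveI := hprime
    set q := 𝔮.under R' with hq
    have hmapq : q.map (algebraMap R' D) = 𝔮 := IsLocalization.map_under p₁.primeCompl D 𝔮
    have hqle : q ≤ p₁ := by
      have h1 : 𝔮 ≤ maximalIdeal D := IsLocalRing.le_maximalIdeal hprime.ne_top
      have h2 := Ideal.comap_mono (f := algebraMap R' D) h1
      rw [← IsLocalization.AtPrime.under_maximalIdeal D p₁]
      exact h2
    have hqne : q ≠ ⊥ := by
      intro h
      apply hne
      rw [← hmapq, h, Ideal.map_bot]
    have hqR : q.under R ≤ P := by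
      rw [← hp₁]
      exact Ideal.comap_mono hqle
    rcases hP (q.under R) inferInstance hqR with h | h
    · exact absurd (Ideal.eq_bot_of_comap_eq_bot h) hqne
    · have hqeq : q = p₁ := by
        by_contra hne'
        have hlt : q < p₁ := lt_of_le_of_ne hqle hne'
        have := Ideal.IsIntegral.comap_lt_comap (R := R) hlt
        rw [← Ideal.under_def, ← Ideal.under_def, h, hp₁] at this
        exact lt_irrefl _ this
      rw [← hmapq, hqeq]
      exact IsLocalization.AtPrime.map_eq_maximalIdeal p₁ D
  have htfae := (tfae_of_isNoetherianRing_of_isLocalRing_of_isDomain D).out 3 4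
  exact htfae.mp ⟨inferInstance, fun 𝔮 h1 h2 => key 𝔮 h1 h2⟩

end DVR


section Main

variable (k K : Type u) [Field k] [Field K] [Algebra k K]
  (R : Type u) [CommRing R] [IsDomain R] [Algebra k R] [IsNoetherianRing R]
  (R' : Type u) [CommRing R'] [IsDomain R'] [Algebra R R'] [Algebra k R'] [IsScalarTower k R R']
  [Module.Finite R R'] [IsIntegrallyClosed R']
  (P : Ideal R) [P.IsPrime]
  (A : Type u) [CommRing A] [IsDomain A] [IsLocalRing A] [Algebra R A] [IsLocalization.AtPrime A P]
  (B : Type u) [CommRing B] [IsLocalRing B] [IsNoetherianRing B] [Algebra (R ⊗[k] K) B]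
  (M : Submonoid (R ⊗[k] K)) [IsLocalization M B]
  [Algebra A B] [Algebra R B] [IsScalarTower R A B] [IsScalarTower R (R ⊗[k] K) B]
  [Module.Flat A B] [IsLocalHom (algebraMap A B)]
  [Ring.KrullDimLE 1 A] [Ring.KrullDimLE 1 B]

include A in
theorem isReduced_tensor_base (hinj : Function.Injective (algebraMap R R'))
    (hsep : ∀ (p' : Ideal R') [p'.IsPrime], p'.under R = P → IsReduced ((R' ⧸ p') ⊗[k] K)) :
    IsReduced (R' ⊗[k] K) := by
  haveI : IsNoetherianRing R' := IsNoetherianRing.of_finite R R'
  obtain ⟨p₁, -, hp₁prime, hp₁⟩ := Ideal.exists_ideal_over_prime_of_isIntegral (S := R') P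
    (⊥ : Ideal R') (by
      rw [Ideal.comap_bot_of_injective _ hinj]
      exact bot_le)
  haveI := hp₁prime
  have hp₁' : p₁.under R = P := hp₁
  set D := Localization.AtPrime p₁
  have hprin := isPrincipal_maximalIdeal_localization R P R'
    (fun P₁ hP₁ hle => by haveI := hP₁; exact eq_bot_or_eq_of_le R P A P₁ hle) p₁ hp₁'
  have hκ : IsReduced (p₁.ResidueField ⊗[k] K) :=
    isReduced_residueField_tensor k K R' p₁ (hsep p₁ hp₁')
  have hD : IsReduced (D ⊗[k] K) := isReduced_tensor_of_principal k K D hprin hκ
  exact isReduced_tensor_of_injective k K (IsScalarTower.toAlgHom k R' D)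
    (IsLocalization.injective D p₁.primeCompl_le_nonZeroDivisors) hD

include A in
theorem isReduced_residueField_bot (hinj : Function.Injective (algebraMap R R'))
    (hsep : ∀ (p' : Ideal R') [p'.IsPrime], p'.under R = P → IsReduced ((R' ⧸ p') ⊗[k] K)) :
    IsReduced ((⊥ : Ideal R').ResidueField ⊗[k] K) :=
  isReduced_tensor_of_isLocalization k K R' (⊥ : Ideal R').ResidueField (nonZeroDivisors R')
    (isReduced_tensor_base k K R R' P A hinj hsep)

include A M in
/-- the fibres of `R' → R' ⊗[R] B` are reduced. -/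
theorem isReduced_residueField_tensor_B (hinj : Function.Injective (algebraMap R R'))
    (hsep : ∀ (p' : Ideal R') [p'.IsPrime], p'.under R = P → IsReduced ((R' ⧸ p') ⊗[k] K))
    (p' : Ideal R') [p'.IsPrime] : IsReduced (p'.ResidueField ⊗[R] B) := by
  haveI : IsScalarTower k R p'.ResidueField := by
    refine IsScalarTower.of_algebraMap_eq (fun c => ?_)
    rw [IsScalarTower.algebraMap_apply k R' p'.ResidueField,
      IsScalarTower.algebraMap_apply k R R', ← IsScalarTower.algebraMap_apply R R' p'.ResidueField]
  by_cases hle : p'.under R ≤ P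
  · rcases eq_bot_or_eq_of_le R P A (p'.under R) hle with h | h
    · have hbot : p' = ⊥ := Ideal.eq_bot_of_comap_eq_bot h
      subst hbot
      exact isReduced_tensor_loc k K R B M _ (isReduced_residueField_bot k K R R' P A hinj hsep)
    · exact isReduced_tensor_loc k K R B M _
        (isReduced_residueField_tensor k K R' p' (hsep p' h))
  · obtain ⟨s, hs, hsP⟩ := SetLike.not_le_iff_exists.mp hle
    have hu : IsUnit (algebraMap R B s) := by
      rw [IsScalarTower.algebraMap_apply R A B]
      exact (IsLocalization.map_units A (⟨s, hsP⟩ : P.primeCompl)).map _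
    have hz : algebraMap R p'.ResidueField s = 0 := by
      rw [IsScalarTower.algebraMap_apply R R' p'.ResidueField]
      exact Ideal.algebraMap_residueField_eq_zero.mpr hs
    obtain ⟨v, hv⟩ := hu.exists_right_inv
    haveI : Subsingleton (p'.ResidueField ⊗[R] B) := by
      apply subsingleton_of_zero_eq_one
      rw [Algebra.TensorProduct.one_def]
      have h1 : (1 : B) = s • v := by rw [Algebra.smul_def, hv]
      rw [h1, TensorProduct.tmul_smul, TensorProduct.smul_tmul', Algebra.smul_def, mul_one, hz,
        TensorProduct.zero_tmul]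
    infer_instance

end Main

end Groth.Agent.Lib.Helper23.DeltaSepC
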