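import Mathlib
import Groth.Prelude.Def_EGA4b
import Groth.Agent.Lib.Helper23.DeltaSepC
import Groth.Agent.Lib.Helper27.DeltaInv1
import Groth.Agent.Lib.Helper14.NormalHomComp

/-!
# DeltaSepD: normality of `R' ⊗[R] B` and `𝔪_A B = 𝔪_B`
-/

open TensorProduct IsLocalRing
universe u
set_option autoImplicit false
set_option linter.style.haveILetI false
set_option linter.unusedSectionVars false

namespace Groth.Agent.Lib.Helper23.DeltaSepD

open Groth.Agent.Lib.Helper23.DeltaSepA Groth.Agent.Lib.Helper23.DeltaSepB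
  Groth.Agent.Lib.Helper23.DeltaSepC

section Main

variable (k K : Type u) [Field k] [Field K] [Algebra k K]
  (R : Type u) [CommRing R] [IsDomain R] [Algebra k R] [IsNoetherianRing R]
  (R' : Type u) [CommRing R'] [IsDomain R'] [Algebra R R'] [Algebra k R'] [IsScalarTower k R R']
  [Module.Finite R R'] [IsIntegrallyClosed R']
  (P : Ideal R) [P.IsPrime]
  (A : Type u) [CommRing A] [IsDomain A] [IsLocalRing A] [Algebra R A] [IsLocalization.AtPrime A P]
  (B : Type u) [CommRing B] [IsLocalRing B] [IsNoetherianRing B] [Algebra (R ⊗[k] K) B]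
  (M : Submonoid (R ⊗[k] K)) [IsLocalization M B]
  [Algebra A B] [Algebra R B] [IsScalarTower R A B] [IsScalarTower R (R ⊗[k] K) B]
  [Module.Flat A B] [IsLocalHom (algebraMap A B)]
  [Ring.KrullDimLE 1 A] [Ring.KrullDimLE 1 B]

theorem isNormalRing_of_isIntegrallyClosed' (C : Type u) [CommRing C] [IsDomain C]
    [IsIntegrallyClosed C] : EGA4.IsNormalRing C := by
  intro p hp
  exact ⟨IsLocalization.isDomain_of_le_nonZeroDivisors (M := p.primeCompl) _
      p.primeCompl_le_nonZeroDivisors,
    isIntegrallyClosed_of_isLocalization (Localization.AtPrime p) p.primeCompl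
      p.primeCompl_le_nonZeroDivisors⟩

include A M in
theorem isNormalRing_tensor (hA : maximalIdeal A ≠ ⊥)
    (hinj : Function.Injective (algebraMap R R'))
    (hsep : ∀ (p' : Ideal R') [p'.IsPrime], p'.under R = P → IsReduced ((R' ⧸ p') ⊗[k] K)) :
    EGA4.IsNormalRing (R' ⊗[R] B) := by
  haveI : IsNoetherianRing R' := IsNoetherianRing.of_finite R R'
  haveI : IsNoetherianRing (B ⊗[R] R') := IsNoetherianRing.of_finite B _
  haveI : IsNoetherianRing (R' ⊗[R] B) :=
    isNoetherianRing_of_ringEquiv _ (Algebra.TensorProduct.comm R B R').toRingEquiv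
  haveI : Module.Flat R A := IsLocalization.flat A P.primeCompl
  haveI : Module.Flat R B := Module.Flat.trans R A B
  have hgen : Ideal.map (algebraMap R A) ((maximalIdeal A).comap (algebraMap R A)) =
      maximalIdeal A := IsLocalization.map_comap P.primeCompl A _
  refine Groth.Agent.Lib.Helper14.NormalHomComp.isNormalRing_of_flat_of_fibers R' (R' ⊗[R] B)
    (fun p' _ => ?_) (isNormalRing_of_isIntegrallyClosed' R')
  haveI : IsReduced (p'.ResidueField ⊗[R] B) :=
    isReduced_residueField_tensor_B k K R R' P A B M hinj hsep p'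
  haveI : IsReduced (p'.Fiber (R' ⊗[R] B)) :=
    isReduced_of_injective
      (Algebra.TensorProduct.cancelBaseChange R R' R' p'.ResidueField B).toRingEquiv.toRingHom
      (RingEquiv.injective _)
  haveI : Ring.KrullDimLE 0 (p'.Fiber (R' ⊗[R] B)) :=
    krullDimLE_zero_fiber R R' A B hA hgen p'
  exact Groth.Agent.Lib.Helper27.DeltaInv1.isNormalRing_of_isReduced_of_krullDimLE_zero _

include M in
theorem map_maximalIdeal_eq' (hA : maximalIdeal A ≠ ⊥)
    (hinj : Function.Injective (algebraMap R R'))
    (hsep : ∀ (p' : Ideal R') [p'.IsPrime], p'.under R = P → IsReduced ((R' ⧸ p') ⊗[k] K)) :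
    (maximalIdeal A).map (algebraMap A B) = maximalIdeal B := by
  apply map_maximalIdeal_eq A B hA
  -- `𝔪_A B = P B`
  have h1 : (maximalIdeal A).map (algebraMap A B) = P.map (algebraMap R B) := by
    rw [← IsLocalization.AtPrime.map_eq_maximalIdeal P A, Ideal.map_map,
      ← IsScalarTower.algebraMap_eq]
  rw [h1]
  -- a prime of `R'` over `P`
  obtain ⟨p₁, -, hp₁prime, hp₁⟩ := Ideal.exists_ideal_over_prime_of_isIntegral (S := R') P
    (⊥ : Ideal R') (by
      rw [Ideal.comap_bot_of_injective _ hinj]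
      exact bot_le)
  haveI := hp₁prime
  have hred1 : IsReduced ((R' ⧸ p₁) ⊗[k] K) := hsep p₁ hp₁
  -- `R/P ↪ R'/p₁`
  have hle : P ≤ Ideal.comap (algebraMap R R') p₁ := hp₁.ge
  let f : (R ⧸ P) →ₐ[k] (R' ⧸ p₁) :=
    { Ideal.quotientMap p₁ (algebraMap R R') hle with
      commutes' := fun c => by
        show Ideal.quotientMap p₁ (algebraMap R R') hle (algebraMap k (R ⧸ P) c) = _
        rw [IsScalarTower.algebraMap_apply k R (R ⧸ P), Ideal.Quotient.algebraMap_eq,
          Ideal.quotientMap_mk, ← IsScalarTower.algebraMap_apply k R R',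
          IsScalarTower.algebraMap_apply k R' (R' ⧸ p₁), Ideal.Quotient.algebraMap_eq] }
  have hf : Function.Injective f := by
    show Function.Injective (Ideal.quotientMap p₁ (algebraMap R R') hle)
    exact Ideal.quotientMap_injective' hp₁.le
  have hred2 : IsReduced ((R ⧸ P) ⊗[k] K) := isReduced_tensor_of_injective k K f hf hred1
  have hred3 : IsReduced ((R ⧸ P) ⊗[R] B) := isReduced_tensor_loc k K R B M (R ⧸ P) hred2
  let e := Algebra.TensorProduct.quotIdealMapEquivTensorQuot B P
  let e' := Algebra.TensorProduct.comm R B (R ⧸ P)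
  exact isReduced_of_injective ((e'.toRingEquiv.toRingHom).comp e.toRingEquiv.toRingHom)
    (e'.injective.comp e.injective)

end Main

end Groth.Agent.Lib.Helper23.DeltaSepD
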