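import Mathlib
import Groth.Prelude.Def_EGA4b
import Groth.Prelude.Def_Curv2
import Groth.Agent.Lib.Helper23.DeltaSepD
import Groth.Agent.Lib.Helper27.DeltaInv2
import Groth.Agent.Lib.Helper12.KAExt
import Groth.Agent.Lib.Helper14.NormalRing

/-!
# DeltaSepE: the δ-invariant under separable base change (algebraic core)
-/

open TensorProduct IsLocalRing
universe u
set_option autoImplicit false
set_option linter.style.haveILetI false
set_option linter.unusedSectionVars false

namespace Groth.Agent.Lib.Helper23.DeltaSepE

open Groth.Agent.Lib.Helper23.DeltaSepD Groth.Agent.Lib.Helper12.KAExt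

section Iso

variable (R : Type u) [CommRing R] [IsDomain R]
  (R' : Type u) [CommRing R'] [IsDomain R'] [Algebra R R'] [Algebra.IsIntegral R R']
  [IsIntegrallyClosed R']
  (P : Ideal R) [P.IsPrime]
  (A : Type u) [CommRing A] [IsDomain A] [Algebra R A] [IsLocalization.AtPrime A P]
  (B : Type u) [CommRing B] [Algebra A B] [Algebra R B] [IsScalarTower R A B]

include P in
/-- `B ⊗[R] R' ≃ B ⊗[A] A'` as rings, `A'` the integral closure of `A = R_P` in its fraction
field, `R'` a birational integrally closed integral extension of `R`. -/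
theorem nonempty_ringEquiv (hinj : Function.Injective (algebraMap R R')) (hbir : Bir R R') :
    Nonempty ((B ⊗[R] R') ≃+* (B ⊗[A] (integralClosure A (FractionRing A)))) := by
  classical
  let L := FractionRing R'
  haveI hfracR : IsFractionRing R L := isFractionRing_of_bir hinj hbir L
  have hunits : ∀ y : P.primeCompl, IsUnit (algebraMap R L y) := by
    intro y
    apply IsUnit.mk0
    rw [Ne, map_eq_zero_iff _ (IsFractionRing.injective R L)]
    rintro h
    exact y.2 (h ▸ P.zero_mem)
  letI algAL : Algebra A L := (IsLocalization.lift hunits).toAlgebra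
  haveI towerRAL : IsScalarTower R A L :=
    IsScalarTower.of_algebraMap_eq (fun r => (IsLocalization.lift_eq hunits r).symm)
  haveI hfracA : IsFractionRing A L :=
    IsFractionRing.isFractionRing_of_isDomain_of_isLocalization P.primeCompl A L
  have hintB : ∀ b : R', IsIntegral A (algebraMap R' L b) := fun b =>
    ((Algebra.IsIntegral.isIntegral (R := R) b).map (IsScalarTower.toAlgHom R R' L)).tower_top
  let f' : R' →ₗ[R] ↥(integralClosure A L) :=
    { toFun := fun b => ⟨algebraMap R' L b, hintB b⟩
      map_add' := fun b b' => Subtype.ext (map_add _ b b')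
      map_smul' := fun r b => Subtype.ext (by
        show algebraMap R' L (r • b) = r • algebraMap R' L b
        rw [Algebra.smul_def, map_mul, ← IsScalarTower.algebraMap_apply R R' L,
          Algebra.smul_def]) }
  have hf'mul : ∀ b b' : R', f' (b * b') = f' b * f' b' := fun b b' =>
    Subtype.ext (map_mul (algebraMap R' L) b b')
  have hf'one : f' 1 = 1 := Subtype.ext (map_one (algebraMap R' L))
  have hsmul : ∀ (r : R) (z : ↥(integralClosure A L)), r • z = algebraMap R A r • z :=
    fun r z => (algebraMap_smul A r z).symm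
  haveI hloc : IsLocalizedModule P.primeCompl f' := by
    refine ⟨?_, ?_, ?_⟩
    · intro s
      rw [Module.End.isUnit_iff]
      have hu : IsUnit (algebraMap R A s) := IsLocalization.map_units A s
      obtain ⟨t, ht⟩ := hu.exists_left_inv
      constructor
      · intro z z' hzz
        have h1 : (s : R) • z = (s : R) • z' := hzz
        rw [hsmul, hsmul] at h1
        have h2 := congrArg (fun w => t • w) h1
        simpa only [← mul_smul, ht, one_smul] using h2
      · intro z
        refine ⟨t • z, ?_⟩
        show (s : R) • (t • z) = z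
        rw [hsmul, ← mul_smul, mul_comm, ht, one_smul]
    · intro z
      obtain ⟨m, hm⟩ := IsIntegral.exists_multiple_integral_of_isLocalization P.primeCompl
        (Rₘ := A) (z : L) z.2
      have hmB : IsIntegral R' (m • (z : L)) := hm.tower_top
      obtain ⟨b, hb⟩ := IsIntegrallyClosed.isIntegral_iff.mp hmB
      refine ⟨(b, m), Subtype.ext ?_⟩
      show ((m • z : ↥(integralClosure A L)) : L) = algebraMap R' L b
      rw [hb]
      rfl
    · intro b b' hbb
      refine ⟨1, ?_⟩
      rw [one_smul, one_smul]
      apply IsFractionRing.injective R' L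
      exact congrArg Subtype.val hbb
  -- base change
  have hbc1 : IsBaseChange A f' := IsLocalizedModule.isBaseChange P.primeCompl A f'
  have hbc2 : IsBaseChange B (TensorProduct.mk A B ↥(integralClosure A L) 1) :=
    TensorProduct.isBaseChange A ↥(integralClosure A L) B
  have hbc := hbc1.comp hbc2
  let Ψ₀ : B ⊗[R] R' ≃ₗ[B] B ⊗[A] ↥(integralClosure A L) := hbc.equiv
  have hΨ₀ : ∀ (b : B) (r' : R'), Ψ₀ (b ⊗ₜ r') = b ⊗ₜ f' r' := by
    intro b r'
    show hbc.equiv (b ⊗ₜ r') = _
    rw [IsBaseChange.equiv_tmul]
    show b • ((1 : B) ⊗ₜ[A] f' r') = _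
    rw [TensorProduct.smul_tmul', smul_eq_mul, mul_one]
  have hmul : ∀ x y : B ⊗[R] R', Ψ₀ (x * y) = Ψ₀ x * Ψ₀ y := by
    intro x y
    induction x using TensorProduct.induction_on with
    | zero => simp
    | tmul b r =>
      induction y using TensorProduct.induction_on with
      | zero => simp
      | tmul b' r' =>
        rw [Algebra.TensorProduct.tmul_mul_tmul, hΨ₀, hΨ₀, hΨ₀, hf'mul,
          Algebra.TensorProduct.tmul_mul_tmul]
      | add y y' hy hy' => rw [mul_add, map_add, hy, hy', map_add, mul_add]
    | add x x' hx hx' => rw [add_mul, map_add, hx, hx', map_add, add_mul]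
  let Ψ : (B ⊗[R] R') ≃+* (B ⊗[A] ↥(integralClosure A L)) :=
    { Ψ₀.toEquiv with
      map_mul' := hmul
      map_add' := Ψ₀.map_add }
  -- transport to the fraction ring of `A`
  let e : FractionRing A ≃ₐ[A] L := FractionRing.algEquiv A L
  let e' : integralClosure A (FractionRing A) ≃ₐ[A] integralClosure A L :=
    AlgEquiv.mapIntegralClosure e
  let Φ : (B ⊗[A] ↥(integralClosure A L)) ≃ₐ[B] (B ⊗[A] ↥(integralClosure A (FractionRing A))) :=
    Algebra.TensorProduct.congr AlgEquiv.refl e'.symm
  exact ⟨Ψ.trans Φ.toRingEquiv⟩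

end Iso


section Final

variable (k K : Type u) [Field k] [Field K] [Algebra k K]
  (R : Type u) [CommRing R] [IsDomain R] [Algebra k R] [IsNoetherianRing R]
  (R' : Type u) [CommRing R'] [IsDomain R'] [Algebra R R'] [Algebra k R'] [IsScalarTower k R R']
  [Module.Finite R R'] [IsIntegrallyClosed R']
  (P : Ideal R) [P.IsPrime]
  (A : Type u) [CommRing A] [IsDomain A] [IsLocalRing A] [Algebra R A] [IsLocalization.AtPrime A P]
  (B : Type u) [CommRing B] [IsLocalRing B] [IsNoetherianRing B] [Algebra (R ⊗[k] K) B]
  (M : Submonoid (R ⊗[k] K)) [IsLocalization M B]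
  [Algebra A B] [Algebra R B] [IsScalarTower R A B] [IsScalarTower R (R ⊗[k] K) B]
  [Module.Flat A B] [IsLocalHom (algebraMap A B)]
  [Ring.KrullDimLE 1 A] [Ring.KrullDimLE 1 B]

include M in
/-- **The δ-invariant under base change with separable residue fields of the normalization.** -/
theorem deltaInv_eq_of_sep (hA : maximalIdeal A ≠ ⊥)
    (hinj : Function.Injective (algebraMap R R')) (hbir : Bir R R')
    (hsep : ∀ (p' : Ideal R') [p'.IsPrime], p'.under R = P → IsReduced ((R' ⧸ p') ⊗[k] K)) :
    Curv2.deltaInv B = Curv2.deltaInv A := by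
  have hT := isNormalRing_tensor k K R R' P A B M hA hinj hsep
  have hmax := map_maximalIdeal_eq' k K R R' P A B M hA hinj hsep
  obtain ⟨e⟩ := nonempty_ringEquiv R R' P A B hinj hbir
  have hC : EGA4.IsNormalRing (B ⊗[A] (integralClosure A (FractionRing A))) :=
    Groth.Agent.Lib.Helper14.isNormalRing_of_ringEquiv
      ((Algebra.TensorProduct.comm R R' B).toRingEquiv.trans e) hT
  haveI : Module.FaithfullyFlat A B := Module.FaithfullyFlat.of_flat_of_isLocalHom
  exact Groth.Agent.Lib.Helper27.DeltaBC.deltaInv_eq_of_isNormalRing_tensor A B hmax hC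

end Final

end Groth.Agent.Lib.Helper23.DeltaSepE
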