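import Groth.Agent.Lib.Helper23.DeltaSepE
import Groth.Agent.Lib.Helper12.BaseChange
import Groth.Agent.Lib.Helper12.NormGen
import Groth.Agent.Lib.Helper12.NormAff

/-!
# DeltaSepF: geometric bridging for the δ-invariant under separable base change
-/
set_option autoImplicit false
set_option linter.style.haveILetI false
set_option linter.unusedSectionVars false
universe u
open CategoryTheory CategoryTheory.Limits Opposite TopologicalSpace AlgebraicGeometry TensorProduct
open Groth.Agent.Lib.Helper12 Groth.Agent.Lib.Helper12.SchemeDimFT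
open Groth.Agent.Lib.Helper12.KAExt

noncomputable section

namespace Groth.Agent.Lib.Helper23.DeltaSepF

section Eval

variable (k : Type u) [Field k] (Y : Scheme.{u}) [Y.Over (Spec (CommRingCat.of k))]

/-- evaluation of a `k`-constant is the residue-field structure map. -/
theorem evaluation_secMap (W : Y.Opens) (z : Y) (hz : z ∈ W) (c : k) :
    (Y.evaluation W z hz).hom (secMap k Y W c) = Curv2.resMap k Y z c := by
  unfold secMap Curv2.resMap Curv2.stalkMap Scheme.evaluation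
  simp only [RingHom.coe_comp, Function.comp_apply, CommRingCat.hom_comp]
  congr 1
  exact TopCat.Presheaf.germ_res_apply Y.presheaf (homOfLE (le_top : W ≤ ⊤)) z hz _

/-- the kernel of evaluation at a point of an affine open is its prime ideal. -/
theorem evaluation_eq_zero_iff {W : Y.Opens} (hW : IsAffineOpen W) (z : Y) (hz : z ∈ W)
    (r : Γ(Y, W)) :
    (Y.evaluation W z hz).hom r = 0 ↔ r ∈ (hW.primeIdealOf ⟨z, hz⟩).asIdeal := by
  letI := TopCat.Presheaf.algebra_section_stalk Y.presheaf ⟨z, hz⟩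
  haveI : IsLocalization.AtPrime (Y.presheaf.stalk z) (hW.primeIdealOf ⟨z, hz⟩).asIdeal :=
    hW.isLocalization_stalk ⟨z, hz⟩
  rw [← IsLocalization.AtPrime.to_map_mem_maximal_iff (Y.presheaf.stalk z)
    (hW.primeIdealOf ⟨z, hz⟩).asIdeal r]
  unfold Scheme.evaluation
  rw [CommRingCat.hom_comp, RingHom.comp_apply]
  exact IsLocalRing.residue_eq_zero_iff _

variable (K : Type u) [Field K] [Algebra k K]

/-- tensor reducedness from geometric reducedness of the residue field. -/
theorem isReduced_residueField_tensor (z : Y)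
    (hG : GeometricallyReduced (Spec.map (CommRingCat.ofHom (Curv2.resMap k Y z)))) :
    letI := Curv2.resAlgebra k Y z
    _root_.IsReduced ((Y.residueField z) ⊗[k] K) := by
  letI := Curv2.resAlgebra k Y z
  have h1 : AlgebraicGeometry.IsReduced
      (pullback (Spec.map (CommRingCat.ofHom (algebraMap k (Y.residueField z))))
        (Spec.map (CommRingCat.ofHom (algebraMap k K)))) :=
    hG.geometrically_isReduced (Spec.map (CommRingCat.ofHom (algebraMap k K)))
      (pullback.fst _ _) (pullback.snd _ _) (IsPullback.of_hasPullback _ _)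
  have h2 : AlgebraicGeometry.IsReduced (Spec (CommRingCat.of ((Y.residueField z) ⊗[k] K))) :=
    isReduced_of_isOpenImmersion (pullbackSpecIso k (Y.residueField z) K).inv
  exact (affine_isReduced_iff _).mp h2

theorem isReduced_quotient_tensor {W : Y.Opens} (hW : IsAffineOpen W) (z : Y) (hz : z ∈ W)
    (hG : GeometricallyReduced (Spec.map (CommRingCat.ofHom (Curv2.resMap k Y z)))) :
    letI := secAlgebra k Y W
    _root_.IsReduced ((Γ(Y, W) ⧸ (hW.primeIdealOf ⟨z, hz⟩).asIdeal) ⊗[k] K) := by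
  letI := secAlgebra k Y W
  letI := Curv2.resAlgebra k Y z
  have h1 := isReduced_residueField_tensor k Y K z hG
  let evAlg : Γ(Y, W) →ₐ[k] Y.residueField z :=
    { (Y.evaluation W z hz).hom with
      commutes' := fun c => evaluation_secMap k Y W z hz c }
  have hker : ∀ a ∈ (hW.primeIdealOf ⟨z, hz⟩).asIdeal, evAlg a = 0 := fun a ha =>
    (evaluation_eq_zero_iff Y hW z hz a).mpr ha
  let φ : (Γ(Y, W) ⧸ (hW.primeIdealOf ⟨z, hz⟩).asIdeal) →ₐ[k] Y.residueField z :=
    Ideal.Quotient.liftₐ _ evAlg hker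
  have hφ : Function.Injective φ := by
    rw [injective_iff_map_eq_zero]
    intro a ha
    obtain ⟨r, rfl⟩ := Ideal.Quotient.mk_surjective a
    rw [Ideal.Quotient.eq_zero_iff_mem]
    exact (evaluation_eq_zero_iff Y hW z hz r).mp ha
  exact Groth.Agent.Lib.Helper23.DeltaSepC.isReduced_tensor_of_injective k K φ hφ h1

end Eval


section Main

variable (k : Type u) [Field k] (X : Scheme.{u}) [X.Over (Spec (CommRingCat.of k))]
  [IsIntegral X] [LocallyOfFiniteType (X ↘ (Spec (CommRingCat.of k)))]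
  [QuasiCompact (X.fromSpecStalk (genericPoint X))] [QuasiSeparated (X.fromSpecStalk (genericPoint X))]
  (K : Type u) [Field K] [Algebra k K]

/-- the normalization -/
abbrev Xν : Scheme.{u} := (X.fromSpecStalk (genericPoint X)).normalization

/-- the normalization morphism -/
abbrev ν : Xν X ⟶ X :=
  (X.fromSpecStalk (genericPoint X)).fromNormalization

theorem deltaInv_bc_eq (y : ↥(Curv2.bc k X K))
    (hdx : ringKrullDim (X.presheaf.stalk ((Curv2.bcFst k X K).base y)) = 1)
    (hsep : letI : (Xν X).Over (Spec (CommRingCat.of k)) := ⟨ν X ≫ (X ↘ (Spec (CommRingCat.of k)))⟩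
      ∀ x' : ↥(Xν X), (ν X).base x' = (Curv2.bcFst k X K).base y →
        GeometricallyReduced (Spec.map (CommRingCat.ofHom (Curv2.resMap k (Xν X) x'))))
    (hdy : ringKrullDim ((Curv2.bc k X K).presheaf.stalk y) = 1) :
    Curv2.deltaInv (X.presheaf.stalk ((Curv2.bcFst k X K).base y)) =
      Curv2.deltaInv ((Curv2.bc k X K).presheaf.stalk y) := by
  classical
  letI ovν : (Xν X).Over (Spec (CommRingCat.of k)) := ⟨ν X ≫ (X ↘ (Spec (CommRingCat.of k)))⟩
  obtain ⟨U, hU, hxU⟩ := NormAff.exists_affine_mem X ((Curv2.bcFst k X K).base y)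
  have hne : (U : Set X).Nonempty := ⟨_, hxU⟩
  haveI : Nonempty U := ⟨⟨_, hxU⟩⟩
  -- the ring `R`
  letI algkR : Algebra k Γ(X, U) := secAlgebra k X U
  haveI : IsNoetherianRing Γ(X, U) :=
    NormGen.isNoetherianRing_sections k (X ↘ (Spec (CommRingCat.of k))) hU
  -- the normalization
  have hfin : IsFinite (ν X) := NormGen.isFinite_of_N2' X (fun W hW hWne =>
    NormGen.N2'_sections k (X ↘ (Spec (CommRingCat.of k))) hW hWne)
  have hV' : IsAffineOpen ((ν X) ⁻¹ᵁ U) := hU.preimage (ν X)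
  letI algRR' : Algebra Γ(X, U) Γ(Xν X, (ν X) ⁻¹ᵁ U) :=
    ((ν X).app U).hom.toAlgebra
  obtain ⟨hdom, hinj, hbir, hic⟩ := NormAff.sections_props X hU hne
  haveI := hdom
  haveI := hic
  letI algkR' : Algebra k Γ(Xν X, (ν X) ⁻¹ᵁ U) :=
    secAlgebra k _ ((ν X) ⁻¹ᵁ U)
  haveI tower : IsScalarTower k Γ(X, U)
      Γ(Xν X, (ν X) ⁻¹ᵁ U) := by
    refine IsScalarTower.of_algebraMap_eq (fun c => ?_)
    show secMap k (Xν X) ((ν X) ⁻¹ᵁ U) c = ((ν X).app U).hom (secMap k X U c)
    rw [BaseChange.secMap_eq, BaseChange.secMap_eq]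
    simp only [RingHom.comp_apply]
    have h1 : ((Xν X) ↘ (Spec (CommRingCat.of k))) = ν X ≫ (X ↘ (Spec (CommRingCat.of k))) := rfl
    have h2 := Scheme.Hom.appLE_comp_appLE (ν X) (X ↘ (Spec (CommRingCat.of k))) ⊤ U
      ((ν X) ⁻¹ᵁ U) (by simp) le_rfl
    rw [Scheme.Hom.appLE_eq_app] at h2
    have h3 := congrArg (fun φ => φ.hom ((Scheme.ΓSpecIso (CommRingCat.of k)).inv.hom c)) h2
    simp only [CommRingCat.hom_comp, RingHom.comp_apply] at h3
    exact h3.symm
  haveI : Module.Finite Γ(X, U)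
      Γ(Xν X, (ν X) ⁻¹ᵁ U) :=
    hfin.finite_app U hU
  -- the prime `P` and the local ring `A`
  letI algRA : Algebra Γ(X, U) (X.presheaf.stalk ((Curv2.bcFst k X K).base y)) :=
    TopCat.Presheaf.algebra_section_stalk X.presheaf ⟨(Curv2.bcFst k X K).base y, hxU⟩
  haveI locA : IsLocalization.AtPrime (X.presheaf.stalk ((Curv2.bcFst k X K).base y))
      (hU.primeIdealOf ⟨(Curv2.bcFst k X K).base y, hxU⟩).asIdeal :=
    hU.isLocalization_stalk ⟨(Curv2.bcFst k X K).base y, hxU⟩
  -- the local ring `B`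
  have hyV : y ∈ (Curv2.bcFst k X K) ⁻¹ᵁ U := hxU
  have hV : IsAffineOpen ((Curv2.bcFst k X K) ⁻¹ᵁ U) := BaseChange.isAffineOpen_preimage k X K U hU
  letI algΓB : Algebra Γ(Curv2.bc k X K, (Curv2.bcFst k X K) ⁻¹ᵁ U)
      ((Curv2.bc k X K).presheaf.stalk y) :=
    TopCat.Presheaf.algebra_section_stalk (Curv2.bc k X K).presheaf ⟨y, hyV⟩
  haveI locB : IsLocalization.AtPrime ((Curv2.bc k X K).presheaf.stalk y)
      (hV.primeIdealOf ⟨y, hyV⟩).asIdeal := hV.isLocalization_stalk ⟨y, hyV⟩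
  let te := BaseChange.tensorEquiv k X K U hU
  letI algSB : Algebra (Γ(X, U) ⊗[k] K) ((Curv2.bc k X K).presheaf.stalk y) :=
    ((algebraMap Γ(Curv2.bc k X K, (Curv2.bcFst k X K) ⁻¹ᵁ U)
      ((Curv2.bc k X K).presheaf.stalk y)).comp te.toRingHom).toAlgebra
  let M : Submonoid (Γ(X, U) ⊗[k] K) :=
    (hV.primeIdealOf ⟨y, hyV⟩).asIdeal.primeCompl.comap (te : (Γ(X, U) ⊗[k] K) →* _)
  haveI locB' : IsLocalization M ((Curv2.bc k X K).presheaf.stalk y) :=
    IsLocalization.of_ringEquiv_left te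
      (Submonoid.map_comap_eq_of_surjective te.surjective _) (fun _ => rfl)
  -- the map `A → B`
  letI algAB : Algebra (X.presheaf.stalk ((Curv2.bcFst k X K).base y))
      ((Curv2.bc k X K).presheaf.stalk y) := ((Curv2.bcFst k X K).stalkMap y).hom.toAlgebra
  letI algRB : Algebra Γ(X, U) ((Curv2.bc k X K).presheaf.stalk y) :=
    ((algebraMap (X.presheaf.stalk ((Curv2.bcFst k X K).base y))
      ((Curv2.bc k X K).presheaf.stalk y)).comp
        (algebraMap Γ(X, U) (X.presheaf.stalk ((Curv2.bcFst k X K).base y)))).toAlgebra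
  haveI tw1 : IsScalarTower Γ(X, U) (X.presheaf.stalk ((Curv2.bcFst k X K).base y))
      ((Curv2.bc k X K).presheaf.stalk y) := IsScalarTower.of_algebraMap_eq (fun _ => rfl)
  haveI tw2 : IsScalarTower Γ(X, U) (Γ(X, U) ⊗[k] K) ((Curv2.bc k X K).presheaf.stalk y) := by
    refine IsScalarTower.of_algebraMap_eq (fun r => ?_)
    show ((Curv2.bcFst k X K).stalkMap y).hom
        (X.presheaf.germ U ((Curv2.bcFst k X K).base y) hxU r) =
      (Curv2.bc k X K).presheaf.germ ((Curv2.bcFst k X K) ⁻¹ᵁ U) y hyV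
        (te (r ⊗ₜ[k] (1 : K)))
    rw [BaseChange.tensorEquiv_tmul_one]
    exact Scheme.Hom.germ_stalkMap_apply (Curv2.bcFst k X K) U y hxU r
  -- flatness and locality
  haveI hflatK : Flat (Spec.map (CommRingCat.ofHom (algebraMap k K))) := by
    rw [HasRingHomProperty.Spec_iff (P := @Flat)]
    show (algebraMap k K).Flat
    rw [RingHom.flat_algebraMap_iff]
    infer_instance
  haveI : Flat (Curv2.bcFst k X K) := by
    unfold Curv2.bcFst
    infer_instance
  haveI hflat : Module.Flat (X.presheaf.stalk ((Curv2.bcFst k X K).base y))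
      ((Curv2.bc k X K).presheaf.stalk y) := Flat.stalkMap (Curv2.bcFst k X K) y
  haveI hloc : IsLocalHom (algebraMap (X.presheaf.stalk ((Curv2.bcFst k X K).base y))
      ((Curv2.bc k X K).presheaf.stalk y)) := by
    show IsLocalHom ((Curv2.bcFst k X K).stalkMap y).hom
    infer_instance
  -- noetherianity and dimensions
  letI ovK : (Curv2.bc k X K).Over (Spec (CommRingCat.of K)) := BaseChange.bcOver k X K
  haveI : IsLocallyNoetherian (Curv2.bc k X K) :=
    LocallyOfFiniteType.isLocallyNoetherian ((Curv2.bc k X K) ↘ Spec (CommRingCat.of K))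
  haveI : IsNoetherianRing ((Curv2.bc k X K).presheaf.stalk y) := inferInstance
  haveI : Ring.KrullDimLE 1 (X.presheaf.stalk ((Curv2.bcFst k X K).base y)) :=
    Ring.krullDimLE_iff.mpr hdx.le
  haveI : Ring.KrullDimLE 1 ((Curv2.bc k X K).presheaf.stalk y) :=
    Ring.krullDimLE_iff.mpr hdy.le
  have hA : IsLocalRing.maximalIdeal (X.presheaf.stalk ((Curv2.bcFst k X K).base y)) ≠ ⊥ := by
    intro h
    have hf : IsField (X.presheaf.stalk ((Curv2.bcFst k X K).base y)) :=
      IsLocalRing.isField_iff_maximalIdeal_eq.mpr h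
    rw [ringKrullDim_eq_zero_of_isField hf] at hdx
    exact zero_ne_one hdx
  -- separability
  have hsep' : ∀ (p' : Ideal Γ(Xν X, (ν X) ⁻¹ᵁ U)) [p'.IsPrime],
      p'.under Γ(X, U) = (hU.primeIdealOf ⟨(Curv2.bcFst k X K).base y, hxU⟩).asIdeal →
      _root_.IsReduced ((Γ(Xν X, (ν X) ⁻¹ᵁ U) ⧸ p') ⊗[k] K) := by
    intro p' hp' hunder
    have hx'mem : hV'.fromSpec ⟨p', hp'⟩ ∈ (ν X) ⁻¹ᵁ U := by
      have := Set.mem_range_self (f := hV'.fromSpec) ⟨p', hp'⟩
      rw [hV'.range_fromSpec] at this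
      exact this
    have hprime : hV'.primeIdealOf ⟨hV'.fromSpec ⟨p', hp'⟩, hx'mem⟩ = ⟨p', hp'⟩ := by
      apply hV'.fromSpec.isOpenEmbedding.injective
      exact hV'.fromSpec_primeIdealOf ⟨hV'.fromSpec ⟨p', hp'⟩, hx'mem⟩
    have hνx' : (ν X).base (hV'.fromSpec ⟨p', hp'⟩) = (Curv2.bcFst k X K).base y := by
      have h1 := IsAffineOpen.comap_primeIdealOf_appLE (f := ν X)
        (x := hV'.fromSpec ⟨p', hp'⟩) U hU ((ν X) ⁻¹ᵁ U) hV' le_rfl hx'mem
      rw [Scheme.Hom.appLE_eq_app, hprime] at h1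
      have h2 : hU.primeIdealOf ⟨(ν X) (hV'.fromSpec ⟨p', hp'⟩), hx'mem⟩ =
          hU.primeIdealOf ⟨(Curv2.bcFst k X K).base y, hxU⟩ := by
        rw [← h1]
        apply PrimeSpectrum.ext
        exact hunder
      have h3 := congrArg hU.fromSpec h2
      rw [hU.fromSpec_primeIdealOf, hU.fromSpec_primeIdealOf] at h3
      exact h3
    have hG := hsep (hV'.fromSpec ⟨p', hp'⟩) hνx'
    have h4 := isReduced_quotient_tensor k (Xν X) K hV' (hV'.fromSpec ⟨p', hp'⟩) hx'mem hG
    rw [hprime] at h4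
    exact h4
  exact (Groth.Agent.Lib.Helper23.DeltaSepE.deltaInv_eq_of_sep k K Γ(X, U)
    Γ(Xν X, (ν X) ⁻¹ᵁ U) (hU.primeIdealOf ⟨(Curv2.bcFst k X K).base y, hxU⟩).asIdeal
    (X.presheaf.stalk ((Curv2.bcFst k X K).base y)) ((Curv2.bc k X K).presheaf.stalk y) M
    hA hinj hbir hsep').symm

end Main

end Groth.Agent.Lib.Helper23.DeltaSepF
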