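import Groth.Agent.Lib.Helper23.DeltaSepF

/-!
# DeltaSepG: geometric reducedness at a codimension-one point whose normalization has separable
residue fields
-/
set_option autoImplicit false
set_option linter.style.haveILetI false
set_option linter.unusedSectionVars false
universe u
open CategoryTheory CategoryTheory.Limits Opposite TopologicalSpace AlgebraicGeometry TensorProduct
open Groth.Agent.Lib.Helper12 Groth.Agent.Lib.Helper12.SchemeDimFT
open Groth.Agent.Lib.Helper12.KAExt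
open Groth.Agent.Lib.Helper23.DeltaSepF

noncomputable section

namespace Groth.Agent.Lib.Helper23.DeltaSepG

section Main

variable (k : Type u) [Field k] (X : Scheme.{u}) [X.Over (Spec (CommRingCat.of k))]
  [IsIntegral X] [LocallyOfFiniteType (X ↘ (Spec (CommRingCat.of k)))]
  [QuasiCompact (X.fromSpecStalk (genericPoint X))] [QuasiSeparated (X.fromSpecStalk (genericPoint X))]
  (K : Type u) [Field K] [Algebra k K]

theorem isReduced_stalk_bc (y : ↥(Curv2.bc k X K))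
    (hdx : ringKrullDim (X.presheaf.stalk ((Curv2.bcFst k X K).base y)) = 1)
    (hsep : letI : (Xν X).Over (Spec (CommRingCat.of k)) := ⟨ν X ≫ (X ↘ (Spec (CommRingCat.of k)))⟩
      ∀ x' : ↥(Xν X), (ν X).base x' = (Curv2.bcFst k X K).base y →
        GeometricallyReduced (Spec.map (CommRingCat.ofHom (Curv2.resMap k (Xν X) x')))) :
    _root_.IsReduced ((Curv2.bc k X K).presheaf.stalk y) := by
  classical
  letI ovν : (Xν X).Over (Spec (CommRingCat.of k)) := ⟨ν X ≫ (X ↘ (Spec (CommRingCat.of k)))⟩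
  obtain ⟨U, hU, hxU⟩ := NormAff.exists_affine_mem X ((Curv2.bcFst k X K).base y)
  have hne : (U : Set X).Nonempty := ⟨_, hxU⟩
  haveI : Nonempty U := ⟨⟨_, hxU⟩⟩
  -- the ring `R`
  letI algkR : Algebra k Γ(X, U) := secAlgebra k X U
  haveI : IsNoetherianRing Γ(X, U) :=
    NormGen.isNoetherianRing_sections k (X ↘ (Spec (CommRingCat.of k))) hU
  -- the normalization
  have hfin : IsFinite (ν X) := NormGen.isFinite_of_N2' X (fun W hW hWne =>
    NormGen.N2'_sections k (X ↘ (Spec (CommRingCat.of k))) hW hWne)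
  have hV' : IsAffineOpen ((ν X) ⁻¹ᵁ U) := hU.preimage (ν X)
  letI algRR' : Algebra Γ(X, U) Γ(Xν X, (ν X) ⁻¹ᵁ U) :=
    ((ν X).app U).hom.toAlgebra
  obtain ⟨hdom, hinj, hbir, hic⟩ := NormAff.sections_props X hU hne
  haveI := hdom
  haveI := hic
  letI algkR' : Algebra k Γ(Xν X, (ν X) ⁻¹ᵁ U) :=
    secAlgebra k _ ((ν X) ⁻¹ᵁ U)
  haveI tower : IsScalarTower k Γ(X, U)
      Γ(Xν X, (ν X) ⁻¹ᵁ U) := by
    refine IsScalarTower.of_algebraMap_eq (fun c => ?_)
    show secMap k (Xν X) ((ν X) ⁻¹ᵁ U) c = ((ν X).app U).hom (secMap k X U c)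
    rw [BaseChange.secMap_eq, BaseChange.secMap_eq]
    simp only [RingHom.comp_apply]
    have h1 : ((Xν X) ↘ (Spec (CommRingCat.of k))) = ν X ≫ (X ↘ (Spec (CommRingCat.of k))) := rfl
    have h2 := Scheme.Hom.appLE_comp_appLE (ν X) (X ↘ (Spec (CommRingCat.of k))) ⊤ U
      ((ν X) ⁻¹ᵁ U) (by simp) le_rfl
    rw [Scheme.Hom.appLE_eq_app] at h2
    have h3 := congrArg (fun φ => φ.hom ((Scheme.ΓSpecIso (CommRingCat.of k)).inv.hom c)) h2
    simp only [CommRingCat.hom_comp, RingHom.comp_apply] at h3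
    exact h3.symm
  haveI : Module.Finite Γ(X, U)
      Γ(Xν X, (ν X) ⁻¹ᵁ U) :=
    hfin.finite_app U hU
  -- the prime `P` and the local ring `A`
  letI algRA : Algebra Γ(X, U) (X.presheaf.stalk ((Curv2.bcFst k X K).base y)) :=
    TopCat.Presheaf.algebra_section_stalk X.presheaf ⟨(Curv2.bcFst k X K).base y, hxU⟩
  haveI locA : IsLocalization.AtPrime (X.presheaf.stalk ((Curv2.bcFst k X K).base y))
      (hU.primeIdealOf ⟨(Curv2.bcFst k X K).base y, hxU⟩).asIdeal :=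
    hU.isLocalization_stalk ⟨(Curv2.bcFst k X K).base y, hxU⟩
  -- the local ring `B`
  have hyV : y ∈ (Curv2.bcFst k X K) ⁻¹ᵁ U := hxU
  have hV : IsAffineOpen ((Curv2.bcFst k X K) ⁻¹ᵁ U) := BaseChange.isAffineOpen_preimage k X K U hU
  letI algΓB : Algebra Γ(Curv2.bc k X K, (Curv2.bcFst k X K) ⁻¹ᵁ U)
      ((Curv2.bc k X K).presheaf.stalk y) :=
    TopCat.Presheaf.algebra_section_stalk (Curv2.bc k X K).presheaf ⟨y, hyV⟩
  haveI locB : IsLocalization.AtPrime ((Curv2.bc k X K).presheaf.stalk y)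
      (hV.primeIdealOf ⟨y, hyV⟩).asIdeal := hV.isLocalization_stalk ⟨y, hyV⟩
  let te := BaseChange.tensorEquiv k X K U hU
  letI algSB : Algebra (Γ(X, U) ⊗[k] K) ((Curv2.bc k X K).presheaf.stalk y) :=
    ((algebraMap Γ(Curv2.bc k X K, (Curv2.bcFst k X K) ⁻¹ᵁ U)
      ((Curv2.bc k X K).presheaf.stalk y)).comp te.toRingHom).toAlgebra
  let M : Submonoid (Γ(X, U) ⊗[k] K) :=
    (hV.primeIdealOf ⟨y, hyV⟩).asIdeal.primeCompl.comap (te : (Γ(X, U) ⊗[k] K) →* _)
  haveI locB' : IsLocalization M ((Curv2.bc k X K).presheaf.stalk y) :=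
    IsLocalization.of_ringEquiv_left te
      (Submonoid.map_comap_eq_of_surjective te.surjective _) (fun _ => rfl)
  -- the map `A → B`
  letI algAB : Algebra (X.presheaf.stalk ((Curv2.bcFst k X K).base y))
      ((Curv2.bc k X K).presheaf.stalk y) := ((Curv2.bcFst k X K).stalkMap y).hom.toAlgebra
  letI algRB : Algebra Γ(X, U) ((Curv2.bc k X K).presheaf.stalk y) :=
    ((algebraMap (X.presheaf.stalk ((Curv2.bcFst k X K).base y))
      ((Curv2.bc k X K).presheaf.stalk y)).comp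
        (algebraMap Γ(X, U) (X.presheaf.stalk ((Curv2.bcFst k X K).base y)))).toAlgebra
  haveI tw1 : IsScalarTower Γ(X, U) (X.presheaf.stalk ((Curv2.bcFst k X K).base y))
      ((Curv2.bc k X K).presheaf.stalk y) := IsScalarTower.of_algebraMap_eq (fun _ => rfl)
  haveI tw2 : IsScalarTower Γ(X, U) (Γ(X, U) ⊗[k] K) ((Curv2.bc k X K).presheaf.stalk y) := by
    refine IsScalarTower.of_algebraMap_eq (fun r => ?_)
    show ((Curv2.bcFst k X K).stalkMap y).hom
        (X.presheaf.germ U ((Curv2.bcFst k X K).base y) hxU r) =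
      (Curv2.bc k X K).presheaf.germ ((Curv2.bcFst k X K) ⁻¹ᵁ U) y hyV
        (te (r ⊗ₜ[k] (1 : K)))
    rw [BaseChange.tensorEquiv_tmul_one]
    exact Scheme.Hom.germ_stalkMap_apply (Curv2.bcFst k X K) U y hxU r
  -- flatness
  haveI hflatK : Flat (Spec.map (CommRingCat.ofHom (algebraMap k K))) := by
    rw [HasRingHomProperty.Spec_iff (P := @Flat)]
    show (algebraMap k K).Flat
    rw [RingHom.flat_algebraMap_iff]
    infer_instance
  haveI : Flat (Curv2.bcFst k X K) := by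
    unfold Curv2.bcFst
    infer_instance
  haveI hflat : Module.Flat (X.presheaf.stalk ((Curv2.bcFst k X K).base y))
      ((Curv2.bc k X K).presheaf.stalk y) := Flat.stalkMap (Curv2.bcFst k X K) y
  haveI : Ring.KrullDimLE 1 (X.presheaf.stalk ((Curv2.bcFst k X K).base y)) :=
    Ring.krullDimLE_iff.mpr hdx.le
  -- separability
  have hsep' : ∀ (p' : Ideal Γ(Xν X, (ν X) ⁻¹ᵁ U)) [p'.IsPrime],
      p'.under Γ(X, U) = (hU.primeIdealOf ⟨(Curv2.bcFst k X K).base y, hxU⟩).asIdeal →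
      _root_.IsReduced ((Γ(Xν X, (ν X) ⁻¹ᵁ U) ⧸ p') ⊗[k] K) := by
    intro p' hp' hunder
    have hx'mem : hV'.fromSpec ⟨p', hp'⟩ ∈ (ν X) ⁻¹ᵁ U := by
      have := Set.mem_range_self (f := hV'.fromSpec) ⟨p', hp'⟩
      rw [hV'.range_fromSpec] at this
      exact this
    have hprime : hV'.primeIdealOf ⟨hV'.fromSpec ⟨p', hp'⟩, hx'mem⟩ = ⟨p', hp'⟩ := by
      apply hV'.fromSpec.isOpenEmbedding.injective
      exact hV'.fromSpec_primeIdealOf ⟨hV'.fromSpec ⟨p', hp'⟩, hx'mem⟩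
    have hνx' : (ν X).base (hV'.fromSpec ⟨p', hp'⟩) = (Curv2.bcFst k X K).base y := by
      have h1 := IsAffineOpen.comap_primeIdealOf_appLE (f := ν X)
        (x := hV'.fromSpec ⟨p', hp'⟩) U hU ((ν X) ⁻¹ᵁ U) hV' le_rfl hx'mem
      rw [Scheme.Hom.appLE_eq_app, hprime] at h1
      have h2 : hU.primeIdealOf ⟨(ν X) (hV'.fromSpec ⟨p', hp'⟩), hx'mem⟩ =
          hU.primeIdealOf ⟨(Curv2.bcFst k X K).base y, hxU⟩ := by
        rw [← h1]
        apply PrimeSpectrum.ext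
        exact hunder
      have h3 := congrArg hU.fromSpec h2
      rw [hU.fromSpec_primeIdealOf, hU.fromSpec_primeIdealOf] at h3
      exact h3
    have hG := hsep (hV'.fromSpec ⟨p', hp'⟩) hνx'
    have h4 := isReduced_quotient_tensor k (Xν X) K hV' (hV'.fromSpec ⟨p', hp'⟩) hx'mem hG
    rw [hprime] at h4
    exact h4
  -- the generic fibre
  have hE : _root_.IsReduced ((⊥ : Ideal Γ(Xν X, (ν X) ⁻¹ᵁ U)).ResidueField ⊗[k] K) :=
    Groth.Agent.Lib.Helper23.DeltaSepC.isReduced_residueField_bot k K Γ(X, U)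
      Γ(Xν X, (ν X) ⁻¹ᵁ U) (hU.primeIdealOf ⟨(Curv2.bcFst k X K).base y, hxU⟩).asIdeal
      (X.presheaf.stalk ((Curv2.bcFst k X K).base y)) hinj hsep'
  haveI twE : IsScalarTower k Γ(X, U) (⊥ : Ideal Γ(Xν X, (ν X) ⁻¹ᵁ U)).ResidueField := by
    refine IsScalarTower.of_algebraMap_eq (fun c => ?_)
    rw [IsScalarTower.algebraMap_apply k Γ(Xν X, (ν X) ⁻¹ᵁ U)
        (⊥ : Ideal Γ(Xν X, (ν X) ⁻¹ᵁ U)).ResidueField,
      IsScalarTower.algebraMap_apply k Γ(X, U) Γ(Xν X, (ν X) ⁻¹ᵁ U),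
      ← IsScalarTower.algebraMap_apply Γ(X, U) Γ(Xν X, (ν X) ⁻¹ᵁ U)
        (⊥ : Ideal Γ(Xν X, (ν X) ⁻¹ᵁ U)).ResidueField]
  have hred : _root_.IsReduced ((⊥ : Ideal Γ(Xν X, (ν X) ⁻¹ᵁ U)).ResidueField ⊗[Γ(X, U)]
      ((Curv2.bc k X K).presheaf.stalk y)) :=
    Groth.Agent.Lib.Helper23.DeltaSepB.isReduced_tensor_loc k K Γ(X, U)
      ((Curv2.bc k X K).presheaf.stalk y) M _ hE
  haveI : Module.Flat Γ(X, U) (X.presheaf.stalk ((Curv2.bcFst k X K).base y)) :=
    IsLocalization.flat _ (hU.primeIdealOf ⟨(Curv2.bcFst k X K).base y, hxU⟩).asIdeal.primeCompl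
  haveI : Module.Flat Γ(X, U) ((Curv2.bc k X K).presheaf.stalk y) :=
    Module.Flat.trans Γ(X, U) (X.presheaf.stalk ((Curv2.bcFst k X K).base y)) _
  have hEinj : Function.Injective (algebraMap Γ(X, U)
      (⊥ : Ideal Γ(Xν X, (ν X) ⁻¹ᵁ U)).ResidueField) := by
    rw [IsScalarTower.algebraMap_eq Γ(X, U) Γ(Xν X, (ν X) ⁻¹ᵁ U)
      (⊥ : Ideal Γ(Xν X, (ν X) ⁻¹ᵁ U)).ResidueField, RingHom.coe_comp]
    refine Function.Injective.comp ?_ hinj
    rw [injective_iff_map_eq_zero]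
    intro a ha
    rwa [Ideal.algebraMap_residueField_eq_zero, Ideal.mem_bot] at ha
  exact isReduced_of_injective
    (Algebra.TensorProduct.includeRight :
      ((Curv2.bc k X K).presheaf.stalk y) →ₐ[Γ(X, U)]
        (⊥ : Ideal Γ(Xν X, (ν X) ⁻¹ᵁ U)).ResidueField ⊗[Γ(X, U)]
          ((Curv2.bc k X K).presheaf.stalk y))
    (Algebra.TensorProduct.includeRight_injective hEinj)

end Main

end Groth.Agent.Lib.Helper23.DeltaSepG
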