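import Groth.Agent.Lib.Helper23.DeltaSepG
import Groth.Agent.Lib.Helper14.GeomRegSmooth
import Groth.Agent.S9442

/-!
# DeltaSepH: the normalization is smooth at codimension-one points with separable residue field
-/
set_option autoImplicit false
set_option linter.style.haveILetI false
set_option linter.unusedSectionVars false
universe u
open CategoryTheory CategoryTheory.Limits Opposite TopologicalSpace AlgebraicGeometry TensorProduct
open Groth.Agent.Lib.Helper12 Groth.Agent.Lib.Helper12.SchemeDimFT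
open Groth.Agent.Lib.Helper12.KAExt
open Groth.Agent.Lib.Helper23.DeltaSepF

noncomputable section

namespace Groth.Agent.Lib.Helper23.DeltaSepH

section Main

variable (k : Type u) [Field k] (X : Scheme.{u}) [X.Over (Spec (CommRingCat.of k))]
  [IsIntegral X] [LocallyOfFiniteType (X ↘ (Spec (CommRingCat.of k)))]
  [QuasiCompact (X.fromSpecStalk (genericPoint X))] [QuasiSeparated (X.fromSpecStalk (genericPoint X))]

/-- the normalization as a `k`-scheme -/
@[reducible] def ovν : (Xν X).Over (Spec (CommRingCat.of k)) :=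
  ⟨ν X ≫ (X ↘ (Spec (CommRingCat.of k)))⟩

attribute [local instance] ovν

include k in
theorem isFinite_ν : IsFinite (ν X) := NormGen.isFinite_of_N2' X (fun W hW hWne =>
    NormGen.N2'_sections k (X ↘ (Spec (CommRingCat.of k))) hW hWne)

instance locallyOfFiniteType_ν : LocallyOfFiniteType ((Xν X) ↘ (Spec (CommRingCat.of k))) := by
  haveI := isFinite_ν k X
  show LocallyOfFiniteType (ν X ≫ (X ↘ (Spec (CommRingCat.of k))))
  infer_instance

theorem formallySmooth_stalk (x' : ↥(Xν X))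
    (hdx : ringKrullDim (X.presheaf.stalk ((ν X).base x')) = 1)
    (hG : GeometricallyReduced (Spec.map (CommRingCat.ofHom (Curv2.resMap k (Xν X) x')))) :
    (Curv2.stalkMap k (Xν X) x').FormallySmooth := by
  classical
  obtain ⟨U, hU, hxU⟩ := NormAff.exists_affine_mem X ((ν X).base x')
  have hne : (U : Set X).Nonempty := ⟨_, hxU⟩
  haveI : Nonempty U := ⟨⟨_, hxU⟩⟩
  letI algkR : Algebra k Γ(X, U) := secAlgebra k X U
  haveI : IsNoetherianRing Γ(X, U) :=
    NormGen.isNoetherianRing_sections k (X ↘ (Spec (CommRingCat.of k))) hU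
  have hfin : IsFinite (ν X) := isFinite_ν k X
  have hV' : IsAffineOpen ((ν X) ⁻¹ᵁ U) := hU.preimage (ν X)
  have hx'V : x' ∈ (ν X) ⁻¹ᵁ U := hxU
  letI algRR' : Algebra Γ(X, U) Γ(Xν X, (ν X) ⁻¹ᵁ U) :=
    ((ν X).app U).hom.toAlgebra
  obtain ⟨hdom, hinj, hbir, hic⟩ := NormAff.sections_props X hU hne
  haveI := hdom
  haveI := hic
  letI algkR' : Algebra k Γ(Xν X, (ν X) ⁻¹ᵁ U) :=
    secAlgebra k _ ((ν X) ⁻¹ᵁ U)
  haveI : Module.Finite Γ(X, U) Γ(Xν X, (ν X) ⁻¹ᵁ U) := hfin.finite_app U hU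
  haveI : Algebra.IsIntegral Γ(X, U) Γ(Xν X, (ν X) ⁻¹ᵁ U) := Algebra.IsIntegral.of_finite _ _
  haveI : IsNoetherianRing Γ(Xν X, (ν X) ⁻¹ᵁ U) := IsNoetherianRing.of_finite Γ(X, U) _
  haveI hft : Algebra.FiniteType k Γ(Xν X, (ν X) ⁻¹ᵁ U) :=
    finiteType_sec k (Xν X) ((ν X) ⁻¹ᵁ U) hV'
  -- the local ring `A`
  letI algRA : Algebra Γ(X, U) (X.presheaf.stalk ((ν X).base x')) :=
    TopCat.Presheaf.algebra_section_stalk X.presheaf ⟨(ν X).base x', hxU⟩
  haveI locA : IsLocalization.AtPrime (X.presheaf.stalk ((ν X).base x'))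
      (hU.primeIdealOf ⟨(ν X).base x', hxU⟩).asIdeal :=
    hU.isLocalization_stalk ⟨(ν X).base x', hxU⟩
  haveI : Ring.KrullDimLE 1 (X.presheaf.stalk ((ν X).base x')) :=
    Ring.krullDimLE_iff.mpr hdx.le
  -- the prime `p'`
  set p' := (hV'.primeIdealOf ⟨x', hx'V⟩).asIdeal with hp'
  have hunder : p'.under Γ(X, U) = (hU.primeIdealOf ⟨(ν X).base x', hxU⟩).asIdeal := by
    have h1 := IsAffineOpen.comap_primeIdealOf_appLE (f := ν X)
      (x := x') U hU ((ν X) ⁻¹ᵁ U) hV' le_rfl hx'V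
    rw [Scheme.Hom.appLE_eq_app] at h1
    exact congrArg PrimeSpectrum.asIdeal h1
  -- regularity
  have hprin := Groth.Agent.Lib.Helper23.DeltaSepC.isPrincipal_maximalIdeal_localization Γ(X, U)
    (hU.primeIdealOf ⟨(ν X).base x', hxU⟩).asIdeal Γ(Xν X, (ν X) ⁻¹ᵁ U)
    (fun P₁ hP₁ hle => by
      haveI := hP₁
      exact Groth.Agent.Lib.Helper23.DeltaSepC.eq_bot_or_eq_of_le Γ(X, U) _
        (X.presheaf.stalk ((ν X).base x')) P₁ hle) p' hunder
  haveI : IsNoetherianRing (Localization.AtPrime p') :=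
    IsLocalization.isNoetherianRing p'.primeCompl _ inferInstance
  haveI : IsPrincipalIdealRing (Localization.AtPrime p') :=
    ((tfae_of_isNoetherianRing_of_isLocalRing_of_isDomain
      (Localization.AtPrime p')).out 0 4).2 hprin
  have hreg : IsRegularLocalRing (Localization.AtPrime p') := inferInstance
  -- separability
  haveI hgr : Algebra.IsGeometricallyReduced k p'.ResidueField := by
    rw [Algebra.isGeometricallyReduced_field_iff]
    have h4 := isReduced_quotient_tensor k (Xν X) (AlgebraicClosure k) hV' x' hx'V hG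
    have h5 := Groth.Agent.Lib.Helper23.DeltaSepC.isReduced_residueField_tensor k
      (AlgebraicClosure k) Γ(Xν X, (ν X) ⁻¹ᵁ U) p' h4
    exact isReduced_of_injective
      (Algebra.TensorProduct.comm k (AlgebraicClosure k) p'.ResidueField)
      (AlgEquiv.injective _)
  have hsm : Algebra.FormallySmooth k (Localization.AtPrime p') :=
    (Groth.Agent.S9442.result k Γ(Xν X, (ν X) ⁻¹ᵁ U) p').2 hreg
  -- transfer to the stalk
  letI algR'S : Algebra Γ(Xν X, (ν X) ⁻¹ᵁ U) ((Xν X).presheaf.stalk x') :=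
    TopCat.Presheaf.algebra_section_stalk (Xν X).presheaf ⟨x', hx'V⟩
  haveI locS : IsLocalization.AtPrime ((Xν X).presheaf.stalk x') p' :=
    hV'.isLocalization_stalk ⟨x', hx'V⟩
  letI algkS : Algebra k ((Xν X).presheaf.stalk x') := (Curv2.stalkMap k (Xν X) x').toAlgebra
  haveI twS : IsScalarTower k Γ(Xν X, (ν X) ⁻¹ᵁ U) ((Xν X).presheaf.stalk x') := by
    refine IsScalarTower.of_algebraMap_eq (fun c => ?_)
    show Curv2.stalkMap k (Xν X) x' c =
      (Xν X).presheaf.germ ((ν X) ⁻¹ᵁ U) x' hx'V (secMap k (Xν X) ((ν X) ⁻¹ᵁ U) c)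
    unfold Curv2.stalkMap secMap
    simp only [RingHom.comp_apply]
    exact (TopCat.Presheaf.germ_res_apply (Xν X).presheaf
      (homOfLE (le_top : (ν X) ⁻¹ᵁ U ≤ ⊤)) x' hx'V _).symm
  let e₀ : Localization.AtPrime p' ≃ₐ[Γ(Xν X, (ν X) ⁻¹ᵁ U)] (Xν X).presheaf.stalk x' :=
    IsLocalization.algEquiv p'.primeCompl _ _
  let e : Localization.AtPrime p' ≃ₐ[k] (Xν X).presheaf.stalk x' := e₀.restrictScalars k
  show Algebra.FormallySmooth k ((Xν X).presheaf.stalk x')
  exact Algebra.FormallySmooth.of_equiv e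

theorem mem_smoothLocus (x' : ↥(Xν X))
    (hdx : ringKrullDim (X.presheaf.stalk ((ν X).base x')) = 1)
    (hG : GeometricallyReduced (Spec.map (CommRingCat.ofHom (Curv2.resMap k (Xν X) x')))) :
    x' ∈ ((Xν X) ↘ (Spec (CommRingCat.of k))).smoothLocus :=
  Groth.Agent.Lib.Helper14.GeomRegSmooth.mem_smoothLocus_of_formallySmooth_stalkStr
    ((Xν X) ↘ (Spec (CommRingCat.of k))) x' (formallySmooth_stalk k X x' hdx hG)

end Main

end Groth.Agent.Lib.Helper23.DeltaSepH
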