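import Mathlib

/-!
# Determinants and characteristic polynomials of endomorphisms adjoint up to a scalar (helper23)
-/

open Polynomial

namespace Groth.Agent.Lib.Helper23.DualDet

section Matrix

variable {K : Type*} [Field K] {ι : Type*} [Fintype ι] [DecidableEq ι]

theorem det_mul_det_of_mul_eq_smul (P Q : Matrix ι ι K) (c : K) (h : P * Q = c • (1 : Matrix ι ι K)) :
    P.det * Q.det = c ^ Fintype.card ι := by
  rw [← Matrix.det_mul, h, Matrix.det_smul, Matrix.det_one, mul_one]

theorem charpolyRev_of_mul_eq_smul (P Q : Matrix ι ι K) (c : K)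
    (h : P * Q = c • (1 : Matrix ι ι K)) :
    C Q.det * P.charpolyRev =
      (-1) ^ Fintype.card ι * Q.charpoly.comp (C c * X) := by
  have h1 : C Q.det = (Q.map C).det := by
    rw [← RingHom.mapMatrix_apply, ← RingHom.map_det]
  have h2 : Q.charpoly.comp (C c * X) =
      (Matrix.scalar ι (C c * X) - Q.map (C : K →+* K[X])).det := by
    change Polynomial.compRingHom (C c * X) Q.charpoly = _
    rw [Matrix.charpoly, RingHom.map_det]
    congr 1
    ext i j
    simp only [RingHom.mapMatrix_apply, Matrix.map_apply, Matrix.charmatrix_apply,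
      Matrix.sub_apply, Matrix.scalar_apply, Matrix.diagonal_apply, map_sub]
    by_cases hij : i = j
    · simp [hij]
    · simp [hij]
  have h3 : (1 - (X : K[X]) • P.map (C : K →+* K[X])) * Q.map (C : K →+* K[X]) =
      -(Matrix.scalar ι (C c * X) - Q.map (C : K →+* K[X])) := by
    have hPQ : P.map (C : K →+* K[X]) * Q.map (C : K →+* K[X]) =
        (c • (1 : Matrix ι ι K)).map (C : K →+* K[X]) := by
      rw [← Matrix.map_mul, h]
    rw [sub_mul, one_mul, Matrix.smul_mul, hPQ]
    ext i j
    simp only [Matrix.sub_apply, Matrix.smul_apply, Matrix.map_apply, Matrix.neg_apply,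
      Matrix.scalar_apply, Matrix.diagonal_apply, Matrix.one_apply, smul_eq_mul]
    by_cases hij : i = j
    · simp [hij]
    · simp [hij]
  rw [Matrix.charpolyRev, h1, mul_comm, ← Matrix.det_mul, h3, Matrix.det_neg, h2]

end Matrix

section LinearMap

variable {K : Type*} [Field K] {D : Type*} [AddCommGroup D] [Module K D] [Module.Finite K D]

theorem det_mul_det_of_comp_eq_smul (P Q : D →ₗ[K] D) (c : K) (h : P ∘ₗ Q = c • LinearMap.id) :
    LinearMap.det P * LinearMap.det Q = c ^ Module.finrank K D := by
  let b := Module.finBasis K D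
  have hm : LinearMap.toMatrix b b P * LinearMap.toMatrix b b Q =
      c • (1 : Matrix (Fin (Module.finrank K D)) (Fin (Module.finrank K D)) K) := by
    rw [← LinearMap.toMatrix_comp, h, map_smul, LinearMap.toMatrix_id]
  have := det_mul_det_of_mul_eq_smul _ _ c hm
  rwa [LinearMap.det_toMatrix, LinearMap.det_toMatrix, Fintype.card_fin] at this

theorem charpoly_reverse_of_comp_eq_smul (P Q : D →ₗ[K] D) (c : K)
    (h : P ∘ₗ Q = c • LinearMap.id) :
    C (LinearMap.det Q) * P.charpoly.reverse =
      (-1) ^ Module.finrank K D * Q.charpoly.comp (C c * X) := by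
  let b := Module.finBasis K D
  have hm : LinearMap.toMatrix b b P * LinearMap.toMatrix b b Q =
      c • (1 : Matrix (Fin (Module.finrank K D)) (Fin (Module.finrank K D)) K) := by
    rw [← LinearMap.toMatrix_comp, h, map_smul, LinearMap.toMatrix_id]
  have := charpolyRev_of_mul_eq_smul _ _ c hm
  rwa [← Matrix.reverse_charpoly, LinearMap.charpoly_toMatrix, LinearMap.charpoly_toMatrix,
    LinearMap.det_toMatrix, Fintype.card_fin] at this

theorem det_dualMap (A : D →ₗ[K] D) : LinearMap.det A.dualMap = LinearMap.det A := by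
  let b := Module.finBasis K D
  rw [← LinearMap.det_toMatrix b.dualBasis, ← LinearMap.det_toMatrix b]
  have h := LinearMap.toMatrix_transpose (B₁ := b) (B₂ := b) A
  have h' : LinearMap.toMatrix b.dualBasis b.dualBasis A.dualMap =
      (LinearMap.toMatrix b b A).transpose := h
  rw [h', Matrix.det_transpose]

theorem charpoly_dualMap (A : D →ₗ[K] D) : A.dualMap.charpoly = A.charpoly := by
  let b := Module.finBasis K D
  rw [← LinearMap.charpoly_toMatrix A.dualMap b.dualBasis, ← LinearMap.charpoly_toMatrix A b]
  have h := LinearMap.toMatrix_transpose (B₁ := b) (B₂ := b) A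
  have h' : LinearMap.toMatrix b.dualBasis b.dualBasis A.dualMap =
      (LinearMap.toMatrix b b A).transpose := h
  rw [h', Matrix.charpoly_transpose]

end LinearMap

section Pairing

variable {K : Type*} [Field K] {V W : Type*} [AddCommGroup V] [Module K V] [AddCommGroup W]
  [Module K W] [Module.Finite K V] [Module.Finite K W]

/-- If `B (A v) (A' w) = c * B v w` for a perfect pairing `B`, then
`det A' * det A = c ^ dim V`. -/
theorem det_mul_det_of_pairing (B : V →ₗ[K] W →ₗ[K] K) [B.IsPerfPair] (A : V →ₗ[K] V)
    (A' : W →ₗ[K] W) (c : K) (h : ∀ v w, B (A v) (A' w) = c * B v w) :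
    LinearMap.det A' * LinearMap.det A = c ^ Module.finrank K V ∧
    C (LinearMap.det A) * A'.charpoly.reverse =
      (-1) ^ Module.finrank K V * A.charpoly.comp (C c * X) := by
  let e : V ≃ₗ[K] Module.Dual K W := B.toPerfPair
  have hcomp : A'.dualMap ∘ₗ (e.conj A) = c • LinearMap.id := by
    ext φ w
    obtain ⟨v, rfl⟩ := e.surjective φ
    simp only [LinearMap.comp_apply, LinearEquiv.conj_apply, LinearEquiv.symm_apply_apply,
      LinearMap.dualMap_apply, LinearMap.smul_apply, LinearMap.id_apply, smul_eq_mul,
      LinearEquiv.coe_coe]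
    exact h v w
  have hrank : Module.finrank K (Module.Dual K W) = Module.finrank K V := e.finrank_eq.symm
  have hdc : LinearMap.det (e.conj A) = LinearMap.det A := by
    rw [LinearEquiv.conj_apply, LinearMap.comp_assoc]
    exact LinearMap.det_conj A e
  constructor
  · have h1 := det_mul_det_of_comp_eq_smul _ _ c hcomp
    rwa [det_dualMap, hdc, hrank] at h1
  · have h2 := charpoly_reverse_of_comp_eq_smul _ _ c hcomp
    rwa [charpoly_dualMap, LinearEquiv.charpoly_conj, hdc, hrank] at h2

end Pairing

end Groth.Agent.Lib.Helper23.DualDet
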