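import Mathlib
import Groth.Prelude
import Groth.Agent.Lib.Helper23.BddA
import Groth.Agent.Lib.Helper23.Devissage
import Groth.Agent.Lib.Helper1.FlatAffine
import Groth.Agent.Lib.Helper1.DVRFib
import Groth.Agent.Lib.Helper17.ExactStage
import Groth.Agent.Lib.Helper17.PbFlat
import Groth.Agent.Lib.Helper3.QCPush
import Groth.Agent.Lib.Helper3.QCProps
import Groth.Agent.Lib.Helper3.PbTensor

/-!
# Helper library (helper23): flat extension of a quotient of `O^N` from the generic fibre over a
discrete valuation ring (S18836)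
-/

set_option autoImplicit false
set_option linter.unusedSectionVars false
set_option linter.style.haveILetI false
universe u
open CategoryTheory CategoryTheory.Limits AlgebraicGeometry TopologicalSpace Opposite
open Scheme.Modules

noncomputable section
namespace Groth.Agent.Lib.Helper23.DvrExt

open Groth.Agent.Lib.Helper3 Groth.Agent.Lib.Helper3.QCSec
  Groth.Agent.Lib.Helper3.PbBasic Groth.Agent.Lib.Helper23.Bdd

variable (R : Type u) [CommRing R] [IsDomain R] [IsDiscreteValuationRing R]

/-- the inclusion of the generic point. -/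
abbrev uK : Spec (CommRingCat.of (FractionRing R)) ⟶ Spec (CommRingCat.of R) :=
  Spec.map (CommRingCat.ofHom (algebraMap R (FractionRing R)))

instance isOpenImmersion_uK : IsOpenImmersion (uK R) := by
  obtain ⟨π, hπ⟩ := IsDiscreteValuationRing.exists_irreducible R
  have := Groth.Agent.Lib.Helper1.DVRFib.isLocalization_away_of_dvr R (FractionRing R) π hπ
  exact IsOpenImmersion.of_isLocalization π

/-- nonzero elements of `Γ(Spec R, ⊤)` become units on the generic fibre. -/
theorem isUnit_appTop (a : Γ(Spec (CommRingCat.of R), ⊤)) (ha : a ≠ 0) :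
    IsUnit ((uK R).appTop a) := by
  have hnat := Scheme.ΓSpecIso_naturality (CommRingCat.ofHom (algebraMap R (FractionRing R)))
  have h1 : (Scheme.ΓSpecIso (CommRingCat.of (FractionRing R))).hom ((uK R).appTop a) =
      algebraMap R (FractionRing R) ((Scheme.ΓSpecIso (CommRingCat.of R)).hom a) := by
    have := congrArg (fun f => f.hom a) hnat
    exact this
  have h2 : (Scheme.ΓSpecIso (CommRingCat.of R)).hom a ≠ 0 := by
    intro h0
    apply ha
    have : (Scheme.ΓSpecIso (CommRingCat.of R)).inv ((Scheme.ΓSpecIso (CommRingCat.of R)).hom a) =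
        a := by
      change ((Scheme.ΓSpecIso (CommRingCat.of R)).hom ≫ (Scheme.ΓSpecIso (CommRingCat.of R)).inv) a = a
      rw [Iso.hom_inv_id]; rfl
    rw [← this, h0, map_zero]
  have h3 : algebraMap R (FractionRing R) ((Scheme.ΓSpecIso (CommRingCat.of R)).hom a) ≠ 0 := by
    intro h0
    apply h2
    exact (IsFractionRing.injective R (FractionRing R)) (by rw [h0, map_zero])
  have h4 : IsUnit ((Scheme.ΓSpecIso (CommRingCat.of (FractionRing R))).hom ((uK R).appTop a)) := by
    rw [h1]
    exact IsUnit.mk0 _ h3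
  have h5 := h4.map (Scheme.ΓSpecIso (CommRingCat.of (FractionRing R))).inv.hom
  have h6 : (Scheme.ΓSpecIso (CommRingCat.of (FractionRing R))).inv.hom
      ((Scheme.ΓSpecIso (CommRingCat.of (FractionRing R))).hom ((uK R).appTop a)) =
      (uK R).appTop a := by
    change ((Scheme.ΓSpecIso (CommRingCat.of (FractionRing R))).hom ≫
      (Scheme.ΓSpecIso (CommRingCat.of (FractionRing R))).inv) ((uK R).appTop a) = _
    rw [Iso.hom_inv_id]; rfl
  rw [h6] at h5
  exact h5

section Main
variable {R} {Y : Scheme.{u}} (g : Y ⟶ Spec (CommRingCat.of R))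

/-- the open immersion of the generic fibre. -/
abbrev jK : pullback g (uK R) ⟶ Y := pullback.fst g (uK R)

variable (N : ℕ) (F : (pullback g (uK R)).Modules) (q : FlatMod.freeMod _ N ⟶ F)

/-- `O_Y^N ⟶ j_* F`. -/
def psi : FlatMod.freeMod Y N ⟶ (Scheme.Modules.pushforward (jK g)).obj F :=
  (Scheme.Modules.pullbackPushforwardAdjunction (jK g)).homEquiv _ _ ((pbFree (jK g) N).hom ≫ q)

/-- the extension. -/
def ext : Y.Modules := Abelian.image (psi g N F q)

/-- the quotient map. -/
def extπ : FlatMod.freeMod Y N ⟶ ext g N F q := Abelian.factorThruImage (psi g N F q)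

/-- the inclusion into `j_* F`. -/
def extι : ext g N F q ⟶ (Scheme.Modules.pushforward (jK g)).obj F := Abelian.image.ι (psi g N F q)

instance : Epi (extπ g N F q) :=
  (inferInstance : Epi (Abelian.factorThruImage (psi g N F q)))
instance : Mono (extι g N F q) :=
  (inferInstance : Mono (Abelian.image.ι (psi g N F q)))

theorem extπ_ι : extπ g N F q ≫ extι g N F q = psi g N F q := Abelian.image.fac _

variable [F.IsQuasicoherent]

instance isQuasicoherent_push : ((Scheme.Modules.pushforward (jK g)).obj F).IsQuasicoherent :=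
  QCSec.isQuasicoherent_pushforward (jK g) F

theorem isCoh_ext : Coh.IsCoh (ext g N F q) := by
  haveI : (FlatMod.freeMod Y N).IsQuasicoherent := (Groth.Agent.Lib.Helper23.Dev.isCoh_freeMod Y N).1
  haveI : (FlatMod.freeMod Y N).IsFiniteType := (Groth.Agent.Lib.Helper23.Dev.isCoh_freeMod Y N).2
  haveI : (cokernel (psi g N F q) : Y.Modules).IsQuasicoherent :=
    QCProps.isQuasicoherent_cokernel (psi g N F q)
  refine ⟨QCProps.isQuasicoherent_kernel (cokernel.π (psi g N F q)), ?_⟩
  exact QCProps.isFiniteType_of_epi (extπ g N F q)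

theorem nonempty_iso (hq : Epi q) :
    Nonempty ((Scheme.Modules.pullback (jK g)).obj (ext g N F q) ≅ F) := by
  let adj := Scheme.Modules.pullbackPushforwardAdjunction (jK g)
  haveI : IsIso adj.counit := by
    haveI : IsIso (restrictAdjunction (jK g)).counit := inferInstance
    haveI := (restrictAdjunction (jK g)).fullyFaithfulROfIsIsoCounit.full
    haveI := (restrictAdjunction (jK g)).fullyFaithfulROfIsIsoCounit.faithful
    infer_instance
  have hcoh := isCoh_ext g N F q
  haveI := hcoh.1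
  haveI : Mono ((Scheme.Modules.pullback (jK g)).map (extι g N F q)) :=
    Groth.Agent.Lib.Helper17.PbFlat.mono_pullback_of_flat (jK g) (extι g N F q)
  let θ := (Scheme.Modules.pullback (jK g)).map (extι g N F q) ≫ adj.counit.app F
  have hfac : (Scheme.Modules.pullback (jK g)).map (extπ g N F q) ≫ θ =
      (pbFree (jK g) N).hom ≫ q := by
    change (Scheme.Modules.pullback (jK g)).map (extπ g N F q) ≫
      (Scheme.Modules.pullback (jK g)).map (extι g N F q) ≫ adj.counit.app F = _
    rw [← Category.assoc, ← Functor.map_comp, extπ_ι]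
    unfold psi
    have h0 := Adjunction.homEquiv_counit adj (X := FlatMod.freeMod Y N) (Y := F)
      (g := (adj.homEquiv (FlatMod.freeMod Y N) F) ((pbFree (jK g) N).hom ≫ q))
    rw [Equiv.symm_apply_apply] at h0
    exact h0.symm
  haveI : Mono θ := mono_comp _ _
  haveI : Epi ((pbFree (jK g) N).hom ≫ q) := epi_comp _ _
  haveI : Epi θ := by
    have h1 : Epi ((Scheme.Modules.pullback (jK g)).map (extπ g N F q) ≫ θ) := by
      rw [hfac]; infer_instance
    exact epi_of_epi ((Scheme.Modules.pullback (jK g)).map (extπ g N F q)) θ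
  haveI : IsIso θ := isIso_of_mono_of_epi θ
  exact ⟨asIso θ⟩

theorem appLE_eq_of_eq {X' Y' : Scheme.{u}} {f f' : X' ⟶ Y'} (h : f = f') (U : Y'.Opens)
    (V : X'.Opens) (e : V ≤ f ⁻¹ᵁ U) (e' : V ≤ f' ⁻¹ᵁ U) : f.appLE U V e = f'.appLE U V e' := by
  subst h; rfl

theorem isUnit_app (U : Y.Opens) (a : Γ(Spec (CommRingCat.of R), ⊤)) (ha : a ≠ 0) :
    IsUnit ((jK g).app U ((g.appLE ⊤ U le_top).hom a)) := by
  have h1 : g.appLE ⊤ U le_top ≫ (jK g).app U =
      (uK R).appTop ≫ (pullback.snd g (uK R)).appLE ⊤ ((jK g) ⁻¹ᵁ U) le_top := by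
    have e1 : (jK g).app U = (jK g).appLE U ((jK g) ⁻¹ᵁ U) le_rfl := (Scheme.Hom.appLE_eq_app _).symm
    have e2 : (uK R).appTop = (uK R).appLE ⊤ ⊤ le_top := (Scheme.Hom.appLE_eq_app _).symm
    rw [e1, e2, Scheme.Hom.appLE_comp_appLE, Scheme.Hom.appLE_comp_appLE]
    exact appLE_eq_of_eq pullback.condition _ _ _ _
  have h2 : (jK g).app U ((g.appLE ⊤ U le_top).hom a) =
      ((pullback.snd g (uK R)).appLE ⊤ ((jK g) ⁻¹ᵁ U) le_top).hom ((uK R).appTop a) := by
    have := congrArg (fun f => f.hom a) h1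
    exact this
  rw [h2]
  exact (isUnit_appTop R a ha).map _

theorem isFlatOver_ext : FlatMod.IsFlatOver g (ext g N F q) := by
  intro x
  have hcoh := isCoh_ext g N F q
  haveI := hcoh.1
  obtain ⟨U, hU, hxU⟩ := QCProps.exists_affine_nbhd x
  have hV : IsAffineOpen (⊤ : (Spec (CommRingCat.of R)).Opens) := isAffineOpen_top _
  have hUV : U ≤ g ⁻¹ᵁ ⊤ := le_top
  refine (Groth.Agent.Lib.Helper1.FlatAffine.flat_sections_iff g (ext g N F q) hU hV hUV).1 ?_ x hxU
  letI : Module Γ(Spec (CommRingCat.of R), ⊤) Γ(ext g N F q, U) :=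
    Module.compHom _ (g.appLE ⊤ U hUV).hom
  let e : Γ(Spec (CommRingCat.of R), ⊤) ≃+* R :=
    (Scheme.ΓSpecIso (CommRingCat.of R)).commRingCatIsoToRingEquiv
  haveI : IsDomain Γ(Spec (CommRingCat.of R), ⊤) := MulEquiv.isDomain R e.toMulEquiv
  haveI : IsPrincipalIdealRing Γ(Spec (CommRingCat.of R), ⊤) :=
    IsPrincipalIdealRing.of_surjective e.symm.toRingHom e.symm.surjective
  rw [Module.Flat.flat_iff_torsion_eq_bot_of_isBezout, Submodule.eq_bot_iff]
  intro m hm
  rw [Submodule.mem_torsion_iff] at hm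
  obtain ⟨a, ha⟩ := hm
  have hane : (a : Γ(Spec (CommRingCat.of R), ⊤)) ≠ 0 := nonZeroDivisors.ne_zero a.2
  have ha' : (g.appLE ⊤ U hUV).hom (a : Γ(Spec (CommRingCat.of R), ⊤)) • m = 0 := ha
  have hinj := (QCProps.mono_iff_app_injective (extι g N F q)).1 inferInstance U
  apply hinj
  rw [map_zero]
  have h1 : (extι g N F q).app U ((g.appLE ⊤ U hUV).hom (a : Γ(Spec (CommRingCat.of R), ⊤)) • m) =
      0 := by rw [ha', map_zero]
  rw [Scheme.Modules.Hom.app_smul] at h1
  have h2 : ((jK g).app U ((g.appLE ⊤ U hUV).hom (a : Γ(Spec (CommRingCat.of R), ⊤)))) •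
      (show Γ(F, (jK g) ⁻¹ᵁ U) from (extι g N F q).app U m) = 0 := h1
  have hu := isUnit_app g U (a : Γ(Spec (CommRingCat.of R), ⊤)) hane
  have key : ∀ n : Γ(F, (jK g) ⁻¹ᵁ U),
      ((jK g).app U ((g.appLE ⊤ U hUV).hom (a : Γ(Spec (CommRingCat.of R), ⊤)))) • n = 0 → n = 0 :=
    fun n hn => (hu.smul_eq_zero).1 hn
  exact key _ h2

end Main

end Groth.Agent.Lib.Helper23.DvrExt
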