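import Mathlib
import Groth.Prelude.Def_W4bk4goldsch23FF

/-!
Elliptic function fields in Weierstrass form `y² = x³ + a x + b`: the automorphisms
`x ↦ u x`, `y ↦ v y` (for `v² = u³`, `a v² = a u`, `b v² = b`), constructed through
`AdjoinRoot (Y² - (X³ + aX + b))` over `k(X)`.
-/

set_option autoImplicit false

namespace Groth.Agent.Lib.Helper23.Ell

open Polynomial

universe u v
variable {k : Type u} [Field k]

/-- The cubic `X³ + aX + b`. -/
noncomputable def cubic (a b : k) : k[X] := X ^ 3 + C a * X + C b

theorem aeval_cubic {K : Type v} [Field K] [Algebra k K] (a b : k) (x : K) :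
    aeval x (cubic a b) = x ^ 3 + algebraMap k K a * x + algebraMap k K b := by
  simp [cubic]

theorem natDegree_cubic (a b : k) : (cubic a b).natDegree = 3 := by
  unfold cubic
  compute_degree!

/-- `Y² - (X³ + aX + b)` over `k(X)`. -/
noncomputable def quad (a b : k) : (RatFunc k)[X] :=
  X ^ 2 - C (algebraMap k[X] (RatFunc k) (cubic a b))

theorem irreducible_quad (a b : k) : Irreducible (quad a b) := by
  unfold quad
  apply X_pow_sub_C_irreducible_of_prime Nat.prime_two
  intro c hc
  have hcub0 : algebraMap k[X] (RatFunc k) (cubic a b) ≠ 0 := by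
    intro h0
    have h1 : cubic a b = 0 := by
      apply RatFunc.algebraMap_injective k
      rw [h0, map_zero]
    have h2 := natDegree_cubic a b
    rw [h1, natDegree_zero] at h2
    exact absurd h2 (by norm_num)
  have hc0 : c ≠ 0 := by
    rintro rfl
    rw [zero_pow two_ne_zero] at hc
    exact hcub0 hc.symm
  have h1 := congrArg RatFunc.intDegree hc
  rw [RatFunc.intDegree_polynomial, natDegree_cubic, pow_two, RatFunc.intDegree_mul hc0 hc0] at h1
  omega

variable {K : Type v} [Field K] [Algebra k K]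

/-- The embedding `k(X) → K`, `X ↦ x`, for transcendental `x`. -/
noncomputable def ratHom (x : K) (hx : Transcendental k x) : RatFunc k →ₐ[k] K :=
  IsFractionRing.liftAlgHom (A := k[X]) (K := RatFunc k) (g := aeval x)
    (transcendental_iff_injective.mp hx)

theorem ratHom_algebraMap (x : K) (hx : Transcendental k x) (p : k[X]) :
    ratHom x hx (algebraMap k[X] (RatFunc k) p) = aeval x p := by
  have h := IsFractionRing.lift_algebraMap (K := RatFunc k)
    (g := ((aeval x : k[X] →ₐ[k] K) : k[X] →+* K)) (transcendental_iff_injective.mp hx) p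
  exact h

theorem ratHom_X (x : K) (hx : Transcendental k x) : ratHom x hx RatFunc.X = x := by
  rw [← RatFunc.algebraMap_X, ratHom_algebraMap, aeval_X]

theorem eval₂_quad (x y : K) (a b : k) (hx : Transcendental k x)
    (heq : y ^ 2 = x ^ 3 + algebraMap k K a * x + algebraMap k K b) :
    (quad a b).eval₂ (ratHom x hx : RatFunc k →+* K) y = 0 := by
  have h1 : (ratHom x hx : RatFunc k →+* K) (algebraMap k[X] (RatFunc k) (cubic a b)) =
      aeval x (cubic a b) := ratHom_algebraMap x hx _
  unfold quad
  rw [eval₂_sub, eval₂_pow, eval₂_X, eval₂_C, h1, aeval_cubic, heq, sub_self]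

theorem exists_algEquiv_adjoinRoot (x y : K) (a b : k) (hx : Transcendental k x)
    (heq : y ^ 2 = x ^ 3 + algebraMap k K a * x + algebraMap k K b)
    (hxy : IntermediateField.adjoin k ({x, y} : Set K) = ⊤) :
    ∃ ψ : AdjoinRoot (quad a b) ≃ₐ[k] K,
      ψ (AdjoinRoot.of (quad a b) RatFunc.X) = x ∧ ψ (AdjoinRoot.root (quad a b)) = y := by
  haveI : Fact (Irreducible (quad a b)) := ⟨irreducible_quad a b⟩
  set ψ : AdjoinRoot (quad a b) →ₐ[k] K :=
    AdjoinRoot.liftAlgHom (quad a b) (ratHom x hx) y (eval₂_quad x y a b hx heq) with hψ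
  have h1 : ψ (AdjoinRoot.of (quad a b) RatFunc.X) = x := by
    rw [hψ, AdjoinRoot.liftAlgHom_of, ratHom_X]
  have h2 : ψ (AdjoinRoot.root (quad a b)) = y := by
    rw [hψ, AdjoinRoot.liftAlgHom_root]
  have hsurj : Function.Surjective ψ := by
    rw [← AlgHom.fieldRange_eq_top, eq_top_iff, ← hxy, IntermediateField.adjoin_le_iff]
    rintro z (rfl | rfl)
    · exact AlgHom.mem_fieldRange.mpr ⟨_, h1⟩
    · exact AlgHom.mem_fieldRange.mpr ⟨_, h2⟩
  exact ⟨AlgEquiv.ofBijective ψ ⟨(ψ : AdjoinRoot (quad a b) →+* K).injective, hsurj⟩, h1, h2⟩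

/-- The automorphism `x ↦ u x`, `y ↦ v y` of a Weierstrass function field. -/
theorem exists_algEquiv_of_scaling (x y : K) (a b : k) (hx : Transcendental k x)
    (heq : y ^ 2 = x ^ 3 + algebraMap k K a * x + algebraMap k K b)
    (hxy : IntermediateField.adjoin k ({x, y} : Set K) = ⊤)
    (u v : k) (hu : u ≠ 0) (hv : v ≠ 0) (h1 : v ^ 2 = u ^ 3) (h2 : a * v ^ 2 = a * u)
    (h3 : b * v ^ 2 = b) :
    ∃ σ : K ≃ₐ[k] K, σ x = algebraMap k K u * x ∧ σ y = algebraMap k K v * y := by
  have hx' : Transcendental k (algebraMap k K u * x) := by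
    intro halg
    apply hx
    rw [← mem_algebraicClosure_iff] at halg ⊢
    have := (algebraicClosure k K).mul_mem ((algebraicClosure k K).algebraMap_mem u⁻¹) halg
    rwa [← mul_assoc, ← map_mul, inv_mul_cancel₀ hu, map_one, one_mul] at this
  have H1 : (algebraMap k K v) ^ 2 = (algebraMap k K u) ^ 3 := by
    rw [← map_pow, ← map_pow, h1]
  have H2 : algebraMap k K a * (algebraMap k K v) ^ 2 = algebraMap k K a * algebraMap k K u := by
    rw [← map_pow, ← map_mul, ← map_mul, h2]
  have H3 : algebraMap k K b * (algebraMap k K v) ^ 2 = algebraMap k K b := by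
    rw [← map_pow, ← map_mul, h3]
  have heq' : (algebraMap k K v * y) ^ 2 = (algebraMap k K u * x) ^ 3 +
      algebraMap k K a * (algebraMap k K u * x) + algebraMap k K b := by
    linear_combination (algebraMap k K v) ^ 2 * heq + x ^ 3 * H1 + x * H2 + H3
  have hxy' : IntermediateField.adjoin k
      ({algebraMap k K u * x, algebraMap k K v * y} : Set K) = ⊤ := by
    rw [eq_top_iff, ← hxy, IntermediateField.adjoin_le_iff]
    rintro z (rfl | rfl)
    · have hm : algebraMap k K u * z ∈ IntermediateField.adjoin k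
          ({algebraMap k K u * z, algebraMap k K v * y} : Set K) :=
        IntermediateField.subset_adjoin _ _ (Set.mem_insert _ _)
      have := (IntermediateField.adjoin k
          ({algebraMap k K u * z, algebraMap k K v * y} : Set K)).mul_mem
        ((IntermediateField.adjoin k
          ({algebraMap k K u * z, algebraMap k K v * y} : Set K)).algebraMap_mem u⁻¹) hm
      rwa [← mul_assoc, ← map_mul, inv_mul_cancel₀ hu, map_one, one_mul] at this
    · have hm : algebraMap k K v * z ∈ IntermediateField.adjoin k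
          ({algebraMap k K u * x, algebraMap k K v * z} : Set K) :=
        IntermediateField.subset_adjoin _ _ (Set.mem_insert_of_mem _ (Set.mem_singleton _))
      have := (IntermediateField.adjoin k
          ({algebraMap k K u * x, algebraMap k K v * z} : Set K)).mul_mem
        ((IntermediateField.adjoin k
          ({algebraMap k K u * x, algebraMap k K v * z} : Set K)).algebraMap_mem v⁻¹) hm
      rwa [← mul_assoc, ← map_mul, inv_mul_cancel₀ hv, map_one, one_mul] at this
  obtain ⟨ψ₁, hψ₁x, hψ₁y⟩ := exists_algEquiv_adjoinRoot x y a b hx heq hxy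
  obtain ⟨ψ₂, hψ₂x, hψ₂y⟩ := exists_algEquiv_adjoinRoot _ _ a b hx' heq' hxy'
  refine ⟨ψ₁.symm.trans ψ₂, ?_, ?_⟩
  · have h : ψ₁.symm x = AdjoinRoot.of (quad a b) RatFunc.X := by
      rw [AlgEquiv.symm_apply_eq, hψ₁x]
    rw [AlgEquiv.trans_apply, h, hψ₂x]
  · have h : ψ₁.symm y = AdjoinRoot.root (quad a b) := by
      rw [AlgEquiv.symm_apply_eq, hψ₁y]
    rw [AlgEquiv.trans_apply, h, hψ₂y]

/-- Two automorphisms agreeing on generators `x, y` coincide. -/
theorem algEquiv_ext_of_adjoin {x y : K}
    (hxy : IntermediateField.adjoin k ({x, y} : Set K) = ⊤)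
    {σ τ : K ≃ₐ[k] K} (hx : σ x = τ x) (hy : σ y = τ y) : σ = τ := by
  apply AlgEquiv.ext
  intro z
  have hz : z ∈ IntermediateField.adjoin k ({x, y} : Set K) := by
    rw [hxy]; exact IntermediateField.mem_top
  refine IntermediateField.adjoin_induction k (p := fun z _ => σ z = τ z) ?_ ?_ ?_ ?_ ?_ hz
  · intro w hw
    show σ w = τ w
    rcases hw with rfl | rfl
    · exact hx
    · exact hy
  · intro c
    show σ (algebraMap k K c) = τ (algebraMap k K c)
    rw [σ.commutes, τ.commutes]
  · intro a b _ _ ha hb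
    show σ (a + b) = τ (a + b)
    rw [map_add, map_add, show σ a = τ a from ha, show σ b = τ b from hb]
  · intro a _ ha
    show σ a⁻¹ = τ a⁻¹
    rw [map_inv₀, map_inv₀, show σ a = τ a from ha]
  · intro a b _ _ ha hb
    show σ (a * b) = τ (a * b)
    rw [map_mul, map_mul, show σ a = τ a from ha, show σ b = τ b from hb]

end Groth.Agent.Lib.Helper23.Ell
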