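import Mathlib
import Groth.Prelude.Def_W4bk4goldsch23FF
import Groth.Agent.Lib.Helper23.FFAC2
import Groth.Agent.Lib.Helper23.FFGap

/-!
Function fields, part 8: automorphisms with many fixed places (S11047).
-/

set_option autoImplicit false

namespace Groth.Agent.Lib.Helper23.FF

open FunFld Polynomial
open scoped IntermediateField

universe u v
variable {k : Type u} {K : Type v} [Field k] [Field K] [Algebra k K]

/-- For an effective divisor, the part supported on a finite set has at most the full degree. -/
theorem sum_le_deg_of_nonneg {D : Divisor k K} (hD : 0 ≤ D) (S : Finset (Place k K)) :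
    ∑ Q ∈ S, D Q * (Q.deg : ℤ) ≤ D.deg := by
  classical
  unfold Divisor.deg Finsupp.sum
  have h1 : ∑ Q ∈ S, D Q * (Q.deg : ℤ) = ∑ Q ∈ S ∩ D.support, D Q * (Q.deg : ℤ) := by
    symm
    apply Finset.sum_subset Finset.inter_subset_left
    intro Q hQ hQ'
    have : D Q = 0 := by
      by_contra h0
      exact hQ' (Finset.mem_inter.mpr ⟨hQ, Finsupp.mem_support_iff.mpr h0⟩)
    rw [this, zero_mul]
  rw [h1]
  apply Finset.sum_le_sum_of_subset_of_nonneg Finset.inter_subset_right
  intro Q _ _
  exact mul_nonneg (hD Q) (Int.natCast_nonneg _)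

theorem transcendental_sub_const {x : K} (hx : Transcendental k x) (c : k) :
    Transcendental k (x - algebraMap k K c) := by
  intro h
  apply hx
  have := h.add (isAlgebraic_algebraMap (R := k) (A := K) c)
  rwa [sub_add_cancel] at this

/-- Over an infinite constant field there are infinitely many places. -/
theorem infinite_places [Infinite k] (hK : IsFunctionField k K) : Infinite (Place k K) := by
  obtain ⟨x, hx, -⟩ := hK.1
  have hex : ∀ c : k, ∃ P : Place k K, P.1 (x - algebraMap k K c) < 1 := fun c =>
    Groth.Agent.Lib.Helper27.FF.exists_place_val_lt_one hK (transcendental_sub_const hx c)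
  choose Q hQ using hex
  apply Infinite.of_injective Q
  intro c c' hcc
  have h1 := hQ c
  have h2 := hQ c'
  rw [← hcc] at h2
  exact const_unique (Q c) h1 h2

/-- At a fixed place of degree one, `σ f - f` vanishes for every integral `f`. -/
theorem val_map_sub_lt_one (σ : K ≃ₐ[k] K) (Q : Place k K) (hQ : Q.deg = 1)
    (hfix : Place.comapEquiv σ Q = Q) {f : K} (hf : Q.1 f ≤ 1) : Q.1 (σ f - f) < 1 := by
  obtain ⟨c, hc⟩ := exists_const_val_sub_lt_one Q hQ hf
  have h1 : σ f - f = σ (f - algebraMap k K c) - (f - algebraMap k K c) := by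
    rw [map_sub, σ.commutes]; ring
  have h2 : Q.1 (σ (f - algebraMap k K c)) < 1 := by
    rw [← Place.comapEquiv_apply, hfix]
    exact hc
  rw [h1]
  exact lt_of_le_of_lt (Valuation.map_sub _ _ _) (max_lt h2 hc)

/-- `σ` maps `L(D)` for a point divisor to `L` of the translated point. -/
theorem map_mem_L_single (σ : K ≃ₐ[k] K) (P : Place k K) (m : ℤ) {f : K}
    (hf : f ∈ L (Finsupp.single P m : Divisor k K)) :
    σ f ∈ L (Finsupp.single (Place.comapEquiv σ.symm P) m : Divisor k K) := by
  classical
  intro Q
  have h := hf (Place.comapEquiv σ Q)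
  rw [Place.comapEquiv_apply] at h
  refine h.trans_eq ?_
  congr 1
  rw [Finsupp.single_apply, Finsupp.single_apply]
  by_cases hPQ : P = Place.comapEquiv σ Q
  · rw [if_pos hPQ, if_pos]
    rw [hPQ, Place.comapEquiv_symm_comapEquiv]
  · rw [if_neg hPQ, if_neg]
    intro h'
    apply hPQ
    rw [← h', Place.comapEquiv_comapEquiv_symm]

theorem single_le_add_single (P P' : Place k K) {m m' : ℤ} (hm' : 0 ≤ m') :
    (Finsupp.single P m : Divisor k K) ≤ Finsupp.single P m + Finsupp.single P' m' := by
  classical
  rw [le_add_iff_nonneg_right]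
  intro Q
  rw [Finsupp.zero_apply, Finsupp.single_apply]
  split_ifs
  · exact hm'
  · exact le_rfl

/-- S11047. -/
theorem algEquiv_eq_one_of_many_fixed [IsAlgClosed k] (hK : IsFunctionField k K) (σ : K ≃ₐ[k] K)
    (h : ((2 * genus k K + 2 : ℕ) : ℕ∞) <
      Set.encard {P : Place k K | ∀ x : K, P.1 x < 1 → P.1 (σ x) < 1}) :
    σ = 1 := by
  classical
  by_contra hσ
  set Fix : Set (Place k K) := {P : Place k K | ∀ x : K, P.1 x < 1 → P.1 (σ x) < 1} with hFix
  have hfixeq : ∀ Q ∈ Fix, Place.comapEquiv σ Q = Q := fun Q hQ => comapEquiv_eq_of_fixed σ Q hQ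
  by_cases hall : ∀ P : Place k K, P ∈ Fix
  · -- all places are fixed
    obtain ⟨f, hf⟩ : ∃ f : K, σ f ≠ f := by
      by_contra hno
      push Not at hno
      exact hσ (AlgEquiv.ext hno)
    have hf0 : f ≠ 0 := by
      rintro rfl
      exact hf (map_zero σ)
    have hh : σ f - f ≠ 0 := sub_ne_zero.mpr hf
    have hfin1 := finite_zeros_of_ne_zero hK hh
    have hfin2 := finite_zeros_of_ne_zero hK (inv_ne_zero hf0)
    haveI := infinite_places hK
    have hcover : (Set.univ : Set (Place k K)) ⊆
        {P : Place k K | P.1 (σ f - f) < 1} ∪ {P : Place k K | P.1 f⁻¹ < 1} := by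
      intro Q _
      by_cases hQf : Q.1 f ≤ 1
      · left
        exact val_map_sub_lt_one σ Q (deg_eq_one hK Q) (hfixeq Q (hall Q)) hQf
      · right
        show Q.1 f⁻¹ < 1
        rw [map_inv₀]
        exact inv_lt_one_of_one_lt₀ (not_le.mp hQf)
    exact Set.infinite_univ ((hfin1.union hfin2).subset hcover)
  · push Not at hall
    obtain ⟨P, hP⟩ := hall
    set g := genus k K with hg
    -- a nonconstant function with pole only at P of order ≤ g + 1
    have hdegP := deg_eq_one hK P
    have hell : 2 ≤ ell (Finsupp.single P ((g : ℤ) + 1) : Divisor k K) := by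
      have := idx_le_genus hK (Finsupp.single P ((g : ℤ) + 1) : Divisor k K)
      rw [deg_single, hdegP] at this
      have : (2 : ℤ) ≤ ell (Finsupp.single P ((g : ℤ) + 1) : Divisor k K) := by
        push_cast at this
        linarith
      exact_mod_cast this
    have hle0 : L (0 : Divisor k K) ≤ L (Finsupp.single P ((g : ℤ) + 1)) := by
      apply L_mono
      intro Q
      rw [Finsupp.zero_apply, Finsupp.single_apply]
      split_ifs
      · positivity
      · exact le_rfl
    have hlt0 : L (0 : Divisor k K) < L (Finsupp.single P ((g : ℤ) + 1)) := by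
      refine lt_of_le_of_ne hle0 (fun heq => ?_)
      have : ell (0 : Divisor k K) = ell (Finsupp.single P ((g : ℤ) + 1) : Divisor k K) := by
        unfold ell; rw [heq]
      rw [ell_zero hK] at this
      omega
    obtain ⟨f, hfL, hfn⟩ := SetLike.exists_of_lt hlt0
    have hPf : 1 < P.1 f := by
      by_contra hle
      rw [not_lt] at hle
      apply hfn
      intro Q
      rw [Finsupp.zero_apply, WithZero.exp_zero]
      by_cases hQP : Q = P
      · rw [hQP]; exact hle
      · have := hfL Q
        rwa [Finsupp.single_apply, if_neg (Ne.symm hQP), WithZero.exp_zero] at this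
    set P' := Place.comapEquiv σ.symm P with hP'
    have hPP' : P' ≠ P := by
      intro heq
      apply hP
      intro x hx
      have h1 : Place.comapEquiv σ P' = P := Place.comapEquiv_comapEquiv_symm σ P
      rw [heq] at h1
      rw [← Place.comapEquiv_apply, h1]
      exact hx
    have hσf : σ f ∈ L (Finsupp.single P' ((g : ℤ) + 1) : Divisor k K) :=
      map_mem_L_single σ P _ hfL
    have hg1 : (0 : ℤ) ≤ (g : ℤ) + 1 := by positivity
    set E : Divisor k K := Finsupp.single P ((g : ℤ) + 1) + Finsupp.single P' ((g : ℤ) + 1) with hE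
    have hfE : f ∈ L E := L_mono (single_le_add_single P P' hg1) hfL
    have hσfE : σ f ∈ L E := by
      rw [hE, add_comm]
      exact L_mono (single_le_add_single P' P hg1) hσf
    have hhE : σ f - f ∈ L E := Submodule.sub_mem _ hσfE hfE
    have hPσf : P.1 (σ f) ≤ 1 := by
      have := hσf P
      rwa [Finsupp.single_apply, if_neg hPP', WithZero.exp_zero] at this
    have hh : σ f - f ≠ 0 := by
      intro h0
      have h1 : P.1 (σ f - f) = P.1 f :=
        Valuation.map_sub_eq_of_lt_right _ (lt_of_le_of_lt hPσf hPf)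
      rw [h0, map_zero] at h1
      rw [← h1] at hPf
      exact absurd hPf (not_lt.mpr zero_le_one)
    have hnonneg := div_add_nonneg_of_mem_L hK E hh hhE
    have hdegE : (E + FunFld.div k (σ f - f)).deg = 2 * (g : ℤ) + 2 := by
      rw [deg_add_div hK, hE, deg_add, deg_single, deg_single, hdegP, deg_eq_one hK P']
      push_cast
      ring
    -- a finite set of fixed places of size 2g+3
    obtain ⟨T, hTsub, hTcard⟩ := Set.exists_subset_encard_eq
      (show ((2 * g + 3 : ℕ) : ℕ∞) ≤ Fix.encard by
        have : ((2 * g + 2 : ℕ) : ℕ∞) + 1 ≤ Fix.encard := Order.add_one_le_of_lt h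
        have e : ((2 * g + 3 : ℕ) : ℕ∞) = ((2 * g + 2 : ℕ) : ℕ∞) + 1 := by norm_cast
        rw [e]
        exact this)
    have hTfin : T.Finite := Set.finite_of_encard_eq_coe hTcard
    have hTcard' : hTfin.toFinset.card = 2 * g + 3 := by
      have := hTfin.encard_eq_coe_toFinset_card
      rw [hTcard] at this
      exact_mod_cast this.symm
    have hsum := sum_le_deg_of_nonneg hnonneg hTfin.toFinset
    rw [hdegE] at hsum
    have hterm : ∀ Q ∈ hTfin.toFinset,
        (1 : ℤ) ≤ (E + FunFld.div k (σ f - f)) Q * (Q.deg : ℤ) := by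
      intro Q hQ
      have hQfix : Q ∈ Fix := hTsub (hTfin.mem_toFinset.mp hQ)
      have hQP : Q ≠ P := fun h => hP (h ▸ hQfix)
      have hQP' : Q ≠ P' := by
        intro heq
        apply hPP'
        have h1 := hfixeq Q hQfix
        rw [heq] at h1
        rw [← h1]
        exact Place.comapEquiv_comapEquiv_symm σ P
      have hEQ : E Q = 0 := by
        rw [hE, Finsupp.add_apply, Finsupp.single_apply, Finsupp.single_apply,
          if_neg (Ne.symm hQP), if_neg (Ne.symm hQP'), add_zero]
      have hQf : Q.1 f ≤ 1 := by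
        have := hfL Q
        rwa [Finsupp.single_apply, if_neg (Ne.symm hQP), WithZero.exp_zero] at this
      have hlt := val_map_sub_lt_one σ Q (deg_eq_one hK Q) (hfixeq Q hQfix) hQf
      have hord := ord_pos_of_val_lt_one Q hh hlt
      rw [Finsupp.add_apply, hEQ, zero_add, div_apply hK, deg_eq_one hK Q]
      push_cast
      omega
    have hcount : ((hTfin.toFinset.card : ℕ) : ℤ) ≤
        ∑ Q ∈ hTfin.toFinset, (E + FunFld.div k (σ f - f)) Q * (Q.deg : ℤ) := by
      rw [Finset.card_eq_sum_ones, Nat.cast_sum]
      apply Finset.sum_le_sum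
      intro Q hQ
      push_cast
      exact hterm Q hQ
    rw [hTcard'] at hcount
    have e3 : ((2 * g + 3 : ℕ) : ℤ) = 2 * (g : ℤ) + 3 := by push_cast; ring
    rw [e3] at hcount
    linarith

end Groth.Agent.Lib.Helper23.FF
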