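import Mathlib
import Groth.Agent.S19396
import Groth.Agent.Lib.Helper23.Ell1
import Groth.Agent.Lib.Helper23.FFAut
import Groth.Agent.Lib.Helper27.FunFld10

/-!
Automorphisms of a Weierstrass function field fixing the point at infinity: they are exactly the
scalings `x ↦ u x`, `y ↦ v y`, and they are counted by roots of unity.
-/

set_option autoImplicit false

namespace Groth.Agent.Lib.Helper23.Ell

open FunFld

universe u v
variable {k : Type u} {K : Type v} [Field k] [Field K] [Algebra k K]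

theorem basis_gen (hK : IsFunctionField k K) (hgen : genus k K = 1) (P : Place k K)
    (hP : P.deg = 1) (f g : K) (hf : f ∈ L (Finsupp.single P 2 : Divisor k K))
    (hf2 : P.ord f = -2) (hg : g ∈ L (Finsupp.single P 3 : Divisor k K)) (hg3 : P.ord g = -3)
    (n : ℕ) (hn : 2 ≤ n) (m₁ m₂ : ℕ) (h₁ : n / 2 + 1 = m₁) (h₂ : (n - 1) / 2 = m₂) :
    LinearIndependent k
        (Sum.elim (fun i : Fin m₁ => f ^ (i : ℕ)) (fun i : Fin m₂ => f ^ (i : ℕ) * g)) ∧
      Submodule.span k (Set.range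
        (Sum.elim (fun i : Fin m₁ => f ^ (i : ℕ)) (fun i : Fin m₂ => f ^ (i : ℕ) * g))) =
        L (Finsupp.single P (n : ℤ) : Divisor k K) := by
  subst h₁ h₂
  exact Groth.Agent.S19396.result k K hK hgen P hP f g hf hf2 hg hg3 n hn

theorem mem_L2 (hK : IsFunctionField k K) (hgen : genus k K = 1) (P : Place k K)
    (hP : P.deg = 1) (x y : K) (hx : x ∈ L (Finsupp.single P 2 : Divisor k K))
    (hx2 : P.ord x = -2) (hy : y ∈ L (Finsupp.single P 3 : Divisor k K)) (hy3 : P.ord y = -3)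
    {z : K} (hz : z ∈ L (Finsupp.single P 2 : Divisor k K)) :
    ∃ α β : k, z = algebraMap k K α + algebraMap k K β * x := by
  obtain ⟨-, hspan⟩ := basis_gen hK hgen P hP x y hx hx2 hy hy3 2 le_rfl 2 0
    (by norm_num) (by norm_num)
  have hz' : z ∈ Submodule.span k (Set.range
      (Sum.elim (fun i : Fin 2 => x ^ (i : ℕ)) (fun i : Fin 0 => x ^ (i : ℕ) * y))) := by
    rw [hspan]; exact_mod_cast hz
  obtain ⟨c, hc⟩ := (Submodule.mem_span_range_iff_exists_fun k).mp hz'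
  refine ⟨c (Sum.inl 0), c (Sum.inl 1), ?_⟩
  rw [← hc, Fintype.sum_sum_type]
  simp [Fin.sum_univ_succ, Algebra.smul_def]

theorem mem_L3 (hK : IsFunctionField k K) (hgen : genus k K = 1) (P : Place k K)
    (hP : P.deg = 1) (x y : K) (hx : x ∈ L (Finsupp.single P 2 : Divisor k K))
    (hx2 : P.ord x = -2) (hy : y ∈ L (Finsupp.single P 3 : Divisor k K)) (hy3 : P.ord y = -3)
    {z : K} (hz : z ∈ L (Finsupp.single P 3 : Divisor k K)) :
    ∃ α β γ : k, z = algebraMap k K α + algebraMap k K β * x + algebraMap k K γ * y := by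
  obtain ⟨-, hspan⟩ := basis_gen hK hgen P hP x y hx hx2 hy hy3 3 (by norm_num) 2 1
    (by norm_num) (by norm_num)
  have hz' : z ∈ Submodule.span k (Set.range
      (Sum.elim (fun i : Fin 2 => x ^ (i : ℕ)) (fun i : Fin 1 => x ^ (i : ℕ) * y))) := by
    rw [hspan]; exact_mod_cast hz
  obtain ⟨c, hc⟩ := (Submodule.mem_span_range_iff_exists_fun k).mp hz'
  refine ⟨c (Sum.inl 0), c (Sum.inl 1), c (Sum.inr 0), ?_⟩
  rw [← hc, Fintype.sum_sum_type]
  simp [Fin.sum_univ_succ, Algebra.smul_def]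

theorem li6 (hK : IsFunctionField k K) (hgen : genus k K = 1) (P : Place k K)
    (hP : P.deg = 1) (x y : K) (hx : x ∈ L (Finsupp.single P 2 : Divisor k K))
    (hx2 : P.ord x = -2) (hy : y ∈ L (Finsupp.single P 3 : Divisor k K)) (hy3 : P.ord y = -3)
    (c₀ c₁ c₂ c₃ c₄ c₅ : k)
    (h : algebraMap k K c₀ + algebraMap k K c₁ * x + algebraMap k K c₂ * x ^ 2 +
      algebraMap k K c₃ * x ^ 3 + algebraMap k K c₄ * y + algebraMap k K c₅ * (x * y) = 0) :
    c₀ = 0 ∧ c₁ = 0 ∧ c₂ = 0 ∧ c₃ = 0 ∧ c₄ = 0 ∧ c₅ = 0 := by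
  obtain ⟨hli, -⟩ := basis_gen hK hgen P hP x y hx hx2 hy hy3 6 (by norm_num) 4 2
    (by norm_num) (by norm_num)
  rw [Fintype.linearIndependent_iff] at hli
  have h0 := hli (Sum.elim ![c₀, c₁, c₂, c₃] ![c₄, c₅]) (by
    rw [Fintype.sum_sum_type]
    simp [Fin.sum_univ_succ, Algebra.smul_def]
    linear_combination h)
  refine ⟨?_, ?_, ?_, ?_, ?_, ?_⟩
  · simpa using h0 (Sum.inl 0)
  · simpa using h0 (Sum.inl 1)
  · simpa using h0 (Sum.inl 2)
  · simpa using h0 (Sum.inl 3)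
  · simpa using h0 (Sum.inr 0)
  · simpa using h0 (Sum.inr 1)

/-- An automorphism scaling `x` preserves the unique pole of `x`. -/
theorem preserves_of_scaling (P : Place k K) {x : K}
    (hx : x ∈ L (Finsupp.single P 2 : Divisor k K)) (hx2 : P.ord x = -2) (σ : K ≃ₐ[k] K) {u : k}
    (hu : u ≠ 0) (hσ : σ x = algebraMap k K u * x) : ∀ z : K, P.1 (σ z) = P.1 z := by
  classical
  have hx0 : x ≠ 0 := FF.ne_zero_of_ord_ne_zero P (by rw [hx2]; norm_num)
  have hval : ¬ P.1 x ≤ 1 := by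
    rw [Groth.Agent.Lib.Helper27.FF.val_le_one_iff P hx0, hx2]; norm_num
  have hmem := FF.map_mem_L_single σ P 2 hx
  have hP' : FF.Place.comapEquiv σ.symm P = P := by
    by_contra hne
    have h1 := hmem P
    rw [Finsupp.single_apply, if_neg hne] at h1
    apply hval
    rw [hσ, map_mul, Groth.Agent.Lib.Helper27.FF.val_const P hu, one_mul] at h1
    simpa using h1
  intro z
  have h2 : P.1 (σ.symm (σ z)) = P.1 (σ z) := by
    rw [← FF.Place.comapEquiv_apply σ.symm P (σ z), hP']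
  rw [σ.symm_apply_apply] at h2
  exact h2.symm

/-- An automorphism preserving the place at infinity is a scaling. -/
theorem scaling_of_preserves [IsAlgClosed k] (hK : IsFunctionField k K) (hgen : genus k K = 1)
    (P : Place k K) (h2 : (2 : k) ≠ 0) (h3 : (3 : k) ≠ 0) (a b : k) (x y : K)
    (heq : y ^ 2 = x ^ 3 + algebraMap k K a * x + algebraMap k K b)
    (hx : x ∈ L (Finsupp.single P 2 : Divisor k K)) (hx2 : P.ord x = -2)
    (hy : y ∈ L (Finsupp.single P 3 : Divisor k K)) (hy3 : P.ord y = -3)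
    (σ : K ≃ₐ[k] K) (hσ : ∀ z : K, P.1 (σ z) = P.1 z) :
    ∃ u v : k, u ≠ 0 ∧ v ≠ 0 ∧ v ^ 2 = u ^ 3 ∧ a * v ^ 2 = a * u ∧ b * v ^ 2 = b ∧
      σ x = algebraMap k K u * x ∧ σ y = algebraMap k K v * y := by
  have hP : P.deg = 1 := FF.deg_eq_one hK P
  have hxtr : Transcendental k x :=
    Groth.Agent.Lib.Helper27.FF.transcendental_of_ord_ne_zero hK (P := P) (by rw [hx2]; norm_num)
  have hP' : FF.Place.comapEquiv σ.symm P = P := by
    apply Subtype.ext
    ext z
    rw [FF.Place.comapEquiv_apply]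
    have := hσ (σ.symm z)
    rw [σ.apply_symm_apply] at this
    exact this.symm
  have hσx := FF.map_mem_L_single σ P 2 hx
  have hσy := FF.map_mem_L_single σ P 3 hy
  rw [hP'] at hσx hσy
  obtain ⟨α, β, hα⟩ := mem_L2 hK hgen P hP x y hx hx2 hy hy3 hσx
  obtain ⟨α', β', γ, hγ⟩ := mem_L3 hK hgen P hP x y hx hx2 hy hy3 hσy
  have hE : (σ y) ^ 2 = (σ x) ^ 3 + algebraMap k K a * σ x + algebraMap k K b := by
    have := congrArg σ heq
    simpa only [map_pow, map_add, map_mul, AlgEquiv.commutes] using this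
  rw [hα, hγ] at hE
  obtain ⟨e0, e1, e2, e3, e4, e5⟩ := li6 hK hgen P hP x y hx hx2 hy hy3
    (α' ^ 2 + γ ^ 2 * b - α ^ 3 - a * α - b)
    (2 * α' * β' + γ ^ 2 * a - 3 * α ^ 2 * β - a * β)
    (β' ^ 2 - 3 * α * β ^ 2)
    (γ ^ 2 - β ^ 3)
    (2 * α' * γ)
    (2 * β' * γ)
    (by
      simp only [map_add, map_sub, map_mul, map_pow, map_ofNat]
      linear_combination hE - (algebraMap k K γ) ^ 2 * heq)
  have hβ : β ≠ 0 := by
    rintro rfl
    rw [map_zero, zero_mul, add_zero] at hα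
    apply hxtr
    have hxα : x = algebraMap k K α := by
      have := congrArg σ.symm hα
      rwa [σ.symm_apply_apply, AlgEquiv.commutes] at this
    rw [hxα]
    exact isAlgebraic_algebraMap α
  have hγ0 : γ ≠ 0 := by
    rintro rfl
    apply hβ
    have : β ^ 3 = 0 := by linear_combination -e3
    exact (pow_eq_zero_iff (by norm_num : (3 : ℕ) ≠ 0)).mp this
  have hα' : α' = 0 := by
    rcases mul_eq_zero.mp e4 with h | h
    · rcases mul_eq_zero.mp h with h | h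
      · exact absurd h h2
      · exact h
    · exact absurd h hγ0
  have hβ' : β' = 0 := by
    rcases mul_eq_zero.mp e5 with h | h
    · rcases mul_eq_zero.mp h with h | h
      · exact absurd h h2
      · exact h
    · exact absurd h hγ0
  have hα0 : α = 0 := by
    rw [hβ'] at e2
    have : 3 * α * β ^ 2 = 0 := by linear_combination -e2
    rcases mul_eq_zero.mp this with h | h
    · rcases mul_eq_zero.mp h with h | h
      · exact absurd h h3
      · exact h
    · exact absurd ((pow_eq_zero_iff two_ne_zero).mp h) hβ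
  subst hα' hβ' hα0
  refine ⟨β, γ, hβ, hγ0, ?_, ?_, ?_, ?_, ?_⟩
  · linear_combination e3
  · linear_combination e1
  · linear_combination e0
  · rw [hα]; simp
  · rw [hγ]; simp

/-- The automorphisms of a Weierstrass function field preserving the place at infinity are
counted by the `n`-th roots of unity, for any `n` adapted to the coefficients. -/
theorem card_aut [IsAlgClosed k] (h2 : (2 : k) ≠ 0) (h3 : (3 : k) ≠ 0)
    (hK : IsFunctionField k K) (hgen : genus k K = 1) (P : Place k K) (a b : k) (x y : K)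
    (heq : y ^ 2 = x ^ 3 + algebraMap k K a * x + algebraMap k K b)
    (hxy : IntermediateField.adjoin k ({x, y} : Set K) = ⊤)
    (hx : x ∈ L (Finsupp.single P 2 : Divisor k K)) (hx2 : P.ord x = -2)
    (hy : y ∈ L (Finsupp.single P 3 : Divisor k K)) (hy3 : P.ord y = -3)
    (n : ℕ) (hn0 : n ≠ 0) (hnk : (n : k) ≠ 0)
    (hfw : ∀ w : k, w ^ n = 1 → a * w ^ 6 = a * w ^ 2 ∧ b * w ^ 6 = b)
    (hbw : ∀ u v : k, u ≠ 0 → v ≠ 0 → v ^ 2 = u ^ 3 → a * v ^ 2 = a * u → b * v ^ 2 = b →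
      (v / u) ^ n = 1) :
    Nat.card {σ : K ≃ₐ[k] K // ∀ z : K, P.1 (σ z) = P.1 z} = n := by
  classical
  haveI : NeZero n := ⟨hn0⟩
  haveI : NeZero (n : k) := ⟨hnk⟩
  have hxtr : Transcendental k x :=
    Groth.Agent.Lib.Helper27.FF.transcendental_of_ord_ne_zero hK (P := P) (by rw [hx2]; norm_num)
  have hx0 : x ≠ 0 := FF.ne_zero_of_ord_ne_zero P (by rw [hx2]; norm_num)
  have hy0 : y ≠ 0 := FF.ne_zero_of_ord_ne_zero P (by rw [hy3]; norm_num)
  have hex : ∀ ζ : rootsOfUnity n k, ∃ σ : {σ : K ≃ₐ[k] K // ∀ z : K, P.1 (σ z) = P.1 z},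
      σ.1 x = algebraMap k K (((ζ : kˣ) : k) ^ 2) * x ∧
      σ.1 y = algebraMap k K (((ζ : kˣ) : k) ^ 3) * y := by
    intro ζ
    have hζ : ((ζ : kˣ) : k) ^ n = 1 := (mem_rootsOfUnity' n (ζ : kˣ)).mp ζ.2
    have hw0 : ((ζ : kˣ) : k) ≠ 0 := (ζ : kˣ).ne_zero
    obtain ⟨e1, e2⟩ := hfw _ hζ
    obtain ⟨σ, hσx, hσy⟩ := exists_algEquiv_of_scaling x y a b hxtr heq hxy
      (((ζ : kˣ) : k) ^ 2) (((ζ : kˣ) : k) ^ 3) (pow_ne_zero _ hw0) (pow_ne_zero _ hw0)
      (by ring) (by rw [← pow_mul]; exact e1) (by rw [← pow_mul]; exact e2)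
    exact ⟨⟨σ, preserves_of_scaling P hx hx2 σ (pow_ne_zero _ hw0) hσx⟩, hσx, hσy⟩
  choose G hGx hGy using hex
  have hinj : Function.Injective G := by
    intro ζ ζ' h
    have h1 : algebraMap k K (((ζ : kˣ) : k) ^ 2) * x =
        algebraMap k K (((ζ' : kˣ) : k) ^ 2) * x := by
      rw [← hGx ζ, ← hGx ζ', h]
    have h2' : algebraMap k K (((ζ : kˣ) : k) ^ 3) * y =
        algebraMap k K (((ζ' : kˣ) : k) ^ 3) * y := by
      rw [← hGy ζ, ← hGy ζ', h]
    have e1 : ((ζ : kˣ) : k) ^ 2 = ((ζ' : kˣ) : k) ^ 2 :=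
      (algebraMap k K).injective (mul_right_cancel₀ hx0 h1)
    have e2 : ((ζ : kˣ) : k) ^ 3 = ((ζ' : kˣ) : k) ^ 3 :=
      (algebraMap k K).injective (mul_right_cancel₀ hy0 h2')
    have e3 : ((ζ : kˣ) : k) = ((ζ' : kˣ) : k) := by
      have hw0 : ((ζ : kˣ) : k) ^ 2 ≠ 0 := pow_ne_zero _ (ζ : kˣ).ne_zero
      apply mul_right_cancel₀ hw0
      calc ((ζ : kˣ) : k) * ((ζ : kˣ) : k) ^ 2 = ((ζ : kˣ) : k) ^ 3 := by ring
        _ = ((ζ' : kˣ) : k) ^ 3 := e2
        _ = ((ζ' : kˣ) : k) * ((ζ' : kˣ) : k) ^ 2 := by ring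
        _ = ((ζ' : kˣ) : k) * ((ζ : kˣ) : k) ^ 2 := by rw [e1]
    exact Subtype.ext (Units.ext e3)
  have hsurj : Function.Surjective G := by
    rintro ⟨σ, hσ⟩
    obtain ⟨u, v, hu, hv, e1, e2, e3, hσx, hσy⟩ :=
      scaling_of_preserves hK hgen P h2 h3 a b x y heq hx hx2 hy hy3 σ hσ
    have hw0 : v / u ≠ 0 := div_ne_zero hv hu
    have hwn : (v / u) ^ n = 1 := hbw u v hu hv e1 e2 e3
    have hw2 : (v / u) ^ 2 = u := by
      rw [div_pow, div_eq_iff (pow_ne_zero 2 hu)]; linear_combination e1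
    have hw3 : (v / u) ^ 3 = v := by
      rw [div_pow, div_eq_iff (pow_ne_zero 3 hu)]; linear_combination v * e1
    set ζ₀ : rootsOfUnity n k :=
      ⟨Units.mk0 (v / u) hw0, (mem_rootsOfUnity' n _).mpr (by simpa using hwn)⟩ with hζ₀def
    have hζ₀ : ((ζ₀ : kˣ) : k) = v / u := rfl
    refine ⟨ζ₀, ?_⟩
    apply Subtype.ext
    show (G ζ₀).1 = σ
    apply algEquiv_ext_of_adjoin hxy
    · rw [hGx, hσx, hζ₀, hw2]
    · rw [hGy, hσy, hζ₀, hw3]
  have hcard := HasEnoughRootsOfUnity.natCard_rootsOfUnity k n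
  rw [← hcard]
  exact (Nat.card_congr (Equiv.ofBijective G ⟨hinj, hsurj⟩)).symm

end Groth.Agent.Lib.Helper23.Ell
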