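import Mathlib

/-!
# Logarithmic derivative of a rational exponential sum (helper23)
-/

set_option autoImplicit false

open PowerSeries

namespace Groth.Agent.Lib.Helper23.ExpSumA

/-- The series `Σ_{v ≥ 1} a v t^v / v`. -/
noncomputable def gser (a : ℕ → ℚ) : PowerSeries ℚ :=
  PowerSeries.mk fun v : ℕ => if v = 0 then (0 : ℚ) else a v / (v : ℚ)

theorem hasSubst_gser (a : ℕ → ℚ) : HasSubst (gser a) :=
  HasSubst.of_constantCoeff_zero' (by
    rw [gser, ← coeff_zero_eq_constantCoeff_apply, coeff_mk]
    simp)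

theorem derivative_gser (a : ℕ → ℚ) :
    derivative ℚ (gser a) = PowerSeries.mk fun n => a (n + 1) := by
  ext n
  rw [coeff_derivative, coeff_mk, gser, coeff_mk]
  have h : ((n : ℚ) + 1) ≠ 0 := by positivity
  simp only [Nat.add_eq_zero_iff, one_ne_zero, and_false, if_false]
  push_cast
  field_simp

theorem key (a : ℕ → ℚ) (P Q : Polynomial ℚ)
    (h : (exp ℚ).subst (gser a) * (Q : PowerSeries ℚ) = (P : PowerSeries ℚ)) :
    (PowerSeries.mk fun n => a (n + 1)) * ((P * Q : Polynomial ℚ) : PowerSeries ℚ) =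
      ((Polynomial.derivative P * Q - P * Polynomial.derivative Q : Polynomial ℚ) :
        PowerSeries ℚ) := by
  set Z := (exp ℚ).subst (gser a) with hZdef
  have hZ : derivative ℚ Z = Z * derivative ℚ (gser a) := by
    rw [hZdef, derivative_subst (hasSubst_gser a), derivative_exp]
  have e2 := congrArg (derivative ℚ) h
  rw [Derivation.leibniz, hZ, derivative_coe, derivative_coe, smul_eq_mul, smul_eq_mul] at e2
  rw [← derivative_gser, Polynomial.coe_mul, Polynomial.coe_sub, Polynomial.coe_mul,
    Polynomial.coe_mul, ← e2, ← h]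
  ring

end Groth.Agent.Lib.Helper23.ExpSumA
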