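import Mathlib
import Groth.Agent.Lib.Helper23.ExpSumA

/-!
# The linear recurrence satisfied by a rational exponential sum (helper23)
-/

set_option autoImplicit false

open PowerSeries

namespace Groth.Agent.Lib.Helper23.ExpSumB

open Groth.Agent.Lib.Helper23.ExpSumA

theorem subst_ne_zero (a : ℕ → ℚ) : (exp ℚ).subst (gser a) ≠ 0 := by
  intro h0
  have h1 := congrArg (PowerSeries.subst (gser a)) (exp_mul_exp_neg_eq_one (A := ℚ))
  rw [subst_mul (hasSubst_gser a), h0, zero_mul] at h1
  have h2 : subst (gser a) (1 : PowerSeries ℚ) = 1 := by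
    rw [← coe_substAlgHom (hasSubst_gser a)]
    exact map_one _
  rw [h2] at h1
  exact zero_ne_one h1

theorem P_ne_zero (a : ℕ → ℚ) (P Q : Polynomial ℚ) (hQ : Q ≠ 0)
    (h : (exp ℚ).subst (gser a) * (Q : PowerSeries ℚ) = (P : PowerSeries ℚ)) : P ≠ 0 := by
  rintro rfl
  rw [Polynomial.coe_zero] at h
  rcases mul_eq_zero.mp h with h1 | h1
  · exact subst_ne_zero a h1
  · exact hQ (Polynomial.coe_injective ℚ (by rw [h1, Polynomial.coe_zero]))

theorem recurrence (a : ℕ → ℚ) (D R : Polynomial ℚ)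
    (h : (PowerSeries.mk fun n => a (n + 1)) * (D : PowerSeries ℚ) = (R : PowerSeries ℚ))
    (n : ℕ) (hn : R.natDegree < n) (hn2 : D.natDegree ≤ n) :
    ∑ j ∈ D.support, D.coeff j * a (n - j + 1) = 0 := by
  have h1 := congrArg (PowerSeries.coeff n) h
  rw [Polynomial.coeff_coe, Polynomial.coeff_eq_zero_of_natDegree_lt hn, PowerSeries.coeff_mul,
    Finset.Nat.sum_antidiagonal_eq_sum_range_succ_mk] at h1
  have hsub : D.support ⊆ Finset.range (n + 1) := by
    intro j hj
    rw [Finset.mem_range]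
    have := Polynomial.le_natDegree_of_mem_supp j hj
    omega
  have h2 : ∑ j ∈ D.support, D.coeff j * a (n - j + 1) =
      ∑ j ∈ Finset.range (n + 1), D.coeff j * a (n - j + 1) := by
    apply Finset.sum_subset hsub
    intro j _ hj
    rw [Polynomial.notMem_support_iff] at hj
    rw [hj, zero_mul]
  rw [h2, ← h1, ← Finset.sum_flip]
  apply Finset.sum_congr rfl
  intro j hj
  have hj' := Finset.mem_range.mp hj
  rw [coeff_mk, Polynomial.coeff_coe]
  have e1 : n - (n - j) = j := by omega
  rw [e1]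
  ring

end Groth.Agent.Lib.Helper23.ExpSumB
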