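import Mathlib

/-!
# Normal form of elements of `ℚ[X, X⁻¹, 1/(Xⁿ-1)]` and their evaluation (helper23)
-/

set_option autoImplicit false

open Polynomial

namespace Groth.Agent.Lib.Helper23.ExpSumC

/-- The submonoid of `ℚ[X]` generated by the `X^(n+1) - 1`. -/
noncomputable def EMon : Submonoid ℚ[X] :=
  Submonoid.closure (Set.range fun n : ℕ => (X : ℚ[X]) ^ (n + 1) - 1)

theorem gen_ne_zero (n : ℕ) : (X : ℚ[X]) ^ (n + 1) - 1 ≠ 0 := by
  have := X_pow_sub_C_ne_zero (R := ℚ) (Nat.succ_pos n) (1 : ℚ)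
  simpa using this

theorem EMon_ne_zero {E : ℚ[X]} (hE : E ∈ EMon) : E ≠ 0 := by
  induction hE using Submonoid.closure_induction with
  | mem x hx =>
    obtain ⟨n, rfl⟩ := hx
    exact gen_ne_zero n
  | one => exact one_ne_zero
  | mul x y _ _ hx hy => exact mul_ne_zero hx hy

/-- Roots of elements of `EMon` in a field are roots of unity. -/
theorem EMon_root {K : Type*} [Field K] [Algebra ℚ K] {E : ℚ[X]} (hE : E ∈ EMon) (x : K)
    (hx : aeval x E = 0) : ∃ n : ℕ, 0 < n ∧ x ^ n = 1 := by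
  induction hE using Submonoid.closure_induction with
  | mem y hy =>
    obtain ⟨n, rfl⟩ := hy
    refine ⟨n + 1, Nat.succ_pos n, ?_⟩
    simpa [sub_eq_zero] using hx
  | one => simp at hx
  | mul y z _ _ hy hz =>
    rw [map_mul] at hx
    rcases mul_eq_zero.mp hx with h | h
    · exact hy h
    · exact hz h

theorem normal_form (F : RatFunc ℚ)
    (hF : F ∈ Subring.closure
      (({RatFunc.X, (RatFunc.X : RatFunc ℚ)⁻¹} : Set (RatFunc ℚ)) ∪
        Set.range fun n : ℕ => ((RatFunc.X : RatFunc ℚ) ^ (n + 1) - 1)⁻¹)) :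
    ∃ (a : ℕ) (L E : ℚ[X]), E ∈ EMon ∧
      F * RatFunc.X ^ a * algebraMap ℚ[X] (RatFunc ℚ) E = algebraMap ℚ[X] (RatFunc ℚ) L := by
  induction hF using Subring.closure_induction with
  | mem x hx =>
    rcases hx with hx | ⟨n, rfl⟩
    · rcases hx with rfl | hx
      · exact ⟨0, X, 1, one_mem _, by simp [RatFunc.algebraMap_X]⟩
      · rw [Set.mem_singleton_iff] at hx
        subst hx
        refine ⟨1, 1, 1, one_mem _, ?_⟩
        simp [inv_mul_cancel₀ (RatFunc.X_ne_zero (K := ℚ))]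
    · refine ⟨0, 1, X ^ (n + 1) - 1, Submonoid.subset_closure ⟨n, rfl⟩, ?_⟩
      have h1 : algebraMap ℚ[X] (RatFunc ℚ) (X ^ (n + 1) - 1) = RatFunc.X ^ (n + 1) - 1 := by
        simp [RatFunc.algebraMap_X]
      have h2 : (RatFunc.X : RatFunc ℚ) ^ (n + 1) - 1 ≠ 0 := by
        rw [← h1]
        exact RatFunc.algebraMap_ne_zero (gen_ne_zero n)
      rw [h1, pow_zero, mul_one, inv_mul_cancel₀ h2, map_one]
  | zero => exact ⟨0, 0, 1, one_mem _, by simp⟩
  | one => exact ⟨0, 1, 1, one_mem _, by simp⟩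
  | add x y _ _ hx hy =>
    obtain ⟨a₁, L₁, E₁, hE₁, h₁⟩ := hx
    obtain ⟨a₂, L₂, E₂, hE₂, h₂⟩ := hy
    refine ⟨a₁ + a₂, L₁ * X ^ a₂ * E₂ + L₂ * X ^ a₁ * E₁, E₁ * E₂, mul_mem hE₁ hE₂, ?_⟩
    simp only [map_add, map_mul, map_pow, RatFunc.algebraMap_X]
    rw [← h₁, ← h₂]
    ring
  | neg x _ hx =>
    obtain ⟨a₁, L₁, E₁, hE₁, h₁⟩ := hx
    refine ⟨a₁, -L₁, E₁, hE₁, ?_⟩
    rw [map_neg, ← h₁]
    ring
  | mul x y _ _ hx hy =>
    obtain ⟨a₁, L₁, E₁, hE₁, h₁⟩ := hx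
    obtain ⟨a₂, L₂, E₂, hE₂, h₂⟩ := hy
    refine ⟨a₁ + a₂, L₁ * L₂, E₁ * E₂, mul_mem hE₁ hE₂, ?_⟩
    simp only [map_mul]
    rw [← h₁, ← h₂]
    ring

/-- Reduce the normal form to a coprime one. -/
theorem normal_form_coprime (F : RatFunc ℚ)
    (hF : F ∈ Subring.closure
      (({RatFunc.X, (RatFunc.X : RatFunc ℚ)⁻¹} : Set (RatFunc ℚ)) ∪
        Set.range fun n : ℕ => ((RatFunc.X : RatFunc ℚ) ^ (n + 1) - 1)⁻¹)) :
    ∃ (a : ℕ) (L E E₀ : ℚ[X]), E₀ ∈ EMon ∧ E ∣ E₀ ∧ IsCoprime L E ∧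
      F * RatFunc.X ^ a * algebraMap ℚ[X] (RatFunc ℚ) E = algebraMap ℚ[X] (RatFunc ℚ) L := by
  obtain ⟨a, L, E, hE, h⟩ := normal_form F hF
  have hE0 : E ≠ 0 := EMon_ne_zero hE
  set g := GCDMonoid.gcd L E with hg
  have hg0 : g ≠ 0 := gcd_ne_zero_of_right hE0
  have hL : g * (L / g) = L := EuclideanDomain.mul_div_cancel' hg0 (gcd_dvd_left L E)
  have hE' : g * (E / g) = E := EuclideanDomain.mul_div_cancel' hg0 (gcd_dvd_right L E)
  refine ⟨a, L / g, E / g, E, hE, ⟨g, by rw [mul_comm]; exact hE'.symm⟩,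
    isCoprime_div_gcd_div_gcd hE0, ?_⟩
  have hg1 : algebraMap ℚ[X] (RatFunc ℚ) g ≠ 0 := RatFunc.algebraMap_ne_zero hg0
  apply mul_left_cancel₀ hg1
  rw [← map_mul, hL, ← h]
  conv_rhs => rw [← hE', map_mul]
  ring

/-- Evaluation of a rational function written as a (not necessarily reduced) fraction. -/
theorem eval_eq_div (x : RatFunc ℚ) (p d : ℚ[X])
    (h : x * algebraMap ℚ[X] (RatFunc ℚ) d = algebraMap ℚ[X] (RatFunc ℚ) p) (c : ℚ)
    (hd : d.eval c ≠ 0) : x.eval (RingHom.id ℚ) c = p.eval c / d.eval c := by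
  have hd0 : d ≠ 0 := by
    rintro rfl
    simp at hd
  have hx : x = algebraMap _ _ p / algebraMap _ _ d := by
    rw [eq_div_iff (RatFunc.algebraMap_ne_zero hd0)]
    exact h
  have hcross : x.num * d = p * x.denom := (RatFunc.num_mul_eq_mul_denom_iff hd0).mpr hx
  have hdvd : x.denom ∣ d := by
    have h1 : x.denom ∣ x.num * d := ⟨p, by rw [hcross]; ring⟩
    exact (RatFunc.isCoprime_num_denom x).symm.dvd_of_dvd_mul_left h1
  have hden : x.denom.eval c ≠ 0 := by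
    intro h0
    obtain ⟨r, hr⟩ := hdvd
    apply hd
    rw [hr, eval_mul, h0, zero_mul]
  rw [RatFunc.eval, eval₂_id, eval₂_id, div_eq_div_iff hden hd]
  have := congrArg (Polynomial.eval c) hcross
  rw [eval_mul, eval_mul] at this
  exact this

end Groth.Agent.Lib.Helper23.ExpSumC
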