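import Mathlib
import Groth.Agent.Lib.Helper23.ExpSumC

/-!
# A rational function in `ℚ[X, X⁻¹, 1/(Xⁿ-1)]` whose values at `q^v` satisfy a linear recurrence
is a Laurent polynomial (helper23)
-/

set_option autoImplicit false

open Polynomial

namespace Groth.Agent.Lib.Helper23.ExpSumD

open Groth.Agent.Lib.Helper23.ExpSumC

/-- Scaling the variable. -/
noncomputable def sc (c : ℚ) (p : ℚ[X]) : ℚ[X] := p.comp (C c * X)

theorem eval_sc (c u : ℚ) (p : ℚ[X]) : (sc c p).eval u = p.eval (c * u) := by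
  simp [sc, eval_comp]

theorem aeval_sc {K : Type*} [Field K] [Algebra ℚ K] (c : ℚ) (w : K) (p : ℚ[X]) :
    aeval w (sc c p) = aeval (algebraMap ℚ K c * w) p := by
  simp [sc, aeval_comp]

theorem EMon_eval_ne_zero {E₀ : ℚ[X]} (hE₀ : E₀ ∈ EMon) (x : ℚ) (hx : 1 < x) :
    E₀.eval x ≠ 0 := by
  intro h0
  obtain ⟨n, hn, hxn⟩ := EMon_root (K := ℚ) hE₀ x (by rw [coe_aeval_eq_eval]; exact h0)
  have := one_lt_pow₀ hx hn.ne'
  rw [hxn] at this
  exact lt_irrefl _ this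

theorem eval_ne_zero_of_dvd {E E₀ : ℚ[X]} (hE₀ : E₀ ∈ EMon) (hdvd : E ∣ E₀) (x : ℚ)
    (hx : 1 < x) : E.eval x ≠ 0 := by
  intro h0
  obtain ⟨r, rfl⟩ := hdvd
  exact EMon_eval_ne_zero hE₀ x hx (by rw [eval_mul, h0, zero_mul])

section Main

variable (qq : ℚ) (hqq : 1 < qq) (a : ℕ) (L E E₀ : ℚ[X]) (hE₀ : E₀ ∈ EMon) (hdvd : E ∣ E₀)
  (hcop : IsCoprime L E)

/-- The polynomial obtained from the recurrence by clearing denominators. -/
noncomputable def Psi (D : ℚ[X]) : ℚ[X] :=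
  ∑ j ∈ D.support, C (D.coeff j) * sc (qq ^ (D.natDegree - j)) L *
    ∏ i ∈ D.support.erase j, sc (qq ^ (D.natDegree - i)) (X ^ a * E)

include hqq hE₀ hdvd in
theorem den_ne_zero (k m : ℕ) (hm : 0 < m) :
    (sc (qq ^ k) (X ^ a * E)).eval (qq ^ m) ≠ 0 := by
  rw [eval_sc, eval_mul, eval_pow, eval_X, ← pow_add]
  have h1 : 1 < qq ^ (k + m) := one_lt_pow₀ hqq (by omega)
  exact mul_ne_zero (pow_ne_zero _ (by positivity)) (eval_ne_zero_of_dvd hE₀ hdvd _ h1)

include hqq hE₀ hdvd in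
theorem Psi_eval (D : ℚ[X]) (m : ℕ) (hm : 0 < m)
    (hrec : ∑ j ∈ D.support, D.coeff j *
      (L.eval (qq ^ (m + (D.natDegree - j))) /
        ((qq ^ (m + (D.natDegree - j))) ^ a * E.eval (qq ^ (m + (D.natDegree - j))))) = 0) :
    (Psi qq a L E D).eval (qq ^ m) = 0 := by
  have hden : ∀ i, (sc (qq ^ (D.natDegree - i)) (X ^ a * E)).eval (qq ^ m) ≠ 0 :=
    fun i => den_ne_zero qq hqq a E E₀ hE₀ hdvd _ m hm
  have hterm : ∀ j ∈ D.support,
      (C (D.coeff j) * sc (qq ^ (D.natDegree - j)) L *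
        ∏ i ∈ D.support.erase j, sc (qq ^ (D.natDegree - i)) (X ^ a * E)).eval (qq ^ m) =
      (D.coeff j * (L.eval (qq ^ (m + (D.natDegree - j))) /
        ((qq ^ (m + (D.natDegree - j))) ^ a * E.eval (qq ^ (m + (D.natDegree - j)))))) *
      ∏ i ∈ D.support, (sc (qq ^ (D.natDegree - i)) (X ^ a * E)).eval (qq ^ m) := by
    intro j hj
    rw [← Finset.mul_prod_erase _ _ hj, eval_mul, eval_mul, eval_C, eval_prod, eval_sc]
    have h1 : (sc (qq ^ (D.natDegree - j)) (X ^ a * E)).eval (qq ^ m) =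
        (qq ^ (m + (D.natDegree - j))) ^ a * E.eval (qq ^ (m + (D.natDegree - j))) := by
      rw [eval_sc, eval_mul, eval_pow, eval_X, ← pow_add, add_comm]
    have h2 := hden j
    rw [h1] at h2 ⊢
    rw [← pow_add, add_comm (D.natDegree - j) m]
    have h3 := right_ne_zero_of_mul h2
    have h4 := left_ne_zero_of_mul h2
    field_simp
  rw [Psi, eval_finsetSum, Finset.sum_congr rfl hterm, ← Finset.sum_mul, hrec, zero_mul]

end Main

end Groth.Agent.Lib.Helper23.ExpSumD
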