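import Mathlib
import Groth.Agent.Lib.Helper23.ExpSumD

/-!
# The pole argument (helper23)
-/

set_option autoImplicit false

open Polynomial

namespace Groth.Agent.Lib.Helper23.ExpSumE

open Groth.Agent.Lib.Helper23.ExpSumC Groth.Agent.Lib.Helper23.ExpSumD

variable (qq : ℚ) (hqq : 1 < qq) (a : ℕ) (L E E₀ : ℚ[X]) (hE₀ : E₀ ∈ EMon) (hdvd : E ∣ E₀)
  (hcop : IsCoprime L E)

include hqq hE₀ hdvd in
theorem Psi_eq_zero (D : ℚ[X]) (M : ℕ)
    (hrec : ∀ m, M ≤ m → 0 < m → ∑ j ∈ D.support, D.coeff j *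
      (L.eval (qq ^ (m + (D.natDegree - j))) /
        ((qq ^ (m + (D.natDegree - j))) ^ a * E.eval (qq ^ (m + (D.natDegree - j))))) = 0) :
    Psi qq a L E D = 0 := by
  apply Polynomial.eq_zero_of_infinite_isRoot
  have hq0 : (0 : ℚ) < qq := by linarith
  have hinj : Function.Injective (fun m : ℕ => qq ^ (m + M + 1)) := by
    intro m m' h
    have := pow_right_injective₀ hq0 hqq.ne' h
    omega
  refine Set.infinite_of_injective_forall_mem hinj (fun m => ?_)
  exact Psi_eval qq hqq a L E E₀ hE₀ hdvd D (m + M + 1) (by omega)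
    (hrec _ (by omega) (by omega))

include hqq hE₀ hdvd hcop in
theorem natDegree_eq_zero (D : ℚ[X]) (hD : D ≠ 0) (hPsi : Psi qq a L E D = 0) :
    E.natDegree = 0 := by
  by_contra hdeg
  have hq0 : (0 : ℚ) < qq := by linarith
  have hdeg' : E.degree ≠ 0 := by
    intro h
    exact hdeg (natDegree_eq_of_degree_eq_some h)
  obtain ⟨ζ, hζ⟩ := IsAlgClosed.exists_aeval_eq_zero (AlgebraicClosure ℚ) E hdeg'
  obtain ⟨j₀, hj₀⟩ : D.support.Nonempty := Polynomial.nonempty_support_iff.mpr hD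
  -- ζ is a root of unity
  have hζ₀ : aeval ζ E₀ = 0 := by
    obtain ⟨r, rfl⟩ := hdvd
    rw [map_mul, hζ, zero_mul]
  obtain ⟨n', hn', hζn⟩ := EMon_root hE₀ ζ hζ₀
  have hζne : ζ ≠ 0 := by
    rintro rfl
    rw [zero_pow hn'.ne'] at hζn
    exact zero_ne_one hζn
  set e := D.natDegree with he
  let cK : ℕ → AlgebraicClosure ℚ := fun j => algebraMap ℚ (AlgebraicClosure ℚ) (qq ^ (e - j))
  have hcK : ∀ j, cK j ≠ 0 := fun j => by
    simp only [cK]
    rw [Ne, map_eq_zero]
    exact pow_ne_zero _ hq0.ne'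
  set w := ζ / cK j₀ with hw
  have hw0 : w ≠ 0 := div_ne_zero hζne (hcK j₀)
  have hcw : cK j₀ * w = ζ := by rw [hw]; exact mul_div_cancel₀ ζ (hcK j₀)
  have h0 := congrArg (aeval w) hPsi
  rw [Psi, map_sum, map_zero] at h0
  have hden0 : aeval w (sc (qq ^ (e - j₀)) (X ^ a * E)) = 0 := by
    rw [aeval_sc]
    change aeval (cK j₀ * w) (X ^ a * E) = 0
    rw [hcw, map_mul, hζ, mul_zero]
  rw [Finset.sum_eq_single j₀] at h0
  · rw [map_mul, map_mul, aeval_C, map_prod] at h0
    -- all factors are nonzero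
    have hd : algebraMap ℚ (AlgebraicClosure ℚ) (D.coeff j₀) ≠ 0 := by
      rw [Ne, map_eq_zero]
      exact Polynomial.mem_support_iff.mp hj₀
    have hL : aeval w (sc (qq ^ (e - j₀)) L) ≠ 0 := by
      rw [aeval_sc]
      change aeval (cK j₀ * w) L ≠ 0
      rw [hcw]
      obtain ⟨s, t, hst⟩ := hcop
      intro hL0
      have := congrArg (aeval ζ) hst
      rw [map_add, map_mul, map_mul, hL0, hζ, mul_zero, mul_zero, add_zero, map_one] at this
      exact zero_ne_one this
    have hprod : ∏ i ∈ D.support.erase j₀, aeval w (sc (qq ^ (e - i)) (X ^ a * E)) ≠ 0 := by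
      rw [Finset.prod_ne_zero_iff]
      intro i hi
      obtain ⟨hine, hisupp⟩ := Finset.mem_erase.mp hi
      rw [aeval_sc]
      change aeval (cK i * w) (X ^ a * E) ≠ 0
      rw [map_mul, map_pow, aeval_X]
      refine mul_ne_zero (pow_ne_zero _ (mul_ne_zero (hcK i) hw0)) ?_
      intro hEi
      have hE₀i : aeval (cK i * w) E₀ = 0 := by
        obtain ⟨r, rfl⟩ := hdvd
        rw [map_mul, hEi, zero_mul]
      obtain ⟨n, hn, hin⟩ := EMon_root hE₀ _ hE₀i
      -- compare the two roots of unity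
      have h1 : (cK i * w) ^ (n * n') = 1 := by rw [pow_mul, hin, one_pow]
      have h2 : (cK j₀ * w) ^ (n * n') = 1 := by rw [hcw, mul_comm n n', pow_mul, hζn, one_pow]
      rw [mul_pow] at h1 h2
      have h3 : cK i ^ (n * n') = cK j₀ ^ (n * n') := by
        have hwn : w ^ (n * n') ≠ 0 := pow_ne_zero _ hw0
        exact mul_right_cancel₀ hwn (h1.trans h2.symm)
      simp only [cK] at h3
      rw [← map_pow, ← map_pow] at h3
      have h4 := (algebraMap ℚ (AlgebraicClosure ℚ)).injective h3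
      rw [← pow_mul, ← pow_mul] at h4
      have h5 := pow_right_injective₀ hq0 hqq.ne' h4
      have hnn : 0 < n * n' := Nat.mul_pos hn hn'
      have h6 : e - i = e - j₀ := Nat.eq_of_mul_eq_mul_right hnn h5
      have hi_le : i ≤ e := Polynomial.le_natDegree_of_mem_supp i hisupp
      have hj_le : j₀ ≤ e := Polynomial.le_natDegree_of_mem_supp j₀ hj₀
      omega
    exact mul_ne_zero (mul_ne_zero hd hL) hprod h0
  · intro j hj hjne
    rw [map_mul, map_prod]
    rw [Finset.prod_eq_zero (i := j₀) (Finset.mem_erase.mpr ⟨hjne.symm, hj₀⟩) hden0, mul_zero]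
  · intro h
    exact absurd hj₀ h

end Groth.Agent.Lib.Helper23.ExpSumE
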