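import Mathlib
import Groth.Agent.Lib.Helper23.ExpSumB
import Groth.Agent.Lib.Helper23.ExpSumE

/-!
# Rational exponential sums: the function is a Laurent polynomial (helper23)
-/

set_option autoImplicit false

open Polynomial

namespace Groth.Agent.Lib.Helper23.ExpSumF

open Groth.Agent.Lib.Helper23.ExpSumC Groth.Agent.Lib.Helper23.ExpSumD
  Groth.Agent.Lib.Helper23.ExpSumE

theorem laurent (qq : ℚ) (hqq : 1 < qq) (F : RatFunc ℚ)
    (hF : F ∈ Subring.closure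
      (({RatFunc.X, (RatFunc.X : RatFunc ℚ)⁻¹} : Set (RatFunc ℚ)) ∪
        Set.range fun n : ℕ => ((RatFunc.X : RatFunc ℚ) ^ (n + 1) - 1)⁻¹))
    (D R : ℚ[X]) (hD : D ≠ 0)
    (h : (PowerSeries.mk fun n => F.eval (RingHom.id ℚ) (qq ^ (n + 1))) * (D : PowerSeries ℚ) =
      (R : PowerSeries ℚ)) :
    ∃ (a : ℕ) (G : ℚ[X]), F * RatFunc.X ^ a = algebraMap ℚ[X] (RatFunc ℚ) G := by
  obtain ⟨a, L, E, E₀, hE₀, hdvd, hcop, hnf⟩ := normal_form_coprime F hF
  have hq0 : (0 : ℚ) < qq := by linarith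
  -- values of `F`
  have hval : ∀ v : ℕ, 0 < v → F.eval (RingHom.id ℚ) (qq ^ v) =
      L.eval (qq ^ v) / ((qq ^ v) ^ a * E.eval (qq ^ v)) := by
    intro v hv
    have h1 : 1 < qq ^ v := one_lt_pow₀ hqq hv.ne'
    have h2 : E.eval (qq ^ v) ≠ 0 := eval_ne_zero_of_dvd hE₀ hdvd _ h1
    have h3 : (X ^ a * E : ℚ[X]).eval (qq ^ v) ≠ 0 := by
      rw [eval_mul, eval_pow, eval_X]
      exact mul_ne_zero (pow_ne_zero _ (pow_ne_zero _ hq0.ne')) h2
    have h4 := eval_eq_div F L (X ^ a * E) (by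
      rw [map_mul, map_pow, RatFunc.algebraMap_X, ← mul_assoc]
      exact hnf) (qq ^ v) h3
    rw [h4, eval_mul, eval_pow, eval_X]
  -- the recurrence
  have hrec : ∀ m, R.natDegree + 2 ≤ m → 0 < m → ∑ j ∈ D.support, D.coeff j *
      (L.eval (qq ^ (m + (D.natDegree - j))) /
        ((qq ^ (m + (D.natDegree - j))) ^ a * E.eval (qq ^ (m + (D.natDegree - j))))) = 0 := by
    intro m hm hm0
    have h1 := ExpSumB.recurrence (fun v => F.eval (RingHom.id ℚ) (qq ^ v)) D R h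
      (m + D.natDegree - 1) (by omega) (by omega)
    rw [← h1]
    apply Finset.sum_congr rfl
    intro j hj
    have hj_le : j ≤ D.natDegree := Polynomial.le_natDegree_of_mem_supp j hj
    have e1 : m + D.natDegree - 1 - j + 1 = m + (D.natDegree - j) := by omega
    rw [e1, hval _ (by omega)]
  have hPsi := Psi_eq_zero qq hqq a L E E₀ hE₀ hdvd D (R.natDegree + 2) hrec
  have hdeg := natDegree_eq_zero qq hqq a L E E₀ hE₀ hdvd hcop D hD hPsi
  obtain ⟨ε, hε⟩ : ∃ ε : ℚ, E = C ε := ⟨E.coeff 0, eq_C_of_natDegree_eq_zero hdeg⟩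
  have hE0 : E ≠ 0 := by
    rintro rfl
    exact EMon_ne_zero hE₀ (zero_dvd_iff.mp hdvd)
  have hε0 : ε ≠ 0 := by
    rintro rfl
    exact hE0 (by rw [hε, C_0])
  refine ⟨a, C ε⁻¹ * L, ?_⟩
  rw [map_mul, ← hnf, hε, ← mul_assoc, mul_comm (algebraMap ℚ[X] (RatFunc ℚ) (C ε⁻¹)),
    mul_assoc, ← map_mul, ← C_mul, inv_mul_cancel₀ hε0, C_1, map_one, mul_one]

end Groth.Agent.Lib.Helper23.ExpSumF
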