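import Mathlib

/-!
# A residue computation for logarithmic derivatives of polynomials (helper23)
-/

set_option autoImplicit false

open Polynomial

namespace Groth.Agent.Lib.Helper23.ExpSumG

theorem derivative_pow_mul (x : ℚ) (m : ℕ) :
    derivative ((X - C x) ^ m) * (X - C x) = C (m : ℚ) * (X - C x) ^ m := by
  induction m with
  | zero => simp
  | succ m ih =>
    have h1 : derivative (X - C x : ℚ[X]) = 1 := by simp
    rw [pow_succ, derivative_mul, h1]
    push_cast
    rw [C_add, C_1]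
    linear_combination (X - C x) * ih

theorem derivative_decomp (x : ℚ) (m : ℕ) (P₁ : ℚ[X]) :
    derivative ((X - C x) ^ m * P₁) * (X - C x) =
      (X - C x) ^ m * (C (m : ℚ) * P₁ + (X - C x) * derivative P₁) := by
  rw [derivative_mul]
  linear_combination P₁ * derivative_pow_mul x m

theorem residue (P₁ Q₁ U W : ℚ[X]) (m m' : ℕ) (x c b : ℚ) (hU : U.eval x ≠ 0)
    (hP₁ : P₁.eval x ≠ 0) (hQ₁ : Q₁.eval x ≠ 0)
    (h : (C c * U + (X - C x) * W) * (((X - C x) ^ m * P₁) * ((X - C x) ^ m' * Q₁)) =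
      C b * (X - C x) * U *
        (derivative ((X - C x) ^ m * P₁) * ((X - C x) ^ m' * Q₁) -
          ((X - C x) ^ m * P₁) * derivative ((X - C x) ^ m' * Q₁))) :
    c = b * ((m : ℚ) - (m' : ℚ)) := by
  set Y : ℚ[X] := X - C x with hY
  have hY0 : Y ≠ 0 := X_sub_C_ne_zero x
  have hdP := derivative_decomp x m P₁
  have hdQ := derivative_decomp x m' Q₁
  rw [← hY] at hdP hdQ
  have hcancel : Y ^ (m + m') * Y * ((C c * U + Y * W) * (P₁ * Q₁)) =
      Y ^ (m + m') * Y * (C b * U *
        ((C (m : ℚ) * P₁ + Y * derivative P₁) * Q₁ - P₁ * (C (m' : ℚ) * Q₁ + Y * derivative Q₁))) := by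
    calc Y ^ (m + m') * Y * ((C c * U + Y * W) * (P₁ * Q₁))
        = Y * ((C c * U + Y * W) * ((Y ^ m * P₁) * (Y ^ m' * Q₁))) := by ring
      _ = Y * (C b * Y * U * (derivative (Y ^ m * P₁) * (Y ^ m' * Q₁) -
            (Y ^ m * P₁) * derivative (Y ^ m' * Q₁))) := by rw [h]
      _ = C b * Y * U * ((derivative (Y ^ m * P₁) * Y) * (Y ^ m' * Q₁) -
            (Y ^ m * P₁) * (derivative (Y ^ m' * Q₁) * Y)) := by ring
      _ = _ := by rw [hdP, hdQ]; ring
  have h2 := mul_left_cancel₀ (mul_ne_zero (pow_ne_zero _ hY0) hY0) hcancel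
  have h3 := congrArg (Polynomial.eval x) h2
  have hYx : Y.eval x = 0 := by simp [hY]
  simp only [eval_mul, eval_add, eval_sub, eval_C, hYx, zero_mul, add_zero] at h3
  have h4 : U.eval x * P₁.eval x * Q₁.eval x ≠ 0 := mul_ne_zero (mul_ne_zero hU hP₁) hQ₁
  apply mul_right_cancel₀ h4
  linear_combination h3

/-- The geometric series. -/
theorem geom_mul (β : ℚ) :
    (PowerSeries.mk fun n => β ^ (n + 1)) * ((1 - C β * X : ℚ[X]) : PowerSeries ℚ) =
      ((C β : ℚ[X]) : PowerSeries ℚ) := by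
  rw [Polynomial.coe_sub, Polynomial.coe_one, Polynomial.coe_mul, Polynomial.coe_C,
    Polynomial.coe_X]
  have e : (PowerSeries.mk fun n => β ^ (n + 1)) * (1 - PowerSeries.C β * PowerSeries.X) =
      (PowerSeries.mk fun n => β ^ (n + 1)) -
        PowerSeries.C β * ((PowerSeries.mk fun n => β ^ (n + 1)) * PowerSeries.X) := by ring
  rw [e]
  ext n
  cases n with
  | zero =>
    simp
  | succ n =>
    rw [map_sub, PowerSeries.coeff_C_mul, PowerSeries.coeff_succ_mul_X, PowerSeries.coeff_mk,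
      PowerSeries.coeff_mk, PowerSeries.coeff_C]
    simp only [Nat.add_eq_zero_iff, one_ne_zero, and_false, if_false]
    ring

end Groth.Agent.Lib.Helper23.ExpSumG
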