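import Mathlib
import Groth.Agent.Lib.Helper23.ExpSumG

/-!
# Integrality of the coefficients (helper23)
-/

set_option autoImplicit false

open Polynomial

namespace Groth.Agent.Lib.Helper23.ExpSumH

open Groth.Agent.Lib.Helper23.ExpSumG

section

variable (qq : ℚ) (hqq : 1 < qq) (a : ℕ) (G : ℚ[X])

/-- The characters. -/
noncomputable def β (l : ℕ) : ℚ := qq ^ l / qq ^ a

include hqq in
theorem β_ne_zero (l : ℕ) : β qq a l ≠ 0 := by
  have hq0 : (0 : ℚ) < qq := by linarith
  exact div_ne_zero (pow_ne_zero _ hq0.ne') (pow_ne_zero _ hq0.ne')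

include hqq in
theorem β_injective : Function.Injective (β qq a) := by
  have hq0 : (0 : ℚ) < qq := by linarith
  intro l l' h
  unfold β at h
  have h1 : qq ^ l = qq ^ l' := by
    have hne : qq ^ a ≠ 0 := pow_ne_zero _ hq0.ne'
    field_simp at h
    exact h
  exact pow_right_injective₀ hq0 hqq.ne' h1

include hqq in
theorem gd_eq (n : ℕ) :
    G.eval (qq ^ (n + 1)) / (qq ^ (n + 1)) ^ a =
      ∑ l ∈ G.support, G.coeff l * β qq a l ^ (n + 1) := by
  have hq0 : (0 : ℚ) < qq := by linarith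
  rw [eval_eq_sum, Polynomial.sum_def, Finset.sum_div]
  apply Finset.sum_congr rfl
  intro l _
  unfold β
  rw [div_pow, ← pow_mul, ← pow_mul, ← pow_mul, ← pow_mul, mul_comm l, mul_comm a, mul_div_assoc]

/-- The polynomial `∏ (1 - β_l X)`. -/
noncomputable def T (S : Finset ℕ) : ℚ[X] := ∏ l ∈ S, (1 - C (β qq a l) * X)

include hqq in
theorem gd_mul_T :
    (PowerSeries.mk fun n => G.eval (qq ^ (n + 1)) / (qq ^ (n + 1)) ^ a) *
      ((T qq a G.support : ℚ[X]) : PowerSeries ℚ) =
    ((∑ l ∈ G.support, C (G.coeff l * β qq a l) * T qq a (G.support.erase l) : ℚ[X]) :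
      PowerSeries ℚ) := by
  have h1 : (PowerSeries.mk fun n => G.eval (qq ^ (n + 1)) / (qq ^ (n + 1)) ^ a) =
      ∑ l ∈ G.support, PowerSeries.C (G.coeff l) *
        (PowerSeries.mk fun n => β qq a l ^ (n + 1)) := by
    ext n
    rw [PowerSeries.coeff_mk, gd_eq qq hqq a G n, map_sum]
    apply Finset.sum_congr rfl
    intro l _
    rw [PowerSeries.coeff_C_mul, PowerSeries.coeff_mk]
  rw [h1, Finset.sum_mul]
  have h2 : ((∑ l ∈ G.support, C (G.coeff l * β qq a l) * T qq a (G.support.erase l) : ℚ[X]) :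
      PowerSeries ℚ) = ∑ l ∈ G.support,
        ((C (G.coeff l * β qq a l) * T qq a (G.support.erase l) : ℚ[X]) : PowerSeries ℚ) := by
    exact map_sum (Polynomial.coeToPowerSeries.ringHom (R := ℚ)) _ _
  rw [h2]
  apply Finset.sum_congr rfl
  intro l hl
  have h3 : T qq a G.support = (1 - C (β qq a l) * X) * T qq a (G.support.erase l) := by
    unfold T
    exact (Finset.mul_prod_erase G.support (fun i => (1 - C (β qq a i) * X : ℚ[X])) hl).symm
  rw [h3, Polynomial.coe_mul, Polynomial.coe_mul, mul_assoc, ← mul_assoc (PowerSeries.mk _),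
    geom_mul, C_mul, Polynomial.coe_mul, Polynomial.coe_C, Polynomial.coe_C]
  ring

end

end Groth.Agent.Lib.Helper23.ExpSumH
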