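import Mathlib
import Groth.Agent.Lib.Helper23.ExpSumH

/-!
# Integrality of the coefficients, conclusion (helper23)
-/

set_option autoImplicit false

open Polynomial

namespace Groth.Agent.Lib.Helper23.ExpSumI

open Groth.Agent.Lib.Helper23.ExpSumG Groth.Agent.Lib.Helper23.ExpSumH

theorem coeff_int (qq : ℚ) (hqq : 1 < qq) (a : ℕ) (G P Q : ℚ[X]) (hP : P ≠ 0) (hQ : Q ≠ 0)
    (h : (PowerSeries.mk fun n => G.eval (qq ^ (n + 1)) / (qq ^ (n + 1)) ^ a) *
        ((P * Q : ℚ[X]) : PowerSeries ℚ) =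
      ((derivative P * Q - P * derivative Q : ℚ[X]) : PowerSeries ℚ)) (k : ℕ) :
    ∃ z : ℤ, G.coeff k = z := by
  by_cases hk : k ∈ G.support
  swap
  · exact ⟨0, by simpa using Polynomial.notMem_support_iff.mp hk⟩
  -- polynomial identity
  have hpoly : (∑ l ∈ G.support, C (G.coeff l * β qq a l) * T qq a (G.support.erase l)) * (P * Q) =
      T qq a G.support * (derivative P * Q - P * derivative Q) := by
    apply Polynomial.coe_injective ℚ
    rw [Polynomial.coe_mul, Polynomial.coe_mul (φ := T qq a G.support), ← gd_mul_T qq hqq a G,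
      ← h]
    ring
  have hβk0 : β qq a k ≠ 0 := β_ne_zero qq hqq a k
  set x : ℚ := (β qq a k)⁻¹ with hx
  have hfac : (1 - C (β qq a k) * X : ℚ[X]) = C (-β qq a k) * (X - C x) := by
    rw [mul_sub, ← C_mul, hx, neg_mul, mul_inv_cancel₀ hβk0, C_neg, C_neg, C_1]
    ring
  have hT : T qq a G.support = C (-β qq a k) * (X - C x) * T qq a (G.support.erase k) := by
    unfold T
    rw [← Finset.mul_prod_erase G.support (fun i => (1 - C (β qq a i) * X : ℚ[X])) hk, hfac]
  -- the other terms are divisible by `X - C x`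
  set W : ℚ[X] := ∑ l ∈ G.support.erase k, C (G.coeff l * β qq a l) *
    (C (-β qq a k) * T qq a ((G.support.erase l).erase k)) with hW
  have hsum : ∑ l ∈ G.support, C (G.coeff l * β qq a l) * T qq a (G.support.erase l) =
      C (G.coeff k * β qq a k) * T qq a (G.support.erase k) + (X - C x) * W := by
    rw [← Finset.add_sum_erase G.support _ hk, hW, Finset.mul_sum]
    congr 1
    apply Finset.sum_congr rfl
    intro l hl
    obtain ⟨hlk, hlS⟩ := Finset.mem_erase.mp hl
    have hk' : k ∈ G.support.erase l := Finset.mem_erase.mpr ⟨hlk.symm, hk⟩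
    have h1 : T qq a (G.support.erase l) =
        (1 - C (β qq a k) * X) * T qq a ((G.support.erase l).erase k) := by
      unfold T
      exact (Finset.mul_prod_erase (G.support.erase l)
        (fun i => (1 - C (β qq a i) * X : ℚ[X])) hk').symm
    rw [h1, hfac]
    ring
  -- `U(x) ≠ 0`
  have hU : (T qq a (G.support.erase k)).eval x ≠ 0 := by
    unfold T
    rw [eval_prod, Finset.prod_ne_zero_iff]
    intro l hl
    obtain ⟨hlk, -⟩ := Finset.mem_erase.mp hl
    rw [eval_sub, eval_one, eval_mul, eval_C, eval_X, hx]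
    intro h0
    have h1 : β qq a l = β qq a k := by
      field_simp at h0
      linarith
    exact hlk (β_injective qq hqq a h1)
  -- decompose `P` and `Q`
  obtain ⟨P₁, hP₁, hndP⟩ := exists_eq_pow_rootMultiplicity_mul_and_not_dvd P hP x
  obtain ⟨Q₁, hQ₁, hndQ⟩ := exists_eq_pow_rootMultiplicity_mul_and_not_dvd Q hQ x
  have hP₁x : P₁.eval x ≠ 0 := fun h0 => hndP (dvd_iff_isRoot.mpr h0)
  have hQ₁x : Q₁.eval x ≠ 0 := fun h0 => hndQ (dvd_iff_isRoot.mpr h0)
  have hres := residue P₁ Q₁ (T qq a (G.support.erase k)) W (P.rootMultiplicity x)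
    (Q.rootMultiplicity x) x (G.coeff k * β qq a k) (-β qq a k) hU hP₁x hQ₁x (by
      rw [← hP₁, ← hQ₁, ← hsum, hpoly, hT])
  refine ⟨(Q.rootMultiplicity x : ℤ) - (P.rootMultiplicity x : ℤ), ?_⟩
  push_cast
  apply mul_right_cancel₀ hβk0
  rw [hres]
  ring

end Groth.Agent.Lib.Helper23.ExpSumI
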