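import Mathlib

/-!
# Linearity of left derived functors and of `Ext` in the first variable (helper23)

* `homologyMap_smul'` : `homologyMap (a • φ) i = a • homologyMap φ i` for homological complexes.
* `leftDerived_map_smul` : `(G.leftDerived i).map (a • 𝟙 Q) = a • 𝟙 _` for a linear additive functor.
* `leftDerived_smul_id_eq_zero` : if `a • 𝟙 Q = 0` then `a • 𝟙 ((G.leftDerived i).obj Q) = 0`.
* `ext_smul_eq_zero` : if `a • 𝟙 Q = 0` then `a` kills `Ext^i(Q, X)` (Mathlib's `Ext A (ModuleCat A) i`).
* `ext_quotient_smul_eq_zero` : `a ∈ J` kills `Ext^i(A/J, X)`.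
-/

open CategoryTheory Limits Opposite

universe u

namespace Groth.Agent.Lib.Helper23.ExtLinear

theorem homologyMap_smul' {A : Type*} [CommRing A] {C : Type*} [Category C] [Abelian C] [Linear A C]
    {ι : Type*} {c : ComplexShape ι} {K L : HomologicalComplex C c} (φ : K ⟶ L) (a : A) (i : ι) :
    HomologicalComplex.homologyMap (a • φ) i = a • HomologicalComplex.homologyMap φ i := by
  have h : (HomologicalComplex.shortComplexFunctor C c i).map (a • φ) =
      a • (HomologicalComplex.shortComplexFunctor C c i).map φ := by
    ext <;> rfl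
  change ShortComplex.homologyMap ((HomologicalComplex.shortComplexFunctor C c i).map (a • φ)) = _
  rw [h, ShortComplex.homologyMap_smul]
  rfl

theorem leftDerived_map_smul {A : Type*} [CommRing A] {C D : Type*} [Category C] [Category D]
    [Abelian C] [EnoughProjectives C] [Abelian D] [Linear A C] [Linear A D]
    (G : C ⥤ D) [G.Additive] [G.Linear A] (Q : C) (a : A) (i : ℕ) :
    (G.leftDerived i).map (a • 𝟙 Q) = a • 𝟙 _ := by
  let P := ProjectiveResolution.of Q
  have hnat := ProjectiveResolution.isoLeftDerivedObj_hom_naturality (a • 𝟙 Q) P P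
    (a • 𝟙 P.complex) (by simp) G i
  have h2 : (G.mapHomologicalComplex _ ⋙ HomologicalComplex.homologyFunctor _ _ i).map
      (a • 𝟙 P.complex) = a • 𝟙 _ := by
    rw [Functor.comp_map, Functor.map_smul, CategoryTheory.Functor.map_id]
    change HomologicalComplex.homologyMap _ i = _
    rw [homologyMap_smul', HomologicalComplex.homologyMap_id]
    rfl
  rw [h2, Linear.comp_smul] at hnat
  erw [Category.comp_id] at hnat
  have h3 := congrArg (· ≫ (P.isoLeftDerivedObj G i).inv) hnat
  simpa [Linear.smul_comp] using h3

theorem leftDerived_smul_id_eq_zero {A : Type*} [CommRing A] {C D : Type*} [Category C] [Category D]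
    [Abelian C] [EnoughProjectives C] [Abelian D] [Linear A C] [Linear A D]
    (G : C ⥤ D) [G.Additive] [G.Linear A] (Q : C) (a : A) (i : ℕ) (ha : a • 𝟙 Q = 0) :
    a • 𝟙 ((G.leftDerived i).obj Q) = 0 := by
  have h1 := leftDerived_map_smul G Q a i
  let P := ProjectiveResolution.of Q
  have hnat0 := ProjectiveResolution.isoLeftDerivedObj_hom_naturality (a • 𝟙 Q) P P 0
    (by simp [ha]) G i
  rw [Functor.map_zero, comp_zero] at hnat0
  have h2 : (G.leftDerived i).map (a • 𝟙 Q) = 0 := by
    have h3 := congrArg (· ≫ (P.isoLeftDerivedObj G i).inv) hnat0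
    simpa using h3
  rw [← h1, h2]

/-- The `R`-linear structure on the opposite of an `R`-linear category (not in Mathlib at this pin).
A plain definition: activate it with `attribute [local instance]` where needed. -/
@[reducible] def linearOpposite {R : Type*} [Semiring R] {C : Type*} [Category C] [Preadditive C]
    [Linear R C] : Linear R Cᵒᵖ where
  homModule X Y :=
    { smul := fun r f => (r • f.unop).op
      one_smul := fun f => by
        apply Quiver.Hom.unop_inj
        exact one_smul R f.unop
      mul_smul := fun r s f => by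
        apply Quiver.Hom.unop_inj
        exact mul_smul r s f.unop
      smul_zero := fun r => by
        apply Quiver.Hom.unop_inj
        exact smul_zero r
      smul_add := fun r f g => by
        apply Quiver.Hom.unop_inj
        exact smul_add r f.unop g.unop
      add_smul := fun r s f => by
        apply Quiver.Hom.unop_inj
        exact add_smul r s f.unop
      zero_smul := fun f => by
        apply Quiver.Hom.unop_inj
        exact zero_smul R f.unop }
  smul_comp X Y Z r f g := by
    apply Quiver.Hom.unop_inj
    exact Linear.comp_smul _ _ _ g.unop r f.unop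
  comp_smul X Y Z f r g := by
    apply Quiver.Hom.unop_inj
    exact Linear.smul_comp _ _ _ r g.unop f.unop

attribute [local instance] linearOpposite

theorem unop_smul' {R : Type*} [Semiring R] {C : Type*} [Category C] [Preadditive C]
    [Linear R C] {X Y : Cᵒᵖ} (r : R) (f : X ⟶ Y) : (r • f).unop = r • f.unop := rfl

theorem linYonedaRightOpLinear {A : Type u} [CommRing A] (X : ModuleCat.{u} A) :
    (((linearYoneda A (ModuleCat.{u} A)).obj X).rightOp).Linear A where
  map_smul f a := by
    apply Quiver.Hom.unop_inj
    rw [unop_smul']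
    ext g
    exact Linear.smul_comp _ _ _ a f g

/-- If `a • 𝟙 Q = 0` then `a` kills `Ext^i(Q, X)`. -/
theorem ext_smul_eq_zero {A : Type u} [CommRing A] (Q X : ModuleCat.{u} A) (i : ℕ) (a : A)
    (ha : a • 𝟙 Q = 0) (y : ((Ext A (ModuleCat.{u} A) i).obj (op Q)).obj X) : a • y = 0 := by
  let G := ((linearYoneda A (ModuleCat.{u} A)).obj X).rightOp
  have : G.Linear A := linYonedaRightOpLinear X
  have h1 : a • 𝟙 ((G.leftDerived i).obj Q) = 0 := leftDerived_smul_id_eq_zero G Q a i ha
  have h2 : (a • 𝟙 ((G.leftDerived i).obj Q)).unop = 0 := by rw [h1]; rfl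
  rw [unop_smul'] at h2
  have h3 := congrArg (fun f => f.hom y) h2
  simp only [ModuleCat.hom_smul, LinearMap.smul_apply,
    ModuleCat.hom_zero, LinearMap.zero_apply] at h3
  exact h3

/-- Elements of an ideal `J` kill `Ext^i(A/J, X)`. -/
theorem ext_quotient_smul_eq_zero {A : Type u} [CommRing A] (J : Ideal A) (X : ModuleCat.{u} A)
    (i : ℕ) (a : A) (ha : a ∈ J)
    (y : ((Ext A (ModuleCat.{u} A) i).obj (op (ModuleCat.of A (A ⧸ J)))).obj X) : a • y = 0 := by
  apply ext_smul_eq_zero
  refine ModuleCat.hom_ext (LinearMap.ext fun q => ?_)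
  obtain ⟨b, rfl⟩ := Ideal.Quotient.mk_surjective q
  change a • (Ideal.Quotient.mk J b) = 0
  rw [Algebra.smul_def, Ideal.Quotient.algebraMap_eq, ← map_mul, Ideal.Quotient.eq_zero_iff_mem]
  exact Ideal.mul_mem_right _ _ ha

end Groth.Agent.Lib.Helper23.ExtLinear
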