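import Mathlib

/-!
# Algebra for flat base change of cohomology along a field extension
-/
set_option autoImplicit false
set_option linter.style.haveILetI false
open TensorProduct

namespace Groth.Agent.Lib.Helper23.FBC

section Coker

variable {R S : Type*} [CommRing R] [CommRing S] [Algebra R S]
variable {A B C A' B' C' : Type*} [AddCommGroup A] [Module R A] [AddCommGroup B] [Module R B]
  [AddCommGroup C] [Module R C] [AddCommGroup A'] [Module S A'] [AddCommGroup B'] [Module S B']
  [AddCommGroup C'] [Module S C']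

/-- base change of a cokernel -/
theorem nonempty_baseChange_coker (a : A →ₗ[R] B) (δ : B →ₗ[R] C) (hex : Function.Exact a δ)
    (hsurj : Function.Surjective δ) (a' : A' →ₗ[S] B') (δ' : B' →ₗ[S] C')
    (hex' : Function.Exact a' δ') (hsurj' : Function.Surjective δ')
    (eA : S ⊗[R] A ≃ₗ[S] A') (eB : S ⊗[R] B ≃ₗ[S] B')
    (h : ∀ (s : S) (x : A), eB (s ⊗ₜ[R] a x) = a' (eA (s ⊗ₜ[R] x))) :
    Nonempty (S ⊗[R] C ≃ₗ[S] C') := by
  let aS : S ⊗[R] A →ₗ[S] S ⊗[R] B := a.baseChange S
  let δS : S ⊗[R] B →ₗ[S] S ⊗[R] C := δ.baseChange S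
  have hexS : Function.Exact aS δS := lTensor_exact S hex hsurj
  have hsurjS : Function.Surjective δS := LinearMap.lTensor_surjective S hsurj
  have hcomm : ∀ t, eB (aS t) = a' (eA t) := by
    intro t
    induction t using TensorProduct.induction_on with
    | zero => simp
    | tmul s x => exact h s x
    | add x y hx hy => rw [map_add, map_add, map_add, map_add, hx, hy]
  let e1 : (S ⊗[R] B ⧸ LinearMap.ker δS) ≃ₗ[S] S ⊗[R] C := δS.quotKerEquivOfSurjective hsurjS
  let e3 : (B' ⧸ LinearMap.ker δ') ≃ₗ[S] C' := δ'.quotKerEquivOfSurjective hsurj'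
  have hmap : (LinearMap.ker δS).map (eB : S ⊗[R] B →ₗ[S] B') = LinearMap.ker δ' := by
    rw [hexS.linearMap_ker_eq, hex'.linearMap_ker_eq]
    ext y
    constructor
    · rintro ⟨_, ⟨t, rfl⟩, rfl⟩
      exact ⟨eA t, (hcomm t).symm⟩
    · rintro ⟨z, rfl⟩
      refine ⟨aS (eA.symm z), ⟨_, rfl⟩, ?_⟩
      change eB (aS (eA.symm z)) = a' z
      rw [hcomm, LinearEquiv.apply_symm_apply]
  let e2 := Submodule.Quotient.equiv (LinearMap.ker δS) (LinearMap.ker δ') eB hmap
  exact ⟨e1.symm ≪≫ₗ e2 ≪≫ₗ e3⟩

/-- base change along a bijective map -/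
noncomputable def baseChangeEquivOfBijective (δ : B →ₗ[R] C) (hδ : Function.Bijective δ) :
    S ⊗[R] B ≃ₗ[S] S ⊗[R] C :=
  TensorProduct.AlgebraTensorModule.congr (LinearEquiv.refl S S) (LinearEquiv.ofBijective δ hδ)

end Coker

section Transfer

/-- A base change along `R → S` is a base change along `k → k'` when `k ≃ R`, `k' ≃ S`
compatibly (fields). -/
theorem exists_equiv_of_isBaseChange {k k' R S : Type*} [Field k] [Field k'] [Algebra k k']
    [CommRing R] [CommRing S] [Algebra R S] (ρ : k ≃+* R) (ρ' : k' ≃+* S)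
    (hρ : ∀ c, algebraMap R S (ρ c) = ρ' (algebraMap k k' c))
    {M N : Type*} [AddCommGroup M] [Module R M] [Module k M]
    (hM : ∀ (c : k) (m : M), c • m = ρ c • m)
    [AddCommGroup N] [Module S N] [Module R N] [IsScalarTower R S N] [Module k' N]
    (hN : ∀ (c : k') (n : N), c • n = ρ' c • n)
    (lin : M →ₗ[R] N) (hbc : IsBaseChange S lin) :
    ∃ e : k' ⊗[k] M ≃ₗ[k'] N, ∀ (c : k') (m : M), e (c ⊗ₜ[k] m) = c • lin m := by
  classical
  letI : Module k N := Module.compHom N (algebraMap k k')
  haveI : IsScalarTower k k' N := IsScalarTower.of_algebraMap_smul fun _ _ => rfl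
  have hlin : ∀ (c : k) (m : M), lin (c • m) = c • lin m := by
    intro c m
    rw [hM, lin.map_smul]
    change ρ c • lin m = algebraMap k k' c • lin m
    rw [hN, ← hρ, algebraMap_smul]
  let lin' : M →ₗ[k] N :=
    { toFun := lin
      map_add' := lin.map_add
      map_smul' := hlin }
  let b := Module.Free.chooseBasis k M
  let bR : Module.Basis _ R M := b.mapCoeffs ρ (fun c x => (hM c x).symm)
  let bS : Module.Basis _ S N := hbc.basis bR
  let b' : Module.Basis _ k' N := bS.mapCoeffs ρ'.symm (fun c x => by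
    rw [hN, RingEquiv.apply_symm_apply])
  have hb' : ∀ i, b' i = lin (b i) := by
    intro i
    rw [Module.Basis.mapCoeffs_apply, IsBaseChange.basis_apply, Module.Basis.mapCoeffs_apply]
  let e : k' ⊗[k] M ≃ₗ[k'] N := (b.baseChange k').equiv b' (Equiv.refl _)
  have he1 : ∀ m : M, e (1 ⊗ₜ[k] m) = lin' m := by
    intro m
    have hmaps : ((e : k' ⊗[k] M →ₗ[k'] N).restrictScalars k) ∘ₗ
        (TensorProduct.mk k k' M 1) = lin' := by
      apply b.ext
      intro i
      have h1 : e ((b.baseChange k') i) = b' ((Equiv.refl _) i) :=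
        Module.Basis.equiv_apply (b.baseChange k') i b' (Equiv.refl _)
      rw [Module.Basis.baseChange_apply, Equiv.refl_apply, hb' i] at h1
      exact h1
    exact LinearMap.congr_fun hmaps m
  refine ⟨e, fun c m => ?_⟩
  have : c ⊗ₜ[k] m = c • (1 ⊗ₜ[k] m : k' ⊗[k] M) := by
    rw [TensorProduct.smul_tmul', smul_eq_mul, mul_one]
  rw [this, map_smul, he1]
  rfl


/-- variant of `exists_equiv_of_isBaseChange` with the module structures transported along
additive equivalences -/
theorem exists_equiv_of_isBaseChange' {k k' R S : Type*} [Field k] [Field k'] [Algebra k k']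
    [CommRing R] [CommRing S] [Algebra R S] (ρ : k ≃+* R) (ρ' : k' ≃+* S)
    (hρ : ∀ c, algebraMap R S (ρ c) = ρ' (algebraMap k k' c))
    {M N H H' : Type*} [AddCommGroup M] [Module R M] [AddCommGroup N] [Module S N] [Module R N]
    [IsScalarTower R S N] [AddCommGroup H] [Module k H] [AddCommGroup H'] [Module k' H']
    (a : H ≃+ M) (ha : ∀ (c : k) (x : H), a (c • x) = ρ c • a x)
    (a' : H' ≃+ N) (ha' : ∀ (c : k') (y : H'), a' (c • y) = ρ' c • a' y)
    (lin : M →ₗ[R] N) (hbc : IsBaseChange S lin) :
    ∃ e : k' ⊗[k] H ≃ₗ[k'] H', ∀ (c : k') (x : H), e (c ⊗ₜ[k] x) = c • a'.symm (lin (a x)) := by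
  letI : Module k M := Module.compHom M (ρ : k →+* R)
  letI : Module k' N := Module.compHom N (ρ' : k' →+* S)
  obtain ⟨e0, he0⟩ := exists_equiv_of_isBaseChange ρ ρ' hρ (M := M) (N := N)
    (fun _ _ => rfl) (fun _ _ => rfl) lin hbc
  let aL : H ≃ₗ[k] M := a.toLinearEquiv ha
  let aL' : H' ≃ₗ[k'] N := a'.toLinearEquiv ha'
  refine ⟨(TensorProduct.AlgebraTensorModule.congr (LinearEquiv.refl k' k') aL) ≪≫ₗ e0 ≪≫ₗ
    aL'.symm, fun c x => ?_⟩
  rw [LinearEquiv.trans_apply, LinearEquiv.trans_apply,
    TensorProduct.AlgebraTensorModule.congr_tmul, LinearEquiv.refl_apply, he0, map_smul]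
  rfl

end Transfer

section Finrank

/-- dimension of a base change -/
theorem finrank_eq_of_equiv {k k' : Type*} [Field k] [Field k'] [Algebra k k'] {M N : Type*}
    [AddCommGroup M] [Module k M] [AddCommGroup N] [Module k' N]
    (e : k' ⊗[k] M ≃ₗ[k'] N) : Module.finrank k' N = Module.finrank k M := by
  rw [← e.finrank_eq, Module.finrank_baseChange]

theorem subsingleton_iff_of_equiv {k k' : Type*} [Field k] [Field k'] [Algebra k k'] {M N : Type*}
    [AddCommGroup M] [Module k M] [AddCommGroup N] [Module k' N]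
    (e : k' ⊗[k] M ≃ₗ[k'] N) : Subsingleton N ↔ Subsingleton M := by
  constructor
  · intro h
    haveI : Subsingleton (k' ⊗[k] M) := e.toEquiv.subsingleton
    constructor
    intro x y
    have hinj : Function.Injective (TensorProduct.mk k k' M 1) := by
      have := Module.Flat.lTensor_preserves_injective_linearMap (M := M)
        (Algebra.linearMap k k') (FaithfulSMul.algebraMap_injective k k')
      intro a b hab
      have h1 : (TensorProduct.comm k k' M) ((1 : k') ⊗ₜ[k] a) =
          (TensorProduct.comm k k' M) ((1 : k') ⊗ₜ[k] b) := congrArg _ hab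
      rw [TensorProduct.comm_tmul, TensorProduct.comm_tmul] at h1
      have h2 : (LinearMap.lTensor M (Algebra.linearMap k k')) (a ⊗ₜ[k] (1 : k)) =
          (LinearMap.lTensor M (Algebra.linearMap k k')) (b ⊗ₜ[k] (1 : k)) := by
        simpa using h1
      have h3 := this h2
      have h4 := congrArg (TensorProduct.rid k M) h3
      simpa using h4
    exact hinj (Subsingleton.elim _ _)
  · intro h
    haveI : Subsingleton (k' ⊗[k] M) := by
      constructor
      intro x y
      have : ∀ t : k' ⊗[k] M, t = 0 := by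
        intro t
        induction t using TensorProduct.induction_on with
        | zero => rfl
        | tmul c m => rw [Subsingleton.elim m 0, TensorProduct.tmul_zero]
        | add x y hx hy => rw [hx, hy, add_zero]
      rw [this x, this y]
    exact e.symm.toEquiv.subsingleton

end Finrank

end Groth.Agent.Lib.Helper23.FBC
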