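import Groth.Agent.Lib.Helper23.FBC2
import Groth.Agent.Lib.Helper17.BaseChangeAff
import Groth.Agent.Lib.Helper17.PbStalk
import Groth.Agent.Lib.Helper2.Flat.PullExact

/-!
# Base change to a field extension: acyclicity of the pulled-back effacement
-/
set_option autoImplicit false
set_option linter.style.haveILetI false
universe u
open CategoryTheory CategoryTheory.Limits Opposite TopologicalSpace AlgebraicGeometry
open Scheme.Modules

noncomputable section

namespace Groth.Agent.Lib.Helper23.FBC

open Groth.Agent.Lib.Helper23.T2 Groth.Agent.Lib.Helper3 Groth.Agent.Lib.Helper3.QCSec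
  Groth.Agent.Lib.Helper3.InvGen Groth.Agent.Lib.Helper13 Groth.Agent.Lib.Helper13.SerreCrit1
  Groth.Agent.Lib.Helper17.UnitBC

section Square

variable (k k' : Type u) [Field k] [Field k'] [Algebra k k'] {X X' : Scheme.{u}}
  [X.Over (Spec (CommRingCat.of k))] [X'.Over (Spec (CommRingCat.of k'))] {π : X' ⟶ X}
  (hpb : IsPullback π (X' ↘ Spec (CommRingCat.of k')) (X ↘ Spec (CommRingCat.of k))
      (Spec.map (CommRingCat.ofHom (algebraMap k k'))))

include hpb

theorem flat_of_isPullback : Flat π := by
  have h : Flat (Spec.map (CommRingCat.ofHom (algebraMap k k'))) := by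
    rw [Flat.SpecMap_iff]
    exact RingHom.flat_algebraMap_iff.mpr inferInstance
  exact MorphismProperty.of_isPullback hpb.flip h

theorem isAffineHom_of_isPullback : IsAffineHom π := by
  have h : IsAffineHom (Spec.map (CommRingCat.ofHom (algebraMap k k'))) := inferInstance
  exact MorphismProperty.of_isPullback hpb.flip h

end Square

section Acyclic

variable {X X' : Scheme.{u}} (π : X' ⟶ X) [IsAffineHom π]

/-- the pullback of `j_* N` (from an affine open with affine inclusion) is acyclic -/
theorem subsingleton_HH_pullback_push {V : X.Opens} (hV : IsAffineOpen V) [IsAffineHom V.ι]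
    (N : (V : Scheme.{u}).Modules) [N.IsQuasicoherent] (p : ℕ) :
    Subsingleton (Coh.HH X'
      ((Scheme.Modules.pullback π).obj ((Scheme.Modules.pushforward V.ι).obj N)) (p + 1)) := by
  have hc : IsPullback (π ∣_ V) (π ⁻¹ᵁ V).ι V.ι π := isPullback_morphismRestrict π V
  haveI : IsIso (bcMap hc N) := isIso_bcMap hc N
  haveI : IsAffineHom (π ⁻¹ᵁ V).ι :=
    MorphismProperty.of_isPullback (P := @IsAffineHom) hc inferInstance
  haveI : ((Scheme.Modules.pullback (π ∣_ V)).obj N).IsQuasicoherent :=
    Groth.Agent.Lib.Helper17.PbStalk.isQuasicoherent_pullback (π ∣_ V) N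
  have h := subsingleton_HH_push (hV.preimage π) ((Scheme.Modules.pullback (π ∣_ V)).obj N) p
  exact (HmapEquiv (asIso (bcMap hc N)) (p + 1)).toEquiv.subsingleton

variable {ι : Type u} [Fintype ι] (U : ι → X.Opens)

theorem subsingleton_HH_pullback_Eff (hU : ∀ i, IsAffineOpen (U i)) [∀ i, IsAffineHom (U i).ι]
    (F : X.Modules) [F.IsQuasicoherent] (p : ℕ) :
    Subsingleton (Coh.HH X' ((Scheme.Modules.pullback π).obj (Eff U F)) (p + 1)) := by
  haveI : ∀ i, ((Scheme.Modules.restrictFunctor (U i).ι).obj F).IsQuasicoherent :=
    fun i => Scheme.Modules.isQuasicoherent_restrictFunctor (U i).ι F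
  haveI : (Scheme.Modules.pullback π).Additive :=
    (Scheme.Modules.pullbackPushforwardAdjunction π).left_adjoint_additive
  exact subsingleton_HH_map_biproduct (Scheme.Modules.pullback π) (fun i => PR (U i) F) (p + 1)
    (fun i => subsingleton_HH_pullback_push π (hU i) _ p)

end Acyclic

section SES

variable {X X' : Scheme.{u}} (π : X' ⟶ X) [Flat π]

/-- flat pullback preserves short exact sequences -/
theorem shortExact_pullback (S : ShortComplex X.Modules) (hS : S.ShortExact) :
    (S.map (Scheme.Modules.pullback π)).ShortExact := by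
  haveI : (Scheme.Modules.pullback π).Additive :=
    (Scheme.Modules.pullbackPushforwardAdjunction π).left_adjoint_additive
  haveI : PreservesFiniteColimits (Scheme.Modules.pullback π) := by
    have : PreservesColimitsOfSize.{0, 0} (Scheme.Modules.pullback π) :=
      (Scheme.Modules.pullbackPushforwardAdjunction π).leftAdjoint_preservesColimits
    exact PreservesColimitsOfSize.preservesFiniteColimits _
  haveI : PreservesFiniteLimits (Scheme.Modules.pullback π) :=
    Groth.Agent.Lib.Helper2.Stk.preservesFiniteLimits_pullback_of_flat π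
  exact hS.map_of_exact (Scheme.Modules.pullback π)

end SES

end Groth.Agent.Lib.Helper23.FBC
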