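import Groth.Agent.Lib.Helper23.FBC1
import Groth.Agent.Lib.Helper23.FBC3
import Groth.Agent.Lib.Helper17.FlatBC

/-!
# Base change to a field extension: `H⁰`
-/
set_option autoImplicit false
set_option linter.style.haveILetI false
universe u
open CategoryTheory CategoryTheory.Limits Opposite TopologicalSpace AlgebraicGeometry
open Scheme.Modules TensorProduct

noncomputable section

namespace Groth.Agent.Lib.Helper23.FBC

open Groth.Agent.Lib.Helper23.T2 Groth.Agent.Lib.Helper3 Groth.Agent.Lib.Helper3.QCSec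
  Groth.Agent.Lib.Helper3.InvGen Groth.Agent.Lib.Helper13 Groth.Agent.Lib.Helper13.SerreCrit1
  Groth.Agent.Lib.Helper17.UnitBC

theorem appLE_top_top {X Y : Scheme.{u}} (f : X ⟶ Y) (h : (⊤ : X.Opens) ≤ f ⁻¹ᵁ ⊤) :
    f.appLE ⊤ ⊤ h = f.appTop :=
  Scheme.Hom.appLE_eq_app f (U := ⊤)

section H0

variable {X X' : Scheme.{u}} (π : X' ⟶ X)

/-- the pullback map on `H⁰` -/
def θ (F : X.Modules) (x : Coh.HH X F 0) :
    Coh.HH X' ((Scheme.Modules.pullback π).obj F) 0 :=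
  (H0equiv ((Scheme.Modules.pullback π).obj F)).symm
    (unitSec π F ⊤ ⊤ le_top (H0equiv F x))

theorem θ_naturality {F G : X.Modules} (φ : F ⟶ G) (x : Coh.HH X F 0) :
    θ π G (Hmap φ 0 x) = Hmap ((Scheme.Modules.pullback π).map φ) 0 (θ π F x) := by
  unfold θ
  rw [H0equiv_naturality, H0equiv_symm_naturality]
  congr 1
  exact (unitSec_app π φ ⊤ ⊤ le_top _).symm

variable (k k' : Type u) [Field k] [Field k'] [Algebra k k']
  [X.Over (Spec (CommRingCat.of k))] [X'.Over (Spec (CommRingCat.of k'))] {π}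
  (hpb : IsPullback π (X' ↘ Spec (CommRingCat.of k')) (X ↘ Spec (CommRingCat.of k))
      (Spec.map (CommRingCat.ofHom (algebraMap k k'))))

include hpb in
theorem exists_H0_equiv [CompactSpace X] [QuasiSeparatedSpace X] (F : X.Modules)
    [F.IsQuasicoherent] :
    ∃ e : k' ⊗[k] Coh.HH X F 0 ≃ₗ[k'] Coh.HH X' ((Scheme.Modules.pullback π).obj F) 0,
      ∀ (c : k') (x : Coh.HH X F 0), e (c ⊗ₜ[k] x) = c • θ π F x := by
  haveI : Flat (Spec.map (CommRingCat.ofHom (algebraMap k k'))) := by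
    rw [Flat.SpecMap_iff]
    exact RingHom.flat_algebraMap_iff.mpr inferInstance
  have hV'V : (⊤ : (Spec (CommRingCat.of k')).Opens) ≤
      (Spec.map (CommRingCat.ofHom (algebraMap k k'))) ⁻¹ᵁ ⊤ := fun _ _ => trivial
  have hW : (⊤ : X.Opens) ≤ (X ↘ Spec (CommRingCat.of k)) ⁻¹ᵁ ⊤ := fun _ _ => trivial
  have hc : IsCompact ((⊤ : X.Opens) : Set X) := by
    rw [Opens.coe_top]; exact isCompact_univ
  have hqs : IsQuasiSeparated ((⊤ : X.Opens) : Set X) := by
    rw [Opens.coe_top]; exact isQuasiSeparated_univ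
  have h0 := isBCHom_cmp_of_qcqs hpb F hV'V (isAffineOpen_top _) (isAffineOpen_top _) hW hc hqs
  have hup : up π (X' ↘ Spec (CommRingCat.of k')) ⊤ ⊤ = ⊤ := by
    rw [eq_top_iff]
    intro x _
    exact ⟨trivial, trivial⟩
  have h1 : (⊤ : X'.Opens) ≤ π ⁻¹ᵁ ⊤ := fun _ _ => trivial
  have h2 : (⊤ : X'.Opens) ≤ (X' ↘ Spec (CommRingCat.of k')) ⁻¹ᵁ ⊤ := fun _ _ => trivial
  have h3 := isBCHom_cmp_transport F hW hV'V hup h1 h2 h0
  letI := ((Spec.map (CommRingCat.ofHom (algebraMap k k'))).appLE ⊤ ⊤ hV'V).hom.toAlgebra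
  letI : Module Γ(Spec (CommRingCat.of k), ⊤)
      (SecA (X' ↘ Spec (CommRingCat.of k')) ⊤ ((Scheme.Modules.pullback π).obj F) ⊤ h2) :=
    Module.compHom _ ((Spec.map (CommRingCat.ofHom (algebraMap k k'))).appLE ⊤ ⊤ hV'V).hom
  haveI : IsScalarTower Γ(Spec (CommRingCat.of k), ⊤) Γ(Spec (CommRingCat.of k'), ⊤)
      (SecA (X' ↘ Spec (CommRingCat.of k')) ⊤ ((Scheme.Modules.pullback π).obj F) ⊤ h2) :=
    IsScalarTower.of_algebraMap_smul fun _ _ => rfl
  obtain ⟨lin, hlin, hbc⟩ := h3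
  let ρ : k ≃+* Γ(Spec (CommRingCat.of k), ⊤) :=
    (Scheme.ΓSpecIso (CommRingCat.of k)).symm.commRingCatIsoToRingEquiv
  let ρ' : k' ≃+* Γ(Spec (CommRingCat.of k'), ⊤) :=
    (Scheme.ΓSpecIso (CommRingCat.of k')).symm.commRingCatIsoToRingEquiv
  have hρ : ∀ c : k, algebraMap Γ(Spec (CommRingCat.of k), ⊤) Γ(Spec (CommRingCat.of k'), ⊤)
      (ρ c) = ρ' (algebraMap k k' c) := by
    intro c
    have h := Scheme.ΓSpecIso_inv_naturality (CommRingCat.ofHom (algebraMap k k'))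
    have h' := congrArg (fun f => f.hom c) h
    change ((Spec.map (CommRingCat.ofHom (algebraMap k k'))).appLE ⊤ ⊤ hV'V).hom
      ((Scheme.ΓSpecIso (CommRingCat.of k)).inv.hom c) =
      (Scheme.ΓSpecIso (CommRingCat.of k')).inv.hom (algebraMap k k' c)
    rw [appLE_top_top]
    exact h'.symm
  let a : Coh.HH X F 0 ≃+ SecA (X ↘ Spec (CommRingCat.of k)) ⊤ F ⊤ hW :=
    (H0equiv F).toAddEquiv
  let a' : Coh.HH X' ((Scheme.Modules.pullback π).obj F) 0 ≃+
      SecA (X' ↘ Spec (CommRingCat.of k')) ⊤ ((Scheme.Modules.pullback π).obj F) ⊤ h2 :=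
    (H0equiv ((Scheme.Modules.pullback π).obj F)).toAddEquiv
  have ha : ∀ (c : k) (x : Coh.HH X F 0), a (c • x) = ρ c • a x := by
    intro c x
    have h := (H0equiv F).map_smul (Coh.toGlobal (X ↘ Spec (CommRingCat.of k)) c) x
    change H0equiv F (c • x) = ((X ↘ Spec (CommRingCat.of k)).appLE ⊤ ⊤ hW).hom
      ((Scheme.ΓSpecIso (CommRingCat.of k)).inv.hom c) • (show Γ(F, ⊤) from H0equiv F x)
    rw [appLE_top_top]
    exact h
  have ha' : ∀ (c : k') (y : Coh.HH X' ((Scheme.Modules.pullback π).obj F) 0),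
      a' (c • y) = ρ' c • a' y := by
    intro c y
    have h := (H0equiv ((Scheme.Modules.pullback π).obj F)).map_smul
      (Coh.toGlobal (X' ↘ Spec (CommRingCat.of k')) c) y
    change H0equiv ((Scheme.Modules.pullback π).obj F) (c • y) =
      ((X' ↘ Spec (CommRingCat.of k')).appLE ⊤ ⊤ h2).hom
        ((Scheme.ΓSpecIso (CommRingCat.of k')).inv.hom c) •
          (show Γ((Scheme.Modules.pullback π).obj F, ⊤) from
            H0equiv ((Scheme.Modules.pullback π).obj F) y)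
    rw [appLE_top_top]
    exact h
  obtain ⟨e, he⟩ := exists_equiv_of_isBaseChange' ρ ρ' hρ a ha a' ha' lin hbc
  refine ⟨e, fun c x => ?_⟩
  rw [he, hlin]
  rfl

end H0

end Groth.Agent.Lib.Helper23.FBC
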