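import Mathlib
import Groth.Prelude.Def_W4bk4goldsch45
import Groth.Agent.Lib.Helper23.FFLin1

/-!
More helpers: divisors of powers, intersections of Riemann–Roch spaces.
-/

set_option autoImplicit false

namespace Groth.Agent.Lib.Helper23.FF

open FunFld
open scoped IntermediateField

universe u v
variable {k : Type u} {K : Type v} [Field k] [Field K] [Algebra k K]

theorem div_pow' (hK : IsFunctionField k K) {x : K} (hx : x ≠ 0) (n : ℕ) :
    FunFld.div k (x ^ n) = n • FunFld.div k x := by
  have core := Groth.Agent.Lib.Helper27.FF.core_of hK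
  induction n with
  | zero => rw [pow_zero, zero_smul, core.div_one]
  | succ n ih =>
    rw [pow_succ, core.div_mul (pow_ne_zero n hx) hx, ih, succ_nsmul]

/-- An element of two Riemann–Roch spaces lies in any space dominating the pointwise minimum. -/
theorem L_inf_le {D₁ D₂ D : Divisor k K} (h : ∀ R, min (D₁ R) (D₂ R) ≤ D R) :
    L D₁ ⊓ L D₂ ≤ L D := by
  intro f hf R
  obtain ⟨h1, h2⟩ := hf
  have h3 := h1 R
  have h4 := h2 R
  rcases min_choice (D₁ R) (D₂ R) with hm | hm
  · refine h3.trans ?_
    rw [WithZero.exp_le_exp]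
    have h5 := h R
    rw [hm] at h5
    exact h5
  · refine h4.trans ?_
    rw [WithZero.exp_le_exp]
    have h5 := h R
    rw [hm] at h5
    exact h5

end Groth.Agent.Lib.Helper23.FF
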