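import Mathlib
import Groth.Prelude.Def_W4bk4goldsch45
import Groth.Agent.Lib.Helper23.FFLin2
import Groth.Agent.Lib.Helper27.Geo5

/-!
The affine coordinate ring `k[x, y]` of a plane curve with `y` integral over `k[x]` is the
intersection of the rings `O_P[y]` over the finite places `P` of `k(x)`.
-/

set_option autoImplicit false

namespace Groth.Agent.Lib.Helper23.FF

open FunFld Polynomial
open scoped IntermediateField

universe u v
variable {k : Type u} {K : Type v} [Field k] [Field K] [Algebra k K]

/-- A polynomial in an element congruent to a constant is congruent to its value. -/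
theorem val_aeval_sub_eval_lt' (P : Place k K) {x : K} {α : k}
    (hx : P.1 (x - algebraMap k K α) < 1) (r : k[X]) :
    P.1 (aeval x r - algebraMap k K (r.eval α)) < 1 := by
  have hroot : (r - C (r.eval α)).IsRoot α := by
    rw [IsRoot.def, eval_sub, eval_C, sub_self]
  obtain ⟨q, hq⟩ := dvd_iff_isRoot.mpr hroot
  have h1 : aeval x r - algebraMap k K (r.eval α)
      = (x - algebraMap k K α) * aeval x q := by
    have := congrArg (aeval x) hq
    rw [map_sub, aeval_C, map_mul, map_sub, aeval_X, aeval_C] at this
    exact this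
  rw [h1, map_mul]
  have hx1 : P.1 x ≤ 1 := val_le_one_of_val_sub_const_lt P hx
  calc P.1 (x - algebraMap k K α) * P.1 (aeval x q)
      ≤ P.1 (x - algebraMap k K α) * 1 :=
        mul_le_mul' le_rfl (val_aeval_le_one P.1 (fun c => P.2.1 c) hx1 q)
    _ < 1 := by rw [mul_one]; exact hx

theorem eval_eq_zero_of_val_aeval_lt (P : Place k K) {x : K} {α : k}
    (hx : P.1 (x - algebraMap k K α) < 1) (r : k[X]) (hr : P.1 (aeval x r) < 1) :
    r.eval α = 0 := by
  apply const_eq_zero_of_val_lt_one P
  have h1 := val_aeval_sub_eval_lt' P hx r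
  have h2 : algebraMap k K (r.eval α) = aeval x r - (aeval x r - algebraMap k K (r.eval α)) := by
    ring
  rw [h2]
  exact lt_of_le_of_lt (P.1.map_sub _ _) (max_lt hr h1)

/-- Clearing the denominator of an element integral at `x = α` by a polynomial not vanishing at
`α`. -/
theorem exists_good_denominator (P : Place k K) {x : K} {α : k}
    (hx : P.1 (x - algebraMap k K α) < 1) (hxα : x - algebraMap k K α ≠ 0) :
    ∀ n : ℕ, ∀ r s : k[X], s ≠ 0 → s.natDegree ≤ n → ∀ c : K, P.1 c ≤ 1 →
      c * aeval x s = aeval x r →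
      ∃ s' r' : k[X], s'.eval α ≠ 0 ∧ c * aeval x s' = aeval x r' := by
  intro n
  induction n with
  | zero =>
    intro r s hs hdeg c _ hc
    refine ⟨s, r, ?_, hc⟩
    have h1 : s.natDegree = 0 := Nat.le_zero.mp hdeg
    rw [natDegree_eq_zero] at h1
    obtain ⟨a, rfl⟩ := h1
    rw [eval_C]
    intro ha
    apply hs
    rw [ha, map_zero]
  | succ n ih =>
    intro r s hs hdeg c hcv hc
    by_cases hsα : s.eval α = 0
    · have hs1 : (X - C α) * (s /ₘ (X - C α)) = s := mul_divByMonic_eq_iff_isRoot.mpr hsα
      set s₁ := s /ₘ (X - C α) with hs₁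
      have hs₁0 : s₁ ≠ 0 := by
        intro h
        apply hs
        rw [← hs1, h, mul_zero]
      have hdeg1 : s₁.natDegree ≤ n := by
        have h2 := congrArg natDegree hs1
        rw [natDegree_mul (X_sub_C_ne_zero α) hs₁0, natDegree_X_sub_C] at h2
        omega
      have hvs : P.1 (aeval x s) < 1 := by
        rw [← hs1, map_mul, map_sub, aeval_X, aeval_C, map_mul]
        have hx1 : P.1 x ≤ 1 := val_le_one_of_val_sub_const_lt P hx
        calc P.1 (x - algebraMap k K α) * P.1 (aeval x s₁)
            ≤ P.1 (x - algebraMap k K α) * 1 :=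
              mul_le_mul' le_rfl (val_aeval_le_one P.1 (fun c => P.2.1 c) hx1 s₁)
          _ < 1 := by rw [mul_one]; exact hx
      have hvr : P.1 (aeval x r) < 1 := by
        rw [← hc, map_mul]
        calc P.1 c * P.1 (aeval x s) ≤ 1 * P.1 (aeval x s) := mul_le_mul' hcv le_rfl
          _ < 1 := by rw [one_mul]; exact hvs
      have hrα : r.eval α = 0 := eval_eq_zero_of_val_aeval_lt P hx r hvr
      have hr1 : (X - C α) * (r /ₘ (X - C α)) = r := mul_divByMonic_eq_iff_isRoot.mpr hrα
      set r₁ := r /ₘ (X - C α) with hr₁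
      have hc1 : c * aeval x s₁ = aeval x r₁ := by
        have h3 : (x - algebraMap k K α) * (c * aeval x s₁)
            = (x - algebraMap k K α) * aeval x r₁ := by
          have e1 : aeval x s = (x - algebraMap k K α) * aeval x s₁ := by
            rw [← hs1, map_mul, map_sub, aeval_X, aeval_C]
          have e2 : aeval x r = (x - algebraMap k K α) * aeval x r₁ := by
            rw [← hr1, map_mul, map_sub, aeval_X, aeval_C]
          rw [← e2, ← hc, e1]
          ring
        exact mul_left_cancel₀ hxα h3
      exact ih r₁ s₁ hs₁0 hdeg1 c hcv hc1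
    · exact ⟨s, r, hsα, hc⟩

end Groth.Agent.Lib.Helper23.FF
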