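import Mathlib
import Groth.Prelude.Def_W4bk4goldsch45
import Groth.Agent.Lib.Helper23.FFAdj1

/-!
The affine coordinate ring `k[x, y]` of a plane curve with `y` integral over `k[x]` is the
intersection of the rings `O_P[y]` over the finite places `P` of `k(x)`.
-/

set_option autoImplicit false

namespace Groth.Agent.Lib.Helper23.FF

open FunFld Polynomial
open scoped IntermediateField

universe u v
variable {k : Type u} {K : Type v} [Field k] [Field K] [Algebra k K]

theorem adjoin_singleton_le_adjoin_pair (x y : K) :
    Algebra.adjoin k ({x} : Set K) ≤ Algebra.adjoin k ({x, y} : Set K) :=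
  Algebra.adjoin_mono (by
    intro z hz
    rw [Set.mem_singleton_iff] at hz
    rw [hz]
    exact Set.mem_insert x {y})

theorem aeval_mem_adjoin_pair (x y : K) (p : k[X]) :
    aeval x p ∈ Algebra.adjoin k ({x, y} : Set K) := by
  apply adjoin_singleton_le_adjoin_pair x y
  rw [Algebra.adjoin_singleton_eq_range_aeval]
  exact ⟨p, rfl⟩

/-- Every element of `K = k(x, y)` has a nonzero denominator in `k[x]` with respect to
`k[x, y]`, when `y` is integral over `k[x]`. -/
theorem exists_poly_mul_mem_adjoin (x y : K)
    (hxy : IntermediateField.adjoin k ({x, y} : Set K) = ⊤)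
    (hy : IsIntegral (Algebra.adjoin k ({x} : Set K)) y) (u : K) :
    ∃ p : k[X], aeval x p ≠ 0 ∧ aeval x p * u ∈ Algebra.adjoin k ({x, y} : Set K) := by
  set B := Algebra.adjoin k ({x} : Set K) with hB
  set C := Algebra.adjoin k ({x, y} : Set K) with hC
  have hBC : ∀ b : B, (b : K) ∈ C := fun b => adjoin_singleton_le_adjoin_pair x y b.2
  have hint : ∀ c ∈ C, IsIntegral B c := by
    intro c hc
    refine Algebra.adjoin_induction (p := fun c _ => IsIntegral B c) ?_ ?_ ?_ ?_ hc
    · intro z hz
      rcases hz with rfl | hz
      · exact isIntegral_algebraMap (x := (⟨z, Algebra.self_mem_adjoin_singleton k z⟩ : B))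
      · rw [Set.mem_singleton_iff] at hz
        rw [hz]
        exact hy
    · intro c
      exact isIntegral_algebraMap (x := (algebraMap k B c))
    · intro a b _ _ ha hb
      exact ha.add hb
    · intro a b _ _ ha hb
      exact ha.mul hb
  have hu : u ∈ IntermediateField.adjoin k ({x, y} : Set K) := by
    rw [hxy]
    trivial
  rw [IntermediateField.mem_adjoin_iff_div] at hu
  obtain ⟨a, ha, b, hb, hab⟩ := hu
  by_cases hb0 : b = 0
  · refine ⟨1, by simp, ?_⟩
    rw [hab, hb0, div_zero, mul_zero]
    exact C.zero_mem
  obtain ⟨m, hmonic, hm⟩ := hint b hb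
  have hm0 : m ≠ 0 := hmonic.ne_zero
  obtain ⟨q, hq, hXq⟩ := exists_eq_pow_rootMultiplicity_mul_and_not_dvd m hm0 (0 : B)
  rw [map_zero, sub_zero] at hq hXq
  have hq0 : q.coeff 0 ≠ 0 := fun h => hXq (X_dvd_iff.mpr h)
  have hqb : aeval b q = 0 := by
    have h1 : aeval b m = 0 := by
      rw [← hm, aeval_def]
    rw [hq, map_mul, map_pow, aeval_X] at h1
    rcases mul_eq_zero.mp h1 with h2 | h2
    · exact absurd h2 (pow_ne_zero _ hb0)
    · exact h2
  have h3 := divX_mul_X_add q
  have h4 : aeval b (divX q) * b + algebraMap B K (q.coeff 0) = 0 := by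
    rw [← hqb]
    conv_rhs => rw [← h3]
    rw [map_add, map_mul, aeval_X, aeval_C]
  have haeC : ∀ r : B[X], aeval b r ∈ C := by
    intro r
    rw [aeval_eq_sum_range]
    refine C.sum_mem fun i _ => ?_
    rw [Algebra.smul_def]
    exact C.mul_mem (hBC _) (C.pow_mem hb i)
  have hd : ((q.coeff 0 : B) : K) ∈ Algebra.adjoin k ({x} : Set K) := (q.coeff 0).2
  rw [Algebra.adjoin_singleton_eq_range_aeval] at hd
  obtain ⟨p₀, hp₀⟩ := hd
  have hp₀' : aeval x p₀ = ((q.coeff 0 : B) : K) := hp₀
  refine ⟨p₀, ?_, ?_⟩
  · rw [hp₀']
    intro h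
    apply hq0
    exact Subtype.ext h
  · have h5 : ((q.coeff 0 : B) : K) = -(aeval b (divX q) * b) := by
      have : algebraMap B K (q.coeff 0) = ((q.coeff 0 : B) : K) := rfl
      rw [← this]
      exact eq_neg_of_add_eq_zero_right h4
    have h6 : aeval x p₀ * u = -(aeval b (divX q) * a) := by
      rw [hp₀', h5, hab]
      field_simp
    rw [h6]
    exact C.neg_mem (C.mul_mem (haeC _) ha)

/-- `k[x, y]` is the intersection of the rings `O_P[y]` over the finite places of `k(x)`. -/
theorem adjoin_pair_eq_iInter [IsAlgClosed k] (hK : IsFunctionField k K) (x y : K)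
    (hx : Transcendental k x)
    (hxy : IntermediateField.adjoin k ({x, y} : Set K) = ⊤)
    (hy : IsIntegral (Algebra.adjoin k ({x} : Set K)) y) :
    (Algebra.adjoin k ({x, y} : Set K) : Set K) =
      ⋂ (P : FunFld.Place k (IntermediateField.adjoin k ({x} : Set K)))
        (_ : P.1 ⟨x, IntermediateField.mem_adjoin_simple_self k x⟩ ≤ 1),
        (Subring.closure
          ((algebraMap (IntermediateField.adjoin k ({x} : Set K)) K '' (P.O : Set _)) ∪ {y}) :
          Set K) := by
  classical
  set F := IntermediateField.adjoin k ({x} : Set K) with hF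
  set C := Algebra.adjoin k ({x, y} : Set K) with hC
  set x' : F := ⟨x, IntermediateField.mem_adjoin_simple_self k x⟩ with hx'
  have hcoe : ∀ p : k[X], ((aeval x' p : F) : K) = aeval x p := fun p =>
    (Polynomial.aeval_algebraMap_apply K x' p).symm
  apply Set.eq_of_subset_of_subset
  · intro c hc
    rw [Set.mem_iInter₂]
    intro P hP
    have hc' : c ∈ C := hc
    refine Algebra.adjoin_induction (p := fun c _ => c ∈ Subring.closure
      ((algebraMap F K '' (P.O : Set F)) ∪ {y})) ?_ ?_ ?_ ?_ hc'
    · intro z hz
      rcases hz with rfl | hz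
      · exact Subring.subset_closure (Or.inl ⟨x',
          (Valuation.mem_valuationSubring_iff _ _).mpr hP, rfl⟩)
      · rw [Set.mem_singleton_iff] at hz
        rw [hz]
        exact Subring.subset_closure (Or.inr rfl)
    · intro c₀
      exact Subring.subset_closure (Or.inl ⟨algebraMap k F c₀,
        (Valuation.mem_valuationSubring_iff _ _).mpr (P.2.1 c₀), rfl⟩)
    · intro a b _ _ ha hb
      exact Subring.add_mem _ ha hb
    · intro a b _ _ ha hb
      exact Subring.mul_mem _ ha hb
  · intro u hu
    rw [Set.mem_iInter₂] at hu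
    show u ∈ C
    let I : Ideal k[X] :=
      { carrier := {p | aeval x p * u ∈ C}
        add_mem' := by
          intro p q hp hq
          show aeval x (p + q) * u ∈ C
          rw [map_add, add_mul]
          exact C.add_mem hp hq
        zero_mem' := by
          show aeval x (0 : k[X]) * u ∈ C
          rw [map_zero, zero_mul]
          exact C.zero_mem
        smul_mem' := by
          intro r p hp
          show aeval x (r • p) * u ∈ C
          rw [smul_eq_mul, map_mul, mul_assoc]
          exact C.mul_mem (aeval_mem_adjoin_pair x y r) hp }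
    have hI : ∀ p : k[X], p ∈ I ↔ aeval x p * u ∈ C := fun p => Iff.rfl
    obtain ⟨p₁, hp₁0, hp₁⟩ := exists_poly_mul_mem_adjoin x y hxy hy u
    have hp₁I : p₁ ∈ I := hp₁
    obtain ⟨q, hq⟩ := (IsPrincipalIdealRing.principal I).principal
    have hqI : q ∈ I := by
      rw [hq]
      exact Submodule.mem_span_singleton_self q
    have hmemq : ∀ p ∈ I, q ∣ p := by
      intro p hp
      rw [hq, Submodule.mem_span_singleton] at hp
      obtain ⟨r, rfl⟩ := hp
      exact Dvd.intro_left r rfl
    have hq0 : q ≠ 0 := by
      rintro rfl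
      have := hmemq p₁ hp₁I
      rw [zero_dvd_iff] at this
      rw [this, map_zero] at hp₁0
      exact hp₁0 rfl
    by_cases hdeg : q.degree = 0
    · have hunit : IsUnit q := Polynomial.isUnit_iff_degree_eq_zero.mpr hdeg
      obtain ⟨r, hr⟩ := hunit.exists_left_inv
      have h1 : (1 : k[X]) ∈ I := by
        rw [← hr]
        exact I.mul_mem_left r hqI
      have h2 : aeval x (1 : k[X]) * u ∈ C := h1
      rw [map_one, one_mul] at h2
      exact h2
    · obtain ⟨α, hα⟩ := IsAlgClosed.exists_root q hdeg
      have hIα : ∀ p ∈ I, p.eval α = 0 := by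
        intro p hp
        obtain ⟨r, rfl⟩ := hmemq p hp
        rw [eval_mul, hα, zero_mul]
      have hKF : IsFunctionField k F :=
        Groth.Agent.Lib.Helper27.Geo.isFunctionField_intermediateField hK F
          ⟨x, IntermediateField.mem_adjoin_simple_self k x, hx⟩
      have hx'tr : Transcendental k x' := by
        intro halg
        apply hx
        have := halg.algebraMap (A := K)
        exact this
      have htr : Transcendental k (x' - algebraMap k F α) := by
        intro halg
        apply hx'tr
        have h1 : x' = (x' - algebraMap k F α) + algebraMap k F α := by ring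
        rw [h1]
        exact halg.add (isAlgebraic_algebraMap α)
      obtain ⟨P, hP⟩ := Groth.Agent.Lib.Helper27.FF.exists_place_val_lt_one hKF htr
      have hPx : P.1 x' ≤ 1 := val_le_one_of_val_sub_const_lt P hP
      have hxα : x' - algebraMap k F α ≠ 0 := by
        intro h
        apply htr
        rw [h]
        exact isAlgebraic_zero
      have hu' := hu P hPx
      have key : ∃ s : k[X], s.eval α ≠ 0 ∧ aeval x s * u ∈ C := by
        refine Subring.closure_induction
          (p := fun z _ => ∃ s : k[X], s.eval α ≠ 0 ∧ aeval x s * z ∈ C) ?_ ?_ ?_ ?_ ?_ ?_ hu'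
        · rintro z (⟨c, hc, rfl⟩ | hz)
          · have hcv : P.1 c ≤ 1 := (Valuation.mem_valuationSubring_iff _ _).mp hc
            have hcK : (c : K) ∈ IntermediateField.adjoin k ({x} : Set K) := c.2
            rw [IntermediateField.mem_adjoin_simple_iff] at hcK
            obtain ⟨r, s, hrs⟩ := hcK
            have hcK' : algebraMap F K c = (c : K) := rfl
            by_cases hs0 : aeval x s = 0
            · refine ⟨1, by simp, ?_⟩
              rw [hcK', hrs, hs0, div_zero, mul_zero]
              exact C.zero_mem
            · have hs : s ≠ 0 := by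
                rintro rfl
                exact hs0 (map_zero _)
              have hcF : c * aeval x' s = aeval x' r := by
                apply Subtype.ext
                show (c : K) * ((aeval x' s : F) : K) = ((aeval x' r : F) : K)
                rw [hcoe, hcoe, hrs, div_mul_cancel₀ _ hs0]
              obtain ⟨s', r', hs', hc'⟩ :=
                exists_good_denominator P hP hxα s.natDegree r s hs le_rfl c hcv hcF
              refine ⟨s', hs', ?_⟩
              have h5 : (c : K) * ((aeval x' s' : F) : K) = ((aeval x' r' : F) : K) :=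
                congrArg Subtype.val hc'
              rw [hcoe, hcoe] at h5
              rw [hcK', mul_comm, h5]
              exact aeval_mem_adjoin_pair x y r'
          · rw [Set.mem_singleton_iff] at hz
            rw [hz]
            refine ⟨1, by simp, ?_⟩
            rw [map_one, one_mul]
            exact Algebra.subset_adjoin (Set.mem_insert_of_mem x rfl)
        · exact ⟨1, by simp, by rw [mul_zero]; exact C.zero_mem⟩
        · exact ⟨1, by simp, by rw [map_one, one_mul]; exact C.one_mem⟩
        · rintro a b _ _ ⟨s₁, h₁, m₁⟩ ⟨s₂, h₂, m₂⟩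
          refine ⟨s₁ * s₂, by rw [eval_mul]; exact mul_ne_zero h₁ h₂, ?_⟩
          have e : aeval x (s₁ * s₂) * (a + b)
              = aeval x s₂ * (aeval x s₁ * a) + aeval x s₁ * (aeval x s₂ * b) := by
            rw [map_mul]
            ring
          rw [e]
          exact C.add_mem (C.mul_mem (aeval_mem_adjoin_pair x y s₂) m₁)
            (C.mul_mem (aeval_mem_adjoin_pair x y s₁) m₂)
        · rintro a _ ⟨s, h, m⟩
          exact ⟨s, h, by rw [mul_neg]; exact C.neg_mem m⟩
        · rintro a b _ _ ⟨s₁, h₁, m₁⟩ ⟨s₂, h₂, m₂⟩
          refine ⟨s₁ * s₂, by rw [eval_mul]; exact mul_ne_zero h₁ h₂, ?_⟩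
          have e : aeval x (s₁ * s₂) * (a * b) = (aeval x s₁ * a) * (aeval x s₂ * b) := by
            rw [map_mul]
            ring
          rw [e]
          exact C.mul_mem m₁ m₂
      obtain ⟨s, hsα, hsC⟩ := key
      exact absurd (hIα s hsC) hsα

end Groth.Agent.Lib.Helper23.FF
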