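import Mathlib
import Groth.Prelude.Def_W4bk4goldsch45
import Groth.Prelude.Def_AdFn
import Groth.Agent.Lib.Helper23.FFLin2

/-!
The two-set Čech description of `H¹(O)`: `K / (O_{\{P\}} + O_P)` has dimension the genus.
-/

set_option autoImplicit false

namespace Groth.Agent.Lib.Helper23.FF

open FunFld
open scoped IntermediateField

universe u v
variable {k : Type u} {K : Type u} [Field k] [Field K] [Algebra k K]

open Classical in
/-- The adele supported at the single place `P`. -/
noncomputable def iotaP (P : Place k K) : K →ₗ[k] adele k K :=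
  LinearMap.codRestrict (adele k K) (LinearMap.single k (fun _ : Place k K => K) P) (by
    intro x
    rw [Groth.Agent.Lib.Helper27.FF.mem_adele_iff]
    refine (Set.finite_singleton P).subset ?_
    intro Q hQ
    rw [Set.mem_singleton_iff]
    by_contra hne
    apply hQ
    show Q.1 ((Pi.single P x : Place k K → K) Q) ≤ 1
    rw [Pi.single_eq_of_ne hne, map_zero]
    exact zero_le)

open Classical in
theorem iotaP_apply (P : Place k K) (x : K) (Q : Place k K) :
    (iotaP P x : Place k K → K) Q = if Q = P then x else 0 := by
  show (Pi.single P x : Place k K → K) Q = _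
  rw [Pi.single_apply]

theorem cech_finrank (hK : IsFunctionField k K) (P : Place k K) :
    FiniteDimensional k (K ⧸ (Subalgebra.toSubmodule (AdFn.SInt ({P} : Set (Place k K))) ⊔
        Subalgebra.toSubmodule (AdFn.SInt (({P} : Set (Place k K))ᶜ)))) ∧
    Module.finrank k (K ⧸ (Subalgebra.toSubmodule (AdFn.SInt ({P} : Set (Place k K))) ⊔
        Subalgebra.toSubmodule (AdFn.SInt (({P} : Set (Place k K))ᶜ)))) = genus k K := by
  classical
  have core := Groth.Agent.Lib.Helper27.FF.core_of hK
  set W : Submodule k K := Subalgebra.toSubmodule (AdFn.SInt ({P} : Set (Place k K))) ⊔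
        Subalgebra.toSubmodule (AdFn.SInt (({P} : Set (Place k K))ᶜ)) with hW
  set φ : K →ₗ[k] (↥(adele k K) ⧸ ADK (0 : Divisor k K)) :=
    (ADK (0 : Divisor k K)).mkQ ∘ₗ iotaP P with hφ
  -- kernel
  have hker : LinearMap.ker φ = W := by
    ext x
    rw [LinearMap.mem_ker, hφ, LinearMap.comp_apply, Submodule.mkQ_apply,
      Submodule.Quotient.mk_eq_zero]
    show (iotaP P x : Place k K → K) ∈ AD (0 : Divisor k K) ⊔ LinearMap.range (diag k K) ↔ _
    rw [Submodule.mem_sup, hW, Submodule.mem_sup]
    constructor
    · rintro ⟨β, hβ, _, ⟨y, rfl⟩, hsum⟩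
      refine ⟨y, ?_, x - y, ?_, by ring⟩
      · show y ∈ AdFn.SInt ({P} : Set (Place k K))
        intro Q hQ
        have hQP : Q ≠ P := hQ
        have h1 := congrFun hsum Q
        rw [Pi.add_apply, iotaP_apply, if_neg hQP] at h1
        have h2 : y = -β Q := by
          have : diag k K y Q = y := rfl
          rw [this] at h1
          exact eq_neg_of_add_eq_zero_right h1
        rw [h2, Valuation.map_neg]
        have h3 := hβ Q
        rw [Finsupp.zero_apply, WithZero.exp_zero] at h3
        exact h3
      · show x - y ∈ AdFn.SInt (({P} : Set (Place k K))ᶜ)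
        intro Q hQ
        have hQP : Q = P := by
          by_contra hne
          exact hQ hne
        subst hQP
        have h1 := congrFun hsum Q
        rw [Pi.add_apply, iotaP_apply, if_pos rfl] at h1
        have h2 : x - y = β Q := by
          have : diag k K y Q = y := rfl
          rw [this] at h1
          rw [← h1]
          ring
        rw [h2]
        have h3 := hβ Q
        rw [Finsupp.zero_apply, WithZero.exp_zero] at h3
        exact h3
    · rintro ⟨y, hy, v, hv, hsum⟩
      refine ⟨(iotaP P x : Place k K → K) - diag k K y, ?_, diag k K y, ⟨y, rfl⟩, by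
        rw [sub_add_cancel]⟩
      intro Q
      rw [Finsupp.zero_apply, WithZero.exp_zero, Pi.sub_apply, iotaP_apply]
      have hd : diag k K y Q = y := rfl
      rw [hd]
      by_cases hQP : Q = P
      · rw [if_pos hQP]
        have : x - y = v := by rw [← hsum]; ring
        rw [this]
        apply hv Q
        intro h
        exact h hQP
      · rw [if_neg hQP, zero_sub, Valuation.map_neg]
        exact hy Q hQP
  -- surjectivity
  have hsurj : Function.Surjective φ := by
    intro q
    obtain ⟨α, rfl⟩ := Submodule.Quotient.mk_surjective _ q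
    obtain ⟨N, hN⟩ := core.riemann.2
    set n : ℤ := max N 0 with hn
    have hdegP : (1 : ℤ) ≤ (P.deg : ℤ) := by exact_mod_cast core.one_le_deg P
    have hlarge : N ≤ Divisor.deg (Finsupp.single P n : Divisor k K) := by
      rw [Groth.Agent.Lib.Helper27.FF.deg_single]
      have h1 : N ≤ n := le_max_left _ _
      have h2 : (0 : ℤ) ≤ n := le_max_right _ _
      nlinarith
    have heq := core.adele_eq hN hlarge
    have hα : (α : Place k K → K) ∈ AD (Finsupp.single P n : Divisor k K)
        ⊔ LinearMap.range (diag k K) := by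
      rw [← heq]
      exact α.2
    obtain ⟨β, hβ, _, ⟨y, rfl⟩, hsum⟩ := Submodule.mem_sup.mp hα
    refine ⟨β P, ?_⟩
    rw [hφ, LinearMap.comp_apply, Submodule.mkQ_apply]
    rw [Submodule.Quotient.eq]
    show ((iotaP P (β P) : Place k K → K) - (α : Place k K → K))
      ∈ AD (0 : Divisor k K) ⊔ LinearMap.range (diag k K)
    rw [Submodule.mem_sup]
    refine ⟨(iotaP P (β P) : Place k K → K) - β, ?_, diag k K (-y), ⟨-y, rfl⟩, ?_⟩
    · intro Q
      rw [Finsupp.zero_apply, WithZero.exp_zero, Pi.sub_apply, iotaP_apply]
      by_cases hQP : Q = P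
      · rw [if_pos hQP, hQP, sub_self, map_zero]
        exact zero_le
      · rw [if_neg hQP, zero_sub, Valuation.map_neg]
        have h3 := hβ Q
        rw [Finsupp.single_eq_of_ne hQP, WithZero.exp_zero] at h3
        exact h3
    · rw [← hsum, map_neg]
      abel
  let e := φ.quotKerEquivOfSurjective hsurj
  obtain ⟨hfd, hfr⟩ := core.finrank_adele_quotient (0 : Divisor k K)
  have hfr' : Module.finrank k (↥(adele k K) ⧸ ADK (0 : Divisor k K)) = genus k K := by
    rw [Groth.Agent.Lib.Helper27.FF.deg_zero, core.ell_zero] at hfr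
    have : (Module.finrank k (↥(adele k K) ⧸ ADK (0 : Divisor k K)) : ℤ) = genus k K := by
      rw [hfr]; ring
    exact_mod_cast this
  rw [← hker]
  exact ⟨e.symm.finiteDimensional, by rw [e.finrank_eq, hfr']⟩

end Groth.Agent.Lib.Helper23.FF
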