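import Mathlib
import Groth.Prelude.Def_W4bk4goldsch45
import Groth.Agent.Lib.Helper23.FFCod1

/-!
The codimension-two criterion, sufficiency.
-/

set_option autoImplicit false

namespace Groth.Agent.Lib.Helper23.FF

open FunFld
open scoped IntermediateField

universe u v
variable {k : Type u} {K : Type v} [Field k] [Field K] [Algebra k K]

theorem L_sub_sub_le (D : Divisor k K) (P Q : Place k K) :
    L (D - Finsupp.single P 1 - Finsupp.single Q 1) ≤ L (D - Finsupp.single P 1) := by
  apply L_mono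
  rw [sub_le_self_iff]
  exact Finsupp.single_nonneg.mpr zero_le_one

theorem inf_inf_L_eq (W : Submodule k K) (D : Divisor k K) (P Q : Place k K) :
    (W ⊓ L (D - Finsupp.single P 1)) ⊓ L (D - Finsupp.single P 1 - Finsupp.single Q 1)
      = W ⊓ L (D - Finsupp.single P 1 - Finsupp.single Q 1) := by
  rw [inf_assoc, inf_eq_right.mpr (L_sub_sub_le D P Q)]

theorem finrank_le_finrank_inf_add_two [IsAlgClosed k] (hK : IsFunctionField k K)
    (W : Submodule k K) [FiniteDimensional k W] (D : Divisor k K) (hW : W ≤ L D)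
    (P Q : Place k K) :
    Module.finrank k W ≤
      Module.finrank k ↥(W ⊓ L (D - Finsupp.single P 1 - Finsupp.single Q 1)) + 2 := by
  have a1 := finrank_le_finrank_inf_add_one P (deg_eq_one hK P) W D hW
  have a2 := finrank_le_finrank_inf_add_one Q (deg_eq_one hK Q) (W ⊓ L (D - Finsupp.single P 1))
    (D - Finsupp.single P 1) inf_le_right
  rw [inf_inf_L_eq] at a2
  omega

/-- From codimension two: an element of `W` vanishing at `P` but not (further) at `Q`. -/
theorem exists_mem_of_codim_two [IsAlgClosed k] (hK : IsFunctionField k K)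
    (W : Submodule k K) [FiniteDimensional k W] (D : Divisor k K) (hW : W ≤ L D)
    (P Q : Place k K)
    (hcod : Module.finrank k ↥(W ⊓ L (D - Finsupp.single P 1 - Finsupp.single Q 1)) + 2
      = Module.finrank k W) :
    ∃ h ∈ W, h ∈ L (D - Finsupp.single P 1) ∧
      Q.1 h = WithZero.exp ((D - Finsupp.single P 1 : Divisor k K) Q) := by
  have a1 := finrank_le_finrank_inf_add_one P (deg_eq_one hK P) W D hW
  have hlt : Module.finrank k ↥((W ⊓ L (D - Finsupp.single P 1)) ⊓
      L (D - Finsupp.single P 1 - Finsupp.single Q 1))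
      < Module.finrank k ↥(W ⊓ L (D - Finsupp.single P 1)) := by
    rw [inf_inf_L_eq]
    omega
  obtain ⟨h, hh, hQh⟩ := exists_mem_val_eq_of_finrank_lt (W' := W ⊓ L (D - Finsupp.single P 1))
    (E := D - Finsupp.single P 1) (P := Q) inf_le_right hlt
  exact ⟨h, hh.1, hh.2, hQh⟩

/-- **Codimension-two criterion, sufficiency.** -/
theorem isNonsingularAt_of_codim_two [IsAlgClosed k] (hK : IsFunctionField k K)
    {ι : Type*} [Fintype ι] [Nonempty ι] (φ : ι → K) (h0 : ∀ i, φ i ≠ 0)
    (hbir : ∀ j, IntermediateField.adjoin k (Set.range fun i => φ i / φ j) = ⊤)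
    (P : Place k K)
    (hcod : ∀ Q : Place k K,
      Module.finrank k ↥(Submodule.span k (Set.range φ) ⊓
        L (mapDiv k φ - Finsupp.single P 1 - Finsupp.single Q 1)) + 2
      = Module.finrank k ↥(Submodule.span k (Set.range φ))) :
    IsNonsingularAt φ P := by
  classical
  set W := Submodule.span k (Set.range φ) with hWdef
  set D := mapDiv k φ with hDdef
  have hWL : W ≤ L D := span_le_L_mapDiv hK φ
  haveI : FiniteDimensional k W := FiniteDimensional.span_of_finite k (Set.finite_range φ)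
  obtain ⟨j, hjv⟩ := exists_val_eq_exp_mapDiv hK φ h0 P
  have hj0 : φ j ≠ 0 := h0 j
  have hφL : ∀ i, φ i ∈ L D := fun i => mem_L_mapDiv hK φ i
  have hj : ∀ i, P.1 (φ i) ≤ P.1 (φ j) := fun i => by
    rw [hjv]
    exact hφL i P
  have hratio : ∀ f ∈ W, f / φ j ∈ ratioAlg (k := k) φ j := fun f hf => div_mem_ratioAlg φ j hf
  have H2 : ∃ t ∈ locAlg (ratioAlg (k := k) φ j) P, P.1 t = WithZero.exp (-1) := by
    obtain ⟨h, hhW, _, hPh⟩ := exists_mem_of_codim_two hK W D hWL P P (hcod P)
    refine ⟨h / φ j, le_locAlg _ P (hratio h hhW), ?_⟩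
    rw [map_div₀, hPh, hjv, Finsupp.sub_apply, Finsupp.single_eq_same, ← WithZero.exp_sub]
    congr 1
    ring
  have H1 : ∀ Q : Place k K, (∀ z ∈ locAlg (ratioAlg (k := k) φ j) P, Q.1 z ≤ 1) → Q = P := by
    intro Q hQ
    by_contra hne
    obtain ⟨h, hhW, hhL, hQh⟩ := exists_mem_of_codim_two hK W D hWL P Q (hcod Q)
    have hcod' : Module.finrank k ↥(W ⊓ L (D - Finsupp.single Q 1 - Finsupp.single P 1)) + 2
        = Module.finrank k W := by
      rw [sub_right_comm D (Finsupp.single Q 1) (Finsupp.single P 1)]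
      exact hcod Q
    obtain ⟨f, hfW, hfL, hPf⟩ := exists_mem_of_codim_two hK W D hWL Q P hcod'
    rw [Finsupp.sub_apply, Finsupp.single_apply, if_neg hne, sub_zero] at hPf
    rw [Finsupp.sub_apply, Finsupp.single_apply, if_neg (Ne.symm hne), sub_zero] at hQh
    have hf0 : f ≠ 0 := by
      intro h0
      rw [h0, map_zero] at hPf
      exact WithZero.exp_ne_zero hPf.symm
    have hw : P.1 (f / φ j) = 1 := by
      rw [map_div₀, hPf, hjv]
      exact div_self WithZero.exp_ne_zero
    have hz := hQ _ (div_mem_locAlg (hratio h hhW) (hratio f hfW) hw)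
    have e1 : (h / φ j) / (f / φ j) = h / f := by
      field_simp
    rw [e1, map_div₀] at hz
    have hQf : Q.1 f ≤ WithZero.exp (D Q - 1) := by
      have := hfL Q
      rwa [Finsupp.sub_apply, Finsupp.single_eq_same] at this
    have hQf0 : Q.1 f ≠ 0 := (Q.1.ne_zero_iff).mpr hf0
    have h3 : Q.1 h ≤ Q.1 f := (div_le_one₀ (zero_lt_iff.mpr hQf0)).mp hz
    rw [hQh] at h3
    have h4 := h3.trans hQf
    rw [WithZero.exp_le_exp] at h4
    omega
  intro z hz
  exact ⟨j, hj0, hj, mem_locAlg_ratioAlg hK φ P hj0 hj (hbir j) H1 H2 hz⟩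

end Groth.Agent.Lib.Helper23.FF
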