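import Mathlib
import Groth.Prelude.Def_W4bk4goldsch45
import Groth.Agent.Lib.Helper23.FFCod2
import Groth.Agent.S11066
import Groth.Agent.S11078

/-!
The codimension-two criterion, necessity.
-/

set_option autoImplicit false

namespace Groth.Agent.Lib.Helper23.FF

open FunFld
open scoped IntermediateField

universe u v
variable {k : Type u} {K : Type v} [Field k] [Field K] [Algebra k K]

/-- `O_P ⊆ O_Q` forces `Q = P`. -/
theorem place_eq_of_le_one_imp (P Q : Place k K) (h : ∀ z : K, P.1 z ≤ 1 → Q.1 z ≤ 1) : Q = P := by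
  apply place_eq_of_lt_one_imp Q P
  intro x hQx
  by_contra hPx
  rw [not_lt] at hPx
  have hx0 : x ≠ 0 := by
    rintro rfl
    rw [map_zero] at hPx
    exact absurd hPx (not_le.mpr zero_lt_one)
  have h1 : P.1 x⁻¹ ≤ 1 := by
    rw [map_inv₀]
    exact inv_le_one_of_one_le₀ hPx
  have h2 : Q.1 x⁻¹ ≤ 1 := h _ h1
  rw [map_inv₀] at h2
  have h3 : 1 ≤ Q.1 x := by
    have hv : 0 < Q.1 x := zero_lt_iff.mpr ((Q.1.ne_zero_iff).mpr hx0)
    exact (inv_le_one₀ hv).mp h2
  exact absurd hQx (not_lt.mpr h3)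

/-- A nonsingular place is alone in its fibre. -/
theorem eq_of_sameImage_of_isNonsingularAt [IsAlgClosed k] (hK : IsFunctionField k K) {n : ℕ}
    (hn : 1 ≤ n) (φ : Fin (n + 1) → K) (hφ : LinearIndependent k φ) (P Q : Place k K)
    (hns : IsNonsingularAt φ P) (hsame : SameImage φ P Q) : Q = P := by
  have h := (Groth.Agent.S11078.result k K hK hn φ hφ P Q).mp hsame
  exact place_eq_of_le_one_imp P Q (fun z hz => (h z (hns z hz)).1)

/-- multiplying the normalized span back -/
theorem mul_mem_span_of_mem_span_div {ι : Type*} (φ : ι → K) (j : ι) (hj0 : φ j ≠ 0) {t : K}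
    (ht : t ∈ Submodule.span k (Set.range fun i => φ i / φ j)) :
    t * φ j ∈ Submodule.span k (Set.range φ) := by
  refine Submodule.span_induction
    (p := fun t _ => t * φ j ∈ Submodule.span k (Set.range φ)) ?_ ?_ ?_ ?_ ht
  · rintro _ ⟨i, rfl⟩
    show φ i / φ j * φ j ∈ _
    rw [div_mul_cancel₀ _ hj0]
    exact Submodule.subset_span ⟨i, rfl⟩
  · rw [zero_mul]
    exact Submodule.zero_mem _
  · intro a b _ _ ha hb
    rw [add_mul]
    exact Submodule.add_mem _ ha hb
  · intro c a _ ha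
    rw [smul_mul_assoc]
    exact Submodule.smul_mem _ c ha

/-- If `φ` is nonsingular at `P`, the span of `φ` contains an element vanishing to order exactly
one more than the minimum at `P`. -/
theorem exists_mem_span_val_eq_of_isNonsingularAt [IsAlgClosed k] (hK : IsFunctionField k K)
    {n : ℕ} (φ : Fin (n + 1) → K) (P : Place k K) {j : Fin (n + 1)}
    (hj0 : φ j ≠ 0) (hj : ∀ i, P.1 (φ i) ≤ P.1 (φ j)) (hns : IsNonsingularAt φ P) :
    ∃ h ∈ Submodule.span k (Set.range φ), P.1 h = WithZero.exp (-1) * P.1 (φ j) := by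
  have hv : P.1 (φ j) ≠ 0 := (P.1.ne_zero_iff).mpr hj0
  set φ' : Fin (n + 1) → K := fun i => φ i / φ j with hφ'
  have h1 : (1 : K) ∈ Submodule.span k (Set.range φ') :=
    Submodule.subset_span ⟨j, by simp [hφ', div_self hj0]⟩
  have h2 : ∀ i, P.1 (φ' i) ≤ 1 := fun i => by
    show P.1 (φ i / φ j) ≤ 1
    rw [map_div₀]
    exact div_le_one_of_le₀ (hj i) zero_le
  obtain ⟨t, ht⟩ := P.2.2 (WithZero.exp (-1))
  have ht1 : P.1 t ≤ 1 := by
    rw [ht, ← WithZero.exp_zero, WithZero.exp_le_exp]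
    norm_num
  have h3 : InLocRing φ' P t := by
    have h4 := (inLocRing_iff_of_index φ P hj0 hj t).mp (hns t ht1)
    refine ⟨j, by simp [hφ', div_self hj0], fun i => ?_, ?_⟩
    · have : φ' j = 1 := by simp [hφ', div_self hj0]
      rw [this, map_one]
      exact h2 i
    · have e : (fun i => φ' i / φ' j) = fun i => φ i / φ j := by
        funext i
        simp [hφ', div_self hj0]
      rw [e]
      exact h4
  obtain ⟨t', ht'span, ht'⟩ := (Groth.Agent.S11066.result k K hK φ' P h1 h2).mp ⟨t, h3, ht⟩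
  exact ⟨t' * φ j, mul_mem_span_of_mem_span_div φ j hj0 ht'span, by rw [map_mul, ht']⟩

end Groth.Agent.Lib.Helper23.FF
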