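import Mathlib
import Groth.Prelude.Def_W4bk4goldsch45
import Groth.Agent.Lib.Helper23.FFCod3

/-!
The codimension-two criterion, necessity (continued).
-/

set_option autoImplicit false

namespace Groth.Agent.Lib.Helper23.FF

open FunFld
open scoped IntermediateField

universe u v
variable {k : Type u} {K : Type v} [Field k] [Field K] [Algebra k K]

theorem codim_two_of_isNonsingularAt [IsAlgClosed k] (hK : IsFunctionField k K) {n : ℕ}
    (hn : 1 ≤ n) (φ : Fin (n + 1) → K) (hφ : LinearIndependent k φ) (P : Place k K)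
    (hns : IsNonsingularAt φ P) (Q : Place k K) :
    Module.finrank k ↥(Submodule.span k (Set.range φ) ⊓
        L (mapDiv k φ - Finsupp.single P 1 - Finsupp.single Q 1)) + 2
      = Module.finrank k ↥(Submodule.span k (Set.range φ)) := by
  classical
  set W := Submodule.span k (Set.range φ) with hWdef
  set D := mapDiv k φ with hDdef
  have hWL : W ≤ L D := span_le_L_mapDiv hK φ
  haveI : FiniteDimensional k W := FiniteDimensional.span_of_finite k (Set.finite_range φ)
  have h0 : ∀ i, φ i ≠ 0 := hφ.ne_zero
  obtain ⟨j, hjv⟩ := exists_val_eq_exp_mapDiv hK φ h0 P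
  have hj0 : φ j ≠ 0 := h0 j
  have hφW : ∀ i, φ i ∈ W := fun i => Submodule.subset_span ⟨i, rfl⟩
  have hφL : ∀ i, φ i ∈ L D := fun i => mem_L_mapDiv hK φ i
  have hj : ∀ i, P.1 (φ i) ≤ P.1 (φ j) := fun i => by
    rw [hjv]
    exact hφL i P
  have hle := finrank_le_finrank_inf_add_two hK W D hWL P Q
  have a1 := finrank_le_finrank_inf_add_one P (deg_eq_one hK P) W D hWL
  -- a general strictness fact
  have hstrict : ∀ R : Place k K,
      Module.finrank k ↥(W ⊓ L (D - Finsupp.single R 1)) < Module.finrank k W := by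
    intro R
    apply Submodule.finrank_lt_finrank_of_lt
    rw [SetLike.lt_iff_le_and_exists]
    obtain ⟨i, hi⟩ := exists_val_eq_exp_mapDiv hK φ h0 R
    refine ⟨inf_le_left, φ i, hφW i, fun hmem => ?_⟩
    have := ((mem_L_sub_single_iff D R (φ i)).mp hmem.2).2
    rw [hi] at this
    exact lt_irrefl _ this
  have s1 := hstrict P
  have s2 : Module.finrank k ↥(W ⊓ L (D - Finsupp.single P 1 - Finsupp.single Q 1))
      < Module.finrank k ↥(W ⊓ L (D - Finsupp.single P 1)) := by
    apply Submodule.finrank_lt_finrank_of_lt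
    rw [SetLike.lt_iff_le_and_exists]
    refine ⟨inf_le_inf_left W (L_sub_sub_le D P Q), ?_⟩
    by_cases hQP : Q = P
    · subst hQP
      obtain ⟨h, hhW, hQh⟩ := exists_mem_span_val_eq_of_isNonsingularAt hK φ Q hj0 hj hns
      rw [hjv, ← WithZero.exp_add] at hQh
      replace hQh : Q.1 h = WithZero.exp (-1 + D Q) := hQh
      have hlt : Q.1 h < WithZero.exp (D Q) := by
        rw [hQh, WithZero.exp_lt_exp]
        omega
      refine ⟨h, ⟨hhW, (mem_L_sub_single_iff D Q h).mpr ⟨hWL hhW, hlt⟩⟩, fun hmem => ?_⟩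
      have := ((mem_L_sub_single_iff (D - Finsupp.single Q 1) Q h).mp hmem.2).2
      rw [hQh, Finsupp.sub_apply, Finsupp.single_eq_same, WithZero.exp_lt_exp] at this
      omega
    · by_contra hcon
      push Not at hcon
      have hPQ : W ⊓ L (D - Finsupp.single P 1) ≤ W ⊓ L (D - Finsupp.single Q 1) := by
        intro h hh
        refine ⟨hh.1, ?_⟩
        have h1 := hcon h hh
        have h2 := ((mem_L_sub_single_iff (D - Finsupp.single P 1) Q h).mp h1.2).2
        rw [Finsupp.sub_apply, Finsupp.single_apply, if_neg (Ne.symm hQP), sub_zero] at h2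
        exact (mem_L_sub_single_iff D Q h).mpr ⟨hWL hh.1, h2⟩
      have s3 := hstrict Q
      have heq : W ⊓ L (D - Finsupp.single P 1) = W ⊓ L (D - Finsupp.single Q 1) :=
        Submodule.eq_of_le_of_finrank_le hPQ (by omega)
      have hjQ : Q.1 (φ j) = WithZero.exp (D Q) := by
        apply val_eq_of_mem_of_not_mem (hφL j)
        intro hmem
        have h1 : φ j ∈ W ⊓ L (D - Finsupp.single P 1) := heq ▸ ⟨hφW j, hmem⟩
        have := ((mem_L_sub_single_iff D P (φ j)).mp h1.2).2
        rw [hjv] at this
        exact lt_irrefl _ this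
      have hsame : SameImage φ P Q := by
        refine ⟨j, hj0, hj, fun i => by rw [hjQ]; exact hφL i Q, fun i => ?_⟩
        have hv : P.1 (φ j) ≠ 0 := (P.1.ne_zero_iff).mpr hj0
        have h1 : P.1 (φ i / φ j) ≤ 1 := by
          rw [map_div₀]
          exact div_le_one_of_le₀ (hj i) zero_le
        obtain ⟨c, hc⟩ := exists_const_val_sub_lt_one P (deg_eq_one hK P) h1
        refine ⟨c, hc, ?_⟩
        have e1 : φ i - c • φ j = φ j * (φ i / φ j - algebraMap k K c) := by
          rw [Algebra.smul_def]
          field_simp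
        have hgW : φ i - c • φ j ∈ W := W.sub_mem (hφW i) (W.smul_mem c (hφW j))
        have hgP : φ i - c • φ j ∈ W ⊓ L (D - Finsupp.single P 1) := by
          refine ⟨hgW, (mem_L_sub_single_iff D P _).mpr ⟨hWL hgW, ?_⟩⟩
          rw [e1, map_mul, hjv]
          calc WithZero.exp (D P) * P.1 (φ i / φ j - algebraMap k K c)
              < WithZero.exp (D P) * 1 :=
                mul_lt_mul_of_pos_left hc (zero_lt_iff.mpr WithZero.exp_ne_zero)
            _ = WithZero.exp (D P) := mul_one _
        rw [heq] at hgP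
        have h2 := ((mem_L_sub_single_iff D Q _).mp hgP.2).2
        rw [e1, map_mul, hjQ] at h2
        by_contra h3
        rw [not_lt] at h3
        have : WithZero.exp (D Q) * 1 ≤ WithZero.exp (D Q) * Q.1 (φ i / φ j - algebraMap k K c) :=
          mul_le_mul' le_rfl h3
        rw [mul_one] at this
        exact absurd h2 (not_lt.mpr this)
      exact hQP (eq_of_sameImage_of_isNonsingularAt hK hn φ hφ P Q hns hsame)
  omega

end Groth.Agent.Lib.Helper23.FF
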