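import Mathlib
import Groth.Prelude.Def_W4bk4goldsch45
import Groth.Agent.Lib.Helper23.FFCod4

/-!
Fibres of a projective map: places with the same image point.
-/

set_option autoImplicit false

namespace Groth.Agent.Lib.Helper23.FF

open FunFld
open scoped IntermediateField

universe u v
variable {k : Type u} {K : Type v} [Field k] [Field K] [Algebra k K]

theorem sameImage_self [IsAlgClosed k] (hK : IsFunctionField k K) {ι : Type*} [Finite ι]
    [Nonempty ι] (φ : ι → K) (h0 : ∀ i, φ i ≠ 0) (P : Place k K) : SameImage φ P P := by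
  obtain ⟨j, hj0, hj⟩ := exists_index φ P h0
  refine ⟨j, hj0, hj, hj, fun i => ?_⟩
  have h1 : P.1 (φ i / φ j) ≤ 1 := by
    rw [map_div₀]
    exact div_le_one_of_le₀ (hj i) zero_le
  obtain ⟨c, hc⟩ := exists_const_val_sub_lt_one P (deg_eq_one hK P) h1
  exact ⟨c, hc, hc⟩

/-- If `P(y - s) < 1` for a constant `s`, then `P y < 1` iff `s = 0`. -/
theorem val_lt_one_iff_const_eq_zero (P : Place k K) {y : K} {s : k}
    (h : P.1 (y - algebraMap k K s) < 1) : P.1 y < 1 ↔ s = 0 := by
  constructor
  · intro hy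
    by_contra hs
    have h1 : P.1 (algebraMap k K s) = 1 := val_const P hs
    have h2 : algebraMap k K s = y - (y - algebraMap k K s) := by ring
    have h3 : P.1 (algebraMap k K s) < 1 := by
      rw [h2]
      exact lt_of_le_of_lt (P.1.map_sub _ _) (max_lt hy h)
    rw [h1] at h3
    exact lt_irrefl _ h3
  · rintro rfl
    rwa [map_zero, sub_zero] at h

/-- A linear form vanishes at the image point of `P` iff it does at that of `Q`, when `P` and `Q`
have the same image. -/
theorem sameImage_vanish_iff {ι : Type*} [Fintype ι] (φ : ι → K) (P Q : Place k K) {j : ι}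
    (hj0 : φ j ≠ 0)
    (hconst : ∀ i, ∃ c : k, P.1 (φ i / φ j - algebraMap k K c) < 1 ∧
      Q.1 (φ i / φ j - algebraMap k K c) < 1) (c : ι → k) :
    P.1 (∑ i, c i • φ i) < P.1 (φ j) ↔ Q.1 (∑ i, c i • φ i) < Q.1 (φ j) := by
  classical
  choose a haP haQ using hconst
  set h := ∑ i, c i • φ i with hh
  set s : k := ∑ i, c i * a i with hs
  have e1 : h / φ j - algebraMap k K s = ∑ i, c i • (φ i / φ j - algebraMap k K (a i)) := by
    rw [hh, hs, Finset.sum_div, map_sum, ← Finset.sum_sub_distrib]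
    refine Finset.sum_congr rfl fun i _ => ?_
    rw [smul_sub, smul_div_assoc, map_mul, Algebra.smul_def (c i) (algebraMap k K (a i))]
  have hsum : ∀ R : Place k K, (∀ i, R.1 (φ i / φ j - algebraMap k K (a i)) < 1) →
      R.1 (h / φ j - algebraMap k K s) < 1 := by
    intro R hR
    rw [e1]
    apply Valuation.map_sum_lt R.1 one_ne_zero
    intro i _
    rw [Algebra.smul_def, map_mul]
    calc R.1 (algebraMap k K (c i)) * R.1 (φ i / φ j - algebraMap k K (a i))
        ≤ 1 * R.1 (φ i / φ j - algebraMap k K (a i)) := mul_le_mul' (R.2.1 _) le_rfl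
      _ = R.1 (φ i / φ j - algebraMap k K (a i)) := one_mul _
      _ < 1 := hR i
  have hP := val_lt_one_iff_const_eq_zero P (hsum P haP)
  have hQ := val_lt_one_iff_const_eq_zero Q (hsum Q haQ)
  have hdiv : ∀ R : Place k K, R.1 h < R.1 (φ j) ↔ R.1 (h / φ j) < 1 := by
    intro R
    have hv : 0 < R.1 (φ j) := zero_lt_iff.mpr ((R.1.ne_zero_iff).mpr hj0)
    rw [map_div₀, div_lt_one₀ hv]
  rw [hdiv P, hdiv Q, hP, hQ]

end Groth.Agent.Lib.Helper23.FF
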