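import Mathlib
import Groth.Prelude.Def_W4bk4goldsch45
import Groth.Agent.Lib.Helper23.FFFib1

/-!
Fibres of a projective map, part 2: valuation rings containing the local ring; the multiplicity-one
criterion.
-/

set_option autoImplicit false

namespace Groth.Agent.Lib.Helper23.FF

open FunFld
open scoped IntermediateField

universe u v
variable {k : Type u} {K : Type v} [Field k] [Field K] [Algebra k K]

/-- A place whose valuation ring contains the local ring at `P` lies in the fibre of `P`. -/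
theorem sameImage_of_inLocRing_le [IsAlgClosed k] (hK : IsFunctionField k K) {n : ℕ}
    (hn : 1 ≤ n) (φ : Fin (n + 1) → K) (hφ : LinearIndependent k φ) (P Q : Place k K)
    (hQ : ∀ z : K, InLocRing φ P z → Q.1 z ≤ 1) : SameImage φ P Q := by
  rw [Groth.Agent.S11078.result k K hK hn φ hφ P Q]
  have h0 : ∀ i, φ i ≠ 0 := hφ.ne_zero
  obtain ⟨j, hj0, hj⟩ := exists_index φ P h0
  have hiff := inLocRing_iff_of_index φ P hj0 hj
  have hRP : ∀ r ∈ ratioAlg (k := k) φ j, P.1 r ≤ 1 := fun r hr =>
    val_le_one_of_mem_ratioAlg φ P hj0 hj hr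
  have hfwd : ∀ z : K, InLocRing φ P z → Q.1 z < 1 → P.1 z < 1 := by
    intro z hz hQz
    have hzA := (hiff z).mp hz
    have hPz : P.1 z ≤ 1 := val_le_one_of_mem_locAlg hRP hzA
    by_contra hnot
    have h1 : P.1 z = 1 := le_antisymm hPz (not_lt.mp hnot)
    have h2 := hQ z⁻¹ ((hiff _).mpr (inv_mem_locAlg hzA h1))
    have hz0 : z ≠ 0 := by
      rintro rfl
      rw [map_zero] at h1
      exact zero_ne_one h1
    rw [map_inv₀, inv_le_one₀ (zero_lt_iff.mpr ((Q.1.ne_zero_iff).mpr hz0))] at h2
    exact absurd hQz (not_lt.mpr h2)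
  intro z hz
  refine ⟨hQ z hz, hfwd z hz, fun hPz => ?_⟩
  obtain ⟨c, hc⟩ := exists_const_val_sub_lt_one Q (deg_eq_one hK Q) (hQ z hz)
  have hzA := (hiff z).mp hz
  have h1 : InLocRing φ P (z - algebraMap k K c) :=
    (hiff _).mpr (Subalgebra.sub_mem _ hzA (Subalgebra.algebraMap_mem _ c))
  have h2 := hfwd _ h1 hc
  have h3 : c = 0 := by
    by_contra hc0
    have h4 : algebraMap k K c = z - (z - algebraMap k K c) := by ring
    have h5 : P.1 (algebraMap k K c) < 1 := by
      rw [h4]
      exact lt_of_le_of_lt (P.1.map_sub _ _) (max_lt hPz h2)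
    rw [val_const P hc0] at h5
    exact lt_irrefl _ h5
  rwa [h3, map_zero, sub_zero] at hc

end Groth.Agent.Lib.Helper23.FF
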