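import Mathlib
import Groth.Prelude.Def_W4bk4goldsch45
import Groth.Agent.Lib.Helper23.FFFib2

/-!
Fibres of a projective map, part 3: the multiplicity-one criterion.
-/

set_option autoImplicit false

namespace Groth.Agent.Lib.Helper23.FF

open FunFld
open scoped IntermediateField

universe u v
variable {k : Type u} {K : Type v} [Field k] [Field K] [Algebra k K]

theorem val_eq_exp_mapDiv_of_index (hK : IsFunctionField k K) {ι : Type*} [Fintype ι] [Nonempty ι]
    (φ : ι → K) (h0 : ∀ i, φ i ≠ 0) (P : Place k K) {j : ι}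
    (hj : ∀ i, P.1 (φ i) ≤ P.1 (φ j)) : P.1 (φ j) = WithZero.exp (mapDiv k φ P) := by
  obtain ⟨i, hi⟩ := exists_val_eq_exp_mapDiv hK φ h0 P
  exact le_antisymm (mem_L_mapDiv hK φ j P) (hi ▸ hj i)

theorem mult_one_iff [IsAlgClosed k] (hK : IsFunctionField k K) {n : ℕ} (hn : 1 ≤ n)
    (φ : Fin (n + 1) → K) (hφ : LinearIndependent k φ)
    (hbir : IntermediateField.adjoin k (Set.range fun i => φ i / φ 0) = ⊤) (P : Place k K) :
    IsNonsingularAt φ P ↔ ∃ c : Fin (n + 1) → k, ∑ i, c i • φ i ≠ 0 ∧
      ∑ᶠ Q ∈ {Q : Place k K | SameImage φ P Q},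
        ((mapDiv k φ) Q + Q.ord (∑ i, c i • φ i)) = 1 := by
  classical
  have h0 : ∀ i, φ i ≠ 0 := hφ.ne_zero
  constructor
  · intro hns
    obtain ⟨j, hj0, hj⟩ := exists_index φ P h0
    have hjv := val_eq_exp_mapDiv_of_index hK φ h0 P hj
    obtain ⟨h, hhW, hPh⟩ := exists_mem_span_val_eq_of_isNonsingularAt hK φ P hj0 hj hns
    obtain ⟨c, hc⟩ := (Submodule.mem_span_range_iff_exists_fun k).mp hhW
    have hh0 : h ≠ 0 := by
      rintro rfl
      rw [map_zero, hjv, ← WithZero.exp_add] at hPh
      exact WithZero.exp_ne_zero hPh.symm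
    refine ⟨c, by rw [hc]; exact hh0, ?_⟩
    have hF : {Q : Place k K | SameImage φ P Q} = {P} := by
      ext Q
      rw [Set.mem_setOf_eq, Set.mem_singleton_iff]
      constructor
      · exact eq_of_sameImage_of_isNonsingularAt hK hn φ hφ P Q hns
      · rintro rfl
        exact sameImage_self hK φ h0 Q
    rw [hF, finsum_mem_singleton, hc]
    rw [hjv, ← WithZero.exp_add, val_eq_exp_neg_ord P hh0] at hPh
    have := WithZero.exp_injective hPh
    omega
  · rintro ⟨c, hh0, hsum⟩
    set h := ∑ i, c i • φ i with hhdef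
    set D := mapDiv k φ with hDdef
    have hhW : h ∈ Submodule.span k (Set.range φ) :=
      Submodule.sum_mem _ (fun i _ => Submodule.smul_mem _ _ (Submodule.subset_span ⟨i, rfl⟩))
    have hhL : h ∈ L D := span_le_L_mapDiv hK φ hhW
    have hval : ∀ Q : Place k K, Q.1 h = WithZero.exp (-Q.ord h) := fun Q =>
      val_eq_exp_neg_ord Q hh0
    have hf0 : ∀ Q : Place k K, 0 ≤ D Q + Q.ord h := by
      intro Q
      have := hhL Q
      rw [hval Q, WithZero.exp_le_exp] at this
      omega
    have hfpos_iff : ∀ Q : Place k K, 0 < D Q + Q.ord h ↔ Q.1 h < WithZero.exp (D Q) := by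
      intro Q
      rw [hval Q, WithZero.exp_lt_exp]
      omega
    have hinv : ∀ Q : Place k K, SameImage φ P Q →
        (0 < D P + P.ord h ↔ 0 < D Q + Q.ord h) := by
      rintro Q ⟨j, hj0, hjP, hjQ, hconst⟩
      have h1 := sameImage_vanish_iff φ P Q hj0 hconst c
      rw [val_eq_exp_mapDiv_of_index hK φ h0 P hjP, val_eq_exp_mapDiv_of_index hK φ h0 Q hjQ] at h1
      rw [hfpos_iff, hfpos_iff]
      exact h1
    set F := {Q : Place k K | SameImage φ P Q} with hFdef
    have hPF : P ∈ F := sameImage_self hK φ h0 P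
    have hfin : (F ∩ Function.support fun Q : Place k K => D Q + Q.ord h).Finite := by
      by_contra hinf
      rw [finsum_mem_eq_zero_of_infinite hinf] at hsum
      exact zero_ne_one hsum
    have hsum' : ∑ Q ∈ hfin.toFinset, (D Q + Q.ord h) = 1 := by
      rw [← hsum]
      symm
      apply finsum_mem_eq_sum_of_inter_support_eq
      ext Q
      simp only [Set.mem_inter_iff, Set.Finite.coe_toFinset]
      tauto
    have hne : hfin.toFinset.Nonempty := by
      by_contra hemp
      rw [Finset.not_nonempty_iff_eq_empty] at hemp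
      rw [hemp, Finset.sum_empty] at hsum'
      exact zero_ne_one hsum'
    obtain ⟨Q₀, hQ₀⟩ := hne
    rw [Set.Finite.mem_toFinset] at hQ₀
    have hfQ₀ : 0 < D Q₀ + Q₀.ord h := lt_of_le_of_ne (hf0 Q₀) (Ne.symm hQ₀.2)
    have hfP : 0 < D P + P.ord h := (hinv Q₀ hQ₀.1).mpr hfQ₀
    have hmemt : ∀ Q ∈ F, Q ∈ hfin.toFinset := fun Q hQ => by
      rw [Set.Finite.mem_toFinset]
      exact ⟨hQ, ne_of_gt ((hinv Q hQ).mp hfP)⟩
    have hF : ∀ Q ∈ F, Q = P := by
      intro Q hQ
      by_contra hne
      have hsub : ({P, Q} : Finset (Place k K)) ⊆ hfin.toFinset := by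
        intro R hR
        rcases Finset.mem_insert.mp hR with rfl | hR
        · exact hmemt _ hPF
        · rw [Finset.mem_singleton] at hR
          subst hR
          exact hmemt _ hQ
      have h1 := Finset.sum_le_sum_of_subset_of_nonneg hsub
        (f := fun R : Place k K => D R + R.ord h) (fun R _ _ => hf0 R)
      rw [Finset.sum_pair (Ne.symm hne), hsum'] at h1
      have h2 := (hinv Q hQ).mp hfP
      omega
    have hfP1 : D P + P.ord h = 1 := by
      have h1 : hfin.toFinset = {P} := by
        ext R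
        rw [Finset.mem_singleton]
        constructor
        · intro hR
          rw [Set.Finite.mem_toFinset] at hR
          exact hF R hR.1
        · rintro rfl
          exact hmemt _ hPF
      rw [h1, Finset.sum_singleton] at hsum'
      exact hsum'
    obtain ⟨j, hj0, hj⟩ := exists_index φ P h0
    have hPj : P.1 (φ j) = WithZero.exp (D P) := val_eq_exp_mapDiv_of_index hK φ h0 P hj
    intro z hz
    refine ⟨j, hj0, hj, mem_locAlg_ratioAlg hK φ P hj0 hj
      (adjoin_ratio_eq_top φ 0 j hj0 hbir) ?_ ?_ hz⟩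
    · intro Q hQ
      exact hF Q (sameImage_of_inLocRing_le hK hn φ hφ P Q
        (fun z hz => hQ z ((inLocRing_iff_of_index φ P hj0 hj z).mp hz)))
    · refine ⟨h / φ j, le_locAlg _ P (div_mem_ratioAlg φ j hhW), ?_⟩
      rw [map_div₀, hPj, hval P, ← WithZero.exp_sub]
      congr 1
      omega

end Groth.Agent.Lib.Helper23.FF
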