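import Mathlib
import Groth.Prelude.Def_W4bk4goldsch45
import Groth.Agent.Lib.Helper23.FFCod2

/-!
Finiteness of the singular places, part 1: conductor, the generic element, localisation of the
ring of elements integral outside the poles of `x`.
-/

set_option autoImplicit false

namespace Groth.Agent.Lib.Helper23.FF

open FunFld
open scoped IntermediateField

universe u v
variable {k : Type u} {K : Type v} [Field k] [Field K] [Algebra k K]

/-- A common denominator in `R` for a finite-dimensional space, `Frac R = K`. -/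
theorem exists_conductor (R : Subalgebra k K)
    (hfrac : IntermediateField.adjoin k (R : Set K) = ⊤)
    (V : Submodule k K) [FiniteDimensional k V] :
    ∃ c ∈ R, c ≠ 0 ∧ ∀ v ∈ V, c * v ∈ R := by
  classical
  obtain ⟨b, hb⟩ : ∃ b : Finset K, Submodule.span k (b : Set K) = V :=
    (Submodule.fg_iff_finiteDimensional V).mpr inferInstance
  have hstep : ∃ c ∈ R, c ≠ 0 ∧ ∀ v ∈ b, c * v ∈ R := by
    clear hb
    induction b using Finset.induction_on with
    | empty => exact ⟨1, R.one_mem, one_ne_zero, fun v hv => absurd hv (Finset.notMem_empty v)⟩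
    | insert v₀ b _ ih =>
      obtain ⟨c, hcR, hc0, hc⟩ := ih
      have hv₀ : v₀ ∈ IntermediateField.adjoin k (R : Set K) := by rw [hfrac]; trivial
      obtain ⟨r, hr, s, hs, hv₀rs⟩ := IntermediateField.mem_adjoin_iff_div.mp hv₀
      rw [Algebra.adjoin_eq] at hr hs
      by_cases hs0 : s = 0
      · refine ⟨c, hcR, hc0, fun v hv => ?_⟩
        rcases Finset.mem_insert.mp hv with rfl | hv
        · rw [hv₀rs, hs0, div_zero, mul_zero]
          exact R.zero_mem
        · exact hc v hv
      · refine ⟨c * s, R.mul_mem hcR hs, mul_ne_zero hc0 hs0, fun v hv => ?_⟩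
        rcases Finset.mem_insert.mp hv with rfl | hv
        · have : c * s * v = c * r := by
            rw [hv₀rs]
            field_simp
          rw [this]
          exact R.mul_mem hcR hr
        · have : c * s * v = s * (c * v) := by ring
          rw [this]
          exact R.mul_mem hs (hc v hv)
  obtain ⟨c, hcR, hc0, hc⟩ := hstep
  refine ⟨c, hcR, hc0, fun v hv => ?_⟩
  rw [← hb] at hv
  refine Submodule.span_induction (p := fun v _ => c * v ∈ R) ?_ ?_ ?_ ?_ hv
  · intro v hv
    exact hc v hv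
  · rw [mul_zero]
    exact R.zero_mem
  · intro a b _ _ ha hb
    rw [mul_add]
    exact R.add_mem ha hb
  · intro a v _ hv
    rw [mul_smul_comm]
    exact R.smul_mem hv a

/-- A generic element `x` of a finitely generated subalgebra `R` with `Frac R = K`:
`R` is integral outside the poles of `x`, and the ring of all such elements is `R + V` with
`V` finite-dimensional. -/
theorem exists_x_fd [Infinite k] (hK : IsFunctionField k K)
    {ι : Type*} [Fintype ι] (g : ι → K)
    (hfrac : IntermediateField.adjoin k (Set.range g) = ⊤) :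
    ∃ x ∈ Algebra.adjoin k (Set.range g), Transcendental k x ∧
      (∀ r ∈ Algebra.adjoin k (Set.range g), ∀ Q : Place k K, Q.1 x ≤ 1 → Q.1 r ≤ 1) ∧
      ∃ V : Submodule k K, FiniteDimensional k V ∧
        (∀ v ∈ V, ∀ Q : Place k K, Q.1 x ≤ 1 → Q.1 v ≤ 1) ∧
        ∀ z : K, (∀ Q : Place k K, Q.1 x ≤ 1 → Q.1 z ≤ 1) →
          z ∈ Subalgebra.toSubmodule (Algebra.adjoin k (Set.range g)) ⊔ V := by
  classical
  set R := Algebra.adjoin k (Set.range g) with hRdef
  obtain ⟨i₀, hi₀⟩ : ∃ i, Transcendental k (g i) := by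
    by_contra h
    push Not at h
    obtain ⟨⟨x₀, hx₀, _⟩, hconst⟩ := hK
    have h1 : IntermediateField.adjoin k (Set.range g) ≤ ⊥ := by
      rw [IntermediateField.adjoin_le_iff]
      rintro _ ⟨i, rfl⟩
      have h2 : IsAlgebraic k (g i) := by
        have := h i
        unfold Transcendental at this
        exact not_not.mp this
      exact IntermediateField.mem_bot.mpr (hconst _ h2)
    rw [hfrac] at h1
    have h2 : x₀ ∈ (⊥ : IntermediateField k K) := h1 IntermediateField.mem_top
    obtain ⟨c, rfl⟩ := IntermediateField.mem_bot.mp h2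
    exact hx₀ (isAlgebraic_algebraMap c)
  have hSfin : {Q : Place k K | ∃ i, 1 < Q.1 (g i)}.Finite := by
    have : {Q : Place k K | ∃ i, 1 < Q.1 (g i)} = ⋃ i, {Q : Place k K | 1 < Q.1 (g i)} := by
      ext Q
      simp
    rw [this]
    exact Set.finite_iUnion (fun i => finite_poles hK (g i))
  set S := hSfin.toFinset with hSdef
  have hS : ∀ Q, Q ∈ S ↔ ∃ i, 1 < Q.1 (g i) := fun Q => by
    rw [hSdef, Set.Finite.mem_toFinset]; rfl
  obtain ⟨c, hc⟩ := exists_generic g S (fun _ => WithZero.exp 1) (fun _ _ => WithZero.exp_ne_zero)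
    (fun Q hQ => by
      obtain ⟨i, hi⟩ := (hS Q).mp hQ
      exact ⟨i, exp_one_le_of_one_lt hi⟩)
  set x := ∑ i, c i • g i with hxdef
  have hxR : x ∈ R := R.sum_mem (fun i _ => R.smul_mem (Algebra.subset_adjoin ⟨i, rfl⟩) _)
  have hxS : ∀ Q ∈ S, 1 < Q.1 x := fun Q hQ => by
    refine lt_of_lt_of_le ?_ (hc Q hQ)
    rw [← WithZero.exp_zero, WithZero.exp_lt_exp]
    norm_num
  have hx : Transcendental k x := by
    apply transcendental_of_not_mem_range hK
    rintro ⟨a, ha⟩
    obtain ⟨Q, hQ⟩ := Groth.Agent.Lib.Helper27.FF.exists_place_val_lt_one hK (transcendental_inv hi₀)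
    have hg0 : g i₀ ≠ 0 := by
      intro h
      rw [h] at hi₀
      exact hi₀ isAlgebraic_zero
    have hQS : Q ∈ S := (hS Q).mpr ⟨i₀, (val_inv_lt_one_iff Q hg0).mp hQ⟩
    have h1 := hxS Q hQS
    rw [← ha] at h1
    exact absurd h1 (not_lt.mpr (Q.2.1 a))
  have hR : ∀ r ∈ R, ∀ Q : Place k K, Q.1 x ≤ 1 → Q.1 r ≤ 1 := by
    intro r hr Q hQ
    refine val_le_one_of_mem_adjoin Q g ?_ hr
    intro i
    by_contra h
    exact absurd (hxS Q ((hS Q).mpr ⟨i, not_le.mp h⟩)) (not_lt.mpr hQ)
  have hfrac' : IntermediateField.adjoin k (R : Set K) = ⊤ := by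
    rw [eq_top_iff, ← hfrac]
    exact IntermediateField.adjoin.mono k _ _ Algebra.subset_adjoin
  have hspan := span_adjoin_eq_top hK hx R hfrac'
  exact ⟨x, hxR, hx, hR, exists_fd_sup hK hx R hxR hR hspan⟩

end Groth.Agent.Lib.Helper23.FF
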