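import Mathlib
import Groth.Prelude.Def_W4bk4goldsch45
import Groth.Agent.Lib.Helper23.FFSing1

/-!
Finiteness of the singular places, part 2.
-/

set_option autoImplicit false

namespace Groth.Agent.Lib.Helper23.FF

open FunFld
open scoped IntermediateField

universe u v
variable {k : Type u} {K : Type v} [Field k] [Field K] [Algebra k K]

/-- The valuation ring of a place `P` at which `x` is integral is the localisation of the ring of
elements integral outside the poles of `x`. -/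
theorem exists_unit_mul_integral_RR [IsAlgClosed k] (hK : IsFunctionField k K) {x : K}
    (hx : Transcendental k x) (P : Place k K) (hPx : P.1 x ≤ 1) (z : K) (hPz : P.1 z ≤ 1) :
    ∃ w : K, (∀ Q : Place k K, Q.1 x ≤ 1 → Q.1 w ≤ 1) ∧ P.1 w = 1 ∧
      ∀ Q : Place k K, Q.1 x ≤ 1 → Q.1 (z * w) ≤ 1 := by
  classical
  by_cases hz0 : z = 0
  · refine ⟨1, fun Q _ => (map_one _).le, map_one _, fun Q _ => ?_⟩
    rw [hz0, zero_mul, map_zero]
    exact zero_le
  have hx0 : x ≠ 0 := by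
    rintro rfl
    exact hx isAlgebraic_zero
  have hfin : {Q : Place k K | Q.1 x⁻¹ < 1}.Finite := finite_zeros hK (transcendental_inv hx)
  set Z := hfin.toFinset with hZdef
  have hZ : ∀ Q, Q ∈ Z ↔ Q.1 x⁻¹ < 1 := fun Q => by
    rw [hZdef, Set.Finite.mem_toFinset]; rfl
  set B := zdiv x⁻¹ Z with hBdef
  have hB0 : 0 ≤ B := poleDiv_nonneg hx0 Z hZ
  haveI := finiteDimensional_adjoin hK hx
  have hBdeg : (1 : ℤ) ≤ B.deg := by
    rw [hBdef, deg_poleDiv hK hx Z hZ]
    exact_mod_cast (Module.finrank_pos : 0 < Module.finrank k⟮x⟯ K)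
  set T' := (finite_poles hK z).toFinset.filter (fun Q => Q.1 x ≤ 1) with hT'def
  have hT' : ∀ Q, Q ∈ T' ↔ 1 < Q.1 z ∧ Q.1 x ≤ 1 := fun Q => by
    rw [hT'def, Finset.mem_filter, Set.Finite.mem_toFinset]; rfl
  set N := zdiv z⁻¹ T' with hNdef
  have hNapp : ∀ Q, N Q = if Q ∈ T' then -Q.ord z else 0 := fun Q => by
    rw [hNdef, zdiv_apply, Groth.Agent.Lib.Helper27.FF.ord_inv]
  have hNpos : ∀ Q ∈ T', 0 < N Q := fun Q hQ => by
    rw [hNapp, if_pos hQ]
    have h1 := ((hT' Q).mp hQ).1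
    rw [val_eq_exp_neg_ord Q hz0, ← WithZero.exp_zero, WithZero.exp_lt_exp] at h1
    exact h1
  have hN0 : 0 ≤ N := by
    intro Q
    by_cases hQ : Q ∈ T'
    · exact (hNpos Q hQ).le
    · rw [hNapp, if_neg hQ]
      exact le_rfl
  have hNdeg : 0 ≤ N.deg := deg_nonneg hN0
  set m : ℕ := 2 * genus k K + N.deg.toNat with hmdef
  set E := m • B - N with hEdef
  have hEdeg : 2 * (genus k K : ℤ) ≤ E.deg := by
    rw [hEdef, deg_sub, ← natCast_zsmul, deg_zsmul, hmdef]
    push_cast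
    rw [Int.toNat_of_nonneg hNdeg]
    nlinarith [Int.natCast_nonneg (genus k K)]
  have C := Groth.Agent.Lib.Helper27.FF.core_of hK
  have hlt : ell (E - Finsupp.single P 1) < ell E := by
    have hdeg' : (E - Finsupp.single P 1).deg = E.deg - 1 := by
      rw [deg_sub, deg_single, deg_eq_one hK P]
      norm_num
    have h1 := C.ell_eq_of_deg_ge (D := E) (by omega)
    have h2 := C.ell_eq_of_deg_ge (D := E - Finsupp.single P 1) (by rw [hdeg']; omega)
    rw [hdeg'] at h2
    have : (ell (E - Finsupp.single P 1) : ℤ) < ell E := by omega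
    exact_mod_cast this
  obtain ⟨w, hwE, hPw⟩ := exists_mem_L_val_eq E P hlt
  have hEQ : ∀ Q : Place k K, Q.1 x ≤ 1 → E Q = -N Q := by
    intro Q hQ
    rw [hEdef, Finsupp.sub_apply, Finsupp.smul_apply, hBdef, poleDiv_eq_zero hx0 Z hZ hQ,
      smul_zero, zero_sub]
  have hPT' : P ∉ T' := by
    intro h
    exact absurd ((hT' P).mp h).1 (not_lt.mpr hPz)
  have hwQ : ∀ Q : Place k K, Q.1 x ≤ 1 → Q.1 w ≤ WithZero.exp (-N Q) := fun Q hQ => by
    have := hwE Q
    rwa [hEQ Q hQ] at this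
  refine ⟨w, fun Q hQ => ?_, ?_, fun Q hQ => ?_⟩
  · refine (hwQ Q hQ).trans ?_
    rw [← WithZero.exp_zero, WithZero.exp_le_exp]
    have := hN0 Q
    simp only [Finsupp.coe_zero, Pi.zero_apply] at this
    omega
  · rw [hPw, hEQ P hPx, hNapp, if_neg hPT', neg_zero, WithZero.exp_zero]
  · rw [map_mul]
    by_cases hQT : Q ∈ T'
    · have h1 : Q.1 z = WithZero.exp (N Q) := by
        rw [hNapp, if_pos hQT, val_eq_exp_neg_ord Q hz0]
      rw [h1]
      calc WithZero.exp (N Q) * Q.1 w ≤ WithZero.exp (N Q) * WithZero.exp (-N Q) :=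
            mul_le_mul' le_rfl (hwQ Q hQ)
        _ = 1 := by rw [← WithZero.exp_add, add_neg_cancel, WithZero.exp_zero]
    · have h1 : Q.1 z ≤ 1 := by
        by_contra h
        exact hQT ((hT' Q).mpr ⟨not_le.mp h, hQ⟩)
      have h2 : Q.1 w ≤ 1 := by
        have := hwQ Q hQ
        rwa [hNapp, if_neg hQT, neg_zero, WithZero.exp_zero] at this
      exact mul_le_one' h1 h2

/-- A birational projective map is nonsingular at all but finitely many places. -/
theorem finite_singular [IsAlgClosed k] (hK : IsFunctionField k K) {n : ℕ}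
    (φ : Fin (n + 1) → K) (hφ : LinearIndependent k φ)
    (hbir : IntermediateField.adjoin k (Set.range fun i => φ i / φ 0) = ⊤) :
    {P : Place k K | ¬ IsNonsingularAt φ P}.Finite := by
  classical
  have h0 : ∀ i, φ i ≠ 0 := hφ.ne_zero
  have key : ∀ j : Fin (n + 1), ∃ c : K, c ≠ 0 ∧ c ∈ ratioAlg (k := k) φ j ∧
      ∀ P : Place k K, (∀ i, P.1 (φ i) ≤ P.1 (φ j)) → P.1 c = 1 → IsNonsingularAt φ P := by
    intro j
    have hfrac := adjoin_ratio_eq_top φ 0 j (h0 j) hbir
    obtain ⟨x, hxR, hx, hR, V, hVfin, hVx, hVsup⟩ := exists_x_fd hK (fun i => φ i / φ j) hfrac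
    haveI := hVfin
    have hfrac' : IntermediateField.adjoin k
        ((ratioAlg (k := k) φ j : Subalgebra k K) : Set K) = ⊤ := by
      rw [eq_top_iff, ← hfrac]
      exact IntermediateField.adjoin.mono k _ _ Algebra.subset_adjoin
    obtain ⟨c, hcR, hc0, hcV⟩ := exists_conductor (ratioAlg (k := k) φ j) hfrac' V
    refine ⟨c, hc0, hcR, fun P hj hPc z hz => ?_⟩
    have hRP : ∀ r ∈ ratioAlg (k := k) φ j, P.1 r ≤ 1 := fun r hr =>
      val_le_one_of_mem_ratioAlg φ P (h0 j) hj hr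
    have hPx := hRP x hxR
    obtain ⟨w, hwS, hPw, hzwS⟩ := exists_unit_mul_integral_RR hK hx P hPx z hz
    have h1 := hVsup _ hzwS
    have h2 := hVsup _ hwS
    have hmul : ∀ y ∈ Subalgebra.toSubmodule (ratioAlg (k := k) φ j) ⊔ V,
        c * y ∈ ratioAlg (k := k) φ j := by
      intro y hy
      obtain ⟨r, hr, v, hv, rfl⟩ := Submodule.mem_sup.mp hy
      rw [mul_add]
      exact Subalgebra.add_mem _ (Subalgebra.mul_mem _ hcR hr) (hcV v hv)
    have h3 := hmul _ h1
    have h4 := hmul _ h2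
    have hPcw : P.1 (c * w) = 1 := by rw [map_mul, hPc, hPw, one_mul]
    have hw0 : w ≠ 0 := by
      rintro rfl
      rw [map_zero] at hPw
      exact zero_ne_one hPw
    have h5 := div_mem_locAlg h3 h4 hPcw
    have e : c * (z * w) / (c * w) = z := by
      field_simp
    rw [e] at h5
    exact ⟨j, h0 j, hj, h5⟩
  choose c hc0 hcR hc using key
  refine Set.Finite.subset (Set.finite_iUnion (fun j => finite_zeros_of_ne_zero hK (hc0 j))) ?_
  intro P hP
  obtain ⟨j, hj0, hj⟩ := exists_index φ P h0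
  rw [Set.mem_iUnion]
  refine ⟨j, ?_⟩
  have hle : P.1 (c j) ≤ 1 := val_le_one_of_mem_ratioAlg φ P hj0 hj (hcR j)
  by_contra hnot
  have h1 : P.1 (c j) = 1 := le_antisymm hle (not_lt.mp hnot)
  exact hP (hc j P hj h1)

end Groth.Agent.Lib.Helper23.FF
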