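import Mathlib
import Groth.Prelude.Def_W4bk4goldsch45
import Groth.Agent.Lib.Helper23.FFFib3
import Groth.Agent.Lib.Helper23.FFSing2

/-!
The local conductor: elements vanishing to high order along the fibre lie in the local ring.
-/

set_option autoImplicit false

namespace Groth.Agent.Lib.Helper23.FF

open FunFld
open scoped IntermediateField

universe u v
variable {k : Type u} {K : Type v} [Field k] [Field K] [Algebra k K]

/-- Killing the poles of `z` outside the poles of `x` by a `P`-unit of `R`, when each such pole is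
also a pole of some element of the local ring. -/
theorem exists_unit_mul_integral' (R : Subalgebra k K) (P : Place k K) (x : K)
    (hR : ∀ r ∈ R, ∀ Q : Place k K, Q.1 x ≤ 1 → Q.1 r ≤ 1)
    (T : Finset (Place k K)) : ∀ z : K,
      (∀ Q : Place k K, Q.1 x ≤ 1 → 1 < Q.1 z → Q ∈ T ∧ ∃ a ∈ locAlg R P, 1 < Q.1 a) →
      ∃ w ∈ R, P.1 w = 1 ∧ ∀ Q : Place k K, Q.1 x ≤ 1 → Q.1 (z * w) ≤ 1 := by
  classical
  induction T using Finset.induction_on with
  | empty =>
    intro z hT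
    refine ⟨1, R.one_mem, map_one _, fun Q hQ => ?_⟩
    rw [mul_one]
    by_contra h
    exact absurd (hT Q hQ (not_le.mp h)).1 (Finset.notMem_empty Q)
  | insert Q₀ T _ ih =>
    intro z hT
    by_cases hcase : Q₀.1 x ≤ 1 ∧ 1 < Q₀.1 z
    · obtain ⟨hQx, hQz⟩ := hcase
      obtain ⟨-, a, ⟨u₀, hu₀, w₀, hw₀, hPw₀, haw⟩, hQa⟩ := hT Q₀ hQx hQz
      have hQu : Q₀.1 u₀ ≤ 1 := hR u₀ hu₀ Q₀ hQx
      have hQw : Q₀.1 w₀ < 1 := by
        by_contra h
        rw [not_lt] at h
        have h2 : Q₀.1 a * Q₀.1 w₀ = Q₀.1 u₀ := by rw [← map_mul, haw]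
        have h3 : 1 < Q₀.1 a * Q₀.1 w₀ := by
          calc (1 : WithZero (Multiplicative ℤ)) < Q₀.1 a := hQa
            _ = Q₀.1 a * 1 := (mul_one _).symm
            _ ≤ Q₀.1 a * Q₀.1 w₀ := mul_le_mul' le_rfl h
        rw [h2] at h3
        exact absurd h3 (not_lt.mpr hQu)
      obtain ⟨e, he⟩ := exists_nat_le_exp (Q₀.1 z)
      have hQw' : Q₀.1 w₀ ≤ WithZero.exp (-1) := le_exp_neg_one_of_lt_one hQw
      have hz' : Q₀.1 (z * w₀ ^ e) ≤ 1 := by
        rw [map_mul, map_pow]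
        calc Q₀.1 z * Q₀.1 w₀ ^ e ≤ WithZero.exp (e : ℤ) * WithZero.exp (-1) ^ e :=
              mul_le_mul' he (pow_le_pow_left' hQw' e)
          _ = 1 := by
              rw [← WithZero.exp_nsmul, ← WithZero.exp_add]
              simp
      have hT' : ∀ Q : Place k K, Q.1 x ≤ 1 → 1 < Q.1 (z * w₀ ^ e) →
          Q ∈ T ∧ ∃ a ∈ locAlg R P, 1 < Q.1 a := by
        intro Q hQ hQz'
        have h2 : Q.1 (z * w₀ ^ e) ≤ Q.1 z := by
          rw [map_mul, map_pow]
          calc Q.1 z * Q.1 w₀ ^ e ≤ Q.1 z * 1 :=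
                mul_le_mul' le_rfl (pow_le_one' (hR w₀ hw₀ Q hQ) e)
            _ = Q.1 z := mul_one _
        obtain ⟨h3, h5⟩ := hT Q hQ (lt_of_lt_of_le hQz' h2)
        refine ⟨?_, h5⟩
        rcases Finset.mem_insert.mp h3 with rfl | h4
        · exact absurd hQz' (not_lt.mpr hz')
        · exact h4
      obtain ⟨w', hw', hPw', hw'Q⟩ := ih (z * w₀ ^ e) hT'
      refine ⟨w₀ ^ e * w', R.mul_mem (R.pow_mem hw₀ e) hw', ?_, fun Q hQ => ?_⟩
      · rw [map_mul, map_pow, hPw₀, one_pow, one_mul, hPw']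
      · rw [← mul_assoc]
        exact hw'Q Q hQ
    · refine ih z (fun Q hQ hQz => ?_)
      obtain ⟨h3, h5⟩ := hT Q hQ hQz
      refine ⟨?_, h5⟩
      rcases Finset.mem_insert.mp h3 with rfl | h4
      · exact absurd ⟨hQ, hQz⟩ hcase
      · exact h4

/-- **Local conductor.** Elements vanishing to order `≥ N` at all places over `a = φ(P)` lie in the
local ring of `φ` at `P`. -/
theorem exists_local_conductor [IsAlgClosed k] (hK : IsFunctionField k K) {n : ℕ} (hn : 1 ≤ n)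
    (φ : Fin (n + 1) → K) (hφ : LinearIndependent k φ)
    (hbir : IntermediateField.adjoin k (Set.range fun i => φ i / φ 0) = ⊤) (P : Place k K) :
    ∃ N : ℕ, ∀ z : K,
      (∀ Q : Place k K, SameImage φ P Q → Q.1 z ≤ WithZero.exp (-(N : ℤ))) →
      InLocRing φ P z := by
  classical
  have h0 : ∀ i, φ i ≠ 0 := hφ.ne_zero
  obtain ⟨j, hj0, hj⟩ := exists_index φ P h0
  have hiff := inLocRing_iff_of_index φ P hj0 hj
  have hfrac := adjoin_ratio_eq_top φ 0 j hj0 hbir
  obtain ⟨x, hxR, hx, hR, V, hVfin, hVx, hVsup⟩ := exists_x_fd hK (fun i => φ i / φ j) hfrac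
  haveI := hVfin
  have hfrac' : IntermediateField.adjoin k
      ((ratioAlg (k := k) φ j : Subalgebra k K) : Set K) = ⊤ := by
    rw [eq_top_iff, ← hfrac]
    exact IntermediateField.adjoin.mono k _ _ Algebra.subset_adjoin
  obtain ⟨c, hcR, hc0, hcV⟩ := exists_conductor (ratioAlg (k := k) φ j) hfrac' V
  have hZfin := finite_zeros_of_ne_zero hK hc0
  set Zc := hZfin.toFinset with hZcdef
  have hZc : ∀ Q, Q ∈ Zc ↔ Q.1 c < 1 := fun Q => by
    rw [hZcdef, Set.Finite.mem_toFinset]; rfl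
  refine ⟨∑ Q ∈ Zc, (Q.ord c).toNat, fun z hz => ?_⟩
  set N := ∑ Q ∈ Zc, (Q.ord c).toNat with hNdef
  rw [hiff]
  have hcN : ∀ Q : Place k K, WithZero.exp (-(N : ℤ)) ≤ Q.1 c := by
    intro Q
    rw [val_eq_exp_neg_ord Q hc0, WithZero.exp_le_exp, neg_le_neg_iff]
    by_cases hQ : Q ∈ Zc
    · have h1 : (Q.ord c).toNat ≤ N :=
        Finset.single_le_sum (f := fun Q : Place k K => (Q.ord c).toNat)
          (fun _ _ => Nat.zero_le _) hQ
      have h2 : Q.ord c ≤ ((Q.ord c).toNat : ℤ) := Int.self_le_toNat _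
      have h3 : ((Q.ord c).toNat : ℤ) ≤ (N : ℤ) := by exact_mod_cast h1
      omega
    · have h1 : ¬ Q.1 c < 1 := fun h => hQ ((hZc Q).mpr h)
      rw [not_lt, val_eq_exp_neg_ord Q hc0, ← WithZero.exp_zero, WithZero.exp_le_exp] at h1
      have : (0 : ℤ) ≤ N := Int.natCast_nonneg N
      omega
  have hpoles : ∀ Q : Place k K, Q.1 x ≤ 1 → 1 < Q.1 (z / c) →
      Q ∈ (finite_poles hK (z / c)).toFinset ∧
        ∃ a ∈ locAlg (ratioAlg (k := k) φ j) P, 1 < Q.1 a := by
    intro Q hQx hQz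
    refine ⟨by rw [Set.Finite.mem_toFinset]; exact hQz, ?_⟩
    have hnot : ¬ SameImage φ P Q := by
      intro hsame
      have h1 := hz Q hsame
      have h2 : Q.1 (z / c) ≤ 1 := by
        rw [map_div₀]
        exact div_le_one_of_le₀ (h1.trans (hcN Q)) zero_le
      exact absurd hQz (not_lt.mpr h2)
    by_contra hcon
    push Not at hcon
    exact hnot (sameImage_of_inLocRing_le hK hn φ hφ P Q
      (fun a ha => hcon a ((hiff a).mp ha)))
  obtain ⟨w, hwR, hPw, hwQ⟩ := exists_unit_mul_integral' (ratioAlg (k := k) φ j) P x hR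
    (finite_poles hK (z / c)).toFinset (z / c) hpoles
  have h1 := hVsup _ hwQ
  have hmul : ∀ y ∈ Subalgebra.toSubmodule (ratioAlg (k := k) φ j) ⊔ V,
      c * y ∈ ratioAlg (k := k) φ j := by
    intro y hy
    obtain ⟨r, hr, v, hv, rfl⟩ := Submodule.mem_sup.mp hy
    rw [mul_add]
    exact Subalgebra.add_mem _ (Subalgebra.mul_mem _ hcR hr) (hcV v hv)
  have h2 := hmul _ h1
  have e1 : c * (z / c * w) = z * w := by
    field_simp
  rw [e1] at h2
  have hw0 : w ≠ 0 := by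
    rintro rfl
    rw [map_zero] at hPw
    exact zero_ne_one hPw
  have h3 := div_mem_locAlg h2 hwR hPw
  rwa [mul_div_cancel_right₀ z hw0] at h3

end Groth.Agent.Lib.Helper23.FF
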