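import Mathlib
import Groth.Prelude.Def_W4bk4goldsch45
import Groth.Agent.Lib.Helper23.FFSing2
import Groth.Agent.Lib.Helper23.FFAC2
import Groth.Agent.Lib.Helper23.FFZeta1
import Groth.Agent.Lib.Helper27.Geo2

/-!
A `k`-derivation of a function field in characteristic zero, and the cofinite set of places whose
valuation ring it preserves.
-/

set_option autoImplicit false

namespace Groth.Agent.Lib.Helper23.FF

open FunFld
open scoped IntermediateField

universe u v
variable {k : Type u} {K : Type v} [Field k] [Field K] [Algebra k K]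

/-- In characteristic zero a function field carries a `k`-derivation that is nonzero on every
transcendental element. -/
theorem exists_derivation [CharZero k] (hK : IsFunctionField k K) :
    ∃ δ : Derivation k K K, ∀ z : K, Transcendental k z → δ z ≠ 0 := by
  classical
  obtain ⟨⟨x, hx, _⟩, _⟩ := id hK
  haveI : CharZero K := charZero_of_injective_algebraMap (algebraMap k K).injective
  have hsep : ∀ z : K, Transcendental k z → Algebra.IsSeparable k⟮z⟯ K := by
    intro z hz
    haveI := finiteDimensional_adjoin hK hz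
    haveI : CharZero k⟮z⟯ := charZero_of_injective_algebraMap (algebraMap k k⟮z⟯).injective
    exact Algebra.IsAlgebraic.isSeparable_of_perfectField
  haveI := hsep x hx
  obtain ⟨h1, _⟩ := Groth.Agent.Lib.Helper27.Geo.kaehler_aux (k := k) x hx
  haveI : FiniteDimensional K (Ω[K⁄k]) := Module.finite_of_finrank_pos (by rw [h1]; exact one_pos)
  have h2 : Module.finrank K (Ω[K⁄k]) = Module.finrank K K := by rw [h1, Module.finrank_self]
  let e : (Ω[K⁄k]) ≃ₗ[K] K := LinearEquiv.ofFinrankEq _ _ h2
  refine ⟨(e : (Ω[K⁄k]) →ₗ[K] K).compDer (KaehlerDifferential.D k K), fun z hz => ?_⟩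
  haveI := hsep z hz
  obtain ⟨_, h3⟩ := Groth.Agent.Lib.Helper27.Geo.kaehler_aux (k := k) z hz
  show e (KaehlerDifferential.D k K z) ≠ 0
  rw [Ne, LinearEquiv.map_eq_zero_iff]
  exact h3

/-- Over an algebraically closed constant field of characteristic zero: a derivation whose kernel
is exactly the constants. -/
theorem exists_derivation' [CharZero k] [IsAlgClosed k] (hK : IsFunctionField k K) :
    ∃ δ : Derivation k K K, ∀ z : K, δ z = 0 ↔ z ∈ Set.range (algebraMap k K) := by
  obtain ⟨δ, hδ⟩ := exists_derivation hK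
  refine ⟨δ, fun z => ⟨fun h => ?_, ?_⟩⟩
  · by_contra hz
    exact hδ z (transcendental_of_not_mem_range hK hz) h
  · rintro ⟨c, rfl⟩
    exact δ.map_algebraMap c

/-- Outside a finite set of places, the valuation ring is a localisation of a given finitely
generated subalgebra with fraction field `K`. -/
theorem exists_conductor_place [IsAlgClosed k] (hK : IsFunctionField k K)
    {ι : Type*} [Fintype ι] (g : ι → K)
    (hfrac : IntermediateField.adjoin k (Set.range g) = ⊤) :
    ∃ c ∈ Algebra.adjoin k (Set.range g), c ≠ 0 ∧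
      ∀ P : Place k K, (∀ i, P.1 (g i) ≤ 1) → P.1 c = 1 → ∀ z : K, P.1 z ≤ 1 →
        ∃ u ∈ Algebra.adjoin k (Set.range g), ∃ w ∈ Algebra.adjoin k (Set.range g),
          P.1 w = 1 ∧ z * w = u := by
  classical
  haveI : Infinite k := IsAlgClosed.instInfinite
  obtain ⟨x, hxR, hx, hR, V, hVfin, hVx, hVsup⟩ := exists_x_fd hK g hfrac
  haveI := hVfin
  have hfrac' : IntermediateField.adjoin k
      ((Algebra.adjoin k (Set.range g) : Subalgebra k K) : Set K) = ⊤ := by
    rw [eq_top_iff, ← hfrac]
    exact IntermediateField.adjoin.mono k _ _ Algebra.subset_adjoin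
  obtain ⟨c, hcR, hc0, hcV⟩ := exists_conductor (Algebra.adjoin k (Set.range g)) hfrac' V
  refine ⟨c, hcR, hc0, fun P hg hPc z hz => ?_⟩
  have hRP : ∀ r ∈ Algebra.adjoin k (Set.range g), P.1 r ≤ 1 := fun r hr =>
    val_le_one_of_mem_adjoin P g hg hr
  obtain ⟨w, hwS, hPw, hzwS⟩ := exists_unit_mul_integral_RR hK hx P (hRP x hxR) z hz
  have key : ∀ y : K, y ∈ Subalgebra.toSubmodule (Algebra.adjoin k (Set.range g)) ⊔ V →
      c * y ∈ Algebra.adjoin k (Set.range g) := by
    intro y hy
    obtain ⟨a, ha, v, hv, rfl⟩ := Submodule.mem_sup.mp hy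
    rw [mul_add]
    exact Subalgebra.add_mem _ (Subalgebra.mul_mem _ hcR ha) (hcV v hv)
  refine ⟨c * (z * w), key _ (hVsup _ hzwS), c * w, key _ (hVsup _ hwS), ?_, by ring⟩
  rw [map_mul, hPc, hPw, one_mul]

end Groth.Agent.Lib.Helper23.FF
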