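import Mathlib
import Groth.Prelude.Def_W4bk4goldsch45
import Groth.Agent.Lib.Helper23.FFDer1
import Groth.Agent.Lib.Helper23.FFNS4
import Groth.Agent.Lib.Helper23.FF2

/-!
The valuation rings preserved by a derivation form a cofinite set of places.
-/

set_option autoImplicit false

namespace Groth.Agent.Lib.Helper23.FF

open FunFld
open scoped IntermediateField

universe u v
variable {k : Type u} {K : Type v} [Field k] [Field K] [Algebra k K]

/-- A function field in characteristic zero is generated by two elements. -/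
theorem exists_two_generators [CharZero k] (hK : IsFunctionField k K) :
    ∃ g : Fin 2 → K, IntermediateField.adjoin k (Set.range g) = ⊤ := by
  classical
  obtain ⟨⟨x, hx, _⟩, _⟩ := id hK
  haveI : CharZero K := charZero_of_injective_algebraMap (algebraMap k K).injective
  haveI := finiteDimensional_adjoin hK hx
  haveI : CharZero k⟮x⟯ := charZero_of_injective_algebraMap (algebraMap k k⟮x⟯).injective
  haveI : Algebra.IsSeparable k⟮x⟯ K := Algebra.IsAlgebraic.isSeparable_of_perfectField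
  obtain ⟨α, hα⟩ := Field.exists_primitive_element k⟮x⟯ K
  refine ⟨![x, α], ?_⟩
  have h1 := IntermediateField.adjoin_adjoin_left k ({x} : Set K) ({α} : Set K)
  rw [hα] at h1
  rw [eq_top_iff]
  have h2 : (⊤ : IntermediateField k K) ≤ IntermediateField.adjoin k (({x} : Set K) ∪ {α}) := by
    rw [← h1]
    intro z _
    exact IntermediateField.mem_top
  refine h2.trans (IntermediateField.adjoin.mono k _ _ ?_)
  rintro z (hz | hz)
  · exact ⟨0, by simpa using hz.symm⟩
  · exact ⟨1, by simpa using hz.symm⟩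

/-- A derivation preserves the valuation rings of all but finitely many places. -/
theorem exists_finite_bad_derivation [CharZero k] [IsAlgClosed k] (hK : IsFunctionField k K)
    (δ : Derivation k K K) :
    ∃ T : Set (Place k K), T.Finite ∧ ∀ P : Place k K, P ∉ T → ∀ z : K, P.1 z ≤ 1 →
      P.1 (δ z) ≤ 1 := by
  classical
  obtain ⟨g, hfrac⟩ := exists_two_generators hK
  obtain ⟨c, hcR, hc0, hc⟩ := exists_conductor_place hK g hfrac
  set g' : Fin 2 ⊕ Fin 2 → K := Sum.elim g (fun i => δ (g i)) with hg'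
  refine ⟨(⋃ i, {P : Place k K | 1 < P.1 (g' i)}) ∪ {P : Place k K | P.1 c ≠ 1},
    (Set.finite_iUnion (fun i => finite_poles hK (g' i))).union (finite_val_ne_one hK hc0),
    fun P hP z hz => ?_⟩
  rw [Set.mem_union, not_or, Set.mem_iUnion, not_exists] at hP
  have hg'P : ∀ i, P.1 (g' i) ≤ 1 := fun i => not_lt.mp (hP.1 i)
  have hPc : P.1 c = 1 := by
    by_contra h
    exact hP.2 h
  have hgP : ∀ i, P.1 (g i) ≤ 1 := fun i => hg'P (Sum.inl i)
  have claim1 : ∀ a ∈ Algebra.adjoin k (Set.range g),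
      a ∈ Algebra.adjoin k (Set.range g') ∧ δ a ∈ Algebra.adjoin k (Set.range g') := by
    intro a ha
    refine Algebra.adjoin_induction (p := fun a _ => a ∈ Algebra.adjoin k (Set.range g') ∧
      δ a ∈ Algebra.adjoin k (Set.range g')) ?_ ?_ ?_ ?_ ha
    · rintro _ ⟨i, rfl⟩
      exact ⟨Algebra.subset_adjoin ⟨Sum.inl i, rfl⟩, Algebra.subset_adjoin ⟨Sum.inr i, rfl⟩⟩
    · intro r
      refine ⟨Subalgebra.algebraMap_mem _ r, ?_⟩
      rw [δ.map_algebraMap]
      exact Subalgebra.zero_mem _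
    · rintro a b _ _ ⟨ha1, ha2⟩ ⟨hb1, hb2⟩
      refine ⟨Subalgebra.add_mem _ ha1 hb1, ?_⟩
      rw [map_add]
      exact Subalgebra.add_mem _ ha2 hb2
    · rintro a b _ _ ⟨ha1, ha2⟩ ⟨hb1, hb2⟩
      refine ⟨Subalgebra.mul_mem _ ha1 hb1, ?_⟩
      rw [δ.leibniz, smul_eq_mul, smul_eq_mul]
      exact Subalgebra.add_mem _ (Subalgebra.mul_mem _ ha1 hb2) (Subalgebra.mul_mem _ hb1 ha2)
  have claim2 : ∀ a ∈ Algebra.adjoin k (Set.range g'), P.1 a ≤ 1 := fun a ha =>
    val_le_one_of_mem_adjoin P g' hg'P ha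
  obtain ⟨u, hu, w, hw, hPw, hzw⟩ := hc P hgP hPc z hz
  have h1 : z * δ w + w * δ z = δ u := by
    rw [← hzw, δ.leibniz, smul_eq_mul, smul_eq_mul]
  have h2 : w * δ z = δ u - z * δ w := by rw [← h1]; ring
  have h3 : P.1 (w * δ z) ≤ 1 := by
    rw [h2]
    refine (Valuation.map_sub _ _ _).trans (max_le (claim2 _ (claim1 u hu).2) ?_)
    rw [map_mul]
    exact mul_le_one' hz (claim2 _ (claim1 w hw).2)
  rwa [map_mul, hPw, one_mul] at h3

/-- At a place whose valuation ring is preserved, a derivation lowers the order of vanishing by at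
most one. -/
theorem val_derivation_le (δ : Derivation k K K) (P : Place k K)
    (hP : ∀ z : K, P.1 z ≤ 1 → P.1 (δ z) ≤ 1) {z : K} (hz : P.1 z < 1) :
    P.1 (δ z) ≤ WithZero.exp (1 : ℤ) * P.1 z := by
  classical
  rcases eq_or_ne z 0 with rfl | hz0
  · simp
  obtain ⟨π, hπ, hπ0, hπ1⟩ := exists_uniformizer P
  have hval := Groth.Agent.Lib.Helper27.FF.val_eq_exp_neg_ord P hz0
  set e : ℤ := P.ord z with he
  have he1 : 1 ≤ e := by
    rw [hval, ← WithZero.exp_zero, WithZero.exp_lt_exp] at hz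
    omega
  obtain ⟨n, hn⟩ : ∃ n : ℕ, e = (n : ℤ) + 1 := ⟨(e - 1).toNat, by omega⟩
  set u : K := z / π ^ (n + 1) with hu
  have hπn : P.1 (π ^ (n + 1)) = WithZero.exp (-((n : ℤ) + 1)) := by
    have := val_zpow_uniformizer P hπ ((n : ℤ) + 1)
    rwa [show ((n : ℤ) + 1) = ((n + 1 : ℕ) : ℤ) by push_cast; ring, zpow_natCast,
      show (((n + 1 : ℕ) : ℤ)) = (n : ℤ) + 1 by push_cast; ring] at this
  have hPu : P.1 u = 1 := by
    rw [hu, map_div₀, hπn, hval, hn]
    exact div_self WithZero.exp_ne_zero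
  have hzu : z = π ^ (n + 1) * u := by
    rw [hu]
    field_simp
  have hnat : ∀ m : ℕ, P.1 ((m : K)) ≤ 1 := fun m => by
    have := P.2.1 (m : k)
    rwa [map_natCast] at this
  have hδ : δ z = π ^ (n + 1) * δ u + u * (((n + 1 : ℕ) : K) * (π ^ n * δ π)) := by
    conv_lhs => rw [hzu]
    rw [δ.leibniz, smul_eq_mul, smul_eq_mul, δ.leibniz_pow, Nat.add_sub_cancel, smul_eq_mul,
      nsmul_eq_mul]
  have hπn' : P.1 (π ^ n) = WithZero.exp (-(n : ℤ)) := by
    have := val_zpow_uniformizer P hπ (n : ℤ)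
    rwa [zpow_natCast] at this
  have hgoal : WithZero.exp (1 : ℤ) * P.1 z = WithZero.exp (-(n : ℤ)) := by
    rw [hval, hn, ← WithZero.exp_add]
    congr 1
    ring
  rw [hgoal, hδ]
  refine (Valuation.map_add _ _ _).trans (max_le ?_ ?_)
  · rw [map_mul, hπn]
    calc WithZero.exp (-((n : ℤ) + 1)) * P.1 (δ u)
        ≤ WithZero.exp (-((n : ℤ) + 1)) * 1 := by
          gcongr
          exact hP u hPu.le
      _ ≤ WithZero.exp (-(n : ℤ)) := by
          rw [mul_one, WithZero.exp_le_exp]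
          omega
  · rw [map_mul, map_mul, map_mul, hPu, one_mul, hπn']
    calc P.1 ((n + 1 : ℕ) : K) * (WithZero.exp (-(n : ℤ)) * P.1 (δ π))
        ≤ 1 * (WithZero.exp (-(n : ℤ)) * 1) := by
          gcongr
          · exact hnat _
          · exact hP π hπ1.le
      _ = WithZero.exp (-(n : ℤ)) := by rw [one_mul, mul_one]

end Groth.Agent.Lib.Helper23.FF
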