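import Mathlib
import Groth.Prelude.Def_W4bk4goldsch45
import Groth.Agent.Lib.Helper23.FFDer2

/-!
Finiteness of the ramification points of a linear system in characteristic zero, without
Wronskians: induction on the dimension using a derivation.
-/

set_option autoImplicit false

namespace Groth.Agent.Lib.Helper23.FF

open FunFld
open scoped IntermediateField

universe u v
variable {k : Type u} {K : Type v} [Field k] [Field K] [Algebra k K]

theorem finite_ramification_aux [CharZero k] [IsAlgClosed k] (hK : IsFunctionField k K)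
    (δ : Derivation k K K) (hδ : ∀ z : K, δ z = 0 ↔ z ∈ Set.range (algebraMap k K))
    (T : Set (Place k K))
    (hT : ∀ P : Place k K, P ∉ T → ∀ z : K, P.1 z ≤ 1 → P.1 (δ z) ≤ 1) :
    ∀ (n : ℕ) (V : Submodule k K), FiniteDimensional k V → Module.finrank k V = n →
      {Q : Place k K | Q ∉ T ∧ ∃ f ∈ V, f ≠ 0 ∧ Q.1 f ≤ WithZero.exp (-(n : ℤ))}.Finite := by
  classical
  intro n
  induction n with
  | zero =>
    intro V hV hn
    haveI := hV
    have hbot : V = ⊥ := Submodule.finrank_eq_zero.mp hn
    convert Set.finite_empty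
    ext Q
    simp only [Set.mem_setOf_eq, Set.mem_empty_iff_false, iff_false, not_and, not_exists]
    rintro _ f hf hf0 _
    rw [hbot, Submodule.mem_bot] at hf
    exact hf0 hf
  | succ n ih =>
    intro V hV hn
    haveI := hV
    have hVne : V ≠ ⊥ := by
      intro h
      rw [h, finrank_bot] at hn
      omega
    obtain ⟨f₀, hf₀V, hf₀⟩ := Submodule.exists_mem_ne_zero_of_ne_bot hVne
    set ψ : K →ₗ[k] K := δ.toLinearMap ∘ₗ LinearMap.mulLeft k f₀⁻¹ with hψ
    have hψapp : ∀ f, ψ f = δ (f₀⁻¹ * f) := fun f => rfl
    set ψV : V →ₗ[k] K := ψ.domRestrict V with hψV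
    have hrange : LinearMap.range ψV = V.map ψ := LinearMap.range_domRestrict _ _
    have hker : Module.finrank k (LinearMap.ker ψV) = 1 := by
      have h0 : ψV ⟨f₀, hf₀V⟩ = 0 := by
        show ψ f₀ = 0
        rw [hψapp, inv_mul_cancel₀ hf₀, hδ]
        exact ⟨1, map_one _⟩
      have hnz : (⟨⟨f₀, hf₀V⟩, h0⟩ : LinearMap.ker ψV) ≠ 0 := by
        intro h
        apply hf₀
        have := congrArg (fun z : LinearMap.ker ψV => ((z : V) : K)) h
        simpa using this
      refine (finrank_eq_one_iff_of_nonzero' (K := k) (V := LinearMap.ker ψV) ⟨⟨f₀, hf₀V⟩, h0⟩ hnz).mpr ?_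
      rintro ⟨⟨w, hwV⟩, hw⟩
      have hw' : ψ w = 0 := hw
      rw [hψapp, hδ] at hw'
      obtain ⟨c, hc⟩ := hw'
      refine ⟨c, ?_⟩
      apply Subtype.ext
      apply Subtype.ext
      show c • f₀ = w
      rw [Algebra.smul_def, hc]
      field_simp
    have hV' : Module.finrank k (V.map ψ) = n := by
      have := LinearMap.finrank_range_add_finrank_ker ψV
      rw [hker, hn, hrange] at this
      omega
    have hfin' := ih (V.map ψ) inferInstance hV'
    refine Set.Finite.subset (hfin'.union (finite_val_ne_one hK hf₀)) ?_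
    rintro Q ⟨hQT, f, hfV, hf0, hQf⟩
    by_cases hQf₀ : Q.1 f₀ = 1
    · left
      refine ⟨hQT, ψ f, Submodule.mem_map_of_mem hfV, ?_, ?_⟩
      · rw [hψapp, Ne, hδ]
        rintro ⟨c, hc⟩
        have hc0 : c ≠ 0 := by
          rintro rfl
          rw [map_zero] at hc
          have := hc.symm
          rw [mul_eq_zero, inv_eq_zero] at this
          rcases this with h | h
          · exact hf₀ h
          · exact hf0 h
        have h1 : Q.1 (f₀⁻¹ * f) = 1 := by rw [← hc, val_const Q hc0]
        rw [map_mul, map_inv₀, hQf₀, inv_one, one_mul] at h1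
        rw [h1, ← WithZero.exp_zero, WithZero.exp_le_exp] at hQf
        push_cast at hQf
        omega
      · have hg : Q.1 (f₀⁻¹ * f) = Q.1 f := by
          rw [map_mul, map_inv₀, hQf₀, inv_one, one_mul]
        have hlt : Q.1 (f₀⁻¹ * f) < 1 := by
          rw [hg]
          refine lt_of_le_of_lt hQf ?_
          rw [← WithZero.exp_zero, WithZero.exp_lt_exp]
          push_cast
          omega
        rw [hψapp]
        refine (val_derivation_le δ Q (hT Q hQT) hlt).trans ?_
        rw [hg]
        calc WithZero.exp (1 : ℤ) * Q.1 f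
            ≤ WithZero.exp (1 : ℤ) * WithZero.exp (-((n + 1 : ℕ) : ℤ)) := by gcongr
          _ = WithZero.exp (-(n : ℤ)) := by
            rw [← WithZero.exp_add]
            congr 1
            push_cast
            ring
    · right
      exact hQf₀

/-- **Finiteness of ramification points** (characteristic zero): for a linear system `V` of
dimension `n`, only finitely many places carry a nonzero member of `V` vanishing to order at
least `n`. -/
theorem finite_ramification [CharZero k] [IsAlgClosed k] (hK : IsFunctionField k K)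
    (V : Submodule k K) [FiniteDimensional k V] :
    {Q : Place k K | ∃ f ∈ V, f ≠ 0 ∧
      Q.1 f ≤ WithZero.exp (-(Module.finrank k V : ℤ))}.Finite := by
  obtain ⟨δ, hδ⟩ := exists_derivation' hK
  obtain ⟨T, hTfin, hT⟩ := exists_finite_bad_derivation hK δ
  have h := finite_ramification_aux hK δ hδ T hT (Module.finrank k V) V inferInstance rfl
  refine Set.Finite.subset (h.union hTfin) ?_
  rintro Q ⟨f, hfV, hf0, hQf⟩
  by_cases hQT : Q ∈ T
  · exact Or.inr hQT
  · exact Or.inl ⟨hQT, f, hfV, hf0, hQf⟩

end Groth.Agent.Lib.Helper23.FF
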