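import Mathlib
import Groth.Prelude.Def_W4bk4goldsch45
import Groth.Agent.Lib.Helper23.FFHW9

/-!
Hasse–Weil program: counting lemmas for the fixed places of Frobenius twists.
-/

set_option autoImplicit false

namespace Groth.Agent.Lib.Helper23.FF

open FunFld
open Groth.Agent.Lib.Helper27.FF

universe u v w z

section L1

variable {k : Type u} {B : Type w} {L : Type z} [Field k] [Field B]
  [Field L] [Algebra k B] [Algebra k L] [Algebra B L] [IsScalarTower k B L]

/-- The places above a finite set of good places. -/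
theorem exists_over_finset (hB : IsFunctionField k B) [FiniteDimensional B L]
    (PP : Finset (Place k B)) (s : ℕ)
    (hgood : ∀ P₀ ∈ PP, ∀ Q : Place k L, IsOver Q P₀ → IsOverWith Q P₀ 1 ∧ Q.deg = s) :
    ∃ Ω : Finset (Place k L), (∀ Q, Q ∈ Ω ↔ ∃ P₀ ∈ PP, IsOver Q P₀) ∧
      Ω.card * s = Module.finrank B L * ∑ P₀ ∈ PP, P₀.deg := by
  classical
  induction PP using Finset.induction_on with
  | empty =>
    refine ⟨∅, ?_, by simp⟩
    intro Q
    simp
  | insert P₀ PP hP₀ ih =>
    obtain ⟨Ω, hΩ, hcard⟩ := ih (fun P hP => hgood P (Finset.mem_insert_of_mem hP))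
    obtain ⟨Qs, hQs, hQscard⟩ := card_over_mul_eq (L := L) hB P₀ s
      (hgood P₀ (Finset.mem_insert_self _ _))
    have hdisj : Disjoint Qs Ω := by
      rw [Finset.disjoint_left]
      intro Q hQ1 hQ2
      obtain ⟨P₁, hP₁, e₁, h₁⟩ := (hΩ Q).mp hQ2
      obtain ⟨e₀, h₀⟩ := (hQs Q).mp hQ1
      obtain ⟨hP, -⟩ := isOverWith_unique h₀ h₁
      rw [hP] at hP₀
      exact hP₀ hP₁
    refine ⟨Qs ∪ Ω, ?_, ?_⟩
    · intro Q
      rw [Finset.mem_union, hQs, hΩ]
      constructor
      · rintro (h | ⟨P₁, hP₁, h⟩)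
        · exact ⟨P₀, Finset.mem_insert_self _ _, h⟩
        · exact ⟨P₁, Finset.mem_insert_of_mem hP₁, h⟩
      · rintro ⟨P₁, hP₁, h⟩
        rw [Finset.mem_insert] at hP₁
        rcases hP₁ with rfl | hP₁
        · exact Or.inl h
        · exact Or.inr ⟨P₁, hP₁, h⟩
    · rw [Finset.card_union_of_disjoint hdisj, add_mul, hQscard, hcard, Finset.sum_insert hP₀,
        mul_add]

end L1

section L2

variable {k : Type u} {κ : Type v} {B : Type w} {L : Type z} [Field k] [Field κ] [Field B]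
  [Field L] [Algebra k κ] [Algebra k B] [Algebra k L] [Algebra B L] [Algebra κ L]
  [IsScalarTower k B L] [IsScalarTower k κ L] [Finite k] [Finite κ]

/-- The `κ`-rational places fixed by some automorphism over `B` restricting to the
`q^r`-Frobenius lie over places of `B` of degree dividing `r`; there are at most
`[L:B] N_r(B) / s` of them. -/
theorem card_fixed_mul_le (hB : IsFunctionField k B) [FiniteDimensional B L] {r : ℕ}
    (hr : r ≠ 0) (T : Finset (Place k L))
    (hT : ∀ Q ∈ T, Q.deg = Module.finrank k κ ∧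
      ∃ γ : L ≃ₐ[B] L, actP γ Q = Q ∧ resκ k κ B L γ = frobκ k κ ^ r) :
    T.card * Module.finrank k κ ≤ Module.finrank B L * Nw hB r := by
  classical
  set s := Module.finrank k κ with hs
  set PP := (placeFinset hB r).filter (fun P => P.deg ∣ r) with hPP
  -- the place below
  have hbelow : ∀ Q ∈ T, ∃ P ∈ PP, IsOver Q P := by
    intro Q hQ
    obtain ⟨hdeg, γ, hγ, hres⟩ := hT Q hQ
    obtain ⟨P, e, he⟩ := exists_isOverWith hB Q
    have hdvd := deg_below_dvd hB he hdeg γ hγ hres
    refine ⟨P, ?_, e, he⟩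
    rw [hPP, Finset.mem_filter, mem_placeFinset]
    exact ⟨Nat.le_of_dvd (Nat.pos_of_ne_zero hr) hdvd, hdvd⟩
  set Tp : Place k B → Finset (Place k L) := fun P => T.filter (fun Q => IsOver Q P) with hTp
  have hcover : T ⊆ PP.biUnion Tp := by
    intro Q hQ
    obtain ⟨P, hP, hover⟩ := hbelow Q hQ
    rw [Finset.mem_biUnion]
    exact ⟨P, hP, Finset.mem_filter.mpr ⟨hQ, hover⟩⟩
  have h1 : T.card ≤ ∑ P ∈ PP, (Tp P).card :=
    (Finset.card_le_card hcover).trans Finset.card_biUnion_le
  have h2 : ∀ P ∈ PP, (Tp P).card * s ≤ Module.finrank B L * P.deg := by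
    intro P _
    apply card_mul_le_of_over hB P s
    intro Q hQ
    rw [hTp, Finset.mem_filter] at hQ
    exact ⟨hQ.2, (hT Q hQ.1).1⟩
  calc T.card * s ≤ (∑ P ∈ PP, (Tp P).card) * s := Nat.mul_le_mul_right _ h1
    _ = ∑ P ∈ PP, (Tp P).card * s := Finset.sum_mul _ _ _
    _ ≤ ∑ P ∈ PP, Module.finrank B L * P.deg := Finset.sum_le_sum h2
    _ = Module.finrank B L * Nw hB r := by
      rw [← Finset.mul_sum]
      rfl

end L2

end Groth.Agent.Lib.Helper23.FF
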