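import Mathlib
import Groth.Prelude.Def_W4bk4goldsch45
import Groth.Agent.Lib.Helper23.FFHW10

/-!
Hasse–Weil program: the main counting inequality for a Galois tower.
-/

set_option autoImplicit false

namespace Groth.Agent.Lib.Helper23.FF

open FunFld
open Groth.Agent.Lib.Helper27.FF

universe u₁ u₂ u₃ u₄ u₅ u₆ u₇

variable {k : Type u₁} {κ₀ : Type u₂} {κ : Type u₃} {F₀ : Type u₄} {F : Type u₇} {E : Type u₅}
  {L : Type u₆}
  [Field k] [Field κ₀] [Field κ] [Field F₀] [Field F] [Field E] [Field L]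
  [Algebra k κ₀] [Algebra k κ] [Algebra κ₀ κ] [IsScalarTower k κ₀ κ]
  [Algebra k F₀] [Algebra k F] [Algebra k E] [Algebra k L]
  [Algebra F₀ F] [Algebra F₀ E] [Algebra F₀ L] [Algebra F L] [Algebra E L]
  [Algebra κ₀ E] [Algebra κ₀ L] [Algebra κ L]
  [IsScalarTower k F₀ E] [IsScalarTower F₀ E L] [IsScalarTower k F₀ L] [IsScalarTower k E L]
  [IsScalarTower k κ₀ E] [IsScalarTower k κ₀ L] [IsScalarTower κ₀ E L] [IsScalarTower κ₀ κ L]
  [IsScalarTower k κ L] [IsScalarTower k F L] [IsScalarTower F₀ F L]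

set_option maxHeartbeats 800000 in
theorem twist_count [Finite k] [Finite κ₀] [Finite κ] (hF₀ : IsFunctionField k F₀)
    (hF : IsFunctionField k F) (hE : IsFunctionField κ₀ E)
    [FiniteDimensional F₀ E] [IsGalois F₀ E] [FiniteDimensional F₀ L] [IsGalois F₀ L]
    (hgen : Algebra.adjoin E (Set.range (algebraMap κ L)) = ⊤)
    (hrank : Module.finrank E L = Module.finrank κ₀ κ) {r : ℕ} (hr : r ≠ 0)
    (hs : Module.finrank F₀ E * r ∣ Module.finrank κ₀ κ)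
    (Bad : Finset (Place k F₀))
    (hBad : ∀ P₀, P₀ ∉ Bad → ∀ Q : Place k E, IsOver Q P₀ → IsOverWith Q P₀ 1)
    (Bnd : ℕ)
    (hBnd : ∀ γ : L ≃ₐ[F₀] L, resκ k κ F₀ L γ = frobκ k κ ^ r → ∀ T : Finset (Place k L),
        (∀ Q ∈ T, Q.deg = Module.finrank k κ ∧ actP γ Q = Q) → T.card ≤ Bnd)
    (n₁ m₁ : ℕ) (hn₁ : n₁ * Module.finrank k κ = Module.finrank F₀ L)
    (hm₁ : m₁ * Module.finrank k κ = Module.finrank F L) :
    m₁ ≤ n₁ ∧
      n₁ * Nw hF₀ r ≤ m₁ * Nw hF r + (n₁ - m₁) * Bnd + n₁ * ∑ P₀ ∈ Bad, P₀.deg := by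
  classical
  haveI : Module.Finite k κ := Module.Finite.of_finite
  obtain ⟨s, hsdef⟩ : ∃ s, s = Module.finrank k κ := ⟨_, rfl⟩
  rw [← hsdef] at hn₁ hm₁
  have hspos : 0 < s := by rw [hsdef]; exact Module.finrank_pos
  haveI : FiniteDimensional F L := Module.Finite.right F₀ F L
  haveI : FiniteDimensional F₀ F := Module.Finite.left F₀ F L
  haveI : IsGalois F L := IsGalois.tower_top_of_isGalois F₀ F L
  -- good places
  set PP₀ := ((placeFinset hF₀ r).filter (fun P => P.deg ∣ r)).filter (fun P => P ∉ Bad)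
    with hPP₀
  have hgood : ∀ P₀ ∈ PP₀, ∀ Q : Place k L, IsOver Q P₀ → IsOverWith Q P₀ 1 ∧ Q.deg = s := by
    intro P₀ hP₀ Q hQ
    rw [hPP₀, Finset.mem_filter, Finset.mem_filter] at hP₀
    rw [hsdef]
    exact good_of_unramified hF₀ hE hgen hrank (hBad P₀ hP₀.2) hP₀.1.2 hs Q hQ
  obtain ⟨Ω, hΩ, hΩcard⟩ := exists_over_finset (L := L) hF₀ PP₀ s hgood
  have hΩgood : ∀ Q ∈ Ω, Q.deg = s ∧ ∃ P₀ : Place k F₀, P₀.deg ∣ r ∧ IsOverWith Q P₀ 1 := by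
    intro Q hQ
    obtain ⟨P₀, hP₀, hover⟩ := (hΩ Q).mp hQ
    obtain ⟨h1, hdeg⟩ := hgood P₀ hP₀ Q hover
    rw [hPP₀, Finset.mem_filter, Finset.mem_filter] at hP₀
    exact ⟨hdeg, P₀, hP₀.1.2, h1⟩
  -- the groups
  letI : Fintype (L ≃ₐ[F₀] L) := Fintype.ofFinite _
  set Γr : Finset (L ≃ₐ[F₀] L) :=
    Finset.univ.filter (fun γ => resκ k κ F₀ L γ = frobκ k κ ^ r) with hΓr
  set ΓrF : Finset (L ≃ₐ[F₀] L) :=
    Γr.filter (fun γ => ∀ y : F, γ (algebraMap F L y) = algebraMap F L y) with hΓrF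
  set A : (L ≃ₐ[F₀] L) → Finset (Place k L) := fun γ => Ω.filter (fun Q => actP γ Q = Q)
    with hA
  have hmemΓr : ∀ γ, γ ∈ Γr ↔ resκ k κ F₀ L γ = frobκ k κ ^ r := by
    intro γ
    rw [hΓr, Finset.mem_filter]
    exact ⟨fun h => h.2, fun h => ⟨Finset.mem_univ _, h⟩⟩
  -- (c) every good place is fixed by some twist
  have hcover : Ω ⊆ Γr.biUnion A := by
    intro Q hQ
    obtain ⟨hdeg, P₀, hdvd, h1⟩ := hΩgood Q hQ
    obtain ⟨γ, hγ, hres⟩ := exists_fixing_of_good (κ := κ) hF₀ h1 (hsdef ▸ hdeg) hdvd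
    rw [Finset.mem_biUnion]
    exact ⟨γ, (hmemΓr γ).mpr hres, Finset.mem_filter.mpr ⟨hQ, hγ⟩⟩
  have h1 : Ω.card ≤ ∑ γ ∈ Γr, (A γ).card :=
    (Finset.card_le_card hcover).trans Finset.card_biUnion_le
  -- (d) Bombieri for each twist
  have hAle : ∀ γ ∈ Γr, (A γ).card ≤ Bnd := by
    intro γ hγ
    apply hBnd γ ((hmemΓr γ).mp hγ)
    intro Q hQ
    rw [hA, Finset.mem_filter] at hQ
    exact ⟨hsdef ▸ (hΩgood Q hQ.1).1, hQ.2⟩
  -- (e) the twists over `F`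
  have hdisj : (ΓrF : Set (L ≃ₐ[F₀] L)).PairwiseDisjoint A := by
    intro γ₁ hγ₁ γ₂ hγ₂ hne
    rw [Function.onFun, Finset.disjoint_left]
    intro Q hQ₁ hQ₂
    apply hne
    rw [hA, Finset.mem_filter] at hQ₁ hQ₂
    obtain ⟨hdeg, P₀, -, hP1⟩ := hΩgood Q hQ₁.1
    have hr₁ := (hmemΓr γ₁).mp (Finset.mem_filter.mp hγ₁).1
    have hr₂ := (hmemΓr γ₂).mp (Finset.mem_filter.mp hγ₂).1
    exact eq_of_fixed_unramified (κ := κ) hP1 (hsdef ▸ hdeg) γ₁ γ₂ hQ₁.2 hQ₂.2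
      (hr₁.trans hr₂.symm)
  have h2 : (∑ γ ∈ ΓrF, (A γ).card) * s ≤ Module.finrank F L * Nw hF r := by
    rw [← Finset.card_biUnion hdisj, hsdef]
    apply card_fixed_mul_le hF hr
    intro Q hQ
    rw [Finset.mem_biUnion] at hQ
    obtain ⟨γ, hγ, hQγ⟩ := hQ
    rw [hA, Finset.mem_filter] at hQγ
    rw [hΓrF, Finset.mem_filter] at hγ
    refine ⟨hsdef ▸ (hΩgood Q hQγ.1).1, AlgEquiv.ofRingEquiv (f := (γ : L ≃+* L)) hγ.2, ?_, ?_⟩
    · have hact : actP (AlgEquiv.ofRingEquiv (f := (γ : L ≃+* L)) hγ.2) Q = actP γ Q := by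
        apply Subtype.ext
        ext z
        rfl
      rw [hact]
      exact hQγ.2
    · rw [resκ_eq_frob_pow_iff]
      intro c
      exact (resκ_eq_frob_pow_iff γ r).mp ((hmemΓr γ).mp hγ.1) c
  -- counts
  have hcardGal : Nat.card (κ ≃ₐ[k] κ) = s := by
    rw [hsdef]; exact IsGalois.card_aut_eq_finrank k κ
  have hΓrcard : Γr.card = n₁ := by
    have h3 := card_fiber_mul (resκ k κ F₀ L) (resκ_surjective hF₀) (frobκ k κ ^ r)
    rw [hcardGal, IsGalois.card_aut_eq_finrank F₀ L, ← hn₁] at h3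
    have h4 : Nat.card {γ : L ≃ₐ[F₀] L // resκ k κ F₀ L γ = frobκ k κ ^ r} = Γr.card := by
      rw [Nat.card_eq_fintype_card, Fintype.card_subtype]
    rw [h4] at h3
    exact Nat.eq_of_mul_eq_mul_right hspos h3
  have hΓrFcard : m₁ ≤ ΓrF.card := by
    have h3 := card_fiber_mul (resκ k κ F L) (resκ_surjective hF) (frobκ k κ ^ r)
    rw [hcardGal, IsGalois.card_aut_eq_finrank F L, ← hm₁] at h3
    have h4 := Nat.eq_of_mul_eq_mul_right hspos h3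
    rw [← h4, ← Nat.card_eq_finsetCard ΓrF]
    apply Nat.card_le_card_of_injective
      (fun γ' : {γ : L ≃ₐ[F] L // resκ k κ F L γ = frobκ k κ ^ r} =>
        (⟨γ'.1.restrictScalars F₀, by
          rw [hΓrF, Finset.mem_filter, hmemΓr]
          refine ⟨?_, fun y => γ'.1.commutes y⟩
          rw [resκ_eq_frob_pow_iff]
          intro c
          exact (resκ_eq_frob_pow_iff γ'.1 r).mp γ'.2 c⟩ : ΓrF))
    intro a b hab
    apply Subtype.ext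
    have := congrArg Subtype.val hab
    exact AlgEquiv.restrictScalars_injective F₀ this
  have hsub : ΓrF ⊆ Γr := Finset.filter_subset _ _
  have hm₁n₁ : m₁ ≤ n₁ := by
    rw [← hΓrcard]
    exact hΓrFcard.trans (Finset.card_le_card hsub)
  refine ⟨hm₁n₁, ?_⟩
  -- splitting the sum
  have h3 : ∑ γ ∈ Γr, (A γ).card = ∑ γ ∈ ΓrF, (A γ).card + ∑ γ ∈ Γr \ ΓrF, (A γ).card := by
    rw [add_comm]
    exact (Finset.sum_sdiff hsub).symm
  have h4 : ∑ γ ∈ Γr \ ΓrF, (A γ).card ≤ (n₁ - m₁) * Bnd := by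
    calc ∑ γ ∈ Γr \ ΓrF, (A γ).card ≤ ∑ _γ ∈ Γr \ ΓrF, Bnd := by
          apply Finset.sum_le_sum
          intro γ hγ
          exact hAle γ (Finset.mem_sdiff.mp hγ).1
      _ = (Γr \ ΓrF).card * Bnd := by rw [Finset.sum_const, smul_eq_mul]
      _ ≤ (n₁ - m₁) * Bnd := by
          apply Nat.mul_le_mul_right
          rw [Finset.card_sdiff_of_subset hsub, hΓrcard]
          omega
  -- the good places versus all places of degree dividing `r`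
  have h5 : Nw hF₀ r ≤ ∑ P₀ ∈ PP₀, P₀.deg + ∑ P₀ ∈ Bad, P₀.deg := by
    unfold Nw
    rw [hPP₀, ← Finset.sum_filter_add_sum_filter_not
      ((placeFinset hF₀ r).filter (fun P => P.deg ∣ r)) (fun P => P ∉ Bad)]
    apply Nat.add_le_add_left
    apply Finset.sum_le_sum_of_subset
    intro P hP
    rw [Finset.mem_filter, not_not] at hP
    exact hP.2
  -- conclusion
  have h6 : n₁ * s * ∑ P₀ ∈ PP₀, P₀.deg ≤ (m₁ * Nw hF r + (n₁ - m₁) * Bnd) * s := by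
    rw [hn₁, ← hΩcard]
    calc Ω.card * s ≤ (∑ γ ∈ ΓrF, (A γ).card + ∑ γ ∈ Γr \ ΓrF, (A γ).card) * s := by
          rw [← h3]
          exact Nat.mul_le_mul_right _ h1
      _ = (∑ γ ∈ ΓrF, (A γ).card) * s + (∑ γ ∈ Γr \ ΓrF, (A γ).card) * s := add_mul _ _ _
      _ ≤ Module.finrank F L * Nw hF r + (n₁ - m₁) * Bnd * s :=
          Nat.add_le_add h2 (Nat.mul_le_mul_right _ h4)
      _ = (m₁ * Nw hF r + (n₁ - m₁) * Bnd) * s := by
          rw [← hm₁]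
          ring
  have h7 : n₁ * ∑ P₀ ∈ PP₀, P₀.deg ≤ m₁ * Nw hF r + (n₁ - m₁) * Bnd := by
    apply Nat.le_of_mul_le_mul_right _ hspos
    calc (n₁ * ∑ P₀ ∈ PP₀, P₀.deg) * s = n₁ * s * ∑ P₀ ∈ PP₀, P₀.deg := by ring
      _ ≤ _ := h6
  calc n₁ * Nw hF₀ r ≤ n₁ * (∑ P₀ ∈ PP₀, P₀.deg + ∑ P₀ ∈ Bad, P₀.deg) :=
        Nat.mul_le_mul_left _ h5
    _ = n₁ * ∑ P₀ ∈ PP₀, P₀.deg + n₁ * ∑ P₀ ∈ Bad, P₀.deg := mul_add _ _ _
    _ ≤ m₁ * Nw hF r + (n₁ - m₁) * Bnd + n₁ * ∑ P₀ ∈ Bad, P₀.deg := Nat.add_le_add_right h7 _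

end Groth.Agent.Lib.Helper23.FF
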