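import Mathlib
import Groth.Prelude.Def_W4bk4goldsch45
import Groth.Agent.S10994
import Groth.Agent.Lib.Helper27.Geo5
import Groth.Agent.Lib.Helper23.FFHW11

/-!
Hasse–Weil program: Bombieri's bound for twists; rational function fields.
-/

set_option autoImplicit false

namespace Groth.Agent.Lib.Helper23.FF

open FunFld
open Groth.Agent.Lib.Helper27.FF

universe u v w z

section bombieri

variable {k : Type u} {κ : Type v} {B : Type w} {L : Type z} [Field k] [Field κ] [Field B]
  [Field L] [Algebra k κ] [Algebra k B] [Algebra k L] [Algebra B L] [Algebra κ L]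
  [IsScalarTower k B L] [IsScalarTower k κ L] [Finite k] [Finite κ]

/-- Bombieri's bound for the `κ`-rational places fixed by a Frobenius twist. -/
theorem card_fixed_le_bombieri (hL : IsFunctionField κ L) (p a : ℕ) [hp : Fact p.Prime]
    [CharP L p] {r : ℕ} (hqr : Nat.card k ^ r = (p ^ a) ^ 2)
    (hg : (genus κ L + 1) ^ 2 < p ^ a) (γ : L ≃ₐ[B] L)
    (hres : resκ k κ B L γ = frobκ k κ ^ r) (T : Finset (Place k L))
    (hT : ∀ Q ∈ T, Q.deg = Module.finrank k κ ∧ actP γ Q = Q) :
    T.card ≤ (p ^ a) ^ 2 + (2 * genus κ L + 1) * p ^ a := by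
  classical
  haveI : Module.Finite k κ := Module.Finite.of_finite
  have hinj : Function.Injective (Place.up (k := k) (k' := κ) (L := L)) := by
    intro Q Q' h
    have := congrArg (Place.down (k := k)) h
    rwa [Place.down_up, Place.down_up] at this
  have hcard : (T.image (Place.up (k' := κ))).card = T.card :=
    Finset.card_image_of_injective T hinj
  rw [← hcard]
  apply bombieri_twisted hL p a (γ : L ≃+* L)
  · intro c
    have := (resκ_eq_frob_pow_iff γ r).mp hres c
    rw [hqr] at this
    exact this
  · exact hg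
  · intro Q' hQ'
    rw [Finset.mem_image] at hQ'
    obtain ⟨Q, hQ, rfl⟩ := hQ'
    obtain ⟨hdeg, hfix⟩ := hT Q hQ
    refine ⟨deg_up_eq_one hdeg, fun z => ?_⟩
    rw [Place.up_val]
    show (actP γ Q).1 z = Q.1 z
    rw [hfix]

end bombieri

section rational

variable {k : Type u} {K : Type v} [Field k] [Field K] [Algebra k K]

/-- A function field of genus `0` over a finite field has `N_r = q^r + 1`. -/
theorem Nw_of_genus_zero [Finite k] (hK : IsFunctionField k K) (hg : genus k K = 0) {r : ℕ}
    (hr : r ≠ 0) : Nw hK r = Nat.card k ^ r + 1 := by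
  obtain ⟨α, -, hα, -⟩ := Groth.Agent.S11040.result k K hK
  have h1 := Nw_eq hK α hα hr
  have h2 : ∑ i, α i ^ r = 0 := by
    apply Finset.sum_eq_zero
    intro i
    have hi := i.2
    omega
  rw [h2, sub_zero] at h1
  have h3 : (Nw hK r : ℂ) = ((Nat.card k ^ r + 1 : ℕ) : ℂ) := by
    rw [h1]
    push_cast
    ring
  exact_mod_cast h3

/-- The rational function field `k(x) ⊆ K` has genus `0`. -/
theorem genus_adjoin_simple (hK : IsFunctionField k K) {x : K} (hx : Transcendental k x) :
    ∃ h₀ : IsFunctionField k (IntermediateField.adjoin k ({x} : Set K)),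
      genus k (IntermediateField.adjoin k ({x} : Set K)) = 0 := by
  have h₀ : IsFunctionField k (IntermediateField.adjoin k ({x} : Set K)) :=
    Groth.Agent.Lib.Helper27.Geo.isFunctionField_intermediateField hK _ ⟨x, IntermediateField.mem_adjoin_simple_self k x, hx⟩
  refine ⟨h₀, ?_⟩
  have h1 := (Groth.Agent.S10994.result k (IntermediateField.adjoin k ({x} : Set K)) h₀).mpr
    ⟨⟨x, IntermediateField.mem_adjoin_simple_self k x⟩, by
      apply IntermediateField.lift_injective
      rw [IntermediateField.lift_adjoin_simple, IntermediateField.lift_top]⟩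
  exact h1.1

end rational

end Groth.Agent.Lib.Helper23.FF
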