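import Mathlib
import Groth.Prelude.Def_W4bk4goldsch45
import Groth.Agent.S11020
import Groth.Agent.Lib.Helper23.FFHW12

/-!
Hasse–Weil program: Galois closures, ramified places, and the wrapper of the counting inequality.
-/

set_option autoImplicit false

namespace Groth.Agent.Lib.Helper23.FF

open FunFld Polynomial IntermediateField
open Groth.Agent.Lib.Helper27.FF

universe u v w z

section G1

variable {K₀ : Type u} {F : Type v} [Field K₀] [Field F] [Algebra K₀ F]

/-- The Galois closure of a finite separable simple extension, as a splitting field over the top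
field. -/
theorem isGalois_splittingField_minpoly [FiniteDimensional K₀ F] [Algebra.IsSeparable K₀ F]
    (y : F) (hy : K₀⟮y⟯ = ⊤) :
    IsGalois K₀ ((minpoly K₀ y).map (algebraMap K₀ F)).SplittingField := by
  classical
  set h := minpoly K₀ y with hh
  set E := (h.map (algebraMap K₀ F)).SplittingField with hE
  have hint : IsIntegral K₀ y := Algebra.IsIntegral.isIntegral y
  have hmap : h.map (algebraMap K₀ E) = (h.map (algebraMap K₀ F)).map (algebraMap F E) := by
    rw [Polynomial.map_map, ← IsScalarTower.algebraMap_eq]
  have hsplit : (h.map (algebraMap K₀ E)).Splits := by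
    rw [hmap]
    exact SplittingField.splits _
  have hroot : h.rootSet E = (h.map (algebraMap K₀ F)).rootSet E := by
    rw [rootSet_def, rootSet_def, aroots_def, aroots_def, hmap]
  have hsf : h.IsSplittingField K₀ E := by
    rw [isSplittingField_iff_intermediateField]
    refine ⟨hsplit, ?_⟩
    set M := IntermediateField.adjoin K₀ (h.rootSet E) with hM
    have hyM : algebraMap F E y ∈ M := by
      apply IntermediateField.subset_adjoin
      rw [mem_rootSet]
      refine ⟨minpoly.ne_zero hint, ?_⟩
      rw [aeval_algebraMap_apply, minpoly.aeval, map_zero]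
    have hFM : ∀ a : F, algebraMap F E a ∈ M := by
      intro a
      have h1 : K₀⟮y⟯ ≤ M.comap (IsScalarTower.toAlgHom K₀ F E) := by
        rw [IntermediateField.adjoin_simple_le_iff]
        exact hyM
      have h2 : a ∈ K₀⟮y⟯ := by rw [hy]; trivial
      exact h1 h2
    have key : ∀ z : E, z ∈ M := by
      intro z
      have hz : z ∈ Algebra.adjoin F ((h.map (algebraMap K₀ F)).rootSet E) := by
        rw [SplittingField.adjoin_rootSet]
        trivial
      induction hz using Algebra.adjoin_induction with
      | mem x hx =>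
        apply IntermediateField.subset_adjoin
        rw [hroot]
        exact hx
      | algebraMap a => exact hFM a
      | add x y _ _ hx hy => exact M.add_mem hx hy
      | mul x y _ _ hx hy => exact M.mul_mem hx hy
    rw [eq_top_iff]
    exact fun z _ => key z
  exact IsGalois.of_separable_splitting_field (p := h) (Algebra.IsSeparable.isSeparable K₀ y)

end G1

section G4

variable {k : Type u} {B : Type w} {L : Type z} [Field k] [Field B]
  [Field L] [Algebra k B] [Algebra k L] [Algebra B L] [IsScalarTower k B L]

/-- Away from a finite set of places, a finite separable extension is unramified. -/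
theorem exists_bad_finset (hB : IsFunctionField k B) [FiniteDimensional B L]
    [Algebra.IsSeparable B L] :
    ∃ Bad : Finset (Place k B), ∀ P₀, P₀ ∉ Bad → ∀ Q : Place k L, IsOver Q P₀ →
      IsOverWith Q P₀ 1 := by
  classical
  have hfin := finite_ramified (K' := L) hB
  have hbelow : ∀ Q : Place k L, ∃ P : Place k B, IsOver Q P := fun Q => by
    obtain ⟨P, e, he⟩ := exists_isOverWith hB Q
    exact ⟨P, e, he⟩
  refine ⟨hfin.toFinset.image (fun Q => Classical.choose (hbelow Q)), ?_⟩
  intro P₀ hP₀ Q hQ
  obtain ⟨e, he⟩ := hQ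
  have hQnot : Q ∉ hfin.toFinset := by
    intro hQmem
    apply hP₀
    rw [Finset.mem_image]
    refine ⟨Q, hQmem, ?_⟩
    obtain ⟨e', he'⟩ := Classical.choose_spec (hbelow Q)
    exact (isOverWith_unique he' he).1
  rw [Set.Finite.mem_toFinset, Set.mem_ofPred_eq, not_not] at hQnot
  obtain ⟨x, hx⟩ := hQnot (WithZero.exp (-1 : ℤ))
  have hx' : P₀.1 x ^ e = WithZero.exp (-1 : ℤ) := by
    rw [← he x]
    exact hx
  have he1 : 1 ≤ e := isOverWith_pos he
  have hne : P₀.1 x ≠ 0 := by
    intro h0
    rw [h0, zero_pow (by omega)] at hx'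
    exact WithZero.exp_ne_zero hx'.symm
  rw [← WithZero.exp_log hne, ← WithZero.exp_nsmul, WithZero.exp_inj, nsmul_eq_mul] at hx'
  have he' : e = 1 := by
    have h1 : ((e : ℤ)) ∣ 1 := ⟨-WithZero.log (P₀.1 x), by rw [mul_neg, hx']; norm_num⟩
    have h2 := Int.eq_one_of_dvd_one (by positivity) h1
    exact_mod_cast h2
  rw [he'] at he
  exact he

end G4

section G3

variable {k : Type u} {F₀ : Type v} {E : Type w} [Field k] [Field F₀] [Field E] [Algebra k E]
  [Algebra F₀ E]

/-- A constant field extension of a Galois extension is Galois over the bottom field. -/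
theorem isGalois_CE [Finite k] (hE : IsFunctionField k E) [FiniteDimensional F₀ E]
    [IsGalois F₀ E] {s : ℕ} (hs : s ≠ 0) : IsGalois F₀ (CE k E s) := by
  obtain ⟨hfun, hfin⟩ := CE_isFunctionField hE s
  haveI := hfin
  haveI : Finite (CEκ k E s) := Module.finite_of_finite k
  haveI : IsGalois E (CE k E s) := isGalois_constExt (k := k) (k' := CEκ k E s) (CE_hgen hE hs)
  haveI : Algebra.IsSeparable F₀ (CE k E s) := Algebra.IsSeparable.trans F₀ E (CE k E s)
  obtain ⟨p, hpsep, hpsf⟩ := IsGalois.is_separable_splitting_field (F := F₀) (E := E)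
  haveI := hpsf
  set g : F₀[X] := X ^ (Nat.card k ^ s) - X with hg
  have hgmap : g.map (algebraMap F₀ E) = (X ^ (Nat.card k ^ s) - X : E[X]) := by
    simp only [hg, Polynomial.map_sub, Polynomial.map_pow, map_X]
  haveI : IsSplittingField E (CE k E s) (g.map (algebraMap F₀ E)) := by
    rw [hgmap]
    exact inferInstanceAs
      (IsSplittingField E (X ^ (Nat.card k ^ s) - X : E[X]).SplittingField _)
  have hg0 : g ≠ 0 := by
    intro h0
    have h1 : g.map (algebraMap F₀ E) = 0 := by rw [h0, Polynomial.map_zero]
    rw [hgmap] at h1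
    exact FiniteField.X_pow_card_sub_X_ne_zero E (Nat.one_lt_pow hs Finite.one_lt_card) h1
  haveI : IsSplittingField F₀ (CE k E s) (p * g) :=
    IsSplittingField.mul (K := E) (CE k E s) p g hpsep.ne_zero hg0
  haveI : Normal F₀ (CE k E s) := Normal.of_isSplittingField (p * g)
  exact ⟨⟩

end G3

end Groth.Agent.Lib.Helper23.FF
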