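import Mathlib
import Groth.Prelude.Def_W4bk4goldsch45
import Groth.Agent.Lib.Helper23.FFHW13

/-!
Hasse–Weil program: the counting inequality with bounded multiplicities.
-/

set_option autoImplicit false

namespace Groth.Agent.Lib.Helper23.FF

open FunFld
open Groth.Agent.Lib.Helper27.FF

universe u₁ u₂ u₃ u₄ u₅ u₆ u₇

variable {k : Type u₁} {κ₀ : Type u₂} {κ : Type u₃} {F₀ : Type u₄} {F : Type u₇} {E : Type u₅}
  {L : Type u₆}
  [Field k] [Field κ₀] [Field κ] [Field F₀] [Field F] [Field E] [Field L]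
  [Algebra k κ₀] [Algebra k κ] [Algebra κ₀ κ] [IsScalarTower k κ₀ κ]
  [Algebra k F₀] [Algebra k F] [Algebra k E] [Algebra k L]
  [Algebra F₀ F] [Algebra F₀ E] [Algebra F₀ L] [Algebra F L] [Algebra E L]
  [Algebra κ₀ E] [Algebra κ₀ L] [Algebra κ L]
  [IsScalarTower k F₀ E] [IsScalarTower F₀ E L] [IsScalarTower k F₀ L] [IsScalarTower k E L]
  [IsScalarTower k κ₀ E] [IsScalarTower k κ₀ L] [IsScalarTower κ₀ E L] [IsScalarTower κ₀ κ L]
  [IsScalarTower k κ L] [IsScalarTower k F L] [IsScalarTower F₀ F L]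

theorem twist_count' [Finite k] [Finite κ₀] [Finite κ] (hF₀ : IsFunctionField k F₀)
    (hF : IsFunctionField k F) (hE : IsFunctionField κ₀ E)
    [FiniteDimensional F₀ E] [IsGalois F₀ E] [FiniteDimensional F₀ L] [IsGalois F₀ L]
    (hgen : Algebra.adjoin E (Set.range (algebraMap κ L)) = ⊤)
    (hrank : Module.finrank E L = Module.finrank κ₀ κ) {r : ℕ} (hr : r ≠ 0)
    (hs : Module.finrank F₀ E * r ∣ Module.finrank κ₀ κ)
    (Bad : Finset (Place k F₀))
    (hBad : ∀ P₀, P₀ ∉ Bad → ∀ Q : Place k E, IsOver Q P₀ → IsOverWith Q P₀ 1)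
    (Bnd : ℕ)
    (hBnd : ∀ γ : L ≃ₐ[F₀] L, resκ k κ F₀ L γ = frobκ k κ ^ r → ∀ T : Finset (Place k L),
        (∀ Q ∈ T, Q.deg = Module.finrank k κ ∧ actP γ Q = Q) → T.card ≤ Bnd) :
    ∃ n₁ m₁ : ℕ, 1 ≤ m₁ ∧ m₁ ≤ n₁ ∧ n₁ ≤ Module.finrank F₀ E ∧
      n₁ * Nw hF₀ r ≤ m₁ * Nw hF r + (n₁ - m₁) * Bnd + n₁ * ∑ P₀ ∈ Bad, P₀.deg := by
  haveI : Module.Finite k κ := Module.Finite.of_finite
  haveI : Module.Finite k κ₀ := Module.Finite.of_finite
  haveI : Module.Finite κ₀ κ := Module.Finite.of_finite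
  haveI : FiniteDimensional F L := Module.Finite.right F₀ F L
  haveI : IsGalois F L := IsGalois.tower_top_of_isGalois F₀ F L
  have hspos : 0 < Module.finrank k κ := Module.finrank_pos
  have hcardGal : Nat.card (κ ≃ₐ[k] κ) = Module.finrank k κ := IsGalois.card_aut_eq_finrank k κ
  have hn₁ := card_fiber_mul (resκ k κ F₀ L) (resκ_surjective hF₀) (frobκ k κ ^ r)
  rw [hcardGal, IsGalois.card_aut_eq_finrank F₀ L] at hn₁
  have hm₁ := card_fiber_mul (resκ k κ F L) (resκ_surjective hF) (frobκ k κ ^ r)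
  rw [hcardGal, IsGalois.card_aut_eq_finrank F L] at hm₁
  obtain ⟨h1, h2⟩ := twist_count hF₀ hF hE hgen hrank hr hs Bad hBad Bnd hBnd _ _ hn₁ hm₁
  refine ⟨_, _, ?_, h1, ?_, h2⟩
  · have hpos : 0 < Module.finrank F L := Module.finrank_pos
    rw [← hm₁] at hpos
    exact Nat.pos_of_mul_pos_right hpos
  · have h3 : Module.finrank F₀ E * Module.finrank E L = Module.finrank F₀ L :=
      Module.finrank_mul_finrank F₀ E L
    have h4 : Module.finrank k κ₀ * Module.finrank κ₀ κ = Module.finrank k κ :=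
      Module.finrank_mul_finrank k κ₀ κ
    have h5 : 0 < Module.finrank κ₀ κ := Module.finrank_pos
    have h6 : 0 < Module.finrank k κ₀ := Module.finrank_pos
    rw [← h3, hrank, ← h4, ← mul_assoc] at hn₁
    have h7 := Nat.eq_of_mul_eq_mul_right h5 hn₁
    rw [← h7]
    exact Nat.le_mul_of_pos_right _ h6

end Groth.Agent.Lib.Helper23.FF
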