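import Mathlib
import Groth.Prelude.Def_W4bk4goldsch45
import Groth.Agent.Lib.Helper23.FFHW14

/-!
Hasse–Weil program: the lower bound for `N_r` from a Galois tower over a field of genus `0`.
-/

set_option autoImplicit false

namespace Groth.Agent.Lib.Helper23.FF

open FunFld
open Groth.Agent.Lib.Helper27.FF

universe u₁ u₂ u₄ u₅ u₇

variable {k : Type u₁} {κ₀ : Type u₂} {F₀ : Type u₄} {F : Type u₇} {E : Type u₅}
  [Field k] [Field κ₀] [Field F₀] [Field F] [Field E]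
  [Algebra k κ₀] [Algebra k F₀] [Algebra k F] [Algebra k E] [Algebra F₀ F] [Algebra F₀ E]
  [Algebra F E] [Algebra κ₀ E]
  [IsScalarTower k F₀ F] [IsScalarTower k F₀ E] [IsScalarTower k F E] [IsScalarTower F₀ F E]
  [IsScalarTower k κ₀ E]

set_option maxHeartbeats 1000000 in
theorem lower_bound_of_tower [Finite k] [Finite κ₀] (hF₀ : IsFunctionField k F₀)
    (hg₀ : genus k F₀ = 0) (hF : IsFunctionField k F) (hE : IsFunctionField κ₀ E)
    [FiniteDimensional F₀ E] [IsGalois F₀ E] :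
    ∃ C r₀ : ℕ, ∀ r : ℕ, r₀ ≤ r → Even r →
      Nat.card k ^ r ≤ Nw hF r + C * Nat.card k ^ (r / 2) := by
  classical
  obtain ⟨p, hp⟩ := CharP.exists k
  haveI : Fact p.Prime := ⟨CharP.char_is_prime k p⟩
  have hp2 : 2 ≤ p := (CharP.char_is_prime k p).two_le
  obtain ⟨b, hb⟩ : ∃ b : ℕ, Nat.card k = p ^ b := by
    letI := Fintype.ofFinite k
    obtain ⟨n, -, hn⟩ := FiniteField.card k p
    exact ⟨n, by rw [Nat.card_eq_fintype_card, hn]⟩
  have hb0 : b ≠ 0 := by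
    intro h0
    rw [h0, pow_zero] at hb
    have : 1 < Nat.card k := Finite.one_lt_card
    omega
  obtain ⟨Bad, hBad⟩ := exists_bad_finset (L := E) hF₀
  obtain ⟨n, hn⟩ : ∃ n, n = Module.finrank F₀ E := ⟨_, rfl⟩
  have hnpos : 0 < n := by rw [hn]; exact Module.finrank_pos
  obtain ⟨gE, hgE⟩ : ∃ g, g = genus κ₀ E := ⟨_, rfl⟩
  obtain ⟨ρ, hρ⟩ : ∃ ρ, ρ = ∑ P₀ ∈ Bad, P₀.deg := ⟨_, rfl⟩
  refine ⟨n * (2 * gE + 1) + n * ρ, 2 * (gE + 1) ^ 2 + 2, ?_⟩
  intro r hr hev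
  have hr0 : r ≠ 0 := by omega
  have hs0 : n * r ≠ 0 := Nat.mul_ne_zero hnpos.ne' hr0
  obtain ⟨hL, hfinκ⟩ := CE_isFunctionField hE (n * r)
  haveI := hfinκ
  haveI : Finite (CEκ κ₀ E (n * r)) :=
    Module.finite_of_finite κ₀
  haveI : IsScalarTower k (CEκ κ₀ E (n * r)) (CE κ₀ E (n * r)) :=
    IsScalarTower.of_algebraMap_eq (fun x => rfl)
  have hgen := CE_hgen hE hs0
  have hκ := CE_finrank_κ hE hs0
  have hrank : Module.finrank E (CE κ₀ E (n * r)) =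
      Module.finrank κ₀ (CEκ κ₀ E (n * r)) := by
    rw [CE_finrank hE hs0, hκ]
  have hgenus := CE_genus hE hs0
  haveI : FiniteDimensional F₀ (CE κ₀ E (n * r)) :=
    Module.Finite.trans E _
  haveI : IsGalois F₀ (CE κ₀ E (n * r)) := isGalois_CE hE hs0
  haveI : CharP E p := charP_of_injective_algebraMap (algebraMap k E).injective p
  -- the Bombieri bound
  obtain ⟨t, ht⟩ := hev
  have hr2 : r / 2 = t := by omega
  set a := b * t with ha
  have hqr : Nat.card k ^ r = (p ^ a) ^ 2 := by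
    rw [hb, ha, ht, ← pow_mul, ← pow_mul]
    congr 1
    ring
  have hqr2 : Nat.card k ^ (r / 2) = p ^ a := by
    rw [hb, hr2, ha, ← pow_mul]
  have hg : (genus (CEκ κ₀ E (n * r)) (CE κ₀ E (n * r))
      + 1) ^ 2 < p ^ a := by
    rw [hgenus, ← hgE]
    have h1 : (gE + 1) ^ 2 < t := by omega
    have h2 : t < 2 ^ t := Nat.lt_two_pow_self
    have h3 : 2 ^ t ≤ p ^ a := by
      calc 2 ^ t ≤ p ^ t := Nat.pow_le_pow_left hp2 t
        _ ≤ p ^ a := by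
          apply Nat.pow_le_pow_right (by omega)
          rw [ha]
          exact Nat.le_mul_of_pos_left _ (Nat.pos_of_ne_zero hb0)
    omega
  obtain ⟨n₁, m₁, hm1, hmn, hn₁n, hineq⟩ := twist_count' (κ := CEκ κ₀ E (n * r))
    (L := CE κ₀ E (n * r)) hF₀ hF hE hgen hrank hr0
    (by rw [hκ, ← hn]) Bad hBad _
    (fun γ hres T hT => card_fixed_le_bombieri hL p a hqr hg γ hres T hT)
  rw [Nw_of_genus_zero hF₀ hg₀ hr0, hgenus, ← hgE, ← hρ, ← hqr, ← hqr2] at hineq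
  rw [← hn] at hn₁n
  -- arithmetic
  set q := Nat.card k ^ r with hq
  set h := Nat.card k ^ (r / 2) with hh
  have hhpos : 1 ≤ h := Nat.one_le_pow _ _ Nat.card_pos
  set N := Nw hF r with hN
  have e1 : n₁ * q ≤ m₁ * N + (n₁ - m₁) * (q + (2 * gE + 1) * h) + n₁ * ρ := by
    calc n₁ * q ≤ n₁ * (q + 1) := Nat.mul_le_mul_left _ (Nat.le_succ _)
      _ ≤ _ := hineq
  have e2 : n₁ * q = m₁ * q + (n₁ - m₁) * q := by
    rw [← add_mul]
    congr 1
    omega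
  have e3 : m₁ * q ≤ m₁ * N + (n₁ - m₁) * ((2 * gE + 1) * h) + n₁ * ρ := by
    rw [e2, mul_add] at e1
    omega
  have e4 : (n₁ - m₁) * ((2 * gE + 1) * h) ≤ m₁ * (n * (2 * gE + 1) * h) := by
    have : n₁ - m₁ ≤ m₁ * n := by
      calc n₁ - m₁ ≤ n₁ := Nat.sub_le _ _
        _ ≤ n := hn₁n
        _ ≤ m₁ * n := Nat.le_mul_of_pos_left _ hm1
    calc (n₁ - m₁) * ((2 * gE + 1) * h) ≤ (m₁ * n) * ((2 * gE + 1) * h) :=
          Nat.mul_le_mul_right _ this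
      _ = m₁ * (n * (2 * gE + 1) * h) := by ring
  have e5 : n₁ * ρ ≤ m₁ * (n * ρ * h) := by
    calc n₁ * ρ ≤ n * ρ := Nat.mul_le_mul_right _ hn₁n
      _ ≤ m₁ * (n * ρ) := Nat.le_mul_of_pos_left _ hm1
      _ ≤ m₁ * (n * ρ * h) := Nat.mul_le_mul_left _ (Nat.le_mul_of_pos_right _ hhpos)
  have e6 : m₁ * q ≤ m₁ * (N + (n * (2 * gE + 1) + n * ρ) * h) := by
    calc m₁ * q ≤ m₁ * N + (n₁ - m₁) * ((2 * gE + 1) * h) + n₁ * ρ := e3
      _ ≤ m₁ * N + m₁ * (n * (2 * gE + 1) * h) + m₁ * (n * ρ * h) :=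
          Nat.add_le_add (Nat.add_le_add_left e4 _) e5
      _ = m₁ * (N + (n * (2 * gE + 1) + n * ρ) * h) := by ring
  exact Nat.le_of_mul_le_mul_left e6 hm1

end Groth.Agent.Lib.Helper23.FF
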