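import Mathlib
import Groth.Prelude.Def_W4bk4goldsch45
import Groth.Agent.Lib.Helper23.FFHW15

/-!
Hasse–Weil program: the lower bound `q^r - C q^{r/2} ≤ N_r` for every function field over a
finite field.
-/

set_option autoImplicit false

namespace Groth.Agent.Lib.Helper23.FF

open FunFld IntermediateField
open Groth.Agent.Lib.Helper27.FF

universe u v w

section

variable {k : Type u} {K₀ : Type v} {F : Type w} [Field k] [Field K₀] [Field F] [Algebra k K₀]
  [Algebra k F] [Algebra K₀ F] [IsScalarTower k K₀ F]

theorem lower_bound_of_separable [Finite k] (hF₀ : IsFunctionField k K₀) (hg₀ : genus k K₀ = 0)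
    (hF : IsFunctionField k F) [FiniteDimensional K₀ F] [Algebra.IsSeparable K₀ F] :
    ∃ C r₀ : ℕ, ∀ r : ℕ, r₀ ≤ r → Even r →
      Nat.card k ^ r ≤ Nw hF r + C * Nat.card k ^ (r / 2) := by
  obtain ⟨y, hy⟩ := Field.exists_primitive_element K₀ F
  haveI : IsGalois K₀ ((minpoly K₀ y).map (algebraMap K₀ F)).SplittingField :=
    isGalois_splittingField_minpoly y hy
  haveI : FiniteDimensional K₀ ((minpoly K₀ y).map (algebraMap K₀ F)).SplittingField :=
    Module.Finite.trans F _
  obtain ⟨hE, hfin⟩ := isFunctionField_algebraicClosure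
    (K' := ((minpoly K₀ y).map (algebraMap K₀ F)).SplittingField) hF
  haveI := hfin
  haveI : Finite (algebraicClosure k ((minpoly K₀ y).map (algebraMap K₀ F)).SplittingField) :=
    Module.finite_of_finite k
  haveI : IsScalarTower k K₀ ((minpoly K₀ y).map (algebraMap K₀ F)).SplittingField := by
    apply IsScalarTower.of_algebraMap_eq
    intro c
    rw [IsScalarTower.algebraMap_apply k F, IsScalarTower.algebraMap_apply K₀ F,
      IsScalarTower.algebraMap_apply k K₀ F]
  exact lower_bound_of_tower
    (κ₀ := algebraicClosure k ((minpoly K₀ y).map (algebraMap K₀ F)).SplittingField)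
    (E := ((minpoly K₀ y).map (algebraMap K₀ F)).SplittingField) hF₀ hg₀ hF hE

end

section

variable {k : Type u} {F : Type w} [Field k] [Field F] [Algebra k F]

theorem lower_bound [Finite k] (hF : IsFunctionField k F) :
    ∃ C r₀ : ℕ, ∀ r : ℕ, r₀ ≤ r → Even r →
      Nat.card k ^ r ≤ Nw hF r + C * Nat.card k ^ (r / 2) := by
  have hgeo : IsGeometric k F := Groth.Agent.S11000.result k F hF
  obtain ⟨x, hx, hsep⟩ := Groth.Agent.Lib.Helper27.Geo.exists_separating hF hgeo
  haveI := hsep
  haveI := finiteDimensional_adjoin hF hx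
  obtain ⟨hF₀, hg₀⟩ := genus_adjoin_simple hF hx
  exact lower_bound_of_separable hF₀ hg₀ hF

end

end Groth.Agent.Lib.Helper23.FF
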