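import Mathlib

/-!
Hasse–Weil program, part D: bounded power sums force the numbers into the unit disc.
-/

set_option autoImplicit false

namespace Groth.Agent.Lib.Helper23.FF

open Filter Topology

/-- Simultaneous recurrence: powers of finitely many unimodular numbers come back close to `1`
simultaneously, for arbitrarily large exponents. -/
theorem exists_pow_close_to_one {N : ℕ} (u : Fin N → ℂ) (hu : ∀ i, ‖u i‖ = 1) {ε : ℝ}
    (hε : 0 < ε) (m₀ : ℕ) : ∃ d : ℕ, m₀ < d ∧ ∀ i, ‖u i ^ d - 1‖ < ε := by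
  set x : ℕ → (Fin N → ℂ) := fun j i => u i ^ (j * (m₀ + 1)) with hx
  have hxmem : ∀ j, x j ∈ Metric.closedBall (0 : Fin N → ℂ) 1 := by
    intro j
    rw [mem_closedBall_zero_iff, pi_norm_le_iff_of_nonneg zero_le_one]
    intro i
    rw [hx, norm_pow, hu, one_pow]
  obtain ⟨a, -, φ, hφ, hlim⟩ := (isCompact_closedBall (0 : Fin N → ℂ) 1).tendsto_subseq hxmem
  have hcau : CauchySeq (x ∘ φ) := hlim.cauchySeq
  rw [Metric.cauchySeq_iff] at hcau
  obtain ⟨j₀, hj₀⟩ := hcau ε hε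
  have h1 := hj₀ (j₀ + 1) (by omega) j₀ le_rfl
  have hlt : φ j₀ < φ (j₀ + 1) := hφ (by omega)
  refine ⟨(φ (j₀ + 1) - φ j₀) * (m₀ + 1), ?_, ?_⟩
  · have : 1 ≤ φ (j₀ + 1) - φ j₀ := by omega
    calc m₀ < 1 * (m₀ + 1) := by omega
      _ ≤ (φ (j₀ + 1) - φ j₀) * (m₀ + 1) := Nat.mul_le_mul_right _ this
  · intro i
    have h2 : ‖x (φ (j₀ + 1)) i - x (φ j₀) i‖ < ε := by
      rw [dist_eq_norm] at h1
      exact lt_of_le_of_lt (norm_le_pi_norm (x (φ (j₀ + 1)) - x (φ j₀)) i) h1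
    have h3 : x (φ (j₀ + 1)) i - x (φ j₀) i =
        u i ^ (φ j₀ * (m₀ + 1)) * (u i ^ ((φ (j₀ + 1) - φ j₀) * (m₀ + 1)) - 1) := by
      rw [hx]
      simp only
      rw [mul_sub, mul_one, ← pow_add]
      congr 2
      rw [← add_mul]
      congr 1
      omega
    rw [h3, norm_mul, norm_pow, hu, one_pow, one_mul] at h2
    exact h2

/-- If the power sums of finitely many complex numbers are bounded, all of them have absolute
value at most `1`. -/
theorem norm_le_one_of_bounded_power_sums {N : ℕ} (β : Fin N → ℂ) (C : ℝ) (r₀ : ℕ)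
    (h : ∀ r : ℕ, r₀ ≤ r → ‖∑ i, β i ^ r‖ ≤ C) : ∀ i, ‖β i‖ ≤ 1 := by
  intro i₀
  by_contra hR
  push Not at hR
  set R := ‖β i₀‖ with hRdef
  set u : Fin N → ℂ := fun i => if β i = 0 then 1 else β i / (‖β i‖ : ℂ) with hu
  have hunorm : ∀ i, ‖u i‖ = 1 := by
    intro i
    rw [hu]
    simp only
    split_ifs with h0
    · exact norm_one
    · rw [norm_div, Complex.norm_real, norm_norm, div_self (norm_ne_zero_iff.mpr h0)]
  have hβu : ∀ i (d : ℕ), d ≠ 0 → β i ^ d = ((‖β i‖ ^ d : ℝ) : ℂ) * u i ^ d := by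
    intro i d hd
    rw [hu]
    simp only
    split_ifs with h0
    · rw [h0, zero_pow hd, norm_zero, zero_pow hd, Complex.ofReal_zero, zero_mul]
    · rw [div_pow, Complex.ofReal_pow]
      have : ((‖β i‖ : ℂ)) ^ d ≠ 0 := pow_ne_zero _ (by
        rw [Ne, Complex.ofReal_eq_zero]; exact norm_ne_zero_iff.mpr h0)
      field_simp
  -- a large exponent
  obtain ⟨m₁, hm₁⟩ : ∃ m₁ : ℕ, ∀ d, m₁ ≤ d → 2 * C < R ^ d := by
    have := (tendsto_pow_atTop_atTop_of_one_lt hR).eventually_gt_atTop (2 * C)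
    rw [eventually_atTop] at this
    exact this
  obtain ⟨d, hd, hclose⟩ := exists_pow_close_to_one u hunorm (ε := 1 / 2) (by norm_num)
    (max m₁ r₀)
  have hd0 : d ≠ 0 := by omega
  have hre : ∀ i, (1 : ℝ) / 2 ≤ (u i ^ d).re := by
    intro i
    have h1 := hclose i
    have h2 : |(u i ^ d - 1).re| ≤ ‖u i ^ d - 1‖ := Complex.abs_re_le_norm _
    rw [Complex.sub_re, Complex.one_re] at h2
    have h3 := abs_le.mp h2
    linarith [h3.1]
  have hterm : ∀ i, 0 ≤ (β i ^ d).re := by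
    intro i
    rw [hβu i d hd0, Complex.re_ofReal_mul]
    exact mul_nonneg (pow_nonneg (norm_nonneg _) _) (by linarith [hre i])
  have hterm₀ : R ^ d / 2 ≤ (β i₀ ^ d).re := by
    rw [hβu i₀ d hd0, Complex.re_ofReal_mul]
    have := hre i₀
    have hRpos : 0 ≤ R ^ d := pow_nonneg (norm_nonneg _) _
    nlinarith
  have hsum : R ^ d / 2 ≤ (∑ i, β i ^ d).re := by
    rw [Complex.re_sum]
    calc R ^ d / 2 ≤ (β i₀ ^ d).re := hterm₀
      _ ≤ ∑ i, (β i ^ d).re :=
        Finset.single_le_sum (fun i _ => hterm i) (Finset.mem_univ i₀)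
  have h4 := h d (by omega)
  have h5 : (∑ i, β i ^ d).re ≤ ‖∑ i, β i ^ d‖ := Complex.re_le_norm _
  have h6 := hm₁ d (by omega)
  linarith

end Groth.Agent.Lib.Helper23.FF
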