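import Mathlib
import Groth.Prelude.Def_W4bk4goldsch45
import Groth.Agent.Lib.Helper23.FFHW16
import Groth.Agent.Lib.Helper23.FFHW17

/-!
Hasse–Weil program: the Riemann hypothesis for function fields over finite fields.
-/

set_option autoImplicit false

namespace Groth.Agent.Lib.Helper23.FF

open FunFld
open Groth.Agent.Lib.Helper27.FF

universe u v

variable {k : Type u} {K : Type v} [Field k] [Field K] [Algebra k K]

/-- The reciprocal roots of the `L`-polynomial have absolute value at most `√q`. -/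
theorem norm_le_sqrt [Finite k] (hK : IsFunctionField k K) {N : ℕ} (α : Fin N → ℂ)
    (hα : PowerSeries.map (Int.castRingHom ℂ) (numerZ k K) =
      ((∏ i, (1 - Polynomial.C (α i) * Polynomial.X) : Polynomial ℂ) : PowerSeries ℂ)) :
    ∀ i, ‖α i‖ ≤ Real.sqrt (Nat.card k) := by
  classical
  obtain ⟨p, hp⟩ := CharP.exists k
  haveI : Fact p.Prime := ⟨CharP.char_is_prime k p⟩
  have hp2 : 2 ≤ p := (CharP.char_is_prime k p).two_le
  obtain ⟨b, hb⟩ : ∃ b : ℕ, Nat.card k = p ^ b := by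
    letI := Fintype.ofFinite k
    obtain ⟨n, -, hn⟩ := FiniteField.card k p
    exact ⟨n, by rw [Nat.card_eq_fintype_card, hn]⟩
  have hb0 : b ≠ 0 := by
    intro h0
    rw [h0, pow_zero] at hb
    have : 1 < Nat.card k := Finite.one_lt_card
    omega
  obtain ⟨C₁, r₀, hLB⟩ := lower_bound hK
  obtain ⟨g, hg⟩ : ∃ g, g = genus k K := ⟨_, rfl⟩
  obtain ⟨q, hq⟩ : ∃ q : ℝ, q = (Nat.card k : ℝ) := ⟨_, rfl⟩
  have hq1 : 1 < q := by
    rw [hq]
    exact_mod_cast (Finite.one_lt_card : 1 < Nat.card k)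
  have hq0 : 0 < q := by linarith
  have hsq : Real.sqrt q ^ 2 = q := Real.sq_sqrt hq0.le
  have hsqpos : 0 < Real.sqrt q := Real.sqrt_pos.mpr hq0
  rw [← hq]
  -- the normalized squares
  set γ : Fin N → ℂ := fun i => (α i / (Real.sqrt q : ℂ)) ^ 2 with hγ
  have hbound : ∀ r : ℕ, max r₀ ((g + 1) ^ 2 + 1) ≤ r →
      ‖∑ i, γ i ^ r‖ ≤ (C₁ : ℝ) + 2 * g + 2 := by
    intro r hr
    have hr0 : r ≠ 0 := by
      have : (g + 1) ^ 2 + 1 ≤ r := le_trans (le_max_right _ _) hr
      omega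
    have h2r0 : 2 * r ≠ 0 := by omega
    have hdiv : 2 * r / 2 = r := by omega
    -- the two bounds
    have hLB' := hLB (2 * r) (by
      have : r₀ ≤ r := le_trans (le_max_left _ _) hr
      omega) ⟨r, by ring⟩
    rw [hdiv] at hLB'
    have hUB := Nw_le_of_even hK p b hb h2r0 ⟨r, by ring⟩ (by
      rw [hdiv, ← hg]
      have h1 : (g + 1) ^ 2 < r := by
        have : (g + 1) ^ 2 + 1 ≤ r := le_trans (le_max_right _ _) hr
        omega
      have h2 : r < 2 ^ r := Nat.lt_two_pow_self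
      have h3 : 2 ^ r ≤ p ^ (b * r) := by
        calc 2 ^ r ≤ p ^ r := Nat.pow_le_pow_left hp2 r
          _ ≤ p ^ (b * r) := by
            apply Nat.pow_le_pow_right (by omega)
            exact Nat.le_mul_of_pos_left _ (Nat.pos_of_ne_zero hb0)
      omega)
    have hpbr : p ^ (b * r) = Nat.card k ^ r := by rw [hb, pow_mul]
    rw [hdiv, ← hg, hpbr] at hUB
    -- the power sum
    have hNw := Nw_eq hK α hα h2r0
    have hsum : ∑ i, α i ^ (2 * r) = ((1 + q ^ (2 * r) - (Nw hK (2 * r) : ℝ) : ℝ) : ℂ) := by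
      rw [hq]
      push_cast
      rw [hNw]
      ring
    have hγsum : ∑ i, γ i ^ r = ((((1 + q ^ (2 * r) - (Nw hK (2 * r) : ℝ)) / q ^ r : ℝ)) : ℂ) := by
      have h1 : ∀ i, γ i ^ r = α i ^ (2 * r) / ((q ^ r : ℝ) : ℂ) := by
        intro i
        rw [hγ]
        simp only
        rw [← pow_mul, div_pow, pow_mul (Real.sqrt q : ℂ), ← Complex.ofReal_pow, hsq,
          ← Complex.ofReal_pow]
      rw [Finset.sum_congr rfl (fun i _ => h1 i), ← Finset.sum_div, hsum, ← Complex.ofReal_div]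
    rw [hγsum, Complex.norm_real, Real.norm_eq_abs, abs_le]
    have hqr1 : 1 ≤ q ^ r := one_le_pow₀ hq1.le
    have hqrpos : 0 < q ^ r := by linarith
    have hLBr : q ^ (2 * r) ≤ (Nw hK (2 * r) : ℝ) + C₁ * q ^ r := by
      rw [hq]
      exact_mod_cast hLB'
    have hUBr : (Nw hK (2 * r) : ℝ) ≤ q ^ (2 * r) + (2 * g + 1) * q ^ r := by
      rw [hq]
      exact_mod_cast hUB
    constructor
    · rw [le_div_iff₀ hqrpos]
      have hg0 : (0 : ℝ) ≤ g := Nat.cast_nonneg _
      have hC0 : (0 : ℝ) ≤ C₁ := Nat.cast_nonneg _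
      nlinarith
    · rw [div_le_iff₀ hqrpos]
      have hg0 : (0 : ℝ) ≤ g := Nat.cast_nonneg _
      have hC0 : (0 : ℝ) ≤ C₁ := Nat.cast_nonneg _
      nlinarith
  have hγle := norm_le_one_of_bounded_power_sums γ _ _ hbound
  intro i
  have h1 := hγle i
  rw [hγ] at h1
  simp only at h1
  rw [norm_pow, norm_div, Complex.norm_real, Real.norm_eq_abs, abs_of_pos hsqpos] at h1
  have h2 : ‖α i‖ / Real.sqrt q ≤ 1 := by
    have h3 : 0 ≤ ‖α i‖ / Real.sqrt q := div_nonneg (norm_nonneg _) hsqpos.le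
    nlinarith
  rwa [div_le_one hsqpos] at h2

end Groth.Agent.Lib.Helper23.FF

namespace Groth.Agent.Lib.Helper23.FF

open FunFld
open Groth.Agent.Lib.Helper27.FF

universe u v

variable {k : Type u} {K : Type v} [Field k] [Field K] [Algebra k K]

/-- The reciprocal roots of the `L`-polynomial have absolute value `√q`. -/
theorem norm_eq_sqrt [Finite k] (hK : IsFunctionField k K) {N : ℕ} (α : Fin N → ℂ)
    (hα : PowerSeries.map (Int.castRingHom ℂ) (numerZ k K) =
      ((∏ i, (1 - Polynomial.C (α i) * Polynomial.X) : Polynomial ℂ) : PowerSeries ℂ))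
    (hpair : ∀ i, α i * α (Fin.rev i) = (Nat.card k : ℂ)) :
    ∀ i, ‖α i‖ = Real.sqrt (Nat.card k) := by
  intro i
  have hle := norm_le_sqrt hK α hα
  apply le_antisymm (hle i)
  have h1 : ‖α i‖ * ‖α (Fin.rev i)‖ = (Nat.card k : ℝ) := by
    rw [← norm_mul, hpair i, Complex.norm_natCast]
  have hq0 : (0 : ℝ) ≤ (Nat.card k : ℝ) := Nat.cast_nonneg _
  have hq1 : (0 : ℝ) < (Nat.card k : ℝ) := by
    have : 0 < Nat.card k := Nat.card_pos
    exact_mod_cast this
  have hsqpos : 0 < Real.sqrt (Nat.card k) := Real.sqrt_pos.mpr hq1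
  have hsq : Real.sqrt (Nat.card k) * Real.sqrt (Nat.card k) = (Nat.card k : ℝ) :=
    Real.mul_self_sqrt hq0
  have h2 := hle (Fin.rev i)
  have h3 : 0 ≤ ‖α i‖ := norm_nonneg _
  by_contra hlt
  push Not at hlt
  have : ‖α i‖ * ‖α (Fin.rev i)‖ < Real.sqrt (Nat.card k) * Real.sqrt (Nat.card k) := by
    calc ‖α i‖ * ‖α (Fin.rev i)‖ ≤ ‖α i‖ * Real.sqrt (Nat.card k) :=
          mul_le_mul_of_nonneg_left h2 h3
      _ < Real.sqrt (Nat.card k) * Real.sqrt (Nat.card k) :=
          mul_lt_mul_of_pos_right hlt hsqpos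
  rw [h1, hsq] at this
  exact lt_irrefl _ this

end Groth.Agent.Lib.Helper23.FF
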