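import Mathlib
import Groth.Prelude.Def_W4bk4goldsch45
import Groth.Agent.Lib.Helper23.FFJac4

/-!
The Jacobian criterion for projective maps: relations among the affine coordinates have their
gradient at the point in the row space of the Jacobian matrix.
-/

set_option autoImplicit false

namespace Groth.Agent.Lib.Helper23.FF

open FunFld
open scoped IntermediateField

universe u v
variable {k : Type u} {K : Type v} [Field k] [Field K] [Algebra k K]

/-- Every relation among the affine coordinates has its gradient at the point in the row space of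
the Jacobian matrix of the generators. -/
theorem eval_pderiv_mem_rowspace {σ ι : Type*} [DecidableEq σ] [Fintype ι]
    (φ : σ → K) (j : σ) (hj0 : φ j ≠ 0)
    (f : ι → MvPolynomial σ k)
    (hgen : Ideal.span (Set.range f) = RingHom.ker (MvPolynomial.aeval (R := k)
        fun i => Polynomial.C (φ i) * (Polynomial.X : Polynomial K)))
    (α : σ → k) (hαj : α j = 1) (hfα : ∀ i, MvPolynomial.eval α (f i) = 0)
    (G : MvPolynomial σ k) (hG : MvPolynomial.aeval (fun i => φ i / φ j) G = 0) :
    ∃ H : ι → k, ∀ m, m ≠ j → MvPolynomial.eval α (MvPolynomial.pderiv m G)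
      = ∑ i, H i * MvPolynomial.eval α (MvPolynomial.pderiv m (f i)) := by
  have h1 : homog j G ∈ RingHom.ker (MvPolynomial.aeval (R := k)
        fun i => Polynomial.C (φ i) * (Polynomial.X : Polynomial K)) := by
    rw [RingHom.mem_ker, aeval_homog φ j hj0, hG, mul_zero, map_zero, zero_mul]
  rw [← hgen, Ideal.mem_span_range_iff_exists_fun] at h1
  obtain ⟨c, hc⟩ := h1
  refine ⟨fun i => MvPolynomial.eval α (c i), fun m hm => ?_⟩
  rw [← eval_pderiv_homog hm α hαj G, ← hc, map_sum, map_sum]
  refine Finset.sum_congr rfl fun i _ => ?_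
  rw [Derivation.leibniz, map_add, smul_eq_mul, smul_eq_mul, map_mul, map_mul, hfα i, zero_mul,
    add_zero]

/-- The generators of the ideal of relations vanish at the point. -/
theorem eval_eq_zero_of_mem_gradedKer {σ : Type*} [Fintype σ] [DecidableEq σ]
    (φ : σ → K) (j : σ) (hj0 : φ j ≠ 0) (P : Place k K)
    (α : σ → k) (hα : ∀ l, P.1 (φ l / φ j - algebraMap k K (α l)) < 1)
    (g : MvPolynomial σ k) (hhom : g.IsHomogeneous g.totalDegree)
    (hg : g ∈ RingHom.ker (MvPolynomial.aeval (R := k)
        fun i => Polynomial.C (φ i) * (Polynomial.X : Polynomial K))) :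
    MvPolynomial.aeval (fun i => φ i / φ j) g = 0 ∧ MvPolynomial.eval α g = 0 := by
  have h1 : MvPolynomial.aeval φ g = 0 := by
    rw [RingHom.mem_ker, aeval_C_mul_X_of_isHomogeneous hhom] at hg
    have h2 := congrArg (fun p => Polynomial.coeff p g.totalDegree) hg
    simp only [Polynomial.coeff_C_mul_X_pow, if_pos, Polynomial.coeff_zero] at h2
    simpa using h2
  have hz0 : MvPolynomial.aeval (fun i => φ i / φ j) g = 0 := by
    have h2 : (fun l => φ l / φ j) = fun l => (φ j)⁻¹ * φ l := by
      funext l
      rw [div_eq_mul_inv, mul_comm]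
    rw [h2, aeval_mul_of_isHomogeneous hhom, h1, mul_zero]
  refine ⟨hz0, ?_⟩
  exact eval_eq_zero_of_aeval_eq_zero P α _ hα g (by rw [hz0, map_zero]; exact zero_lt_one)

end Groth.Agent.Lib.Helper23.FF
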