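import Mathlib
import Groth.Prelude.Def_W4bk4goldsch45
import Groth.Agent.Lib.Helper23.FFJacN1

/-!
The Jacobian criterion for projective maps: a nonsingular point has a one-dimensional Zariski
tangent space.
-/

set_option autoImplicit false

namespace Groth.Agent.Lib.Helper23.FF

open FunFld
open scoped IntermediateField

universe u v
variable {k : Type u} {K : Type v} [Field k] [Field K] [Algebra k K]

/-- At a nonsingular point there is a nonzero tangent vector. -/
theorem exists_tangent_vector [IsAlgClosed k] (hK : IsFunctionField k K) {n : ℕ}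
    (φ : Fin (n + 1) → K) (hφ : LinearIndependent k φ) (P : Place k K)
    (hP : ∀ i, P.1 (φ i) ≤ P.1 (φ 0)) {ι : Type*} [Fintype ι]
    (f : ι → MvPolynomial (Fin (n + 1)) k)
    (hhom : ∀ i, (f i).IsHomogeneous (f i).totalDegree)
    (hgen : Ideal.span (Set.range f) = RingHom.ker (MvPolynomial.aeval (R := k)
        fun i => Polynomial.C (φ i) * (Polynomial.X : Polynomial K)))
    (α : Fin (n + 1) → k) (hα : ∀ l, P.1 (φ l / φ 0 - algebraMap k K (α l)) < 1)
    (hNS : IsNonsingularAt φ P) :
    ∃ τ : Fin n → k, τ ≠ 0 ∧ ∀ i, ∑ m : Fin n,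
      MvPolynomial.eval α (MvPolynomial.pderiv m.succ (f i)) * τ m = 0 := by
  classical
  have hj0 : φ 0 ≠ 0 := hφ.ne_zero 0
  have hα0 : α 0 = 1 := const_eq_one_of_index P φ hj0 (hα 0)
  set z : Fin (n + 1) → K := fun l => φ l / φ 0 with hz
  have hz0 : z 0 - algebraMap k K (α 0) = 0 := by
    show φ 0 / φ 0 - _ = 0
    rw [div_self hj0, hα0, map_one, sub_self]
  have hfz : ∀ i, MvPolynomial.aeval z (f i) = 0 ∧ MvPolynomial.eval α (f i) = 0 := fun i =>
    eval_eq_zero_of_mem_gradedKer φ 0 hj0 P α hα (f i) (hhom i) (by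
      rw [← hgen]
      exact Ideal.subset_span ⟨i, rfl⟩)
  obtain ⟨t, ht⟩ := P.2.2 (WithZero.exp (-1))
  have ht0 : t ≠ 0 := by
    rintro rfl
    rw [map_zero] at ht
    exact WithZero.exp_ne_zero ht.symm
  have hdeg : P.deg = 1 := deg_eq_one hK P
  have hεle : ∀ l, P.1 (z l - algebraMap k K (α l)) ≤ WithZero.exp (-1) := fun l =>
    val_le_exp_neg_one_of_lt_one P (hα l)
  have hdiv : ∀ l, P.1 ((z l - algebraMap k K (α l)) / t) ≤ 1 := by
    intro l
    rw [map_div₀, ht]
    exact div_le_one_of_le₀ (hεle l) zero_le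
  choose τ' hτ' using fun l => exists_const_val_sub_lt_one P hdeg (hdiv l)
  have hτ'0 : τ' 0 = 0 := by
    have h1 := hτ' 0
    rw [hz0, zero_div, zero_sub, Valuation.map_neg] at h1
    exact const_eq_zero_of_val_lt_one P h1
  have hexp21 : WithZero.exp (-2 : ℤ) / WithZero.exp (-1 : ℤ) = WithZero.exp (-1 : ℤ) := by
    rw [← WithZero.exp_sub]
    norm_num
  have hlt1 : WithZero.exp (-1 : ℤ) < (1 : WithZero (Multiplicative ℤ)) := by
    rw [← WithZero.exp_zero, WithZero.exp_lt_exp]
    norm_num
  have hlt2 : WithZero.exp (-2 : ℤ) < WithZero.exp (-1 : ℤ) := by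
    rw [WithZero.exp_lt_exp]
    norm_num
  refine ⟨fun m => τ' m.succ, ?_, ?_⟩
  · -- nonvanishing
    intro hzero
    have hall : ∀ l, τ' l = 0 := by
      intro l
      refine Fin.cases hτ'0 (fun m => ?_) l
      exact congrFun hzero m
    have hε2 : ∀ l, P.1 (z l - algebraMap k K (α l)) ≤ WithZero.exp (-2) := by
      intro l
      have h1 := hτ' l
      rw [hall l, map_zero, sub_zero, map_div₀, ht] at h1
      have h2 : P.1 (z l - algebraMap k K (α l)) < WithZero.exp (-1) := by
        have h3 := (div_lt_one₀ (WithZero.exp_pos)).mp h1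
        exact h3
      have h4 := (lt_exp_iff_le_exp_sub_one _ (-1)).mp h2
      simpa using h4
    have htO : P.1 t ≤ 1 := by
      rw [ht]
      exact hlt1.le
    have hmem := (inLocRing_iff_of_index φ P hj0 hP _).mp (hNS t htO)
    obtain ⟨v, hv, w, hw, hPw, htw⟩ := hmem
    have hrange : ratioAlg (k := k) φ 0 = (MvPolynomial.aeval z).range :=
      Algebra.adjoin_range_eq_range_aeval k z
    rw [hrange] at hv hw
    obtain ⟨V, rfl⟩ := hv
    obtain ⟨W, rfl⟩ := hw
    have hPw' : P.1 (MvPolynomial.aeval z W) = 1 := hPw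
    have htw' : t * MvPolynomial.aeval z W = MvPolynomial.aeval z V := htw
    have hPV : P.1 (MvPolynomial.aeval z V) = WithZero.exp (-1) := by
      rw [← htw', map_mul, ht, hPw', mul_one]
    have hT := taylor_val_le P α z hα V
    have hS : P.1 (∑ i, algebraMap k K (MvPolynomial.eval α (MvPolynomial.pderiv i V))
        * (z i - algebraMap k K (α i))) ≤ WithZero.exp (-2) := by
      apply Valuation.map_sum_le
      intro i _
      rw [map_mul]
      calc P.1 (algebraMap k K _) * P.1 (z i - algebraMap k K (α i))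
          ≤ 1 * WithZero.exp (-2) := mul_le_mul' (P.2.1 _) (hε2 i)
        _ = WithZero.exp (-2) := one_mul _
    have hVV : P.1 (MvPolynomial.aeval z V - algebraMap k K (MvPolynomial.eval α V))
        ≤ WithZero.exp (-2) := by
      have e : MvPolynomial.aeval z V - algebraMap k K (MvPolynomial.eval α V)
          = (MvPolynomial.aeval z V - algebraMap k K (MvPolynomial.eval α V)
            - ∑ i, algebraMap k K (MvPolynomial.eval α (MvPolynomial.pderiv i V))
              * (z i - algebraMap k K (α i)))
            + ∑ i, algebraMap k K (MvPolynomial.eval α (MvPolynomial.pderiv i V))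
              * (z i - algebraMap k K (α i)) := by ring
      rw [e]
      exact (P.1.map_add _ _).trans (max_le hT hS)
    by_cases hVα : MvPolynomial.eval α V = 0
    · rw [hVα, map_zero, sub_zero, hPV] at hVV
      exact absurd hVV (not_le.mpr hlt2)
    · have h1 := val_eq_one_of_val_sub_const_lt P hVα (lt_of_le_of_lt hVV (hlt2.trans hlt1))
      rw [hPV] at h1
      exact absurd h1 (ne_of_lt hlt1)
  · -- tangency
    intro i
    have hT := taylor_val_le P α z hα (f i)
    rw [(hfz i).1, (hfz i).2, map_zero, sub_zero, zero_sub, Valuation.map_neg] at hT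
    set S := ∑ l, algebraMap k K (MvPolynomial.eval α (MvPolynomial.pderiv l (f i)))
        * (z l - algebraMap k K (α l)) with hS
    have hSt : P.1 (S / t) < 1 := by
      rw [map_div₀, ht]
      refine lt_of_le_of_lt ?_ hlt1
      rw [← hexp21]
      exact div_le_div_of_nonneg_right hT zero_le
    have e1 : S / t = ∑ l, algebraMap k K (MvPolynomial.eval α (MvPolynomial.pderiv l (f i)))
        * ((z l - algebraMap k K (α l)) / t) := by
      rw [hS, Finset.sum_div]
      refine Finset.sum_congr rfl fun l _ => ?_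
      rw [mul_div_assoc]
    have e2 : algebraMap k K (∑ l, MvPolynomial.eval α (MvPolynomial.pderiv l (f i)) * τ' l)
        = S / t - ∑ l, algebraMap k K (MvPolynomial.eval α (MvPolynomial.pderiv l (f i)))
          * ((z l - algebraMap k K (α l)) / t - algebraMap k K (τ' l)) := by
      rw [e1, ← Finset.sum_sub_distrib, map_sum]
      refine Finset.sum_congr rfl fun l _ => ?_
      rw [map_mul]
      ring
    have h3 : P.1 (algebraMap k K (∑ l, MvPolynomial.eval α (MvPolynomial.pderiv l (f i))
        * τ' l)) < 1 := by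
      rw [e2]
      refine lt_of_le_of_lt (P.1.map_sub _ _) (max_lt hSt ?_)
      apply Valuation.map_sum_lt _ one_ne_zero
      intro l _
      rw [map_mul]
      calc P.1 (algebraMap k K _) * P.1 ((z l - algebraMap k K (α l)) / t - algebraMap k K (τ' l))
          ≤ 1 * P.1 ((z l - algebraMap k K (α l)) / t - algebraMap k K (τ' l)) :=
            mul_le_mul' (P.2.1 _) le_rfl
        _ < 1 := by rw [one_mul]; exact hτ' l
    have h4 := const_eq_zero_of_val_lt_one P h3
    rw [Fin.sum_univ_succ, hτ'0, mul_zero, zero_add] at h4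
    exact h4

end Groth.Agent.Lib.Helper23.FF
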