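import Mathlib
import Groth.Prelude.Def_W4bk4goldsch45
import Groth.Agent.Lib.Helper23.FFJacN2

/-!
The Jacobian criterion for projective maps: at a nonsingular point all tangent vectors are
proportional.
-/

set_option autoImplicit false

namespace Groth.Agent.Lib.Helper23.FF

open FunFld
open scoped IntermediateField

universe u v
variable {k : Type u} {K : Type v} [Field k] [Field K] [Algebra k K]

/-- At a nonsingular point all tangent vectors are proportional to a fixed one. -/
theorem tangent_proportional {n : ℕ} (hn : 1 ≤ n)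
    (φ : Fin (n + 1) → K) (hφ : LinearIndependent k φ) (P : Place k K)
    (hP : ∀ i, P.1 (φ i) ≤ P.1 (φ 0)) {ι : Type*} [Fintype ι]
    (f : ι → MvPolynomial (Fin (n + 1)) k)
    (hhom : ∀ i, (f i).IsHomogeneous (f i).totalDegree)
    (hgen : Ideal.span (Set.range f) = RingHom.ker (MvPolynomial.aeval (R := k)
        fun i => Polynomial.C (φ i) * (Polynomial.X : Polynomial K)))
    (α : Fin (n + 1) → k) (hα : ∀ l, P.1 (φ l / φ 0 - algebraMap k K (α l)) < 1)
    (hNS : IsNonsingularAt φ P) {L : Type*} [Field L] (ι' : k →+* L) :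
    ∃ (l₀ : Fin n) (w : Fin n → k), ∀ τ : Fin n → L,
      (∀ i, ∑ m : Fin n,
        ι' (MvPolynomial.eval α (MvPolynomial.pderiv m.succ (f i))) * τ m = 0) →
      ∀ l, τ l = ι' (w l) * τ l₀ := by
  classical
  have hj0 : φ 0 ≠ 0 := hφ.ne_zero 0
  have hα0 : α 0 = 1 := const_eq_one_of_index P φ hj0 (hα 0)
  set z : Fin (n + 1) → K := fun l => φ l / φ 0 with hz
  have hfα : ∀ i, MvPolynomial.eval α (f i) = 0 := fun i =>
    (eval_eq_zero_of_mem_gradedKer φ 0 hj0 P α hα (f i) (hhom i) (by
      rw [← hgen]
      exact Ideal.subset_span ⟨i, rfl⟩)).2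
  haveI : Nonempty (Fin n) := ⟨⟨0, hn⟩⟩
  have hε0 : ∀ m : Fin n, z m.succ - algebraMap k K (α m.succ) ≠ 0 := fun m =>
    ratio_sub_const_ne_zero φ hφ (Fin.succ_ne_zero m) _
  obtain ⟨l₀, hl₀⟩ := Finite.exists_max (fun m : Fin n => P.1 (z m.succ - algebraMap k K (α m.succ)))
  have key : ∀ l : Fin n, ∃ wl : k, ∀ τ : Fin n → L,
      (∀ i, ∑ m : Fin n,
        ι' (MvPolynomial.eval α (MvPolynomial.pderiv m.succ (f i))) * τ m = 0) →
      τ l = ι' wl * τ l₀ := by
    intro l
    by_cases hll : l = l₀
    · refine ⟨1, fun τ _ => ?_⟩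
      rw [hll, map_one, one_mul]
    have hu : P.1 ((z l.succ - algebraMap k K (α l.succ))
        / (z l₀.succ - algebraMap k K (α l₀.succ))) ≤ 1 := by
      rw [map_div₀]
      exact div_le_one_of_le₀ (hl₀ l) zero_le
    have hmem := (inLocRing_iff_of_index φ P hj0 hP _).mp (hNS _ hu)
    obtain ⟨v, hv, w, hw, hPw, huw⟩ := hmem
    have hrange : ratioAlg (k := k) φ 0 = (MvPolynomial.aeval z).range :=
      Algebra.adjoin_range_eq_range_aeval k z
    rw [hrange] at hv hw
    obtain ⟨V, rfl⟩ := hv
    obtain ⟨W, rfl⟩ := hw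
    have hPw' : P.1 (MvPolynomial.aeval z W) = 1 := hPw
    set G : MvPolynomial (Fin (n + 1)) k :=
      (MvPolynomial.X l.succ - MvPolynomial.C (α l.succ)) * W
      - (MvPolynomial.X l₀.succ - MvPolynomial.C (α l₀.succ)) * V with hGdef
    have hG : MvPolynomial.aeval z G = 0 := by
      rw [hGdef, map_sub, map_mul, map_mul, map_sub, map_sub, MvPolynomial.aeval_X,
        MvPolynomial.aeval_X, MvPolynomial.aeval_C, MvPolynomial.aeval_C]
      have : MvPolynomial.aeval z V = (z l.succ - algebraMap k K (α l.succ))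
          / (z l₀.succ - algebraMap k K (α l₀.succ)) * MvPolynomial.aeval z W := huw.symm
      rw [this]
      have h0 := hε0 l₀
      field_simp
      ring
    have hW0 : MvPolynomial.eval α W ≠ 0 := by
      intro h0
      have h3 := val_aeval_sub_eval_lt P α z hα W
      rw [h0, map_zero, sub_zero, hPw'] at h3
      exact lt_irrefl _ h3
    obtain ⟨H, hH⟩ := eval_pderiv_mem_rowspace φ 0 hj0 f hgen α hα0 hfα G hG
    have hd : ∀ m : Fin n, MvPolynomial.eval α (MvPolynomial.pderiv m.succ G)
        = (if m = l then MvPolynomial.eval α W else 0)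
          - (if m = l₀ then MvPolynomial.eval α V else 0) := by
      intro m
      rw [hGdef]
      simp only [map_sub, Derivation.leibniz, MvPolynomial.pderiv_X, MvPolynomial.pderiv_C,
        smul_eq_mul, map_add, map_mul, MvPolynomial.eval_X, MvPolynomial.eval_C, sub_self,
        zero_mul, sub_zero, zero_add, Pi.single_apply, Fin.succ_inj]
      congr 1
      · split_ifs with h1 h2 h2
        · simp
        · exact absurd h1.symm h2
        · exact absurd h2.symm h1
        · simp
      · split_ifs with h1 h2 h2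
        · simp
        · exact absurd h1.symm h2
        · exact absurd h2.symm h1
        · simp
    refine ⟨MvPolynomial.eval α V / MvPolynomial.eval α W, fun τ hτ => ?_⟩
    have hsum : ∑ m : Fin n, ι' (MvPolynomial.eval α (MvPolynomial.pderiv m.succ G)) * τ m = 0 := by
      have h1 : ∀ m : Fin n, ι' (MvPolynomial.eval α (MvPolynomial.pderiv m.succ G)) * τ m
          = ∑ i, ι' (H i) * (ι' (MvPolynomial.eval α (MvPolynomial.pderiv m.succ (f i)))
            * τ m) := by
        intro m
        rw [hH m.succ (Fin.succ_ne_zero m), map_sum, Finset.sum_mul]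
        refine Finset.sum_congr rfl fun i _ => ?_
        rw [map_mul, mul_assoc]
      rw [Finset.sum_congr rfl fun m _ => h1 m, Finset.sum_comm]
      refine Finset.sum_eq_zero fun i _ => ?_
      rw [← Finset.mul_sum, hτ i, mul_zero]
    have hsum2 : ∑ m : Fin n, ι' (MvPolynomial.eval α (MvPolynomial.pderiv m.succ G)) * τ m
        = ι' (MvPolynomial.eval α W) * τ l - ι' (MvPolynomial.eval α V) * τ l₀ := by
      have h2 : ∀ m : Fin n, ι' (MvPolynomial.eval α (MvPolynomial.pderiv m.succ G)) * τ m
          = (if m = l then ι' (MvPolynomial.eval α W) * τ m else 0)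
            - (if m = l₀ then ι' (MvPolynomial.eval α V) * τ m else 0) := by
        intro m
        rw [hd m, map_sub, sub_mul]
        congr 1
        · split_ifs <;> simp
        · split_ifs <;> simp
      rw [Finset.sum_congr rfl fun m _ => h2 m, Finset.sum_sub_distrib,
        Finset.sum_ite_eq' Finset.univ l, Finset.sum_ite_eq' Finset.univ l₀,
        if_pos (Finset.mem_univ l), if_pos (Finset.mem_univ l₀)]
    rw [hsum2] at hsum
    have hW0' : ι' (MvPolynomial.eval α W) ≠ 0 := by
      rwa [Ne, map_eq_zero_iff _ ι'.injective]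
    rw [map_div₀]
    field_simp
    linear_combination hsum
  choose w hw using key
  exact ⟨l₀, w, fun τ hτ l => hw l τ hτ⟩

end Groth.Agent.Lib.Helper23.FF
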