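import Mathlib
import Groth.Prelude.Def_W4bk4goldsch45
import Groth.Agent.Lib.Helper23.FFJacN3

/-!
The Jacobian criterion for projective maps: Nakayama's lemma in the local algebra of a point, and
the converse direction.
-/

set_option autoImplicit false

namespace Groth.Agent.Lib.Helper23.FF

open FunFld
open scoped IntermediateField

universe u v
variable {k : Type u} {K : Type v} [Field k] [Field K] [Algebra k K]

/-- Nakayama's lemma in the local algebra: generators of the maximal ideal that are multiples of one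
of them modulo the square are multiples of it. -/
theorem mul_of_nakayama (P : Place k K) (A : Subalgebra k K) (hA : ∀ a ∈ A, P.1 a ≤ 1)
    {m : ℕ} (ε : Fin m → K) (hεR : ∀ l, ε l ∈ locAlg A P) (hεv : ∀ l, P.1 (ε l) < 1)
    (l₀ : Fin m) (c : Fin m → K) (hc : ∀ l, c l ∈ locAlg A P)
    (ν : Fin m → Fin m → K)
    (hν : ∀ l j, ∃ ρ : Fin m → K, (∀ i, ρ i ∈ locAlg A P) ∧ ν l j = ∑ i, ε i * ρ i)
    (hrel : ∀ l, ε l = c l * ε l₀ + ∑ j, ε j * ν l j) :
    ∀ l, ∃ r ∈ locAlg A P, ε l = ε l₀ * r := by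
  classical
  set R := locAlg A P with hR
  have hRv : ∀ r ∈ R, P.1 r ≤ 1 := fun r hr => val_le_one_of_mem_locAlg hA hr
  set e : Fin m → ↥R := fun l => ⟨ε l, hεR l⟩ with he
  set 𝔪 : Ideal ↥R := Ideal.span (Set.range e) with h𝔪
  have h𝔪v : ∀ x ∈ 𝔪, P.1 (x : K) < 1 := by
    intro x hx
    refine Submodule.span_induction (p := fun (x : ↥R) _ => P.1 (x : K) < 1) ?_ ?_ ?_ ?_ hx
    · rintro _ ⟨l, rfl⟩
      exact hεv l
    · show P.1 ((0 : ↥R) : K) < 1
      rw [ZeroMemClass.coe_zero, map_zero]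
      exact zero_lt_one
    · intro a b _ _ ha hb
      show P.1 ((a + b : ↥R) : K) < 1
      rw [AddMemClass.coe_add]
      exact lt_of_le_of_lt (P.1.map_add _ _) (max_lt ha hb)
    · intro r a _ ha
      show P.1 ((r • a : ↥R) : K) < 1
      rw [smul_eq_mul, MulMemClass.coe_mul, map_mul]
      exact mul_lt_one_of_nonneg_of_lt_one_right (hRv _ r.2) zero_le ha
  have hjac : 𝔪 ≤ Ideal.jacobson ⊥ := by
    intro x hx
    rw [Ideal.mem_jacobson_bot]
    intro y
    have hxy : x * y ∈ 𝔪 := 𝔪.mul_mem_right y hx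
    have hv : P.1 (((x * y + 1 : ↥R)) : K) = 1 := by
      have h1 : (((x * y + 1 : ↥R)) : K) = ((x * y : ↥R) : K) + 1 := by
        rw [AddMemClass.coe_add, OneMemClass.coe_one]
      rw [h1]
      apply val_eq_one_of_val_sub_const_lt P (c := (1 : k)) one_ne_zero
      rw [map_one, add_sub_cancel_right]
      exact h𝔪v _ hxy
    have hinv := inv_mem_locAlg (x * y + 1 : ↥R).2 hv
    have hne : (((x * y + 1 : ↥R)) : K) ≠ 0 := by
      intro h0
      rw [h0, map_zero] at hv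
      exact zero_ne_one hv
    rw [isUnit_iff_exists_inv]
    refine ⟨⟨_, hinv⟩, ?_⟩
    apply Subtype.ext
    show (((x * y + 1 : ↥R)) : K) * (((x * y + 1 : ↥R)) : K)⁻¹ = 1
    exact mul_inv_cancel₀ hne
  have hfg : (𝔪 : Submodule ↥R ↥R).FG := Submodule.fg_span (Set.finite_range e)
  have hνR : ∀ l j, ν l j ∈ R := by
    intro l j
    obtain ⟨ρ, hρ, hνρ⟩ := hν l j
    rw [hνρ]
    exact R.sum_mem fun i _ => R.mul_mem (hεR i) (hρ i)
  have hν𝔪 : ∀ l j, (⟨ν l j, hνR l j⟩ : ↥R) ∈ 𝔪 := by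
    intro l j
    obtain ⟨ρ, hρ, hνρ⟩ := hν l j
    have h1 : (⟨ν l j, hνR l j⟩ : ↥R) = ∑ i, e i * ⟨ρ i, hρ i⟩ := by
      apply Subtype.ext
      rw [AddSubmonoidClass.coe_finsetSum]
      exact hνρ
    rw [h1]
    exact 𝔪.sum_mem fun i _ => 𝔪.mul_mem_right _ (Ideal.subset_span ⟨i, rfl⟩)
  have hNN : (𝔪 : Submodule ↥R ↥R) ≤ (Ideal.span {e l₀} : Ideal ↥R) ⊔ 𝔪 • (𝔪 : Submodule ↥R ↥R) := by
    rw [h𝔪]
    apply Ideal.span_le.mpr
    rintro _ ⟨l, rfl⟩
    have h1 : e l = ⟨c l, hc l⟩ * e l₀ + ∑ j, e j * ⟨ν l j, hνR l j⟩ := by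
      apply Subtype.ext
      rw [AddMemClass.coe_add, AddSubmonoidClass.coe_finsetSum]
      exact hrel l
    rw [h1]
    refine Submodule.add_mem_sup ?_ ?_
    · exact Ideal.mul_mem_left _ _ (Ideal.subset_span rfl)
    · refine Submodule.sum_mem _ fun j _ => ?_
      rw [← h𝔪]
      have : e j * (⟨ν l j, hνR l j⟩ : ↥R) = e j • (⟨ν l j, hνR l j⟩ : ↥R) := rfl
      rw [this]
      exact Submodule.smul_mem_smul (Ideal.subset_span ⟨j, rfl⟩) (hν𝔪 l j)
  have hle := Submodule.le_of_le_smul_of_le_jacobson_bot hfg hjac hNN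
  intro l
  have h1 : e l ∈ (Ideal.span {e l₀} : Ideal ↥R) := hle (Ideal.subset_span ⟨l, rfl⟩)
  rw [Ideal.mem_span_singleton'] at h1
  obtain ⟨r, hr⟩ := h1
  refine ⟨r, r.2, ?_⟩
  have h2 := congrArg Subtype.val hr
  rw [mul_comm]
  exact h2.symm

end Groth.Agent.Lib.Helper23.FF
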