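import Mathlib
import Groth.Prelude.Def_W4bk4goldsch45
import Groth.Agent.Lib.Helper23.FFJacN4

/-!
The Jacobian criterion for projective maps: a one-dimensional Zariski tangent space gives a
nonsingular point.
-/

set_option autoImplicit false

namespace Groth.Agent.Lib.Helper23.FF

open FunFld
open scoped IntermediateField

universe u v
variable {k : Type u} {K : Type v} [Field k] [Field K] [Algebra k K]

theorem isNonsingularAt_of_rowspace {n : ℕ} (φ : Fin (n + 1) → K)
    (hφ : LinearIndependent k φ)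
    (hbir : IntermediateField.adjoin k (Set.range fun i => φ i / φ 0) = ⊤)
    (P : Place k K) (hP : ∀ i, P.1 (φ i) ≤ P.1 (φ 0)) {ι : Type*} [Fintype ι]
    (f : ι → MvPolynomial (Fin (n + 1)) k)
    (hhom : ∀ i, (f i).IsHomogeneous (f i).totalDegree)
    (hgen : Ideal.span (Set.range f) = RingHom.ker (MvPolynomial.aeval (R := k)
        fun i => Polynomial.C (φ i) * (Polynomial.X : Polynomial K)))
    (α : Fin (n + 1) → k) (hα : ∀ l, P.1 (φ l / φ 0 - algebraMap k K (α l)) < 1)
    (l₀ : Fin n) (c : Fin n → k) (Λ : Fin n → ι → k)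
    (hrel : ∀ l m : Fin n, (if m = l then (1 : k) else 0) - c l * (if m = l₀ then 1 else 0)
        = ∑ i, Λ l i * MvPolynomial.eval α (MvPolynomial.pderiv m.succ (f i))) :
    IsNonsingularAt φ P := by
  classical
  have hj0 : φ 0 ≠ 0 := hφ.ne_zero 0
  have hα0 : α 0 = 1 := const_eq_one_of_index P φ hj0 (hα 0)
  set z : Fin (n + 1) → K := fun l => φ l / φ 0 with hz
  have hz0 : z 0 - algebraMap k K (α 0) = 0 := by
    show φ 0 / φ 0 - _ = 0
    rw [div_self hj0, hα0, map_one, sub_self]
  have hfz : ∀ i, MvPolynomial.aeval z (f i) = 0 ∧ MvPolynomial.eval α (f i) = 0 := fun i =>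
    eval_eq_zero_of_mem_gradedKer φ 0 hj0 P α hα (f i) (hhom i) (by
      rw [← hgen]
      exact Ideal.subset_span ⟨i, rfl⟩)
  set A : Subalgebra k K := ratioAlg (k := k) φ 0 with hAdef
  set R := locAlg A P with hR
  have hrange : A = (MvPolynomial.aeval z).range := Algebra.adjoin_range_eq_range_aeval k z
  have hA : ∀ a ∈ A, P.1 a ≤ 1 := fun a ha => val_le_one_of_mem_ratioAlg φ P hj0 hP ha
  have hmemA : ∀ g : MvPolynomial (Fin (n + 1)) k, MvPolynomial.aeval z g ∈ A := by
    intro g
    rw [hrange]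
    exact ⟨g, rfl⟩
  set ε : Fin n → K := fun m => z m.succ - algebraMap k K (α m.succ) with hε
  have hεA : ∀ m, ε m ∈ A := fun m =>
    A.sub_mem (ratio_mem_ratioAlg φ 0 m.succ) (A.algebraMap_mem _)
  have hεv : ∀ m, P.1 (ε m) < 1 := fun m => hα m.succ
  have expand : ∀ g : MvPolynomial (Fin (n + 1)) k, ∃ b : Fin n → K, (∀ m, b m ∈ A) ∧
      (∀ m, P.1 (b m - algebraMap k K
        (MvPolynomial.eval α (MvPolynomial.pderiv m.succ g))) < 1) ∧
      MvPolynomial.aeval z g - algebraMap k K (MvPolynomial.eval α g) = ∑ m, ε m * b m := by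
    intro g
    obtain ⟨q, hq⟩ := exists_sub_C_eq_sum α g
    have h1 := congrArg (MvPolynomial.aeval z) hq
    rw [map_sub, MvPolynomial.aeval_C, map_sum, Fin.sum_univ_succ] at h1
    have h0 : MvPolynomial.aeval z ((MvPolynomial.X 0 - MvPolynomial.C (α 0)) * q 0) = 0 := by
      rw [map_mul, map_sub, MvPolynomial.aeval_X, MvPolynomial.aeval_C, hz0, zero_mul]
    rw [h0, zero_add] at h1
    refine ⟨fun m => MvPolynomial.aeval z (q m.succ), fun m => hmemA _, fun m => ?_, ?_⟩
    · rw [eval_pderiv_eq_of_sub_C_eq_sum α g q hq m.succ]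
      exact val_aeval_sub_eval_lt P α z hα (q m.succ)
    · rw [h1]
      refine Finset.sum_congr rfl fun m _ => ?_
      rw [map_mul, map_sub, MvPolynomial.aeval_X, MvPolynomial.aeval_C]
  choose b hbA hbv hbe using fun i => expand (f i)
  set J : ι → Fin n → k := fun i m =>
    MvPolynomial.eval α (MvPolynomial.pderiv m.succ (f i)) with hJ
  set μ : ι → Fin n → K := fun i m => b i m - algebraMap k K (J i m) with hμ
  have hμA : ∀ i m, μ i m ∈ A := fun i m => A.sub_mem (hbA i m) (A.algebraMap_mem _)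
  have hμv : ∀ i m, P.1 (μ i m) < 1 := fun i m => hbv i m
  have hJε : ∀ i, ∑ m, algebraMap k K (J i m) * ε m = -∑ m, ε m * μ i m := by
    intro i
    have h1 := hbe i
    rw [(hfz i).1, (hfz i).2, map_zero, sub_zero] at h1
    have h2 : ∑ m, ε m * b i m = ∑ m, algebraMap k K (J i m) * ε m + ∑ m, ε m * μ i m := by
      rw [← Finset.sum_add_distrib]
      refine Finset.sum_congr rfl fun m _ => ?_
      rw [hμ]
      ring
    rw [h2] at h1
    exact eq_neg_of_add_eq_zero_left h1.symm
  set ν : Fin n → Fin n → K := fun l j => -∑ i, algebraMap k K (Λ l i) * μ i j with hν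
  have hνA : ∀ l j, ν l j ∈ A := fun l j =>
    A.neg_mem (A.sum_mem fun i _ => A.mul_mem (A.algebraMap_mem _) (hμA i j))
  have hνv : ∀ l j, P.1 (ν l j) < 1 := by
    intro l j
    rw [hν, Valuation.map_neg]
    apply Valuation.map_sum_lt _ one_ne_zero
    intro i _
    rw [map_mul]
    calc P.1 (algebraMap k K (Λ l i)) * P.1 (μ i j) ≤ 1 * P.1 (μ i j) :=
          mul_le_mul' (P.2.1 _) le_rfl
      _ < 1 := by rw [one_mul]; exact hμv i j
  have hrelε : ∀ l, ε l = algebraMap k K (c l) * ε l₀ + ∑ j, ε j * ν l j := by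
    intro l
    have h1 : ε l - algebraMap k K (c l) * ε l₀
        = ∑ m, algebraMap k K ((if m = l then (1 : k) else 0)
            - c l * (if m = l₀ then 1 else 0)) * ε m := by
      simp only [map_sub, map_mul, sub_mul, Finset.sum_sub_distrib]
      congr 1
      · rw [Finset.sum_eq_single l]
        · rw [if_pos rfl, map_one, one_mul]
        · intro m _ hm
          rw [if_neg hm, map_zero, zero_mul]
        · intro h
          exact absurd (Finset.mem_univ l) h
      · rw [Finset.sum_eq_single l₀]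
        · rw [if_pos rfl, map_one, mul_one]
        · intro m _ hm
          rw [if_neg hm, map_zero, mul_zero, zero_mul]
        · intro h
          exact absurd (Finset.mem_univ l₀) h
    have h2 : ∑ m, algebraMap k K ((if m = l then (1 : k) else 0)
            - c l * (if m = l₀ then 1 else 0)) * ε m
        = ∑ j, ε j * ν l j := by
      have h3 : ∀ m, algebraMap k K ((if m = l then (1 : k) else 0)
            - c l * (if m = l₀ then 1 else 0)) * ε m
          = ∑ i, algebraMap k K (Λ l i) * (algebraMap k K (J i m) * ε m) := by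
        intro m
        rw [hrel l m, map_sum, Finset.sum_mul]
        refine Finset.sum_congr rfl fun i _ => ?_
        rw [map_mul, mul_assoc]
      rw [Finset.sum_congr rfl fun m _ => h3 m, Finset.sum_comm]
      have h4 : ∀ i, ∑ m, algebraMap k K (Λ l i) * (algebraMap k K (J i m) * ε m)
          = -∑ m, ε m * (algebraMap k K (Λ l i) * μ i m) := by
        intro i
        rw [← Finset.mul_sum, hJε i, mul_neg, Finset.mul_sum]
        congr 1
        refine Finset.sum_congr rfl fun m _ => ?_
        ring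
      rw [Finset.sum_congr rfl fun i _ => h4 i, Finset.sum_neg_distrib, Finset.sum_comm,
        ← Finset.sum_neg_distrib]
      refine Finset.sum_congr rfl fun j _ => ?_
      rw [hν, mul_neg, Finset.mul_sum]
    rw [← h2, ← h1]
    ring
  have hexp0 : ∀ a ∈ A, P.1 a < 1 → ∃ ρ : Fin n → K, (∀ i, ρ i ∈ A) ∧ a = ∑ i, ε i * ρ i := by
    intro a ha hPa
    rw [hrange] at ha
    obtain ⟨g, rfl⟩ := ha
    have hPa' : P.1 (MvPolynomial.aeval z g) < 1 := hPa
    have hgα : MvPolynomial.eval α g = 0 := eval_eq_zero_of_aeval_eq_zero P α z hα g hPa'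
    obtain ⟨d, hd, -, hexp'⟩ := expand g
    rw [hgα, map_zero, sub_zero] at hexp'
    exact ⟨d, hd, hexp'⟩
  have hνρ : ∀ l j, ∃ ρ : Fin n → K, (∀ i, ρ i ∈ R) ∧ ν l j = ∑ i, ε i * ρ i := by
    intro l j
    obtain ⟨ρ, hρ, h⟩ := hexp0 (ν l j) (hνA l j) (hνv l j)
    exact ⟨ρ, fun i => le_locAlg A P (hρ i), h⟩
  have hnak := mul_of_nakayama P A hA ε (fun l => le_locAlg A P (hεA l)) hεv l₀
    (fun l => algebraMap k K (c l)) (fun l => R.algebraMap_mem _) ν hνρ hrelε
  choose ρ hρR hρ using hnak
  have H : ∀ a ∈ A, P.1 a < 1 → ∃ r ∈ R, a = ε l₀ * r := by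
    intro a ha hPa
    obtain ⟨d, hd, hexp'⟩ := hexp0 a ha hPa
    refine ⟨∑ m, ρ m * d m, R.sum_mem fun m _ => R.mul_mem (hρR m) (le_locAlg A P (hd m)), ?_⟩
    rw [hexp', Finset.mul_sum]
    refine Finset.sum_congr rfl fun m _ => ?_
    rw [hρ m]
    ring
  have hfrac : ∀ u : K, ∃ a ∈ A, ∃ b ∈ A, u = a / b := by
    intro u
    have hu : u ∈ IntermediateField.adjoin k (Set.range fun i => φ i / φ 0) := by
      rw [hbir]
      trivial
    rw [IntermediateField.mem_adjoin_iff_div] at hu
    exact hu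
  intro u hu
  rw [inLocRing_iff_of_index φ P hj0 hP]
  exact mem_locAlg_of_principal P A hA hfrac _ (le_locAlg A P (hεA l₀)) (hεv l₀) H hu

end Groth.Agent.Lib.Helper23.FF
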