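/-
Helper library (helper23): linear algebra for the Jacobian criterion (rank n-1 ⟺ one-dimensional
kernel; row-space descriptions).
-/
import Mathlib

set_option autoImplicit false

namespace Groth.Agent.Lib.Helper23.FF

theorem rank_eq_pred_iff {κ : Type*} [Field κ] {r n : ℕ} (hn : 1 ≤ n)
    (A : Matrix (Fin r) (Fin n) κ) :
    A.rank = n - 1 ↔ Module.finrank κ (LinearMap.ker A.mulVecLin) = 1 := by
  have h := LinearMap.finrank_range_add_finrank_ker A.mulVecLin
  rw [Module.finrank_fin_fun] at h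
  unfold Matrix.rank
  omega

theorem finrank_ker_eq_one_of_proportional {κ : Type*} [Field κ] {r n : ℕ}
    (A : Matrix (Fin r) (Fin n) κ)
    (τ₀ : Fin n → κ) (hτ₀ : τ₀ ≠ 0) (hτ₀A : A.mulVec τ₀ = 0) (l₀ : Fin n) (w : Fin n → κ)
    (hw : ∀ τ : Fin n → κ, A.mulVec τ = 0 → ∀ l, τ l = w l * τ l₀) :
    Module.finrank κ (LinearMap.ker A.mulVecLin) = 1 := by
  rw [finrank_eq_one_iff']
  have h0 : τ₀ l₀ ≠ 0 := by
    intro h
    apply hτ₀
    funext l
    rw [hw τ₀ hτ₀A l, h, mul_zero]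
    rfl
  refine ⟨⟨τ₀, by rw [LinearMap.mem_ker]; exact hτ₀A⟩, ?_, ?_⟩
  · intro h
    apply hτ₀
    exact congrArg Subtype.val h
  · rintro ⟨τ, hτ⟩
    rw [LinearMap.mem_ker] at hτ
    refine ⟨τ l₀ / τ₀ l₀, ?_⟩
    apply Subtype.ext
    funext l
    show τ l₀ / τ₀ l₀ * τ₀ l = τ l
    rw [hw τ hτ l, hw τ₀ hτ₀A l]
    field_simp

theorem exists_rowspace_of_finrank_ker_eq_one {κ : Type*} [Field κ] {r n : ℕ}
    (A : Matrix (Fin r) (Fin n) κ)
    (h : Module.finrank κ (LinearMap.ker A.mulVecLin) = 1) :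
    ∃ (l₀ : Fin n) (c : Fin n → κ) (Λ : Fin n → Fin r → κ), ∀ l m : Fin n,
      (if m = l then (1 : κ) else 0) - c l * (if m = l₀ then 1 else 0)
        = ∑ i, Λ l i * A i m := by
  classical
  obtain ⟨⟨v, hv⟩, hv0, hspan⟩ := finrank_eq_one_iff'.mp h
  have hv0' : v ≠ 0 := fun h0 => hv0 (Subtype.ext h0)
  obtain ⟨l₀, hl₀⟩ : ∃ l₀, v l₀ ≠ 0 := by
    by_contra hcon
    push_neg at hcon
    exact hv0' (funext hcon)
  let L : Fin r → (Fin n → κ) →ₗ[κ] κ := fun i => (LinearMap.proj i).comp A.mulVecLin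
  have hker : ⨅ i, LinearMap.ker (L i) = LinearMap.ker A.mulVecLin := by
    ext τ
    simp only [Submodule.mem_iInf, LinearMap.mem_ker, L, LinearMap.comp_apply, LinearMap.proj_apply]
    constructor
    · intro hh
      funext i
      exact hh i
    · intro hh i
      rw [hh]
      rfl
  refine ⟨l₀, fun l => v l / v l₀, ?_⟩
  have key : ∀ l, ∃ Λl : Fin r → κ, ∀ m : Fin n,
      (if m = l then (1 : κ) else 0) - v l / v l₀ * (if m = l₀ then 1 else 0)
        = ∑ i, Λl i * A i m := by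
    intro l
    let Kl : (Fin n → κ) →ₗ[κ] κ := LinearMap.proj l - (v l / v l₀) • LinearMap.proj l₀
    have hK : ⨅ i, LinearMap.ker (L i) ≤ LinearMap.ker Kl := by
      rw [hker]
      intro τ hτ
      obtain ⟨c, hc⟩ := hspan ⟨τ, hτ⟩
      have hc' : c • v = τ := congrArg Subtype.val hc
      rw [LinearMap.mem_ker]
      show τ l - v l / v l₀ * τ l₀ = 0
      rw [← hc']
      simp only [Pi.smul_apply, smul_eq_mul]
      field_simp
      ring
    have hmem := mem_span_of_iInf_ker_le_ker hK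
    obtain ⟨Λl, hΛl⟩ := (Submodule.mem_span_range_iff_exists_fun κ).mp hmem
    refine ⟨Λl, fun m => ?_⟩
    have h1 := LinearMap.congr_fun hΛl (Pi.single m 1)
    simp only [LinearMap.coe_sum, Finset.sum_apply, LinearMap.smul_apply, smul_eq_mul, L,
      LinearMap.comp_apply, LinearMap.proj_apply, Matrix.mulVecLin_apply,
      Matrix.mulVec_single_one, Kl, LinearMap.sub_apply, Pi.single_apply] at h1
    have e1 : (if m = l then (1 : κ) else 0) = if l = m then 1 else 0 := by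
      simp only [eq_comm]
    have e2 : (if m = l₀ then (1 : κ) else 0) = if l₀ = m then 1 else 0 := by
      simp only [eq_comm]
    rw [e1, e2, ← h1]
    rfl
  choose Λ hΛ using key
  exact ⟨Λ, hΛ⟩

end Groth.Agent.Lib.Helper23.FF
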