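import Mathlib
import Groth.Prelude.Def_W4bk4goldsch45
import Groth.Agent.Lib.Helper23.FFDer3
import Groth.Agent.Lib.Helper23.FFLin1

/-!
Finiteness of torsion points of bounded order on a curve of genus one (characteristic zero).
-/

set_option autoImplicit false

namespace Groth.Agent.Lib.Helper23.FF

open FunFld
open scoped IntermediateField

universe u v
variable {k : Type u} {K : Type v} [Field k] [Field K] [Algebra k K]

/-- On a curve of genus one in characteristic zero only finitely many places `Q` have
`m (Q - P)` principal. -/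
theorem finite_torsion_places [CharZero k] [IsAlgClosed k] (hK : IsFunctionField k K)
    (hg1 : genus k K = 1) (P : Place k K) (m : ℕ) (hm : 1 ≤ m) :
    {Q : Place k K | Q ≠ P ∧ ∃ x : K, x ≠ 0 ∧
      FunFld.div k x = (m : ℤ) • (Finsupp.single Q (1 : ℤ) - Finsupp.single P (1 : ℤ))}.Finite := by
  classical
  have C := Groth.Agent.Lib.Helper27.FF.core_of hK
  set D : Divisor k K := Finsupp.single P (m : ℤ) with hD
  haveI : FiniteDimensional k (L D) := C.finDimL D
  have hell : Module.finrank k (L D) = m := by
    have h1 := C.ell_eq_of_deg_ge (D := D) (by rw [hD, deg_single' hK, hg1]; push_cast; omega)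
    rw [hD, deg_single' hK, hg1] at h1
    have : (ell D : ℤ) = m := by rw [hD, h1]; push_cast; ring
    exact_mod_cast this
  refine Set.Finite.subset (finite_ramification hK (L D)) ?_
  rintro Q ⟨hQP, x, hx0, hx⟩
  refine ⟨x, ?_, hx0, ?_⟩
  · apply mem_L_of_div_nonneg hK hx0
    rw [hx]
    intro R
    rw [Finsupp.add_apply, hD, Finsupp.smul_apply, Finsupp.sub_apply, smul_eq_mul]
    show (0 : ℤ) ≤ _
    simp only [Finsupp.single_apply]
    have hPQ : P ≠ Q := Ne.symm hQP
    split_ifs with h1 h2 h2 <;> simp_all
  · rw [hell, Groth.Agent.Lib.Helper27.FF.val_eq_exp_neg_div' hK hx0, hx, Finsupp.smul_apply,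
      Finsupp.sub_apply, Finsupp.single_apply, Finsupp.single_apply, if_pos rfl,
      if_neg (Ne.symm hQP), smul_eq_mul, sub_zero, mul_one]

end Groth.Agent.Lib.Helper23.FF
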