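import Mathlib
import Groth.Prelude.Def_W4bk4goldsch45
import Groth.Agent.Lib.Helper23.FFLin1

/-!
Weights of a linear series at two points: the combinatorial step.
-/

set_option autoImplicit false

namespace Groth.Agent.Lib.Helper23.FF

open FunFld
open scoped IntermediateField

universe u v
variable {k : Type u} {K : Type v} [Field k] [Field K] [Algebra k K]

/-- Pigeonhole: if every `s a ≤ B + 1` and the sum over `a ≤ d` is at least `B (d+1) + 2`, then two
distinct indices attain `B + 1`. -/
theorem exists_two_max (s : ℕ → ℕ) (B d : ℕ) (hs : ∀ a ≤ d, s a ≤ B + 1)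
    (hsum : B * (d + 1) + 2 ≤ ∑ a ∈ Finset.range (d + 1), s a) :
    ∃ a a', a < a' ∧ a' ≤ d ∧ s a = B + 1 ∧ s a' = B + 1 := by
  classical
  by_contra hcon
  push Not at hcon
  set F := (Finset.range (d + 1)).filter (fun a => s a = B + 1) with hF
  have hcard : F.card ≤ 1 := by
    rw [Finset.card_le_one]
    intro a ha b hb
    rw [hF, Finset.mem_filter, Finset.mem_range] at ha hb
    by_contra hab
    rcases lt_or_gt_of_ne hab with h | h
    · exact hcon a b h (by omega) ha.2 hb.2
    · exact hcon b a h (by omega) hb.2 ha.2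
  have h1 : ∑ a ∈ Finset.range (d + 1), s a ≤
      ∑ a ∈ Finset.range (d + 1), (B + if s a = B + 1 then 1 else 0) := by
    refine Finset.sum_le_sum (fun a ha => ?_)
    rw [Finset.mem_range] at ha
    have := hs a (by omega)
    split_ifs with h <;> omega
  rw [Finset.sum_add_distrib, Finset.sum_const, Finset.card_range, smul_eq_mul,
    Finset.sum_ite, Finset.sum_const_zero, add_zero, Finset.sum_const, smul_eq_mul, mul_one] at h1
  have h2 : (d + 1) * B = B * (d + 1) := mul_comm _ _
  have h3 : ((Finset.range (d + 1)).filter (fun a => s a = B + 1)).card = F.card := by rw [hF]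
  omega

/-- Intersection of two Riemann–Roch spaces with conditions at distinct places. -/
theorem L_inf_L_le {P Q : Place k K} (hPQ : P ≠ Q) (D : Divisor k K) (a b : ℤ) :
    L (D - Finsupp.single P a) ⊓ L (D - Finsupp.single Q b) ≤
      L (D - Finsupp.single P a - Finsupp.single Q b) := by
  classical
  rintro f ⟨hf1, hf2⟩ R
  have h1 := hf1 R
  have h2 := hf2 R
  simp only [Finsupp.sub_apply, Finsupp.single_apply] at h1 h2 ⊢
  by_cases hRP : P = R
  · have hRQ : ¬ Q = R := fun h => hPQ (hRP.trans h.symm)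
    rw [if_pos hRP, if_neg hRQ, sub_zero]
    rwa [if_pos hRP] at h1
  · rw [if_neg hRP, sub_zero]
    exact h2

/-- A divisor of degree zero has `ℓ ≤ 1`, and is principal when `ℓ ≠ 0`. -/
theorem exists_div_eq_of_deg_zero [IsAlgClosed k] (hK : IsFunctionField k K) {E : Divisor k K}
    (hE : E.deg = 0) {f : K} (hf0 : f ≠ 0) (hf : f ∈ L E) : E + FunFld.div k f = 0 := by
  have C := Groth.Agent.Lib.Helper27.FF.core_of hK
  refine Groth.Agent.Lib.Helper27.FF.eq_zero_of_nonneg_of_deg_eq_zero
    (fun P => by rw [deg_eq_one hK P]) (C.le_div_of_mem_L hf0 hf) ?_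
  rw [Groth.Agent.Lib.Helper27.FF.deg_add, hE, C.deg_div, add_zero]

theorem ell_le_one_of_deg_zero [IsAlgClosed k] (hK : IsFunctionField k K) {E : Divisor k K}
    (hE : E.deg = 0) : ell E ≤ 1 := by
  have C := Groth.Agent.Lib.Helper27.FF.core_of hK
  haveI := C.finDimL E
  by_cases hbot : L E = ⊥
  · unfold ell
    rw [hbot, finrank_bot]
    exact zero_le_one
  · obtain ⟨f, hf, hf0⟩ := Submodule.exists_mem_ne_zero_of_ne_bot hbot
    have h1 := exists_div_eq_of_deg_zero hK hE hf0 hf
    have h2 := Groth.Agent.Lib.Helper27.FF.ell_add_div hK E hf0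
    rw [h1, C.ell_zero] at h2
    exact h2.symm.le

end Groth.Agent.Lib.Helper23.FF
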