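import Mathlib
import Groth.Prelude.Def_W4bk4goldsch45
import Groth.Agent.Lib.Helper23.FFWt1

/-!
Weights of a linear series at two points force a torsion relation.
-/

set_option autoImplicit false

namespace Groth.Agent.Lib.Helper23.FF

open FunFld
open scoped IntermediateField

universe u v
variable {k : Type u} {K : Type v} [Field k] [Field K] [Algebra k K]

/-- The bound `dim V(-aP) + dim V(-bQ) ≤ dim V + 1` for `a + b = deg D`, with a principal divisor
in the case of equality. -/
theorem finrank_inf_add_le [IsAlgClosed k] (hK : IsFunctionField k K) {P Q : Place k K}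
    (hPQ : P ≠ Q) (D : Divisor k K) (V : Submodule k K) (hV : V ≤ L D) (a b : ℕ)
    (hab : D.deg = (a : ℤ) + b) :
    Module.finrank k ↥(V ⊓ L (D - Finsupp.single P (a : ℤ))) +
        Module.finrank k ↥(V ⊓ L (D - Finsupp.single Q (b : ℤ))) ≤ Module.finrank k V + 1 ∧
      (Module.finrank k ↥(V ⊓ L (D - Finsupp.single P (a : ℤ))) +
        Module.finrank k ↥(V ⊓ L (D - Finsupp.single Q (b : ℤ))) = Module.finrank k V + 1 →
        ∃ x : K, x ≠ 0 ∧ FunFld.div k x =
          Finsupp.single P (a : ℤ) + Finsupp.single Q (b : ℤ) - D) := by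
  classical
  have C := Groth.Agent.Lib.Helper27.FF.core_of hK
  haveI : FiniteDimensional k (L D) := C.finDimL D
  haveI : FiniteDimensional k V := Submodule.finiteDimensional_of_le hV
  set A := V ⊓ L (D - Finsupp.single P (a : ℤ)) with hA
  set B := V ⊓ L (D - Finsupp.single Q (b : ℤ)) with hB
  set E : Divisor k K := D - Finsupp.single P (a : ℤ) - Finsupp.single Q (b : ℤ) with hE
  have hEdeg : E.deg = 0 := by
    rw [hE, Groth.Agent.Lib.Helper27.FF.deg_sub, Groth.Agent.Lib.Helper27.FF.deg_sub,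
      deg_single' hK, deg_single' hK, hab]
    ring
  haveI : FiniteDimensional k (L E) := C.finDimL E
  have hAV : A ≤ V := inf_le_left
  have hBV : B ≤ V := inf_le_left
  have hinf : A ⊓ B ≤ L E := by
    refine le_trans ?_ (L_inf_L_le hPQ D a b)
    exact inf_le_inf inf_le_right inf_le_right
  have h1 : Module.finrank k ↥(A ⊓ B) ≤ 1 :=
    (Submodule.finrank_mono hinf).trans (ell_le_one_of_deg_zero hK hEdeg)
  have h2 : Module.finrank k ↥(A ⊔ B) ≤ Module.finrank k V :=
    Submodule.finrank_mono (sup_le hAV hBV)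
  have h3 := Submodule.finrank_sup_add_finrank_inf_eq A B
  refine ⟨by omega, fun heq => ?_⟩
  have h4 : A ⊓ B ≠ ⊥ := by
    intro h
    rw [h, finrank_bot] at h3
    omega
  obtain ⟨f, hf, hf0⟩ := Submodule.exists_mem_ne_zero_of_ne_bot h4
  have h5 := exists_div_eq_of_deg_zero hK hEdeg hf0 (hinf hf)
  refine ⟨f, hf0, ?_⟩
  have h6 : FunFld.div k f = -E := eq_neg_of_add_eq_zero_right h5
  rw [h6, hE]
  abel

/-- **Weights at two points.** A linear series whose weights at `P` and `Q` are large forces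
`m (Q - P)` to be principal for some `1 ≤ m ≤ d`. -/
theorem exists_torsion_of_weights [IsAlgClosed k] (hK : IsFunctionField k K) {P Q : Place k K}
    (hQP : Q ≠ P) (D : Divisor k K) (V : Submodule k K) (d r : ℕ) (hD : D.deg = d)
    (hV : V ≤ L D) (hr : Module.finrank k V = r + 1)
    (hw : (r + 1) * d + 1 ≤
      (∑ n ∈ Finset.range d,
        Module.finrank k ↥(V ⊓ L (D - Finsupp.single P ((n : ℤ) + 1)))) +
      (∑ n ∈ Finset.range d,
        Module.finrank k ↥(V ⊓ L (D - Finsupp.single Q ((n : ℤ) + 1)))) + r) :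
    ∃ m : ℕ, 1 ≤ m ∧ m ≤ d ∧ ∃ y : K, y ≠ 0 ∧
      FunFld.div k y = (m : ℤ) • (Finsupp.single Q (1 : ℤ) - Finsupp.single P (1 : ℤ)) := by
  classical
  have C := Groth.Agent.Lib.Helper27.FF.core_of hK
  set p : Place k K → ℕ → ℕ := fun R a =>
    Module.finrank k ↥(V ⊓ L (D - Finsupp.single R (a : ℤ))) with hp
  have hp0 : ∀ R, p R 0 = r + 1 := by
    intro R
    show Module.finrank k ↥(V ⊓ L (D - Finsupp.single R ((0 : ℕ) : ℤ))) = r + 1
    rw [Nat.cast_zero, Finsupp.single_zero, sub_zero, inf_eq_left.mpr hV, hr]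
  have hpsucc : ∀ R (n : ℕ),
      Module.finrank k ↥(V ⊓ L (D - Finsupp.single R ((n : ℤ) + 1))) = p R (n + 1) := by
    intro R n
    show _ = Module.finrank k ↥(V ⊓ L (D - Finsupp.single R ((n + 1 : ℕ) : ℤ)))
    rw [Nat.cast_succ]
  simp only [hpsucc] at hw
  set s : ℕ → ℕ := fun a => p P a + p Q (d - a) with hs
  have hPQ : P ≠ Q := Ne.symm hQP
  have hbound : ∀ a ≤ d, s a ≤ (r + 1) + 1 := by
    intro a ha
    have := (finrank_inf_add_le hK hPQ D V hV a (d - a)
      (by rw [hD, Nat.cast_sub ha]; ring)).1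
    rw [hr] at this
    exact this
  have hsum : (r + 1) * (d + 1) + 2 ≤ ∑ a ∈ Finset.range (d + 1), s a := by
    have h1 : ∑ a ∈ Finset.range (d + 1), s a =
        ∑ a ∈ Finset.range (d + 1), p P a + ∑ a ∈ Finset.range (d + 1), p Q (d - a) :=
      Finset.sum_add_distrib
    have h2 : ∑ a ∈ Finset.range (d + 1), p Q (d - a) = ∑ a ∈ Finset.range (d + 1), p Q a := by
      have := Finset.sum_range_reflect (fun a => p Q a) (d + 1)
      simpa only [Nat.add_sub_cancel] using this
    rw [h1, h2, Finset.sum_range_succ' (fun a => p P a), Finset.sum_range_succ' (fun a => p Q a),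
      hp0, hp0]
    have : (r + 1) * (d + 1) = (r + 1) * d + (r + 1) := by ring
    omega
  obtain ⟨a, a', haa', ha'd, hsa, hsa'⟩ := exists_two_max s (r + 1) d hbound hsum
  have had : a ≤ d := by omega
  obtain ⟨x, hx0, hx⟩ := (finrank_inf_add_le hK hPQ D V hV a (d - a)
    (by rw [hD, Nat.cast_sub had]; ring)).2 (by rw [hr]; exact hsa)
  obtain ⟨x', hx'0, hx'⟩ := (finrank_inf_add_le hK hPQ D V hV a' (d - a')
    (by rw [hD, Nat.cast_sub ha'd]; ring)).2 (by rw [hr]; exact hsa')
  refine ⟨a' - a, by omega, by omega, x * x'⁻¹, mul_ne_zero hx0 (inv_ne_zero hx'0), ?_⟩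
  rw [C.div_mul hx0 (inv_ne_zero hx'0), C.div_inv, hx, hx']
  ext R
  simp only [Finsupp.add_apply, Finsupp.sub_apply, Finsupp.neg_apply, Finsupp.smul_apply,
    Finsupp.single_apply, smul_eq_mul]
  rw [Nat.cast_sub had, Nat.cast_sub ha'd, Nat.cast_sub haa'.le]
  split_ifs <;> ring

end Groth.Agent.Lib.Helper23.FF
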