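import Mathlib
import Groth.Prelude
import Groth.Agent.Lib.Helper3.QCExact
import Groth.Agent.Lib.Helper3.QCProps
import Groth.Agent.Lib.Helper3.QCSec

/-!
# Ascending chain condition for coherent submodules on a Noetherian scheme (helper23)

Every nonempty set of coherent subobjects of a coherent module on a Noetherian scheme has a maximal
element.
-/

set_option autoImplicit false
set_option linter.unusedSectionVars false
set_option linter.style.haveILetI false
universe u
open CategoryTheory CategoryTheory.Limits AlgebraicGeometry TopologicalSpace Opposite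
open Scheme.Modules

noncomputable section

namespace Groth.Agent.Lib.Helper23.HilbP

open Groth.Agent.Lib.Helper3

variable {X : Scheme.{u}}

/-- the image of the sections of a subobject in the sections of the ambient module. -/
def secImg (Q : X.Modules) (U : X.Opens) (T : Subobject Q) : Submodule Γ(X, U) Γ(Q, U) where
  carrier := Set.range (T.arrow.app U)
  add_mem' := by
    rintro _ _ ⟨a, rfl⟩ ⟨b, rfl⟩
    exact ⟨a + b, map_add _ _ _⟩
  zero_mem' := ⟨0, map_zero _⟩
  smul_mem' := by
    rintro r _ ⟨a, rfl⟩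
    exact ⟨r • a, Scheme.Modules.Hom.app_smul _ r a⟩

lemma mem_secImg (Q : X.Modules) (U : X.Opens) (T : Subobject Q) (y : Γ(Q, U)) :
    y ∈ secImg Q U T ↔ ∃ x : Γ((T : X.Modules), U), T.arrow.app U x = y := Iff.rfl

lemma secImg_mono (Q : X.Modules) (U : X.Opens) {T T' : Subobject Q} (h : T ≤ T') :
    secImg Q U T ≤ secImg Q U T' := by
  rintro y ⟨x, rfl⟩
  refine ⟨(Subobject.ofLE T T' h).app U x, ?_⟩
  have : Subobject.ofLE T T' h ≫ T'.arrow = T.arrow := Subobject.ofLE_arrow h
  change T'.arrow.app U ((Subobject.ofLE T T' h).app U x) = T.arrow.app U x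
  rw [← this]
  rfl

/-- two comparable coherent subobjects with the same section images over an affine open cover are
equal. -/
theorem eq_of_secImg_eq (Q : X.Modules) {T T' : Subobject Q} (h : T ≤ T')
    (hT' : (T' : X.Modules).IsQuasicoherent)
    (hcov : ∀ x : X, ∃ (U : X.Opens) (_ : IsAffineOpen U), x ∈ U ∧ secImg Q U T' ≤ secImg Q U T) :
    T = T' := by
  haveI := hT'
  have hcomp : Subobject.ofLE T T' h ≫ T'.arrow = T.arrow := Subobject.ofLE_arrow h
  haveI : Epi (Subobject.ofLE T T' h) := by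
    apply QCExact.epi_of_surjective_on_affine_cover
    intro x
    obtain ⟨U, hU, hxU, hle⟩ := hcov x
    refine ⟨U, hU, hxU, ?_⟩
    intro y
    have hy : T'.arrow.app U y ∈ secImg Q U T' := ⟨y, rfl⟩
    obtain ⟨x', hx'⟩ := hle hy
    refine ⟨x', ?_⟩
    have hinj := (QCProps.mono_iff_app_injective T'.arrow).1 inferInstance U
    apply hinj
    change T'.arrow.app U ((Subobject.ofLE T T' h).app U x') = T'.arrow.app U y
    have : T'.arrow.app U ((Subobject.ofLE T T' h).app U x') = T.arrow.app U x' := by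
      rw [← hcomp]; rfl
    rw [this]
    exact hx'
  haveI : IsIso (Subobject.ofLE T T' h) := isIso_of_mono_of_epi _
  exact Subobject.eq_of_comm (asIso (Subobject.ofLE T T' h)) hcomp

/-- **ACC**: on a Noetherian scheme, every nonempty set of quasi-coherent subobjects of a coherent
module has a maximal element. -/
theorem exists_maximal_sub [IsNoetherian X] (Q : X.Modules) (hQ : Coh.IsCoh Q)
    (S : Set (Subobject Q)) (hS : ∀ T ∈ S, (T : X.Modules).IsQuasicoherent) (hne : S.Nonempty) :
    ∃ T ∈ S, ∀ T' ∈ S, T ≤ T' → T' = T := by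
  haveI := hQ.1
  haveI := hQ.2
  obtain ⟨ι, hι, V, hV, -, hcov⟩ :=
    QCSec.exists_finite_affine_cover (⊤ : X.Opens) (by
      show IsCompact (Set.univ : Set X)
      exact isCompact_univ)
  haveI := hι
  haveI : ∀ i, IsNoetherian Γ(X, V i) Γ(Q, V i) := fun i => by
    haveI : IsNoetherianRing Γ(X, V i) := IsLocallyNoetherian.component_noetherian ⟨V i, hV i⟩
    haveI : Module.Finite Γ(X, V i) Γ(Q, V i) := QCProps.finite_sections Q (hV i)
    exact isNoetherian_of_isNoetherianRing_of_finite _ _
  let Φ : Subobject Q → ∀ i, (Submodule Γ(X, V i) Γ(Q, V i))ᵒᵈ :=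
    fun T i => OrderDual.toDual (secImg Q (V i) T)
  have hwf : WellFounded (fun a b : ∀ i, (Submodule Γ(X, V i) Γ(Q, V i))ᵒᵈ => a < b) :=
    wellFounded_lt
  obtain ⟨a, ⟨T, hTS, rfl⟩, hmin⟩ := hwf.has_min (Φ '' S) (hne.image Φ)
  refine ⟨T, hTS, fun T' hT'S hle => ?_⟩
  have h1 : Φ T' ≤ Φ T := fun i => secImg_mono Q (V i) hle
  have h2 : ¬ Φ T' < Φ T := hmin (Φ T') ⟨T', hT'S, rfl⟩
  have h3 : Φ T ≤ Φ T' := by
    by_contra hcon
    exact h2 (lt_of_le_not_ge h1 hcon)
  symm
  apply eq_of_secImg_eq Q hle (hS T' hT'S)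
  intro x
  obtain ⟨i, hi⟩ := Opens.mem_iSup.mp (hcov (show x ∈ (⊤ : X.Opens) from trivial))
  exact ⟨V i, hV i, hi, h3 i⟩

end Groth.Agent.Lib.Helper23.HilbP
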