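import Mathlib
import Groth.Prelude
import Groth.Agent.Lib.Helper23.HilbPW
import Groth.Agent.Lib.Helper23.HilbPS

/-!
# The maximal submodule of smaller dimension and the saturation of a submodule (helper23)
-/

set_option autoImplicit false
set_option linter.unusedSectionVars false
set_option linter.style.haveILetI false
universe u
open CategoryTheory CategoryTheory.Limits AlgebraicGeometry Polynomial

namespace Groth.Agent.Lib.Helper23.HilbP

open Groth.Agent.Lib.Helper17 Groth.Agent.Lib.Helper17.DevBasic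

variable (k : Type u) [Field k] {X : Scheme.{u}} [X.Over (Spec (CommRingCat.of k))]
  [IsProper (X ↘ Spec (CommRingCat.of k))]

/-- the support has dimension `< d` iff the Hilbert polynomial has no terms of degree `≥ d`. -/
theorem dim_lt_iff {L : X.Modules} (hL : CohB1.IsAmple L) (M : X.Modules) (hM : Coh.IsCoh M)
    {Q : ℚ[X]} (hQ : ShStab.IsHilbPoly k X L M Q) (d : ℕ) :
    topologicalKrullDim (CohB1.support M) < (d : WithBot ℕ∞) ↔ ∀ j, d ≤ j → Q.coeff j = 0 := by
  constructor
  · intro h j hj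
    exact coeff_eq_zero_of_dim_lt k hL M hM hQ d h j hj
  · intro h
    by_cases hz : IsZero M
    · rw [support_eq_empty_of_isZero hz, topologicalKrullDim_empty]
      exact WithBot.bot_lt_coe _
    · rw [dim_eq_natDegree k hL M hM hz hQ]
      have hlc := leadingCoeff_pos k hL M hM hz hQ
      have : Q.natDegree < d := by
        by_contra hcon
        push_neg at hcon
        have := h Q.natDegree hcon
        rw [coeff_natDegree] at this
        rw [this] at hlc
        exact lt_irrefl _ hlc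
      exact_mod_cast this

include k in
/-- the maximal coherent subobject of dimension `< d`. -/
theorem exists_max_torsion (Q : X.Modules) (hQ : Coh.IsCoh Q) (d : ℕ) :
    ∃ T : Subobject Q, Coh.IsCoh (T : X.Modules) ∧
      topologicalKrullDim (CohB1.support (T : X.Modules)) < (d : WithBot ℕ∞) ∧
      ∀ T' : Subobject Q, Coh.IsCoh (T' : X.Modules) →
        topologicalKrullDim (CohB1.support (T' : X.Modules)) < (d : WithBot ℕ∞) → T ≤ T' →
          T' = T := by
  haveI := isNoetherian_of_isProper k X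
  let S : Set (Subobject Q) := {T | Coh.IsCoh (T : X.Modules) ∧
    topologicalKrullDim (CohB1.support (T : X.Modules)) < (d : WithBot ℕ∞)}
  have hne : S.Nonempty := by
    refine ⟨⊥, ?_, ?_⟩
    · exact isCoh_of_isZero (IsZero.of_iso (isZero_zero _) Subobject.botCoeIsoZero)
    · rw [support_eq_empty_of_isZero (IsZero.of_iso (isZero_zero _) Subobject.botCoeIsoZero),
        topologicalKrullDim_empty]
      exact WithBot.bot_lt_coe _
  obtain ⟨T, hTS, hmax⟩ := exists_maximal_sub Q hQ S (fun T hT => hT.1.1) hne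
  exact ⟨T, hTS.1, hTS.2, fun T' h1 h2 hle => hmax T' ⟨h1, h2⟩ hle⟩

include k in
/-- the quotient by the maximal subobject of dimension `< d` is pure of dimension `d` (or zero). -/
theorem isPure_cokernel_max_torsion {L : X.Modules} (hL : CohB1.IsAmple L) (Q : X.Modules)
    (hQ : Coh.IsCoh Q) (d : ℕ)
    (hdQ : topologicalKrullDim (CohB1.support Q) ≤ (d : WithBot ℕ∞)) (T : Subobject Q)
    (hT : Coh.IsCoh (T : X.Modules))
    (hdT : topologicalKrullDim (CohB1.support (T : X.Modules)) < (d : WithBot ℕ∞))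
    (hmax : ∀ T' : Subobject Q, Coh.IsCoh (T' : X.Modules) →
        topologicalKrullDim (CohB1.support (T' : X.Modules)) < (d : WithBot ℕ∞) → T ≤ T' →
          T' = T) :
    ShStab.IsPure X (cokernel T.arrow) d := by
  haveI := isNoetherian_of_isProper k X
  intro R τ hτ hR hR0
  haveI := hτ
  have hC : Coh.IsCoh (cokernel T.arrow) := isCoh_cokernel _ hT.1 hQ
  have hdR : topologicalKrullDim (CohB1.support R) ≤ (d : WithBot ℕ∞) :=
    (topologicalKrullDim_mono ((support_subset_of_mono τ).trans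
      (support_subset_of_epi (cokernel.π T.arrow)))).trans hdQ
  rcases hdR.lt_or_eq with hlt | heq
  swap
  · exact heq
  exfalso
  obtain ⟨pQ, hpQ⟩ := exists_isHilbPoly k X hL Q hQ
  obtain ⟨pT, hpT⟩ := exists_isHilbPoly k X hL _ hT
  obtain ⟨pR, hpR⟩ := exists_isHilbPoly k X hL R hR
  have hpC : ShStab.IsHilbPoly k X L (cokernel T.arrow) (pQ - pT) :=
    isHilbPoly_X₃ k hL.1 _ (DevKey.shortExact_of_mono T.arrow) hT hQ hC hpT hpQ
  have hD : Coh.IsCoh (cokernel τ) := isCoh_cokernel τ hR.1 hC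
  have hpD : ShStab.IsHilbPoly k X L (cokernel τ) (pQ - pT - pR) :=
    isHilbPoly_X₃ k hL.1 _ (DevKey.shortExact_of_mono τ) hR hC hD hpR hpC
  let ρ : Q ⟶ cokernel τ := cokernel.π T.arrow ≫ cokernel.π τ
  have hK : Coh.IsCoh (kernel ρ) := isCoh_kernel ρ hQ hD.1
  have hpK : ShStab.IsHilbPoly k X L (kernel ρ) (pQ - (pQ - pT - pR)) :=
    isHilbPoly_X₁ k hL.1 _ (DevKey.shortExact_of_epi ρ) hK hQ hD hpQ hpD
  have e1 : pQ - (pQ - pT - pR) = pT + pR := by ring
  rw [e1] at hpK
  let T' : Subobject Q := Subobject.mk (kernel.ι ρ)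
  have hiso : (T' : X.Modules) ≅ kernel ρ := Subobject.underlyingIso (kernel.ι ρ)
  have hT'coh : Coh.IsCoh (T' : X.Modules) := isCoh_of_iso hiso.symm hK
  have hpT' : ShStab.IsHilbPoly k X L (T' : X.Modules) (pT + pR) :=
    isHilbPoly_of_iso k hiso.symm hpK
  have hdT' : topologicalKrullDim (CohB1.support (T' : X.Modules)) < (d : WithBot ℕ∞) := by
    rw [dim_lt_iff k hL _ hT'coh hpT' d]
    intro j hj
    rw [coeff_add, coeff_eq_zero_of_dim_lt k hL _ hT hpT d hdT j hj,
      coeff_eq_zero_of_dim_lt k hL R hR hpR d hlt j hj, add_zero]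
  have hle : T ≤ T' := by
    have hz : T.arrow ≫ ρ = 0 := by
      show T.arrow ≫ cokernel.π T.arrow ≫ cokernel.π τ = 0
      rw [← Category.assoc, cokernel.condition, Limits.zero_comp]
    exact Subobject.le_mk_of_comm (kernel.lift ρ T.arrow hz) (kernel.lift_ι _ _ _)
  have heq := hmax T' hT'coh hdT' hle
  rw [heq] at hpT'
  have : pT + pR = pT := isHilbPoly_unique k hpT' hpT
  have hpR0 : pR = 0 := by
    have := congrArg (fun x => x - pT) this
    simpa using this
  have hlc := leadingCoeff_pos k hL R hR hR0 hpR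
  rw [hpR0, leadingCoeff_zero] at hlc
  exact lt_irrefl _ hlc

/-- the saturation of a coherent submodule `F` of `E` (where `dim Supp E ≤ d`): a coherent submodule
`F' ⊇ F` with `E/F'` pure of dimension `d` (or zero) and `P(F') = P(F) + (terms of degree < d)`. -/
theorem exists_saturation {L : X.Modules} (hL : CohB1.IsAmple L) {E : X.Modules} (hE : Coh.IsCoh E)
    {d : ℕ} (hdE : topologicalKrullDim (CohB1.support E) ≤ (d : WithBot ℕ∞)) {F : X.Modules}
    (ι : F ⟶ E) [Mono ι] (hF : Coh.IsCoh F) :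
    ∃ (F' : X.Modules) (ι' : F' ⟶ E) (j : F ⟶ F') (pT : ℚ[X]), Mono ι' ∧ j ≫ ι' = ι ∧
      Coh.IsCoh F' ∧ ShStab.IsPure X (cokernel ι') d ∧
      (∀ pF, ShStab.IsHilbPoly k X L F pF → ShStab.IsHilbPoly k X L F' (pF + pT)) ∧
      (∀ j, d ≤ j → pT.coeff j = 0) ∧ (∃ N : ℕ, ∀ m : ℕ, N ≤ m → 0 ≤ pT.eval (m : ℚ)) := by
  haveI := isNoetherian_of_isProper k X
  have hQ : Coh.IsCoh (cokernel ι) := isCoh_cokernel ι hF.1 hE
  have hdQ : topologicalKrullDim (CohB1.support (cokernel ι)) ≤ (d : WithBot ℕ∞) :=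
    (topologicalKrullDim_mono (support_subset_of_epi (cokernel.π ι))).trans hdE
  obtain ⟨T, hT, hdT, hmax⟩ := exists_max_torsion k (cokernel ι) hQ d
  have hpure := isPure_cokernel_max_torsion k hL (cokernel ι) hQ d hdQ T hT hdT hmax
  have hC : Coh.IsCoh (cokernel T.arrow) := isCoh_cokernel _ hT.1 hQ
  obtain ⟨pT, hpT⟩ := exists_isHilbPoly k X hL _ hT
  obtain ⟨pE, hpE⟩ := exists_isHilbPoly k X hL E hE
  let ρ : E ⟶ cokernel T.arrow := cokernel.π ι ≫ cokernel.π T.arrow
  have hK : Coh.IsCoh (kernel ρ) := isCoh_kernel ρ hE hC.1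
  have hz : ι ≫ ρ = 0 := by
    show ι ≫ cokernel.π ι ≫ cokernel.π T.arrow = 0
    rw [← Category.assoc, cokernel.condition, Limits.zero_comp]
  refine ⟨kernel ρ, kernel.ι ρ, kernel.lift ρ ι hz, pT, inferInstance, kernel.lift_ι _ _ _, hK,
    ?_, ?_, ?_, ?_⟩
  · exact isPure_of_mono hpure (Abelian.factorThruCoimage ρ)
  · intro pF hpF
    have hpQ : ShStab.IsHilbPoly k X L (cokernel ι) (pE - pF) :=
      isHilbPoly_X₃ k hL.1 _ (DevKey.shortExact_of_mono ι) hF hE hQ hpF hpE
    have hpC : ShStab.IsHilbPoly k X L (cokernel T.arrow) (pE - pF - pT) :=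
      isHilbPoly_X₃ k hL.1 _ (DevKey.shortExact_of_mono T.arrow) hT hQ hC hpT hpQ
    have hpK : ShStab.IsHilbPoly k X L (kernel ρ) (pE - (pE - pF - pT)) :=
      isHilbPoly_X₁ k hL.1 _ (DevKey.shortExact_of_epi ρ) hK hE hC hpE hpC
    have e1 : pE - (pE - pF - pT) = pF + pT := by ring
    rw [e1] at hpK
    exact hpK
  · intro j hj
    exact coeff_eq_zero_of_dim_lt k hL _ hT hpT d hdT j hj
  · obtain ⟨N, hN⟩ := eventually_nonneg k X hL _ hT
    exact ⟨N, fun m hm => by rw [← hpT m]; exact_mod_cast hN m hm⟩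

end Groth.Agent.Lib.Helper23.HilbP
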