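import Mathlib
import Groth.Prelude.Def_StabCat
import Groth.Agent.Lib.Helper23.SubCorr2

/-!
# Concatenating a filtration of a subobject with a filtration of the quotient (helper23)
-/

set_option autoImplicit false
set_option linter.style.haveILetI false
universe v u
open CategoryTheory CategoryTheory.Limits Polynomial

noncomputable section

namespace Groth.Agent.Lib.Helper23.SubCorr

variable {C : Type u} [Category.{v} C] [Abelian C]

section MapMono

variable {G E : C} (ι : G ⟶ E) [Mono ι]

/-- the image of a subobject under a monomorphism. -/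
abbrev img (A : Subobject G) : Subobject E := (Subobject.map ι).obj A

lemma img_eq_mk (A : Subobject G) : img ι A = Subobject.mk (A.arrow ≫ ι) := by
  conv_lhs => rw [← Subobject.mk_arrow A]
  rfl

lemma img_strictMono : StrictMono (img ι) :=
  (Subobject.map ι).monotone.strictMono_of_injective (Subobject.map_obj_injective ι)

lemma img_le {A B : Subobject G} (h : A ≤ B) : img ι A ≤ img ι B :=
  (img_strictMono ι).monotone h

/-- the image is isomorphic to the subobject. -/
def imgIso (A : Subobject G) : (img ι A : C) ≅ (A : C) :=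
  Subobject.isoOfEq _ _ (img_eq_mk ι A) ≪≫ Subobject.underlyingIso (A.arrow ≫ ι)

lemma imgIso_hom_arrow (A : Subobject G) :
    (imgIso ι A).hom ≫ A.arrow ≫ ι = (img ι A).arrow := by
  simp [imgIso]

lemma ofLE_imgIso {A B : Subobject G} (h : A ≤ B) :
    Subobject.ofLE (img ι A) (img ι B) (img_le ι h) ≫ (imgIso ι B).hom =
      (imgIso ι A).hom ≫ Subobject.ofLE A B h := by
  rw [← cancel_mono (B.arrow ≫ ι)]
  rw [Category.assoc, imgIso_hom_arrow, Subobject.ofLE_arrow, Category.assoc,
    ← Category.assoc (Subobject.ofLE A B h), Subobject.ofLE_arrow, imgIso_hom_arrow]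

/-- `ι(B) / ι(A) ≅ B / A`. -/
def imgCokerIso {A B : Subobject G} (h : A ≤ B) :
    cokernel (Subobject.ofLE (img ι A) (img ι B) (img_le ι h)) ≅
      cokernel (Subobject.ofLE A B h) :=
  cokernel.mapIso _ _ (imgIso ι A) (imgIso ι B) (ofLE_imgIso ι h)

lemma img_bot : img ι ⊥ = ⊥ := Subobject.map_bot ι

lemma img_top_eq_pre_bot : img ι ⊤ = pre (cokernel.π ι) ⊥ := by
  have h0 : img ι ⊤ = Subobject.mk ι := Subobject.map_top ι
  rw [h0]
  symm
  refine Subobject.eq_mk_of_comm ι
    (preBotIso (cokernel.π ι) ≪≫ (asIso (Abelian.factorThruImage ι)).symm) ?_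
  have h1 : inv (Abelian.factorThruImage ι) ≫ ι = kernel.ι (cokernel.π ι) := by
    rw [IsIso.inv_comp_eq]
    exact (Abelian.image.fac ι).symm
  simp only [Iso.trans_hom, Iso.symm_hom, asIso_inv, Category.assoc, h1]
  simp [preBotIso]

variable (sG : LTSeries (Subobject G)) (sQ : LTSeries (Subobject (cokernel ι)))
  (hG : sG.last = ⊤) (hQ : sQ.head = ⊥)

/-- the image chain. -/
def mapG : LTSeries (Subobject E) := sG.map (img ι) (img_strictMono ι)

/-- the preimage chain. -/
def mapQ : LTSeries (Subobject E) := sQ.map (pre (cokernel.π ι))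
  (Groth.Agent.Lib.Helper25.SerreNoeth.pullback_strictMono_of_epi (cokernel.π ι))

include hG hQ in
lemma conn : (mapG ι sG).last = (mapQ ι sQ).head := by
  unfold mapG mapQ
  rw [LTSeries.last_map, LTSeries.head_map, hG, hQ, img_top_eq_pre_bot]

/-- the concatenated chain on `E`. -/
def concat : LTSeries (Subobject E) :=
  RelSeries.smash (mapG ι sG) (mapQ ι sQ) (conn ι sG sQ hG hQ)

lemma concat_length : (concat ι sG sQ hG hQ).length = sG.length + sQ.length := rfl

lemma concat_head (h0 : sG.head = ⊥) : (concat ι sG sQ hG hQ).head = ⊥ := by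
  unfold concat
  rw [RelSeries.head_smash]
  unfold mapG
  rw [LTSeries.head_map, h0, img_bot]

lemma concat_last (h1 : sQ.last = ⊤) : (concat ι sG sQ hG hQ).last = ⊤ := by
  unfold concat
  rw [RelSeries.last_smash]
  unfold mapQ
  rw [LTSeries.last_map, h1, pre_top]

/-- the factors coming from the subobject. -/
def concatFactorLeft (i : Fin sG.length) :
    StabCat.factor (concat ι sG sQ hG hQ) (Fin.castAdd sQ.length i) ≅ StabCat.factor sG i :=
  cokerOfLEIso
    (RelSeries.smash_castAdd (p := mapG ι sG) (q := mapQ ι sQ) (conn ι sG sQ hG hQ) i)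
    (RelSeries.smash_succ_castAdd (p := mapG ι sG) (q := mapQ ι sQ) (conn ι sG sQ hG hQ) i) _
    (img_le ι (le_of_lt (sG.step i))) ≪≫ imgCokerIso ι (le_of_lt (sG.step i))

/-- the factors coming from the quotient. -/
def concatFactorRight (j : Fin sQ.length) :
    StabCat.factor (concat ι sG sQ hG hQ) (Fin.natAdd sG.length j) ≅ StabCat.factor sQ j :=
  cokerOfLEIso
    (RelSeries.smash_natAdd (p := mapG ι sG) (q := mapQ ι sQ) (conn ι sG sQ hG hQ) j)
    (RelSeries.smash_succ_natAdd (p := mapG ι sG) (q := mapQ ι sQ) (conn ι sG sQ hG hQ) j) _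
    (pre_mono (cokernel.π ι) (le_of_lt (sQ.step j))) ≪≫
      preCokerIso (cokernel.π ι) (le_of_lt (sQ.step j))

theorem isJHWith_concat (St : C → Prop) (HP : C → ℚ[X] → Prop) (d : ℕ)
    (hSt : ∀ {M N : C}, (M ≅ N) → St M → St N)
    (hHP : ∀ {M N : C} (P : ℚ[X]), (M ≅ N) → HP N P → HP M P)
    (hsG : StabCat.IsJHWith St HP d G sG) (hsQ : StabCat.IsJHWith St HP d (cokernel ι) sQ)
    (hGE : ∀ (i : Fin sG.length) (p q : ℚ[X]), HP (StabCat.factor sG i) p → HP E q →
      StabCat.RedEq d p q)
    (hQE : ∀ (i : Fin sQ.length) (p q : ℚ[X]), HP (StabCat.factor sQ i) p → HP E q →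
      StabCat.RedEq d p q) :
    StabCat.IsJHWith St HP d E (concat ι sG sQ hsG.2.1 hsQ.1) := by
  refine ⟨concat_head ι sG sQ _ _ hsG.1, concat_last ι sG sQ _ _ hsQ.2.1, ?_⟩
  intro i
  have key : ∀ i : Fin (sG.length + sQ.length),
      St (StabCat.factor (concat ι sG sQ hsG.2.1 hsQ.1) i) ∧
        ∀ p q, HP (StabCat.factor (concat ι sG sQ hsG.2.1 hsQ.1) i) p → HP E q →
          StabCat.RedEq d p q := by
    intro i
    induction i using Fin.addCases with
    | left i =>
      have e := concatFactorLeft ι sG sQ hsG.2.1 hsQ.1 i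
      exact ⟨hSt e.symm (hsG.2.2 i).1, fun p q hp hq => hGE i p q (hHP p e.symm hp) hq⟩
    | right j =>
      have e := concatFactorRight ι sG sQ hsG.2.1 hsQ.1 j
      exact ⟨hSt e.symm (hsQ.2.2 j).1, fun p q hp hq => hQE j p q (hHP p e.symm hp) hq⟩
  exact key i

end MapMono

end Groth.Agent.Lib.Helper23.SubCorr
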