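import Mathlib
import Groth.Prelude
import Groth.Agent.Lib.Helper23.HilbJHe
import Groth.Agent.Lib.Helper23.HilbJH
import Groth.Agent.Lib.Helper23.SubCorr5

/-!
# Jordan–Hölder factors of sub- and quotient modules with the same reduced Hilbert polynomial
(helper23)
-/

set_option autoImplicit false
set_option linter.unusedSectionVars false
set_option linter.style.haveILetI false
universe u
open CategoryTheory CategoryTheory.Limits AlgebraicGeometry Polynomial

noncomputable section

namespace Groth.Agent.Lib.Helper23.HilbP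

open Groth.Agent.Lib.Helper17 Groth.Agent.Lib.Helper17.DevBasic Groth.Agent.Lib.Helper23.SubCorr

variable (k : Type u) [Field k] {X : Scheme.{u}} [X.Over (Spec (CommRingCat.of k))]
  [IsProper (X ↘ Spec (CommRingCat.of k))] {L : X.Modules} {d : ℕ} {E : X.Modules}
  (hL : CohB1.IsAmple L)

include hL in
/-- Jordan–Hölder uniqueness, factor by factor. -/
theorem jh_factors_unique (hEs : ShStab.IsSemistable k X L E d)
    (s t : LTSeries (Subobject E)) (hs : ShStab.IsJHFiltration k X L E d s)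
    (ht : ShStab.IsJHFiltration k X L E d t) :
    ∃ f : Fin s.length ≃ Fin t.length,
      ∀ i : Fin s.length, Nonempty (StabCat.factor t (f i) ≅ StabCat.factor s i) := by
  obtain ⟨pE, hpE⟩ := exists_isHilbPoly k X hL E hEs.1
  have aE := alpha_pos_of_isSemistable k hL hEs hpE
  have hE' : InAp k L d pE E := Or.inr ⟨hEs, fun p hp => by
    rw [isHilbPoly_unique k hp hpE]; rfl⟩
  letI := jhLat k L d pE E hL aE hE'
  let S := toCS k hL aE hE' hpE s hs
  let T := toCS k hL aE hE' hpE t ht
  have hb : S.head = T.head := Subtype.ext (hs.1.trans ht.1.symm)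
  have hl : S.last = T.last := Subtype.ext (hs.2.1.trans ht.2.1.symm)
  obtain ⟨f, hf⟩ := CompositionSeries.jordan_holder S T hb hl
  refine ⟨f, ?_⟩
  intro i
  obtain ⟨e⟩ := nonempty_iso_of_jhIso k L d pE E hL aE hE' (hf i)
  exact ⟨(QfIso (le_of_lt (t.step (f i)))).symm ≪≫ e.symm ≪≫ QfIso (le_of_lt (s.step i))⟩

include hL in
/-- Jordan–Hölder filtrations exist in the category, with factors of the given reduced Hilbert
polynomial. -/
theorem exists_isJH_of_inAp {pE : ℚ[X]} (aE : 0 < StabCat.alpha d pE) {M : X.Modules}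
    (hM : InAp k L d pE M) :
    ∃ s : LTSeries (Subobject M), ShStab.IsJHFiltration k X L M d s ∧
      ∀ (i : Fin s.length) (p : ℚ[X]), ShStab.IsHilbPoly k X L (StabCat.factor s i) p →
        StabCat.RedEq d p pE := by
  rcases hM with hM | hM
  · exact ⟨trivSeries _, isJHWith_trivSeries _ _ d hM, fun i => i.elim0⟩
  · obtain ⟨pM, hpM⟩ := exists_isHilbPoly k X hL M hM.1.1
    obtain ⟨n, -, hn⟩ := exists_nat_alpha_of_pure k hL hM.1.2.2.1 (𝟙 M) hM.1.1 hM.1.2.1 hpM
    obtain ⟨s, hs⟩ := exists_isJHFiltration k hL n M hM.1 pM hpM hn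
    have aM := alpha_pos_of_isSemistable k hL hM.1 hpM
    exact ⟨s, hs, fun i p hp => redEq_trans aM ((hs.2.2 i).2 p pM hp hpM) (hM.2 pM hpM)⟩

include hL in
/-- the Jordan–Hölder factors of a submodule with the same reduced Hilbert polynomial, and of the
quotient, occur among the Jordan–Hölder factors of the module. -/
theorem exists_jh_sub_quot (hE : ShStab.IsSemistable k X L E d)
    (sE : LTSeries (Subobject E)) (hsE : ShStab.IsJHFiltration k X L E d sE)
    {G : X.Modules} (ι : G ⟶ E) [Mono ι] (hG : Coh.IsCoh G) {pG pE : ℚ[X]}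
    (hpG : ShStab.IsHilbPoly k X L G pG) (hpE : ShStab.IsHilbPoly k X L E pE)
    (hred : StabCat.RedEq d pG pE) :
    ∃ (sG : LTSeries (Subobject G)) (sQ : LTSeries (Subobject (cokernel ι))),
      ShStab.IsJHFiltration k X L G d sG ∧ ShStab.IsJHFiltration k X L (cokernel ι) d sQ ∧
      (∀ i : Fin sG.length, ∃ j : Fin sE.length,
        Nonempty (StabCat.factor sG i ≅ StabCat.factor sE j)) ∧
      (∀ i : Fin sQ.length, ∃ j : Fin sE.length,
        Nonempty (StabCat.factor sQ i ≅ StabCat.factor sE j)) := by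
  classical
  haveI := isNoetherian_of_isProper k X
  have aE := alpha_pos_of_isSemistable k hL hE hpE
  have hEin : InAp k L d pE E := Or.inr ⟨hE, fun p hp => by
    rw [isHilbPoly_unique k hp hpE]; rfl⟩
  have hGin : InAp k L d pE G := by
    by_cases hz : IsZero G
    · exact Or.inl hz
    · exact Or.inr ⟨isSemistable_of_sub_redEq k hL hE ι hG hz hpG hpE hred, fun p hp => by
        rw [isHilbPoly_unique k hp hpG]; exact hred⟩
  have hQin : InAp k L d pE (cokernel ι) := (inAp_kernel_cokernel k hL aE ι hGin hEin).2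
  obtain ⟨sG, hsG, hsGp⟩ := exists_isJH_of_inAp k hL aE hGin
  obtain ⟨sQ, hsQ, hsQp⟩ := exists_isJH_of_inAp k hL aE hQin
  have hs' : ShStab.IsJHFiltration k X L E d (concat ι sG sQ hsG.2.1 hsQ.1) :=
    isJHWith_concat ι sG sQ (fun G => ShStab.IsStable k X L G d) (ShStab.IsHilbPoly k X L) d
      (fun e h => isStable_of_iso k e h) (fun P e h => isHilbPoly_of_iso k e.symm h) hsG hsQ
      (fun i p q hp hq => by rw [isHilbPoly_unique k hq hpE]; exact hsGp i p hp)
      (fun i p q hp hq => by rw [isHilbPoly_unique k hq hpE]; exact hsQp i p hp)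
  obtain ⟨f, hf⟩ := jh_factors_unique k hL hE _ sE hs' hsE
  refine ⟨sG, sQ, hsG, hsQ, ?_, ?_⟩
  · intro i
    obtain ⟨e⟩ := hf (Fin.castAdd sQ.length i)
    exact ⟨f (Fin.castAdd sQ.length i),
      ⟨(concatFactorLeft ι sG sQ hsG.2.1 hsQ.1 i).symm ≪≫ e.symm⟩⟩
  · intro i
    obtain ⟨e⟩ := hf (Fin.natAdd sG.length i)
    exact ⟨f (Fin.natAdd sG.length i),
      ⟨(concatFactorRight ι sG sQ hsG.2.1 hsQ.1 i).symm ≪≫ e.symm⟩⟩

end Groth.Agent.Lib.Helper23.HilbP
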