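import Mathlib
import Groth.Prelude
import Groth.Agent.Lib.Helper23.JHLocA
import Groth.Agent.Lib.Helper2.Aff.PerfAff
import Groth.Agent.Lib.Helper13.LocNull
import Groth.Agent.Lib.Helper13.PerfLocal
import Groth.Agent.Lib.Helper13.PerfFree
import Groth.Agent.Lib.Helper17.LocFreeOps

/-!
# Local freeness of the graded object of sub- and quotient modules (helper23)
-/

set_option autoImplicit false
set_option linter.unusedSectionVars false
set_option linter.style.haveILetI false
universe u
open CategoryTheory CategoryTheory.Limits AlgebraicGeometry Polynomial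

noncomputable section

namespace Groth.Agent.Lib.Helper23.JHLoc

open Groth.Agent.Lib.Helper17 Groth.Agent.Lib.Helper17.DevBasic Groth.Agent.Lib.Helper23.SubCorr
  Groth.Agent.Lib.Helper23.HilbP Groth.Agent.Lib.Helper13 AlgebraicGeometry.Scheme.Modules

section General

variable {Y : Scheme.{u}}

/-- a finite coproduct of finite locally free modules is finite locally free. -/
theorem isFinLocFree_sigma : ∀ (m : ℕ) (A : Fin m → Y.Modules),
    (∀ i, FlatMod.IsFinLocFree (A i)) → FlatMod.IsFinLocFree (∐ A)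
  | 0, A, _ => PerfLocal.isFinLocFree_of_isZero (by
      rw [IsZero.iff_id_eq_zero]
      apply Sigma.hom_ext
      intro i
      exact i.elim0)
  | m + 1, A, h => by
      have ih := isFinLocFree_sigma m (fun i => A i.succ) (fun i => h i.succ)
      have t₁ := coproductIsCoproduct (fun i : Fin m => A i.succ)
      have t₂ := BinaryBiproduct.isColimit (A 0) (∐ fun i : Fin m => A i.succ)
      have e : ∐ A ≅ (A 0 ⊞ ∐ fun i : Fin m => A i.succ : Y.Modules) :=
        (coproductIsCoproduct A).coconePointUniqueUpToIso (extendCofanIsColimit A t₁ t₂)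
      exact LocFreeOps.isFinLocFree_of_iso e.symm (LocFreeOps.isFinLocFree_biprod _ _ (h 0) ih)

/-- restriction to a smaller open preserves finite local freeness. -/
lemma isFinLocFree_restrict_of_le (M : Y.Modules) {U V : Y.Opens} (h : V ≤ U)
    (hU : FlatMod.IsFinLocFree (M.restrict U.ι)) : FlatMod.IsFinLocFree (M.restrict V.ι) := by
  have e : restrictFunctor V.ι ≅ restrictFunctor U.ι ⋙ restrictFunctor (Y.homOfLE h) :=
    restrictFunctorCongr (Y.homOfLE_ι h).symm ≪≫ restrictFunctorComp (Y.homOfLE h) U.ι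
  exact LocFreeOps.isFinLocFree_of_iso (e.app M).symm
    (LocNull.isFinLocFree_restrict (Y.homOfLE h) _ hU)

/-- finite locally free on a neighbourhood of every point of `S`. -/
def LocFreeNear (S : Set Y) (M : Y.Modules) : Prop :=
  ∀ x ∈ S, ∃ U : Y.Opens, x ∈ U ∧ FlatMod.IsFinLocFree (M.restrict U.ι)

lemma locFreeNear_of_iso {S : Set Y} {M N : Y.Modules} (e : M ≅ N) (h : LocFreeNear S M) :
    LocFreeNear S N := by
  intro x hx
  obtain ⟨U, hxU, hU⟩ := h x hx
  exact ⟨U, hxU, LocFreeOps.isFinLocFree_of_iso ((restrictFunctor U.ι).mapIso e) hU⟩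

lemma locFreeNear_of_retract {S : Set Y} {M N : Y.Modules} [M.IsQuasicoherent] (i : M ⟶ N)
    (p : N ⟶ M) (hip : i ≫ p = 𝟙 M) (h : LocFreeNear S N) : LocFreeNear S M := by
  intro x hx
  obtain ⟨U, hxU, hU⟩ := h x hx
  refine ⟨U, hxU, ?_⟩
  exact Groth.Agent.Lib.Helper2.Aff.PerfAff.isFinLocFree_of_retract
    ((restrictFunctor U.ι).map i) ((restrictFunctor U.ι).map p)
    (by rw [← Functor.map_comp, hip, CategoryTheory.Functor.map_id]) hU

lemma locFreeNear_sigma {S : Set Y} {m : ℕ} (A : Fin m → Y.Modules)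
    (h : ∀ i, LocFreeNear S (A i)) : LocFreeNear S (∐ A) := by
  classical
  intro x hx
  choose U hxU hU using fun i => h i x hx
  refine ⟨Finset.univ.inf U, PerfFree.mem_finset_inf _ _ _ (fun i _ => hxU i), ?_⟩
  have e : (restrictFunctor (Finset.univ.inf U).ι).obj (∐ A) ≅
      ∐ fun i => (restrictFunctor (Finset.univ.inf U).ι).obj (A i) :=
    (PreservesCoproduct.iso (restrictFunctor (Finset.univ.inf U).ι) A)
  refine LocFreeOps.isFinLocFree_of_iso e.symm (isFinLocFree_sigma m _ (fun i => ?_))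
  exact isFinLocFree_restrict_of_le (A i) (Finset.inf_le (Finset.mem_univ i)) (hU i)

lemma locFreeNear_of_sigma {S : Set Y} {m : ℕ} (A : Fin m → Y.Modules)
    (hA : ∀ i, (A i).IsQuasicoherent) (h : LocFreeNear S (∐ A)) (i : Fin m) :
    LocFreeNear S (A i) := by
  classical
  haveI := hA i
  refine locFreeNear_of_retract (Sigma.ι A i)
    (Sigma.desc (fun j => if hj : j = i then eqToHom (by rw [hj]) else 0)) ?_ h
  rw [Sigma.ι_desc, dif_pos rfl, eqToHom_refl]

end General

variable (k : Type u) [Field k] {X : Scheme.{u}} [X.Over (Spec (CommRingCat.of k))]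
  [IsProper (X ↘ Spec (CommRingCat.of k))] {L : X.Modules} {d : ℕ} {E : X.Modules}
  (hL : CohB1.IsAmple L)

include hL in
theorem gr_locFree_sub_quot (hE : ShStab.IsSemistable k X L E d) (S : Set X)
    (sE : LTSeries (Subobject E)) (hsE : ShStab.IsJHFiltration k X L E d sE)
    (hgrE : LocFreeNear S (StabCat.grObj sE))
    {G : X.Modules} (ι : G ⟶ E) [Mono ι] (hG : Coh.IsCoh G) {pG pE : ℚ[X]}
    (hpG : ShStab.IsHilbPoly k X L G pG) (hpE : ShStab.IsHilbPoly k X L E pE)
    (hred : StabCat.RedEq d pG pE) :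
    (∃ sG : LTSeries (Subobject G), ShStab.IsJHFiltration k X L G d sG ∧
        LocFreeNear S (StabCat.grObj sG)) ∧
    (∃ sQ : LTSeries (Subobject (cokernel ι)), ShStab.IsJHFiltration k X L (cokernel ι) d sQ ∧
        LocFreeNear S (StabCat.grObj sQ)) := by
  obtain ⟨sG, sQ, hsG, hsQ, hfG, hfQ⟩ := exists_jh_sub_quot k hL hE sE hsE ι hG hpG hpE hred
  have hfac : ∀ j : Fin sE.length, LocFreeNear S (StabCat.factor sE j) :=
    fun j => locFreeNear_of_sigma (fun j => StabCat.factor sE j)
      (fun j => (hsE.2.2 j).1.1.1) hgrE j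
  refine ⟨⟨sG, hsG, ?_⟩, ⟨sQ, hsQ, ?_⟩⟩
  · refine locFreeNear_sigma (fun i => StabCat.factor sG i) (fun i => ?_)
    obtain ⟨j, ⟨e⟩⟩ := hfG i
    exact locFreeNear_of_iso e.symm (hfac j)
  · refine locFreeNear_sigma (fun i => StabCat.factor sQ i) (fun i => ?_)
    obtain ⟨j, ⟨e⟩⟩ := hfQ i
    exact locFreeNear_of_iso e.symm (hfac j)

end Groth.Agent.Lib.Helper23.JHLoc
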