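import Mathlib
import Groth.Prelude
import Groth.Agent.Lib.Helper23.JHLocB
import Groth.Agent.Lib.Helper3.QCProps

/-!
# Extensions of modules that are locally free near a set (helper23)
-/

set_option autoImplicit false
set_option linter.unusedSectionVars false
set_option linter.style.haveILetI false
set_option backward.isDefEq.respectTransparency false
universe u
open CategoryTheory CategoryTheory.Limits AlgebraicGeometry Polynomial

noncomputable section

namespace Groth.Agent.Lib.Helper23.JHLoc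

open Groth.Agent.Lib.Helper17 Groth.Agent.Lib.Helper17.DevBasic Groth.Agent.Lib.Helper23.SubCorr
  Groth.Agent.Lib.Helper23.HilbP Groth.Agent.Lib.Helper13 AlgebraicGeometry.Scheme.Modules
open Groth.Agent.Lib.Helper3 Groth.Agent.Lib.Helper3.QCSec Groth.Agent.Lib.Helper3.InvGen
  Groth.Agent.Lib.Helper3.FreeBasis Groth.Agent.Lib.Helper13.LocNull

variable {Y : Scheme.{u}}

/-- local sections of an epimorphism onto a module with a basis near a point. -/
lemma exists_local_section {G Z : Y.Modules} (π : G ⟶ Z) [Epi π] {U : Y.Opens} {n : ℕ}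
    (e : Fin n → Γ(Z, U)) (hb : IsBasis Z U e) (y : Y) (hyU : y ∈ U) :
    ∃ (V : Y.Opens), y ∈ V ∧ V ≤ U ∧
      ∃ h : (restrictFunctor V.ι).obj Z ⟶ (restrictFunctor V.ι).obj G,
        h ≫ (restrictFunctor V.ι).map π = 𝟙 _ := by
  classical
  choose W hW hyW t ht using fun i : Fin n =>
    Groth.Agent.Lib.Helper3.QCExact.exists_local_lift π U (e i) y hyU
  have hyV : y ∈ U ⊓ Finset.univ.inf W := by
    show y ∈ ((U ⊓ Finset.univ.inf W : Y.Opens) : Set Y)
    rw [TopologicalSpace.Opens.coe_inf]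
    exact ⟨hyU, PerfFree.mem_finset_inf _ _ _ (fun i _ => hyW i)⟩
  have hVU : U ⊓ Finset.univ.inf W ≤ U := inf_le_left
  have hVW : ∀ i, U ⊓ Finset.univ.inf W ≤ W i :=
    fun i => inf_le_right.trans (Finset.inf_le (Finset.mem_univ i))
  have hb' : IsBasis Z (U ⊓ Finset.univ.inf W) (fun i => res Z hVU (e i)) := hb.mono hVU
  haveI := isIso_homOfSecs hb'
  refine ⟨U ⊓ Finset.univ.inf W, hyV, hVU,
    inv (homOfSecs Z (U ⊓ Finset.univ.inf W) (fun i => res Z hVU (e i))) ≫
      homOfSecs G (U ⊓ Finset.univ.inf W) (fun i => res G (hVW i) (t i)), ?_⟩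
  rw [Category.assoc, IsIso.inv_comp_eq, Category.comp_id]
  apply Limits.Sigma.hom_ext
  intro i
  have e1 := inj_homOfSecs G (U ⊓ Finset.univ.inf W) (fun i => res G (hVW i) (t i)) i
  have e2 := inj_homOfSecs Z (U ⊓ Finset.univ.inf W) (fun i => res Z hVU (e i)) i
  unfold FreeBasis.inj at e1 e2
  rw [← Category.assoc, e1, e2, homOfSec_comp]
  congr 1
  rw [QCExact.app_res', ht i]
  exact res_res Z (hVW i) (hW i) _

/-- an extension of modules locally free near `S` is locally free near `S`. -/
theorem locFreeNear_of_shortExact {S : Set Y} (T : ShortComplex Y.Modules) (hT : T.ShortExact)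
    (h1 : LocFreeNear S T.X₁) (h3 : LocFreeNear S T.X₃) : LocFreeNear S T.X₂ := by
  intro x hx
  obtain ⟨U1, hx1, hU1⟩ := h1 x hx
  obtain ⟨U3, hx3, hU3⟩ := h3 x hx
  obtain ⟨W, n, e, hxW, hWU, hb⟩ := (LocFreeCrit.isFinLocFree_restrict_iff T.X₃ U3).1 hU3 x hx3
  haveI := hT.epi_g
  haveI := hT.mono_f
  have hxW1 : x ∈ W ⊓ U1 := ⟨hxW, hx1⟩
  obtain ⟨V, hxV, hVW, h, hh⟩ := exists_local_section T.g (fun i => res T.X₃ inf_le_left (e i))
    (hb.mono (inf_le_left : W ⊓ U1 ≤ W)) x hxW1
  refine ⟨V, hxV, ?_⟩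
  have hTV : (T.map (restrictFunctor V.ι)).ShortExact := hT.map_of_exact (restrictFunctor V.ι)
  haveI := hTV.mono_f
  let spl : (T.map (restrictFunctor V.ι)).Splitting :=
    ShortComplex.Splitting.ofExactOfSection _ hTV.exact h hh hTV.mono_f
  have e2 : (restrictFunctor V.ι).obj T.X₂ ≅
      ((restrictFunctor V.ι).obj T.X₁ ⊞ (restrictFunctor V.ι).obj T.X₃ : (V : Scheme).Modules) :=
    spl.isoBinaryBiproduct
  refine LocFreeOps.isFinLocFree_of_iso e2.symm (LocFreeOps.isFinLocFree_biprod _ _ ?_ ?_)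
  · exact isFinLocFree_restrict_of_le T.X₁ (hVW.trans inf_le_right) hU1
  · exact isFinLocFree_restrict_of_le T.X₃ (hVW.trans (inf_le_left.trans hWU)) hU3

lemma locFreeNear_of_isZero {S : Set Y} {M : Y.Modules} (hM : IsZero M) : LocFreeNear S M := by
  intro x _
  exact ⟨⊤, trivial, PerfLocal.isFinLocFree_of_isZero ((restrictFunctor _).map_isZero hM)⟩

/-- a module with a filtration whose factors are locally free near `S` is locally free near
`S`. -/
theorem locFreeNear_of_factors {S : Set Y} {M : Y.Modules} (s : LTSeries (Subobject M))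
    (h0 : s.head = ⊥) (h1 : s.last = ⊤) (hfac : ∀ i, LocFreeNear S (StabCat.factor s i)) :
    LocFreeNear S M := by
  have key : ∀ i : Fin (s.length + 1), LocFreeNear S (s i : Y.Modules) := by
    intro i
    induction i using Fin.induction with
    | zero =>
      have h0' : s 0 = ⊥ := h0
      rw [h0']
      exact locFreeNear_of_isZero (IsZero.of_iso (isZero_zero _) Subobject.botCoeIsoZero)
    | succ i ih =>
      have hSE := DevKey.shortExact_of_mono
        (Subobject.ofLE (s i.castSucc) (s i.succ) (le_of_lt (s.step i)))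
      exact locFreeNear_of_shortExact _ hSE ih (hfac i)
  have hl := key (Fin.last s.length)
  have h1' : s (Fin.last s.length) = ⊤ := h1
  rw [h1'] at hl
  exact locFreeNear_of_iso (asIso (⊤ : Subobject M).arrow) hl

end Groth.Agent.Lib.Helper23.JHLoc
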