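import Mathlib
import Groth.Prelude
import Groth.Agent.Lib.Helper23.JHLocC
import Groth.Agent.Lib.Helper13.PtFibre
import Groth.Agent.Lib.Helper2.Aff.AffModel
import Groth.Agent.Lib.Helper1.MaxAnnInt
import Groth.Agent.Lib.Helper9.TopDim

/-!
# Morphisms of semistable modules vanishing at a point near which the graded object is locally
free (helper23)
-/

set_option autoImplicit false
set_option linter.unusedSectionVars false
set_option linter.style.haveILetI false
universe u
open CategoryTheory CategoryTheory.Limits AlgebraicGeometry Polynomial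

noncomputable section

namespace Groth.Agent.Lib.Helper23.JHLoc

open Groth.Agent.Lib.Helper17 Groth.Agent.Lib.Helper17.DevBasic Groth.Agent.Lib.Helper23.SubCorr
  Groth.Agent.Lib.Helper23.HilbP Groth.Agent.Lib.Helper13 AlgebraicGeometry.Scheme.Modules
open Groth.Agent.Lib.Helper3

/-- the spectrum of a field is a one-point scheme. -/
lemma isPt_spec_field (K : Type u) [Field K] : PtEval.IsPt (Spec (CommRingCat.of K)) where
  isField := by
    show IsField Γ(Spec (CommRingCat.of K), ⊤)
    exact MulEquiv.isField (Field.toIsField K)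
      (Scheme.ΓSpecIso (CommRingCat.of K)).commRingCatIsoToRingEquiv.toMulEquiv
  eq_top W z hz := by
    refine TopologicalSpace.Opens.ext ?_
    rw [TopologicalSpace.Opens.coe_top]
    refine Set.eq_univ_of_forall fun w => ?_
    have : w = z := @Subsingleton.elim (PrimeSpectrum K) _ w z
    rw [this]
    exact hz
  nonempty := ⟨(default : PrimeSpectrum K)⟩

lemma map_eq_zero_of_natIso {C D : Type*} [Category C] [Category D] [HasZeroMorphisms D]
    {F G : C ⥤ D} (α : F ≅ G) {A B : C} (f : A ⟶ B) (h : G.map f = 0) : F.map f = 0 := by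
  rw [← cancel_mono (α.hom.app B), α.hom.naturality, h, Limits.comp_zero, Limits.zero_comp]

variable (k : Type u) [Field k] {X : Scheme.{u}} [X.Over (Spec (CommRingCat.of k))]
  [IsProper (X ↘ Spec (CommRingCat.of k))] {L : X.Modules} {d : ℕ}
  (hL : CohB1.IsAmple L)

include hL in
theorem hom_eq_zero_of_pullback_eq_zero [IrreducibleSpace X]
    (hX : topologicalKrullDim X = (d : WithBot ℕ∞)) {E F : X.Modules}
    (hE : ShStab.IsSemistable k X L E d) (hF : ShStab.IsSemistable k X L F d)
    {pE pF : ℚ[X]} (hpE : ShStab.IsHilbPoly k X L E pE) (hpF : ShStab.IsHilbPoly k X L F pF)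
    (hred : StabCat.RedEq d pE pF) (ξ : Spec (CommRingCat.of k) ⟶ X)
    (sF : LTSeries (Subobject F)) (hsF : ShStab.IsJHFiltration k X L F d sF)
    (hgrF : LocFreeNear (Set.range ξ.base) (StabCat.grObj sF))
    (f : E ⟶ F) (hf : (Scheme.Modules.pullback ξ).map f = 0) : f = 0 := by
  classical
  by_contra hne
  haveI := isNoetherian_of_isProper k X
  have aF := alpha_pos_of_isSemistable k hL hF hpF
  have hEin : InAp k L d pF E := Or.inr ⟨hE, fun p hp => by
    rw [isHilbPoly_unique k hp hpE]; exact hred⟩
  have hFin : InAp k L d pF F := Or.inr ⟨hF, fun p hp => by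
    rw [isHilbPoly_unique k hp hpF]; rfl⟩
  have hIin : InAp k L d pF (Abelian.image f) := inAp_image k hL aF f hEin hFin
  have hfac : Abelian.factorThruImage f ≫ Abelian.image.ι f = f := Abelian.image.fac f
  have hI0 : ¬ IsZero (Abelian.image f) := fun hz =>
    hne (by rw [← hfac, hz.eq_of_tgt (Abelian.factorThruImage f) 0, Limits.zero_comp])
  have hIss : ShStab.IsSemistable k X L (Abelian.image f) d := by
    rcases hIin with h | h
    · exact absurd h hI0
    · exact h.1
  have hIred : ∀ p, ShStab.IsHilbPoly k X L (Abelian.image f) p → StabCat.RedEq d p pF := by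
    rcases hIin with h | h
    · exact absurd h hI0
    · exact h.2
  obtain ⟨pI, hpI⟩ := exists_isHilbPoly k X hL _ hIss.1
  -- the quotient is locally free near the point
  obtain ⟨-, ⟨sQ, hsQ, hgrQ⟩⟩ := gr_locFree_sub_quot k hL hF (Set.range ξ.base) sF hsF hgrF
    (Abelian.image.ι f) hIss.1 hpI hpF (hIred pI hpI)
  have hQ : LocFreeNear (Set.range ξ.base) (cokernel (Abelian.image.ι f)) :=
    locFreeNear_of_factors sQ hsQ.1 hsQ.2.1 (fun i =>
      locFreeNear_of_sigma (fun j => StabCat.factor sQ j)
        (fun j => (hsQ.2.2 j).1.1.1) hgrQ i)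
  -- the point
  let pt : Spec (CommRingCat.of k) := (default : PrimeSpectrum k)
  obtain ⟨U, hxU, hU⟩ := hQ (ξ.base pt) ⟨pt, rfl⟩
  obtain ⟨W, n, e, hxW, hWU, hb⟩ :=
    (LocFreeCrit.isFinLocFree_restrict_iff _ U).1 hU (ξ.base pt) hxU
  obtain ⟨V, hxV, -, h, hh⟩ := exists_local_section (cokernel.π (Abelian.image.ι f)) e hb
    (ξ.base pt) hxW
  -- the split sequence on `V`
  have hT := DevKey.shortExact_of_mono (Abelian.image.ι f)
  have hTV := hT.map_of_exact (restrictFunctor V.ι)
  let spl := ShortComplex.Splitting.ofExactOfSection _ hTV.exact h hh hTV.mono_f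
  obtain ⟨r, hr⟩ : ∃ r : (restrictFunctor V.ι).obj F ⟶ (restrictFunctor V.ι).obj (Abelian.image f),
      (restrictFunctor V.ι).map (Abelian.image.ι f) ≫ r = 𝟙 _ := ⟨spl.r, spl.f_r⟩
  -- lift the point
  obtain ⟨ξ', hξ'⟩ := PtFibre.lift_pt_opens (isPt_spec_field k) ξ pt V hxV
  let N : restrictFunctor V.ι ⋙ Scheme.Modules.pullback ξ' ≅ Scheme.Modules.pullback ξ :=
    Functor.isoWhiskerRight (restrictFunctorIsoPullback V.ι) (Scheme.Modules.pullback ξ') ≪≫
      Scheme.Modules.pullbackComp ξ' V.ι ≪≫ Scheme.Modules.pullbackCongr hξ'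
  have hf' : (Scheme.Modules.pullback ξ').map ((restrictFunctor V.ι).map f) = 0 :=
    map_eq_zero_of_natIso N f hf
  have hp : (restrictFunctor V.ι).map (Abelian.factorThruImage f) =
      (restrictFunctor V.ι).map f ≫ r := by
    have h1 : (restrictFunctor V.ι).map f = (restrictFunctor V.ι).map (Abelian.factorThruImage f) ≫
        (restrictFunctor V.ι).map (Abelian.image.ι f) := by
      rw [← Functor.map_comp, hfac]
    rw [h1, Category.assoc, hr, Category.comp_id]
  have hp0 : (Scheme.Modules.pullback ξ').map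
      ((restrictFunctor V.ι).map (Abelian.factorThruImage f)) = 0 := by
    rw [hp, Functor.map_comp, hf', Limits.zero_comp]
  haveI : Epi ((restrictFunctor V.ι).map (Abelian.factorThruImage f)) := inferInstance
  haveI : Epi ((Scheme.Modules.pullback ξ').map
      ((restrictFunctor V.ι).map (Abelian.factorThruImage f))) := inferInstance
  have hz : IsZero ((Scheme.Modules.pullback ξ').obj
      ((restrictFunctor V.ι).obj (Abelian.image f))) := IsZero.of_epi_eq_zero _ hp0
  -- Nakayama
  haveI : (Abelian.image f).IsQuasicoherent := hIss.1.1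
  haveI : (Abelian.image f).IsFiniteType := hIss.1.2
  haveI : ((restrictFunctor V.ι).obj (Abelian.image f)).IsQuasicoherent :=
    Scheme.Modules.isQuasicoherent_restrictFunctor V.ι _
  obtain ⟨W', hW', hzW⟩ := PtFibre.exists_isZero_restrict_of_isZero_pullback
    ((restrictFunctor V.ι).obj (Abelian.image f)) (QCProps.isFiniteType_restrict V.ι _) ξ' pt hz
  -- the point is not in the support
  have hns : ξ.base pt ∉ CohB1.support (Abelian.image f) := by
    have h1 := support_eq_empty_of_isZero hzW
    rw [Groth.Agent.Lib.Helper2.Aff.AffModel.support_restrict,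
      Groth.Agent.Lib.Helper2.Aff.AffModel.support_restrict] at h1
    intro hmem
    have h2 : (⟨ξ'.base pt, hW'⟩ : W') ∈
        (W'.ι.base ⁻¹' (V.ι.base ⁻¹' CohB1.support (Abelian.image f))) := by
      show V.ι.base (ξ'.base pt) ∈ CohB1.support (Abelian.image f)
      have h3 : V.ι.base (ξ'.base pt) = ξ.base pt := by
        rw [← hξ']; rfl
      rw [h3]; exact hmem
    rw [h1] at h2
    exact h2
  -- dimension count
  have hcl : IsClosed (CohB1.support (Abelian.image f)) :=
    Groth.Agent.Lib.Helper1.MaxAnnInt.isClosed_support _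
  have hne_univ : CohB1.support (Abelian.image f) ≠ Set.univ := fun h =>
    hns (h ▸ Set.mem_univ _)
  have hfin : topologicalKrullDim X ≠ ⊤ := by
    rw [hX]
    intro h
    have h2 : ((d : ℕ∞) : WithBot ℕ∞) = ((⊤ : ℕ∞) : WithBot ℕ∞) := h
    exact ENat.natCast_ne_top d (WithBot.coe_injective h2)
  have hlt := Groth.Agent.Lib.Helper9.topologicalKrullDim_lt_of_isClosed_of_ne_univ hfin _ hcl
    hne_univ
  have hdim := hIss.2.2.1 _ (𝟙 _) inferInstance hIss.1 hI0
  rw [hdim, hX] at hlt
  exact lt_irrefl _ hlt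

end Groth.Agent.Lib.Helper23.JHLoc
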