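import Mathlib
import Groth.Prelude
import Groth.Agent.Lib.Helper23.JHLocD
import Groth.Agent.Lib.Helper1.FreeLocusBC
import Groth.Agent.Lib.Helper14.FibreFreeSch
import Groth.Agent.Lib.Helper17.ReflE
import Groth.Agent.Lib.Helper17.LocConstRank
import Groth.Agent.Lib.Helper1.ProjSpaceFT
import Groth.Agent.Lib.Helper13.PerfFree

/-!
# Local freeness of a flat family from local freeness on a fibre (helper23)
-/

set_option autoImplicit false
set_option linter.unusedSectionVars false
set_option linter.style.haveILetI false
universe u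
open CategoryTheory CategoryTheory.Limits AlgebraicGeometry Polynomial

noncomputable section

namespace Groth.Agent.Lib.Helper23.FibLF

open Groth.Agent.Lib.Helper17 Groth.Agent.Lib.Helper13 Groth.Agent.Lib.Helper3
open Groth.Agent.Lib.Helper23.JHLoc

/-- a coherent module flat over the base which is locally free near a point of a base-changed
family is locally free near the image point. -/
theorem locFree_near_of_baseChange {X S T : Scheme.{u}} (f : X ⟶ S) (t : T ⟶ S)
    [IsLocallyNoetherian X] (F : X.Modules) (hF : Coh.IsCoh F) (hfl : FlatMod.IsFlatOver f F)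
    (x' : ↥(pullback f t)) (V : (pullback f t).Opens) (hx' : x' ∈ V)
    (hV : FlatMod.IsFinLocFree
      (((Scheme.Modules.pullback (pullback.fst f t)).obj F).restrict V.ι)) :
    ∃ U : X.Opens, (pullback.fst f t).base x' ∈ U ∧ FlatMod.IsFinLocFree (F.restrict U.ι) := by
  haveI : F.IsQuasicoherent := hF.1
  haveI := ReflE.isFinitePresentation_of_isCoh F hF
  haveI qc : ((Scheme.Modules.pullback (pullback.fst f t)).obj F).IsQuasicoherent :=
    PbStalk.isQuasicoherent_pullback (pullback.fst f t) F
  obtain ⟨W, n, e, hxW, -, hb⟩ := (LocFreeCrit.isFinLocFree_restrict_iff _ V).1 hV x' hx'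
  have hfree' := (LocConstRank.free_and_fibreRank_of_isBasis _ hb x' hxW).1
  have hset := Groth.Agent.Lib.Helper1.FreeLocusBC.free_locus_baseChange F hfl
    (IsPullback.of_hasPullback f t)
  have hmem : x' ∈ {x' : ↥(pullback f t) | Module.Free ((pullback f t).presheaf.stalk x')
        (((Scheme.Modules.pullback (pullback.fst f t)).obj F).presheaf.stalk x')} := hfree'
  rw [hset] at hmem
  have hfree : Module.Free (X.presheaf.stalk ((pullback.fst f t).base x'))
      (F.presheaf.stalk ((pullback.fst f t).base x')) := hmem
  obtain ⟨U, m, hxU, ⟨ε⟩⟩ :=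
    Groth.Agent.Lib.Helper14.FibreFree.exists_open_free_of_free_stalk F _ hfree
  exact ⟨U, hxU, LocFreeOps.isFinLocFree_of_iso ε.symm (PerfFree.isFinLocFree_freeMod _ m)⟩

end Groth.Agent.Lib.Helper23.FibLF
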