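import Groth.Agent.Lib.Helper12.SchemeDimFT4
import Groth.Agent.Lib.Helper13.ZeroDimSupp
import Groth.Agent.Lib.Helper23.CurveD

/-!
# FinBirat: a proper morphism to a proper scheme of dimension `≤ 1` over a field which is an
isomorphism over a dense open with dense preimage is finite.
-/
set_option autoImplicit false
set_option linter.style.haveILetI false
universe u
open CategoryTheory CategoryTheory.Limits Opposite TopologicalSpace AlgebraicGeometry

noncomputable section

namespace Groth.Agent.Lib.Helper23.FinBirat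

open Groth.Agent.Lib.Helper12.SchemeDimFT

attribute [local instance] Curv2.resAlgebra

section TrIso

variable (k : Type u) [Field k] {X Y : Scheme.{u}} (p : X ⟶ Spec (CommRingCat.of k))
  (q : Y ⟶ Spec (CommRingCat.of k)) (f : Y ⟶ X) (hf : f ≫ p = q)

include hf in
theorem trdeg_eq_of_isIso_residueFieldMap (y : Y) [IsIso (f.residueFieldMap y)] :
    letI : X.Over (Spec (CommRingCat.of k)) := ⟨p⟩
    letI : Y.Over (Spec (CommRingCat.of k)) := ⟨q⟩
    Algebra.trdeg k (X.residueField (f y)) = Algebra.trdeg k (Y.residueField y) := by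
  letI : X.Over (Spec (CommRingCat.of k)) := ⟨p⟩
  letI : Y.Over (Spec (CommRingCat.of k)) := ⟨q⟩
  let φ : X.residueField (f y) →ₐ[k] Y.residueField y :=
    { (f.residueFieldMap y).hom with
      commutes' := fun c => residueFieldMap_resMap k p q f hf y c }
  have hb : Function.Bijective φ :=
    ConcreteCategory.bijective_of_isIso (f.residueFieldMap y)
  exact (AlgEquiv.ofBijective φ hb).trdeg_eq

end TrIso

section Main

variable (k : Type u) [Field k] {X X' : Scheme.{u}} [X.Over (Spec (CommRingCat.of k))]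
  [X'.Over (Spec (CommRingCat.of k))] [LocallyOfFiniteType (X ↘ Spec (CommRingCat.of k))]
  [LocallyOfFiniteType (X' ↘ Spec (CommRingCat.of k))]
  (f : X' ⟶ X) (hf : f ≫ (X ↘ Spec (CommRingCat.of k)) = X' ↘ Spec (CommRingCat.of k))

include hf in
/-- over an open where `f` is an isomorphism, `f` preserves the transcendence degree of residue
fields -/
theorem tr_eq_of_isIso_restrict (U : X.Opens) [IsIso (f ∣_ U)] (η : X') (hη : η ∈ f ⁻¹ᵁ U) :
    tr k X' η = tr k X (f η) := by
  let V : X'.Opens := f ⁻¹ᵁ U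
  let g : (V : Scheme.{u}) ⟶ X := V.ι ≫ f
  have hg : g = (f ∣_ U) ≫ U.ι := (morphismRestrict_ι f U).symm
  haveI : IsOpenImmersion g := by rw [hg]; infer_instance
  let v : (V : Scheme.{u}) := ⟨η, hη⟩
  have hv : V.ι v = η := rfl
  have h1 := trdeg_eq_of_isIso_residueFieldMap k (X' ↘ Spec (CommRingCat.of k))
    (V.ι ≫ (X' ↘ Spec (CommRingCat.of k))) V.ι rfl v
  have h2 := trdeg_eq_of_isIso_residueFieldMap k (X ↘ Spec (CommRingCat.of k))
    (V.ι ≫ (X' ↘ Spec (CommRingCat.of k))) g (by rw [← hf]; rfl) v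
  have h3 : Algebra.trdeg k (X'.residueField η) = Algebra.trdeg k (X.residueField (f η)) :=
    h1.trans h2.symm
  unfold tr
  rw [h3]

include hf in
/-- points outside the (dense) locus where `f` is an isomorphism have residue fields algebraic
over `k` when `dim X ≤ 1` -/
theorem tr_eq_zero_of_notMem (hdim : topologicalKrullDim X ≤ 1) (U : X.Opens)
    [IsIso (f ∣_ U)] (hU' : Dense ((f ⁻¹ᵁ U : X'.Opens) : Set X')) (z : X')
    (hz : z ∉ f ⁻¹ᵁ U) : tr k X' z = 0 := by
  obtain ⟨η, hη, hsp⟩ := exists_isMaxPt_specializes z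
  have hηU : η ∈ ((f ⁻¹ᵁ U : X'.Opens) : Set X') :=
    mem_of_isMaxPt_of_mem_closure k X' _ (f ⁻¹ᵁ U).isOpen.isLocallyClosed η hη
      (by rw [hU'.closure_eq]; trivial)
  have hne : η ≠ z := by
    rintro rfl
    exact hz hηU
  have h1 := tr_lt_of_specializes k X' η z hsp hne
  have h2 : tr k X' η = tr k X (f η) := tr_eq_of_isIso_restrict k f hf U η hηU
  have h3 : ((tr k X (f η) : ℕ) : WithBot ℕ∞) ≤ topologicalKrullDim X :=
    trdeg_le_topologicalKrullDim k X (f η) _ (tr_spec k X (f η))
  have h4 : ((tr k X (f η) : ℕ) : WithBot ℕ∞) ≤ 1 := h3.trans hdim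
  have h5 : tr k X (f η) ≤ 1 := by exact_mod_cast h4
  omega

include k in
/-- a point with `trdeg κ(z)/k = 0` is closed -/
theorem isClosed_singleton_of_tr_eq_zero (z : X') (hz : tr k X' z = 0) :
    IsClosed ({z} : Set X') := by
  obtain ⟨x, hx, hxcl⟩ := exists_isClosed_mem_of_isLocallyClosed k X' (closure {z})
    isClosed_closure.isLocallyClosed ⟨z, subset_closure rfl⟩
  have hsp : z ⤳ x := specializes_iff_mem_closure.mpr hx
  by_cases hxz : z = x
  · rw [hxz]; exact hxcl
  · have := tr_lt_of_specializes k X' z x hsp hxz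
    omega

include hf in
/-- **Finiteness**: a proper morphism onto a one-dimensional scheme of finite type over a field
which is an isomorphism over an open with dense preimage is finite. -/
theorem isFinite_of_isIso_restrict [IsProper f] [IsNoetherian X']
    (hdim : topologicalKrullDim X ≤ 1) (U : X.Opens)
    [IsIso (f ∣_ U)] (hU' : Dense ((f ⁻¹ᵁ U : X'.Opens) : Set X')) : IsFinite f := by
  have hZcl : IsClosed (((f ⁻¹ᵁ U : X'.Opens) : Set X')ᶜ) := (f ⁻¹ᵁ U).isOpen.isClosed_compl
  have hZfin : (((f ⁻¹ᵁ U : X'.Opens) : Set X')ᶜ).Finite :=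
    Groth.Agent.Lib.Helper13.ZeroDimSupp.finite_of_isClosed_of_points_closed hZcl
      (fun z hz => isClosed_singleton_of_tr_eq_zero k z
        (tr_eq_zero_of_notMem k f hf hdim U hU' z hz))
  have hinj : Set.InjOn f ((f ⁻¹ᵁ U : X'.Opens) : Set X') := by
    intro a ha b hb hab
    have h1 : Function.Injective (f ∣_ U) :=
      (ConcreteCategory.bijective_of_isIso (f ∣_ U).base).1
    have h2 : (f ∣_ U) ⟨a, ha⟩ = (f ∣_ U) ⟨b, hb⟩ := by
      apply Subtype.ext
      have e1 : ((f ∣_ U) ⟨a, ha⟩).1 = f a :=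
        morphismRestrict_base_coe f U ⟨a, ha⟩
      have e2 : ((f ∣_ U) ⟨b, hb⟩).1 = f b :=
        morphismRestrict_base_coe f U ⟨b, hb⟩
      rw [e1, e2, hab]
    exact congrArg Subtype.val (h1 h2)
  haveI : LocallyQuasiFinite f := by
    apply LocallyQuasiFinite.of_finite_preimage_singleton
    intro x
    have hsub : f ⁻¹' {x} ⊆
        ((f ⁻¹ᵁ U : X'.Opens) : Set X')ᶜ ∪ (f ⁻¹' {x} ∩ ((f ⁻¹ᵁ U : X'.Opens) : Set X')) := by
      intro a ha
      by_cases haU : a ∈ ((f ⁻¹ᵁ U : X'.Opens) : Set X')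
      · exact Or.inr ⟨ha, haU⟩
      · exact Or.inl haU
    refine (hZfin.union ?_).subset hsub
    apply Set.Subsingleton.finite
    intro a ha b hb
    exact hinj ha.2 hb.2 (ha.1.trans hb.1.symm)
  exact IsFinite.of_isProper_of_locallyQuasiFinite f

end Main

end Groth.Agent.Lib.Helper23.FinBirat
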