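import Groth.Agent.Lib.Helper23.FinLenB

/-! Linear fully faithful endofunctors of `FinLen A`: the objects `G(A/𝔪^(n+1))`. -/

set_option autoImplicit false
universe u
open CategoryTheory IsLocalRing

namespace Groth.Agent.Lib.Helper23.FinLenLib

variable {A : Type u} [CommRing A] [IsLocalRing A] [IsNoetherianRing A]

/-- `B n = A/𝔪^(n+1)`. -/
noncomputable def B (n : ℕ) : Dual.FinLen A :=
  ofMod (A ⧸ maximalIdeal A ^ (n + 1)) (isFiniteLength_quotient_pow (n + 1))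

/-- `X` is killed by `𝔪^(n+1)`. -/
def Kills (n : ℕ) (X : Dual.FinLen A) : Prop :=
  ∀ a ∈ maximalIdeal A ^ (n + 1), ∀ x : X.obj, a • x = 0

lemma Kills.mono {n m : ℕ} (h : n ≤ m) {X : Dual.FinLen A} (hX : Kills n X) : Kills m X :=
  fun a ha x => hX a (Ideal.pow_le_pow_right (Nat.succ_le_succ h) ha) x

lemma kills_B (n : ℕ) : Kills n (B (A := A) n) := by
  intro a ha x
  obtain ⟨r, rfl⟩ := Ideal.Quotient.mk_surjective x
  change a • (Ideal.Quotient.mk _ r) = 0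
  rw [Algebra.smul_def]
  change Ideal.Quotient.mk _ a * Ideal.Quotient.mk _ r = 0
  rw [Ideal.Quotient.eq_zero_iff_mem.2 ha, zero_mul]

lemma exists_kills (X : Dual.FinLen A) : ∃ n, Kills n X := exists_pow_kill X.obj X.property

/-- `B n ⟶ X`, `1 ↦ x`. -/
noncomputable def evHom (X : Dual.FinLen A) (n : ℕ) (x : X.obj)
    (hx : ∀ a ∈ maximalIdeal A ^ (n + 1), a • x = 0) : B n ⟶ X :=
  mkHom (evLin _ x hx)

lemma lin_evHom_one (X : Dual.FinLen A) (n : ℕ) (x : X.obj)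
    (hx : ∀ a ∈ maximalIdeal A ^ (n + 1), a • x = 0) :
    lin (evHom X n x hx) (1 : A ⧸ maximalIdeal A ^ (n + 1)) = x :=
  evLin_one _ x hx

lemma lin_evHom_mk (X : Dual.FinLen A) (n : ℕ) (x : X.obj)
    (hx : ∀ a ∈ maximalIdeal A ^ (n + 1), a • x = 0) (a : A) :
    lin (evHom X n x hx) (Ideal.Quotient.mk (maximalIdeal A ^ (n + 1)) a) = a • x := rfl

lemma hom_B_ext {X : Dual.FinLen A} {n : ℕ} {f g : B n ⟶ X}
    (h : lin f (1 : A ⧸ maximalIdeal A ^ (n + 1)) = lin g (1 : A ⧸ maximalIdeal A ^ (n + 1))) :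
    f = g := by
  apply hom_ext'
  have hf := eq_evLin (maximalIdeal A ^ (n + 1)) (lin f)
  have hg := eq_evLin (maximalIdeal A ^ (n + 1)) (lin g)
  rw [hf, hg]
  congr 1

lemma eq_evHom {X : Dual.FinLen A} {n : ℕ} (f : B n ⟶ X) :
    ∃ hx, f = evHom X n (lin f (1 : A ⧸ maximalIdeal A ^ (n + 1))) hx := by
  have hx : ∀ a ∈ maximalIdeal A ^ (n + 1),
      a • lin f (1 : A ⧸ maximalIdeal A ^ (n + 1)) = 0 := by
    intro a ha
    rw [← map_smul]
    have := kills_B (A := A) n a ha (1 : A ⧸ maximalIdeal A ^ (n + 1))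
    rw [this, map_zero]
  refine ⟨hx, hom_B_ext ?_⟩
  rw [lin_evHom_one]

lemma evHom_comp {X Y : Dual.FinLen A} (n : ℕ) (x : X.obj)
    (hx : ∀ a ∈ maximalIdeal A ^ (n + 1), a • x = 0) (f : X ⟶ Y) :
    evHom X n x hx ≫ f = evHom Y n (lin f x) (fun a ha => by
      rw [← map_smul, hx a ha, map_zero]) := by
  apply hom_B_ext
  rw [lin_comp_apply, lin_evHom_one, lin_evHom_one]

lemma evHom_add (X : Dual.FinLen A) (n : ℕ) (x y : X.obj)
    (hx : ∀ a ∈ maximalIdeal A ^ (n + 1), a • x = 0)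
    (hy : ∀ a ∈ maximalIdeal A ^ (n + 1), a • y = 0) :
    evHom X n (x + y) (fun a ha => by rw [smul_add, hx a ha, hy a ha, add_zero]) =
      evHom X n x hx + evHom X n y hy := by
  apply hom_B_ext
  rw [lin_evHom_one, lin_add, LinearMap.add_apply, lin_evHom_one, lin_evHom_one]

lemma evHom_smul (X : Dual.FinLen A) (n : ℕ) (c : A) (x : X.obj)
    (hx : ∀ a ∈ maximalIdeal A ^ (n + 1), a • x = 0) :
    evHom X n (c • x) (fun a ha => by rw [smul_comm, hx a ha, smul_zero]) =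
      c • evHom X n x hx := by
  apply hom_B_ext
  rw [lin_evHom_one, lin_smul, LinearMap.smul_apply, lin_evHom_one]

/-- transition `B (n+1) ⟶ B n`. -/
noncomputable def tr (n : ℕ) : B (A := A) (n + 1) ⟶ B n :=
  evHom (B n) (n + 1) (1 : A ⧸ maximalIdeal A ^ (n + 1))
    (fun a ha => (kills_B n).mono (Nat.le_succ n) a ha _)

/-- projection `B n ⟶ B 0`. -/
noncomputable def pr (n : ℕ) : B (A := A) n ⟶ B 0 :=
  evHom (B 0) n (1 : A ⧸ maximalIdeal A ^ (0 + 1))
    (fun a ha => (kills_B 0).mono (Nat.zero_le n) a ha _)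

lemma pr_zero : pr (A := A) 0 = 𝟙 (B 0) := by
  apply hom_B_ext
  rw [pr, lin_evHom_one]; rfl

lemma tr_pr (n : ℕ) : tr (A := A) n ≫ pr n = pr (n + 1) := by
  apply hom_B_ext
  rw [lin_comp_apply, tr, lin_evHom_one, pr, lin_evHom_one, pr, lin_evHom_one]

lemma tr_evHom (X : Dual.FinLen A) (n : ℕ) (x : X.obj)
    (hx : ∀ a ∈ maximalIdeal A ^ (n + 1), a • x = 0) :
    tr n ≫ evHom X n x hx = evHom X (n + 1) x
      (fun a ha => hx a (Ideal.pow_le_pow_right (Nat.le_succ _) ha)) := by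
  apply hom_B_ext
  rw [lin_comp_apply, tr, lin_evHom_one, lin_evHom_one, lin_evHom_one]

lemma tr_surjective (n : ℕ) : Function.Surjective (lin (tr (A := A) n)) := by
  intro y
  obtain ⟨a, rfl⟩ := Ideal.Quotient.mk_surjective y
  refine ⟨Ideal.Quotient.mk _ a, ?_⟩
  rw [tr, lin_evHom_mk]
  change a • (1 : A ⧸ maximalIdeal A ^ (n + 1)) = _
  rw [Algebra.smul_def, mul_one]; rfl

instance (n : ℕ) : Epi (tr (A := A) n) := epi_of_surjective _ (tr_surjective n)

end Groth.Agent.Lib.Helper23.FinLenLib
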