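import Groth.Agent.Lib.Helper23.FinLenC

/-! Linear fully faithful epi-preserving endofunctors of `FinLen A` are isomorphic to the identity:
generators of `G(A/𝔪^(n+1))`. -/

set_option autoImplicit false
universe u
open CategoryTheory IsLocalRing

namespace Groth.Agent.Lib.Helper23.FinLenLib

variable {A : Type u} [CommRing A] [IsLocalRing A] [IsNoetherianRing A]
variable (G : Dual.FinLen A ⥤ Dual.FinLen A) [G.Additive] [G.Linear A] [G.Full] [G.Faithful]
  [G.PreservesEpimorphisms]

lemma smul_id_eq_zero_of_kills {n : ℕ} {X : Dual.FinLen A} (hX : Kills n X) (a : A)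
    (ha : a ∈ maximalIdeal A ^ (n + 1)) : a • 𝟙 X = 0 := by
  apply hom_ext'
  apply LinearMap.ext
  intro x
  exact hX a ha x

lemma kills_of_smul_id {X : Dual.FinLen A} (a : A) (h : a • 𝟙 X = 0) (x : X.obj) : a • x = 0 := by
  have := congrArg (fun t => lin t x) h
  exact this

lemma kills_G {n : ℕ} {X : Dual.FinLen A} (hX : Kills n X) : Kills n (G.obj X) := by
  intro a ha y
  apply kills_of_smul_id a _ y
  rw [← G.map_id, ← Functor.map_smul, smul_id_eq_zero_of_kills hX a ha, G.map_zero]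

instance (X : Dual.FinLen A) : Module.Finite A X.obj := by
  have := (isFiniteLength_iff_isNoetherian_isArtinian.1 X.property).1
  infer_instance

instance simpleB0 : IsSimpleModule A (B (A := A) 0).obj := by
  change IsSimpleModule A (A ⧸ maximalIdeal A ^ (0 + 1))
  have h : maximalIdeal A ^ (0 + 1) = maximalIdeal A := by simp
  rw [h]
  exact isSimpleModule_iff_quot_maximal.2 ⟨maximalIdeal A, inferInstance, ⟨LinearEquiv.refl _ _⟩⟩

lemma nontrivial_GB0 : Nontrivial (G.obj (B (A := A) 0)).obj := by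
  by_contra hnt
  rw [not_nontrivial_iff_subsingleton] at hnt
  have h1 : 𝟙 (G.obj (B (A := A) 0)) = 0 := by
    apply hom_ext'
    apply LinearMap.ext
    intro x
    exact Subsingleton.elim _ _
  rw [← G.map_id, ← G.map_zero] at h1
  have h2 := G.map_injective h1
  have h3 := congrArg (fun t => lin t (1 : A ⧸ maximalIdeal A ^ (0 + 1))) h2
  change (1 : A ⧸ maximalIdeal A ^ (0 + 1)) = 0 at h3
  have : Nontrivial (A ⧸ maximalIdeal A ^ (0 + 1)) := by
    have h : maximalIdeal A ^ (0 + 1) = maximalIdeal A := by simp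
    rw [h]
    exact Ideal.Quotient.nontrivial_iff.2 (Ideal.IsPrime.ne_top inferInstance)
  exact one_ne_zero h3

/-- `G(A/𝔪)` is a simple module. -/
theorem simple_GB0 : IsSimpleModule A (G.obj (B (A := A) 0)).obj := by
  haveI := nontrivial_GB0 G
  rw [isSimpleModule_iff]
  refine ⟨fun N => ?_⟩
  by_contra hcon
  push_neg at hcon
  obtain ⟨hNbot, hNtop⟩ := hcon
  obtain ⟨q, hqs, hqN⟩ := exists_map_to_simple (G.obj (B (A := A) 0)).obj N hNtop
    (B (A := A) 0).obj
  obtain ⟨v, hv⟩ := exists_ne (0 : (G.obj (B (A := A) 0)).obj)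
  have hkill := kills_G G (kills_B (A := A) 0)
  let π : G.obj (B (A := A) 0) ⟶ G.obj (B 0) :=
    mkHom q ≫ evHom (G.obj (B 0)) 0 v (fun a ha => hkill a ha v)
  obtain ⟨ρ, hρ⟩ := G.map_surjective π
  obtain ⟨hx, hρ'⟩ := eq_evHom ρ
  obtain ⟨a, ha⟩ := Ideal.Quotient.mk_surjective (lin ρ (1 : A ⧸ maximalIdeal A ^ (0 + 1)))
  have hρa : ρ = a • 𝟙 (B 0) := by
    apply hom_B_ext
    rw [lin_smul, LinearMap.smul_apply, lin_id, LinearMap.id_apply, ← ha]
    change _ = a • (1 : A ⧸ maximalIdeal A ^ (0 + 1))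
    rw [Algebra.smul_def, mul_one]; rfl
  have hπa : π = a • 𝟙 (G.obj (B 0)) := by
    rw [← hρ, hρa, Functor.map_smul, G.map_id]
  obtain ⟨w, hw⟩ := hqs (1 : A ⧸ maximalIdeal A ^ (0 + 1))
  have hπw : lin π w = v := by
    change lin (evHom (G.obj (B 0)) 0 v (fun a ha => hkill a ha v)) (q w) = v
    rw [hw, lin_evHom_one]
  have haw : a • w = v := by
    rw [← hπw, hπa]; rfl
  have hau : IsUnit a := by
    by_contra hnu
    have : a ∈ maximalIdeal A ^ (0 + 1) := by simpa using (mem_maximalIdeal a).2 hnu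
    exact hv (haw ▸ hkill a this w)
  apply hNbot
  rw [eq_bot_iff]
  intro x hxN
  have hqx : q x = 0 := hqN hxN
  have hπx : lin π x = 0 := by
    change lin (evHom (G.obj (B 0)) 0 v (fun a ha => hkill a ha v)) (q x) = 0
    rw [hqx, map_zero]
  have : a • x = 0 := by
    rw [← hπx, hπa]; rfl
  obtain ⟨u, rfl⟩ := hau
  have h2 := congrArg (fun t => (↑u⁻¹ : A) • t) this
  simp only [smul_smul, Units.inv_mul, one_smul, smul_zero] at h2
  exact (Submodule.mem_bot A).2 h2

end Groth.Agent.Lib.Helper23.FinLenLib
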