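import Groth.Agent.Lib.Helper23.FinLenD

/-! Generators of `G(A/𝔪^(n+1))` and the comparison `𝟭 ⟶ G`. -/

set_option autoImplicit false
universe u
open CategoryTheory IsLocalRing

namespace Groth.Agent.Lib.Helper23.FinLenLib

variable {A : Type u} [CommRing A] [IsLocalRing A] [IsNoetherianRing A]
variable (G : Dual.FinLen A ⥤ Dual.FinLen A) [G.Additive] [G.Linear A] [G.Full] [G.Faithful]
  [G.PreservesEpimorphisms]

/-- generation criterion -/
theorem span_eq_top_of_pr_ne_zero (n : ℕ) (q : (G.obj (B (A := A) n)).obj)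
    (hq : lin (G.map (pr n)) q ≠ 0) : Submodule.span A {q} = ⊤ := by
  haveI := simple_GB0 G
  by_contra hN
  obtain ⟨φ, hφs, hφN⟩ := exists_map_to_simple (G.obj (B (A := A) n)).obj _ hN
    (G.obj (B (A := A) 0)).obj
  obtain ⟨φ₀, hφ₀⟩ := G.map_surjective (mkHom φ : G.obj (B n) ⟶ G.obj (B 0))
  obtain ⟨a, ha⟩ := Ideal.Quotient.mk_surjective (lin φ₀ (1 : A ⧸ maximalIdeal A ^ (n + 1)))
  have hφa : φ₀ = a • pr n := by
    apply hom_B_ext
    rw [lin_smul, LinearMap.smul_apply, pr, lin_evHom_one, ← ha]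
    change _ = a • (1 : A ⧸ maximalIdeal A ^ (0 + 1))
    rw [Algebra.smul_def, mul_one]; rfl
  have hφq : φ q = 0 := hφN (Submodule.subset_span rfl)
  have h1 : a • lin (G.map (pr n)) q = 0 := by
    have : lin (G.map φ₀) q = 0 := by rw [hφ₀]; exact hφq
    rw [hφa, Functor.map_smul] at this
    exact this
  have ham : a ∈ maximalIdeal A := mem_maximalIdeal_of_smul_eq_zero _ a _ hq h1
  have hφ0 : φ₀ = 0 := by
    rw [hφa]
    apply hom_ext'
    apply LinearMap.ext
    intro y
    exact kills_B (A := A) 0 a (by simpa using ham) _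
  have hφzero : φ = 0 := by
    have h2 : (mkHom φ : G.obj (B n) ⟶ G.obj (B 0)) = 0 := by rw [← hφ₀, hφ0, G.map_zero]
    exact congrArg lin h2
  haveI := nontrivial_GB0 G
  obtain ⟨v, hv⟩ := exists_ne (0 : (G.obj (B (A := A) 0)).obj)
  obtain ⟨w, hw⟩ := hφs v
  rw [hφzero] at hw
  exact hv hw.symm

lemma Gtr_surjective (n : ℕ) : Function.Surjective (lin (G.map (tr (A := A) n))) :=
  surjective_of_epi _

/-- compatible generators. -/
noncomputable def gen : (n : ℕ) → (G.obj (B (A := A) n)).obj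
  | 0 => haveI := nontrivial_GB0 G; Classical.choose (exists_ne (0 : (G.obj (B (A := A) 0)).obj))
  | n + 1 => Classical.choose (Gtr_surjective G n (gen n))

lemma gen_zero_ne : gen G 0 ≠ 0 := by
  haveI := nontrivial_GB0 G
  exact Classical.choose_spec (exists_ne (0 : (G.obj (B (A := A) 0)).obj))

lemma gen_succ (n : ℕ) : lin (G.map (tr n)) (gen G (n + 1)) = gen G n :=
  Classical.choose_spec (Gtr_surjective G n (gen G n))

lemma pr_gen_ne (n : ℕ) : lin (G.map (pr n)) (gen G n) ≠ 0 := by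
  induction n with
  | zero =>
    rw [pr_zero, G.map_id]
    exact gen_zero_ne G
  | succ n ih =>
    rw [← tr_pr, G.map_comp, lin_comp_apply, gen_succ]
    exact ih

lemma span_gen (n : ℕ) : Submodule.span A {gen G n} = ⊤ :=
  span_eq_top_of_pr_ne_zero G n _ (pr_gen_ne G n)

/-- the value of the comparison map at level `n`. -/
noncomputable def val (n : ℕ) (X : Dual.FinLen A) (x : X.obj)
    (hx : ∀ a ∈ maximalIdeal A ^ (n + 1), a • x = 0) : (G.obj X).obj :=
  lin (G.map (evHom X n x hx)) (gen G n)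

lemma val_succ (n : ℕ) (X : Dual.FinLen A) (x : X.obj)
    (hx : ∀ a ∈ maximalIdeal A ^ (n + 1), a • x = 0) :
    val G (n + 1) X x (fun a ha => hx a (Ideal.pow_le_pow_right (Nat.le_succ _) ha)) =
      val G n X x hx := by
  unfold val
  rw [← tr_evHom X n x hx, G.map_comp, lin_comp_apply, gen_succ]

lemma val_le {n m : ℕ} (h : n ≤ m) (X : Dual.FinLen A) (x : X.obj)
    (hx : ∀ a ∈ maximalIdeal A ^ (n + 1), a • x = 0) :
    val G m X x (fun a ha => hx a (Ideal.pow_le_pow_right (Nat.succ_le_succ h) ha)) =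
      val G n X x hx := by
  induction m, h using Nat.le_induction with
  | base => rfl
  | succ m hnm ih =>
    rw [← ih]
    exact val_succ G m X x _

lemma val_add (n : ℕ) (X : Dual.FinLen A) (x y : X.obj)
    (hx : ∀ a ∈ maximalIdeal A ^ (n + 1), a • x = 0)
    (hy : ∀ a ∈ maximalIdeal A ^ (n + 1), a • y = 0) :
    val G n X (x + y) (fun a ha => by rw [smul_add, hx a ha, hy a ha, add_zero]) =
      val G n X x hx + val G n X y hy := by
  unfold val
  rw [evHom_add X n x y hx hy, G.map_add]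
  rfl

lemma val_smul (n : ℕ) (X : Dual.FinLen A) (c : A) (x : X.obj)
    (hx : ∀ a ∈ maximalIdeal A ^ (n + 1), a • x = 0) :
    val G n X (c • x) (fun a ha => by rw [smul_comm, hx a ha, smul_zero]) =
      c • val G n X x hx := by
  unfold val
  rw [evHom_smul X n c x hx, Functor.map_smul]
  rfl

lemma val_map (n : ℕ) {X Y : Dual.FinLen A} (f : X ⟶ Y) (x : X.obj)
    (hx : ∀ a ∈ maximalIdeal A ^ (n + 1), a • x = 0) :
    lin (G.map f) (val G n X x hx) =
      val G n Y (lin f x) (fun a ha => by rw [← map_smul, hx a ha, map_zero]) := by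
  unfold val
  rw [← lin_comp_apply, ← G.map_comp, evHom_comp]

end Groth.Agent.Lib.Helper23.FinLenLib
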