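import Groth.Agent.Lib.Helper23.FinLenE

/-! The comparison `𝟭 ≅ G`. -/

set_option autoImplicit false
universe u
open CategoryTheory IsLocalRing

namespace Groth.Agent.Lib.Helper23.FinLenLib

variable {A : Type u} [CommRing A] [IsLocalRing A] [IsNoetherianRing A]
variable (G : Dual.FinLen A ⥤ Dual.FinLen A) [G.Additive] [G.Linear A] [G.Full] [G.Faithful]
  [G.PreservesEpimorphisms]

lemma val_indep (n m : ℕ) (X : Dual.FinLen A) (x : X.obj)
    (hn : ∀ a ∈ maximalIdeal A ^ (n + 1), a • x = 0)
    (hm : ∀ a ∈ maximalIdeal A ^ (m + 1), a • x = 0) :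
    val G n X x hn = val G m X x hm := by
  rw [← val_le G (le_max_left n m) X x hn, ← val_le G (le_max_right n m) X x hm]

/-- a level killing `X`. -/
noncomputable def lev (X : Dual.FinLen A) : ℕ := Classical.choose (exists_kills X)

lemma kills_lev (X : Dual.FinLen A) : Kills (lev X) X := Classical.choose_spec (exists_kills X)

/-- the comparison map `X → G X`. -/
noncomputable def tauLin (X : Dual.FinLen A) : X.obj →ₗ[A] (G.obj X).obj where
  toFun x := val G (lev X) X x (fun a ha => kills_lev X a ha x)
  map_add' x y := val_add G (lev X) X x y _ _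
  map_smul' c x := val_smul G (lev X) X c x _

lemma tauLin_apply (X : Dual.FinLen A) (x : X.obj) :
    tauLin G X x = val G (lev X) X x (fun a ha => kills_lev X a ha x) := rfl

lemma tauLin_natural {X Y : Dual.FinLen A} (f : X ⟶ Y) (x : X.obj) :
    lin (G.map f) (tauLin G X x) = tauLin G Y (lin f x) := by
  rw [tauLin_apply, tauLin_apply, val_map]
  exact val_indep G _ _ Y _ _ _

lemma tauLin_injective (X : Dual.FinLen A) : Function.Injective (tauLin G X) := by
  rw [← LinearMap.ker_eq_bot, LinearMap.ker_eq_bot']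
  intro x hx
  rw [tauLin_apply] at hx
  unfold val at hx
  set e := evHom X (lev X) x (fun a ha => kills_lev X a ha x) with he
  have h0 : lin (G.map e) = 0 := by
    apply LinearMap.ext_on (span_gen G (lev X))
    intro y hy
    rw [Set.mem_singleton_iff] at hy
    rw [hy, hx]; rfl
  have h1 : G.map e = G.map 0 := by
    rw [G.map_zero]
    exact hom_ext' h0
  have h2 : e = 0 := G.map_injective h1
  have h3 := lin_evHom_one X (lev X) x (fun a ha => kills_lev X a ha x)
  rw [← he, h2] at h3
  exact h3.symm

lemma ker_toSpanSingleton_gen (n : ℕ) (a : A) (ha : a • gen G n = 0) :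
    a ∈ maximalIdeal A ^ (n + 1) := by
  -- `a` kills `G (B n)`
  have hkill : ∀ y : (G.obj (B (A := A) n)).obj, a • y = 0 := by
    intro y
    have hy : y ∈ Submodule.span A {gen G n} := by rw [span_gen]; trivial
    obtain ⟨c, rfl⟩ := Submodule.mem_span_singleton.1 hy
    rw [smul_comm, ha, smul_zero]
  have h1 : a • 𝟙 (G.obj (B (A := A) n)) = 0 := by
    apply hom_ext'
    apply LinearMap.ext
    intro y
    exact hkill y
  rw [← G.map_id, ← Functor.map_smul, ← G.map_zero] at h1
  have h2 := G.map_injective h1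
  have h3 := congrArg (fun t => lin t (1 : A ⧸ maximalIdeal A ^ (n + 1))) h2
  change a • (1 : A ⧸ maximalIdeal A ^ (n + 1)) = 0 at h3
  rw [Algebra.smul_def, mul_one] at h3
  exact Ideal.Quotient.eq_zero_iff_mem.1 h3

lemma tauLin_surjective (X : Dual.FinLen A) : Function.Surjective (tauLin G X) := by
  intro y
  set n := lev X with hn
  have hkGX : Kills n (G.obj X) := kills_G G (kills_lev X)
  let tq := LinearMap.toSpanSingleton A (G.obj (B (A := A) n)).obj (gen G n)
  have htq : Function.Surjective tq := by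
    rw [← LinearMap.range_eq_top, LinearMap.range_toSpanSingleton, span_gen]
  let ty := LinearMap.toSpanSingleton A (G.obj X).obj y
  have hker : LinearMap.ker tq ≤ LinearMap.ker ty := by
    intro a ha
    rw [LinearMap.mem_ker, LinearMap.toSpanSingleton_apply] at ha ⊢
    exact hkGX a (ker_toSpanSingleton_gen G n a ha) y
  let e := tq.quotKerEquivOfSurjective htq
  let ψ : (G.obj (B (A := A) n)).obj →ₗ[A] (G.obj X).obj :=
    (LinearMap.ker tq).liftQ ty hker ∘ₗ e.symm.toLinearMap
  have hψ : ψ (gen G n) = y := by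
    have h1 : e.symm (gen G n) = Submodule.Quotient.mk (1 : A) := by
      rw [LinearEquiv.symm_apply_eq]
      change gen G n = tq 1
      rw [LinearMap.toSpanSingleton_apply, one_smul]
    change (LinearMap.ker tq).liftQ ty hker (e.symm (gen G n)) = y
    rw [h1, Submodule.liftQ_apply, LinearMap.toSpanSingleton_apply, one_smul]
  obtain ⟨φ, hφ⟩ := G.map_surjective (mkHom ψ : G.obj (B n) ⟶ G.obj X)
  obtain ⟨hx, hφ'⟩ := eq_evHom φ
  refine ⟨lin φ (1 : A ⧸ maximalIdeal A ^ (n + 1)), ?_⟩
  rw [tauLin_apply]
  unfold val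
  have : evHom X (lev X) (lin φ (1 : A ⧸ maximalIdeal A ^ (n + 1)))
      (fun a ha => kills_lev X a ha _) = φ := hφ'.symm
  rw [this, hφ]
  exact hψ

/-- the natural isomorphism `𝟭 ≅ G`. -/
noncomputable def tauIso : 𝟭 (Dual.FinLen A) ≅ G :=
  NatIso.ofComponents
    (fun X =>
      haveI := isIso_of_bijective (mkHom (tauLin G X) : X ⟶ G.obj X)
        ⟨tauLin_injective G X, tauLin_surjective G X⟩
      asIso (mkHom (tauLin G X) : X ⟶ G.obj X))
    (by
      intro X Y f
      apply hom_ext'
      apply LinearMap.ext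
      intro x
      exact (tauLin_natural G f x).symm)

end Groth.Agent.Lib.Helper23.FinLenLib
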