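import Mathlib

/-!
# The degree of the Frobenius endomorphism of a finitely generated field (helper23)

For a finitely generated field extension `M / k` of a perfect field of characteristic `p`,
`[M : M^q] = q ^ trdeg` for `q = p ^ e`.
-/

open Polynomial

namespace Groth.Agent.Lib.Helper23.FrobDeg

section hdeg

variable {A B C A' : Type*} [Field A] [Field B] [Field C] [Field A']

/-- The degree of a ring homomorphism between fields (zero if infinite). -/
noncomputable def hdeg (ψ : A →+* B) : ℕ :=
  letI := ψ.toAlgebra
  Module.finrank A B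

theorem hdeg_comp (φ : A →+* B) (ψ : B →+* C) : hdeg (ψ.comp φ) = hdeg φ * hdeg ψ := by
  unfold hdeg
  let _ := φ.toAlgebra
  let _ := ψ.toAlgebra
  let _ := (ψ.comp φ).toAlgebra
  have : IsScalarTower A B C := IsScalarTower.of_algebraMap_eq (fun x => rfl)
  exact (Module.finrank_mul_finrank A B C).symm

theorem hdeg_of_bijective (ψ : A →+* B) (h : Function.Bijective ψ) : hdeg ψ = 1 := by
  unfold hdeg
  letI := ψ.toAlgebra
  exact ((LinearEquiv.ofBijective (Algebra.linearMap A B) h).finrank_eq).symm.trans
    (Module.finrank_self A)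

theorem hdeg_algebraMap [Algebra A B] : hdeg (algebraMap A B) = Module.finrank A B := by
  unfold hdeg
  have hA : (algebraMap A B).toAlgebra = (inferInstance : Algebra A B) :=
    Algebra.algebra_ext _ _ fun _ => rfl
  rw [hA]

theorem hdeg_eq_of_range_eq (ψ : A →+* B) (ψ' : A' →+* B) (h : ψ.range = ψ'.range) :
    hdeg ψ = hdeg ψ' := by
  let e₁ : A ≃+* ψ.range := RingEquiv.ofBijective ψ.rangeRestrict
    ⟨fun x y hxy => ψ.injective (congrArg Subtype.val hxy), ψ.rangeRestrict_surjective⟩
  let e₂ : A' ≃+* ψ'.range := RingEquiv.ofBijective ψ'.rangeRestrict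
    ⟨fun x y hxy => ψ'.injective (congrArg Subtype.val hxy), ψ'.rangeRestrict_surjective⟩
  let e : A ≃+* A' := e₁.trans ((RingEquiv.subringCongr h).trans e₂.symm)
  have hcomp : ψ'.comp e.toRingHom = ψ := by
    ext a
    have h1 : e₂ (e a) = RingEquiv.subringCongr h (e₁ a) := by
      simp [e]
    have h2 := congrArg Subtype.val h1
    exact h2
  rw [← hcomp, hdeg_comp, hdeg_of_bijective e.toRingHom e.bijective, one_mul]

end hdeg

section Frob

variable (p : ℕ)

/-- The degree of Frobenius is invariant under finite extensions. -/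
theorem hdeg_frob_of_finite {E M : Type*} [Field E] [Field M] [Algebra E M] [ExpChar E p]
    [ExpChar M p] [FiniteDimensional E M] (e : ℕ) :
    hdeg (iterateFrobenius M p e) = hdeg (iterateFrobenius E p e) := by
  have hcomm : (iterateFrobenius M p e).comp (algebraMap E M) =
      (algebraMap E M).comp (iterateFrobenius E p e) := by
    ext x; simp [iterateFrobenius_def]
  have h1 := hdeg_comp (algebraMap E M) (iterateFrobenius M p e)
  have h2 := hdeg_comp (iterateFrobenius E p e) (algebraMap E M)
  rw [hcomm, h2, hdeg_algebraMap] at h1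
  have hpos : 0 < Module.finrank E M := Module.finrank_pos
  have h3 : Module.finrank E M * hdeg (iterateFrobenius E p e) =
      Module.finrank E M * hdeg (iterateFrobenius M p e) := by
    rw [← h1, mul_comm]
  exact (Nat.eq_of_mul_eq_mul_left hpos h3).symm

end Frob

section RatFunc

open scoped RatFunc

attribute [local instance] Polynomial.algebra

variable {F F' : Type*} [Field F] [Field F']

theorem hmap (σ : F →+* F') :
    nonZeroDivisors F[X] ≤ (nonZeroDivisors F'[X]).comap (Polynomial.mapRingHom σ) :=
  nonZeroDivisors_le_comap_nonZeroDivisors_of_injective _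
    (Polynomial.map_injective σ σ.injective)

theorem mapRingHom_algebraMap (σ : F →+* F') (g : F[X]) :
    RatFunc.mapRingHom (Polynomial.mapRingHom σ) (hmap σ) (algebraMap F[X] (RatFunc F) g) =
      algebraMap F'[X] (RatFunc F') (g.map σ) := by
  have h := RatFunc.map_apply_div (Polynomial.mapRingHom σ) (hmap σ) g 1
  simp only [map_one, div_one] at h
  rw [RatFunc.coe_mapRingHom_eq_coe_map]
  exact h

/-- Applying a field embedding with algebraic image to the coefficients of rational functions
does not change the degree. -/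
theorem hdeg_ratFunc_map (σ : F →+* F')
    (halg : letI := σ.toAlgebra; Algebra.IsAlgebraic F F') :
    hdeg (RatFunc.mapRingHom (Polynomial.mapRingHom σ) (hmap σ)) = hdeg σ := by
  letI := σ.toAlgebra
  have h := RatFunc.finrank_ratFunc_ratFunc F F'
  have hm : algebraMap (RatFunc F) (RatFunc F') =
      RatFunc.mapRingHom (Polynomial.mapRingHom σ) (hmap σ) := by
    apply IsLocalization.ringHom_ext (nonZeroDivisors F[X])
    refine RingHom.ext fun g => ?_
    rw [RingHom.comp_apply, RingHom.comp_apply, mapRingHom_algebraMap,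
      ← IsScalarTower.algebraMap_apply F[X] (RatFunc F) (RatFunc F'),
      IsScalarTower.algebraMap_apply F[X] F'[X] (RatFunc F')]
    rfl
  rw [← hm, hdeg_algebraMap, h]
  rfl

theorem X_pow_eq_algebraMap (q : ℕ) :
    (RatFunc.X : RatFunc F) ^ q = algebraMap F[X] (RatFunc F) (Polynomial.X ^ q) := by
  rw [map_pow, RatFunc.algebraMap_X]

theorem transcendental_X_pow (q : ℕ) (hq : 0 < q) :
    Transcendental F ((RatFunc.X : RatFunc F) ^ q) := by
  apply RatFunc.transcendental_of_ne_C
  rintro ⟨c, hc⟩
  have h1 := congrArg RatFunc.num hc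
  rw [X_pow_eq_algebraMap, RatFunc.num_algebraMap, RatFunc.num_C] at h1
  have h2 := congrArg Polynomial.natDegree h1
  rw [Polynomial.natDegree_X_pow, Polynomial.natDegree_C] at h2
  omega

/-- The substitution `X ↦ X ^ q` on rational functions. -/
noncomputable def subst (F : Type*) [Field F] (q : ℕ) (hq : 0 < q) : RatFunc F →+* RatFunc F :=
  (IntermediateField.val (IntermediateField.adjoin F {(RatFunc.X : RatFunc F) ^ q})).toRingHom.comp
    (RatFunc.algEquivOfTranscendental ((RatFunc.X : RatFunc F) ^ q)
      (transcendental_X_pow q hq)).toRingEquiv.toRingHom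

theorem subst_algebraMap (q : ℕ) (hq : 0 < q) (g : F[X]) :
    subst F q hq (algebraMap F[X] (RatFunc F) g) =
      Polynomial.aeval ((RatFunc.X : RatFunc F) ^ q) g := by
  change ((RatFunc.algEquivOfTranscendental ((RatFunc.X : RatFunc F) ^ q)
      (transcendental_X_pow q hq) (algebraMap F[X] (RatFunc F) g) :
        IntermediateField.adjoin F {(RatFunc.X : RatFunc F) ^ q}) : RatFunc F) = _
  rw [RatFunc.algEquivOfTranscendental_apply, RatFunc.num_algebraMap, RatFunc.denom_algebraMap,
    map_one, div_one]

theorem hdeg_subst (q : ℕ) (hq : 0 < q) : hdeg (subst F q hq) = q := by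
  unfold subst
  rw [hdeg_comp, hdeg_of_bijective _ (RingEquiv.bijective _), one_mul]
  change hdeg (algebraMap (IntermediateField.adjoin F {(RatFunc.X : RatFunc F) ^ q})
    (RatFunc F)) = q
  rw [hdeg_algebraMap, RatFunc.finrank_eq_max_natDegree, X_pow_eq_algebraMap,
    RatFunc.num_algebraMap, RatFunc.denom_algebraMap, Polynomial.natDegree_X_pow,
    Polynomial.natDegree_one]
  simp

/-- The degree of Frobenius on a rational function field. -/
theorem hdeg_frob_ratFunc (p : ℕ) (F : Type*) [Field F] [ExpChar F p] [ExpChar (RatFunc F) p]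
    (e : ℕ) :
    hdeg (iterateFrobenius (RatFunc F) p e) = hdeg (iterateFrobenius F p e) * p ^ e := by
  have hq : 0 < p ^ e := pos_of_ne_zero (pow_ne_zero _ (expChar_pos F p).ne')
  have halg : letI := (iterateFrobenius F p e).toAlgebra; Algebra.IsAlgebraic F F := by
    letI := (iterateFrobenius F p e).toAlgebra
    refine ⟨fun x => ⟨Polynomial.X ^ p ^ e - Polynomial.C x,
      (Polynomial.monic_X_pow_sub_C x hq.ne').ne_zero, ?_⟩⟩
    rw [map_sub, map_pow, Polynomial.aeval_X, Polynomial.aeval_C]
    change x ^ p ^ e - iterateFrobenius F p e x = 0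
    rw [iterateFrobenius_def, sub_self]
  have hdecomp : iterateFrobenius (RatFunc F) p e =
      (subst F (p ^ e) hq).comp
        (RatFunc.mapRingHom (Polynomial.mapRingHom (iterateFrobenius F p e)) (hmap _)) := by
    apply IsLocalization.ringHom_ext (nonZeroDivisors F[X])
    apply Polynomial.ringHom_ext
    · intro a
      simp only [RingHom.comp_apply]
      rw [mapRingHom_algebraMap, subst_algebraMap, Polynomial.map_C, Polynomial.aeval_C,
        iterateFrobenius_def, iterateFrobenius_def, RatFunc.algebraMap_C, RatFunc.algebraMap_eq_C,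
        map_pow]
    · simp only [RingHom.comp_apply]
      rw [mapRingHom_algebraMap, subst_algebraMap, Polynomial.map_X, Polynomial.aeval_X,
        iterateFrobenius_def, RatFunc.algebraMap_X]
  rw [hdecomp, hdeg_comp, hdeg_ratFunc_map _ halg, hdeg_subst]

end RatFunc

section Frob2

variable (p : ℕ)

theorem hdeg_frob_ringEquiv {R R' : Type*} [Field R] [Field R'] [ExpChar R p] [ExpChar R' p]
    (f : R ≃+* R') (e : ℕ) :
    hdeg (iterateFrobenius R p e) = hdeg (iterateFrobenius R' p e) := by
  have hcomm : (iterateFrobenius R' p e).comp f.toRingHom =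
      f.toRingHom.comp (iterateFrobenius R p e) := by
    ext x; simp [iterateFrobenius_def]
  have h1 := hdeg_comp f.toRingHom (iterateFrobenius R' p e)
  have h2 := hdeg_comp (iterateFrobenius R p e) f.toRingHom
  rw [hcomm, h2, hdeg_of_bijective f.toRingHom f.bijective, one_mul, mul_one] at h1
  exact h1

end Frob2

section Adjoin

open IntermediateField

variable (p : ℕ) {k M : Type*} [Field k] [Field M] [Algebra k M] [ExpChar k p] [ExpChar M p]

theorem hdeg_frob_eq_of_eq (e : ℕ) (E₁ E₂ : IntermediateField k M) (h : E₁ = E₂) :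
    hdeg (iterateFrobenius E₁ p e) = hdeg (iterateFrobenius E₂ p e) := by
  subst h; rfl

/-- The degree of Frobenius on a purely transcendental extension of a perfect field. -/
theorem hdeg_frob_adjoin_finset [PerfectField k] (e : ℕ) (s : Finset M)
    (hs : AlgebraicIndepOn k (id : M → M) (s : Set M)) :
    hdeg (iterateFrobenius (adjoin k (s : Set M)) p e) = (p ^ e) ^ s.card := by
  classical
  induction s using Finset.induction_on with
  | empty =>
    have h1 := hdeg_frob_eq_of_eq p e (adjoin k ((∅ : Finset M) : Set M)) ⊥
      (by rw [Finset.coe_empty, adjoin_empty])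
    rw [h1, Finset.card_empty, pow_zero]
    have h2 := hdeg_frob_of_finite p (E := k) (M := (⊥ : IntermediateField k M)) e
    rw [h2]
    haveI : PerfectRing k p := inferInstance
    exact hdeg_of_bijective _ (bijective_iterateFrobenius k p e)
  | insert a s ha ih =>
    rw [Finset.coe_insert] at hs
    obtain ⟨hs₀, htr⟩ := (AlgebraicIndepOn.insert_iff (by simpa using ha)).mp hs
    rw [Set.image_id] at htr
    have htr' : Transcendental (adjoin k (s : Set M)) a :=
      IntermediateField.transcendental_adjoin_iff.mpr htr
    have ih' := ih hs₀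
    -- the simple transcendental extension
    let E := adjoin k (s : Set M)
    let θ : RatFunc E ≃ₐ[E] (adjoin E {a}) := RatFunc.algEquivOfTranscendental a htr'
    haveI : ExpChar (RatFunc E) p :=
      expChar_of_injective_algebraMap (algebraMap E (RatFunc E)).injective p
    have h1 : hdeg (iterateFrobenius (adjoin E {a}) p e) =
        hdeg (iterateFrobenius E p e) * p ^ e := by
      rw [← hdeg_frob_ringEquiv p θ.toRingEquiv e, hdeg_frob_ratFunc]
    have heq : adjoin k ((insert a s : Finset M) : Set M) = (adjoin E {a}).restrictScalars k := by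
      rw [adjoin_adjoin_left, Finset.coe_insert, Set.union_singleton]
    have h2 := hdeg_frob_eq_of_eq p e _ _ heq
    rw [h2, Finset.card_insert_of_notMem ha, pow_succ, ← ih']
    exact h1

/-- **The degree of Frobenius**: for a finitely generated field extension `M / k` of a perfect
field of characteristic `p`, `[M : M ^ (p ^ e)] = (p ^ e) ^ trdeg`. -/
theorem hdeg_frob_eq_pow_trdeg [PerfectField k] [Algebra.EssFiniteType k M] (e n : ℕ)
    (hn : Algebra.trdeg k M = n) : hdeg (iterateFrobenius M p e) = (p ^ e) ^ n := by
  obtain ⟨s, hs, hsep⟩ := exists_isTranscendenceBasis_and_isSeparable_of_perfectField k M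
  have halg : Algebra.IsAlgebraic (adjoin k (s : Set M)) M := inferInstance
  haveI : Algebra.EssFiniteType (adjoin k (s : Set M)) M :=
    Algebra.EssFiniteType.of_comp k _ _
  haveI : Module.Finite (adjoin k (s : Set M)) M :=
    Algebra.finite_of_essFiniteType_of_isAlgebraic
  rw [hdeg_frob_of_finite p (E := adjoin k (s : Set M)) (M := M) e,
    hdeg_frob_adjoin_finset p e s hs.1]
  have hcard : (s.card : Cardinal) = (n : Cardinal) := by
    rw [← hn, ← hs.cardinalMk_eq_trdeg]
    simp
  congr 1
  exact_mod_cast hcard

end Adjoin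

end Groth.Agent.Lib.Helper23.FrobDeg
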