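import Mathlib
import Groth.Prelude.Def_WeilCoh
import Groth.Prelude.Def_CurvBase
import Groth.Agent.Lib.Helper12.SchemeDimFT2
import Groth.Agent.Lib.Helper23.FrobDeg
import Groth.Agent.Lib.Helper23.PullbackResField

/-!
# The degree of the geometric Frobenius (helper23)

For `X` over a finite field `k₀` with `q` elements, `Xb = X ×_{k₀} k` over a perfect field `k`, and
`F = Frob_q × id`, the residue degree of `F` at a point `z` of `Xb` is `q ^ trdeg_k κ(z)`.
-/

universe u

open AlgebraicGeometry CategoryTheory CategoryTheory.Limits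

namespace Groth.Agent.Lib.Helper23.FrobGeom

open Groth.Agent.Lib.Helper12.SchemeDimFT Groth.Agent.Lib.Helper23.FrobDeg
  Groth.Agent.Lib.Helper23.PullbackResField

attribute [local instance] Curv2.resAlgebra

section Germ

/-- The value of the residue field map on the residue of a germ. -/
theorem residueFieldMap_residue_germ {X Y : Scheme.{u}} (a : Y ⟶ X) (z : Y) (U : X.Opens)
    (hz : a z ∈ U) (s : Γ(X, U)) :
    (a.residueFieldMap z).hom ((X.residue (a z)).hom ((X.presheaf.germ U (a z) hz).hom s)) =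
      (Y.residue z).hom ((Y.presheaf.germ (a ⁻¹ᵁ U) z hz).hom ((a.app U).hom s)) := by
  have h1 := congrArg (fun φ => φ.hom ((X.presheaf.germ U (a z) hz).hom s))
    (Scheme.residue_residueFieldMap a z)
  have h3 := Scheme.Hom.germ_stalkMap_apply a U z hz s
  simp only [CommRingCat.hom_comp, RingHom.comp_apply] at h1
  rw [h1]
  exact congrArg (Y.residue z).hom h3

theorem residueFieldMap_residue_germ_congr {X Y : Scheme.{u}} {a b : Y ⟶ X} (h : a = b) (z : Y)
    (U : X.Opens) (hz : a z ∈ U) (hz' : b z ∈ U) (s : Γ(X, U)) :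
    (a.residueFieldMap z).hom ((X.residue (a z)).hom ((X.presheaf.germ U (a z) hz).hom s)) =
    (b.residueFieldMap z).hom ((X.residue (b z)).hom ((X.presheaf.germ U (b z) hz').hom s)) := by
  subst h; rfl

/-- Every element of a residue field is the residue of the germ of a section. -/
theorem exists_residue_germ {X : Scheme.{u}} (x : X) (y : X.residueField x) :
    ∃ (U : X.Opens) (hx : x ∈ U) (s : Γ(X, U)),
      (X.residue x).hom ((X.presheaf.germ U x hx).hom s) = y := by
  obtain ⟨t, rfl⟩ := IsLocalRing.residue_surjective y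
  obtain ⟨U, hx, s, hs⟩ := X.presheaf.exists_germ_eq t
  exact ⟨U, hx, s, congrArg (X.residue x).hom hs⟩

/-- The residue field maps of the absolute `q`-Frobenius are the `q`-th power maps. -/
theorem frob_residueFieldMap {X : Scheme.{u}} (q : ℕ) (FX : X ⟶ X)
    (hle : ∀ U : X.Opens, U ≤ FX ⁻¹ᵁ U)
    (hFapp : ∀ (U : X.Opens) (s : Γ(X, U)), (FX.appLE U U (hle U)).hom s = s ^ q)
    (x : X) (U : X.Opens) (hx : x ∈ U) (hx' : FX x ∈ U) (s : Γ(X, U)) :
    (FX.residueFieldMap x).hom ((X.residue (FX x)).hom ((X.presheaf.germ U (FX x) hx').hom s)) =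
      ((X.residue x).hom ((X.presheaf.germ U x hx).hom s)) ^ q := by
  rw [residueFieldMap_residue_germ FX x U hx' s, ← map_pow, ← map_pow, ← hFapp U s]
  congr 1
  unfold Scheme.Hom.appLE
  rw [CommRingCat.hom_comp, RingHom.comp_apply]
  exact (TopCat.Presheaf.germ_res_apply X.presheaf (homOfLE (hle U)) x hx _).symm

end Germ

section SpecField

variable (k : Type u) [Field k]

/-- The residue field of the point of `Spec k` is `k`. -/
theorem resMap_spec_surjective (s : Spec (CommRingCat.of k)) :
    letI : (Spec (CommRingCat.of k)).Over (Spec (CommRingCat.of k)) := ⟨𝟙 _⟩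
    Function.Surjective (Curv2.resMap k (Spec (CommRingCat.of k)) s) := by
  letI : (Spec (CommRingCat.of k)).Over (Spec (CommRingCat.of k)) := ⟨𝟙 _⟩
  have hbot : s.asIdeal = ⊥ := Ideal.eq_bot_of_prime s.asIdeal
  haveI : s.asIdeal.IsMaximal := hbot ▸ Ideal.bot_isMaximal
  have h1 := Ideal.algebraMap_residueField_surjective s.asIdeal
  have h2 := (ConcreteCategory.bijective_of_isIso
    (Scheme.Spec.residueFieldIso (CommRingCat.of k) s).inv).2
  have h3 := Scheme.Spec.algebraMap_residueFieldIso_inv (CommRingCat.of k) s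
  intro y
  obtain ⟨y', rfl⟩ := h2 y
  obtain ⟨c, rfl⟩ := h1 y'
  refine ⟨c, ?_⟩
  have h4 := congrArg (fun φ => φ.hom c) h3
  simp only [CommRingCat.hom_comp, RingHom.comp_apply, CommRingCat.hom_ofHom] at h4
  rw [h4]
  change ((Spec (CommRingCat.of k)).residue s).hom
    (((Spec (CommRingCat.of k)).presheaf.germ ⊤ s trivial).hom
      (Coh.toGlobal (𝟙 (Spec (CommRingCat.of k))) c)) = _
  simp only [Coh.toGlobal, RingHom.comp_apply, Scheme.Hom.id_appTop]
  rfl

end SpecField

end Groth.Agent.Lib.Helper23.FrobGeom
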