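import Mathlib
import Groth.Prelude.Def_WeilCoh
import Groth.Prelude.Def_CurvBase
import Groth.Agent.Lib.Helper12.SchemeDimFT2
import Groth.Agent.Lib.Helper23.FrobGeom

/-!
# The degree of the geometric Frobenius, II (helper23)
-/

universe u

open AlgebraicGeometry CategoryTheory CategoryTheory.Limits

namespace Groth.Agent.Lib.Helper23.FrobGeom

open Groth.Agent.Lib.Helper12.SchemeDimFT Groth.Agent.Lib.Helper23.FrobDeg
  Groth.Agent.Lib.Helper23.PullbackResField

attribute [local instance] Curv2.resAlgebra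

section EssFin

variable (k : Type u) [Field k] (X : Scheme.{u}) [X.Over (Spec (CommRingCat.of k))]
  [LocallyOfFiniteType (X ↘ Spec (CommRingCat.of k))]

/-- Residue fields of a scheme locally of finite type over a field are finitely generated. -/
theorem essFiniteType_residueField (x : X) : Algebra.EssFiniteType k (X.residueField x) := by
  obtain ⟨U, hU, hx⟩ := exists_affineOpen_mem X x
  letI := secAlgebra k X U
  haveI := finiteType_sec k X U hU
  obtain ⟨e⟩ := nonempty_algEquiv_residueField k X U hU x hx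
  have h1 : Algebra.EssFiniteType k (hU.primeIdealOf ⟨x, hx⟩).asIdeal.ResidueField :=
    Algebra.EssFiniteType.comp k Γ(X, U) _
  exact (Algebra.EssFiniteType.iff_of_algEquiv e).mp h1

end EssFin

section Main

variable (k₀ k : Type u) [Field k₀] [Field k] [Algebra k₀ k] (p e : ℕ)
variable {X Xb : Scheme.{u}} (f : X ⟶ Spec (CommRingCat.of k₀)) (FX : X ⟶ X)
  (hFb : FX.base = 𝟙 _) (hle : ∀ U : X.Opens, U ≤ FX ⁻¹ᵁ U)
  (hFapp : ∀ (U : X.Opens) (s : Γ(X, U)), (FX.appLE U U (hle U)).hom s = s ^ (p ^ e))
  (π : Xb ⟶ X) (pb : Xb ⟶ Spec (CommRingCat.of k))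
  (hπ : IsPullback π pb f (Spec.map (CommRingCat.ofHom (algebraMap k₀ k))))
  (F : Xb ⟶ Xb) (hFk : F ≫ pb = pb) (hF : F ≫ π = π ≫ FX)

include hFb in
theorem frob_apply (x : X) : FX x = x := by
  change FX.base x = x
  rw [hFb]
  rfl

include hFb hF in
theorem pi_frob_apply (z : Xb) : π (F z) = π z := by
  have h := congrArg (fun g : Xb ⟶ X => g z) hF
  exact h.trans (frob_apply FX hFb (π z))

/-- The image of `k` in the residue field at a point of a `k`-scheme. -/
theorem range_residueFieldMap_structure (w : Xb) :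
    letI : Xb.Over (Spec (CommRingCat.of k)) := ⟨pb⟩
    Set.range (pb.residueFieldMap w).hom = Set.range (Curv2.resMap k Xb w) := by
  letI : Xb.Over (Spec (CommRingCat.of k)) := ⟨pb⟩
  letI : (Spec (CommRingCat.of k)).Over (Spec (CommRingCat.of k)) := ⟨𝟙 _⟩
  have hkey : ∀ c : k, (pb.residueFieldMap w).hom
      (Curv2.resMap k (Spec (CommRingCat.of k)) (pb w) c) = Curv2.resMap k Xb w c :=
    fun c => residueFieldMap_resMap k (𝟙 _) pb pb (Category.comp_id _) w c
  ext y
  constructor
  · rintro ⟨b, rfl⟩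
    obtain ⟨c, rfl⟩ := resMap_spec_surjective k (pb w) b
    exact ⟨c, (hkey c).symm⟩
  · rintro ⟨c, rfl⟩
    exact ⟨_, hkey c⟩

include hFb hle hFapp hF in
theorem frob_pi_apply (z : Xb) (U : X.Opens) (h1 : π (F z) ∈ U) (h2 : π z ∈ U) (s : Γ(X, U)) :
    (F.residueFieldMap z).hom ((π.residueFieldMap (F z)).hom
      ((X.residue (π (F z))).hom ((X.presheaf.germ U (π (F z)) h1).hom s))) =
      ((π.residueFieldMap z).hom
        ((X.residue (π z)).hom ((X.presheaf.germ U (π z) h2).hom s))) ^ (p ^ e) := by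
  have h3 : FX (π z) ∈ U := by rw [frob_apply FX hFb]; exact h2
  have e1 : ((F ≫ π).residueFieldMap z).hom
      ((X.residue (π (F z))).hom ((X.presheaf.germ U (π (F z)) h1).hom s)) =
      (F.residueFieldMap z).hom ((π.residueFieldMap (F z)).hom
        ((X.residue (π (F z))).hom ((X.presheaf.germ U (π (F z)) h1).hom s))) :=
    congrArg (fun ψ => ψ.hom ((X.residue (π (F z))).hom ((X.presheaf.germ U (π (F z)) h1).hom s)))
      (Scheme.residueFieldMap_comp F π z)
  have e2 : ((F ≫ π).residueFieldMap z).hom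
      ((X.residue (π (F z))).hom ((X.presheaf.germ U (π (F z)) h1).hom s)) =
      ((π ≫ FX).residueFieldMap z).hom
      ((X.residue (FX (π z))).hom ((X.presheaf.germ U (FX (π z)) h3).hom s)) :=
    residueFieldMap_residue_germ_congr hF z U h1 h3 s
  have e3 : ((π ≫ FX).residueFieldMap z).hom
      ((X.residue (FX (π z))).hom ((X.presheaf.germ U (FX (π z)) h3).hom s)) =
      (π.residueFieldMap z).hom ((FX.residueFieldMap (π z)).hom
        ((X.residue (FX (π z))).hom ((X.presheaf.germ U (FX (π z)) h3).hom s))) :=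
    congrArg (fun ψ => ψ.hom ((X.residue (FX (π z))).hom
      ((X.presheaf.germ U (FX (π z)) h3).hom s))) (Scheme.residueFieldMap_comp π FX z)
  rw [← e1, e2, e3, frob_residueFieldMap (p ^ e) FX hle hFapp (π z) U h2 h3 s, map_pow]

variable [ExpChar k p] [PerfectField k]

include hFb hle hFapp hπ hFk hF in
/-- The residue degree of the geometric Frobenius at a point is `q ^ trdeg`. -/
theorem residueDegree_frob [LocallyOfFiniteType pb] (z : Xb) (n : ℕ)
    (hn : letI : Xb.Over (Spec (CommRingCat.of k)) := ⟨pb⟩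
      Algebra.trdeg k (Xb.residueField z) = n) :
    F.residueDegree z = (p ^ e) ^ n := by
  letI : Xb.Over (Spec (CommRingCat.of k)) := ⟨pb⟩
  haveI : LocallyOfFiniteType (Xb ↘ Spec (CommRingCat.of k)) := ‹LocallyOfFiniteType pb›
  haveI : ExpChar (Xb.residueField z) p :=
    expChar_of_injective_algebraMap (algebraMap k (Xb.residueField z)).injective p
  haveI : Algebra.EssFiniteType k (Xb.residueField z) := essFiniteType_residueField k Xb z
  have hPB := hdeg_frob_eq_pow_trdeg p (k := k) (M := Xb.residueField z) e n hn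
  have hpt := pi_frob_apply FX hFb π F hF z
  -- the two images
  have himg1 : (F.residueFieldMap z).hom '' Set.range (π.residueFieldMap (F z)).hom =
      (iterateFrobenius (Xb.residueField z) p e) '' Set.range (π.residueFieldMap z).hom := by
    ext y
    constructor
    · rintro ⟨_, ⟨b, rfl⟩, rfl⟩
      obtain ⟨U, h1, s, rfl⟩ := exists_residue_germ (π (F z)) b
      have h2 : π z ∈ U := hpt ▸ h1
      refine ⟨_, ⟨(X.residue (π z)).hom ((X.presheaf.germ U (π z) h2).hom s), rfl⟩, ?_⟩
      rw [iterateFrobenius_def]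
      exact (frob_pi_apply p e FX hFb hle hFapp π F hF z U h1 h2 s).symm
    · rintro ⟨_, ⟨b, rfl⟩, rfl⟩
      obtain ⟨U, h2, s, rfl⟩ := exists_residue_germ (π z) b
      have h1 : π (F z) ∈ U := hpt.symm ▸ h2
      refine ⟨_, ⟨(X.residue (π (F z))).hom ((X.presheaf.germ U (π (F z)) h1).hom s), rfl⟩, ?_⟩
      rw [iterateFrobenius_def]
      exact frob_pi_apply p e FX hFb hle hFapp π F hF z U h1 h2 s
  have himg2 : (F.residueFieldMap z).hom '' Set.range (pb.residueFieldMap (F z)).hom =
      (iterateFrobenius (Xb.residueField z) p e) '' Set.range (pb.residueFieldMap z).hom := by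
    rw [range_residueFieldMap_structure k pb (F z), range_residueFieldMap_structure k pb z]
    have hk : ∀ c : k, (F.residueFieldMap z).hom (Curv2.resMap k Xb (F z) c) =
        Curv2.resMap k Xb z c := fun c => residueFieldMap_resMap k pb pb F hFk z c
    haveI : PerfectRing k p := inferInstance
    ext y
    constructor
    · rintro ⟨_, ⟨c, rfl⟩, rfl⟩
      obtain ⟨c', rfl⟩ := (bijective_iterateFrobenius k p e).2 c
      refine ⟨_, ⟨c', rfl⟩, ?_⟩
      rw [hk, iterateFrobenius_def, iterateFrobenius_def, map_pow]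
    · rintro ⟨_, ⟨c, rfl⟩, rfl⟩
      refine ⟨_, ⟨c ^ p ^ e, rfl⟩, ?_⟩
      rw [hk, iterateFrobenius_def, map_pow]
  have hG' := gen_of_isPullback hπ (F z)
  have hG := gen_of_isPullback hπ z
  have hfr : (F.residueFieldMap z).hom.fieldRange =
      (iterateFrobenius (Xb.residueField z) p e).fieldRange := by
    rw [RingHom.fieldRange_eq_map, RingHom.fieldRange_eq_map, ← hG', ← hG,
      RingHom.map_field_closure, RingHom.map_field_closure, Set.image_union, Set.image_union,
      himg1, himg2]
  have hrange : (F.residueFieldMap z).hom.range =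
      (iterateFrobenius (Xb.residueField z) p e).range := by
    ext x
    rw [RingHom.mem_range, RingHom.mem_range, ← RingHom.mem_fieldRange, ← RingHom.mem_fieldRange,
      hfr]
  have hdeg : F.residueDegree z = hdeg (F.residueFieldMap z).hom := rfl
  rw [hdeg, hdeg_eq_of_range_eq _ _ hrange, hPB]

end Main

end Groth.Agent.Lib.Helper23.FrobGeom
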