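import Mathlib

/-!
# Rational points at closed points and the maximal ideal of a point of a fibre product (helper23)
-/

universe u

open AlgebraicGeometry CategoryTheory CategoryTheory.Limits

namespace Groth.Agent.Lib.Helper23.KPoint

section Kappa

variable {k : Type u} [Field k] {X : Scheme.{u}} (pb : X ⟶ Spec (CommRingCat.of k)) (w : X)

/-- The structure map from the base field to the local ring at a point. -/
noncomputable def kappa : CommRingCat.of k ⟶ X.presheaf.stalk w :=
  (Scheme.ΓSpecIso (CommRingCat.of k)).inv ≫ pb.appTop ≫ X.presheaf.germ ⊤ w trivial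

theorem SpecMap_kappa : Spec.map (kappa pb w) = X.fromSpecStalk w ≫ pb := by
  have h1 := Scheme.toSpecΓ_naturality pb
  have h2 := Scheme.fromSpecStalk_toSpecΓ X w
  have h3 := toSpecΓ_SpecMap_ΓSpecIso_inv (CommRingCat.of k)
  calc Spec.map (kappa pb w)
      = Spec.map (X.presheaf.germ ⊤ w trivial) ≫ Spec.map pb.appTop ≫
          Spec.map (Scheme.ΓSpecIso (CommRingCat.of k)).inv := by
        unfold kappa
        rw [Spec.map_comp, Spec.map_comp, Category.assoc]
    _ = (X.fromSpecStalk w ≫ X.toSpecΓ) ≫ Spec.map pb.appTop ≫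
          Spec.map (Scheme.ΓSpecIso (CommRingCat.of k)).inv := by rw [h2]
    _ = X.fromSpecStalk w ≫ (pb ≫ (Spec (CommRingCat.of k)).toSpecΓ) ≫
          Spec.map (Scheme.ΓSpecIso (CommRingCat.of k)).inv := by
        rw [h1]
        simp only [Category.assoc]
    _ = X.fromSpecStalk w ≫ pb := by
        rw [Category.assoc, h3, Category.comp_id]

theorem kappa_injective : Function.Injective (kappa pb w).hom :=
  (kappa pb w).hom.injective

/-- The structure maps are compatible with morphisms over the base. -/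
theorem stalkMap_kappa {Y : Scheme.{u}} (pY : Y ⟶ Spec (CommRingCat.of k)) (G : Y ⟶ X)
    (hG : G ≫ pb = pY) (y : Y) : kappa pb (G y) ≫ G.stalkMap y = kappa pY y := by
  apply Spec.map_injective
  rw [Spec.map_comp, SpecMap_kappa, SpecMap_kappa, ← Category.assoc,
    Scheme.SpecMap_stalkMap_fromSpecStalk, Category.assoc, hG]

end Kappa

section Ev

variable {k : Type u} [Field k] [IsAlgClosed k] {X : Scheme.{u}}
  (pb : X ⟶ Spec (CommRingCat.of k)) [LocallyOfFiniteType pb] (w : X)
  (hw : IsClosed ({w} : Set X))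

/-- Evaluation at a closed point of a scheme of finite type over an algebraically closed field. -/
noncomputable def ev : X.presheaf.stalk w ⟶ CommRingCat.of k :=
  X.residue w ≫ (residueFieldIsoBase pb w hw).hom

theorem SpecMap_ev_fromSpecStalk :
    Spec.map (ev pb w hw) ≫ X.fromSpecStalk w = pointOfClosedPoint pb w hw := by
  unfold ev pointOfClosedPoint Scheme.fromSpecResidueField
  rw [Spec.map_comp, Category.assoc]

theorem kappa_ev : kappa pb w ≫ ev pb w hw = 𝟙 _ := by
  apply Spec.map_injective
  rw [Spec.map_comp, SpecMap_kappa, ← Category.assoc, SpecMap_ev_fromSpecStalk,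
    pointOfClosedPoint_comp, Spec.map_id]

theorem ev_kappa_apply (c : k) : (ev pb w hw).hom ((kappa pb w).hom c) = c := by
  have h := congrArg (fun φ => φ.hom c) (kappa_ev pb w hw)
  exact h

theorem ker_ev : RingHom.ker (ev pb w hw).hom = IsLocalRing.maximalIdeal (X.presheaf.stalk w) := by
  ext r
  rw [RingHom.mem_ker]
  unfold ev
  rw [CommRingCat.hom_comp, RingHom.comp_apply,
    map_eq_zero_iff _ (residueFieldIsoBase pb w hw).hom.hom.injective]
  exact IsLocalRing.residue_eq_zero_iff r

end Ev

section MaxLe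

variable {k₀ k : Type u} [Field k₀] [Field k] [IsAlgClosed k]
variable {X₀ X : Scheme.{u}} {f : X₀ ⟶ Spec (CommRingCat.of k₀)}
  {g₀ : Spec (CommRingCat.of k) ⟶ Spec (CommRingCat.of k₀)}
  {π : X ⟶ X₀} {pb : X ⟶ Spec (CommRingCat.of k)} [LocallyOfFiniteType pb]

/-- In a fibre product `X = X₀ ×_{k₀} k`, an ideal of the local ring at a closed point `w`
containing all `π^* g - (π^* g)(w)` contains the maximal ideal. -/
theorem maximalIdeal_le_of_forall (hπ : IsPullback π pb f g₀) (w : X)
    (hw : IsClosed ({w} : Set X)) (I : Ideal (X.presheaf.stalk w))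
    (hI : ∀ g : X₀.presheaf.stalk (π w), (π.stalkMap w).hom g -
      (kappa pb w).hom ((ev pb w hw).hom ((π.stalkMap w).hom g)) ∈ I) :
    IsLocalRing.maximalIdeal (X.presheaf.stalk w) ≤ I := by
  let ψ : X.presheaf.stalk w ⟶ CommRingCat.of (X.presheaf.stalk w ⧸ I) :=
    CommRingCat.ofHom (Ideal.Quotient.mk I)
  let β : X.presheaf.stalk w ⟶ CommRingCat.of (X.presheaf.stalk w ⧸ I) :=
    ev pb w hw ≫ kappa pb w ≫ ψ
  have hψβ : ψ = β := by
    apply Spec.map_injective
    rw [← cancel_mono (X.fromSpecStalk w)]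
    apply hπ.hom_ext
    · rw [Category.assoc, Category.assoc, ← Scheme.SpecMap_stalkMap_fromSpecStalk,
        ← Category.assoc, ← Category.assoc, ← Spec.map_comp, ← Spec.map_comp]
      congr 2
      ext g
      change Ideal.Quotient.mk I ((π.stalkMap w).hom g) =
        Ideal.Quotient.mk I ((kappa pb w).hom ((ev pb w hw).hom ((π.stalkMap w).hom g)))
      exact Ideal.Quotient.eq.mpr (hI g)
    · rw [Category.assoc, Category.assoc, ← SpecMap_kappa, ← Spec.map_comp, ← Spec.map_comp]
      congr 1
      change kappa pb w ≫ ψ = kappa pb w ≫ ev pb w hw ≫ kappa pb w ≫ ψ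
      rw [← Category.assoc (kappa pb w) (ev pb w hw), kappa_ev, Category.id_comp]
  intro r hr
  rw [← ker_ev pb w hw, RingHom.mem_ker] at hr
  have h1 : ψ.hom r = β.hom r := by rw [hψβ]
  have h2 : β.hom r = 0 := by
    change Ideal.Quotient.mk I ((kappa pb w).hom ((ev pb w hw).hom r)) = 0
    rw [hr, map_zero, map_zero]
  rw [h2] at h1
  exact Ideal.Quotient.eq_zero_iff_mem.mp h1

end MaxLe

end Groth.Agent.Lib.Helper23.KPoint
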