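import Mathlib
import Groth.Prelude.Def_WeilCoh
import Groth.Agent.Lib.Helper23.WeilCohGraph

/-!
# Weil cohomology: closed points (helper23)
-/

universe u v w

open AlgebraicGeometry CategoryTheory

namespace Groth.Agent.Lib.Helper23.WeilCohPt

/-- A morphism with a section has residue degree one at the points of the section. -/
theorem residueDegree_eq_one_of_section {X S : Scheme.{u}} (p : X ⟶ S) (j : S ⟶ X)
    (h : j ≫ p = 𝟙 S) (t : S) (x : X) (hx : j t = x) : p.residueDegree x = 1 := by
  subst hx
  have hiso : IsIso ((j ≫ p).residueFieldMap t) := by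
    rw [h]; infer_instance
  have e1 : ∀ y, ((j ≫ p).residueFieldMap t).hom ((inv ((j ≫ p).residueFieldMap t)).hom y) = y :=
    fun y => congrArg (fun φ => φ.hom y) (IsIso.inv_hom_id ((j ≫ p).residueFieldMap t))
  have e1' : ∀ y, (inv ((j ≫ p).residueFieldMap t)).hom (((j ≫ p).residueFieldMap t).hom y) = y :=
    fun y => congrArg (fun φ => φ.hom y) (IsIso.hom_inv_id ((j ≫ p).residueFieldMap t))
  have e2 : ∀ z, ((j ≫ p).residueFieldMap t).hom z =
      (j.residueFieldMap t).hom ((p.residueFieldMap (j t)).hom z) :=
    fun z => congrArg (fun φ => φ.hom z) (Scheme.residueFieldMap_comp j p t)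
  have hjinj : Function.Injective (j.residueFieldMap t).hom :=
    (j.residueFieldMap t).hom.injective
  have hsurj : Function.Surjective (p.residueFieldMap (j t)).hom := by
    intro y
    refine ⟨(inv ((j ≫ p).residueFieldMap t)).hom ((j.residueFieldMap t).hom y), ?_⟩
    apply hjinj
    rw [← e2, e1]
  unfold Scheme.Hom.residueDegree
  let _ := (p.residueFieldMap (j t)).hom.toAlgebra
  have hbij : Function.Bijective (algebraMap (S.residueField (p (j t))) (X.residueField (j t))) :=
    ⟨(algebraMap (S.residueField (p (j t))) (X.residueField (j t))).injective, hsurj⟩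
  exact ((LinearEquiv.ofBijective (Algebra.linearMap _ _) hbij).finrank_eq).symm.trans
    (Module.finrank_self _)

variable {k : Type u} [Field k] [IsAlgClosed k] {K : Type v} [Field K]

/-- The structure morphism has residue degree one at closed points. -/
theorem residueDegree_toPt (X : WeilCoh.Var k) (x : ↥X.obj.left)
    (hx : IsClosed ({x} : Set ↥X.obj.left)) :
    (WeilCoh.sm (toPt k X)).residueDegree x = 1 := by
  have hsm : Smooth X.obj.hom := X.property.1
  have hft : @LocallyOfFiniteType X.obj.left (Spec (CommRingCat.of k)) X.obj.hom := inferInstance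
  exact residueDegree_eq_one_of_section (S := Spec (CommRingCat.of k)) X.obj.hom
    (pointOfClosedPoint (K := k) X.obj.hom x hx) (pointOfClosedPoint_comp _ _ _)
    (IsLocalRing.closedPoint k) x (pointOfClosedPoint_apply _ _ _ _)

/-- The class of a closed point has trace one. -/
theorem tr_cl_closedPoint (T : WeilCoh.TheoryOn.{u, v, w} k (WeilCoh.IsVar k) K)
    (X : WeilCoh.Var k) (x : ↥X.obj.left) (hx : IsClosed ({x} : Set ↥X.obj.left)) :
    T.tr X (T.cl X x) = 1 := by
  have hpd := pdim_eq_zero_of_isClosed X.obj.left x hx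
  have h1 : (1 : T.H (pt k)) ∈ T.gr (pt k) (2 * (WeilCoh.pdim X.obj.left x : ℤ)) := by
    rw [hpd]
    simpa using SetLike.one_mem_graded (T.gr (pt k))
  have h := T.cl_push (toPt k X) x 1 h1
  rw [map_one, mul_one, residueDegree_toPt X x hx, (T.point (pt k) (dim_pt k)).1, mul_one,
    (T.point (pt k) (dim_pt k)).2] at h
  simpa using h

end Groth.Agent.Lib.Helper23.WeilCohPt
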