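import Mathlib
import Groth.Prelude.Def_WeilCoh
import Groth.Prelude.Def_Cyc
import Groth.Prelude.Def_ChowOps
import Groth.Agent.Lib.Helper3.CycPush
import Groth.Agent.Lib.Helper23.WeilCohPt2

/-!
# Weil cohomology: zero cycles (helper23)

Degree of a zero cycle equals the trace of its class.
-/

universe u v w

open AlgebraicGeometry CategoryTheory

namespace Groth.Agent.Lib.Helper23.WeilCohZero

open Groth.Agent.Lib.Helper23.WeilCohPt

/-- A point of a scheme locally of finite type over a field whose residue field has transcendence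
degree zero over the residue field of its image is a closed point. -/
theorem isClosed_of_trdeg_zero {k : Type u} [Field k] {X : Scheme.{u}}
    (p : X ⟶ Spec (CommRingCat.of k)) [LocallyOfFiniteType p] (x : X)
    (h : (letI := (p.residueFieldMap x).hom.toAlgebra
      Algebra.trdeg ((Spec (CommRingCat.of k)).residueField (p x)) (X.residueField x)) = 0) :
    IsClosed ({x} : Set X) := by
  haveI : JacobsonSpace X := LocallyOfFiniteType.jacobsonSpace p
  rw [isClosed_singleton_iff_locallyOfFiniteType]
  have hfin := Groth.Agent.Lib.Helper3.residueField_finite_of_trdeg_zero p x h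
  have hnat := Scheme.Hom.SpecMap_residueFieldMap_fromSpecResidueField p x
  have h1 : IsFinite (Spec.map (p.residueFieldMap x)) := by
    rw [IsFinite.SpecMap_iff]; exact hfin
  have h2 : LocallyOfFiniteType ((Spec (CommRingCat.of k)).fromSpecResidueField (p x)) := by
    rw [← isClosed_singleton_iff_locallyOfFiniteType]
    have hsub : Subsingleton (Spec (CommRingCat.of k)) :=
      (inferInstance : Subsingleton (PrimeSpectrum k))
    have : ({p x} : Set (Spec (CommRingCat.of k))) = Set.univ := by
      ext y; simp only [Set.mem_singleton_iff, Set.mem_univ, iff_true]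
      exact Subsingleton.elim _ _
    rw [this]; exact isClosed_univ
  have h3 : LocallyOfFiniteType (X.fromSpecResidueField x ≫ p) := by
    rw [← hnat]; infer_instance
  exact locallyOfFiniteType_of_comp (X.fromSpecResidueField x) p

/-- On a quasi-compact scheme a cycle has finite support. -/
theorem support_finite {X : Scheme.{u}} [CompactSpace X] (α : AlgebraicCycle X ℤ) :
    (Function.support α).Finite := by
  have h := α.locallyFiniteSupport.finite_inter_support_of_isCompact isCompact_univ
  rw [Set.univ_inter] at h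
  exact h

section

variable {k : Type u} [Field k] [IsAlgClosed k] {K : Type v} [Field K]

theorem compactSpace (X : WeilCoh.Var k) [QuasiCompact X.obj.hom] : CompactSpace X.obj.left :=
  QuasiCompact.compactSpace_of_compactSpace X.obj.hom

/-- The support of a zero cycle consists of closed points. -/
theorem isClosed_of_ne_zero (X : WeilCoh.Var k)
    (δ : ↥X.obj.left → ℤ) (hδ : Cyc.DeltaCompat X.obj.hom δ (fun _ => 0))
    (α : AlgebraicCycle X.obj.left ℤ) (hα : α ∈ Cyc.Zk X.obj.left δ 0) (x : ↥X.obj.left)
    (hx : α x ≠ 0) : IsClosed ({x} : Set ↥X.obj.left) := by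
  have hsm : Smooth X.obj.hom := X.property.1
  have hlft : LocallyOfFiniteType X.obj.hom := inferInstance
  have hδx : δ x = 0 := by
    by_contra h; exact hx (hα x h)
  obtain ⟨n, hn, hn'⟩ := hδ x
  have hn0 : n = 0 := by
    rw [hδx] at hn'; simp only [zero_add] at hn'; exact_mod_cast hn'.symm
  subst hn0
  exact isClosed_of_trdeg_zero X.obj.hom x (by simpa using hn)

/-- The degree of a zero cycle is the sum of its coefficients. -/
theorem deg_eq_finsum (X : WeilCoh.Var k) [QuasiCompact X.obj.hom]
    (δ : ↥X.obj.left → ℤ) (hδ : Cyc.DeltaCompat X.obj.hom δ (fun _ => 0))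
    (α : AlgebraicCycle X.obj.left ℤ) (hα : α ∈ Cyc.Zk X.obj.left δ 0) :
    ChowOps.deg X.obj.hom δ α = ∑ᶠ x : ↥X.obj.left, α x := by
  classical
  unfold ChowOps.deg AlgebraicCycle.map
  rw [Function.locallyFinsupp.map_apply]
  have hsub : Subsingleton (Spec (CommRingCat.of k)) :=
    (inferInstance : Subsingleton (PrimeSpectrum k))
  refine (finsum_mem_congr (Set.eq_univ_of_forall fun x => ?_) (fun x _ => rfl)).trans ?_
  · exact Subsingleton.elim _ _
  rw [finsum_mem_univ]
  apply finsum_congr
  intro x
  by_cases hx : α x = 0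
  · rw [hx, zero_mul]
  · have hcl := isClosed_of_ne_zero X δ hδ α hα x hx
    have hδx : δ x = 0 := by
      by_contra h; exact hx (hα x h)
    have hdeg : X.obj.hom.residueDegree x = 1 := residueDegree_toPt X x hcl
    unfold AlgebraicCycle.mapCoeff
    rw [if_pos hδx, hdeg]
    simp

variable (T : WeilCoh.TheoryOn.{u, v, w} k (WeilCoh.IsVar k) K)

theorem clCyc_eq_sum (X : WeilCoh.Var k) [QuasiCompact X.obj.hom]
    (α : AlgebraicCycle X.obj.left ℤ) :
    haveI := compactSpace X
    T.clCyc X α = ∑ x ∈ (support_finite α).toFinset, ((α x : ℤ) : K) • T.cl X x := by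
  have := compactSpace X
  unfold WeilCoh.TheoryOn.clCyc
  apply finsum_eq_sum_of_support_subset
  intro x hx
  simp only [Set.Finite.coe_toFinset, Function.mem_support]
  intro h0
  apply hx
  simp only [h0, Int.cast_zero, zero_smul]

/-- The class of a zero cycle lives in the top degree. -/
theorem clCyc_mem (X : WeilCoh.Var k) [QuasiCompact X.obj.hom]
    (δ : ↥X.obj.left → ℤ) (hδ : Cyc.DeltaCompat X.obj.hom δ (fun _ => 0))
    (α : AlgebraicCycle X.obj.left ℤ) (hα : α ∈ Cyc.Zk X.obj.left δ 0) :
    T.clCyc X α ∈ T.gr X (2 * (WeilCoh.dim X.obj.left : ℤ)) := by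
  have := compactSpace X
  rw [clCyc_eq_sum T X α]
  refine Submodule.sum_mem _ fun x hx => Submodule.smul_mem _ _ ?_
  have hx' : α x ≠ 0 := by simpa using hx
  have hcl := isClosed_of_ne_zero X δ hδ α hα x hx'
  have h := T.cl_mem X x
  have hc : WeilCoh.codim X.obj.left x = WeilCoh.dim X.obj.left := by
    unfold WeilCoh.codim
    rw [pdim_eq_zero_of_isClosed X.obj.left x hcl, Nat.sub_zero]
  rwa [hc] at h

/-- The degree of a zero cycle equals the trace of its class. -/
theorem deg_eq_tr_clCyc (X : WeilCoh.Var k) [QuasiCompact X.obj.hom]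
    (δ : ↥X.obj.left → ℤ) (hδ : Cyc.DeltaCompat X.obj.hom δ (fun _ => 0))
    (α : AlgebraicCycle X.obj.left ℤ) (hα : α ∈ Cyc.Zk X.obj.left δ 0) :
    (ChowOps.deg X.obj.hom δ α : K) = T.tr X (T.clCyc X α) := by
  have := compactSpace X
  rw [clCyc_eq_sum T X α, deg_eq_finsum X δ hδ α hα, map_sum,
    finsum_eq_sum_of_support_subset (s := (support_finite α).toFinset) _ (by simp),
    Int.cast_sum]
  refine Finset.sum_congr rfl fun x hx => ?_
  have hx' : α x ≠ 0 := by simpa using hx
  have hcl := isClosed_of_ne_zero X δ hδ α hα x hx'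
  rw [map_smul, tr_cl_closedPoint T X x hcl, smul_eq_mul, mul_one]

/-- A zero cycle is homologically trivial iff its degree vanishes. -/
theorem isHomEquivZero_iff [CharZero K] (X : WeilCoh.Var k) [QuasiCompact X.obj.hom]
    (δ : ↥X.obj.left → ℤ) (hδ : Cyc.DeltaCompat X.obj.hom δ (fun _ => 0))
    (α : AlgebraicCycle X.obj.left ℤ) (hα : α ∈ Cyc.Zk X.obj.left δ 0) :
    T.IsHomEquivZero X α ↔ ChowOps.deg X.obj.hom δ α = 0 := by
  have h := deg_eq_tr_clCyc T X δ hδ α hα
  have hmem := clCyc_mem T X δ hδ α hα
  unfold WeilCoh.TheoryOn.IsHomEquivZero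
  constructor
  · intro h0
    rw [h0, map_zero] at h
    exact_mod_cast h
  · intro h0
    rw [h0, Int.cast_zero] at h
    have hinj := (T.tr_bijective X).1
    have := @hinj ⟨T.clCyc X α, hmem⟩ 0 (by
      simp only [LinearMap.domRestrict_apply, map_zero]
      exact h.symm)
    exact congrArg Subtype.val this

end

end Groth.Agent.Lib.Helper23.WeilCohZero
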