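import Mathlib
import Groth.Prelude.Def_W4c1zetahwZeta
import Groth.Agent.Lib.Helper23.KPoint
import Groth.Agent.Lib.Helper23.FrobGeom2
import Groth.Agent.Lib.Helper23.WeilCohZero

/-!
# Counting the geometric points fixed by a power of Frobenius (helper23)
-/

universe u

open AlgebraicGeometry CategoryTheory CategoryTheory.Limits

namespace Groth.Agent.Lib.Helper23.FixCount

open Groth.Agent.Lib.Helper23.KPoint Groth.Agent.Lib.Helper23.FrobGeom

section FF

/-- In an extension `L` of a finite field `k₀` with `q` elements, every element is fixed by the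
`q ^ m`-th power map iff `L` is finite over `k₀` of degree dividing `m`. -/
theorem forall_pow_eq_iff (k₀ L : Type*) [Field k₀] [Finite k₀] [Field L] [Algebra k₀ L] (m : ℕ)
    (hm : m ≠ 0) :
    (∀ y : L, y ^ (Nat.card k₀ ^ m) = y) ↔
      (Module.finrank k₀ L ≠ 0 ∧ Module.finrank k₀ L ∣ m) := by
  haveI := Fintype.ofFinite k₀
  have hq : Nat.card k₀ = Fintype.card k₀ := Nat.card_eq_fintype_card
  constructor
  · intro h
    have hq1 : 1 < Fintype.card k₀ := Fintype.one_lt_card
    have hP : (Polynomial.X ^ (Fintype.card k₀) ^ m - Polynomial.X : Polynomial L) ≠ 0 :=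
      FiniteField.X_pow_card_pow_sub_X_ne_zero L hm hq1
    haveI : Finite L := by
      have hfin := Polynomial.finite_setOf_isRoot hP
      have huniv : (Set.univ : Set L) ⊆
          {y | (Polynomial.X ^ (Fintype.card k₀) ^ m - Polynomial.X : Polynomial L).IsRoot y} := by
        intro y _
        simp only [Set.mem_setOf_eq, Polynomial.IsRoot, Polynomial.eval_sub, Polynomial.eval_pow,
          Polynomial.eval_X]
        rw [← hq, h y, sub_self]
      exact Set.finite_univ_iff.mp (hfin.subset huniv)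
    refine ⟨Module.finrank_pos.ne', ?_⟩
    rw [← FiniteField.orderOf_frobeniusAlgHom k₀ L]
    apply orderOf_dvd_of_pow_eq_one
    ext y
    rw [AlgHom.coe_pow, FiniteField.coe_frobeniusAlgHom, pow_iterate, AlgHom.one_apply, ← hq]
    exact h y
  · rintro ⟨h0, r, hr⟩ y
    haveI : Module.Finite k₀ L := Module.finite_of_finrank_pos (Nat.pos_of_ne_zero h0)
    haveI : Finite L := Module.finite_of_finite k₀
    have h1 : (FiniteField.frobeniusAlgHom k₀ L) ^ m = 1 := by
      rw [hr, pow_mul, ← FiniteField.orderOf_frobeniusAlgHom k₀ L, pow_orderOf_eq_one, one_pow]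
    have h2 := congrArg (fun φ : L →ₐ[k₀] L => φ y) h1
    simp only [AlgHom.coe_pow, FiniteField.coe_frobeniusAlgHom, pow_iterate,
      AlgHom.one_apply] at h2
    rw [hq]
    exact h2

end FF

section Rho

variable {k₀ : Type u} [Field k₀] {X₀ : Scheme.{u}} (f : X₀ ⟶ Spec (CommRingCat.of k₀)) (x : X₀)

/-- The structure map from the base field to a residue field. -/
noncomputable def rho : CommRingCat.of k₀ ⟶ X₀.residueField x := kappa f x ≫ X₀.residue x

theorem SpecMap_rho : Spec.map (rho f x) = X₀.fromSpecResidueField x ≫ f := by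
  unfold rho Scheme.fromSpecResidueField
  rw [Spec.map_comp, SpecMap_kappa, Category.assoc]

theorem rho_comp_residueFieldMap :
    rho (𝟙 (Spec (CommRingCat.of k₀))) (f x) ≫ f.residueFieldMap x = rho f x := by
  unfold rho
  rw [Category.assoc, Scheme.residue_residueFieldMap, ← Category.assoc,
    stalkMap_kappa (𝟙 _) f f (Category.comp_id f) x]

theorem rho_spec_bijective (s : Spec (CommRingCat.of k₀)) :
    Function.Bijective (rho (𝟙 (Spec (CommRingCat.of k₀))) s).hom := by
  refine ⟨(rho (𝟙 (Spec (CommRingCat.of k₀))) s).hom.injective, ?_⟩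
  letI : (Spec (CommRingCat.of k₀)).Over (Spec (CommRingCat.of k₀)) := ⟨𝟙 _⟩
  exact resMap_spec_surjective k₀ s

theorem finrank_rho_eq :
    (letI := (rho f x).hom.toAlgebra; Module.finrank k₀ (X₀.residueField x)) =
      EGA4loc.residueDegree f x := by
  letI a1 : Algebra k₀ ((Spec (CommRingCat.of k₀)).residueField (f x)) :=
    (rho (𝟙 _) (f x)).hom.toAlgebra
  letI a2 : Algebra ((Spec (CommRingCat.of k₀)).residueField (f x)) (X₀.residueField x) :=
    (f.residueFieldMap x).hom.toAlgebra
  letI a3 : Algebra k₀ (X₀.residueField x) := (rho f x).hom.toAlgebra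
  haveI : IsScalarTower k₀ ((Spec (CommRingCat.of k₀)).residueField (f x))
      (X₀.residueField x) :=
    IsScalarTower.of_algebraMap_eq (fun c => by
      have := congrArg (fun φ => φ.hom c) (rho_comp_residueFieldMap f x)
      exact this.symm)
  have hbij := rho_spec_bijective (f x)
  have h1 : Module.finrank k₀ ((Spec (CommRingCat.of k₀)).residueField (f x)) = 1 :=
    ((LinearEquiv.ofBijective (Algebra.linearMap k₀ _) hbij).finrank_eq).symm.trans
      (Module.finrank_self _)
  have h2 := Module.finrank_mul_finrank k₀ ((Spec (CommRingCat.of k₀)).residueField (f x))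
    (X₀.residueField x)
  rw [h1, one_mul] at h2
  exact h2.symm

end Rho

section Congr

theorem residueFieldCongr_residue_germ {X : Scheme.{u}} {x' x : X} (e : x' = x) (U : X.Opens)
    (h' : x' ∈ U) (h : x ∈ U) (s : Γ(X, U)) :
    (X.residueFieldCongr e).hom.hom ((X.residue x').hom ((X.presheaf.germ U x' h').hom s)) =
      (X.residue x).hom ((X.presheaf.germ U x h).hom s) := by
  subst e
  rfl

end Congr

section Cond

variable {k₀ k : Type u} [Field k₀] [Field k] [Algebra k₀ k]
variable {X₀ : Scheme.{u}} (f : X₀ ⟶ Spec (CommRingCat.of k₀)) (Φ : X₀ ⟶ X₀)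
  (hΦb : Φ.base = 𝟙 _) (hle : ∀ U : X₀.Opens, U ≤ Φ ⁻¹ᵁ U) (Q : ℕ)
  (hΦapp : ∀ (U : X₀.Opens) (s : Γ(X₀, U)), (Φ.appLE U U (hle U)).hom s = s ^ Q)

theorem cond1_iff (x : X₀) (σ : X₀.residueField x ⟶ CommRingCat.of k) :
    (Spec.map σ ≫ X₀.fromSpecResidueField x) ≫ f =
        Spec.map (CommRingCat.ofHom (algebraMap k₀ k)) ↔
      rho f x ≫ σ = CommRingCat.ofHom (algebraMap k₀ k) := by
  rw [Category.assoc, ← SpecMap_rho, ← Spec.map_comp, Spec.map_inj]

include hΦb hle hΦapp in
theorem frob_residue_eq (x : X₀) (y₀ : X₀.residueField (Φ x)) :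
    (Φ.residueFieldMap x).hom y₀ =
      ((X₀.residueFieldCongr (frob_apply Φ hΦb x)).hom.hom y₀) ^ Q := by
  obtain ⟨U, hU', s, rfl⟩ := exists_residue_germ (Φ x) y₀
  have hU : x ∈ U := by
    have := frob_apply Φ hΦb x
    rw [this] at hU'
    exact hU'
  rw [frob_residueFieldMap Q Φ hle hΦapp x U hU hU' s,
    residueFieldCongr_residue_germ (frob_apply Φ hΦb x) U hU' hU s]

include hΦb hle hΦapp in
theorem cond2_iff (x : X₀) (σ : X₀.residueField x ⟶ CommRingCat.of k) :
    (Spec.map σ ≫ X₀.fromSpecResidueField x) ≫ Φ = Spec.map σ ≫ X₀.fromSpecResidueField x ↔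
      ∀ y : X₀.residueField x, y ^ Q = y := by
  have hΦx := frob_apply Φ hΦb x
  have hK := frob_residue_eq Φ hΦb hle Q hΦapp x
  have hstep : (Spec.map σ ≫ X₀.fromSpecResidueField x) ≫ Φ =
      Spec.map (Φ.residueFieldMap x ≫ σ) ≫ X₀.fromSpecResidueField (Φ x) := by
    rw [Category.assoc, ← Scheme.Hom.SpecMap_residueFieldMap_fromSpecResidueField,
      ← Category.assoc, ← Spec.map_comp]
  rw [hstep]
  have hE : Spec.map (Φ.residueFieldMap x ≫ σ) ≫ X₀.fromSpecResidueField (Φ x) =
      Spec.map σ ≫ X₀.fromSpecResidueField x ↔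
      (⟨Φ x, Φ.residueFieldMap x ≫ σ⟩ : Σ x, X₀.residueField x ⟶ CommRingCat.of k) =
        ⟨x, σ⟩ :=
    (Scheme.SpecToEquivOfField k X₀).symm.injective.eq_iff
      (a := ⟨Φ x, Φ.residueFieldMap x ≫ σ⟩) (b := ⟨x, σ⟩)
  rw [hE, Scheme.SpecToEquivOfField_eq_iff]
  constructor
  · rintro ⟨e, he⟩ y
    have h1 := congrArg (fun φ => φ.hom ((X₀.residueFieldCongr hΦx).inv.hom y)) he
    simp only [CommRingCat.hom_comp, RingHom.comp_apply] at h1
    have h2 := σ.hom.injective h1
    have h3 : (X₀.residueFieldCongr hΦx).hom.hom ((X₀.residueFieldCongr hΦx).inv.hom y) = y := by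
      have := congrArg (fun φ => φ.hom y) (X₀.residueFieldCongr hΦx).inv_hom_id
      exact this
    rw [hK, h3] at h2
    exact h2
  · intro h
    refine ⟨hΦx, ?_⟩
    ext y₀
    simp only [CommRingCat.hom_comp, RingHom.comp_apply]
    rw [hK, h]

end Cond

end Groth.Agent.Lib.Helper23.FixCount
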