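import Mathlib
import Groth.Agent.Lib.Helper23.FixCount

/-!
# Counting the geometric points fixed by a power of Frobenius, II (helper23)
-/

universe u

open AlgebraicGeometry CategoryTheory CategoryTheory.Limits

namespace Groth.Agent.Lib.Helper23.FixCount

open Groth.Agent.Lib.Helper23.KPoint Groth.Agent.Lib.Helper23.FrobGeom

section Sigma

/-- Reorganising a subtype of a sigma type. -/
def sigmaSubtypeEquiv {α : Type*} {F : α → Type*} (S' : α → Prop) (R : ∀ a, F a → Prop) :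
    {a : Σ x, F x // R a.1 a.2 ∧ S' a.1} ≃ Σ x : {x // S' x}, {σ : F x.1 // R x.1 σ} where
  toFun a := ⟨⟨a.1.1, a.2.2⟩, ⟨a.1.2, a.2.1⟩⟩
  invFun b := ⟨⟨b.1.1, b.2.1⟩, ⟨b.2.2, b.1.2⟩⟩
  left_inv a := rfl
  right_inv b := rfl

end Sigma

section Count

variable (k₀ k : Type u) [Field k₀] [Finite k₀] [Field k] [IsAlgClosed k] [Algebra k₀ k]
variable {X₀ : Scheme.{u}} (f : X₀ ⟶ Spec (CommRingCat.of k₀)) [LocallyOfFiniteType f]
  (Φ : X₀ ⟶ X₀) (hΦb : Φ.base = 𝟙 _) (hle : ∀ U : X₀.Opens, U ≤ Φ ⁻¹ᵁ U) (m : ℕ) (hm : m ≠ 0)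
  (hΦapp : ∀ (U : X₀.Opens) (s : Γ(X₀, U)),
    (Φ.appLE U U (hle U)).hom s = s ^ (Nat.card k₀ ^ m))

/-- The embeddings of a residue field into `k` over `k₀`. -/
abbrev Hx (x : X₀) : Type u :=
  {σ : X₀.residueField x ⟶ CommRingCat.of k //
    rho f x ≫ σ = CommRingCat.ofHom (algebraMap k₀ k)}

include hΦb hle hΦapp in
/-- The geometric points fixed by `Φ`, as pairs of a point and an embedding. -/
noncomputable def fixedPtsEquiv :
    {u : Spec (CommRingCat.of k) ⟶ X₀ //
        u ≫ f = Spec.map (CommRingCat.ofHom (algebraMap k₀ k)) ∧ u ≫ Φ = u} ≃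
      Σ x : {x : X₀ // ∀ y : X₀.residueField x, y ^ (Nat.card k₀ ^ m) = y}, Hx k₀ k f x.1 :=
  ((Scheme.SpecToEquivOfField k X₀).subtypeEquiv (fun u => by
    have hu : (Scheme.SpecToEquivOfField k X₀).symm ((Scheme.SpecToEquivOfField k X₀) u) = u :=
      Equiv.symm_apply_apply _ u
    have h1 := cond1_iff (k := k) f ((Scheme.SpecToEquivOfField k X₀) u).1
      ((Scheme.SpecToEquivOfField k X₀) u).2
    have h2 := cond2_iff (k := k) Φ hΦb hle (Nat.card k₀ ^ m) hΦapp
      ((Scheme.SpecToEquivOfField k X₀) u).1 ((Scheme.SpecToEquivOfField k X₀) u).2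
    change ((Scheme.SpecToEquivOfField k X₀).symm ((Scheme.SpecToEquivOfField k X₀) u) ≫ f = _ ↔ _)
      at h1
    change ((Scheme.SpecToEquivOfField k X₀).symm ((Scheme.SpecToEquivOfField k X₀) u) ≫ Φ =
      (Scheme.SpecToEquivOfField k X₀).symm ((Scheme.SpecToEquivOfField k X₀) u) ↔ _) at h2
    rw [hu] at h1 h2
    exact and_congr h1 h2)).trans
  (sigmaSubtypeEquiv (F := fun x : X₀ => X₀.residueField x ⟶ CommRingCat.of k)
    (fun x => ∀ y : X₀.residueField x, y ^ (Nat.card k₀ ^ m) = y)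
    (fun x σ => rho f x ≫ σ = CommRingCat.ofHom (algebraMap k₀ k)))

include hm in
theorem isFix_iff (x : X₀) :
    (∀ y : X₀.residueField x, y ^ (Nat.card k₀ ^ m) = y) ↔
      (EGA4loc.residueDegree f x ≠ 0 ∧ EGA4loc.residueDegree f x ∣ m) := by
  letI : Algebra k₀ (X₀.residueField x) := (rho f x).hom.toAlgebra
  have h := forall_pow_eq_iff k₀ (X₀.residueField x) m hm
  rw [finrank_rho_eq f x] at h
  exact h

include hm in
theorem natCard_Hx (x : X₀) (hx : ∀ y : X₀.residueField x, y ^ (Nat.card k₀ ^ m) = y) :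
    Nat.card (Hx k₀ k f x) = EGA4loc.residueDegree f x := by
  letI : Algebra k₀ (X₀.residueField x) := (rho f x).hom.toAlgebra
  have hff := (forall_pow_eq_iff k₀ (X₀.residueField x) m hm).mp hx
  haveI : Module.Finite k₀ (X₀.residueField x) :=
    Module.finite_of_finrank_pos (Nat.pos_of_ne_zero hff.1)
  haveI : Algebra.IsSeparable k₀ (X₀.residueField x) := inferInstance
  let eqv : Hx k₀ k f x ≃ (X₀.residueField x →ₐ[k₀] k) :=
    { toFun := fun σ =>
        { σ.1.hom with commutes' := fun c => congrArg (fun φ => φ.hom c) σ.2 }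
      invFun := fun φ => ⟨CommRingCat.ofHom φ.toRingHom, by
        ext c
        exact φ.commutes c⟩
      left_inv := fun σ => by
        apply Subtype.ext
        rfl
      right_inv := fun φ => by
        ext y
        rfl }
  rw [Nat.card_congr eqv, AlgHom.natCard_of_splits k₀ _ k (fun _ => IsAlgClosed.splits _)]
  exact finrank_rho_eq f x

theorem isClosed_of_residueDegree_ne_zero (x : X₀) (h : EGA4loc.residueDegree f x ≠ 0) :
    IsClosed ({x} : Set X₀) := by
  apply Groth.Agent.Lib.Helper23.WeilCohZero.isClosed_of_trdeg_zero f x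
  letI := (f.residueFieldMap x).hom.toAlgebra
  haveI : Module.Finite ((Spec (CommRingCat.of k₀)).residueField (f x)) (X₀.residueField x) :=
    Module.finite_of_finrank_pos (Nat.pos_of_ne_zero h)
  exact trdeg_eq_zero

include hΦb hle hΦapp hm in
/-- The number of geometric points fixed by the `q ^ m`-Frobenius is `N_m`. -/
theorem natCard_fixedPts
    [Finite {u : Spec (CommRingCat.of k) ⟶ X₀ //
        u ≫ f = Spec.map (CommRingCat.ofHom (algebraMap k₀ k)) ∧ u ≫ Φ = u}] :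
    Nat.card {u : Spec (CommRingCat.of k) ⟶ X₀ //
        u ≫ f = Spec.map (CommRingCat.ofHom (algebraMap k₀ k)) ∧ u ≫ Φ = u} =
      Zeta.nPts f m := by
  classical
  have e1 := fixedPtsEquiv k₀ k f Φ hΦb hle m hΦapp
  haveI : Finite (Σ x : {x : X₀ // ∀ y : X₀.residueField x, y ^ (Nat.card k₀ ^ m) = y},
      Hx k₀ k f x.1) := Finite.of_equiv _ e1
  have hdeg : ∀ x : {x : X₀ // ∀ y : X₀.residueField x, y ^ (Nat.card k₀ ^ m) = y},
      Nat.card (Hx k₀ k f x.1) = EGA4loc.residueDegree f x.1 :=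
    fun x => natCard_Hx k₀ k f m hm x.1 x.2
  have hiff := isFix_iff k₀ f m hm
  have hne0 : ∀ x : {x : X₀ // ∀ y : X₀.residueField x, y ^ (Nat.card k₀ ^ m) = y},
      Nat.card (Hx k₀ k f x.1) ≠ 0 := fun x => by
    rw [hdeg x]
    exact ((hiff x.1).mp x.2).1
  haveI hfinH : ∀ x : {x : X₀ // ∀ y : X₀.residueField x, y ^ (Nat.card k₀ ^ m) = y},
      Finite (Hx k₀ k f x.1) := fun x => Nat.finite_of_card_ne_zero (hne0 x)
  have hne : ∀ x : {x : X₀ // ∀ y : X₀.residueField x, y ^ (Nat.card k₀ ^ m) = y},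
      Nonempty (Hx k₀ k f x.1) := fun x => by
    by_contra hcon
    rw [not_nonempty_iff] at hcon
    exact hne0 x Nat.card_of_isEmpty
  haveI : Finite {x : X₀ // ∀ y : X₀.residueField x, y ^ (Nat.card k₀ ^ m) = y} :=
    Finite.of_surjective
      (fun a : Σ x : {x : X₀ // ∀ y : X₀.residueField x, y ^ (Nat.card k₀ ^ m) = y},
        Hx k₀ k f x.1 => a.1) (fun x => ⟨⟨x, (hne x).some⟩, rfl⟩)
  haveI := Fintype.ofFinite {x : X₀ // ∀ y : X₀.residueField x, y ^ (Nat.card k₀ ^ m) = y}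
  rw [Nat.card_congr e1, Nat.card_sigma]
  simp_rw [hdeg]
  unfold Zeta.nPts
  have hmaps : ∀ x ∈ (Finset.univ :
      Finset {x : X₀ // ∀ y : X₀.residueField x, y ^ (Nat.card k₀ ^ m) = y}),
      EGA4loc.residueDegree f x.1 ∈ m.divisors :=
    fun x _ => Nat.mem_divisors.mpr ⟨((hiff x.1).mp x.2).2, hm⟩
  rw [← Finset.sum_fiberwise_of_maps_to hmaps]
  apply Finset.sum_congr rfl
  intro e he
  rw [Finset.sum_congr rfl (fun x hx => (Finset.mem_filter.mp hx).2), Finset.sum_const,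
    smul_eq_mul, mul_comm]
  congr 1
  unfold Zeta.degCount
  rw [← Fintype.card_subtype, ← Nat.card_eq_fintype_card]
  have he0 : e ≠ 0 := (Nat.pos_of_mem_divisors he).ne'
  have hem : e ∣ m := Nat.dvd_of_mem_divisors he
  apply Nat.card_congr
  exact
    { toFun := fun x => ⟨x.1.1,
        isClosed_of_residueDegree_ne_zero k₀ f x.1.1 (by rw [x.2]; exact he0), x.2⟩
      invFun := fun x => ⟨⟨x.1, (hiff x.1).mpr ⟨by rw [x.2.2]; exact he0,
        by rw [x.2.2]; exact hem⟩⟩, x.2.2⟩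
      left_inv := fun _ => rfl
      right_inv := fun _ => rfl }

end Count

end Groth.Agent.Lib.Helper23.FixCount
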