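import Mathlib
import Groth.Prelude.Def_Cyc
import Groth.Agent.Lib.Helper23.FrobGeom

/-!
# The ideal of the graph pulled back along the diagonal (helper23)

For a section `j` of `p : Q ⟶ X` (a graph) and the diagonal `d`, the pullback along `d` of the
prime ideal of the graph contains the elements `t - G^* t`.
-/

universe u

open AlgebraicGeometry CategoryTheory

namespace Groth.Agent.Lib.Helper23.FixIdeal

open Groth.Agent.Lib.Helper23.FrobGeom

theorem comp_app_apply {X Y Z : Scheme.{u}} (a : Z ⟶ Y) (b : Y ⟶ X) (U : X.Opens) (s : Γ(X, U)) :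
    ((a ≫ b).app U).hom s = (a.app (b ⁻¹ᵁ U)).hom ((b.app U).hom s) := rfl

theorem germ_app_congr {X Y : Scheme.{u}} {a b : Y ⟶ X} (h : a = b) (z : Y) (U : X.Opens)
    (h1 : a z ∈ U) (h2 : b z ∈ U) (s : Γ(X, U)) :
    (Y.presheaf.germ (a ⁻¹ᵁ U) z h1).hom ((a.app U).hom s) =
      (Y.presheaf.germ (b ⁻¹ᵁ U) z h2).hom ((b.app U).hom s) := by
  subst h; rfl

theorem stalkMap_germ_congr {X Y : Scheme.{u}} {a b : Y ⟶ X} (h : a = b) (z : Y) (U : X.Opens)
    (h1 : a z ∈ U) (h2 : b z ∈ U) (s : Γ(X, U)) :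
    (a.stalkMap z).hom ((X.presheaf.germ U (a z) h1).hom s) =
      (b.stalkMap z).hom ((X.presheaf.germ U (b z) h2).hom s) := by
  subst h; rfl

theorem stalkMap_comp_apply {X Y Z : Scheme.{u}} (a : Z ⟶ Y) (b : Y ⟶ X) (z : Z)
    (y : X.presheaf.stalk (b (a z))) :
    ((a ≫ b).stalkMap z).hom y = (a.stalkMap z).hom ((b.stalkMap (a z)).hom y) := by
  have h := congrArg (fun φ => φ.hom y) (Scheme.Hom.stalkMap_comp a b z)
  exact h

theorem stalkMap_germ {X Y : Scheme.{u}} (a : Y ⟶ X) (z : Y) (U : X.Opens) (h1 : a z ∈ U)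
    (s : Γ(X, U)) :
    (a.stalkMap z).hom ((X.presheaf.germ U (a z) h1).hom s) =
      (Y.presheaf.germ (a ⁻¹ᵁ U) z h1).hom ((a.app U).hom s) :=
  Scheme.Hom.germ_stalkMap_apply a U z h1 s

theorem specMap_germ {X : Scheme.{u}} (x ξ : X) (h : ξ ⤳ x) (U : X.Opens) (hx : x ∈ U)
    (s : Γ(X, U)) :
    Cyc.specMap x ξ h ((X.presheaf.germ U x hx).hom s) =
      (X.residue ξ).hom ((X.presheaf.germ U ξ (h.mem_open U.2 hx)).hom s) := by
  have h1 := congrArg (fun φ => φ.hom s) (TopCat.Presheaf.germ_stalkSpecializes X.presheaf hx h)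
  simp only [CommRingCat.hom_comp, RingHom.comp_apply] at h1
  unfold Cyc.specMap
  rw [CommRingCat.hom_comp, RingHom.comp_apply, h1]

/-- The pullback along the diagonal of the ideal of the graph of `G` contains `t - G^* t`. -/
theorem sub_mem_map_ker_specMap {X Q : Scheme.{u}} (p q : Q ⟶ X) (j d : X ⟶ Q) (G : X ⟶ X)
    (hjp : j ≫ p = 𝟙 X) (hjq : j ≫ q = G) (hdp : d ≫ p = 𝟙 X) (hdq : d ≫ q = 𝟙 X)
    (η w : X) (h : j η ⤳ d w) (V : X.Opens) (hw : w ∈ V) (hGw : G w ∈ V) (t : Γ(X, V)) :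
    (X.presheaf.germ V w hw).hom t - (G.stalkMap w).hom ((X.presheaf.germ V (G w) hGw).hom t) ∈
      Ideal.map (d.stalkMap w).hom (RingHom.ker (Cyc.specMap (d w) (j η) h)) := by
  have hqd : q (d w) = w := by
    have := congrArg (fun f : X ⟶ X => f w) hdq
    exact this
  have hpd : p (d w) = w := by
    have := congrArg (fun f : X ⟶ X => f w) hdp
    exact this
  have hz1 : q (d w) ∈ V := by rw [hqd]; exact hw
  have hz2 : (p ≫ G) (d w) ∈ V := by
    change G (p (d w)) ∈ V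
    rw [hpd]; exact hGw
  -- the element of the local ring of `Q`
  set σ : Q.presheaf.stalk (d w) :=
    (q.stalkMap (d w)).hom ((X.presheaf.germ V (q (d w)) hz1).hom t) -
      ((p ≫ G).stalkMap (d w)).hom ((X.presheaf.germ V ((p ≫ G) (d w)) hz2).hom t) with hσ
  -- its image under the diagonal
  have hdpG : d ≫ (p ≫ G) = G := by rw [← Category.assoc, hdp, Category.id_comp]
  have e1 : (d.stalkMap w).hom ((q.stalkMap (d w)).hom
      ((X.presheaf.germ V (q (d w)) hz1).hom t)) = (X.presheaf.germ V w hw).hom t := by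
    refine (stalkMap_comp_apply d q w _).symm.trans ?_
    refine (stalkMap_germ_congr hdq w V hz1 hw t).trans ?_
    rw [Scheme.Hom.stalkMap_id]
    rfl
  have e2 : (d.stalkMap w).hom (((p ≫ G).stalkMap (d w)).hom
      ((X.presheaf.germ V ((p ≫ G) (d w)) hz2).hom t)) =
      (G.stalkMap w).hom ((X.presheaf.germ V (G w) hGw).hom t) := by
    refine (stalkMap_comp_apply d (p ≫ G) w _).symm.trans ?_
    exact stalkMap_germ_congr hdpG w V hz2 hGw t
  have c2 : (d.stalkMap w).hom σ =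
      (X.presheaf.germ V w hw).hom t -
        (G.stalkMap w).hom ((X.presheaf.germ V (G w) hGw).hom t) := by
    rw [hσ, map_sub, e1, e2]
  -- it vanishes on the graph
  have c1 : Cyc.specMap (d w) (j η) h σ = 0 := by
    have hξ1 : q (j η) ∈ V := by
      have := h.mem_open (q ⁻¹ᵁ V).2 hz1
      exact this
    have hξ2 : (p ≫ G) (j η) ∈ V := by
      have := h.mem_open ((p ≫ G) ⁻¹ᵁ V).2 hz2
      exact this
    rw [hσ, map_sub, stalkMap_germ q (d w) V hz1 t, stalkMap_germ (p ≫ G) (d w) V hz2 t,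
      specMap_germ (d w) (j η) h (q ⁻¹ᵁ V) hz1, specMap_germ (d w) (j η) h ((p ≫ G) ⁻¹ᵁ V) hz2]
    apply (j.residueFieldMap η).hom.injective
    rw [map_sub, map_zero, residueFieldMap_residue_germ j η (q ⁻¹ᵁ V) hξ1,
      residueFieldMap_residue_germ j η ((p ≫ G) ⁻¹ᵁ V) hξ2, ← comp_app_apply j q V t,
      ← comp_app_apply j (p ≫ G) V t, sub_eq_zero]
    have hjpG : j ≫ q = j ≫ (p ≫ G) := by
      rw [← Category.assoc, hjp, Category.id_comp, hjq]
    exact congrArg (X.residue η).hom (germ_app_congr hjpG η V hξ1 hξ2 t)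
  rw [← c2]
  exact Ideal.mem_map_of_mem _ (RingHom.mem_ker.mpr c1)

end Groth.Agent.Lib.Helper23.FixIdeal
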