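import Mathlib

/-!
# The fixed locus of an endomorphism in terms of rational points (helper23)
-/

universe u

open AlgebraicGeometry CategoryTheory CategoryTheory.Limits

namespace Groth.Agent.Lib.Helper23.FixPts

variable {k₀ k : Type u} [Field k₀] [Field k] [IsAlgClosed k]
variable {X₀ Xb Pb : Scheme.{u}} {f : X₀ ⟶ Spec (CommRingCat.of k₀)}
  {g₀ : Spec (CommRingCat.of k) ⟶ Spec (CommRingCat.of k₀)} {Φ : X₀ ⟶ X₀}
  {π : Xb ⟶ X₀} {pb : Xb ⟶ Spec (CommRingCat.of k)} [LocallyOfFiniteType pb] [IsSeparated pb]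
  {G : Xb ⟶ Xb} {pr₁ pr₂ : Pb ⟶ Xb} {j d : Xb ⟶ Pb}

theorem isClosed_range_section (hP : IsPullback pr₁ pr₂ pb pb) (hjp : j ≫ pr₁ = 𝟙 Xb) :
    IsClosed (Set.range j) := by
  haveI : IsSeparated pr₁ := MorphismProperty.of_isPullback hP.flip ‹IsSeparated pb›
  haveI : IsClosedImmersion (j ≫ pr₁) := by rw [hjp]; infer_instance
  haveI : IsClosedImmersion j := IsClosedImmersion.of_comp j pr₁
  exact j.isClosedEmbedding.isClosed_range

/-- A point of the fixed locus has the same image under the graph and the diagonal. -/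
theorem eq_of_mem_closure (hP : IsPullback pr₁ pr₂ pb pb) (hjp : j ≫ pr₁ = 𝟙 Xb)
    (hdp : d ≫ pr₁ = 𝟙 Xb) (η w : Xb) (h : d w ∈ closure ({j η} : Set Pb)) : j w = d w := by
  have hcl := isClosed_range_section hP hjp
  have hmem : d w ∈ Set.range j :=
    (closure_minimal (by rintro _ rfl; exact ⟨η, rfl⟩) hcl) h
  obtain ⟨w', hw'⟩ := hmem
  have h1 : pr₁ (j w') = w' := congrArg (fun φ : Xb ⟶ Xb => φ w') hjp
  have h2 : pr₁ (d w) = w := congrArg (fun φ : Xb ⟶ Xb => φ w) hdp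
  have h3 : w' = w := by rw [← h1, hw', h2]
  rw [← h3]
  rw [h3] at hw' ⊢
  exact hw'

/-- A rational point lies in the fixed locus iff it is fixed. -/
theorem fix_iff (hP : IsPullback pr₁ pr₂ pb pb) (hjp : j ≫ pr₁ = 𝟙 Xb) (hjq : j ≫ pr₂ = G)
    (hdp : d ≫ pr₁ = 𝟙 Xb) (hdq : d ≫ pr₂ = 𝟙 Xb) (η : Xb) (hη : ∀ w : Xb, η ⤳ w)
    (s : Spec (CommRingCat.of k) ⟶ Xb) (hs : s ≫ pb = 𝟙 _) :
    d (s (IsLocalRing.closedPoint k)) ∈ closure ({j η} : Set Pb) ↔ s ≫ G = s := by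
  constructor
  · intro h
    have hjw := eq_of_mem_closure hP hjp hdp η _ h
    haveI : LocallyOfFiniteType pr₁ :=
      MorphismProperty.of_isPullback hP.flip ‹LocallyOfFiniteType pb›
    have hf : (s ≫ j) ≫ (pr₁ ≫ pb) = 𝟙 _ := by
      rw [Category.assoc, ← Category.assoc j, hjp, Category.id_comp, hs]
    have hg : (s ≫ d) ≫ (pr₁ ≫ pb) = 𝟙 _ := by
      rw [Category.assoc, ← Category.assoc d, hdp, Category.id_comp, hs]
    have hsj : s ≫ j = s ≫ d := ext_of_apply_closedPoint_eq (pr₁ ≫ pb) hf hg hjw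
    calc s ≫ G = (s ≫ j) ≫ pr₂ := by rw [Category.assoc, hjq]
      _ = (s ≫ d) ≫ pr₂ := by rw [hsj]
      _ = s := by rw [Category.assoc, hdq, Category.comp_id]
  · intro h
    have hsj : s ≫ j = s ≫ d := by
      apply hP.hom_ext
      · rw [Category.assoc, Category.assoc, hjp, hdp]
      · rw [Category.assoc, Category.assoc, hjq, hdq, h, Category.comp_id]
    have hpt : j (s (IsLocalRing.closedPoint k)) = d (s (IsLocalRing.closedPoint k)) :=
      congrArg (fun φ : Spec (CommRingCat.of k) ⟶ Pb => φ (IsLocalRing.closedPoint k)) hsj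
    rw [← hpt]
    exact specializes_iff_mem_closure.mp ((hη _).map j.continuous)

/-- The fixed locus is in bijection with the fixed rational points. -/
noncomputable def fixEquiv (hP : IsPullback pr₁ pr₂ pb pb) (hjp : j ≫ pr₁ = 𝟙 Xb)
    (hjq : j ≫ pr₂ = G) (hdp : d ≫ pr₁ = 𝟙 Xb) (hdq : d ≫ pr₂ = 𝟙 Xb) (η : Xb)
    (hη : ∀ w : Xb, η ⤳ w)
    (hcl : ∀ w : Xb, d w ∈ closure ({j η} : Set Pb) → IsClosed ({w} : Set Xb)) :
    {s : {s : Spec (CommRingCat.of k) ⟶ Xb // s ≫ pb = 𝟙 _} // s.1 ≫ G = s.1} ≃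
      {w : Xb // d w ∈ closure ({j η} : Set Pb)} :=
  ((pointEquivClosedPoint pb).subtypeEquiv (fun s =>
      (fix_iff hP hjp hjq hdp hdq η hη s.1 s.2).symm)).trans
    (Equiv.subtypeSubtypeEquivSubtype (fun {w} hw => mem_closedPoints_iff.mpr (hcl w hw)))

/-- Fixed rational points of the base change correspond to fixed geometric points. -/
noncomputable def ptsEquiv (hπ : IsPullback π pb f g₀) (hGk : G ≫ pb = pb)
    (hG : G ≫ π = π ≫ Φ) :
    {s : {s : Spec (CommRingCat.of k) ⟶ Xb // s ≫ pb = 𝟙 _} // s.1 ≫ G = s.1} ≃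
      {u : Spec (CommRingCat.of k) ⟶ X₀ // u ≫ f = g₀ ∧ u ≫ Φ = u} where
  toFun s := ⟨s.1.1 ≫ π,
    ⟨by rw [Category.assoc, hπ.w, ← Category.assoc, s.1.2, Category.id_comp],
     by rw [Category.assoc, ← hG, ← Category.assoc, s.2]⟩⟩
  invFun u := ⟨⟨hπ.lift u.1 (𝟙 _) (by rw [u.2.1, Category.id_comp]), hπ.lift_snd _ _ _⟩, by
    apply hπ.hom_ext
    · rw [Category.assoc, hG, ← Category.assoc, hπ.lift_fst, u.2.2]
    · rw [Category.assoc, hGk]⟩
  left_inv s := by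
    apply Subtype.ext
    apply Subtype.ext
    apply hπ.hom_ext
    · exact hπ.lift_fst _ _ _
    · exact (hπ.lift_snd _ _ _).trans s.1.2.symm
  right_inv u := Subtype.ext (hπ.lift_fst _ _ _)

end Groth.Agent.Lib.Helper23.FixPts
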