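import Mathlib
import Groth.Prelude.Def_WeilCoh
import Groth.Agent.Lib.Helper23.FixIdeal
import Groth.Agent.Lib.Helper23.KPoint
import Groth.Agent.Lib.Helper23.PullbackResField
import Groth.Agent.Lib.Helper23.WeilCohZero

/-!
# Fixed points of a Frobenius: closedness and multiplicity one (helper23)
-/

universe u

open AlgebraicGeometry CategoryTheory CategoryTheory.Limits

namespace Groth.Agent.Lib.Helper23.FrobFix

open Groth.Agent.Lib.Helper23.FrobGeom Groth.Agent.Lib.Helper23.FixIdeal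
  Groth.Agent.Lib.Helper23.KPoint Groth.Agent.Lib.Helper23.PullbackResField

section General

/-- The extension of the prime ideal of a closed irreducible subset through `w` is proper. -/
theorem map_ker_specMap_le {X Q : Scheme.{u}} (d : X ⟶ Q) (w : X) (ξ : Q) (h : ξ ⤳ d w) :
    Ideal.map (d.stalkMap w).hom (RingHom.ker (Cyc.specMap (d w) ξ h)) ≤
      IsLocalRing.maximalIdeal (X.presheaf.stalk w) := by
  rw [Ideal.map_le_iff_le_comap]
  intro x hx
  rw [Ideal.mem_comap, IsLocalRing.mem_maximalIdeal, mem_nonunits_iff]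
  intro hu
  have hu' : IsUnit x := (isUnit_map_iff (d.stalkMap w).hom x).mp hu
  have h0 := hu'.map (Cyc.specMap (d w) ξ h)
  rw [RingHom.mem_ker.mp hx] at h0
  exact not_isUnit_zero h0

/-- The stalk maps of the absolute `q`-Frobenius are the `q`-th power maps. -/
theorem frob_stalkMap {X : Scheme.{u}} (q : ℕ) (Φ : X ⟶ X)
    (hle : ∀ U : X.Opens, U ≤ Φ ⁻¹ᵁ U)
    (hΦapp : ∀ (U : X.Opens) (s : Γ(X, U)), (Φ.appLE U U (hle U)).hom s = s ^ q)
    (x : X) (U : X.Opens) (hx : x ∈ U) (s : Γ(X, U)) :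
    (Φ.stalkMap x).hom ((X.presheaf.germ U (Φ x) (hle U hx)).hom s) =
      ((X.presheaf.germ U x hx).hom s) ^ q := by
  rw [stalkMap_germ Φ x U (hle U hx) s, ← map_pow, ← hΦapp U s]
  unfold Scheme.Hom.appLE
  rw [CommRingCat.hom_comp, RingHom.comp_apply]
  exact (TopCat.Presheaf.germ_res_apply X.presheaf (homOfLE (hle U)) x hx _).symm

end General

section Main

variable (k₀ k : Type u) [Field k₀] [Field k] [IsAlgClosed k] [Algebra k₀ k] (p e : ℕ)
  [ExpChar k p]
variable {X₀ Xb Pb : Scheme.{u}} (f : X₀ ⟶ Spec (CommRingCat.of k₀)) (Φ : X₀ ⟶ X₀)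
  (hle : ∀ U : X₀.Opens, U ≤ Φ ⁻¹ᵁ U)
  (hΦapp : ∀ (U : X₀.Opens) (s : Γ(X₀, U)), (Φ.appLE U U (hle U)).hom s = s ^ (p ^ e))
  (hQ : 1 < p ^ e)
  (π : Xb ⟶ X₀) (pb : Xb ⟶ Spec (CommRingCat.of k)) [LocallyOfFiniteType pb]
  (hπ : IsPullback π pb f (Spec.map (CommRingCat.ofHom (algebraMap k₀ k))))
  (G : Xb ⟶ Xb) (hGk : G ≫ pb = pb) (hG : G ≫ π = π ≫ Φ)
  (pr₁ pr₂ : Pb ⟶ Xb) (j d : Xb ⟶ Pb) (hjp : j ≫ pr₁ = 𝟙 Xb) (hjq : j ≫ pr₂ = G)
  (hdp : d ≫ pr₁ = 𝟙 Xb) (hdq : d ≫ pr₂ = 𝟙 Xb)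
  (η w : Xb) (h : j η ⤳ d w) (hjw : j w = d w)

include hjq hdq hjw in
theorem fix_apply : G w = w := by
  have h1 : pr₂ (j w) = G w := by
    have := congrArg (fun φ : Xb ⟶ Xb => φ w) hjq
    exact this
  have h2 : pr₂ (d w) = w := by
    have := congrArg (fun φ : Xb ⟶ Xb => φ w) hdq
    exact this
  rw [← h1, hjw, h2]

include hle hΦapp hG hjp hjq hdp hdq hjw in
/-- Step 1: `x - x ^ q` lies in the pulled back ideal for every `x` coming from `X₀`. -/
theorem frob_sub_mem (g : X₀.presheaf.stalk (π w)) :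
    (π.stalkMap w).hom g - ((π.stalkMap w).hom g) ^ (p ^ e) ∈
      Ideal.map (d.stalkMap w).hom (RingHom.ker (Cyc.specMap (d w) (j η) h)) := by
  obtain ⟨U, hU, a, rfl⟩ := X₀.presheaf.exists_germ_eq g
  have hGw' : G w = w := fix_apply G pr₂ j d hjq hdq w hjw
  have hw : w ∈ π ⁻¹ᵁ U := hU
  have hGw : G w ∈ π ⁻¹ᵁ U := by rw [hGw']; exact hU
  have hA := sub_mem_map_ker_specMap pr₁ pr₂ j d G hjp hjq hdp hdq η w h (π ⁻¹ᵁ U) hw hGw
    ((π.app U).hom a)
  have e1 : (Xb.presheaf.germ (π ⁻¹ᵁ U) w hw).hom ((π.app U).hom a) =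
      (π.stalkMap w).hom ((X₀.presheaf.germ U (π w) hU).hom a) :=
    (stalkMap_germ π w U hU a).symm
  have hU2 : π (G w) ∈ U := hGw
  have hU3 : (π ≫ Φ) w ∈ U := hle U hU
  have e2 : (G.stalkMap w).hom ((Xb.presheaf.germ (π ⁻¹ᵁ U) (G w) hGw).hom ((π.app U).hom a)) =
      ((π.stalkMap w).hom ((X₀.presheaf.germ U (π w) hU).hom a)) ^ (p ^ e) := by
    rw [← stalkMap_germ π (G w) U hU2 a]
    refine (stalkMap_comp_apply G π w _).symm.trans ?_
    refine (stalkMap_germ_congr hG w U hU2 hU3 a).trans ?_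
    refine (stalkMap_comp_apply π Φ w _).trans ?_
    rw [← map_pow]
    exact congrArg (π.stalkMap w).hom (frob_stalkMap (p ^ e) Φ hle hΦapp (π w) U hU a)
  rw [e1, e2] at hA
  exact hA

include hle hΦapp hG hjp hjq hdp hdq hjw h in
/-- Step 4: the image of `κ(π w)` in `κ(w)` is fixed by the `q`-th power map. -/
theorem residue_pow_eq (y : X₀.residueField (π w)) :
    ((π.residueFieldMap w).hom y) ^ (p ^ e) = (π.residueFieldMap w).hom y := by
  obtain ⟨g, rfl⟩ := IsLocalRing.residue_surjective y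
  have h1 := frob_sub_mem p e Φ hle hΦapp π G hG pr₁ pr₂ j d hjp hjq hdp hdq η w h hjw g
  have h2 := map_ker_specMap_le d w (j η) h h1
  have h3 : (Xb.residue w).hom ((π.stalkMap w).hom g - ((π.stalkMap w).hom g) ^ (p ^ e)) = 0 :=
    (IsLocalRing.residue_eq_zero_iff _).mpr h2
  have h4 : (π.residueFieldMap w).hom ((X₀.residue (π w)).hom g) =
      (Xb.residue w).hom ((π.stalkMap w).hom g) := by
    have := congrArg (fun φ => φ.hom g) (Scheme.residue_residueFieldMap π w)
    exact this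
  change ((π.residueFieldMap w).hom ((X₀.residue (π w)).hom g)) ^ (p ^ e) =
    (π.residueFieldMap w).hom ((X₀.residue (π w)).hom g)
  rw [h4]
  rw [map_sub, map_pow, sub_eq_zero] at h3
  exact h3.symm

include hle hΦapp hQ hπ hG hjp hjq hdp hdq hjw h in
/-- Step 5: the points of the fixed locus are closed. -/
theorem isClosed_of_fix : IsClosed ({w} : Set Xb) := by
  apply Groth.Agent.Lib.Helper23.WeilCohZero.isClosed_of_trdeg_zero pb w
  letI := (pb.residueFieldMap w).hom.toAlgebra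
  have hgen := gen_of_isPullback hπ w
  have hfix := residue_pow_eq p e Φ hle hΦapp π G hG pr₁ pr₂ j d hjp hjq hdp hdq η w h hjw
  haveI : Algebra.IsAlgebraic ((Spec (CommRingCat.of k)).residueField (pb w))
      (Xb.residueField w) := by
    constructor
    intro x
    have hx : x ∈ Subfield.closure (Set.range (π.residueFieldMap w).hom ∪
        Set.range (pb.residueFieldMap w).hom) := by rw [hgen]; trivial
    have hle' : Subfield.closure (Set.range (π.residueFieldMap w).hom ∪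
        Set.range (pb.residueFieldMap w).hom) ≤
        (algebraicClosure ((Spec (CommRingCat.of k)).residueField (pb w))
          (Xb.residueField w)).toSubfield := by
      rw [Subfield.closure_le]
      rintro _ (⟨y, rfl⟩ | ⟨c, rfl⟩)
      · change _ ∈ algebraicClosure _ _
        rw [mem_algebraicClosure_iff]
        refine IsIntegral.isAlgebraic ?_
        refine ⟨Polynomial.X ^ (p ^ e) - Polynomial.X,
          Polynomial.monic_X_pow_sub (by rw [Polynomial.degree_X]; exact_mod_cast hQ), ?_⟩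
        rw [Polynomial.eval₂_sub, Polynomial.eval₂_pow, Polynomial.eval₂_X, hfix y, sub_self]
      · exact (algebraicClosure _ _).algebraMap_mem c
    have := hle' hx
    exact (mem_algebraicClosure_iff).mp this
  exact trdeg_eq_zero

include hle hΦapp hQ hπ hG hjp hjq hdp hdq hjw in
/-- Step 6: the pulled back ideal is the maximal ideal. -/
theorem map_ker_specMap_eq (hw : IsClosed ({w} : Set Xb)) :
    Ideal.map (d.stalkMap w).hom (RingHom.ker (Cyc.specMap (d w) (j η) h)) =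
      IsLocalRing.maximalIdeal (Xb.presheaf.stalk w) := by
  apply le_antisymm (map_ker_specMap_le d w (j η) h)
  haveI : ExpChar (Xb.presheaf.stalk w) p :=
    expChar_of_injective_ringHom (kappa_injective pb w) p
  apply maximalIdeal_le_of_forall hπ w hw
  intro g
  set J := Ideal.map (d.stalkMap w).hom (RingHom.ker (Cyc.specMap (d w) (j η) h)) with hJ
  have hJle : J ≤ IsLocalRing.maximalIdeal (Xb.presheaf.stalk w) :=
    map_ker_specMap_le d w (j η) h
  set x := (π.stalkMap w).hom g with hx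
  set c := (ev pb w hw).hom x with hc
  have h1 : x - x ^ (p ^ e) ∈ J :=
    frob_sub_mem p e Φ hle hΦapp π G hG pr₁ pr₂ j d hjp hjq hdp hdq η w h hjw g
  have hcQ : c ^ (p ^ e) = c := by
    have h2 := hJle h1
    rw [← ker_ev pb w hw, RingHom.mem_ker, map_sub, map_pow, sub_eq_zero] at h2
    exact h2.symm
  set τ := x - (kappa pb w).hom c with hτ
  have hτm : τ ∈ IsLocalRing.maximalIdeal (Xb.presheaf.stalk w) := by
    rw [← ker_ev pb w hw, RingHom.mem_ker, hτ, map_sub, ev_kappa_apply, sub_self]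
  have hτQ : τ - τ ^ (p ^ e) = x - x ^ (p ^ e) := by
    have hκ : ((kappa pb w).hom c) ^ (p ^ e) = (kappa pb w).hom c := by
      rw [← map_pow, hcQ]
    rw [hτ, sub_pow_expChar_pow, hκ]
    ring
  have hunit : IsUnit (1 - τ ^ (p ^ e - 1)) := by
    apply IsLocalRing.isUnit_one_sub_self_of_mem_nonunits
    exact Ideal.pow_mem_of_mem _ hτm _ (by omega)
  have hmul : τ * (1 - τ ^ (p ^ e - 1)) = τ - τ ^ (p ^ e) := by
    rw [mul_sub, mul_one, ← pow_succ', Nat.sub_add_cancel (le_of_lt hQ)]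
  have h3 : τ * (1 - τ ^ (p ^ e - 1)) ∈ J := by rw [hmul, hτQ]; exact h1
  exact (Ideal.mul_unit_mem_iff_mem J hunit).mp h3

include hle hΦapp hQ hπ hG hjp hjq hdp hdq hjw in
/-- The fixed points of a Frobenius have multiplicity one. -/
theorem preimMult_eq_one (hmem : d w ∈ closure ({j η} : Set Pb)) :
    WeilCoh.preimMult d (j η) w hmem = 1 := by
  have hw := isClosed_of_fix k₀ k p e f Φ hle hΦapp hQ π pb hπ G hG pr₁ pr₂ j d hjp hjq hdp hdq
    η w (specializes_iff_mem_closure.mpr hmem) hjw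
  have hJ := map_ker_specMap_eq k₀ k p e f Φ hle hΦapp hQ π pb hπ G hG pr₁ pr₂ j d hjp hjq hdp hdq
    η w (specializes_iff_mem_closure.mpr hmem) hjw hw
  unfold WeilCoh.preimMult
  rw [hJ]
  haveI : IsSimpleModule (Xb.presheaf.stalk w)
      (Xb.presheaf.stalk w ⧸ IsLocalRing.maximalIdeal (Xb.presheaf.stalk w)) :=
    isSimpleModule_iff_isCoatom.mpr
      (Ideal.isMaximal_def.mp (IsLocalRing.maximalIdeal.isMaximal _))
  rw [Module.length_eq_one]
  rfl

end Main

end Groth.Agent.Lib.Helper23.FrobFix
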