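import Mathlib
import Groth.Prelude.Def_WeilCoh
import Groth.Agent.Lib.Helper23.FixIdeal
import Groth.Agent.Lib.Helper23.KPoint
import Groth.Agent.Lib.Helper23.PullbackResField
import Groth.Agent.Lib.Helper23.WeilCohZero
import Groth.Agent.Lib.Helper23.FrobFix

/-!
# The scheme of fixed points of a Frobenius is reduced and discrete (helper23)

If `ι : Z ⟶ X̄` is surjective on stalks and equalizes `G = Frob × id` and the identity, all local
rings of `Z` are fields.
-/

universe u

open AlgebraicGeometry CategoryTheory CategoryTheory.Limits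

namespace Groth.Agent.Lib.Helper23.FixSch

open Groth.Agent.Lib.Helper23.FrobGeom Groth.Agent.Lib.Helper23.FixIdeal
  Groth.Agent.Lib.Helper23.KPoint Groth.Agent.Lib.Helper23.PullbackResField
  Groth.Agent.Lib.Helper23.FrobFix

section General

/-- If `a ≫ Φ = a` for the absolute `q`-Frobenius `Φ`, all functions pulled back along `a` are fixed
by the `q`-th power map. -/
theorem stalkMap_pow_eq {X₀ Z : Scheme.{u}} (q : ℕ) (Φ : X₀ ⟶ X₀)
    (hle : ∀ U : X₀.Opens, U ≤ Φ ⁻¹ᵁ U)
    (hΦapp : ∀ (U : X₀.Opens) (s : Γ(X₀, U)), (Φ.appLE U U (hle U)).hom s = s ^ q)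
    (a : Z ⟶ X₀) (ha : a ≫ Φ = a) (z : Z) (g : X₀.presheaf.stalk (a z)) :
    ((a.stalkMap z).hom g) ^ q = (a.stalkMap z).hom g := by
  obtain ⟨U, hU, s, rfl⟩ := X₀.presheaf.exists_germ_eq g
  have hU3 : (a ≫ Φ) z ∈ U := hle U hU
  rw [← map_pow, ← frob_stalkMap q Φ hle hΦapp (a z) U hU s]
  refine (stalkMap_comp_apply a Φ z _).symm.trans ?_
  exact stalkMap_germ_congr ha z U hU3 hU s

theorem ker_le_maximalIdeal {R S : Type*} [CommRing R] [CommRing S] [IsLocalRing R] [Nontrivial S]
    (φ : R →+* S) : RingHom.ker φ ≤ IsLocalRing.maximalIdeal R :=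
  IsLocalRing.le_maximalIdeal (RingHom.ker_ne_top φ)

/-- A scheme all of whose local rings are fields is reduced. -/
theorem isReduced_of_maximalIdeal_eq_bot {Z : Scheme.{u}}
    (h : ∀ z : Z, IsLocalRing.maximalIdeal (Z.presheaf.stalk z) = ⊥) : IsReduced Z := by
  haveI : ∀ z : Z, _root_.IsReduced (Z.presheaf.stalk z) := fun z => by
    constructor
    intro x hx
    have hmem : x ∈ IsLocalRing.maximalIdeal (Z.presheaf.stalk z) := by
      rw [IsLocalRing.mem_maximalIdeal, mem_nonunits_iff]
      intro hu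
      obtain ⟨n, hn⟩ := hx
      have h0 := hu.pow n
      rw [hn] at h0
      exact not_isUnit_zero h0
    rw [h z] at hmem
    exact (Submodule.mem_bot _).mp hmem
  exact isReduced_of_isReduced_stalk Z

/-- A point whose local ring is a field has no proper generization. -/
theorem eq_of_specializes_of_maximalIdeal_eq_bot {Z : Scheme.{u}} (z z' : Z)
    (hz : IsLocalRing.maximalIdeal (Z.presheaf.stalk z) = ⊥) (h : z' ⤳ z) : z' = z := by
  have hmem : z' ∈ Set.range (Z.fromSpecStalk z) := by
    rw [Scheme.range_fromSpecStalk]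
    exact h
  obtain ⟨P, hP⟩ := hmem
  have hPc : P = IsLocalRing.closedPoint (Z.presheaf.stalk z) := by
    apply PrimeSpectrum.ext
    change P.asIdeal = IsLocalRing.maximalIdeal (Z.presheaf.stalk z)
    refine le_antisymm (IsLocalRing.le_maximalIdeal P.isPrime.ne_top) ?_
    rw [hz]
    exact bot_le
  rw [← hP, hPc]
  exact Scheme.fromSpecStalk_closedPoint

/-- A noetherian scheme without proper specializations is finite. -/
theorem finite_of_forall_specializes_eq {Z : Scheme.{u}} [TopologicalSpace.NoetherianSpace Z]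
    (h : ∀ z z' : Z, z' ⤳ z → z' = z) : Finite Z := by
  have hfin := TopologicalSpace.NoetherianSpace.finite_irreducibleComponents (α := Z)
  have hkey : ∀ z : Z, irreducibleComponent z = {z} := by
    intro z
    have hirr : IsIrreducible (irreducibleComponent z) := isIrreducible_irreducibleComponent
    have hcl : IsClosed (irreducibleComponent z) := isClosed_irreducibleComponent
    obtain ⟨ξ, hξ⟩ := QuasiSober.sober hirr hcl
    have hz : z ∈ irreducibleComponent z := mem_irreducibleComponent
    have hξz : ξ = z := h z ξ (hξ.specializes hz)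
    rw [hξz] at hξ
    rw [← hξ.def]
    ext y
    constructor
    · intro hy
      have hs : z ⤳ y := specializes_iff_mem_closure.mpr hy
      exact (h y z hs).symm ▸ Set.mem_singleton _
    · intro hy
      rw [Set.mem_singleton_iff.mp hy]
      exact subset_closure (Set.mem_singleton _)
  haveI : Finite ↥(irreducibleComponents Z) := hfin.to_subtype
  refine Finite.of_injective (fun z => (⟨irreducibleComponent z,
    irreducibleComponent_mem_irreducibleComponents z⟩ : ↥(irreducibleComponents Z))) ?_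
  intro z z' hzz'
  have h1 : irreducibleComponent z = irreducibleComponent z' := congrArg Subtype.val hzz'
  rw [hkey z, hkey z'] at h1
  exact Set.singleton_injective h1

end General

section Main

variable (k₀ k : Type u) [Field k₀] [Field k] [IsAlgClosed k] [Algebra k₀ k] (p e : ℕ)
  [ExpChar k p]
variable {X₀ Xb Z : Scheme.{u}} (f : X₀ ⟶ Spec (CommRingCat.of k₀)) (Φ : X₀ ⟶ X₀)
  (hle : ∀ U : X₀.Opens, U ≤ Φ ⁻¹ᵁ U)
  (hΦapp : ∀ (U : X₀.Opens) (s : Γ(X₀, U)), (Φ.appLE U U (hle U)).hom s = s ^ (p ^ e))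
  (hQ : 1 < p ^ e)
  (π : Xb ⟶ X₀) (pb : Xb ⟶ Spec (CommRingCat.of k)) [LocallyOfFiniteType pb]
  (hπ : IsPullback π pb f (Spec.map (CommRingCat.ofHom (algebraMap k₀ k))))
  (G : Xb ⟶ Xb) (hG : G ≫ π = π ≫ Φ)
  (ι : Z ⟶ Xb) (hι : ι ≫ G = ι) (z : Z)

include hQ hπ in
/-- A point at which the image of the residue field of `X₀` is fixed by the `q`-th power map is
closed. -/
theorem isClosed_of_residue_fix (w : Xb)
    (hfix : ∀ y : X₀.residueField (π w),
      ((π.residueFieldMap w).hom y) ^ (p ^ e) = (π.residueFieldMap w).hom y) :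
    IsClosed ({w} : Set Xb) := by
  apply Groth.Agent.Lib.Helper23.WeilCohZero.isClosed_of_trdeg_zero pb w
  letI := (pb.residueFieldMap w).hom.toAlgebra
  have hgen := gen_of_isPullback hπ w
  haveI : Algebra.IsAlgebraic ((Spec (CommRingCat.of k)).residueField (pb w))
      (Xb.residueField w) := by
    constructor
    intro x
    have hx : x ∈ Subfield.closure (Set.range (π.residueFieldMap w).hom ∪
        Set.range (pb.residueFieldMap w).hom) := by rw [hgen]; trivial
    have hle' : Subfield.closure (Set.range (π.residueFieldMap w).hom ∪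
        Set.range (pb.residueFieldMap w).hom) ≤
        (algebraicClosure ((Spec (CommRingCat.of k)).residueField (pb w))
          (Xb.residueField w)).toSubfield := by
      rw [Subfield.closure_le]
      rintro _ (⟨y, rfl⟩ | ⟨c, rfl⟩)
      · change _ ∈ algebraicClosure _ _
        rw [mem_algebraicClosure_iff]
        refine IsIntegral.isAlgebraic ?_
        refine ⟨Polynomial.X ^ (p ^ e) - Polynomial.X,
          Polynomial.monic_X_pow_sub (by rw [Polynomial.degree_X]; exact_mod_cast hQ), ?_⟩
        rw [Polynomial.eval₂_sub, Polynomial.eval₂_pow, Polynomial.eval₂_X, hfix y, sub_self]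
      · exact (algebraicClosure _ _).algebraMap_mem c
    have := hle' hx
    exact (mem_algebraicClosure_iff).mp this
  exact trdeg_eq_zero

include hQ hπ in
/-- At a closed point, an ideal in the maximal ideal containing all `x - x ^ q`, `x` coming from
`X₀`, is the maximal ideal. -/
theorem maximalIdeal_le_of_frob (w : Xb) (hw : IsClosed ({w} : Set Xb))
    (J : Ideal (Xb.presheaf.stalk w))
    (hJle : J ≤ IsLocalRing.maximalIdeal (Xb.presheaf.stalk w))
    (hJ : ∀ g : X₀.presheaf.stalk (π w),
      (π.stalkMap w).hom g - ((π.stalkMap w).hom g) ^ (p ^ e) ∈ J) :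
    IsLocalRing.maximalIdeal (Xb.presheaf.stalk w) ≤ J := by
  haveI : ExpChar (Xb.presheaf.stalk w) p :=
    expChar_of_injective_ringHom (kappa_injective pb w) p
  apply maximalIdeal_le_of_forall hπ w hw
  intro g
  set x := (π.stalkMap w).hom g with hx
  set c := (ev pb w hw).hom x with hc
  have h1 : x - x ^ (p ^ e) ∈ J := hJ g
  have hcQ : c ^ (p ^ e) = c := by
    have h2 := hJle h1
    rw [← ker_ev pb w hw, RingHom.mem_ker, map_sub, map_pow, sub_eq_zero] at h2
    exact h2.symm
  set τ := x - (kappa pb w).hom c with hτ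
  have hτm : τ ∈ IsLocalRing.maximalIdeal (Xb.presheaf.stalk w) := by
    rw [← ker_ev pb w hw, RingHom.mem_ker, hτ, map_sub, ev_kappa_apply, sub_self]
  have hτQ : τ - τ ^ (p ^ e) = x - x ^ (p ^ e) := by
    have hκ : ((kappa pb w).hom c) ^ (p ^ e) = (kappa pb w).hom c := by
      rw [← map_pow, hcQ]
    rw [hτ, sub_pow_expChar_pow, hκ]
    ring
  have hunit : IsUnit (1 - τ ^ (p ^ e - 1)) := by
    apply IsLocalRing.isUnit_one_sub_self_of_mem_nonunits
    exact Ideal.pow_mem_of_mem _ hτm _ (by omega)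
  have hmul : τ * (1 - τ ^ (p ^ e - 1)) = τ - τ ^ (p ^ e) := by
    rw [mul_sub, mul_one, ← pow_succ', Nat.sub_add_cancel (le_of_lt hQ)]
  have h3 : τ * (1 - τ ^ (p ^ e - 1)) ∈ J := by rw [hmul, hτQ]; exact h1
  exact (Ideal.mul_unit_mem_iff_mem J hunit).mp h3

include hle hΦapp hG hι in
theorem frob_sub_mem_ker (g : X₀.presheaf.stalk (π (ι z))) :
    (π.stalkMap (ι z)).hom g - ((π.stalkMap (ι z)).hom g) ^ (p ^ e) ∈
      RingHom.ker (ι.stalkMap z).hom := by
  have ha : (ι ≫ π) ≫ Φ = ι ≫ π := by
    rw [Category.assoc, ← hG, ← Category.assoc, hι]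
  have h1 := stalkMap_pow_eq (p ^ e) Φ hle hΦapp (ι ≫ π) ha z g
  have h2 : ((ι ≫ π).stalkMap z).hom g = (ι.stalkMap z).hom ((π.stalkMap (ι z)).hom g) :=
    stalkMap_comp_apply ι π z g
  rw [h2] at h1
  rw [RingHom.mem_ker, map_sub, map_pow, sub_eq_zero]
  exact h1.symm

include hle hΦapp hG hι in
theorem residue_pow_eq' (y : X₀.residueField (π (ι z))) :
    ((π.residueFieldMap (ι z)).hom y) ^ (p ^ e) = (π.residueFieldMap (ι z)).hom y := by
  obtain ⟨g, rfl⟩ := IsLocalRing.residue_surjective y
  have h1 := frob_sub_mem_ker p e Φ hle hΦapp π G hG ι hι z g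
  have h2 := ker_le_maximalIdeal (ι.stalkMap z).hom h1
  have h3 : (Xb.residue (ι z)).hom
      ((π.stalkMap (ι z)).hom g - ((π.stalkMap (ι z)).hom g) ^ (p ^ e)) = 0 :=
    (IsLocalRing.residue_eq_zero_iff _).mpr h2
  have h4 : (π.residueFieldMap (ι z)).hom ((X₀.residue (π (ι z))).hom g) =
      (Xb.residue (ι z)).hom ((π.stalkMap (ι z)).hom g) := by
    have := congrArg (fun φ => φ.hom g) (Scheme.residue_residueFieldMap π (ι z))
    exact this
  change ((π.residueFieldMap (ι z)).hom ((X₀.residue (π (ι z))).hom g)) ^ (p ^ e) =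
    (π.residueFieldMap (ι z)).hom ((X₀.residue (π (ι z))).hom g)
  rw [h4]
  rw [map_sub, map_pow, sub_eq_zero] at h3
  exact h3.symm

include hle hΦapp hQ hπ hG hι in
/-- The points of the fixed scheme map to closed points. -/
theorem isClosed_image : IsClosed ({ι z} : Set Xb) :=
  isClosed_of_residue_fix k₀ k p e f hQ π pb hπ (ι z)
    (residue_pow_eq' p e Φ hle hΦapp π G hG ι hι z)

include hle hΦapp hQ hπ hG hι in
/-- The local rings of the fixed scheme are fields. -/
theorem maximalIdeal_eq_bot (hsurj : Function.Surjective (ι.stalkMap z).hom) :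
    IsLocalRing.maximalIdeal (Z.presheaf.stalk z) = ⊥ := by
  have hw := isClosed_image k₀ k p e f Φ hle hΦapp hQ π pb hπ G hG ι hι z
  have hJ := maximalIdeal_le_of_frob k₀ k p e f hQ π pb hπ (ι z) hw
    (RingHom.ker (ι.stalkMap z).hom) (ker_le_maximalIdeal _)
    (frob_sub_mem_ker p e Φ hle hΦapp π G hG ι hι z)
  rw [eq_bot_iff]
  intro r hr
  obtain ⟨s, rfl⟩ := hsurj r
  have hs : s ∈ IsLocalRing.maximalIdeal (Xb.presheaf.stalk (ι z)) := by
    rw [IsLocalRing.mem_maximalIdeal, mem_nonunits_iff] at hr ⊢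
    intro hu
    exact hr (hu.map _)
  exact (Submodule.mem_bot _).mpr (RingHom.mem_ker.mp (hJ hs))

end Main

end Groth.Agent.Lib.Helper23.FixSch
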