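import Mathlib
import Groth.Prelude.Def_FinFr
import Groth.Agent.Lib.Helper23.FixSch

/-!
# The fixed-point scheme of `Frob × id` on `X ×_k k̄` (helper23)
-/

universe u

open AlgebraicGeometry CategoryTheory CategoryTheory.Limits

namespace Groth.Agent.Lib.Helper23.FixSch

section Fix

variable {k : Type u} [Field k] [Finite k]
  {X : Scheme.{u}} (f : X ⟶ Spec (CommRingCat.of k)) [LocallyOfFiniteType f]
  (FX : X ⟶ X) (hle : ∀ U : X.Opens, U ≤ FX ⁻¹ᵁ U)
  (hFapp : ∀ (U : X.Opens) (s : Γ(X, U)), (FX.appLE U U (hle U)).hom s = s ^ Nat.card k)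
  (F : FinFr.ext (AlgebraicClosure k) f ⟶ FinFr.ext (AlgebraicClosure k) f)
  (hF1 : F ≫ FinFr.extπ (AlgebraicClosure k) f = FinFr.extπ (AlgebraicClosure k) f ≫ FX)
  (hF2 : F ≫ FinFr.extStr (AlgebraicClosure k) f = FinFr.extStr (AlgebraicClosure k) f)

/-- The inclusion of the fixed-point scheme. -/
noncomputable def fixι :
    FinFr.fixScheme (FinFr.extStr (AlgebraicClosure k) f) F hF2 ⟶ FinFr.ext (AlgebraicClosure k) f :=
  pullback.fst _ _

instance : IsImmersion (fixι f F hF2) := by
  haveI : IsImmersion (pullback.lift (𝟙 (FinFr.ext (AlgebraicClosure k) f))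
      (𝟙 (FinFr.ext (AlgebraicClosure k) f)) rfl :
      FinFr.ext (AlgebraicClosure k) f ⟶ pullback (FinFr.extStr (AlgebraicClosure k) f)
        (FinFr.extStr (AlgebraicClosure k) f)) :=
    inferInstanceAs (IsImmersion (pullback.diagonal (FinFr.extStr (AlgebraicClosure k) f)))
  exact inferInstanceAs (IsImmersion (pullback.fst
    (pullback.lift (𝟙 (FinFr.ext (AlgebraicClosure k) f)) F (by rw [hF2, Category.id_comp]) :
      FinFr.ext (AlgebraicClosure k) f ⟶ pullback (FinFr.extStr (AlgebraicClosure k) f)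
        (FinFr.extStr (AlgebraicClosure k) f))
    (pullback.lift (𝟙 (FinFr.ext (AlgebraicClosure k) f))
      (𝟙 (FinFr.ext (AlgebraicClosure k) f)) rfl :
      FinFr.ext (AlgebraicClosure k) f ⟶ pullback (FinFr.extStr (AlgebraicClosure k) f)
        (FinFr.extStr (AlgebraicClosure k) f))))

theorem fixι_comp : fixι f F hF2 ≫ F = fixι f F hF2 := by
  have hcond := pullback.condition
    (f := (pullback.lift (𝟙 (FinFr.ext (AlgebraicClosure k) f)) F
      (by rw [hF2, Category.id_comp]) :
      FinFr.ext (AlgebraicClosure k) f ⟶ pullback (FinFr.extStr (AlgebraicClosure k) f)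
        (FinFr.extStr (AlgebraicClosure k) f)))
    (g := (pullback.lift (𝟙 (FinFr.ext (AlgebraicClosure k) f))
      (𝟙 (FinFr.ext (AlgebraicClosure k) f)) rfl :
      FinFr.ext (AlgebraicClosure k) f ⟶ pullback (FinFr.extStr (AlgebraicClosure k) f)
        (FinFr.extStr (AlgebraicClosure k) f)))
  have h1 := congrArg (fun φ => φ ≫ pullback.fst (FinFr.extStr (AlgebraicClosure k) f)
    (FinFr.extStr (AlgebraicClosure k) f)) hcond
  have h2 := congrArg (fun φ => φ ≫ pullback.snd (FinFr.extStr (AlgebraicClosure k) f)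
    (FinFr.extStr (AlgebraicClosure k) f)) hcond
  simp only [Category.assoc, pullback.lift_fst, pullback.lift_snd, Category.comp_id] at h1 h2
  exact h2.trans h1.symm

include hle hFapp hF1 in
/-- All local rings of the fixed-point scheme are fields. -/
theorem fix_maximalIdeal_eq_bot
    (z : ↥(FinFr.fixScheme (FinFr.extStr (AlgebraicClosure k) f) F hF2)) :
    IsLocalRing.maximalIdeal
      ((FinFr.fixScheme (FinFr.extStr (AlgebraicClosure k) f) F hF2).presheaf.stalk z) = ⊥ := by
  letI : Fintype k := Fintype.ofFinite k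
  obtain ⟨pp, hpp⟩ := CharP.exists k
  obtain ⟨e, hprime, hcard⟩ := FiniteField.card k pp
  have : ExpChar k pp := ExpChar.prime hprime
  have : ExpChar (AlgebraicClosure k) pp :=
    expChar_of_injective_algebraMap (algebraMap k (AlgebraicClosure k)).injective pp
  have hq : Nat.card k = pp ^ (e : ℕ) := by
    rw [Nat.card_eq_fintype_card]
    exact hcard
  have hq1 : 1 < pp ^ (e : ℕ) := by
    rw [← hq]
    exact Finite.one_lt_card
  have hFapp' : ∀ (U : X.Opens) (s : Γ(X, U)),
      (FX.appLE U U (hle U)).hom s = s ^ (pp ^ (e : ℕ)) := by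
    intro U s
    rw [← hq]
    exact hFapp U s
  have hπ : IsPullback (FinFr.extπ (AlgebraicClosure k) f) (FinFr.extStr (AlgebraicClosure k) f) f
      (Spec.map (CommRingCat.ofHom (algebraMap k (AlgebraicClosure k)))) :=
    IsPullback.of_hasPullback _ _
  exact maximalIdeal_eq_bot k (AlgebraicClosure k) pp (e : ℕ) f FX hle hFapp' hq1
    (FinFr.extπ (AlgebraicClosure k) f) (FinFr.extStr (AlgebraicClosure k) f) hπ F hF1
    (fixι f F hF2) (fixι_comp f F hF2) z ((fixι f F hF2).stalkMap_surjective z)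

include hle hFapp hF1 in
theorem fix_isReduced :
    IsReduced (FinFr.fixScheme (FinFr.extStr (AlgebraicClosure k) f) F hF2) :=
  isReduced_of_maximalIdeal_eq_bot (fix_maximalIdeal_eq_bot f FX hle hFapp F hF1 hF2)

include hle hFapp hF1 in
theorem fix_finite [QuasiCompact f] :
    Finite ↥(FinFr.fixScheme (FinFr.extStr (AlgebraicClosure k) f) F hF2) := by
  haveI : CompactSpace ↥(FinFr.ext (AlgebraicClosure k) f) :=
    QuasiCompact.compactSpace_of_compactSpace (FinFr.extStr (AlgebraicClosure k) f)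
  haveI : IsLocallyNoetherian (FinFr.ext (AlgebraicClosure k) f) :=
    LocallyOfFiniteType.isLocallyNoetherian (FinFr.extStr (AlgebraicClosure k) f)
  haveI : IsNoetherian (FinFr.ext (AlgebraicClosure k) f) := {}
  haveI : TopologicalSpace.NoetherianSpace
      ↥(FinFr.fixScheme (FinFr.extStr (AlgebraicClosure k) f) F hF2) :=
    (fixι f F hF2).isEmbedding.isInducing.noetherianSpace
  apply finite_of_forall_specializes_eq
  intro z z' h
  exact eq_of_specializes_of_maximalIdeal_eq_bot z z'
    (fix_maximalIdeal_eq_bot f FX hle hFapp F hF1 hF2 z) h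

end Fix

end Groth.Agent.Lib.Helper23.FixSch
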