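import Mathlib

/-!
# Flat closure over a DVR: algebra and the generic fibre

Helper lemmas for S18266.
-/

set_option autoImplicit false
universe u
open CategoryTheory AlgebraicGeometry Limits

namespace Groth.Agent.Lib.Helper23.FlatCl

section alg

variable {A : Type*} [CommRing A] [IsDomain A] [IsDiscreteValuationRing A]

/-- A ring hom out of a DVR sending a uniformizer to a unit sends every nonzero element to a
unit. -/
lemma isUnit_map_of_ne_zero {D : Type*} [CommRing D] (γ : A →+* D) {π : A}
    (hπ : Irreducible π) (hu : IsUnit (γ π)) {a : A} (ha : a ≠ 0) : IsUnit (γ a) := by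
  obtain ⟨n, v, rfl⟩ := IsDiscreteValuationRing.eq_unit_mul_pow_irreducible ha hπ
  rw [map_mul, map_pow]
  exact (v.isUnit.map γ).mul (hu.pow n)

/-- The fraction field of a DVR is the localization away from a uniformizer. -/
lemma isLocalization_away (K : Type*) [Field K] [Algebra A K] [IsFractionRing A K] {π : A}
    (hπ : Irreducible π) : IsLocalization.Away π K := by
  have hinj : Function.Injective (algebraMap A K) := IsFractionRing.injective A K
  refine ⟨?_, ?_, ?_⟩
  · rintro ⟨_, n, rfl⟩
    refine isUnit_iff_ne_zero.mpr ?_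
    rw [map_pow]
    exact pow_ne_zero _ ((map_ne_zero_iff _ hinj).mpr hπ.ne_zero)
  · intro z
    obtain ⟨a, b, hb, rfl⟩ := IsFractionRing.div_surjective (A := A) z
    have hb0 : b ≠ 0 := nonZeroDivisors.ne_zero hb
    obtain ⟨n, v, rfl⟩ := IsDiscreteValuationRing.eq_unit_mul_pow_irreducible hb0 hπ
    refine ⟨⟨a * ((v⁻¹ : Aˣ) : A), ⟨π ^ n, n, rfl⟩⟩, ?_⟩
    have h1 : algebraMap A K ((v : A) * π ^ n) ≠ 0 := (map_ne_zero_iff _ hinj).mpr hb0
    rw [div_mul_eq_mul_div, div_eq_iff h1, ← map_mul, ← map_mul]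
    congr 1
    calc a * π ^ n = a * (((v⁻¹ : Aˣ) : A) * (v : A)) * π ^ n := by simp
      _ = _ := by ring
  · intro x y h
    exact ⟨1, by rw [hinj h]⟩

/-- Flatness of a quotient over a DVR: if `B ⧸ ker γ` embeds in a ring where a uniformizer is
invertible, it is torsion-free, hence flat. -/
lemma flat_quotient_of_isUnit {A B D : Type u} [CommRing A] [IsDomain A]
    [IsDiscreteValuationRing A] [CommRing B] [CommRing D]
    (φ : A →+* B) (γ : B →+* D) {π : A} (hπ : Irreducible π) (hu : IsUnit (γ (φ π))) :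
    ((Ideal.Quotient.mk (RingHom.ker γ)).comp φ).Flat := by
  letI : Algebra A (B ⧸ RingHom.ker γ) := ((Ideal.Quotient.mk (RingHom.ker γ)).comp φ).toAlgebra
  have htf : Module.IsTorsionFree A (B ⧸ RingHom.ker γ) := by
    refine Module.IsTorsionFree.of_smul_eq_zero fun a q h => ?_
    by_cases ha : a = 0
    · exact Or.inl ha
    right
    obtain ⟨b, rfl⟩ := Ideal.Quotient.mk_surjective q
    rw [Algebra.smul_def, RingHom.algebraMap_toAlgebra, RingHom.comp_apply, ← map_mul,
      Ideal.Quotient.eq_zero_iff_mem, RingHom.mem_ker, map_mul] at h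
    have hu' : IsUnit ((γ.comp φ) a) := isUnit_map_of_ne_zero (γ.comp φ) hπ hu ha
    rw [Ideal.Quotient.eq_zero_iff_mem, RingHom.mem_ker]
    exact (hu'.mul_right_eq_zero).mp h
  change Module.Flat A (B ⧸ RingHom.ker γ)
  infer_instance

/-- Torsion-freeness of flat algebras over a domain. -/
lemma eq_zero_of_flat {A C : Type*} [CommRing A] [IsDomain A] [CommRing C] (ρ : A →+* C)
    (hρ : ρ.Flat) {a : A} (ha : a ≠ 0) {c : C} (h : ρ a * c = 0) : c = 0 := by
  letI : Algebra A C := ρ.toAlgebra
  haveI : Module.Flat A C := hρ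
  have h' : a • c = 0 := by rw [Algebra.smul_def]; exact h
  exact (smul_eq_zero_iff_right ha).mp h'

/-- A prime of a DVR not containing a uniformizer is zero. -/
lemma eq_bot_of_not_mem {π : A} (hπ : Irreducible π) (p : Ideal A) [p.IsPrime] (h : π ∉ p) :
    p = ⊥ := by
  rw [eq_bot_iff]
  intro a ha
  by_contra ha0
  obtain ⟨n, v, rfl⟩ := IsDiscreteValuationRing.eq_unit_mul_pow_irreducible ha0 hπ
  have h1 : π ^ n ∈ p := by
    have := p.mul_mem_left ((v⁻¹ : Aˣ) : A) ha
    rwa [← mul_assoc, Units.inv_mul, one_mul] at this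
  exact h (Ideal.IsPrime.mem_of_pow_mem inferInstance n h1)

end alg

end Groth.Agent.Lib.Helper23.FlatCl
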