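import Groth.Agent.Lib.Helper23.FlatClA

/-!
# Flat closure over a DVR: the generic fibre as an open subscheme
-/

set_option autoImplicit false
universe u
open CategoryTheory AlgebraicGeometry Limits

namespace Groth.Agent.Lib.Helper23.FlatCl

variable {A : Type u} [CommRing A] [IsDomain A] [IsDiscreteValuationRing A]

lemma isFractionRing_of_eq_bot (I : Ideal A) [I.IsPrime] (h : I = ⊥) :
    IsFractionRing A I.ResidueField := by
  subst h; infer_instance

lemma isOpenImmersion_fromSpecResidueField (η : ↥(Spec (CommRingCat.of A)))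
    (hη : η.asIdeal = ⊥) :
    IsOpenImmersion ((Spec (CommRingCat.of A)).fromSpecResidueField η) := by
  obtain ⟨π, hπ⟩ := IsDiscreteValuationRing.exists_irreducible A
  haveI := isFractionRing_of_eq_bot η.asIdeal hη
  haveI := isLocalization_away (A := A) η.asIdeal.ResidueField hπ
  rw [← Scheme.Spec.map_residueFieldIso_inv_eq_fromSpecResidueField]
  haveI := IsOpenImmersion.of_isLocalization (R := A) (S := η.asIdeal.ResidueField) π
  infer_instance

variable {X : Scheme.{u}} (f : X ⟶ Spec (CommRingCat.of A))

/-- The image of `a : A` in `Γ(X, U)`. -/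
noncomputable def sec (U : X.Opens) : A →+* Γ(X, U) :=
  ((Scheme.ΓSpecIso (CommRingCat.of A)).inv ≫ f.appLE ⊤ U (by simp)).hom

lemma basicOpen_sec (U : X.Opens) (a : A) :
    X.basicOpen (sec f U a) = U ⊓ f ⁻¹ᵁ (PrimeSpectrum.basicOpen a) := by
  rw [← basicOpen_eq_of_affine (R := CommRingCat.of A) a, ← Scheme.basicOpen_appLE]
  rfl

variable (η : ↥(Spec (CommRingCat.of A)))

lemma isOpenImmersion_fiberι (hη : η.asIdeal = ⊥) : IsOpenImmersion (f.fiberι η) := by
  haveI := isOpenImmersion_fromSpecResidueField η hη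
  exact (inferInstance : IsOpenImmersion
    (pullback.fst f ((Spec (CommRingCat.of A)).fromSpecResidueField η)))

lemma quasiCompact_fiberι : QuasiCompact (f.fiberι η) :=
  (inferInstance : QuasiCompact
    (pullback.fst f ((Spec (CommRingCat.of A)).fromSpecResidueField η)))

lemma basicOpen_sec_le_range (hη : η.asIdeal = ⊥) {π : A} (hπ : Irreducible π)
    (U : X.Opens) : (X.basicOpen (sec f U π) : Set X) ⊆ Set.range (f.fiberι η) := by
  rw [basicOpen_sec]
  rintro x ⟨-, hx⟩
  rw [Scheme.Hom.range_fiberι]
  change f x = η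
  have hx' : π ∉ (f x).asIdeal := hx
  have := eq_bot_of_not_mem hπ (f x).asIdeal hx'
  exact PrimeSpectrum.ext (this.trans hη.symm)

lemma range_le_basicOpen_sec (hη : η.asIdeal = ⊥) {π : A} (hπ : Irreducible π) :
    Set.range (f.fiberι η) ⊆ (X.basicOpen (sec f ⊤ π) : Set X) := by
  rw [basicOpen_sec]
  rintro x hx'
  rw [Scheme.Hom.range_fiberι] at hx'
  refine ⟨trivial, ?_⟩
  change π ∉ (f x).asIdeal
  have : f x = η := hx'
  rw [this, hη]
  exact hπ.ne_zero

/-- Key lemma: a section killed by pullback to the generic fibre is killed by a power of the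
uniformizer. -/
lemma exists_pow_mul_eq_zero (hη : η.asIdeal = ⊥) {π : A} (hπ : Irreducible π)
    {U : X.Opens} (hU : IsAffineOpen U) (s : Γ(X, U))
    (hs : (f.fiberι η).app U s = 0) : ∃ n : ℕ, (sec f U π) ^ n * s = 0 := by
  apply exists_pow_mul_eq_zero_of_res_basicOpen_eq_zero_of_isAffineOpen X hU s (sec f U π)
  have := isOpenImmersion_fiberι f η hη
  set g := f.fiberι η with hg
  set W := X.basicOpen (sec f U π) with hW
  have hWle : W ≤ g.opensRange := basicOpen_sec_le_range f η hη hπ U
  have : IsIso (g.app W) := g.isIso_app W hWle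
  have hinj : Function.Injective (g.app W) :=
    (ConcreteCategory.bijective_of_isIso (g.app W)).1
  apply hinj
  rw [map_zero]
  have hnat := g.naturality (homOfLE (X.basicOpen_le (sec f U π))).op
  have := ConcreteCategory.congr_hom hnat s
  rw [CommRingCat.comp_apply, CommRingCat.comp_apply, hs, map_zero] at this
  exact this

end Groth.Agent.Lib.Helper23.FlatCl
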