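import Mathlib
import Groth.Agent.Lib.Helper27.FFExt1
import Groth.Agent.Lib.Helper23.FFAC2

/-!
Frobenius-fixed places of `k̄ ⊗ K` for a finite constant field `k` (S11068).
-/

set_option autoImplicit false

namespace Groth.Agent.Lib.Helper23.Frob

open FunFld Polynomial

/-- Fixed points of the `q`-power map are the elements of the finite field with `q` elements. -/
theorem mem_range_of_pow_card_eq {k L : Type*} [Field k] [Finite k] [Field L] [Algebra k L]
    {z : L} (hz : z ^ Nat.card k = z) : z ∈ Set.range (algebraMap k L) := by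
  classical
  haveI := Fintype.ofFinite k
  obtain ⟨q, hq_def⟩ : ∃ q, q = Nat.card k := ⟨_, rfl⟩
  rw [← hq_def] at hz
  have hqF : q = Fintype.card k := by rw [hq_def, Nat.card_eq_fintype_card]
  have hq : 1 < q := by rw [hq_def]; exact Finite.one_lt_card
  by_contra hne
  have hp0 : (X ^ q - X : L[X]) ≠ 0 := FiniteField.X_pow_card_sub_X_ne_zero L hq
  have hdeg : (X ^ q - X : L[X]).natDegree = q := FiniteField.X_pow_card_sub_X_natDegree_eq L hq
  have hroot : ∀ w : L, w ^ q = w → w ∈ (X ^ q - X : L[X]).roots.toFinset := by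
    intro w hw
    rw [Multiset.mem_toFinset, mem_roots hp0, IsRoot.def, eval_sub, eval_pow, eval_X, hw, sub_self]
  have hsub : insert z (Finset.univ.image (algebraMap k L)) ⊆
      (X ^ q - X : L[X]).roots.toFinset := by
    intro w hw
    rw [Finset.mem_insert, Finset.mem_image] at hw
    rcases hw with rfl | ⟨c, -, rfl⟩
    · exact hroot _ hz
    · apply hroot
      rw [← map_pow, hqF, FiniteField.pow_card]
  have h1 := Finset.card_le_card hsub
  rw [Finset.card_insert_of_notMem (by
      rw [Finset.mem_image]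
      rintro ⟨c, -, hc⟩
      exact hne ⟨c, hc⟩),
    Finset.card_image_of_injective _ (algebraMap k L).injective, Finset.card_univ] at h1
  have h2 : (X ^ q - X : L[X]).roots.toFinset.card ≤ q :=
    ((Multiset.toFinset_card_le _).trans (card_roots' _)).trans hdeg.le
  omega

section

variable {k K kb Kb : Type*} [Field k] [Field K] [Algebra k K] [Field kb] [Algebra k kb]
  [Field Kb] [Algebra K Kb] [Algebra kb Kb]

theorem val_lt_one_iff_of_le (Q : Place kb Kb) (P : Place k K)
    (hQP : ∀ x : K, Q.1 (algebraMap K Kb x) ≤ 1 ↔ P.1 x ≤ 1) (x : K) :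
    Q.1 (algebraMap K Kb x) < 1 ↔ P.1 x < 1 := by
  by_cases hx : x = 0
  · subst hx; simp
  · have h1 := hQP x⁻¹
    have hQ0 : 0 < Q.1 (algebraMap K Kb x) := by
      rw [zero_lt_iff, Valuation.ne_zero_iff]
      exact (_root_.map_ne_zero _).mpr hx
    have hP0 : 0 < P.1 x := by
      rw [zero_lt_iff, Valuation.ne_zero_iff]
      exact hx
    rw [map_inv₀ (algebraMap K Kb), map_inv₀ Q.1, map_inv₀ P.1, inv_le_one₀ hQ0,
      inv_le_one₀ hP0] at h1
    rw [← not_le, ← not_le]
    exact not_congr h1

/-- Gauss-type lemma at a rational place: a combination of `K`-elements with `k`-independent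
constant coefficients is in the maximal ideal iff all the `K`-elements are. -/
theorem val_sum_lt_one_iff
    (hc : ∀ c : k, algebraMap K Kb (algebraMap k K c) = algebraMap kb Kb (algebraMap k kb c))
    (Q : Place kb Kb) (P : Place k K)
    (hQP : ∀ x : K, Q.1 (algebraMap K Kb x) ≤ 1 ↔ P.1 x ≤ 1) (hdeg : P.deg = 1)
    {ι : Type*} (B : ι → kb) (hB : LinearIndependent k B) (s : Finset ι) (a : ι → K) :
    Q.1 (∑ i ∈ s, algebraMap kb Kb (B i) * algebraMap K Kb (a i)) < 1 ↔
      ∀ i ∈ s, P.1 (a i) < 1 := by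
  classical
  have hlt := val_lt_one_iff_of_le Q P hQP
  constructor
  · intro hz
    by_contra hcon
    push Not at hcon
    obtain ⟨j, hj, hj1⟩ := hcon
    obtain ⟨j₀, hj₀, hmax⟩ := Finset.exists_max_image s (fun i => P.1 (a i)) ⟨j, hj⟩
    have hM1 : 1 ≤ P.1 (a j₀) := hj1.trans (hmax j hj)
    have hMpos : 0 < P.1 (a j₀) := lt_of_lt_of_le zero_lt_one hM1
    have hM0 : a j₀ ≠ 0 := by
      intro h0
      rw [h0, map_zero] at hMpos
      exact lt_irrefl _ hMpos
    have hb : ∀ i ∈ s, P.1 (a i / a j₀) ≤ 1 := by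
      intro i hi
      rw [map_div₀, div_le_one₀ hMpos]
      exact hmax i hi
    have hβ : ∀ i, ∃ β : k, i ∈ s → P.1 (a i / a j₀ - algebraMap k K β) < 1 := by
      intro i
      by_cases hi : i ∈ s
      · obtain ⟨β, hβ⟩ := FF.exists_const_val_sub_lt_one P hdeg (hb i hi)
        exact ⟨β, fun _ => hβ⟩
      · exact ⟨0, fun h => absurd h hi⟩
    choose β hβ using hβ
    have hβ0 : β j₀ ≠ 0 := by
      intro h0
      have := hβ j₀ hj₀
      rw [h0, map_zero, sub_zero, div_self hM0, map_one] at this
      exact lt_irrefl _ this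
    have hC₀ne : (∑ i ∈ s, β i • B i) ≠ 0 := by
      intro h0
      exact hβ0 (linearIndependent_iff'.mp hB s β h0 j₀ hj₀)
    have hz_eq : ∑ i ∈ s, algebraMap kb Kb (B i) * algebraMap K Kb (a i) =
        algebraMap K Kb (a j₀) * (algebraMap kb Kb (∑ i ∈ s, β i • B i) +
          ∑ i ∈ s, algebraMap kb Kb (B i) *
            algebraMap K Kb (a i / a j₀ - algebraMap k K (β i))) := by
      rw [map_sum, ← Finset.sum_add_distrib, Finset.mul_sum]
      apply Finset.sum_congr rfl
      intro i _
      have e1 : algebraMap K Kb (a i) =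
          algebraMap K Kb (a j₀) * algebraMap K Kb (a i / a j₀) := by
        rw [← map_mul]
        congr 1
        field_simp
      rw [Algebra.smul_def, map_mul, map_sub, hc, e1]
      ring
    have hsmall : Q.1 (∑ i ∈ s, algebraMap kb Kb (B i) *
        algebraMap K Kb (a i / a j₀ - algebraMap k K (β i))) < 1 := by
      apply Valuation.map_sum_lt Q.1 one_ne_zero
      intro i hi
      rw [map_mul]
      calc Q.1 (algebraMap kb Kb (B i)) *
            Q.1 (algebraMap K Kb (a i / a j₀ - algebraMap k K (β i)))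
          ≤ 1 * Q.1 (algebraMap K Kb (a i / a j₀ - algebraMap k K (β i))) :=
            mul_le_mul' (Q.2.1 (B i)) le_rfl
        _ = Q.1 (algebraMap K Kb (a i / a j₀ - algebraMap k K (β i))) := one_mul _
        _ < 1 := (hlt _).mpr (hβ i hi)
    have hone : Q.1 (algebraMap kb Kb (∑ i ∈ s, β i • B i)) = 1 :=
      Groth.Agent.Lib.Helper27.FF.val_const Q hC₀ne
    have htot : Q.1 (algebraMap kb Kb (∑ i ∈ s, β i • B i) + ∑ i ∈ s, algebraMap kb Kb (B i) *
        algebraMap K Kb (a i / a j₀ - algebraMap k K (β i))) = 1 := by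
      rw [Q.1.map_add_eq_of_lt_left (by rw [hone]; exact hsmall), hone]
    rw [hz_eq, map_mul, htot, mul_one] at hz
    exact absurd ((hlt _).mp hz) (not_lt.mpr hM1)
  · intro h
    apply Valuation.map_sum_lt Q.1 one_ne_zero
    intro i hi
    rw [map_mul]
    calc Q.1 (algebraMap kb Kb (B i)) * Q.1 (algebraMap K Kb (a i))
        ≤ 1 * Q.1 (algebraMap K Kb (a i)) := mul_le_mul' (Q.2.1 (B i)) le_rfl
      _ = Q.1 (algebraMap K Kb (a i)) := one_mul _
      _ < 1 := (hlt _).mpr (h i hi)

/-- Every element of `K̄ = K[k̄]` is a `K`-combination of the elements of a `k`-basis of `k̄`. -/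
theorem exists_repr
    (hc : ∀ c : k, algebraMap K Kb (algebraMap k K c) = algebraMap kb Kb (algebraMap k kb c))
    (hgen : Algebra.adjoin K (Set.range (algebraMap kb Kb)) = ⊤)
    {ι : Type*} (B : Module.Basis ι k kb) (z : Kb) :
    ∃ (s : Finset ι) (a : ι → K),
      z = ∑ i ∈ s, algebraMap kb Kb (B i) * algebraMap K Kb (a i) := by
  classical
  set N : Submodule K Kb := Submodule.span K (Set.range fun i => algebraMap kb Kb (B i)) with hN
  have hmem : ∀ c : kb, algebraMap kb Kb c ∈ N := by
    intro c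
    have h1 := B.linearCombination_repr c
    rw [Finsupp.linearCombination_apply, Finsupp.sum] at h1
    rw [← h1, map_sum]
    apply Submodule.sum_mem
    intro i _
    rw [Algebra.smul_def, map_mul, ← hc, ← Algebra.smul_def]
    exact Submodule.smul_mem _ _ (Submodule.subset_span ⟨i, rfl⟩)
  have hmul : N * N ≤ N := by
    rw [hN, Submodule.span_mul_span]
    apply Submodule.span_le.mpr
    rintro _ ⟨_, ⟨i, rfl⟩, _, ⟨j, rfl⟩, rfl⟩
    show algebraMap kb Kb (B i) * algebraMap kb Kb (B j) ∈ N
    rw [← map_mul]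
    exact hmem _
  have hall : ∀ z ∈ Algebra.adjoin K (Set.range (algebraMap kb Kb)), z ∈ N := by
    intro z hz
    refine Algebra.adjoin_induction (p := fun z _ => z ∈ N) ?_ ?_ ?_ ?_ hz
    · rintro _ ⟨c, rfl⟩
      exact hmem c
    · intro r
      have : algebraMap K Kb r = r • algebraMap kb Kb 1 := by
        rw [map_one, Algebra.smul_def, mul_one]
      rw [this]
      exact Submodule.smul_mem _ _ (hmem 1)
    · intro x y _ _ hx hy
      exact Submodule.add_mem _ hx hy
    · intro x y _ _ hx hy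
      exact hmul (Submodule.mul_mem_mul hx hy)
  have hz : z ∈ N := hall z (by rw [hgen]; exact Algebra.mem_top)
  rw [hN, Finsupp.mem_span_range_iff_exists_finsupp] at hz
  obtain ⟨f, hf⟩ := hz
  refine ⟨f.support, fun i => f i, ?_⟩
  rw [← hf, Finsupp.sum]
  apply Finset.sum_congr rfl
  intro i _
  show f i • algebraMap kb Kb (B i) = algebraMap kb Kb (B i) * algebraMap K Kb (f i)
  rw [Algebra.smul_def, mul_comm]

/-- An element of `O_P` is congruent modulo `Q` to a constant of the algebraic closure. -/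
theorem exists_const_closure [IsAlgClosed kb]
    (hc : ∀ c : k, algebraMap K Kb (algebraMap k K c) = algebraMap kb Kb (algebraMap k kb c))
    (hK : IsFunctionField k K) (Q : Place kb Kb) (P : Place k K)
    (hlt : ∀ x : K, P.1 x < 1 → Q.1 (algebraMap K Kb x) < 1)
    (hle : ∀ x : K, P.1 x ≤ 1 → Q.1 (algebraMap K Kb x) ≤ 1)
    {a : K} (ha : P.1 a ≤ 1) :
    ∃ c' : kb, Q.1 (algebraMap K Kb a - algebraMap kb Kb c') < 1 := by
  classical
  have hfin : Module.Finite k (IsLocalRing.ResidueField P.O) :=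
    FF.finiteDimensional_residueField hK P
  have hInt : Algebra.IsIntegral k (IsLocalRing.ResidueField P.O) :=
    @Algebra.IsIntegral.of_finite k (IsLocalRing.ResidueField P.O) _ _ _ hfin
  obtain ⟨m, hmon, hm⟩ := hInt.isIntegral (IsLocalRing.residue P.O ⟨a, ha⟩)
  have hcomp' : (IsLocalRing.residue P.O).comp (algebraMap k P.O) =
      algebraMap k (IsLocalRing.ResidueField P.O) := RingHom.ext (fun _ => rfl)
  have h1 : IsLocalRing.residue P.O (Polynomial.eval₂ (algebraMap k P.O) ⟨a, ha⟩ m) = 0 := by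
    rw [Polynomial.hom_eval₂, hcomp']
    exact hm
  rw [FF.residue_eq_zero_iff] at h1
  have hcomp : (P.O.subtype).comp (algebraMap k P.O) = algebraMap k K :=
    RingHom.ext (fun _ => rfl)
  have h2 : ((Polynomial.eval₂ (algebraMap k P.O) ⟨a, ha⟩ m : P.O) : K) =
      Polynomial.eval₂ (algebraMap k K) a m := by
    have := Polynomial.hom_eval₂ m (algebraMap k P.O) (P.O.subtype) ⟨a, ha⟩
    rw [hcomp] at this
    exact this
  rw [h2] at h1
  have h3 := hlt _ h1
  have hm'mon : (m.map (algebraMap k kb)).Monic := hmon.map _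
  have hsplit : (m.map (algebraMap k kb)).Splits := IsAlgClosed.splits _
  have h4 : algebraMap K Kb (Polynomial.eval₂ (algebraMap k K) a m) =
      ((m.map (algebraMap k kb)).roots.map
        (fun c => algebraMap K Kb a - algebraMap kb Kb c)).prod := by
    rw [Polynomial.hom_eval₂]
    have hcomp2 : (algebraMap K Kb).comp (algebraMap k K) =
        (algebraMap kb Kb).comp (algebraMap k kb) := RingHom.ext hc
    rw [hcomp2, ← Polynomial.eval₂_map]
    conv_lhs => rw [hsplit.eq_prod_roots_of_monic hm'mon]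
    rw [← Polynomial.coe_eval₂RingHom, map_multiset_prod, Multiset.map_map]
    congr 1
    apply Multiset.map_congr rfl
    intro c _
    simp
  rw [h4, map_multiset_prod, Multiset.map_map] at h3
  by_contra hcon
  push Not at hcon
  have hall : ∀ x ∈ Multiset.map (⇑Q.1 ∘ fun c => algebraMap K Kb a - algebraMap kb Kb c)
      (m.map (algebraMap k kb)).roots, x = 1 := by
    intro x hx
    rw [Multiset.mem_map] at hx
    obtain ⟨c, -, rfl⟩ := hx
    apply le_antisymm _ (hcon c)
    exact (Valuation.map_sub _ _ _).trans (max_le (hle a ha) (Q.2.1 c))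
  rw [Multiset.prod_eq_one hall] at h3
  exact lt_irrefl _ h3

/-- If the Frobenius fixes the place `Q`, the place `P` below `Q` has degree one. -/
theorem deg_eq_one_of_fixed [Finite k] [IsAlgClosed kb]
    (hc : ∀ c : k, algebraMap K Kb (algebraMap k K c) = algebraMap kb Kb (algebraMap k kb c))
    (hK : IsFunctionField k K) (F : Kb →+* Kb)
    (hF1 : ∀ c : kb, F (algebraMap kb Kb c) = algebraMap kb Kb c)
    (hF2 : ∀ x : K, F (algebraMap K Kb x) = algebraMap K Kb x ^ Nat.card k)
    (Q : Place kb Kb) (P : Place k K)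
    (hlt : ∀ x : K, Q.1 (algebraMap K Kb x) < 1 ↔ P.1 x < 1)
    (hle : ∀ x : K, Q.1 (algebraMap K Kb x) ≤ 1 ↔ P.1 x ≤ 1)
    (hfix : ∀ z : Kb, Q.1 (F z) < 1 ↔ Q.1 z < 1) : P.deg = 1 := by
  have hsurj : Function.Surjective (algebraMap k (IsLocalRing.ResidueField P.O)) := by
    intro w
    obtain ⟨⟨a, ha⟩, rfl⟩ := IsLocalRing.residue_surjective w
    obtain ⟨c', hc'⟩ := exists_const_closure hc hK Q P (fun x hx => (hlt x).mpr hx)
      (fun x hx => (hle x).mpr hx) ha
    have h1 : Q.1 (F (algebraMap K Kb a - algebraMap kb Kb c')) < 1 := (hfix _).mpr hc'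
    rw [map_sub, hF1, hF2] at h1
    have h2 : Q.1 (algebraMap K Kb (a ^ Nat.card k - a)) < 1 := by
      have e : algebraMap K Kb (a ^ Nat.card k - a) =
          (algebraMap K Kb a ^ Nat.card k - algebraMap kb Kb c') -
            (algebraMap K Kb a - algebraMap kb Kb c') := by
        rw [map_sub, map_pow]; ring
      rw [e]
      exact lt_of_le_of_lt (Valuation.map_sub _ _ _) (max_lt h1 hc')
    have h3 : P.1 (a ^ Nat.card k - a) < 1 := (hlt _).mp h2
    have h4 : (IsLocalRing.residue P.O ⟨a, ha⟩) ^ Nat.card k =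
        IsLocalRing.residue P.O ⟨a, ha⟩ := by
      rw [← map_pow, ← sub_eq_zero, ← map_sub, FF.residue_eq_zero_iff]
      exact h3
    exact mem_range_of_pow_card_eq h4
  unfold Place.deg
  exact Subalgebra.bot_eq_top_iff_finrank_eq_one.mp
    (Algebra.surjective_algebraMap_iff.mp hsurj).symm

end

end Groth.Agent.Lib.Helper23.Frob
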