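import Mathlib
import Groth.Prelude.Def_WeilCoh
import Groth.Agent.Lib.Helper23.FrobGeom2
import Groth.Agent.Lib.Helper23.WeilCohDim2
import Groth.Agent.Lib.Helper23.WeilCohPt
import Groth.Agent.Lib.Helper23.DualDet

/-!
# The Frobenius acting on a Weil cohomology theory (helper23)

`F^*` multiplies the trace by `q ^ dim`; consequences for determinants and characteristic
polynomials in complementary degrees.
-/

universe u v w

open AlgebraicGeometry CategoryTheory CategoryTheory.Limits

namespace Groth.Agent.Lib.Helper23.FrobWeil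

open Groth.Agent.Lib.Helper12.SchemeDimFT Groth.Agent.Lib.Helper23.WeilCohDim
  Groth.Agent.Lib.Helper23.WeilCohPt Groth.Agent.Lib.Helper23.FrobGeom

attribute [local instance] Curv2.resAlgebra

section Generic

variable (k : Type u) [Field k] (X : Scheme.{u}) [X.Over (Spec (CommRingCat.of k))]
  [LocallyOfFiniteType (X ↘ Spec (CommRingCat.of k))]

include k in
/-- A point whose closure has the dimension of the irreducible scheme is the generic point. -/
theorem eq_genericPoint_of_pdim_eq [IrreducibleSpace X] (x : X)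
    (h : WeilCoh.pdim X x = WeilCoh.dim X) : x = genericPoint X := by
  obtain ⟨n, hn⟩ := exists_trdeg_eq k X x
  obtain ⟨N, hN⟩ := exists_trdeg_eq k X (genericPoint X)
  rw [pdim_eq_of_trdeg_eq k X x n hn, dim_eq_of_trdeg_eq k X N hN] at h
  by_contra hne
  obtain ⟨U, hU, hx⟩ := exists_affineOpen_mem X x
  have hsp : genericPoint X ⤳ x := genericPoint_specializes x
  have hη : genericPoint X ∈ U := hsp.mem_open U.2 hx
  obtain ⟨m, hm1, hm2⟩ := exists_trdeg_eq_coheight k X U hU x hx
  obtain ⟨M, hM1, hM2⟩ := exists_trdeg_eq_coheight k X U hU _ hη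
  have h1 : m = n := by
    have : (m : Cardinal.{u}) = (n : Cardinal.{u}) := hm1.symm.trans hn
    exact_mod_cast this
  have h2 : M = N := by
    have : (M : Cardinal.{u}) = (N : Cardinal.{u}) := hM1.symm.trans hN
    exact_mod_cast this
  have hlt : hU.primeIdealOf ⟨genericPoint X, hη⟩ < hU.primeIdealOf ⟨x, hx⟩ :=
    (primeIdealOf_lt_iff hU _ _).mpr ⟨hsp, Ne.symm hne⟩
  have h3 := Order.coheight_add_one_le hlt
  rw [hm2, hM2] at h3
  have h4 : m + 1 ≤ M := by exact_mod_cast h3
  omega

end Generic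

section Skew

/-- A space with a perfect skew-symmetric pairing has even dimension. -/
theorem even_finrank_of_skew {K V : Type*} [Field K] [CharZero K] [AddCommGroup V] [Module K V]
    [Module.Finite K V] (B : V →ₗ[K] V →ₗ[K] K) [B.IsPerfPair]
    (hskew : ∀ v w, B v w = - B w v) : Even (Module.finrank K V) := by
  classical
  let b := Module.finBasis K V
  let e : V ≃ₗ[K] Module.Dual K V := B.toPerfPair
  let G := LinearMap.toMatrix b b.dualBasis e.toLinearMap
  have hG : IsUnit G.det := LinearEquiv.isUnit_det e b b.dualBasis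
  have hGt : G.transpose = -G := by
    ext i j
    simp only [Matrix.transpose_apply, Matrix.neg_apply, G, LinearMap.toMatrix_apply,
      Module.Basis.dualBasis_repr]
    exact hskew _ _
  have hdet : G.det = (-1) ^ Module.finrank K V * G.det := by
    conv_lhs => rw [← Matrix.det_transpose, hGt, Matrix.det_neg, Fintype.card_fin]
  by_contra hodd
  rw [Nat.not_even_iff_odd] at hodd
  rw [hodd.neg_one_pow, neg_one_mul] at hdet
  have h0 : G.det = 0 := by
    have h2 : (2 : K) * G.det = 0 := by linear_combination hdet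
    rcases mul_eq_zero.mp h2 with h | h
    · exact absurd h two_ne_zero
    · exact h
  exact hG.ne_zero h0

end Skew

section Theory

variable {k : Type u} [Field k] {P : ObjectProperty (Over (Spec (CommRingCat.of k)))}
variable {K : Type v} [Field K] (T : WeilCoh.TheoryOn.{u, v, w} k P K)

theorem finrank_gr_eq (X : P.FullSubcategory) (i j : ℤ)
    (hij : i + j = 2 * (WeilCoh.dim X.obj.left : ℤ)) :
    Module.finrank K ↥(T.gr X j) = Module.finrank K ↥(T.gr X i) := by
  haveI := T.duality X i j hij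
  have e := (WeilCoh.pairing K (T.gr X i) (T.gr X j) (T.tr X)).toPerfPair
  rw [e.finrank_eq, Subspace.dual_finrank_eq]

theorem even_finrank_middle [CharZero K] (X : P.FullSubcategory)
    (hn : Odd (WeilCoh.dim X.obj.left)) :
    Even (Module.finrank K ↥(T.gr X (WeilCoh.dim X.obj.left : ℤ))) := by
  haveI := T.duality X (WeilCoh.dim X.obj.left : ℤ) (WeilCoh.dim X.obj.left : ℤ) (by ring)
  apply even_finrank_of_skew (WeilCoh.pairing K (T.gr X (WeilCoh.dim X.obj.left : ℤ))
    (T.gr X (WeilCoh.dim X.obj.left : ℤ)) (T.tr X))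
  intro v w
  change T.tr X ((v : T.H X) * (w : T.H X)) = - T.tr X ((w : T.H X) * (v : T.H X))
  have h := T.gradedComm X _ _ (v : T.H X) (w : T.H X) v.2 w.2
  have hodd : Odd (((WeilCoh.dim X.obj.left : ℕ) : ℤ).natAbs *
      ((WeilCoh.dim X.obj.left : ℕ) : ℤ).natAbs) := by
    rw [Int.natAbs_natCast]
    exact hn.mul hn
  rw [hodd.neg_one_pow, neg_smul, one_smul] at h
  rw [h, map_neg]

end Theory

section Frob

variable (k₀ : Type u) [Field k₀] [Finite k₀] (k : Type u) [Field k] [IsAlgClosed k] [Algebra k₀ k]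
variable {K : Type v} [Field K] [CharZero K]
  (T : WeilCoh.TheoryOn.{u, v, w} k (WeilCoh.IsVar k) K)
variable {X : Scheme.{u}} (f : X ⟶ Spec (CommRingCat.of k₀))
  (FX : X ⟶ X) (hFb : FX.base = 𝟙 _) (hle : ∀ U : X.Opens, U ≤ FX ⁻¹ᵁ U)
  (hFapp : ∀ (U : X.Opens) (s : Γ(X, U)), (FX.appLE U U (hle U)).hom s = s ^ Nat.card k₀)
  (Xb : WeilCoh.Var k) (π : Xb.obj.left ⟶ X)
  (hπ : IsPullback π Xb.obj.hom f (Spec.map (CommRingCat.ofHom (algebraMap k₀ k))))
  (F : Xb ⟶ Xb) (hF : WeilCoh.sm F ≫ π = π ≫ FX)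

include hFb hle hFapp hπ hF in
/-- The geometric Frobenius has degree `q ^ dim`. -/
theorem residueDegree_frob_generic :
    haveI : IrreducibleSpace ↥Xb.obj.left := Xb.property.2.2
    (WeilCoh.sm F).residueDegree (genericPoint ↥Xb.obj.left) =
      (Nat.card k₀) ^ (WeilCoh.dim Xb.obj.left) := by
  haveI : IrreducibleSpace ↥Xb.obj.left := Xb.property.2.2
  haveI : Fintype k₀ := Fintype.ofFinite k₀
  obtain ⟨p, hp⟩ := CharP.exists k₀
  obtain ⟨e, hprime, hcard⟩ := FiniteField.card k₀ p
  haveI : ExpChar k₀ p := ExpChar.prime hprime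
  haveI : ExpChar k p := expChar_of_injective_algebraMap (algebraMap k₀ k).injective p
  have hq : Nat.card k₀ = p ^ (e : ℕ) := by
    rw [Nat.card_eq_fintype_card]
    exact hcard
  have hFapp' : ∀ (U : X.Opens) (s : Γ(X, U)),
      (FX.appLE U U (hle U)).hom s = s ^ (p ^ (e : ℕ)) := by
    intro U s
    rw [← hq]
    exact hFapp U s
  letI : Xb.obj.left.Over (Spec (CommRingCat.of k)) := ⟨Xb.obj.hom⟩
  haveI : LocallyOfFiniteType (Xb.obj.left ↘ Spec (CommRingCat.of k)) :=
    var_locallyOfFiniteType Xb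
  haveI : LocallyOfFiniteType Xb.obj.hom := var_locallyOfFiniteType Xb
  obtain ⟨N, hN⟩ := exists_trdeg_eq k Xb.obj.left (genericPoint ↥Xb.obj.left)
  have hdim : WeilCoh.dim Xb.obj.left = N := dim_eq_of_trdeg_eq k Xb.obj.left N hN
  rw [hdim, hq]
  exact residueDegree_frob k₀ k p e f FX hFb hle hFapp' π Xb.obj.hom hπ (WeilCoh.sm F)
    (Over.w F.hom) hF (genericPoint _) N hN

include hFb hle hFapp hπ hF in
/-- `F^*` multiplies the trace by `q ^ dim`. -/
theorem tr_pull_frob (a : T.H Xb) :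
    T.tr Xb (T.pull F a) = (Nat.card k₀ : K) ^ (WeilCoh.dim Xb.obj.left) * T.tr Xb a := by
  haveI : IrreducibleSpace ↥Xb.obj.left := Xb.property.2.2
  have hdeg := residueDegree_frob_generic k₀ k f FX hFb hle hFapp Xb π hπ F hF
  have hq : Nat.card k₀ ≠ 0 := Nat.card_pos.ne'
  have hne : (WeilCoh.sm F).residueDegree (genericPoint ↥Xb.obj.left) ≠ 0 := by
    rw [hdeg]
    exact pow_ne_zero _ hq
  have hp := var_pdim_eq_of_residueDegree_ne_zero F _ hne
  rw [pdim_genericPoint] at hp
  letI : Xb.obj.left.Over (Spec (CommRingCat.of k)) := ⟨Xb.obj.hom⟩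
  haveI : LocallyOfFiniteType (Xb.obj.left ↘ Spec (CommRingCat.of k)) :=
    var_locallyOfFiniteType Xb
  have hη : WeilCoh.sm F (genericPoint ↥Xb.obj.left) = genericPoint ↥Xb.obj.left :=
    eq_genericPoint_of_pdim_eq k Xb.obj.left _ hp
  have h := tr_cl_mul_pull T F (genericPoint ↥Xb.obj.left) a
  rw [hη, cl_genericPoint T Xb, one_mul, one_mul, hdeg] at h
  rw [h]
  push_cast
  rfl

include hFb hle hFapp hπ hF in
theorem pairing_pullDeg (i j : ℤ) (v : T.gr Xb i) (w : T.gr Xb j) :
    WeilCoh.pairing K (T.gr Xb i) (T.gr Xb j) (T.tr Xb) (T.pullDeg F i v) (T.pullDeg F j w) =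
      (Nat.card k₀ : K) ^ (WeilCoh.dim Xb.obj.left) *
        WeilCoh.pairing K (T.gr Xb i) (T.gr Xb j) (T.tr Xb) v w := by
  change T.tr Xb (T.pull F (v : T.H Xb) * T.pull F (w : T.H Xb)) =
    _ * T.tr Xb ((v : T.H Xb) * (w : T.H Xb))
  rw [← map_mul (T.pull F)]
  exact tr_pull_frob k₀ k T f FX hFb hle hFapp Xb π hπ F hF _

include hFb hle hFapp hπ hF in
/-- Determinants and characteristic polynomials of `F^*` in complementary degrees. -/
theorem frob_duality (i j : ℤ) (hij : i + j = 2 * (WeilCoh.dim Xb.obj.left : ℤ)) :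
    LinearMap.det (T.pullDeg F j) * LinearMap.det (T.pullDeg F i) =
        ((Nat.card k₀ : K) ^ (WeilCoh.dim Xb.obj.left)) ^ Module.finrank K ↥(T.gr Xb i) ∧
      Polynomial.C (LinearMap.det (T.pullDeg F i)) *
          (LinearMap.charpoly (T.pullDeg F j)).reverse =
        (-1) ^ Module.finrank K ↥(T.gr Xb i) *
          (LinearMap.charpoly (T.pullDeg F i)).comp
            (Polynomial.C ((Nat.card k₀ : K) ^ WeilCoh.dim Xb.obj.left) * Polynomial.X) := by
  haveI := T.duality Xb i j hij
  exact DualDet.det_mul_det_of_pairing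
    (WeilCoh.pairing K (T.gr Xb i) (T.gr Xb j) (T.tr Xb)) (T.pullDeg F i) (T.pullDeg F j) _
    (pairing_pullDeg k₀ k T f FX hFb hle hFapp Xb π hπ F hF i j)

end Frob

end Groth.Agent.Lib.Helper23.FrobWeil
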