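import Groth.Agent.Lib.Helper23.GenDiv
import Groth.Agent.Lib.Helper12.SmStratField
import Groth.Agent.Lib.Helper26.RegularSch
import Groth.Agent.Lib.Helper26.RegularNormal

/-!
# GenDiv2: the chains of `GenDiv` with the points taken in a nonempty open of normal points; every
proper integral curve over an algebraically closed field has such an open.
-/
set_option autoImplicit false
set_option linter.style.haveILetI false
universe u
open CategoryTheory CategoryTheory.Limits Opposite TopologicalSpace AlgebraicGeometry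
open Scheme.Modules
open Groth.Agent.Lib.Helper3 Groth.Agent.Lib.Helper3.QCSec Groth.Agent.Lib.Helper3.InvGen
open Groth.Agent.Lib.Helper23.T2

noncomputable section

namespace Groth.Agent.Lib.Helper23.GenDiv

open Groth.Agent.Lib.Helper23.Curve Groth.Agent.Lib.Helper23.EffCart
  Groth.Agent.Lib.Helper23.DegTensor Groth.Agent.Lib.Helper23.Inverse
  Groth.Agent.Lib.Helper7.PtDiv Groth.Agent.Lib.Helper7.CurvePair

variable (k : Type u) [Field k] [IsAlgClosed k] (X : Scheme.{u}) [X.Over (Spec (CommRingCat.of k))]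
  [IsProper (X ↘ Spec (CommRingCat.of k))] [IsIntegral X]

include k in
/-- a nonempty open all of whose points have integrally closed local rings -/
theorem exists_open_normal :
    ∃ U : X.Opens, (U : Set X).Nonempty ∧ ∀ x ∈ U, IsIntegrallyClosed (X.presheaf.stalk x) := by
  obtain ⟨U, hU, hsm⟩ := Groth.Agent.Lib.Helper12.SmStrat.exists_dense_smooth k
    (X ↘ Spec (CommRingCat.of k))
  refine ⟨U, hU.nonempty, fun x hx => ?_⟩
  haveI := hsm
  haveI := Groth.Agent.Lib.Helper26.RegularSch.isRegularLocalRing_stalk_of_smooth_field k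
    (U.ι ≫ (X ↘ Spec (CommRingCat.of k))) (⟨x, hx⟩ : U)
  haveI := Groth.Agent.Lib.Helper26.RegularNormal.isIntegrallyClosed_of_isRegularLocalRing
    (U.toScheme.presheaf.stalk (⟨x, hx⟩ : U))
  exact IsIntegrallyClosed.of_equiv (U.stalkIso ⟨x, hx⟩).commRingCatIsoToRingEquiv

variable (U : X.Opens) (hU : (U : Set X).Nonempty)
  (hn : ∀ x ∈ U, IsIntegrallyClosed (X.presheaf.stalk x))

include hU hn in
/-- step down at a non base point in `U`: `H¹ = 0` is kept -/
theorem step_h1' (hdim : topologicalKrullDim X = 1)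
    {M : X.Modules} (hM : PicF.IsInvertible M) (h1 : Subsingleton (Coh.HH X M 1))
    (hd : (Curv2.genus k X : ℤ) ≤ Curv2.deg k X M 1) :
    ∃ M' : X.Modules, PicF.IsInvertible M' ∧ Curv2.deg k X M' 1 = Curv2.deg k X M 1 - 1 ∧
      Subsingleton (Coh.HH X M' 1) := by
  haveI := isNoetherian_of_isProper k X
  have h0 := h0_one k X
  have hrr := riemann_roch k hdim.le h0 hM
  have e1 : Module.finrank k (Coh.HH X M 1) = 0 := Module.finrank_zero_of_subsingleton
  rw [e1] at hrr
  push_cast at hrr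
  haveI : Module.Finite k (Coh.HH X M 0) := finite_HH k M (isCoh_of_isInvertible hM) 0
  have hpos : 0 < Module.finrank k (Coh.HH X M 0) := by
    have : (0 : ℤ) < (Module.finrank k (Coh.HH X M 0) : ℤ) := by linarith
    exact_mod_cast this
  have hnt : Nontrivial (Coh.HH X M 0) := Module.nontrivial_of_finrank_pos (R := k) hpos
  obtain ⟨s, hs⟩ := exists_section_of_nontrivial M hnt
  obtain ⟨y, hy⟩ := Groth.Agent.Lib.Helper23.AmpleCurve.exists_mem_genLocus hM s hs
  have hne : ((CohB1.genLocus M s ⊓ U : X.Opens) : Set X).Nonempty :=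
    nonempty_preirreducible_inter (CohB1.genLocus M s).isOpen U.isOpen ⟨y, hy⟩ hU
  obtain ⟨x, hx, hxU⟩ := exists_closed_mem k X (CohB1.genLocus M s ⊓ U) hne
  have hs' : InvAmple.globalHom M (sec s ⊤) = s :=
    hom_ext_sec _ _ (sec_globalHom_top M _)
  obtain ⟨hI, hdeg⟩ := twist_point k X hdim x hx (hn x hxU.2) hM
  refine ⟨_, hI, hdeg, ?_⟩
  have hadd := h0_ideal_tensor_add_one k hM x hx (sec s ⊤) (by rw [hs']; exact hxU.1)
  have hrr' := riemann_roch k hdim.le h0 hI
  rw [hdeg] at hrr'
  haveI : Module.Finite k (Coh.HH X (CohB1.tensorMod (ClSub.idealMod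
      (Scheme.IdealSheafData.vanishingIdeal ⟨{x}, hx⟩)) M) 1) :=
    finite_HH k _ (isCoh_of_isInvertible hI) 1
  have hadd' : (Module.finrank k (Coh.HH X (CohB1.tensorMod (ClSub.idealMod
      (Scheme.IdealSheafData.vanishingIdeal ⟨{x}, hx⟩)) M) 0) : ℤ) + 1 =
      (Module.finrank k (Coh.HH X M 0) : ℤ) := by exact_mod_cast hadd
  have hz : Module.finrank k (Coh.HH X (CohB1.tensorMod (ClSub.idealMod
      (Scheme.IdealSheafData.vanishingIdeal ⟨{x}, hx⟩)) M) 1) = 0 := by
    have : (Module.finrank k (Coh.HH X (CohB1.tensorMod (ClSub.idealMod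
      (Scheme.IdealSheafData.vanishingIdeal ⟨{x}, hx⟩)) M) 1) : ℤ) = 0 := by linarith
    exact_mod_cast this
  exact Module.finrank_zero_iff.mp hz

include hU hn in
/-- an invertible module of degree one -/
theorem exists_invertible_deg_one' (hdim : topologicalKrullDim X = 1) :
    ∃ A : X.Modules, PicF.IsInvertible A ∧ Curv2.deg k X A 1 = 1 := by
  obtain ⟨x, hx, hxU⟩ := exists_closed_mem k X U hU
  obtain ⟨hI, hdeg⟩ := twist_point k X hdim x hx (hn x hxU) (isInvertible_structureModule X)
  refine ⟨_, isInvertible_dual hI, ?_⟩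
  rw [deg_dual k hdim.le hI, hdeg, deg_structureModule_one]
  norm_num

include hU hn in
/-- the downward chain -/
theorem exists_chain' (hdim : topologicalKrullDim X = 1) (N : ℕ)
    (hN : 2 * (Curv2.genus k X : ℤ) - 1 ≤ N) (n : ℕ) :
    (Curv2.genus k X : ℤ) - 1 ≤ (N : ℤ) - n →
    ∃ M : X.Modules, PicF.IsInvertible M ∧ Curv2.deg k X M 1 = (N : ℤ) - n ∧
      Subsingleton (Coh.HH X M 1) := by
  induction n with
  | zero =>
    intro _
    obtain ⟨A, hA, hdA⟩ := exists_invertible_deg_one' k X U hU hn hdim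
    have hP := InvTensor.isInvertible_tensorPow hA N
    have hdP : Curv2.deg k X (CohB1.tensorPow A N) 1 = (N : ℤ) - (0 : ℕ) := by
      rw [Groth.Agent.Lib.Helper23.AmpleCurve.deg_tensorPow k hdim.le hA N, hdA]
      push_cast
      ring
    refine ⟨_, hP, hdP, ?_⟩
    exact h1_vanish_of_deg_ge' k hdim.le (h0_one k X) hP (by rw [hdP]; push_cast; linarith)
  | succ n ih =>
    intro h
    push_cast at h
    obtain ⟨M, hM, hdM, h1M⟩ := ih (by linarith)
    obtain ⟨M', hM', hdM', h1M'⟩ := step_h1' k X U hU hn hdim hM h1M (by rw [hdM]; linarith)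
    refine ⟨M', hM', ?_, h1M'⟩
    rw [hdM', hdM]
    push_cast
    ring

include hU hn in
/-- every degree `d ≥ g - 1` carries an invertible module with `H¹ = 0` -/
theorem exists_invertible_deg_h1_zero' (hdim : topologicalKrullDim X = 1) (d : ℤ)
    (hd : (Curv2.genus k X : ℤ) - 1 ≤ d) :
    ∃ M : X.Modules, PicF.IsInvertible M ∧ Curv2.deg k X M 1 = d ∧
      Subsingleton (Coh.HH X M 1) := by
  obtain ⟨N, hN1, hN2⟩ : ∃ N : ℕ, 2 * (Curv2.genus k X : ℤ) - 1 ≤ N ∧ d ≤ N := by
    refine ⟨max d.toNat (2 * Curv2.genus k X), ?_, ?_⟩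
    · have : (2 * Curv2.genus k X : ℕ) ≤ max d.toNat (2 * Curv2.genus k X) := le_max_right _ _
      have h2 : ((2 * Curv2.genus k X : ℕ) : ℤ) ≤ (max d.toNat (2 * Curv2.genus k X) : ℕ) := by
        exact_mod_cast this
      push_cast at h2 ⊢
      linarith
    · have : d.toNat ≤ max d.toNat (2 * Curv2.genus k X) := le_max_left _ _
      have h2 : (d.toNat : ℤ) ≤ (max d.toNat (2 * Curv2.genus k X) : ℕ) := by exact_mod_cast this
      have h3 := Int.self_le_toNat d
      linarith
  obtain ⟨n, hn'⟩ : ∃ n : ℕ, (N : ℤ) - n = d := ⟨((N : ℤ) - d).toNat, by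
    rw [Int.toNat_of_nonneg (by linarith)]; ring⟩
  obtain ⟨M, hM, hdM, h1M⟩ := exists_chain' k X U hU hn hdim N hN1 n (by rw [hn']; exact hd)
  exact ⟨M, hM, hdM.trans hn', h1M⟩

/-- on any proper integral curve over an algebraically closed field, every degree `d ≥ g - 1`
carries an invertible module with `H¹ = 0` -/
theorem exists_invertible_deg_h1_zero'' (hdim : topologicalKrullDim X = 1) (d : ℤ)
    (hd : (Curv2.genus k X : ℤ) - 1 ≤ d) :
    ∃ M : X.Modules, PicF.IsInvertible M ∧ Curv2.deg k X M 1 = d ∧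
      Subsingleton (Coh.HH X M 1) := by
  obtain ⟨U, hU, hn⟩ := exists_open_normal k X
  exact exists_invertible_deg_h1_zero' k X U hU hn hdim d hd

end Groth.Agent.Lib.Helper23.GenDiv
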