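import Groth.Agent.Lib.Helper23.StructPush
import Groth.Agent.Lib.Helper23.FinBirat
import Groth.Agent.Lib.Helper17.AffIso

/-!
# IsoGenus: a proper birational morphism of curves which preserves `h⁰` and `h¹` of the structure
sheaf is an isomorphism (reduced target).
-/
set_option autoImplicit false
set_option linter.style.haveILetI false
universe u
open CategoryTheory CategoryTheory.Limits Opposite TopologicalSpace AlgebraicGeometry
open Groth.Agent.Lib.Helper3 Groth.Agent.Lib.Helper3.QCSec Groth.Agent.Lib.Helper3.InvGen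
open Groth.Agent.Lib.Helper23.T2

noncomputable section

namespace Groth.Agent.Lib.Helper23.IsoGenus

open Groth.Agent.Lib.Helper23.Curve Groth.Agent.Lib.Helper23.FBC
  Groth.Agent.Lib.Helper23.StructPush

variable {X Y : Scheme.{u}} (f : Y ⟶ X)

/-- if `f` restricted over `U` is an isomorphism then `f^♯` is bijective on opens inside `U` -/
theorem app_bijective_of_le (U : X.Opens) [IsIso (f ∣_ U)] (W : X.Opens) (hWU : W ≤ U) :
    Function.Bijective (f.app W).hom := by
  have hW' : U.ι ''ᵁ (U.ι ⁻¹ᵁ W) = W := ι_image_preimage_of_le hWU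
  have h1 : Function.Bijective ((f ∣_ U).app (U.ι ⁻¹ᵁ W)).hom :=
    ConcreteCategory.bijective_of_isIso ((f ∣_ U).app (U.ι ⁻¹ᵁ W))
  rw [morphismRestrict_app] at h1
  have hb : Function.Bijective (Y.presheaf.map (eqToHom
      (image_morphismRestrict_preimage f U (U.ι ⁻¹ᵁ W))).op).hom :=
    ConcreteCategory.bijective_of_isIso _
  have h2 : Function.Bijective (f.app (U.ι ''ᵁ (U.ι ⁻¹ᵁ W))).hom :=
    (Function.Bijective.of_comp_iff' hb _).1 h1
  revert h2
  generalize U.ι ''ᵁ (U.ι ⁻¹ᵁ W) = W'' at hW'
  subst hW'
  exact id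

/-- `O_X ⟶ f_* O_Y` is a monomorphism if `X` is reduced and `f` is an isomorphism over a dense
open -/
theorem mono_structMap [IsReduced X] (U : X.Opens) (hU : Dense (U : Set X)) [IsIso (f ∣_ U)] :
    Mono (structMap f) := by
  rw [QCProps.mono_iff_app_injective]
  intro W a b hab
  have h1 := structMap_app f W (toFun W a)
  have h2 := structMap_app f W (toFun W b)
  have hab' : (f.app W).hom (toFun W a) = (f.app W).hom (toFun W b) := by
    have : (ofFun (f ⁻¹ᵁ W) ((f.app W).hom (toFun W a)) : Γ(Coh.structureModule Y, f ⁻¹ᵁ W)) =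
        ofFun (f ⁻¹ᵁ W) ((f.app W).hom (toFun W b)) := by
      rw [← h1, ← h2]; exact hab
    exact ofFun_injective _ this
  have hfc : (f.app W).hom (toFun W a - toFun W b) = 0 := by rw [map_sub, hab', sub_self]
  have hc : toFun W a - toFun W b = 0 := by
    rw [← basicOpen_eq_bot_iff]
    by_contra hne
    obtain ⟨x, hx⟩ : ((X.basicOpen (toFun W a - toFun W b) : X.Opens) : Set X).Nonempty := by
      rw [Set.nonempty_iff_ne_empty]
      intro h
      apply hne
      ext y
      simp [h]
    obtain ⟨y, hy1, hy2⟩ := hU.inter_open_nonempty _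
      (X.basicOpen (toFun W a - toFun W b)).isOpen ⟨x, hx⟩
    have hW'W : W ⊓ U ≤ W := inf_le_left
    have hres : (X.presheaf.map (homOfLE hW'W).op).hom (toFun W a - toFun W b) = 0 := by
      apply (app_bijective_of_le f U (W ⊓ U) inf_le_right).1
      rw [map_zero]
      have hn := congr($(f.naturality (homOfLE hW'W).op) (toFun W a - toFun W b))
      refine hn.trans ?_
      change (Y.presheaf.map _).hom ((f.app W).hom (toFun W a - toFun W b)) = 0
      rw [hfc, map_zero]
    have hy : y ∈ X.basicOpen ((X.presheaf.map (homOfLE hW'W).op).hom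
        (toFun W a - toFun W b)) := by
      rw [Scheme.basicOpen_res]
      exact ⟨⟨X.basicOpen_le _ hy1, hy2⟩, hy1⟩
    rw [hres, Scheme.basicOpen_zero] at hy
    exact hy
  exact sub_eq_zero.1 hc

theorem app_bijective_of_isIso_structMap [IsIso (structMap f)] (W : X.Opens) :
    Function.Bijective (f.app W).hom := by
  have hb := Groth.Agent.Lib.Helper17.AffIso.bijective_app_of_isIso (structMap f) W
  constructor
  · intro a b hab
    apply ofFun_injective W
    apply hb.1
    have h1 := structMap_app f W a
    have h2 := structMap_app f W b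
    rw [h1, h2, hab]
  · intro y
    obtain ⟨a, ha⟩ := hb.2 (ofFun (f ⁻¹ᵁ W) y : Γ(Coh.structureModule Y, f ⁻¹ᵁ W))
    refine ⟨toFun W a, ?_⟩
    have h2 := structMap_app f W (toFun W a)
    have h3 : (ofFun (f ⁻¹ᵁ W) ((f.app W).hom (toFun W a)) :
        Γ(Coh.structureModule Y, f ⁻¹ᵁ W)) = ofFun (f ⁻¹ᵁ W) y := h2.symm.trans ha
    exact ofFun_injective _ h3

theorem isIso_of_app_bijective [IsAffineHom f]
    (hbij : ∀ W : X.Opens, Function.Bijective (f.app W).hom) : IsIso f := by
  have key : MorphismProperty.isomorphisms Scheme f := by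
    apply IsZariskiLocalAtTarget.of_forall_exists_morphismRestrict
    intro x
    obtain ⟨W, hW, hxW⟩ := QCProps.exists_affine_nbhd x
    refine ⟨W, hxW, ?_⟩
    have h1 : IsIso (f.app W) := (ConcreteCategory.isIso_iff_bijective (f.app W)).2 (hbij W)
    have : IsIso (f ∣_ W) := (isIso_morphismRestrict_iff_isIso_app f hW).2 h1
    exact this
  exact key

section Main

variable (k : Type u) [Field k] [X.Over (Spec (CommRingCat.of k))]
  [IsProper (X ↘ Spec (CommRingCat.of k))] [Y.Over (Spec (CommRingCat.of k))]

include k in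
theorem isIso_structMap [IsReduced X] [IsAffineHom f]
    (hf : f ≫ (X ↘ Spec (CommRingCat.of k)) = Y ↘ Spec (CommRingCat.of k))
    (hdim : topologicalKrullDim X ≤ 1) (U : X.Opens)
    (hU : Dense (U : Set X)) [IsIso (f ∣_ U)]
    (h0 : Function.Surjective (f.app ⊤).hom)
    (h1 : Module.finrank k (Coh.HH Y (Coh.structureModule Y) 1) =
      Module.finrank k (Coh.HH X (Coh.structureModule X) 1)) : IsIso (structMap f) := by
  haveI : CompactSpace X :=
    QuasiCompact.compactSpace_of_compactSpace (X ↘ Spec (CommRingCat.of k))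
  haveI hmono : Mono (structMap f) := mono_structMap f U hU
  have hQv : VanishesOn (cokernel (structMap f)) U := vanishesOn_cokernel f U inferInstance
  have hQfl : IsFlq (cokernel (structMap f)) :=
    CurveGen.isFlq_of_vanishesOn_dense k X hdim _ U hU hQv
  have hS : (DegTensorGen.cokerSC' (structMap f)).ShortExact :=
    DegTensorGen.cokerSC_shortExact' (structMap f)
  obtain ⟨e⟩ := PushIso.nonempty_equiv f k hf
    (fun V hV => isAffineHom_ι_of_isSeparated k V hV) 1 (Coh.structureModule Y)
  haveI : Module.Finite k (Coh.HH X (Coh.structureModule X) 1) :=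
    finite_HH k (Coh.structureModule X) (isCoh_structureModule X) 1
  have hs1 : Function.Surjective (HmapK k (structMap f) 1) :=
    surjective_Hmap_structMap f k hdim U hU inferInstance
  haveI : Module.Finite k
      (Coh.HH X ((Scheme.Modules.pushforward f).obj (Coh.structureModule Y)) 1) :=
    Module.Finite.of_surjective (HmapK k (structMap f) 1) hs1
  have hfr : Module.finrank k (Coh.HH X (Coh.structureModule X) 1) =
      Module.finrank k
        (Coh.HH X ((Scheme.Modules.pushforward f).obj (Coh.structureModule Y)) 1) := by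
    rw [← h1, e.finrank_eq]
  have hi1 : Function.Injective (HmapK k (structMap f) 1) :=
    (LinearMap.injective_iff_surjective_of_finrank_eq_finrank hfr).2 hs1
  have hs0 : Function.Surjective (Hmap (structMap f) 0) := by
    intro y
    obtain ⟨r, hr⟩ := h0 (toFun (f ⁻¹ᵁ ⊤)
      (H0equiv ((Scheme.Modules.pushforward f).obj (Coh.structureModule Y)) y :
        Γ(Coh.structureModule Y, f ⁻¹ᵁ ⊤)))
    refine ⟨(H0equiv _).symm (ofFun ⊤ r), ?_⟩
    apply (H0equiv _).injective
    rw [H0equiv_naturality, LinearEquiv.apply_symm_apply]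
    change (structMap f).app ⊤ (ofFun ⊤ r) = _
    rw [structMap_app, hr]
    rfl
  have hQ0 : ∀ q : Coh.HH X (cokernel (structMap f)) 0, q = 0 := by
    intro q
    have hδ : Hδ (DegTensorGen.cokerSC' (structMap f)) hS 0 q = 0 := by
      apply hi1
      rw [map_zero]
      exact Hmap_f_Hδ (DegTensorGen.cokerSC' (structMap f)) hS 0 q
    obtain ⟨b, hb⟩ := exact₃ (DegTensorGen.cokerSC' (structMap f)) hS 0 q hδ
    obtain ⟨a, ha⟩ := hs0 b
    rw [← hb, ← ha]
    exact Hmap_comp_eq_zero (DegTensorGen.cokerSC' (structMap f)).f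
      (DegTensorGen.cokerSC' (structMap f)).g (DegTensorGen.cokerSC' (structMap f)).zero 0 a
  have hQsec : ∀ (W : X.Opens) (t : Γ(cokernel (structMap f), W)), t = 0 := by
    intro W t
    obtain ⟨s, hs⟩ := hQfl (homOfLE (le_top : W ≤ ⊤)).op t
    have hs0' : s = 0 := by
      have h := congrArg (H0equiv (cokernel (structMap f)))
        (hQ0 ((H0equiv (cokernel (structMap f))).symm s))
      rwa [LinearEquiv.apply_symm_apply, map_zero] at h
    subst hs0'
    rw [← hs]
    exact map_zero _
  haveI : Epi (structMap f) := by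
    apply Abelian.epi_of_cokernel_π_eq_zero
    apply Scheme.Modules.hom_ext
    intro W
    ext s
    exact hQsec W _
  exact isIso_of_mono_of_epi (structMap f)

include k in
/-- **A finite birational morphism preserving `h⁰` and `h¹` is an isomorphism.** -/
theorem isIso_of_genus_eq [IsReduced X] [IsAffineHom f]
    (hf : f ≫ (X ↘ Spec (CommRingCat.of k)) = Y ↘ Spec (CommRingCat.of k))
    (hdim : topologicalKrullDim X ≤ 1) (U : X.Opens)
    (hU : Dense (U : Set X)) [IsIso (f ∣_ U)]
    (h0 : Function.Surjective (f.app ⊤).hom)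
    (h1 : Module.finrank k (Coh.HH Y (Coh.structureModule Y) 1) =
      Module.finrank k (Coh.HH X (Coh.structureModule X) 1)) : IsIso f := by
  haveI := isIso_structMap f k hf hdim U hU h0 h1
  exact isIso_of_app_bijective f (app_bijective_of_isIso_structMap f)

end Main

end Groth.Agent.Lib.Helper23.IsoGenus
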