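import Groth.Agent.S1585
import Groth.Agent.S1561
import Groth.Agent.Lib.Helper23.IsoGenus
import Groth.Agent.Lib.Helper23.GeomH0
import Groth.Agent.Lib.Helper4.SerreNormal
import Groth.Agent.Lib.Helper1.CurveFlat

/-!
# GenusZeroSmooth: an integral proper curve of arithmetic genus zero over an algebraically closed
field is smooth.
-/
set_option autoImplicit false
set_option linter.style.haveILetI false
universe u
open CategoryTheory CategoryTheory.Limits Opposite TopologicalSpace AlgebraicGeometry
open Groth.Agent.Lib.Helper23.T2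

noncomputable section

namespace Groth.Agent.Lib.Helper23.GenusZeroSmooth

open Groth.Agent.Lib.Helper23.AlgConst Groth.Agent.Lib.Helper23.GeomH0

/-- global functions on a proper reduced connected scheme over an algebraically closed field are
constants -/
theorem toGlobal_bijective_of_isAlgClosed (K : Type u) [Field K] [IsAlgClosed K] (Y : Scheme.{u})
    [Y.Over (Spec (CommRingCat.of K))] [IsProper (Y ↘ Spec (CommRingCat.of K))]
    [IsReduced Y] [ConnectedSpace Y] :
    Function.Bijective (Coh.toGlobal (Y ↘ Spec (CommRingCat.of K))) := by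
  letI : Algebra K Γ(Y, ⊤) := (Coh.toGlobal (Y ↘ Spec (CommRingCat.of K))).toAlgebra
  let e := H0structEquiv K Y
  haveI : Module.Finite K (Coh.HH Y (Coh.structureModule Y) 0) :=
    Groth.Agent.S0002.result K Y _ (Groth.Agent.Lib.Helper23.T2.isCoh_structureModule Y) 0
  haveI : Module.Finite K Γ(Y, ⊤) := Module.Finite.equiv e
  have hunit : ∀ u : Γ(Y, ⊤), u ≠ 0 → IsUnit u := fun u hu =>
    (eq_zero_or_isUnit_of_isIntegral idem_trivial u
      (Algebra.IsIntegral.isIntegral (R := K) u)).resolve_left hu
  haveI : Nonempty (⊤ : Y.Opens) := by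
    obtain ⟨y⟩ : Nonempty Y := inferInstance
    exact ⟨⟨y, trivial⟩⟩
  haveI : Nontrivial Γ(Y, ⊤) := Scheme.component_nontrivial Y ⊤
  haveI : NoZeroDivisors Γ(Y, ⊤) := by
    refine ⟨fun {a b} hab => ?_⟩
    by_cases ha : a = 0
    · exact Or.inl ha
    · right
      exact (hunit a ha).mul_right_eq_zero.1 hab
  haveI : IsDomain Γ(Y, ⊤) := NoZeroDivisors.to_isDomain _
  have hbij : Function.Bijective (algebraMap K Γ(Y, ⊤)) :=
    IsAlgClosed.algebraMap_bijective_of_isIntegral
  exact hbij

/-- **An integral proper curve of arithmetic genus zero over an algebraically closed field is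
smooth.** -/
theorem smooth_of_genus_zero (k : Type u) [Field k] [IsAlgClosed k] (X : Scheme.{u})
    [X.Over (Spec (CommRingCat.of k))] [IsIntegral X]
    [IsProper (X ↘ Spec (CommRingCat.of k))] (hdim : topologicalKrullDim X = 1)
    (hg : Module.finrank k (Coh.HH X (Coh.structureModule X) 1) = 0) :
    Smooth (X ↘ Spec (CommRingCat.of k)) := by
  haveI : QuasiSeparatedSpace X :=
    quasiSeparatedSpace_of_quasiSeparated (X ↘ Spec (CommRingCat.of k))
  haveI : QuasiCompact (X.fromSpecStalk (genericPoint X)) := inferInstance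
  haveI : QuasiSeparated (X.fromSpecStalk (genericPoint X)) := inferInstance
  obtain ⟨hfin, -, ⟨V, hVne, hViso⟩, hint, hnorm⟩ := Groth.Agent.S1585.result k X
  letI : (Curv2.normalization X).Over (Spec (CommRingCat.of k)) :=
    ⟨Curv2.normalizationι X ≫ (X ↘ Spec (CommRingCat.of k))⟩
  have hf : Curv2.normalizationι X ≫ (X ↘ Spec (CommRingCat.of k)) =
      (Curv2.normalization X) ↘ Spec (CommRingCat.of k) := rfl
  haveI := hfin
  haveI := hViso
  haveI := hint
  have hVd : Dense (V : Set X) := V.isOpen.dense hVne
  haveI : IsProper ((Curv2.normalization X) ↘ Spec (CommRingCat.of k)) := by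
    rw [← hf]; infer_instance
  have hle := StructPush.finrank_H1_le (Curv2.normalizationι X) k hf hdim.le V hVd inferInstance
  have h1 : Module.finrank k
      (Coh.HH (Curv2.normalization X) (Coh.structureModule (Curv2.normalization X)) 1) =
      Module.finrank k (Coh.HH X (Coh.structureModule X) 1) := by omega
  have h0 : Function.Surjective ((Curv2.normalizationι X).app ⊤).hom := by
    intro y
    obtain ⟨c, hc⟩ := (toGlobal_bijective_of_isAlgClosed k (Curv2.normalization X)).2 y
    refine ⟨Coh.toGlobal (X ↘ Spec (CommRingCat.of k)) c, ?_⟩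
    rw [← hc]
    exact congrArg (fun φ => φ c)
      (toGlobal_comp (Curv2.normalizationι X) (X ↘ Spec (CommRingCat.of k)))
  haveI : IsIso (Curv2.normalizationι X) :=
    IsoGenus.isIso_of_genus_eq (Curv2.normalizationι X) k hf hdim.le V hVd h0 h1
  haveI : IsLocallyNoetherian X :=
    LocallyOfFiniteType.isLocallyNoetherian (X ↘ Spec (CommRingCat.of k))
  have hreg : ∀ x : X, IsRegularLocalRing (X.presheaf.stalk x) := by
    intro x
    obtain ⟨x', rfl⟩ : ∃ x', (Curv2.normalizationι X) x' = x :=
      (ConcreteCategory.bijective_of_isIso (Curv2.normalizationι X).base).2 x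
    let e : X.presheaf.stalk ((Curv2.normalizationι X) x') ≃+*
        (Curv2.normalization X).presheaf.stalk x' :=
      (asIso ((Curv2.normalizationι X).stalkMap x')).commRingCatIsoToRingEquiv
    obtain ⟨hd, hic⟩ := hnorm x'
    haveI := hd
    haveI := hic
    haveI : IsIntegrallyClosed (X.presheaf.stalk ((Curv2.normalizationι X) x')) :=
      IsIntegrallyClosed.of_equiv e.symm
    exact Groth.Agent.Lib.Helper4.SerreNormal.isRegularLocalRing_of_normal_of_dim_le_one _
      ((Groth.Agent.Lib.Helper1.CurveFlat.ringKrullDim_stalk_le X _).trans hdim.le)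
  haveI : LocallyOfFinitePresentation (X ↘ Spec (CommRingCat.of k)) :=
    LocallyOfFinitePresentation.iff_locallyOfFiniteType.2 inferInstance
  rw [← Scheme.Hom.smoothLocus_eq_top_iff]
  ext x
  simp only [Opens.coe_top, Set.mem_univ, iff_true]
  exact ((Groth.Agent.S1561.result k X).1 x).2 (hreg x)

end Groth.Agent.Lib.Helper23.GenusZeroSmooth
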