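import Groth.Agent.Lib.Helper23.VBMaps
import Groth.Agent.Lib.Helper15.IrrStalk

/-!
# A smooth geometrically connected scheme over a field is integral
-/

set_option autoImplicit false
universe u

open CategoryTheory CategoryTheory.Limits AlgebraicGeometry

namespace Groth.Agent.Lib.Helper23.GeomConn

/-- A smooth, geometrically connected, locally Noetherian scheme over a field is integral. -/
theorem isIntegral_of_geomConnected_smooth (k : Type u) [Field k] (X : Scheme.{u})
    [X.Over (Spec (CommRingCat.of k))] [Smooth (X ↘ Spec (CommRingCat.of k))]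
    [GeometricallyConnected (X ↘ Spec (CommRingCat.of k))] : IsIntegral X := by
  haveI : IsLocallyNoetherian X :=
    LocallyOfFiniteType.isLocallyNoetherian (X ↘ Spec (CommRingCat.of k))
  rw [Groth.Agent.Lib.Helper15.NT.isIntegral_iff_connected_and_isDomain_stalk]
  refine ⟨GeometricallyConnected.connectedSpace_of_subsingleton (X ↘ Spec (CommRingCat.of k)),
    fun x => ?_⟩
  exact (Groth.Agent.Lib.Helper23.SmoothCurve.stalk_normal_of_smooth k X
    (X ↘ Spec (CommRingCat.of k)) x).1

end Groth.Agent.Lib.Helper23.GeomConn
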