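import Groth.Agent.Lib.Helper23.Sat
import Groth.Agent.Lib.Helper23.GammaField

/-!
# Bounds on `h⁰` of semistable bundles of degree zero

* `h0_structure_eq_one_of_section`: on a proper, reduced, connected `k`-scheme with a `k`-rational
  point, `dim_k H⁰(X, O_X) = 1`.
* `h0_le_add`: `h⁰(X₂) ≤ h⁰(X₁) + h⁰(X₃)` for a short exact sequence.
* `h0_le_rank_of_semistable_deg_zero`: a semistable bundle of degree `0` and rank `r` on a smooth
  proper curve with `h⁰(O) = 1` has `h⁰ ≤ r`.
-/
set_option autoImplicit false
set_option linter.style.haveILetI false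
universe u
open CategoryTheory CategoryTheory.Limits AlgebraicGeometry TopologicalSpace Opposite
open Groth.Agent.Lib.Helper3 Groth.Agent.Lib.Helper3.QCSec Groth.Agent.Lib.Helper3.InvGen
open Groth.Agent.Lib.Helper23.T2 Groth.Agent.Lib.Helper23.Curve

noncomputable section

namespace Groth.Agent.Lib.Helper23.H0

variable (k : Type u) [Field k] {X : Scheme.{u}} [X.Over (Spec (CommRingCat.of k))]
  [IsProper (X ↘ Spec (CommRingCat.of k))]

include k in
/-- `h⁰` is subadditive on short exact sequences. -/
theorem h0_le_add (S : ShortComplex X.Modules) (hS : S.ShortExact) (h₁ : Coh.IsCoh S.X₁)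
    (h₂ : Coh.IsCoh S.X₂) (h₃ : Coh.IsCoh S.X₃) :
    Module.finrank k (Coh.HH X S.X₂ 0) ≤
      Module.finrank k (Coh.HH X S.X₁ 0) + Module.finrank k (Coh.HH X S.X₃ 0) := by
  haveI := finite_HH k S.X₁ h₁ 0
  haveI := finite_HH k S.X₂ h₂ 0
  haveI := finite_HH k S.X₃ h₃ 0
  have hex := exact_f_g k S hS 0
  have hker : LinearMap.ker (HmapA k S.g 0) = LinearMap.range (HmapA k S.f 0) :=
    (LinearMap.exact_iff.mp hex)
  have h1 := LinearMap.finrank_range_add_finrank_ker (HmapA k S.g 0)
  rw [hker] at h1
  have h2 : Module.finrank k (LinearMap.range (HmapA k S.f 0)) ≤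
      Module.finrank k (Coh.HH X S.X₁ 0) := LinearMap.finrank_range_le _
  have h3 : Module.finrank k (LinearMap.range (HmapA k S.g 0)) ≤
      Module.finrank k (Coh.HH X S.X₃ 0) := Submodule.finrank_le _
  omega

include k in
lemma finrank_h0_eq_zero_of_isZero {G : X.Modules} (hz : IsZero G) :
    Module.finrank k (Coh.HH X G 0) = 0 := by
  haveI : Subsingleton Γ(G, ⊤) := ModBasic.subsingleton_of_isZero hz ⊤
  haveI : Subsingleton (Gm G) := ‹Subsingleton Γ(G, ⊤)›
  haveI : Subsingleton (Coh.HH X G 0) := (h0equiv G).toEquiv.subsingleton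
  exact Module.finrank_zero_of_subsingleton

include k in
/-- A semistable finite locally free module of degree `0` and rank `r` on a smooth proper integral
curve with `h⁰(O) = 1` has at most `r` independent global sections. -/
theorem h0_le_rank_of_semistable_deg_zero [IsIntegral X] [Smooth (X ↘ Spec (CommRingCat.of k))]
    (hdim : topologicalKrullDim X ≤ 1)
    (h0 : Module.finrank k (Coh.HH X (Coh.structureModule X) 0) = 1) :
    ∀ (r : ℕ) (G : X.Modules), FlatMod.IsFinLocFreeOfRank r G → Curv2.deg k X G r = 0 →
      (∀ (H : X.Modules) (r' : ℕ) (i : H ⟶ G), Mono i → 0 < r' →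
        FlatMod.IsFinLocFreeOfRank r' H → Curv2.deg k X H r' * (r : ℤ) ≤ Curv2.deg k X G r * (r' : ℤ)) →
      Module.finrank k (Coh.HH X G 0) ≤ r := by
  haveI := isNoetherian_of_isProper k X
  haveI : Nonempty X := inferInstance
  intro r
  induction r with
  | zero =>
    intro G hG _ _
    rw [finrank_h0_eq_zero_of_isZero k (Groth.Agent.Lib.Helper23.StableEnd.isZero_of_rank_zero hG)]
  | succ r ih =>
    intro G hG hdeg hss
    by_cases hnt : Nontrivial (Coh.HH X G 0)
    · obtain ⟨s, hs⟩ := exists_section_of_nontrivial G hnt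
      have hO1 : FlatMod.IsFinLocFreeOfRank 1 (Coh.structureModule X) :=
        isFinLocFreeOfRank_one_of_isInvertible (InvGen.isInvertible_structureModule X)
      have hdO : Curv2.deg k X (Coh.structureModule X) 1 = 0 := by
        unfold Curv2.deg; simp
      -- `s` is a monomorphism
      obtain ⟨a, b, _, _, hab, _, hb0, ha0, _, _⟩ :=
        Groth.Agent.Lib.Helper23.VBMaps.map_analysis k hdim hO1 hG s
      have hb : b ≠ 0 := fun h => hs (hb0 h)
      haveI : Mono s := (ha0 (by omega)).1
      obtain ⟨L, C', i', p, w, u, c, hS, hu, hL, hC', hrk, hdle, hdeg', hiso⟩ :=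
        Groth.Agent.Lib.Helper23.Sat.exists_saturation k hdim hO1 hG s
      haveI : Mono i' := hS.mono_f
      haveI : Epi p := hS.epi_g
      have hc : c = r := by omega
      subst hc
      have hrZ : (0 : ℤ) < ((c + 1 : ℕ) : ℤ) := by exact_mod_cast Nat.succ_pos c
      have h1 := hss L 1 i' inferInstance Nat.one_pos hL
      rw [hdeg, zero_mul] at h1
      have hL0 : Curv2.deg k X L 1 ≤ 0 := by
        by_contra hcon
        push_neg at hcon
        have := mul_pos hcon hrZ
        linarith
      rw [hdO] at hdle
      have hL0' : Curv2.deg k X L 1 = 0 := le_antisymm hL0 hdle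
      haveI : IsIso u := hiso (by rw [hdO, hL0'])
      have hdC : Curv2.deg k X C' c = 0 := by
        rw [hdeg, hL0', zero_add] at hdeg'
        exact hdeg'.symm
      have hcL := isCoh_of_isFinLocFreeOfRank hL
      have hcG := isCoh_of_isFinLocFreeOfRank hG
      have hcC := isCoh_of_isFinLocFreeOfRank hC'
      have hcO := isCoh_of_isFinLocFreeOfRank hO1
      -- semistability of the quotient
      have hssC : ∀ (H : X.Modules) (r' : ℕ) (i : H ⟶ C'), Mono i → 0 < r' →
          FlatMod.IsFinLocFreeOfRank r' H →
          Curv2.deg k X H r' * (c : ℤ) ≤ Curv2.deg k X C' c * (r' : ℤ) := by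
        intro H n j hj hn hH
        haveI := hj
        obtain ⟨P, ι, hι, hP, hdegP⟩ := Groth.Agent.Lib.Helper23.HN.preimage_data k hdim
          (ShortComplex.mk i' p w) hS hL hG hcC hH j
        have h2 := hss P (1 + n) ι hι (by omega) hP
        rw [hdeg, zero_mul, hdegP, hL0', zero_add] at h2
        have hH0 : Curv2.deg k X H n ≤ 0 := by
          by_contra hcon
          push_neg at hcon
          have := mul_pos hcon hrZ
          linarith
        rw [hdC, zero_mul]
        exact mul_nonpos_of_nonpos_of_nonneg hH0 (Int.natCast_nonneg c)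
      have hC := ih C' hC' hdC hssC
      -- `h⁰(L) ≤ h⁰(O) = 1`
      haveI := finite_HH k (Coh.structureModule X) hcO 0
      have hLle : Module.finrank k (Coh.HH X L 0) ≤ 1 := by
        rw [← h0]
        haveI : Mono (inv u) := inferInstance
        exact LinearMap.finrank_le_finrank_of_injective (f := HmapA k (inv u) 0)
          (HmapA_injective_zero k (inv u))
      have hadd := h0_le_add k (ShortComplex.mk i' p w) hS hcL hcG hcC
      simp only at hadd
      omega
    · rw [not_nontrivial_iff_subsingleton] at hnt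
      rw [Module.finrank_zero_of_subsingleton]
      omega

open Groth.Agent.Lib.Helper23.GammaField in
include k in
/-- On a proper, reduced, connected `k`-scheme with a `k`-rational point the global functions are
`k`: `dim_k H⁰(X, O_X) = 1`. -/
theorem h0_structure_eq_one_of_section [IsReduced X] [ConnectedSpace X]
    (O : Spec (CommRingCat.of k) ⟶ X)
    (hO : O ≫ (X ↘ Spec (CommRingCat.of k)) = 𝟙 _) :
    Module.finrank k (Coh.HH X (Coh.structureModule X) 0) = 1 := by
  letI := gammaAlgebra k X
  haveI := finite_gamma k X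
  have hf : IsField Γ(X, ⊤) := isField_gamma k X
  letI : Field Γ(X, ⊤) := hf.toField
  -- evaluation at the rational point
  let ρ : Γ(X, ⊤) →+* k :=
    (Scheme.ΓSpecIso (CommRingCat.of k)).hom.hom.comp O.appTop.hom
  have hρ : ∀ c : k, ρ (algebraMap k Γ(X, ⊤) c) = c := by
    intro c
    show (Scheme.ΓSpecIso (CommRingCat.of k)).hom.hom (O.appTop.hom
      ((X ↘ Spec (CommRingCat.of k)).appTop.hom
        ((Scheme.ΓSpecIso (CommRingCat.of k)).inv.hom c))) = c
    have h1 : O.appTop.hom ((X ↘ Spec (CommRingCat.of k)).appTop.hom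
        ((Scheme.ΓSpecIso (CommRingCat.of k)).inv.hom c)) =
        (O ≫ (X ↘ Spec (CommRingCat.of k))).appTop.hom
          ((Scheme.ΓSpecIso (CommRingCat.of k)).inv.hom c) := by
      rw [Scheme.Hom.comp_appTop]; rfl
    rw [h1, hO]
    have h2 : (𝟙 (Spec (CommRingCat.of k)) : Spec (CommRingCat.of k) ⟶ _).appTop.hom
        ((Scheme.ΓSpecIso (CommRingCat.of k)).inv.hom c) =
        (Scheme.ΓSpecIso (CommRingCat.of k)).inv.hom c := by
      simp
    rw [h2]
    exact congrArg (fun φ : CommRingCat.of k ⟶ CommRingCat.of k => φ.hom c)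
      (Scheme.ΓSpecIso (CommRingCat.of k)).inv_hom_id
  let ρl : Γ(X, ⊤) →ₗ[k] k :=
    { toFun := ρ
      map_add' := map_add ρ
      map_smul' := fun c x => by
        show ρ (c • x) = c • ρ x
        rw [Algebra.smul_def, map_mul, hρ, smul_eq_mul] }
  have hinj : Function.Injective ρl := ρ.injective
  have hle : Module.finrank k Γ(X, ⊤) ≤ 1 := by
    have := LinearMap.finrank_le_finrank_of_injective hinj
    rwa [Module.finrank_self] at this
  have hge : 0 < Module.finrank k Γ(X, ⊤) := Module.finrank_pos
  -- compare with `H⁰`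
  haveI := isNoetherian_of_isProper k X
  haveI := finite_HH k (Coh.structureModule X) (isCoh_structureModule X) 0
  let f : Coh.HH X (Coh.structureModule X) 0 →ₗ[k] Γ(X, ⊤) :=
    { toFun := fun x => toFun ⊤ (h0equiv (Coh.structureModule X) x)
      map_add' := fun x y => by
        have := (h0equiv (Coh.structureModule X)).map_add x y
        exact congrArg (toFun ⊤) this
      map_smul' := fun c x => by
        have := (h0equiv (Coh.structureModule X)).map_smul
          (Coh.toGlobal (X ↘ Spec (CommRingCat.of k)) c) x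
        exact congrArg (toFun ⊤) this }
  have hfbij : Function.Bijective f := by
    constructor
    · intro x y hxy
      exact (h0equiv (Coh.structureModule X)).injective hxy
    · intro a
      refine ⟨(h0equiv (Coh.structureModule X)).symm (ofFun ⊤ a), ?_⟩
      have := (h0equiv (Coh.structureModule X)).apply_symm_apply (ofFun ⊤ a)
      exact congrArg (toFun ⊤) this
  have := (LinearEquiv.ofBijective f hfbij).finrank_eq
  omega

end Groth.Agent.Lib.Helper23.H0
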