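import Mathlib
import Groth.Prelude.Def_W4c2invhilbsl2HJ

/-!
# Hirzebruch–Jung continued fraction bookkeeping (W4c2invhilbsl2)

`sq c x y` is the sequence `s₀ = x, s₁ = y, s_{i+2} = c_i s_{i+1} - s_i`.
Main facts: `hj_facts` (the numbers `nN = g * sq c b t i`, strictly decreasing, ending in `1, 0`),
`no_small_point` (no lattice point below the Newton polygon), `emod_bounds`.
-/

namespace Groth.Agent.Lib.Helper23.HJ
open W4c2invhilbsl2

/-- The sequence `s₀ = x, s₁ = y, s_{i+2} = c_i s_{i+1} - s_i`. -/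
def sq (c : List ℤ) (x y : ℤ) : ℕ → ℤ
  | 0 => x
  | 1 => y
  | i + 2 => c.getD i 0 * sq c x y (i + 1) - sq c x y i

theorem sq_add_two (c : List ℤ) (x y : ℤ) (i : ℕ) :
    sq c x y (i + 2) = c.getD i 0 * sq c x y (i + 1) - sq c x y i := rfl

theorem hjP_add_two (c : List ℤ) (i : ℕ) :
    hjP c (i + 2) = c.getD i 0 * hjP c (i + 1) - hjP c i := rfl

theorem hjQ_add_two (c : List ℤ) (i : ℕ) :
    hjQ c (i + 2) = c.getD i 0 * hjQ c (i + 1) - hjQ c i := rfl

theorem sq_shift_aux (a : ℤ) (l : List ℤ) (x y : ℤ) :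
    ∀ i, sq (a :: l) x y (i + 1) = sq l y (a * y - x) i ∧
      sq (a :: l) x y (i + 2) = sq l y (a * y - x) (i + 1) := by
  intro i
  induction i with
  | zero =>
    refine ⟨rfl, ?_⟩
    show (a :: l).getD 0 0 * y - x = a * y - x
    simp
  | succ j ih =>
    refine ⟨ih.2, ?_⟩
    show (a :: l).getD (j + 1) 0 * sq (a :: l) x y (j + 2) - sq (a :: l) x y (j + 1)
      = l.getD j 0 * sq l y (a * y - x) (j + 1) - sq l y (a * y - x) j
    rw [List.getD_cons_succ, ih.1, ih.2]

theorem sq_shift (a : ℤ) (l : List ℤ) (x y : ℤ) (i : ℕ) :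
    sq (a :: l) x y (i + 1) = sq l y (a * y - x) i := (sq_shift_aux a l x y i).1

theorem lin_eq_sq_aux (c : List ℤ) (b t : ℤ) :
    ∀ i, (t * hjP c i - b * hjQ c i = sq c b t i) ∧
      (t * hjP c (i + 1) - b * hjQ c (i + 1) = sq c b t (i + 1)) := by
  intro i
  induction i with
  | zero =>
    refine ⟨?_, ?_⟩
    · show t * 0 - b * (-1) = b
      ring
    · show t * 1 - b * 0 = t
      ring
  | succ j ih =>
    refine ⟨ih.2, ?_⟩
    show t * (c.getD j 0 * hjP c (j + 1) - hjP c j) - b * (c.getD j 0 * hjQ c (j + 1) - hjQ c j)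
      = c.getD j 0 * sq c b t (j + 1) - sq c b t j
    rw [← ih.1, ← ih.2]; ring

/-- `t Pᵢ - b Qᵢ = sq c b t i`. -/
theorem lin_eq_sq (c : List ℤ) (b t : ℤ) (i : ℕ) :
    t * hjP c i - b * hjQ c i = sq c b t i := (lin_eq_sq_aux c b t i).1

theorem det_PQ (c : List ℤ) (i : ℕ) :
    hjP c i * hjQ c (i + 1) - hjP c (i + 1) * hjQ c i = 1 := by
  induction i with
  | zero =>
    show (0 : ℤ) * 0 - 1 * (-1) = 1
    ring
  | succ j ih =>
    show hjP c (j + 1) * (c.getD j 0 * hjQ c (j + 1) - hjQ c j)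
      - (c.getD j 0 * hjP c (j + 1) - hjP c j) * hjQ c (j + 1) = 1
    linear_combination ih

theorem hjVal_inv_bounds : ∀ c : List ℤ, (∀ x ∈ c, (2 : ℤ) ≤ x) →
    0 ≤ (HJFrac.hjVal c)⁻¹ ∧ (HJFrac.hjVal c)⁻¹ < 1
  | [], _ => by simp [HJFrac.hjVal]
  | a :: l, h => by
    have ih := hjVal_inv_bounds l (fun x hx => h x (List.mem_cons_of_mem _ hx))
    have ha : (2 : ℚ) ≤ a := by exact_mod_cast h a (by simp)
    have h1 : 1 < HJFrac.hjVal (a :: l) := by
      show 1 < (a : ℚ) - (HJFrac.hjVal l)⁻¹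
      linarith [ih.1, ih.2]
    exact ⟨inv_nonneg.mpr (by linarith), inv_lt_one_of_one_lt₀ h1⟩

theorem sq_main : ∀ (c : List ℤ), (∀ x ∈ c, (2 : ℤ) ≤ x) → ∀ x y : ℤ, 0 ≤ y → y < x →
    IsCoprime x y → HJFrac.hjVal c = (x : ℚ) / (y : ℚ) →
    (∀ i ≤ c.length, sq c x y (i + 1) < sq c x y i) ∧ sq c x y c.length = 1 ∧
      sq c x y (c.length + 1) = 0
  | [], _, x, y, hy, hxy, hcop, hval => by
    have hx0 : (x : ℚ) ≠ 0 := by exact_mod_cast (by omega : x ≠ 0)
    have hy0 : y = 0 := by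
      have h0 : (x : ℚ) / y = 0 := hval.symm
      rw [div_eq_zero_iff] at h0
      rcases h0 with h | h
      · exact absurd h hx0
      · exact_mod_cast h
    subst hy0
    have hx1 : x = 1 := by
      have h1 : IsUnit x := by
        rwa [isCoprime_zero_right] at hcop
      rcases Int.isUnit_iff.mp h1 with h | h
      · exact h
      · omega
    subst hx1
    refine ⟨?_, rfl, rfl⟩
    intro i hi
    have : i = 0 := by simpa using hi
    subst this
    show (0 : ℤ) < 1
    norm_num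
  | a :: l, h, x, y, hy, hxy, hcop, hval => by
    have hl : ∀ x ∈ l, (2 : ℤ) ≤ x := fun x hx => h x (List.mem_cons_of_mem _ hx)
    have ha : (2 : ℤ) ≤ a := h a (by simp)
    have ha' : (2 : ℚ) ≤ a := by exact_mod_cast ha
    obtain ⟨hv0, hv1⟩ := hjVal_inv_bounds l hl
    have hval' : (a : ℚ) - (HJFrac.hjVal l)⁻¹ = (x : ℚ) / y := hval
    have hypos : 0 < y := by
      rcases hy.lt_or_eq with h1 | h1
      · exact h1
      · exfalso
        rw [← h1] at hval'
        simp only [Int.cast_zero, div_zero] at hval'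
        linarith
    have hyq : (0 : ℚ) < y := by exact_mod_cast hypos
    have hzq' : ((a * y - x : ℤ) : ℚ) = (HJFrac.hjVal l)⁻¹ * y := by
      have h1 : (HJFrac.hjVal l)⁻¹ = a - (x : ℚ) / y := by linarith
      rw [h1, Int.cast_sub, Int.cast_mul, sub_mul, div_mul_cancel₀ _ hyq.ne']
    have hz0 : 0 ≤ a * y - x := by
      have : (0 : ℚ) ≤ ((a * y - x : ℤ) : ℚ) := by rw [hzq']; exact mul_nonneg hv0 hyq.le
      exact_mod_cast this
    have hzy : a * y - x < y := by
      have : ((a * y - x : ℤ) : ℚ) < y := by rw [hzq']; exact mul_lt_of_lt_one_left hyq hv1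
      exact_mod_cast this
    have hvl : HJFrac.hjVal l = (y : ℚ) / ((a * y - x : ℤ) : ℚ) := by
      have h2 : (HJFrac.hjVal l)⁻¹ = ((a * y - x : ℤ) : ℚ) / y := by
        rw [hzq', mul_div_cancel_right₀ _ hyq.ne']
      rw [← inv_inv (HJFrac.hjVal l), h2, inv_div]
    have hcop' : IsCoprime y (a * y - x) := by
      obtain ⟨u, w, huw⟩ := hcop
      exact ⟨w + u * a, -u, by linear_combination huw⟩
    obtain ⟨hdec, hone, hzero⟩ := sq_main l hl y (a * y - x) hz0 hzy hcop' hvl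
    refine ⟨?_, ?_, ?_⟩
    · intro i hi
      rcases i with _ | j
      · show y < x
        exact hxy
      · have hj : j ≤ l.length := by simpa using hi
        have := hdec j hj
        rw [← sq_shift a l x y j, ← sq_shift a l x y (j + 1)] at this
        exact this
    · show sq (a :: l) x y (l.length + 1) = 1
      rw [sq_shift]; exact hone
    · show sq (a :: l) x y (l.length + 1 + 1) = 0
      rw [sq_shift]; exact hzero

theorem sq_antitone {c : List ℤ} {x y : ℤ}
    (hdec : ∀ i ≤ c.length, sq c x y (i + 1) < sq c x y i) :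
    ∀ i j, i < j → j ≤ c.length + 1 → sq c x y j < sq c x y i := by
  intro i j hij hj
  induction j with
  | zero => omega
  | succ k ih =>
    rcases Nat.lt_or_ge i k with h | h
    · exact lt_trans (hdec k (by omega)) (ih h (by omega))
    · have : i = k := by omega
      subst this
      exact hdec i (by omega)

theorem hjP_mono {c : List ℤ} (hc2 : ∀ x ∈ c, (2 : ℤ) ≤ x) :
    ∀ i ≤ c.length, 0 ≤ hjP c i ∧ hjP c i < hjP c (i + 1) := by
  intro i
  induction i with
  | zero =>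
    intro _
    refine ⟨le_refl _, ?_⟩
    show (0 : ℤ) < 1
    norm_num
  | succ k ih =>
    intro hk
    obtain ⟨h0, h1⟩ := ih (by omega)
    have hklt : k < c.length := by omega
    have hck : (2 : ℤ) ≤ c.getD k 0 := by
      rw [List.getD_eq_getElem _ _ hklt]; exact hc2 _ (List.getElem_mem _)
    refine ⟨by linarith, ?_⟩
    show hjP c (k + 1) < c.getD k 0 * hjP c (k + 1) - hjP c k
    nlinarith [mul_nonneg (sub_nonneg.mpr hck) (by linarith : (0 : ℤ) ≤ hjP c (k + 1))]

/-- The lattice lemma: no point `α v' + β v` strictly inside the box. -/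
theorem LAT (P' P T' T α β : ℤ) (hP' : 0 < P') (hP : P' < P) (hT : 0 < T) (hT' : T < T')
    (hx0 : 0 < α * P' + β * P) (hx : α * P' + β * P < P)
    (hy0 : 0 ≤ α * T' + β * T) (hy : α * T' + β * T < T') : False := by
  have hPpos : 0 < P := lt_trans hP' hP
  rcases le_or_gt α 0 with hα | hα
  · have hβ : 1 ≤ β := by
      by_contra hcon
      have hβ' : β ≤ 0 := by omega
      nlinarith [mul_nonneg (neg_nonneg.mpr hα) hP'.le, mul_nonneg (neg_nonneg.mpr hβ') hPpos.le]
    have hab : 1 ≤ α + β := by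
      by_contra hcon
      have h1 : α + β ≤ 0 := by omega
      have h2 : α + 1 ≤ 0 := by omega
      nlinarith [mul_nonneg (neg_nonneg.mpr h2) (sub_pos.mpr hT').le,
        mul_nonneg (neg_nonneg.mpr h1) hT.le]
    nlinarith [mul_nonneg (by linarith : (0 : ℤ) ≤ α + β - 1) hPpos.le,
      mul_nonneg (neg_nonneg.mpr hα) (sub_pos.mpr hP).le]
  · have hα1 : 1 ≤ α := by omega
    have hβ : β ≤ -1 := by
      by_contra hcon
      have hβ' : 0 ≤ β := by omega
      nlinarith [mul_nonneg (by linarith : (0 : ℤ) ≤ α - 1) (lt_trans hT hT').le,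
        mul_nonneg hβ' hT.le]
    have hab : 1 ≤ α + β := by
      by_contra hcon
      have h1 : α + β ≤ 0 := by omega
      nlinarith [mul_nonneg (neg_nonneg.mpr h1) hP'.le,
        mul_nonneg (by linarith : (0 : ℤ) ≤ -(β + 1)) (sub_pos.mpr hP).le]
    nlinarith [mul_nonneg (by linarith : (0 : ℤ) ≤ α + β - 1) (lt_trans hT hT').le,
      mul_nonneg (by linarith : (0 : ℤ) ≤ -β) (sub_pos.mpr hT').le]

theorem no_small_point {c : List ℤ} (hc2 : ∀ x ∈ c, (2 : ℤ) ≤ x) {B T : ℤ}
    (hdec : ∀ i ≤ c.length, sq c B T (i + 1) < sq c B T i)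
    (hzero : sq c B T (c.length + 1) = 0)
    (i : ℕ) (hi : 1 < i) (hir : i ≤ c.length) (x k : ℤ)
    (hx0 : 0 < x) (hx : x < hjP c i) (hy0 : 0 ≤ T * x - B * k)
    (hy : T * x - B * k < sq c B T (i - 1)) : False := by
  obtain ⟨j, rfl⟩ : ∃ j, i = j + 2 := ⟨i - 2, by omega⟩
  have hy' : T * x - B * k < sq c B T (j + 1) := hy
  have hP' : 0 ≤ hjP c (j + 1) ∧ hjP c (j + 1) < hjP c (j + 2) := hjP_mono hc2 (j + 1) (by omega)
  have hP'' : 0 ≤ hjP c j ∧ hjP c j < hjP c (j + 1) := hjP_mono hc2 j (by omega)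
  have hT1 : sq c B T (j + 2) < sq c B T (j + 1) := hdec (j + 1) (by omega)
  have hT0 : 0 < sq c B T (j + 2) := by
    have := sq_antitone hdec (j + 2) (c.length + 1) (by omega) le_rfl
    rwa [hzero] at this
  have hdet : hjP c (j + 1) * hjQ c (j + 2) - hjP c (j + 2) * hjQ c (j + 1) = 1 := det_PQ c (j + 1)
  have e1 := lin_eq_sq c B T (j + 1)
  have e2 := lin_eq_sq c B T (j + 2)
  have hxe : (x * hjQ c (j + 2) - k * hjP c (j + 2)) * hjP c (j + 1)
      + (k * hjP c (j + 1) - x * hjQ c (j + 1)) * hjP c (j + 2) = x := by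
    linear_combination x * hdet
  have hye : (x * hjQ c (j + 2) - k * hjP c (j + 2)) * sq c B T (j + 1)
      + (k * hjP c (j + 1) - x * hjQ c (j + 1)) * sq c B T (j + 2) = T * x - B * k := by
    rw [← e1, ← e2]
    linear_combination (T * x - B * k) * hdet
  exact LAT (hjP c (j + 1)) (hjP c (j + 2)) (sq c B T (j + 1)) (sq c B T (j + 2))
    (x * hjQ c (j + 2) - k * hjP c (j + 2)) (k * hjP c (j + 1) - x * hjQ c (j + 1))
    (by linarith [hP''.1, hP''.2]) hP'.2 hT0 hT1
    (by rw [hxe]; exact hx0) (by rw [hxe]; exact hx) (by rw [hye]; exact hy0)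
    (by rw [hye]; exact hy')

/-- Bounds for `(T x) mod B` when `0 < x < Pᵢ`, `1 < i ≤ r`. -/
theorem emod_bounds {c : List ℤ} (hc2 : ∀ x ∈ c, (2 : ℤ) ≤ x) {B T : ℤ}
    (hdec : ∀ i ≤ c.length, sq c B T (i + 1) < sq c B T i)
    (hzero : sq c B T (c.length + 1) = 0)
    (i : ℕ) (hi : 1 < i) (hir : i ≤ c.length) (x : ℤ)
    (hx0 : 0 < x) (hx : x < hjP c i) :
    sq c B T (i - 1) ≤ (T * x) % B ∧ (T * x) % B ≤ B + sq c B T i - sq c B T (i - 1) := by
  have hB : 0 < B := by
    have := sq_antitone hdec 0 (c.length + 1) (by omega) le_rfl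
    rw [hzero] at this
    exact this
  have hρ0 : 0 ≤ (T * x) % B := Int.emod_nonneg _ hB.ne'
  have hρB : (T * x) % B < B := Int.emod_lt_of_pos _ hB
  have hρ : (T * x) % B = T * x - B * ((T * x) / B) := Int.emod_def _ _
  have hti : 0 < sq c B T i := by
    have := sq_antitone hdec i (c.length + 1) (by omega) le_rfl
    rwa [hzero] at this
  constructor
  · by_contra hcon
    push Not at hcon
    exact no_small_point hc2 hdec hzero i hi hir x ((T * x) / B) hx0 hx (by rw [← hρ]; exact hρ0)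
      (by rw [← hρ]; exact hcon)
  · by_contra hcon
    push Not at hcon
    have e := lin_eq_sq c B T i
    have hk : T * (hjP c i - x) - B * (hjQ c i - (T * x) / B - 1) = sq c B T i - (T * x) % B + B := by
      rw [hρ, ← e]; ring
    exact no_small_point hc2 hdec hzero i hi hir (hjP c i - x) (hjQ c i - (T * x) / B - 1)
      (by linarith) (by linarith) (by rw [hk]; linarith) (by rw [hk]; linarith)

theorem emod_eq_of_repr {a b r k : ℤ} (h : a = r + b * k) (h0 : 0 ≤ r) (h1 : r < b) :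
    a % b = r := by
  rw [h, Int.add_mul_emod_self_left, Int.emod_eq_of_lt h0 h1]

section params

variable (p q m : ℕ)

theorem gcdK_pos (hm : 0 < m) : 0 < gcdK p q m := Nat.gcd_pos_of_pos_left _ hm

theorem gcdK_mul_bB : gcdK p q m * bB p q m = q - p :=
  Nat.mul_div_cancel' (Nat.gcd_dvd_right _ _)

theorem gcdK_dvd_sub : gcdK p q m ∣ q - p - m * p % (q - p) := by
  apply Nat.dvd_sub (Nat.gcd_dvd_right _ _)
  exact (Nat.dvd_mod_iff (Nat.gcd_dvd_right m (q - p))).mpr
    (Dvd.dvd.mul_right (Nat.gcd_dvd_left m (q - p)) p)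

theorem gcdK_mul_tT : gcdK p q m * tT p q m = q - p - m * p % (q - p) :=
  Nat.mul_div_cancel' (gcdK_dvd_sub p q m)

variable {p q m}

theorem coprime_sub (hpq : p < q) (hcop : Nat.Coprime p q) : Nat.Coprime p (q - p) := by
  rw [Nat.coprime_sub_self_right hpq.le]; exact hcop

theorem mod_pos (hpq : p < q) (hcop : Nat.Coprime p q) (hnt : ¬ (q - p ∣ m)) :
    0 < m * p % (q - p) := by
  rcases Nat.eq_zero_or_pos (m * p % (q - p)) with h | h
  · exfalso
    apply hnt
    have hd : q - p ∣ m * p := Nat.dvd_of_mod_eq_zero h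
    exact (coprime_sub hpq hcop).symm.dvd_of_dvd_mul_right hd
  · exact h

theorem coprime_bB_tT (hpq : p < q) (hcop : Nat.Coprime p q) (hm : 0 < m) :
    Nat.Coprime (bB p q m) (tT p q m) := by
  have hD : 0 < q - p := Nat.sub_pos_of_lt hpq
  have hβ : m * p % (q - p) ≤ q - p := (Nat.mod_lt _ hD).le
  have hg : Nat.gcd (q - p) (q - p - m * p % (q - p)) = gcdK p q m := by
    rw [Nat.gcd_self_sub_right hβ, Nat.gcd_comm, ← Nat.gcd_rec,
      (coprime_sub hpq hcop).gcd_mul_right_cancel_right m, Nat.gcd_comm]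
    rfl
  have := Nat.coprime_div_gcd_div_gcd (m := q - p) (n := q - p - m * p % (q - p))
    (by rw [hg]; exact gcdK_pos p q m hm)
  rw [hg] at this
  exact this

/-- All basic numerical facts. -/
theorem hj_facts (_hp : 0 < p) (hpq : p < q) (hcop : Nat.Coprime p q) (hm : 0 < m)
    (hnt : ¬ (q - p ∣ m)) (c : List ℤ) (hc : IsHJDigits p q m c) :
    (0 : ℤ) < gcdK p q m ∧ (gcdK p q m : ℤ) * bB p q m = (q : ℤ) - p ∧
    (gcdK p q m : ℤ) * tT p q m = ((q : ℤ) - p) * ((alpha p q m : ℤ) + 1) - p * m ∧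
    (0 : ℤ) < tT p q m ∧ (tT p q m : ℤ) < bB p q m ∧
    (∀ i, nN p q m c i = (gcdK p q m : ℤ) * sq c (bB p q m) (tT p q m) i) ∧
    (∀ i ≤ c.length, sq c (bB p q m) (tT p q m) (i + 1) < sq c (bB p q m) (tT p q m) i) ∧
    sq c (bB p q m) (tT p q m) c.length = 1 ∧ sq c (bB p q m) (tT p q m) (c.length + 1) = 0 := by
  have hD : 0 < q - p := Nat.sub_pos_of_lt hpq
  have hDc : ((q - p : ℕ) : ℤ) = (q : ℤ) - p := Nat.cast_sub hpq.le
  have hg : 0 < gcdK p q m := gcdK_pos p q m hm
  have hgZ : (0 : ℤ) < gcdK p q m := by exact_mod_cast hg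
  have hβpos := mod_pos hpq hcop hnt
  have hβlt : m * p % (q - p) < q - p := Nat.mod_lt _ hD
  have N1 := gcdK_mul_bB p q m
  have N2 : gcdK p q m * tT p q m + m * p % (q - p) = q - p := by
    rw [gcdK_mul_tT]; omega
  have N6 : (q - p) * alpha p q m + m * p % (q - p) = m * p := Nat.div_add_mod _ _
  have Z1 : (gcdK p q m : ℤ) * bB p q m = (q : ℤ) - p := by
    rw [← hDc]; exact_mod_cast N1
  have Z2' : (gcdK p q m : ℤ) * tT p q m + ((m * p % (q - p) : ℕ) : ℤ) = (q : ℤ) - p := by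
    rw [← hDc]; exact_mod_cast N2
  have Z6 : ((q : ℤ) - p) * alpha p q m + ((m * p % (q - p) : ℕ) : ℤ) = (m : ℤ) * p := by
    rw [← hDc]; exact_mod_cast N6
  have Z2 : (gcdK p q m : ℤ) * tT p q m = ((q : ℤ) - p) * ((alpha p q m : ℤ) + 1) - p * m := by
    linarith
  have ht0 : 0 < tT p q m := by
    rcases Nat.eq_zero_or_pos (tT p q m) with h | h
    · rw [h] at N2; omega
    · exact h
  have htb : tT p q m < bB p q m := by
    have : gcdK p q m * tT p q m < gcdK p q m * bB p q m := by rw [N1]; omega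
    exact Nat.lt_of_mul_lt_mul_left this
  have hcopZ : IsCoprime (bB p q m : ℤ) (tT p q m : ℤ) :=
    Nat.isCoprime_iff_coprime.mpr (coprime_bB_tT hpq hcop hm)
  have hval : HJFrac.hjVal c = ((bB p q m : ℤ) : ℚ) / ((tT p q m : ℤ) : ℚ) := by
    rw [hc.2]; push_cast; rfl
  obtain ⟨hdec, hone, hzero⟩ := sq_main c hc.1 (bB p q m) (tT p q m) (by positivity)
    (by exact_mod_cast htb) hcopZ hval
  refine ⟨hgZ, Z1, Z2, by exact_mod_cast ht0, by exact_mod_cast htb, ?_, hdec, hone, hzero⟩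
  intro i
  rw [← lin_eq_sq]
  simp only [nN, eE, lL]
  push_cast
  linear_combination (-(hjP c i)) * Z2 + (hjQ c i) * Z1

/-- Further identities for `1 ≤ i ≤ r`. -/
theorem basic_i (hp : 0 < p) (hpq : p < q) (hcop : Nat.Coprime p q) (hm : 0 < m)
    (hnt : ¬ (q - p ∣ m)) (c : List ℤ) (hc : IsHJDigits p q m c) (i : ℕ) (hi : 1 ≤ i)
    (hir : i ≤ c.length) :
    ((q : ℤ) - p) * lL p q m c i = (p : ℤ) * m * hjP c i + nN p q m c i ∧
    eE p q m c i = lL p q m c i + (m : ℤ) * hjP c i ∧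
    0 < nN p q m c i ∧ nN p q m c i < (q : ℤ) - p ∧ 1 ≤ hjP c i := by
  obtain ⟨hG, hGB, hGT, hT0, hTB, hn, hdec, hone, hzero⟩ := hj_facts hp hpq hcop hm hnt c hc
  refine ⟨?_, ?_, ?_, ?_, ?_⟩
  · rw [hn i, ← lin_eq_sq]
    simp only [lL]
    push_cast
    linear_combination (-(hjP c i)) * hGT + (hjQ c i) * hGB
  · simp only [eE, lL]
    push_cast
    ring
  · rw [hn i]
    refine mul_pos hG ?_
    have := sq_antitone hdec i (c.length + 1) (by omega) le_rfl
    rwa [hzero] at this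
  · rw [hn i, ← hGB]
    exact mul_lt_mul_of_pos_left (sq_antitone hdec 0 i (by omega) (by omega)) hG
  · obtain ⟨j, rfl⟩ : ∃ j, i = j + 1 := ⟨i - 1, by omega⟩
    have := hjP_mono hc.1 j (by omega)
    omega

/-- The numerical heart of the generation statement for the weight `(nᵢ, 0)` piece. -/
theorem aux_num (D n l P a m x d0 d2 : ℤ) (hD : 0 < D) (_hn0 : 0 < n) (hnD : n < D) (ha : 0 < a)
    (hm : 0 < m) (hl : D * l = a * P + n) (_hP : 1 ≤ P)
    (H : ∀ y, 0 < y → y < P → n + (a * y) % D < D)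
    (hd0 : d0 = n + a * x - D * d2) (hd0nn : 0 ≤ d0) (hd0lt : d0 < n) (hd2 : 0 ≤ d2)
    (hd1 : 0 ≤ m * x + d2) : P ≤ x ∧ l ≤ d2 := by
  have h1 : a * x < D * d2 := by linarith
  have h2 : D * d2 ≤ n + a * x := by linarith
  have hx1 : 1 ≤ x := by
    by_contra hcon
    have hx0 : x ≤ 0 := by omega
    have hax : a * x ≤ 0 := by nlinarith [mul_nonneg ha.le (neg_nonneg.mpr hx0)]
    have hd20 : d2 < 1 := by
      by_contra h
      have h' : 1 ≤ d2 := by omega
      nlinarith [mul_le_mul_of_nonneg_left h' hD.le]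
    have hd2z : d2 = 0 := by omega
    rw [hd2z] at h1 hd1
    have hxneg : x < 0 := by
      by_contra h
      have hx : x = 0 := by omega
      rw [hx] at h1
      simp at h1
    have : m * x ≤ m * (-1) := mul_le_mul_of_nonneg_left (by omega) hm.le
    linarith
  have hr0 : 0 ≤ (a * x) % D := Int.emod_nonneg _ hD.ne'
  have hrD : (a * x) % D < D := Int.emod_lt_of_pos _ hD
  have hdiv : (a * x) % D = a * x - D * ((a * x) / D) := Int.emod_def _ _
  have hκ : (a * x) / D + 1 ≤ d2 := by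
    have h3 : D * ((a * x) / D) < D * d2 := by linarith
    have := lt_of_mul_lt_mul_left h3 hD.le
    omega
  rcases lt_or_ge x P with hxP | hxP
  · exfalso
    have h4 := H x (by omega) hxP
    have h5 : D * d2 < D * ((a * x) / D + 1) := by linarith
    have := lt_of_mul_lt_mul_left h5 hD.le
    omega
  · refine ⟨hxP, ?_⟩
    have h3 : a * P ≤ a * x := mul_le_mul_of_nonneg_left hxP ha.le
    have h5 : D * (l - 1) < D * ((a * x) / D + 1) := by linarith
    have := lt_of_mul_lt_mul_left h5 hD.le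
    omega

end params

end Groth.Agent.Lib.Helper23.HJ
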