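import Mathlib
import Groth.Agent.Lib.Helper23.HJ
import Groth.Agent.S15733

/-!
# The numerical core of the generation statements for the weight `(nᵢ, 0)` piece
-/

namespace Groth.Agent.Lib.Helper23.HJ
open W4c2invhilbsl2

theorem core {p q m : ℕ} (hp : 0 < p) (hpq : p < q) (hcop : Nat.Coprime p q) (hm : 0 < m)
    (hnt : ¬ (q - p ∣ m)) (c : List ℤ) (hc : IsHJDigits p q m c) (i : ℕ) (hi : 1 ≤ i)
    (hir : i ≤ c.length) :
    (((nN p q m c i).toNat : ℕ) : ℤ) = nN p q m c i ∧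
    (((eE p q m c i).toNat : ℕ) : ℤ) = eE p q m c i ∧
    (((lL p q m c i).toNat : ℕ) : ℤ) = lL p q m c i ∧
    (((lL p q m c i).toNat : ZMod m) - ((eE p q m c i).toNat : ZMod m) = 0) ∧
    ∀ d0 u v : ℕ, (d0 : ℤ) - p * u + q * v = nN p q m c i → ((v : ZMod m) - (u : ZMod m)) = 0 →
      (nN p q m c i).toNat ≤ d0 ∨ ((eE p q m c i).toNat ≤ u ∧ (lL p q m c i).toNat ≤ v) := by
  obtain ⟨hI1, hI2, hn0, hnD, hP1⟩ := basic_i hp hpq hcop hm hnt c hc i hi hir
  have hpq' : (p : ℤ) < q := by exact_mod_cast hpq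
  have hp' : (0 : ℤ) < p := by exact_mod_cast hp
  have hm' : (0 : ℤ) < m := by exact_mod_cast hm
  have hmP : (0 : ℤ) ≤ (m : ℤ) * hjP c i := mul_nonneg hm'.le (by linarith)
  have hpmP : (0 : ℤ) ≤ (p : ℤ) * m * hjP c i :=
    mul_nonneg (mul_nonneg hp'.le hm'.le) (by linarith)
  have hl0 : 0 < lL p q m c i := by
    by_contra h
    push Not at h
    nlinarith [mul_nonneg (sub_pos.mpr hpq').le (neg_nonneg.mpr h)]
  have he0 : 0 < eE p q m c i := by rw [hI2]; linarith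
  have hNc : (((nN p q m c i).toNat : ℕ) : ℤ) = nN p q m c i := Int.toNat_of_nonneg hn0.le
  have hEc : (((eE p q m c i).toNat : ℕ) : ℤ) = eE p q m c i := Int.toNat_of_nonneg he0.le
  have hLc : (((lL p q m c i).toNat : ℕ) : ℤ) = lL p q m c i := Int.toNat_of_nonneg hl0.le
  refine ⟨hNc, hEc, hLc, ?_, ?_⟩
  · have h5 : ((lL p q m c i).toNat : ℤ) - ((eE p q m c i).toNat : ℤ)
        = -((m : ℤ) * hjP c i) := by rw [hEc, hLc, hI2]; ring
    have h6 := congrArg (Int.cast : ℤ → ZMod m) h5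
    push_cast at h6
    simpa [ZMod.natCast_self] using h6
  intro d0 u v hd1 hd2
  by_cases h0 : (nN p q m c i).toNat ≤ d0
  · exact Or.inl h0
  right
  have hd0lt : (d0 : ℤ) < nN p q m c i := by omega
  have hdvd : (m : ℤ) ∣ (v : ℤ) - u := by
    rw [← ZMod.intCast_zmod_eq_zero_iff_dvd]
    push_cast
    exact hd2
  obtain ⟨y, hy⟩ := hdvd
  have hx : (u : ℤ) - v = m * (-y) := by linarith
  have H : ∀ z, 0 < z → z < hjP c i →
      nN p q m c i + ((p : ℤ) * m * z) % ((q : ℤ) - p) < (q : ℤ) - p := by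
    intro z hz0 hz
    rcases Nat.lt_or_ge 1 i with hi1 | hi1
    · have h33 := Groth.Agent.S15733.result p q m hp hpq hcop hm hnt c hc i hi1 hir z hz0 hz
      have h34 : ((p : ℤ) * m * z + nN p q m c i) % ((q : ℤ) - p)
          = nN p q m c i + ((p : ℤ) * m * z) % ((q : ℤ) - p) := h33
      rw [← h34]
      exact Int.emod_lt_of_pos _ (sub_pos.mpr hpq')
    · exfalso
      have hi' : i = 1 := by omega
      subst hi'
      have : hjP c 1 = 1 := rfl
      omega
  have hnum := aux_num ((q : ℤ) - p) (nN p q m c i) (lL p q m c i)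
    (hjP c i) ((p : ℤ) * m) m (-y) d0 v (sub_pos.mpr hpq') hn0 hnD
    (mul_pos hp' hm') hm' hI1 hP1 H (by linear_combination hd1 + (p : ℤ) * hx)
    (Int.natCast_nonneg _) hd0lt (Int.natCast_nonneg _)
    (by rw [← hx]; have := Int.natCast_nonneg u; linarith)
  obtain ⟨hPx, hld2⟩ := hnum
  have hL : (lL p q m c i).toNat ≤ v := by omega
  have hE : (eE p q m c i).toNat ≤ u := by
    have h3 : (m : ℤ) * hjP c i ≤ m * (-y) := mul_le_mul_of_nonneg_left hPx hm'.le
    have h4 : eE p q m c i ≤ u := by rw [hI2]; linarith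
    omega
  exact ⟨hE, hL⟩

end Groth.Agent.Lib.Helper23.HJ
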