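import Mathlib
import Groth.Prelude.Def_LocRes
import Groth.Agent.Lib.Helper27.Geo1
import Groth.Agent.Lib.Helper27.HD1

/-! Existence of the total Hasse derivative with respect to a separating variable. -/

set_option autoImplicit false

namespace Groth.Agent.Lib.Helper23.WD

open FunFld PowerSeries IntermediateField

universe u v
variable {k : Type u} {K : Type v} [Field k] [Field K] [Algebra k K]

/-- A synonym of the power series ring, to carry a twisted algebra structure. -/
def Tw (K : Type v) [Field K] : Type v := PowerSeries K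

noncomputable instance : CommRing (Tw K) := inferInstanceAs (CommRing K⟦X⟧)

instance : IsAdicComplete (Ideal.span {(X : K⟦X⟧)} : Ideal (Tw K)) (Tw K) :=
  inferInstanceAs (IsAdicComplete (Ideal.span {(X : K⟦X⟧)}) K⟦X⟧)

/-- Existence of the total Hasse derivative with respect to a separating variable. -/
theorem exists_hasse_of_separating {s : K} (hs : Transcendental k s)
    [Algebra.IsSeparable k⟮s⟯ K] :
    ∃ H : K →ₐ[k] K⟦X⟧, LocRes.IsHasseFamily s H := by
  classical
  let ρ₀ : Polynomial k →ₐ[k] K⟦X⟧ := Polynomial.aeval (C s + X : K⟦X⟧)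
  have hρ₀c : ∀ p : Polynomial k, constantCoeff (ρ₀ p) = Polynomial.aeval s p := by
    intro p
    have h1 : ((constantCoeff : K⟦X⟧ →+* K).comp (ρ₀ : Polynomial k →+* K⟦X⟧)) =
        ((Polynomial.aeval s : Polynomial k →ₐ[k] K) : Polynomial k →+* K) := by
      apply Polynomial.ringHom_ext
      · intro a
        simp [ρ₀, PowerSeries.algebraMap_apply]
      · simp [ρ₀]
    exact congrArg (fun f : Polynomial k →+* K => f p) h1
  have hunit : ∀ y : nonZeroDivisors (Polynomial k), IsUnit ((ρ₀ : Polynomial k →+* K⟦X⟧) y) := by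
    intro y
    show IsUnit (ρ₀ (y : Polynomial k))
    rw [PowerSeries.isUnit_iff_constantCoeff, hρ₀c, isUnit_iff_ne_zero]
    intro h0
    exact nonZeroDivisors.coe_ne_zero y (by
      by_contra hne
      exact hs ⟨_, hne, h0⟩)
  let ρ₁ : RatFunc k →+* K⟦X⟧ :=
    IsLocalization.lift (M := nonZeroDivisors (Polynomial k)) (g := (ρ₀ : Polynomial k →+* K⟦X⟧))
      hunit
  have hρ₁ : ∀ p : Polynomial k, ρ₁ (algebraMap (Polynomial k) (RatFunc k) p) = ρ₀ p := fun p =>
    IsLocalization.lift_eq hunit p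
  let e : RatFunc k ≃ₐ[k] k⟮s⟯ := RatFunc.algEquivOfTranscendental s hs
  let ρ : k⟮s⟯ →+* Tw K := ρ₁.comp (e.symm : k⟮s⟯ →+* RatFunc k)
  letI : Algebra k⟮s⟯ (Tw K) := ρ.toAlgebra
  let cc : Tw K →+* K := (constantCoeff : K⟦X⟧ →+* K)
  let CT : K →+* Tw K := (C : K →+* K⟦X⟧)
  have hccCT : ∀ y : K, cc (CT y) = y := fun y => constantCoeff_C y
  have hρc : ∀ r : k⟮s⟯, cc (ρ r) = (r : K) := by
    have h1 : ((constantCoeff : K⟦X⟧ →+* K).comp ρ₁) =
        (algebraMap k⟮s⟯ K).comp (e : RatFunc k →+* k⟮s⟯) := by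
      apply IsLocalization.ringHom_ext (nonZeroDivisors (Polynomial k))
      apply RingHom.ext
      intro p
      show constantCoeff (ρ₁ (algebraMap (Polynomial k) (RatFunc k) p)) =
        algebraMap k⟮s⟯ K (e (algebraMap (Polynomial k) (RatFunc k) p))
      rw [hρ₁, hρ₀c]
      show _ = algebraMap k⟮s⟯ K (RatFunc.algEquivOfTranscendental s hs
        (algebraMap (Polynomial k) (RatFunc k) p))
      rw [RatFunc.algEquivOfTranscendental_algebraMap]
      rw [← Polynomial.aeval_algebraMap_apply]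
      rfl
    intro r
    have := congrArg (fun f : RatFunc k →+* K => f (e.symm r)) h1
    simp only [RingHom.comp_apply] at this
    show constantCoeff (ρ₁ (e.symm r)) = (r : K)
    rw [this]
    show algebraMap k⟮s⟯ K (e (e.symm r)) = r
    rw [AlgEquiv.apply_symm_apply]
    rfl
  have : Algebra.FormallyEtale k⟮s⟯ K := Algebra.FormallyEtale.of_isSeparable k⟮s⟯ K
  let I : Ideal (Tw K) := Ideal.span {(X : K⟦X⟧)}
  have hmem : ∀ f : Tw K, f ∈ I ↔ cc f = 0 := by
    intro f
    have h0 : ∀ f' : K⟦X⟧, f' ∈ (Ideal.span {(X : K⟦X⟧)} : Ideal K⟦X⟧) ↔ constantCoeff f' = 0 := by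
      intro f'
      rw [Ideal.mem_span_singleton]
      exact X_dvd_iff
    exact h0 f
  let f : K →ₐ[k⟮s⟯] Tw K ⧸ I :=
    { toRingHom := (Ideal.Quotient.mk I).comp CT
      commutes' := by
        intro r
        change Ideal.Quotient.mk I (CT (algebraMap k⟮s⟯ K r)) = Ideal.Quotient.mk I (ρ r)
        rw [Ideal.Quotient.eq, hmem, map_sub, hρc, hccCT]
        exact sub_self _ }
  obtain ⟨g, hg⟩ := Algebra.FormallySmooth.exists_mkₐ_comp_eq_of_isAdicComplete (R := k⟮s⟯)
    (A := K) (S := Tw K) (I := I) f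
  have hgc : ∀ y : K, cc (g y) = y := by
    intro y
    have h1 := congrArg (fun h : K →ₐ[k⟮s⟯] Tw K ⧸ I => h y) hg
    have h2 : Ideal.Quotient.mk I (g y) = Ideal.Quotient.mk I (CT y) := h1
    rw [Ideal.Quotient.eq, hmem, map_sub, hccCT, sub_eq_zero] at h2
    exact h2
  have hgF : ∀ r : k⟮s⟯, g (r : K) = ρ r := fun r => g.commutes r
  let gR : K →+* K⟦X⟧ := (g : K →+* Tw K)
  refine ⟨{ toRingHom := gR
            commutes' := ?_ }, ?_, hgc⟩
  · intro c
    show g (algebraMap k K c) = algebraMap k K⟦X⟧ c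
    have h1 : g (((algebraMap k k⟮s⟯ c : k⟮s⟯) : K)) = ρ (algebraMap k k⟮s⟯ c) := hgF _
    refine h1.trans ?_
    show ρ₁ (e.symm (algebraMap k k⟮s⟯ c)) = _
    rw [AlgEquiv.commutes]
    have h2 : algebraMap k (RatFunc k) c = algebraMap (Polynomial k) (RatFunc k) (Polynomial.C c) :=
      rfl
    rw [h2, hρ₁]
    show Polynomial.aeval (C s + X : K⟦X⟧) (Polynomial.C c) = _
    rw [Polynomial.aeval_C]
  · show g s = (C s + X : K⟦X⟧)
    have h1 : g (((AdjoinSimple.gen k s : k⟮s⟯) : K)) = ρ (AdjoinSimple.gen k s) := hgF _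
    refine h1.trans ?_
    show ρ₁ (e.symm (AdjoinSimple.gen k s)) = _
    have h2 : e.symm (AdjoinSimple.gen k s) = (RatFunc.X : RatFunc k) :=
      RatFunc.algEquivOfTranscendental_symm_gen s hs
    rw [h2, ← RatFunc.algebraMap_X, hρ₁]
    show Polynomial.aeval (C s + X : K⟦X⟧) Polynomial.X = _
    rw [Polynomial.aeval_X]

/-- A function field over an algebraically closed field has a separating variable with its total
Hasse derivative. -/
theorem exists_hasse [IsAlgClosed k] (hK : IsFunctionField k K) :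
    ∃ (s : K) (H : K →ₐ[k] K⟦X⟧), LocRes.IsHasseFamily s H := by
  obtain ⟨s, hs, hsep⟩ := Groth.Agent.Lib.Helper27.Geo.exists_separating hK
    Groth.Agent.Lib.Helper27.HD.isGeometric_of_isAlgClosed
  obtain ⟨H, hH⟩ := exists_hasse_of_separating hs
  exact ⟨s, H, hH⟩

end Groth.Agent.Lib.Helper23.WD
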