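import Mathlib
import Groth.Prelude
import Groth.Agent.Lib.Helper23.HilbMDa
import Groth.Agent.Lib.Helper23.HilbPM

/-!
# Truncated polynomials `topPart ℓ d` (helper23)
-/

set_option autoImplicit false
set_option linter.unusedSectionVars false
set_option linter.style.haveILetI false
universe u
open CategoryTheory CategoryTheory.Limits AlgebraicGeometry Polynomial

noncomputable section

namespace Groth.Agent.Lib.Helper23.HilbT

open Groth.Agent.Lib.Helper23.HilbP

lemma coeff_topPart (ℓ d : ℕ) (P : ℚ[X]) (j : ℕ) :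
    (StabCat.topPart ℓ d P).coeff j = if d - ℓ ≤ j ∧ j ≤ d then P.coeff j else 0 := by
  unfold StabCat.topPart
  rw [finset_sum_coeff]
  simp only [coeff_monomial]
  split_ifs with h
  · rw [Finset.sum_eq_single j]
    · simp
    · intro b _ hb; simp [hb]
    · intro hj; exact absurd (Finset.mem_Icc.2 h) hj
  · apply Finset.sum_eq_zero
    intro b hb
    have hb' := Finset.mem_Icc.1 hb
    have : b ≠ j := fun e => h (e ▸ hb')
    simp [this]

lemma topPart_add (ℓ d : ℕ) (P Q : ℚ[X]) :
    StabCat.topPart ℓ d (P + Q) = StabCat.topPart ℓ d P + StabCat.topPart ℓ d Q := by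
  ext j
  rw [coeff_add, coeff_topPart, coeff_topPart, coeff_topPart, coeff_add]
  split_ifs <;> simp

lemma topPart_sub (ℓ d : ℕ) (P Q : ℚ[X]) :
    StabCat.topPart ℓ d (P - Q) = StabCat.topPart ℓ d P - StabCat.topPart ℓ d Q := by
  ext j
  rw [coeff_sub, coeff_topPart, coeff_topPart, coeff_topPart, coeff_sub]
  split_ifs <;> simp

lemma topPart_zero (ℓ d : ℕ) : StabCat.topPart ℓ d (0 : ℚ[X]) = 0 := by
  ext j
  rw [coeff_topPart]
  simp

lemma alpha_topPart (ℓ d : ℕ) (P : ℚ[X]) :
    StabCat.alpha d (StabCat.topPart ℓ d P) = StabCat.alpha d P := by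
  unfold StabCat.alpha
  rw [coeff_topPart, if_pos ⟨Nat.sub_le _ _, le_rfl⟩]

/-- the truncation of a polynomial with positive leading coefficient (or zero) of degree `≤ d` is
eventually nonnegative. -/
lemma topPart_eventually_nonneg (ℓ d : ℕ) (P : ℚ[X]) (hP : P = 0 ∨ 0 < P.leadingCoeff)
    (hdeg : P.natDegree ≤ d) :
    ∃ N : ℕ, ∀ m : ℕ, N ≤ m → 0 ≤ (StabCat.topPart ℓ d P).eval (m : ℚ) := by
  rcases hP with hP | hP
  · refine ⟨0, fun m _ => ?_⟩
    rw [hP, topPart_zero, eval_zero]
  by_cases hlow : P.natDegree < d - ℓ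
  · refine ⟨0, fun m _ => ?_⟩
    have : StabCat.topPart ℓ d P = 0 := by
      ext j
      rw [coeff_topPart, coeff_zero]
      split_ifs with h
      · exact coeff_eq_zero_of_natDegree_lt (lt_of_lt_of_le hlow h.1)
      · rfl
    rw [this, eval_zero]
  · push_neg at hlow
    have hdeg' : (StabCat.topPart ℓ d P).natDegree = P.natDegree := by
      apply le_antisymm
      · rw [natDegree_le_iff_coeff_eq_zero]
        intro j hj
        rw [coeff_topPart]
        split_ifs
        · exact coeff_eq_zero_of_natDegree_lt hj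
        · rfl
      · apply le_natDegree_of_ne_zero
        rw [coeff_topPart, if_pos ⟨hlow, hdeg⟩]
        exact ne_of_gt hP
    have hlc : 0 < (StabCat.topPart ℓ d P).leadingCoeff := by
      unfold leadingCoeff
      rw [hdeg', coeff_topPart, if_pos ⟨hlow, hdeg⟩]
      exact hP
    obtain ⟨N, hN⟩ := eventually_pos_of_leadingCoeff_pos _ hlc
    exact ⟨N, fun m hm => (hN m hm).le⟩

end Groth.Agent.Lib.Helper23.HilbT
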