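import Mathlib
import Groth.Prelude
import Groth.Agent.Lib.Helper23.HilbTA
import Groth.Agent.Lib.Helper23.HilbMDb
import Groth.Agent.Lib.Helper23.HilbJH

/-!
# Truncated Hilbert polynomials of coherent modules (helper23)
-/

set_option autoImplicit false
set_option linter.unusedSectionVars false
set_option linter.style.haveILetI false
universe u
open CategoryTheory CategoryTheory.Limits AlgebraicGeometry Polynomial

noncomputable section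

namespace Groth.Agent.Lib.Helper23.HilbT

open Groth.Agent.Lib.Helper17 Groth.Agent.Lib.Helper17.DevBasic Groth.Agent.Lib.Helper23.HilbP

variable (k : Type u) [Field k] {X : Scheme.{u}} [X.Over (Spec (CommRingCat.of k))]
  [IsProper (X ↘ Spec (CommRingCat.of k))]

/-- the `ℓ`-truncated Hilbert polynomial relation. -/
def THP (L : X.Modules) (ℓ d : ℕ) (M : X.Modules) (p : ℚ[X]) : Prop :=
  ∃ Q : ℚ[X], ShStab.IsHilbPoly k X L M Q ∧ p = StabCat.topPart ℓ d Q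

variable {L : X.Modules} {ℓ d : ℕ}

theorem exists_thp (ℓ d : ℕ) (hL : CohB1.IsAmple L) (M : X.Modules) (hM : Coh.IsCoh M) :
    ∃ p : ℚ[X], THP k L ℓ d M p := by
  obtain ⟨Q, hQ⟩ := exists_isHilbPoly k X hL M hM
  exact ⟨_, Q, hQ, rfl⟩

omit [IsProper (X ↘ Spec (CommRingCat.of k))] in
lemma thp_unique {M : X.Modules} {p q : ℚ[X]} (hp : THP k L ℓ d M p) (hq : THP k L ℓ d M q) :
    p = q := by
  obtain ⟨P, hP, rfl⟩ := hp
  obtain ⟨Q, hQ, rfl⟩ := hq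
  rw [isHilbPoly_unique k hP hQ]

omit [IsProper (X ↘ Spec (CommRingCat.of k))] in
lemma thp_of_iso {M N : X.Modules} (e : M ≅ N) {p : ℚ[X]} (hp : THP k L ℓ d M p) :
    THP k L ℓ d N p := by
  obtain ⟨P, hP, rfl⟩ := hp
  exact ⟨P, isHilbPoly_of_iso k e hP, rfl⟩

omit [IsProper (X ↘ Spec (CommRingCat.of k))] in
lemma thp_zero {M : X.Modules} (hz : IsZero M) : THP k L ℓ d M 0 :=
  ⟨0, isHilbPoly_zero k hz, (topPart_zero ℓ d).symm⟩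

lemma thp_add (hL : PicF.IsInvertible L) (S : ShortComplex X.Modules) (hS : S.ShortExact)
    (h1 : Coh.IsCoh S.X₁) (h2 : Coh.IsCoh S.X₂) (h3 : Coh.IsCoh S.X₃) {p₁ p₃ : ℚ[X]}
    (hp1 : THP k L ℓ d S.X₁ p₁) (hp3 : THP k L ℓ d S.X₃ p₃) : THP k L ℓ d S.X₂ (p₁ + p₃) := by
  obtain ⟨P₁, hP1, rfl⟩ := hp1
  obtain ⟨P₃, hP3, rfl⟩ := hp3
  exact ⟨P₁ + P₃, isHilbPoly_add k hL S hS h1 h2 h3 hP1 hP3, (topPart_add ℓ d _ _).symm⟩

lemma thp_X₃ (hL : PicF.IsInvertible L) (S : ShortComplex X.Modules) (hS : S.ShortExact)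
    (h1 : Coh.IsCoh S.X₁) (h2 : Coh.IsCoh S.X₂) (h3 : Coh.IsCoh S.X₃) {p₁ p₂ : ℚ[X]}
    (hp1 : THP k L ℓ d S.X₁ p₁) (hp2 : THP k L ℓ d S.X₂ p₂) : THP k L ℓ d S.X₃ (p₂ - p₁) := by
  obtain ⟨P₁, hP1, rfl⟩ := hp1
  obtain ⟨P₂, hP2, rfl⟩ := hp2
  exact ⟨P₂ - P₁, isHilbPoly_X₃ k hL S hS h1 h2 h3 hP1 hP2, (topPart_sub ℓ d _ _).symm⟩

lemma thp_X₁ (hL : PicF.IsInvertible L) (S : ShortComplex X.Modules) (hS : S.ShortExact)
    (h1 : Coh.IsCoh S.X₁) (h2 : Coh.IsCoh S.X₂) (h3 : Coh.IsCoh S.X₃) {p₂ p₃ : ℚ[X]}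
    (hp2 : THP k L ℓ d S.X₂ p₂) (hp3 : THP k L ℓ d S.X₃ p₃) : THP k L ℓ d S.X₁ (p₂ - p₃) := by
  obtain ⟨P₂, hP2, rfl⟩ := hp2
  obtain ⟨P₃, hP3, rfl⟩ := hp3
  exact ⟨P₂ - P₃, isHilbPoly_X₁ k hL S hS h1 h2 h3 hP2 hP3, (topPart_sub ℓ d _ _).symm⟩

theorem t_alpha_pos_of_pure (hL : CohB1.IsAmple L) {E : X.Modules}
    (hp : ShStab.IsPure X E d) {F : X.Modules} (ι : F ⟶ E) [Mono ι] (hF : Coh.IsCoh F)
    (h0 : ¬ IsZero F) {p : ℚ[X]} (hq : THP k L ℓ d F p) : 0 < StabCat.alpha d p := by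
  obtain ⟨Q, hQ, rfl⟩ := hq
  rw [alpha_topPart]
  exact alpha_pos_of_pure k hL hp ι hF h0 hQ

theorem t_exists_nat_alpha_of_pure (hL : CohB1.IsAmple L) {E : X.Modules}
    (hp : ShStab.IsPure X E d) {F : X.Modules} (ι : F ⟶ E) [Mono ι] (hF : Coh.IsCoh F)
    (h0 : ¬ IsZero F) {p : ℚ[X]} (hq : THP k L ℓ d F p) :
    ∃ n : ℕ, 0 < n ∧ StabCat.alpha d p = n := by
  obtain ⟨Q, hQ, rfl⟩ := hq
  rw [alpha_topPart]
  exact exists_nat_alpha_of_pure k hL hp ι hF h0 hQ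

theorem t_alpha_nonneg_of_dim_le (hL : CohB1.IsAmple L) (M : X.Modules)
    (hM : Coh.IsCoh M) {p : ℚ[X]} (hq : THP k L ℓ d M p)
    (hd : topologicalKrullDim (CohB1.support M) ≤ (d : WithBot ℕ∞)) :
    0 ≤ StabCat.alpha d p := by
  obtain ⟨Q, hQ, rfl⟩ := hq
  rw [alpha_topPart]
  exact alpha_nonneg_of_dim_le k hL M hM hQ d hd

theorem thp_eventually_nonneg (hL : CohB1.IsAmple L) (M : X.Modules)
    (hM : Coh.IsCoh M) {p : ℚ[X]} (hq : THP k L ℓ d M p)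
    (hd : topologicalKrullDim (CohB1.support M) ≤ (d : WithBot ℕ∞)) :
    ∃ N : ℕ, ∀ m : ℕ, N ≤ m → 0 ≤ p.eval (m : ℚ) := by
  obtain ⟨Q, hQ, rfl⟩ := hq
  exact topPart_eventually_nonneg ℓ d Q (eq_zero_or_leadingCoeff_pos k hL M hM hQ)
    (natDegree_le_of_dim_le k hL M hM hQ d hd)

lemma thp_inter (hL : CohB1.IsAmple L) {E : X.Modules} (hE : Coh.IsCoh E) (A B : Subobject E)
    (hA : Coh.IsCoh (A : X.Modules)) (hB : Coh.IsCoh (B : X.Modules)) {pB pJ : ℚ[X]}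
    (hpB : THP k L ℓ d (B : X.Modules) pB) (hpJ : THP k L ℓ d (imJ A B) pJ) :
    THP k L ℓ d (inter A B : X.Modules) (pB - pJ) := by
  obtain ⟨PB, hPB, rfl⟩ := hpB
  obtain ⟨PJ, hPJ, rfl⟩ := hpJ
  exact ⟨PB - PJ, hp_inter k hL hE A B hA hB hPB hPJ, (topPart_sub ℓ d _ _).symm⟩

lemma thp_sumS (hL : CohB1.IsAmple L) {E : X.Modules} (hE : Coh.IsCoh E) (A B : Subobject E)
    (hA : Coh.IsCoh (A : X.Modules)) (hB : Coh.IsCoh (B : X.Modules)) {pA pJ : ℚ[X]}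
    (hpA : THP k L ℓ d (A : X.Modules) pA) (hpJ : THP k L ℓ d (imJ A B) pJ) :
    THP k L ℓ d (sumS A B : X.Modules) (pA + pJ) := by
  obtain ⟨PA, hPA, rfl⟩ := hpA
  obtain ⟨PJ, hPJ, rfl⟩ := hpJ
  exact ⟨PA + PJ, hp_sumS k hL hE A B hA hB hPA hPJ, (topPart_add ℓ d _ _).symm⟩

end Groth.Agent.Lib.Helper23.HilbT
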