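import Mathlib
import Groth.Prelude
import Groth.Agent.Lib.Helper23.HilbMDc
import Groth.Agent.Lib.Helper23.HilbTB

/-!
# The maximal destabilising submodule for truncated Hilbert polynomials (helper23)
-/

set_option autoImplicit false
set_option linter.unusedSectionVars false
set_option linter.style.haveILetI false
universe u
open CategoryTheory CategoryTheory.Limits AlgebraicGeometry Polynomial

noncomputable section

namespace Groth.Agent.Lib.Helper23.HilbT

open Groth.Agent.Lib.Helper17 Groth.Agent.Lib.Helper17.DevBasic Groth.Agent.Lib.Helper23.HilbP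

variable (k : Type u) [Field k] {X : Scheme.{u}} [X.Over (Spec (CommRingCat.of k))]
  [IsProper (X ↘ Spec (CommRingCat.of k))] (L : X.Modules) (ℓ d : ℕ) {E : X.Modules}

/-- the chosen truncated Hilbert polynomial. -/
def tpS (T : Subobject E) : ℚ[X] := StabCat.topPart ℓ d (hpS k L T)

variable {L} {d}

lemma tpS_spec (hL : CohB1.IsAmple L) {T : Subobject E} (hT : Coh.IsCoh (T : X.Modules)) :
    THP k L ℓ d (T : X.Modules) (tpS k L ℓ d T) :=
  ⟨hpS k L T, hpS_spec k hL hT, rfl⟩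

lemma tpS_eq (hL : CohB1.IsAmple L) {T : Subobject E} (hT : Coh.IsCoh (T : X.Modules)) {P : ℚ[X]}
    (hP : THP k L ℓ d (T : X.Modules) P) : tpS k L ℓ d T = P :=
  thp_unique k (tpS_spec k ℓ hL hT) hP

variable (hL : CohB1.IsAmple L) (hE : Coh.IsCoh E) (hp : ShStab.IsPure X E d)

include hL hp in
lemma t_good_alpha_pos {T : Subobject E} (hT : Good T) :
    0 < StabCat.alpha d (tpS k L ℓ d T) :=
  t_alpha_pos_of_pure k hL hp T.arrow hT.1 hT.2 (tpS_spec k ℓ hL hT.1)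

variable (L) in
/-- `T` is maximal below `F` for the order "`T ⊆ T'` and `p(T) ≤ p(T')`". -/
def MaxIn (d : ℕ) (F T : Subobject E) : Prop :=
  Good T ∧ T ≤ F ∧ ∀ T' : Subobject E, Coh.IsCoh (T' : X.Modules) → T ≤ T' → T' ≤ F → T' ≠ T →
    StabCat.RedLT d (tpS k L ℓ d T') (tpS k L ℓ d T)

include hL hE hp in
theorem exists_maxIn (F T : Subobject E) (hT : Good T) (hTF : T ≤ F) :
    ∃ T' : Subobject E, T ≤ T' ∧ MaxIn k (L := L) ℓ d F T' ∧
      StabCat.RedLE d (tpS k L ℓ d T) (tpS k L ℓ d T') := by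
  haveI := isNoetherian_of_isProper k X
  let S : Set (Subobject E) := {T' | Coh.IsCoh (T' : X.Modules) ∧ T ≤ T' ∧ T' ≤ F ∧
    StabCat.RedLE d (tpS k L ℓ d T) (tpS k L ℓ d T')}
  have hne : S.Nonempty := ⟨T, hT.1, le_rfl, hTF, redLE_refl _ _⟩
  obtain ⟨T₁, ⟨hc1, hle1, hF1, hred1⟩, hmax⟩ :=
    exists_maximal_sub E hE S (fun T' hT' => hT'.1.1) hne
  have hG1 : Good T₁ := hT.of_le hle1 hc1
  refine ⟨T₁, hle1, ⟨hG1, hF1, ?_⟩, hred1⟩
  intro T' hc' hle' hF' hne'
  rcases redLE_or_redLT d (tpS k L ℓ d T₁) (tpS k L ℓ d T') with h | h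
  · exfalso
    have hG' : Good T' := hG1.of_le hle' hc'
    have : T' ∈ S := ⟨hc', hle1.trans hle', hF',
      redLE_trans (t_good_alpha_pos k ℓ hL hp hT) (t_good_alpha_pos k ℓ hL hp hG1) (t_good_alpha_pos k ℓ hL hp hG') hred1 h⟩
    exact hne' (hmax T' this hle')
  · exact h

include hL hE hp in
/-- the intersection step of the argument. -/
theorem inter_step (h0 : ¬ IsZero E) (F G : Subobject E) (hF : Good F) (hG : Good G)
    (hFmax : ∀ T' : Subobject E, Coh.IsCoh (T' : X.Modules) → F ≤ T' → T' ≠ F →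
      StabCat.RedLT d (tpS k L ℓ d T') (tpS k L ℓ d F))
    (hnle : ¬ G ≤ F) (hFG : StabCat.RedLE d (tpS k L ℓ d F) (tpS k L ℓ d G)) :
    Good (inter F G) ∧ StabCat.RedLT d (tpS k L ℓ d G) (tpS k L ℓ d (inter F G)) := by
  haveI := isNoetherian_of_isProper k X
  have hJ := isCoh_imJ k hE F G hF.1 hG.1
  obtain ⟨pJ, hpJ⟩ := exists_thp k ℓ d hL _ hJ
  have hcI := isCoh_inter k hE F G hF.1 hG.1
  have hcS := isCoh_sumS k hE F G hF.1 hG.1
  have eI : tpS k L ℓ d (inter F G) = tpS k L ℓ d G - pJ :=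
    tpS_eq k ℓ hL hcI (thp_inter k hL hE F G hF.1 hG.1 (tpS_spec k ℓ hL hG.1) hpJ)
  have eS : tpS k L ℓ d (sumS F G) = tpS k L ℓ d F + pJ :=
    tpS_eq k ℓ hL hcS (thp_sumS k hL hE F G hF.1 hG.1 (tpS_spec k ℓ hL hF.1) hpJ)
  have hSne : sumS F G ≠ F := fun h => hnle (h ▸ le_sumS_right F G)
  have hSlt := hFmax (sumS F G) hcS (le_sumS_left F G) hSne
  have hdJ : topologicalKrullDim (CohB1.support (imJ F G)) ≤ (d : WithBot ℕ∞) := by
    rw [← hp E (𝟙 E) inferInstance hE h0]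
    exact topologicalKrullDim_mono ((support_subset_of_mono (Abelian.image.ι (psi F G))).trans
      (support_subset_of_epi (cokernel.π F.arrow)))
  have aJ : 0 ≤ StabCat.alpha d pJ := t_alpha_nonneg_of_dim_le k hL _ hJ hpJ hdJ
  have hsum : tpS k L ℓ d F + tpS k L ℓ d G = tpS k L ℓ d (inter F G) + tpS k L ℓ d (sumS F G) := by
    rw [eI, eS]; ring
  have hIG : StabCat.alpha d (tpS k L ℓ d (inter F G)) ≤ StabCat.alpha d (tpS k L ℓ d G) := by
    rw [eI, alpha_sub]; linarith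
  have hlt := redLT_inter hsum (t_good_alpha_pos k ℓ hL hp hF) (t_good_alpha_pos k ℓ hL hp hG) hIG hFG hSlt
  refine ⟨⟨hcI, ?_⟩, hlt⟩
  intro hz
  have e0 : tpS k L ℓ d (inter F G) = 0 := tpS_eq k ℓ hL hcI (thp_zero k hz)
  rw [e0] at hlt
  obtain ⟨N, hN⟩ := (redLT_iff _ _ _).1 hlt
  have := hN N le_rfl
  rw [alpha_zero, eval_zero, zero_mul, mul_zero] at this
  exact lt_irrefl _ this

include hL hE hp in
/-- a submodule which is maximal for `≼` and of minimal multiplicity among those dominates every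
other submodule. -/
theorem maxDestab_key (h0 : ¬ IsZero E) (F : Subobject E) (hF : MaxIn k (L := L) ℓ d ⊤ F)
    (hmin : ∀ F' : Subobject E, MaxIn k (L := L) ℓ d ⊤ F' →
      StabCat.alpha d (tpS k L ℓ d F) ≤ StabCat.alpha d (tpS k L ℓ d F'))
    (G : Subobject E) (hG : Good G) :
    StabCat.RedLE d (tpS k L ℓ d G) (tpS k L ℓ d F) ∧
      (StabCat.RedEq d (tpS k L ℓ d G) (tpS k L ℓ d F) → G ≤ F) := by
  haveI := isNoetherian_of_isProper k X
  by_contra hcon
  have aF := t_good_alpha_pos k ℓ hL hp hF.1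
  have aG := t_good_alpha_pos k ℓ hL hp hG
  have hFmax : ∀ T' : Subobject E, Coh.IsCoh (T' : X.Modules) → F ≤ T' → T' ≠ F →
      StabCat.RedLT d (tpS k L ℓ d T') (tpS k L ℓ d F) := fun T' h1 h2 h3 => hF.2.2 T' h1 h2 le_top h3
  -- Step A
  obtain ⟨G₁, hG₁, hG₁F, hlt₁⟩ : ∃ G₁ : Subobject E, Good G₁ ∧ G₁ ≤ F ∧
      StabCat.RedLT d (tpS k L ℓ d F) (tpS k L ℓ d G₁) := by
    by_cases hle : G ≤ F
    · refine ⟨G, hG, hle, ?_⟩
      rcases redLE_or_redLT d (tpS k L ℓ d G) (tpS k L ℓ d F) with h | h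
      · exact absurd ⟨h, fun _ => hle⟩ hcon
      · exact h
    · have hFG : StabCat.RedLE d (tpS k L ℓ d F) (tpS k L ℓ d G) := by
        rcases redLE_or_redLT d (tpS k L ℓ d G) (tpS k L ℓ d F) with h | h
        · by_contra hn
          apply hcon
          refine ⟨h, fun heq => ?_⟩
          exact absurd (redLE_of_redEq (redEq_symm heq)) hn
        · exact RedLT.redLE h
      obtain ⟨hGI, hltI⟩ := inter_step k ℓ hL hE hp h0 F G hF.1 hG hFmax hle hFG
      exact ⟨inter F G, hGI, inter_le_left F G,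
        redLT_of_redLE_of_redLT aF aG (t_good_alpha_pos k ℓ hL hp hGI) hFG hltI⟩
  -- Step B
  have aG₁ := t_good_alpha_pos k ℓ hL hp hG₁
  obtain ⟨G₂, h12, hmax2, hle2⟩ := exists_maxIn k ℓ hL hE hp F G₁ hG₁ hG₁F
  have aG₂ := t_good_alpha_pos k ℓ hL hp hmax2.1
  have hlt₂ : StabCat.RedLT d (tpS k L ℓ d F) (tpS k L ℓ d G₂) :=
    redLT_of_redLT_of_redLE aF aG₁ aG₂ hlt₁ hle2
  obtain ⟨G', h2', hmax', hle'⟩ := exists_maxIn k ℓ hL hE hp ⊤ G₂ hmax2.1 le_top
  have aG' := t_good_alpha_pos k ℓ hL hp hmax'.1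
  have hlt' : StabCat.RedLT d (tpS k L ℓ d F) (tpS k L ℓ d G') :=
    redLT_of_redLT_of_redLE aF aG₂ aG' hlt₂ hle'
  have hnle : ¬ G' ≤ F := by
    intro hle
    by_cases heq : G' = G₂
    · have h1 := hmin G' hmax'
      -- the quotient F / G'
      have hC : Coh.IsCoh (cokernel (Subobject.ofLE G' F hle)) :=
        isCoh_cokernel _ hmax'.1.1.1 hF.1.1
      have hpC : THP k L ℓ d (cokernel (Subobject.ofLE G' F hle))
          (tpS k L ℓ d F - tpS k L ℓ d G') :=
        thp_X₃ k hL.1 _ (DevKey.shortExact_of_mono (Subobject.ofLE G' F hle))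
          hmax'.1.1 hF.1.1 hC (tpS_spec k ℓ hL hmax'.1.1) (tpS_spec k ℓ hL hF.1.1)
      have hdC : topologicalKrullDim (CohB1.support (cokernel (Subobject.ofLE G' F hle))) ≤
          (d : WithBot ℕ∞) := by
        rw [← hp E (𝟙 E) inferInstance hE h0]
        exact topologicalKrullDim_mono ((support_subset_of_epi (cokernel.π _)).trans
          (support_subset_of_mono F.arrow))
      have aC : 0 ≤ StabCat.alpha d (tpS k L ℓ d F - tpS k L ℓ d G') :=
        t_alpha_nonneg_of_dim_le k hL _ hC hpC hdC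
      rw [alpha_sub] at aC
      have haeq : StabCat.alpha d (tpS k L ℓ d G') = StabCat.alpha d (tpS k L ℓ d F) :=
        le_antisymm (by linarith) h1
      obtain ⟨N1, hN1⟩ := thp_eventually_nonneg k hL _ hC hpC hdC
      obtain ⟨N2, hN2⟩ := (redLT_iff _ _ _).1 hlt'
      have e1 : (0 : ℚ) ≤ (tpS k L ℓ d F - tpS k L ℓ d G').eval ((max N1 N2 : ℕ) : ℚ) :=
        hN1 _ (le_max_left _ _)
      have e2 := hN2 (max N1 N2) (le_max_right _ _)
      rw [haeq] at e2
      rw [eval_sub] at e1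
      have := (mul_lt_mul_iff_right₀ aF).1 e2
      linarith
    · exact not_redLT_of_redLE hle' (hmax2.2.2 G' hmax'.1.1 h2' hle heq)
  obtain ⟨hGT, hltT⟩ := inter_step k ℓ hL hE hp h0 F G' hF.1 hmax'.1 hFmax hnle (RedLT.redLE hlt')
  have aT := t_good_alpha_pos k ℓ hL hp hGT
  have h2T : G₂ ≤ inter F G' := le_inter hmax2.2.1 h2'
  have hlt2T : StabCat.RedLT d (tpS k L ℓ d G₂) (tpS k L ℓ d (inter F G')) :=
    redLT_of_redLE_of_redLT aG₂ aG' aT hle' hltT
  have hneT : inter F G' ≠ G₂ := by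
    intro h
    rw [h] at hlt2T
    exact not_redLT_of_redLE (redLE_refl _ _) hlt2T
  exact not_redLT_of_redLE (RedLT.redLE hlt2T)
    (hmax2.2.2 (inter F G') hGT.1 h2T (inter_le_left F G') hneT)

end Groth.Agent.Lib.Helper23.HilbT
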