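import Mathlib
import Groth.Prelude
import Groth.Agent.Lib.Helper23.HilbMDd
import Groth.Agent.Lib.Helper23.HilbTC
import Groth.Agent.Lib.Helper23.HilbJH

/-!
# Existence of the maximal destabilising submodule (helper23)
-/

set_option autoImplicit false
set_option linter.unusedSectionVars false
set_option linter.style.haveILetI false
universe u
open CategoryTheory CategoryTheory.Limits AlgebraicGeometry Polynomial

noncomputable section

namespace Groth.Agent.Lib.Helper23.HilbT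

open Groth.Agent.Lib.Helper17 Groth.Agent.Lib.Helper17.DevBasic Groth.Agent.Lib.Helper23.HilbP

variable (k : Type u) [Field k] {X : Scheme.{u}} [X.Over (Spec (CommRingCat.of k))]
  [IsProper (X ↘ Spec (CommRingCat.of k))] {L : X.Modules} {E : X.Modules} (ℓ : ℕ) {d : ℕ}

/-- the maximal destabilising subobject, in terms of subobjects. -/
theorem exists_maxDestab_sub (hL : CohB1.IsAmple L) (hE : Coh.IsCoh E) (h0 : ¬ IsZero E)
    (hp : ShStab.IsPure X E d) :
    ∃ F : Subobject E, Good F ∧ ∀ G : Subobject E, Good G →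
      StabCat.RedLE d (tpS k L ℓ d G) (tpS k L ℓ d F) ∧
        (StabCat.RedEq d (tpS k L ℓ d G) (tpS k L ℓ d F) → G ≤ F) := by
  classical
  let A : Set ℕ := {n | ∃ F : Subobject E, MaxIn k (L := L) ℓ d ⊤ F ∧
    StabCat.alpha d (tpS k L ℓ d F) = n}
  have hnat : ∀ F : Subobject E, Good F → ∃ n : ℕ, StabCat.alpha d (tpS k L ℓ d F) = n := by
    intro F hF
    obtain ⟨n, -, hn⟩ := t_exists_nat_alpha_of_pure k hL hp F.arrow hF.1 hF.2 (tpS_spec k ℓ hL hF.1)
    exact ⟨n, hn⟩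
  have hne : A.Nonempty := by
    obtain ⟨F₀, -, hF₀, -⟩ := exists_maxIn k ℓ hL hE hp ⊤ ⊤ (good_top hE h0) le_rfl
    obtain ⟨n, hn⟩ := hnat F₀ hF₀.1
    exact ⟨n, F₀, hF₀, hn⟩
  obtain ⟨F, hFmax, hFn⟩ := Nat.sInf_mem hne
  refine ⟨F, hFmax.1, fun G hG => maxDestab_key k ℓ hL hE hp h0 F hFmax ?_ G hG⟩
  intro F' hF'
  obtain ⟨n', hn'⟩ := hnat F' hF'.1
  have : sInf A ≤ n' := Nat.sInf_le ⟨F', hF', hn'⟩
  rw [hFn, hn']
  exact_mod_cast this

end Groth.Agent.Lib.Helper23.HilbT
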