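import Mathlib
import Groth.Prelude
import Groth.Agent.Lib.Helper23.HilbHNa
import Groth.Agent.Lib.Helper23.HilbTD
import Groth.Agent.Lib.Helper23.SubCorr3
import Groth.Agent.Lib.Helper1.PushCoh

/-!
# Existence of Harder–Narasimhan filtrations (helper23)
-/

set_option autoImplicit false
set_option linter.unusedSectionVars false
set_option linter.style.haveILetI false
universe u
open CategoryTheory CategoryTheory.Limits AlgebraicGeometry Polynomial

noncomputable section

namespace Groth.Agent.Lib.Helper23.HilbT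

open Groth.Agent.Lib.Helper17 Groth.Agent.Lib.Helper17.DevBasic Groth.Agent.Lib.Helper23.HilbP Groth.Agent.Lib.Helper23.SubCorr

variable (k : Type u) [Field k] {X : Scheme.{u}} [X.Over (Spec (CommRingCat.of k))]
  [IsProper (X ↘ Spec (CommRingCat.of k))]

/-- semistability with respect to the truncated Hilbert polynomials. -/
def TSS (L : X.Modules) (ℓ : ℕ) (M : X.Modules) (d : ℕ) : Prop :=
  Coh.IsCoh M ∧ ¬ IsZero M ∧ ShStab.IsPure X M d ∧ StabCat.IsSS Coh.IsCoh (THP k L ℓ d) d M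

/-- Harder–Narasimhan filtrations with respect to the truncated Hilbert polynomials. -/
def TIsHN (L : X.Modules) (ℓ : ℕ) (E : X.Modules) (d : ℕ) (s : LTSeries (Subobject E)) : Prop :=
  StabCat.IsHNWith (fun G => TSS k L ℓ G d) (THP k L ℓ d) d E s

omit [IsProper (X ↘ Spec (CommRingCat.of k))] in
theorem tss_of_iso {L M N : X.Modules} {ℓ : ℕ} (e : M ≅ N) {d : ℕ}
    (h : TSS k L ℓ M d) : TSS k L ℓ N d := by
  refine ⟨isCoh_of_iso e h.1, fun hz => h.2.1 (IsZero.of_iso hz e), isPure_of_iso e h.2.2.1, ?_⟩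
  intro F ι hι hF hF0 hniso pF pN hpF hpN
  haveI := hι
  refine h.2.2.2 F (ι ≫ e.inv) inferInstance hF hF0 ?_ pF pN hpF (thp_of_iso k e.symm hpN)
  intro hiso
  apply hniso
  have : ι = (ι ≫ e.inv) ≫ e.hom := by rw [Category.assoc, e.inv_hom_id, Category.comp_id]
  rw [this]
  infer_instance

theorem t_alpha_pos_of_isSemistable {L : X.Modules} {ℓ : ℕ} (hL : CohB1.IsAmple L) {E : X.Modules}
    {d : ℕ} (hE : TSS k L ℓ E d) {Q : ℚ[X]} (hQ : THP k L ℓ d E Q) :
    0 < StabCat.alpha d Q :=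
  t_alpha_pos_of_pure k hL hE.2.2.1 (𝟙 E) hE.1 hE.2.1 hQ

variable {L : X.Modules} {E : X.Modules} (ℓ : ℕ) {d : ℕ}

section MDS

variable (hL : CohB1.IsAmple L) (hE : Coh.IsCoh E) (h0 : ¬ IsZero E) (hp : ShStab.IsPure X E d)
  (F : Subobject E) (hF : Good F)
  (hkey : ∀ G : Subobject E, Good G → StabCat.RedLE d (tpS k L ℓ d G) (tpS k L ℓ d F) ∧
    (StabCat.RedEq d (tpS k L ℓ d G) (tpS k L ℓ d F) → G ≤ F))

include hL hE h0 hp hF hkey in
theorem isSemistable_maxDestab : TSS k L ℓ (F : X.Modules) d := by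
  refine ⟨hF.1, hF.2, isPure_of_mono hp F.arrow, ?_⟩
  intro F' ι' hι' hF' hF'0 _ pF' pF hpF' hpF
  haveI := hι'
  obtain ⟨e, -⟩ : ∃ e : (Subobject.mk (ι' ≫ F.arrow) : X.Modules) ≅ F',
      e = Subobject.underlyingIso (ι' ≫ F.arrow) := ⟨_, rfl⟩
  have hT : Good (Subobject.mk (ι' ≫ F.arrow)) :=
    ⟨isCoh_of_iso e.symm hF', fun hz => hF'0 (IsZero.of_iso hz e.symm)⟩
  have e1 : tpS k L ℓ d (Subobject.mk (ι' ≫ F.arrow)) = pF' :=
    tpS_eq k ℓ hL hT.1 (thp_of_iso k e.symm hpF')
  have e2 : tpS k L ℓ d F = pF := tpS_eq k ℓ hL hF.1 hpF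
  have := (hkey _ hT).1
  rwa [e1, e2] at this

include hL hE h0 hp hF hkey in
/-- a coherent subobject strictly above the maximal destabilising one, of Hilbert polynomial
`P(F) + q`: then `q` has smaller reduced polynomial than `F`. -/
theorem redLT_of_above_maxDestab (G : Subobject E) (hG : Coh.IsCoh (G : X.Modules)) (hFG : F ≤ G)
    (hne : G ≠ F) {q : ℚ[X]} (hq : THP k L ℓ d (G : X.Modules) (tpS k L ℓ d F + q)) :
    StabCat.RedLT d q (tpS k L ℓ d F) := by
  have hGood : Good G := hF.of_le hFG hG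
  have eG : tpS k L ℓ d G = tpS k L ℓ d F + q := tpS_eq k ℓ hL hG hq
  obtain ⟨h1, h2⟩ := hkey G hGood
  rw [eG] at h1 h2
  have hlt : StabCat.RedLT d (tpS k L ℓ d F + q) (tpS k L ℓ d F) := by
    by_contra hn
    exact hne (le_antisymm (h2 (redEq_of_redLE_of_not_redLT h1 hn)) hFG)
  obtain ⟨N, hN⟩ := (redLT_iff _ _ _).1 hlt
  rw [redLT_iff]
  refine ⟨N, fun m hm => ?_⟩
  have := hN m hm
  rw [alpha_add, eval_add] at this
  linarith

include hL hE h0 hp hF hkey in
theorem isPure_cokernel_maxDestab : ShStab.IsPure X (cokernel F.arrow) d := by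
  haveI := isNoetherian_of_isProper k X
  intro T τ hτ hT hT0
  haveI := hτ
  have hQ : Coh.IsCoh (cokernel F.arrow) := isCoh_cokernel _ hF.1.1 hE
  have hdT : topologicalKrullDim (CohB1.support T) ≤ (d : WithBot ℕ∞) := by
    rw [← hp E (𝟙 E) inferInstance hE h0]
    exact topologicalKrullDim_mono ((support_subset_of_mono τ).trans
      (support_subset_of_epi (cokernel.π F.arrow)))
  rcases hdT.lt_or_eq with hlt | heq
  swap
  · exact heq
  exfalso
  -- full Hilbert polynomials
  obtain ⟨PE, hPE⟩ := exists_isHilbPoly k X hL E hE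
  obtain ⟨PT, hPT⟩ := exists_isHilbPoly k X hL T hT
  have hPF := hpS_spec k hL hF.1
  have hPQ : ShStab.IsHilbPoly k X L (cokernel F.arrow) (PE - hpS k L F) :=
    isHilbPoly_X₃ k hL.1 _ (DevKey.shortExact_of_mono F.arrow) hF.1 hE hQ hPF hPE
  have hD : Coh.IsCoh (cokernel τ) := isCoh_cokernel τ hT.1 hQ
  have hPD : ShStab.IsHilbPoly k X L (cokernel τ) (PE - hpS k L F - PT) :=
    isHilbPoly_X₃ k hL.1 _ (DevKey.shortExact_of_mono τ) hT hQ hD hPT hPQ
  let ρ : E ⟶ cokernel τ := cokernel.π F.arrow ≫ cokernel.π τ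
  have hK : Coh.IsCoh (kernel ρ) := isCoh_kernel ρ hE hD.1
  have hPK : ShStab.IsHilbPoly k X L (kernel ρ) (PE - (PE - hpS k L F - PT)) :=
    isHilbPoly_X₁ k hL.1 _ (DevKey.shortExact_of_epi ρ) hK hE hD hPE hPD
  have e1 : PE - (PE - hpS k L F - PT) = hpS k L F + PT := by ring
  rw [e1] at hPK
  obtain ⟨e, -⟩ : ∃ e : (Subobject.mk (kernel.ι ρ) : X.Modules) ≅ kernel ρ,
      e = Subobject.underlyingIso (kernel.ι ρ) := ⟨_, rfl⟩
  have hGc : Coh.IsCoh (Subobject.mk (kernel.ι ρ) : X.Modules) := isCoh_of_iso e.symm hK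
  have hle : F ≤ Subobject.mk (kernel.ι ρ) := by
    have hz : F.arrow ≫ ρ = 0 := by
      show F.arrow ≫ cokernel.π F.arrow ≫ cokernel.π τ = 0
      rw [← Category.assoc, cokernel.condition, Limits.zero_comp]
    exact Subobject.le_mk_of_comm (kernel.lift ρ F.arrow hz) (kernel.lift_ι _ _ _)
  have hGood : Good (Subobject.mk (kernel.ι ρ)) := hF.of_le hle hGc
  have eGfull : hpS k L (Subobject.mk (kernel.ι ρ)) = hpS k L F + PT :=
    hpS_eq k hL hGc (isHilbPoly_of_iso k e.symm hPK)
  have eG : tpS k L ℓ d (Subobject.mk (kernel.ι ρ)) =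
      tpS k L ℓ d F + StabCat.topPart ℓ d PT := by
    unfold tpS
    rw [eGfull, topPart_add]
  have hpT : THP k L ℓ d T (StabCat.topPart ℓ d PT) := ⟨PT, hPT, rfl⟩
  obtain ⟨h1, h2⟩ := hkey _ hGood
  rw [eG] at h1 h2
  have aT : StabCat.alpha d (StabCat.topPart ℓ d PT) = 0 := by
    rw [alpha_topPart]
    unfold StabCat.alpha
    rw [coeff_eq_zero_of_dim_lt k hL T hT hPT d hlt d le_rfl, mul_zero]
  have aF := t_good_alpha_pos k ℓ hL hp hF
  obtain ⟨N, hN⟩ := (redLE_iff _ _ _).1 h1
  obtain ⟨N', hN'⟩ := thp_eventually_nonneg k hL T hT hpT hdT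
  -- the truncation of `PT` vanishes
  have hz : StabCat.topPart ℓ d PT = 0 := by
    apply poly_ext_nat' _ _ (max N N')
    intro m hm
    have e2 := hN m ((le_max_left _ _).trans hm)
    have e3 := hN' m ((le_max_right _ _).trans hm)
    rw [alpha_add, aT, add_zero, eval_add] at e2
    rw [eval_zero]
    nlinarith
  have heq : StabCat.RedEq d (tpS k L ℓ d F + StabCat.topPart ℓ d PT) (tpS k L ℓ d F) := by
    rw [hz, add_zero]
    rfl
  have hGF : Subobject.mk (kernel.ι ρ) = F := le_antisymm (h2 heq) hle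
  rw [hGF] at eGfull
  have hPT0 : PT = 0 := by
    have := congrArg (fun x => x - hpS k L F) eGfull
    simpa using this.symm
  have := leadingCoeff_pos k hL T hT hT0 hPT
  rw [hPT0, leadingCoeff_zero] at this
  exact lt_irrefl _ this

end MDS

/-- existence of Harder–Narasimhan filtrations, by induction on the multiplicity. -/
theorem exists_isHNFiltration (hL : CohB1.IsAmple L) :
    ∀ (n : ℕ) (E : X.Modules) (_ : Coh.IsCoh E) (_ : ¬ IsZero E) (_ : ShStab.IsPure X E d)
      (pE : ℚ[X]) (_ : THP k L ℓ d E pE) (_ : StabCat.alpha d pE = n),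
      ∃ s : LTSeries (Subobject E), TIsHN k L ℓ E d s := by
  intro n
  induction n using Nat.strong_induction_on with
  | _ n ih =>
  intro E hE h0 hp pE hpE hn
  haveI := isNoetherian_of_isProper k X
  obtain ⟨F, hF, hkey⟩ := exists_maxDestab_sub k ℓ hL hE h0 hp
  have hFss := isSemistable_maxDestab k ℓ hL hE h0 hp F hF hkey
  have hpF := tpS_spec k ℓ (d := d) hL hF.1
  have aF := t_good_alpha_pos k ℓ hL hp hF
  have hQ : Coh.IsCoh (cokernel F.arrow) := isCoh_cokernel _ hF.1.1 hE
  have hpQ : THP k L ℓ d (cokernel F.arrow) (pE - tpS k L ℓ d F) :=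
    thp_X₃ k hL.1 _ (DevKey.shortExact_of_mono F.arrow) hF.1 hE hQ hpF hpE
  have eK : (F : X.Modules) ≅ kernel (cokernel.π F.arrow) :=
    asIso (Abelian.factorThruImage F.arrow)
  have hKss : TSS k L ℓ (kernel (cokernel.π F.arrow)) d :=
    tss_of_iso k eK hFss
  obtain ⟨t, ht, h01⟩ : ∃ t : LTSeries (Subobject (cokernel F.arrow)),
      TIsHN k L ℓ (cokernel F.arrow) d t ∧
        ∀ (j : Fin t.length), j.val = 0 → ∀ p q : ℚ[X],
          THP k L ℓ d (kernel (cokernel.π F.arrow)) p →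
          THP k L ℓ d (StabCat.factor t j) q → StabCat.RedLT d q p := by
    by_cases hQ0 : IsZero (cokernel F.arrow)
    · exact ⟨trivSeries _, isHNWith_trivSeries _ _ d hQ0, fun j => j.elim0⟩
    · have hQp := isPure_cokernel_maxDestab k ℓ hL hE h0 hp F hF hkey
      have aQ : 0 < StabCat.alpha d (pE - tpS k L ℓ d F) :=
        t_alpha_pos_of_pure k hL hQp (𝟙 _) hQ hQ0 hpQ
      obtain ⟨m, -, hm⟩ := t_exists_nat_alpha_of_pure k hL hQp (𝟙 _) hQ hQ0 hpQ
      have hmn : m < n := by
        have : (m : ℚ) < (n : ℚ) := by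
          rw [← hm, ← hn, alpha_sub]; linarith
        exact_mod_cast this
      obtain ⟨t, ht⟩ := ih m hmn (cokernel F.arrow) hQ hQ0 hQp (pE - tpS k L ℓ d F) hpQ hm
      refine ⟨t, ht, ?_⟩
      intro j hj p q hp' hq
      have hpeq : p = tpS k L ℓ d F :=
        thp_unique k hp' (thp_of_iso k eK hpF)
      rw [hpeq]
      -- the subobject `G = π⁻¹ (t j.succ)`
      have hbotj : t j.castSucc = ⊥ := by
        rw [← ht.1]
        show t j.castSucc = t 0
        congr 1
        ext
        simpa using hj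
      have hex := preSC_shortExact (cokernel.π F.arrow) (le_of_lt (t.step j))
      have e1 : ((preSC (cokernel.π F.arrow) (le_of_lt (t.step j))).X₁) ≅
          kernel (cokernel.π F.arrow) :=
        Subobject.isoOfEq _ _ (congrArg (pre (cokernel.π F.arrow)) hbotj) ≪≫
          preBotIso (cokernel.π F.arrow)
      have hc1 : Coh.IsCoh (preSC (cokernel.π F.arrow) (le_of_lt (t.step j))).X₁ :=
        isCoh_of_iso e1.symm hKss.1
      have hp1 : THP k L ℓ d (preSC (cokernel.π F.arrow) (le_of_lt (t.step j))).X₁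
          (tpS k L ℓ d F) := thp_of_iso k e1.symm (thp_of_iso k eK hpF)
      have hc3 : Coh.IsCoh (preSC (cokernel.π F.arrow) (le_of_lt (t.step j))).X₃ :=
        (ht.2.2.1 j).1
      have hc2 : Coh.IsCoh (preSC (cokernel.π F.arrow) (le_of_lt (t.step j))).X₂ :=
        Groth.Agent.Lib.Helper1.PushCoh.isCoh_of_shortExact _ hex hc1 hc3
      have hp2 := thp_add k hL.1 _ hex hc1 hc2 hc3 hp1 hq
      have hFG : F ≤ pre (cokernel.π F.arrow) (t j.succ) := by
        have hfac : (pre (cokernel.π F.arrow) (t j.succ)).Factors F.arrow := by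
          rw [CategoryTheory.Limits.pullback_factors_iff, cokernel.condition]
          exact Subobject.factors_zero
        exact Subobject.le_of_comm (Subobject.factorThru _ _ hfac)
          (Subobject.factorThru_arrow _ _ hfac)
      have hne : pre (cokernel.π F.arrow) (t j.succ) ≠ F := by
        intro heq
        have hc2' : Coh.IsCoh (pre (cokernel.π F.arrow) (t j.succ) : X.Modules) := hc2
        have h3 : tpS k L ℓ d (pre (cokernel.π F.arrow) (t j.succ)) = tpS k L ℓ d F + q :=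
          tpS_eq k ℓ hL hc2' hp2
        rw [heq] at h3
        have hq0 : q = 0 := by
          have := congrArg (fun x => x - tpS k L ℓ d F) h3
          simpa using this.symm
        have := t_alpha_pos_of_isSemistable k hL (ht.2.2.1 j) hq
        rw [hq0, alpha_zero] at this
        exact lt_irrefl _ this
      exact redLT_of_above_maxDestab k ℓ hL hE h0 hp F hF hkey _ hc2 hFG hne hp2
  have hbot : ⊥ < pre (cokernel.π F.arrow) t.head := by
    rw [bot_lt_iff_ne_bot]
    intro hb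
    have e1 : (pre (cokernel.π F.arrow) t.head : X.Modules) ≅ kernel (cokernel.π F.arrow) :=
      preHeadIso (cokernel.π F.arrow) t ht.1
    have hz : IsZero (pre (cokernel.π F.arrow) t.head : X.Modules) := by
      rw [hb]
      exact IsZero.of_iso (isZero_zero _) Subobject.botCoeIsoZero
    exact hF.2 (IsZero.of_iso (IsZero.of_iso hz e1.symm) eK)
  refine ⟨consPre (cokernel.π F.arrow) t hbot, ?_⟩
  exact isHNWith_consPre (cokernel.π F.arrow) (fun G => TSS k L ℓ G d)
    (THP k L ℓ d) d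
    (fun e h => tss_of_iso k e h) (fun P e h => thp_of_iso k e.symm h)
    t ht hbot hKss h01

end Groth.Agent.Lib.Helper23.HilbT
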