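import Mathlib
import Groth.Prelude
import Groth.Agent.Lib.Helper23.HilbMDa
import Groth.Agent.Lib.Helper23.SubCorr4
import Groth.Agent.Lib.Helper23.HilbHNb
import Groth.Agent.Lib.Helper23.HilbTE

/-!
# Uniqueness of Harder–Narasimhan filtrations (helper23)
-/

set_option autoImplicit false
set_option linter.unusedSectionVars false
set_option linter.style.haveILetI false
universe u
open CategoryTheory CategoryTheory.Limits AlgebraicGeometry Polynomial

noncomputable section

namespace Groth.Agent.Lib.Helper23.HilbT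

open Groth.Agent.Lib.Helper17 Groth.Agent.Lib.Helper17.DevBasic Groth.Agent.Lib.Helper23.HilbP Groth.Agent.Lib.Helper23.SubCorr

variable (k : Type u) [Field k] {X : Scheme.{u}} [X.Over (Spec (CommRingCat.of k))]
  [IsProper (X ↘ Spec (CommRingCat.of k))] {L : X.Modules} {E : X.Modules} {ℓ : ℕ} {d : ℕ}

omit [IsProper (X ↘ Spec (CommRingCat.of k))] in
/-- `p(F) ≤ p(E)` for a nonzero coherent submodule of a semistable module (isomorphisms allowed). -/
theorem t_redLE_of_sub {E : X.Modules}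
    (hE : TSS k L ℓ E d) {F : X.Modules} (ι : F ⟶ E) [Mono ι]
    (hF : Coh.IsCoh F) (h0 : ¬ IsZero F) {pF pE : ℚ[X]} (hpF : THP k L ℓ d F pF)
    (hpE : THP k L ℓ d E pE) : StabCat.RedLE d pF pE := by
  by_cases hiso : IsIso ι
  · have : pF = pE := thp_unique k (thp_of_iso k (asIso ι) hpF) hpE
    rw [this]; exact redLE_refl d pE
  · exact hE.2.2.2 F ι inferInstance hF h0 hiso pF pE hpF hpE

/-- `p(F) ≤ p(I)` for a coherent quotient `F ↠ I` of a semistable module. -/
theorem t_redLE_of_quot (hL : CohB1.IsAmple L) {F : X.Modules}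
    (hF : TSS k L ℓ F d) {I : X.Modules} (π : F ⟶ I) [Epi π]
    (hI : Coh.IsCoh I) {pF pI : ℚ[X]} (hpF : THP k L ℓ d F pF)
    (hpI : THP k L ℓ d I pI) : StabCat.RedLE d pF pI := by
  haveI := isNoetherian_of_isProper k X
  have hK : Coh.IsCoh (kernel π) := isCoh_kernel π hF.1 hI.1
  have hpK : THP k L ℓ d (kernel π) (pF - pI) :=
    thp_X₁ k hL.1 _ (DevKey.shortExact_of_epi π) hK hF.1 hI hpF hpI
  by_cases hKz : IsZero (kernel π)
  · haveI : Mono π := Preadditive.mono_of_kernel_zero (hKz.eq_of_src _ _)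
    haveI : IsIso π := isIso_of_mono_of_epi π
    have : pF = pI := thp_unique k (thp_of_iso k (asIso π) hpF) hpI
    rw [this]; exact redLE_refl d pI
  by_cases hiso : IsIso (kernel.ι π)
  · have hπ : π = 0 := by
      have := kernel.condition π
      rwa [← cancel_epi (kernel.ι π), Limits.comp_zero]
    have hIz : IsZero I := IsZero.of_epi_eq_zero π hπ
    have : pI = 0 := thp_unique k hpI (thp_zero k hIz)
    rw [this, redLE_iff]
    exact ⟨0, fun m _ => by simp [alpha_zero]⟩
  have h := hF.2.2.2 (kernel π) (kernel.ι π) inferInstance hK hKz hiso (pF - pI) pF hpK hpF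
  obtain ⟨N, hN⟩ := (redLE_iff _ _ _).1 h
  rw [redLE_iff]
  refine ⟨N, fun m hm => ?_⟩
  have := hN m hm
  rw [alpha_sub, eval_sub] at this
  linarith

/-- no nonzero morphisms from bigger to smaller reduced truncated polynomial. -/
theorem t_hom_eq_zero (hL : CohB1.IsAmple L) {F G : X.Modules}
    (hF : TSS k L ℓ F d) (hG : TSS k L ℓ G d)
    {pF pG : ℚ[X]} (hpF : THP k L ℓ d F pF) (hpG : THP k L ℓ d G pG)
    (hlt : StabCat.RedLT d pG pF) (φ : F ⟶ G) : φ = 0 := by
  classical
  by_contra hφ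
  haveI := isNoetherian_of_isProper k X
  have hIcoh : Coh.IsCoh (Abelian.image φ) :=
    isCoh_kernel (cokernel.π φ) hG.1 (isCoh_cokernel φ hF.1.1 hG.1).1
  have hfac : Abelian.factorThruImage φ ≫ Abelian.image.ι φ = φ := Abelian.image.fac φ
  have hI0 : ¬ IsZero (Abelian.image φ) := fun hz =>
    hφ (by rw [← hfac, hz.eq_of_tgt (Abelian.factorThruImage φ) 0, Limits.zero_comp])
  obtain ⟨pI, hpI⟩ := exists_thp k ℓ d hL _ hIcoh
  have h1 := t_redLE_of_quot k hL hF (Abelian.factorThruImage φ) hIcoh hpF hpI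
  have h2 := t_redLE_of_sub k hG (Abelian.image.ι φ) hIcoh hI0 hpI hpG
  have aI := t_alpha_pos_of_pure k hL hG.2.2.1 (Abelian.image.ι φ) hIcoh hI0 hpI
  have aF := t_alpha_pos_of_isSemistable k hL hF hpF
  have aG := t_alpha_pos_of_isSemistable k hL hG hpG
  obtain ⟨N1, hN1⟩ := (redLE_iff _ _ _).1 h1
  obtain ⟨N2, hN2⟩ := (redLE_iff _ _ _).1 h2
  obtain ⟨N3, hN3⟩ := (redLT_iff _ _ _).1 hlt
  have e1 := hN1 (max N1 (max N2 N3)) (le_max_left _ _)
  have e2 := hN2 (max N1 (max N2 N3)) ((le_max_left _ _).trans (le_max_right _ _))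
  have e3 := hN3 (max N1 (max N2 N3)) ((le_max_right _ _).trans (le_max_right _ _))
  nlinarith [mul_le_mul_of_nonneg_left e1 aG.le, mul_le_mul_of_nonneg_left e2 aF.le,
    mul_lt_mul_of_pos_left e3 aI]

/-- a nonzero morphism between semistable modules forces `p(source) ≤ p(target)`. -/
theorem redLE_of_nonzero_hom (hL : CohB1.IsAmple L) {M N : X.Modules}
    (hM : TSS k L ℓ M d) (hN : TSS k L ℓ N d) {p p' : ℚ[X]}
    (hp : THP k L ℓ d M p) (hp' : THP k L ℓ d N p') (φ : M ⟶ N)
    (hφ : φ ≠ 0) : StabCat.RedLE d p p' := by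
  rcases redLE_or_redLT d p p' with h | h
  · exact h
  · exact absurd (t_hom_eq_zero k hL hM hN hp hp' h φ) hφ

variable (hL : CohB1.IsAmple L)

include hL in
theorem hn_chain_le (s : LTSeries (Subobject E)) (hs : TIsHN k L ℓ E d s)
    (a b : Fin s.length) (hab : a ≤ b) {pa pb : ℚ[X]}
    (ha : THP k L ℓ d (StabCat.factor s a) pa)
    (hb : THP k L ℓ d (StabCat.factor s b) pb) : StabCat.RedLE d pb pa := by
  have hex : ∀ i : Fin s.length, ∃ P : ℚ[X], THP k L ℓ d (StabCat.factor s i) P :=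
    fun i => exists_thp k ℓ d hL _ (hs.2.2.1 i).1
  choose P hP using hex
  have hpos : ∀ i, 0 < StabCat.alpha d (P i) := fun i =>
    t_alpha_pos_of_isSemistable k hL (hs.2.2.1 i) (hP i)
  have := redLE_of_chain P hpos (fun x y hxy => hs.2.2.2 x y hxy _ _ (hP x) (hP y)) a b hab
  rwa [thp_unique k (hP a) ha, thp_unique k (hP b) hb] at this

include hL in
theorem hn_chain_lt (s : LTSeries (Subobject E)) (hs : TIsHN k L ℓ E d s)
    (a b : Fin s.length) (hab : a < b) {pa pb : ℚ[X]}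
    (ha : THP k L ℓ d (StabCat.factor s a) pa)
    (hb : THP k L ℓ d (StabCat.factor s b) pb) : StabCat.RedLT d pb pa := by
  have hex : ∀ i : Fin s.length, ∃ P : ℚ[X], THP k L ℓ d (StabCat.factor s i) P :=
    fun i => exists_thp k ℓ d hL _ (hs.2.2.1 i).1
  choose P hP using hex
  have hpos : ∀ i, 0 < StabCat.alpha d (P i) := fun i =>
    t_alpha_pos_of_isSemistable k hL (hs.2.2.1 i) (hP i)
  have := redLT_of_chain P hpos (fun x y hxy => hs.2.2.2 x y hxy _ _ (hP x) (hP y)) a b hab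
  rwa [thp_unique k (hP a) ha, thp_unique k (hP b) hb] at this

omit [IsProper (X ↘ Spec (CommRingCat.of k))] in
/-- the comparison index. -/
theorem hn_compare (s s' : LTSeries (Subobject E))
    (hs' : TIsHN k L ℓ E d s')
    (I : Fin s.length) (I' : Fin s'.length) (heq : s I.castSucc = s' I'.castSucc) :
    ∃ J : Fin s'.length, I' ≤ J ∧ s I.succ ≤ s' J.succ ∧
      ∃ φ : StabCat.factor s I ⟶ StabCat.factor s' J, φ ≠ 0 := by
  classical
  let Pr : ℕ → Prop := fun j => ∃ h : j < s'.length + 1, s I.succ ≤ s' ⟨j, h⟩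
  have hex : ∃ j, Pr j := by
    refine ⟨s'.length, Nat.lt_succ_self _, ?_⟩
    have : s' ⟨s'.length, Nat.lt_succ_self _⟩ = ⊤ := hs'.2.1
    rw [this]
    exact le_top
  obtain ⟨hj₀, hle⟩ := Nat.find_spec hex
  have hlow : I'.val < Nat.find hex := by
    by_contra hcon
    push_neg at hcon
    have h1 : s' ⟨Nat.find hex, hj₀⟩ ≤ s' I'.castSucc := s'.monotone (by
      show Nat.find hex ≤ I'.val
      exact hcon)
    have h2 : s I.castSucc < s I.succ := s.step I
    exact absurd (hle.trans (h1.trans heq.ge)) (not_le_of_gt h2)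
  have hJlt : Nat.find hex - 1 < s'.length := by omega
  let J : Fin s'.length := ⟨Nat.find hex - 1, hJlt⟩
  have hJs : J.succ = ⟨Nat.find hex, hj₀⟩ := Fin.ext (by
    show Nat.find hex - 1 + 1 = Nat.find hex
    omega)
  have hSB : s I.succ ≤ s' J.succ := by rw [hJs]; exact hle
  have hn : ¬ s I.succ ≤ s' J.castSucc := by
    intro h
    exact Nat.find_min hex (m := Nat.find hex - 1) (by omega) ⟨by omega, h⟩
  have hIJ : I' ≤ J := by
    show I'.val ≤ Nat.find hex - 1
    omega
  have hAB' : s I.castSucc ≤ s' J.castSucc := by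
    rw [heq]
    exact s'.monotone (by
      show I'.val ≤ Nat.find hex - 1
      omega)
  obtain ⟨φ, hφ⟩ := exists_nonzero_coker_map (le_of_lt (s.step I)) (le_of_lt (s'.step J)) hSB
    hAB' hn
  exact ⟨J, hIJ, hSB, φ, hφ⟩

include hL in
theorem hn_step_le (s s' : LTSeries (Subobject E)) (hs : TIsHN k L ℓ E d s)
    (hs' : TIsHN k L ℓ E d s')
    (I : Fin s.length) (I' : Fin s'.length) (heq : s I.castSucc = s' I'.castSucc)
    {p p' : ℚ[X]} (hp : THP k L ℓ d (StabCat.factor s I) p)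
    (hp' : THP k L ℓ d (StabCat.factor s' I') p') :
    StabCat.RedLE d p p' ∧ (StabCat.RedLE d p' p → s I.succ ≤ s' I'.succ) := by
  obtain ⟨J, hIJ, hSB, φ, hφ⟩ := hn_compare k s s' hs' I I' heq
  obtain ⟨pJ, hpJ⟩ := exists_thp k ℓ d hL _ (hs'.2.2.1 J).1
  have h1 : StabCat.RedLE d p pJ :=
    redLE_of_nonzero_hom k hL (hs.2.2.1 I) (hs'.2.2.1 J) hp hpJ φ hφ
  have a1 := t_alpha_pos_of_isSemistable k hL (hs.2.2.1 I) hp
  have a2 := t_alpha_pos_of_isSemistable k hL (hs'.2.2.1 J) hpJ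
  have a3 := t_alpha_pos_of_isSemistable k hL (hs'.2.2.1 I') hp'
  have h2 : StabCat.RedLE d pJ p' := hn_chain_le k hL s' hs' I' J hIJ hp' hpJ
  refine ⟨redLE_trans a1 a2 a3 h1 h2, fun h3 => ?_⟩
  rcases hIJ.lt_or_eq with hlt | heqJ
  · exfalso
    have h4 : StabCat.RedLT d pJ p' := hn_chain_lt k hL s' hs' I' J hlt hp' hpJ
    have h5 : StabCat.RedLT d p p := redLT_of_le_lt_le a1 a2 a3 a1 h1 h4 h3
    exact not_redLT_of_redLE (redLE_refl d p) h5
  · rw [heqJ]; exact hSB

include hL in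
theorem hn_unique (s s' : LTSeries (Subobject E)) (hs : TIsHN k L ℓ E d s)
    (hs' : TIsHN k L ℓ E d s') : s = s' := by
  have key : ∀ i : ℕ, ∀ (hi : i ≤ s.length) (hi' : i ≤ s'.length),
      s ⟨i, Nat.lt_succ_of_le hi⟩ = s' ⟨i, Nat.lt_succ_of_le hi'⟩ := by
    intro i
    induction i with
    | zero =>
      intro hi hi'
      have h1 : s ⟨0, Nat.lt_succ_of_le hi⟩ = ⊥ := hs.1
      have h2 : s' ⟨0, Nat.lt_succ_of_le hi'⟩ = ⊥ := hs'.1
      rw [h1, h2]
    | succ i ih =>
      intro hi hi'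
      let I : Fin s.length := ⟨i, hi⟩
      let I' : Fin s'.length := ⟨i, hi'⟩
      have heq : s I.castSucc = s' I'.castSucc := ih (Nat.le_of_succ_le hi) (Nat.le_of_succ_le hi')
      obtain ⟨p, hp⟩ := exists_thp k ℓ d hL _ (hs.2.2.1 I).1
      obtain ⟨p', hp'⟩ := exists_thp k ℓ d hL _ (hs'.2.2.1 I').1
      obtain ⟨h1, h2⟩ := hn_step_le k hL s s' hs hs' I I' heq hp hp'
      obtain ⟨h3, h4⟩ := hn_step_le k hL s' s hs' hs I' I heq.symm hp' hp
      exact le_antisymm (h2 h3) (h4 h1)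
  have hlen : s.length = s'.length := by
    rcases lt_trichotomy s.length s'.length with h | h | h
    · exfalso
      have h1 := key s.length le_rfl h.le
      have h2 : s ⟨s.length, Nat.lt_succ_of_le le_rfl⟩ = ⊤ := hs.2.1
      have h3 : s' ⟨s.length, Nat.lt_succ_of_le h.le⟩ < s' ⟨s.length + 1, by omega⟩ :=
        s'.strictMono (by
          show s.length < s.length + 1
          omega)
      rw [← h1, h2] at h3
      exact not_top_lt h3
    · exact h
    · exfalso
      have h1 := key s'.length h.le le_rfl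
      have h2 : s' ⟨s'.length, Nat.lt_succ_of_le le_rfl⟩ = ⊤ := hs'.2.1
      have h3 : s ⟨s'.length, Nat.lt_succ_of_le h.le⟩ < s ⟨s'.length + 1, by omega⟩ :=
        s.strictMono (by
          show s'.length < s'.length + 1
          omega)
      rw [h1, h2] at h3
      exact not_top_lt h3
  refine RelSeries.ext hlen (funext fun i => ?_)
  exact key i.val (Nat.le_of_lt_succ i.isLt) (by have := i.isLt; omega)

end Groth.Agent.Lib.Helper23.HilbT
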