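import Mathlib
import Groth.Prelude
import Groth.Agent.Lib.Helper23.HilbTF

/-!
# Slope (semi)stability as truncated (semi)stability with `ℓ = 1` (helper23)
-/

set_option autoImplicit false
set_option linter.unusedSectionVars false
set_option linter.style.haveILetI false
universe u
open CategoryTheory CategoryTheory.Limits AlgebraicGeometry Polynomial

noncomputable section

namespace Groth.Agent.Lib.Helper23.HilbT

open Groth.Agent.Lib.Helper17 Groth.Agent.Lib.Helper17.DevBasic Groth.Agent.Lib.Helper23.HilbP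

section Poly

lemma eval_topPart_one {n : ℕ} (hn : 1 ≤ n) (P : ℚ[X]) (x : ℚ) :
    (StabCat.topPart 1 n P).eval x = P.coeff n * x ^ n + P.coeff (n - 1) * x ^ (n - 1) := by
  unfold StabCat.topPart
  have h : Finset.Icc (n - 1) n = {n - 1, n} := by
    ext a
    simp only [Finset.mem_Icc, Finset.mem_insert, Finset.mem_singleton]
    omega
  rw [h, Finset.sum_pair (by omega)]
  simp only [eval_add, eval_monomial]
  ring

lemma red_topPart_one_key {n : ℕ} (hn : 1 ≤ n) (P Q : ℚ[X]) (m : ℚ) :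
    StabCat.alpha n Q * (StabCat.topPart 1 n P).eval m -
      StabCat.alpha n P * (StabCat.topPart 1 n Q).eval m =
      (n.factorial : ℚ) * (Q.coeff n * P.coeff (n - 1) - P.coeff n * Q.coeff (n - 1)) *
        m ^ (n - 1) := by
  rw [eval_topPart_one hn, eval_topPart_one hn]
  unfold StabCat.alpha
  ring

lemma hatSlope_le_iff {n : ℕ} (P Q : ℚ[X]) (aP : 0 < StabCat.alpha n P)
    (aQ : 0 < StabCat.alpha n Q) :
    StabCat.hatSlope n P ≤ StabCat.hatSlope n Q ↔
      Q.coeff n * P.coeff (n - 1) - P.coeff n * Q.coeff (n - 1) ≤ 0 := by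
  unfold StabCat.hatSlope
  rw [div_le_div_iff₀ aP aQ]
  unfold StabCat.alpha at *
  have h1 : (0 : ℚ) < ((n - 1).factorial : ℚ) := by exact_mod_cast Nat.factorial_pos _
  have h2 : (0 : ℚ) < (n.factorial : ℚ) := by exact_mod_cast Nat.factorial_pos _
  have h3 : (0 : ℚ) < ((n - 1).factorial : ℚ) * (n.factorial : ℚ) := mul_pos h1 h2
  constructor
  · intro h
    have : ((n - 1).factorial : ℚ) * (n.factorial : ℚ) *
        (Q.coeff n * P.coeff (n - 1) - P.coeff n * Q.coeff (n - 1)) ≤ 0 := by nlinarith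
    by_contra hcon
    push_neg at hcon
    have := mul_pos h3 hcon
    linarith
  · intro h
    have : ((n - 1).factorial : ℚ) * (n.factorial : ℚ) *
        (Q.coeff n * P.coeff (n - 1) - P.coeff n * Q.coeff (n - 1)) ≤ 0 :=
      mul_nonpos_of_nonneg_of_nonpos h3.le h
    nlinarith

lemma hatSlope_lt_iff {n : ℕ} (P Q : ℚ[X]) (aP : 0 < StabCat.alpha n P)
    (aQ : 0 < StabCat.alpha n Q) :
    StabCat.hatSlope n P < StabCat.hatSlope n Q ↔
      Q.coeff n * P.coeff (n - 1) - P.coeff n * Q.coeff (n - 1) < 0 := by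
  unfold StabCat.hatSlope
  rw [div_lt_div_iff₀ aP aQ]
  unfold StabCat.alpha at *
  have h1 : (0 : ℚ) < ((n - 1).factorial : ℚ) := by exact_mod_cast Nat.factorial_pos _
  have h2 : (0 : ℚ) < (n.factorial : ℚ) := by exact_mod_cast Nat.factorial_pos _
  have h3 : (0 : ℚ) < ((n - 1).factorial : ℚ) * (n.factorial : ℚ) := mul_pos h1 h2
  constructor
  · intro h
    have : ((n - 1).factorial : ℚ) * (n.factorial : ℚ) *
        (Q.coeff n * P.coeff (n - 1) - P.coeff n * Q.coeff (n - 1)) < 0 := by nlinarith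
    by_contra hcon
    push_neg at hcon
    have := mul_nonneg h3.le hcon
    linarith
  · intro h
    have : ((n - 1).factorial : ℚ) * (n.factorial : ℚ) *
        (Q.coeff n * P.coeff (n - 1) - P.coeff n * Q.coeff (n - 1)) < 0 :=
      mul_neg_of_pos_of_neg h3 h
    nlinarith

lemma redLE_topPart_one_iff {n : ℕ} (hn : 1 ≤ n) (P Q : ℚ[X]) (aP : 0 < StabCat.alpha n P)
    (aQ : 0 < StabCat.alpha n Q) :
    StabCat.RedLE n (StabCat.topPart 1 n P) (StabCat.topPart 1 n Q) ↔
      StabCat.hatSlope n P ≤ StabCat.hatSlope n Q := by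
  rw [hatSlope_le_iff P Q aP aQ, redLE_iff, alpha_topPart, alpha_topPart]
  have h2 : (0 : ℚ) < (n.factorial : ℚ) := by exact_mod_cast Nat.factorial_pos _
  constructor
  · rintro ⟨N, hN⟩
    have h := hN (max N 1) (le_max_left _ _)
    have key := red_topPart_one_key hn P Q ((max N 1 : ℕ) : ℚ)
    have hm : (0 : ℚ) < ((max N 1 : ℕ) : ℚ) ^ (n - 1) := by
      apply pow_pos
      exact_mod_cast lt_of_lt_of_le Nat.zero_lt_one (le_max_right N 1)
    by_contra hcon
    push_neg at hcon
    have := mul_pos (mul_pos h2 hcon) hm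
    linarith
  · intro h
    refine ⟨0, fun m _ => ?_⟩
    have key := red_topPart_one_key hn P Q (m : ℚ)
    have hm : (0 : ℚ) ≤ (m : ℚ) ^ (n - 1) := pow_nonneg (Nat.cast_nonneg m) _
    have : (n.factorial : ℚ) * (Q.coeff n * P.coeff (n - 1) - P.coeff n * Q.coeff (n - 1)) *
        (m : ℚ) ^ (n - 1) ≤ 0 :=
      mul_nonpos_of_nonpos_of_nonneg (mul_nonpos_of_nonneg_of_nonpos h2.le h) hm
    linarith

lemma redLT_topPart_one_iff {n : ℕ} (hn : 1 ≤ n) (P Q : ℚ[X]) (aP : 0 < StabCat.alpha n P)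
    (aQ : 0 < StabCat.alpha n Q) :
    StabCat.RedLT n (StabCat.topPart 1 n P) (StabCat.topPart 1 n Q) ↔
      StabCat.hatSlope n P < StabCat.hatSlope n Q := by
  rw [hatSlope_lt_iff P Q aP aQ, redLT_iff, alpha_topPart, alpha_topPart]
  have h2 : (0 : ℚ) < (n.factorial : ℚ) := by exact_mod_cast Nat.factorial_pos _
  constructor
  · rintro ⟨N, hN⟩
    have h := hN (max N 1) (le_max_left _ _)
    have key := red_topPart_one_key hn P Q ((max N 1 : ℕ) : ℚ)
    have hm : (0 : ℚ) < ((max N 1 : ℕ) : ℚ) ^ (n - 1) := by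
      apply pow_pos
      exact_mod_cast lt_of_lt_of_le Nat.zero_lt_one (le_max_right N 1)
    by_contra hcon
    push_neg at hcon
    have := mul_nonneg (mul_nonneg h2.le hcon) hm.le
    linarith
  · intro h
    refine ⟨1, fun m hm1 => ?_⟩
    have key := red_topPart_one_key hn P Q (m : ℚ)
    have hm : (0 : ℚ) < (m : ℚ) ^ (n - 1) := by
      apply pow_pos
      exact_mod_cast lt_of_lt_of_le Nat.zero_lt_one hm1
    have : (n.factorial : ℚ) * (Q.coeff n * P.coeff (n - 1) - P.coeff n * Q.coeff (n - 1)) *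
        (m : ℚ) ^ (n - 1) < 0 :=
      mul_neg_of_neg_of_pos (mul_neg_of_pos_of_neg h2 h) hm
    linarith

end Poly

end Groth.Agent.Lib.Helper23.HilbT
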