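import Mathlib
import Groth.Prelude
import Groth.Agent.Lib.Helper23.HilbTG

/-!
# Slope Harder–Narasimhan filtrations (helper23)
-/

set_option autoImplicit false
set_option linter.unusedSectionVars false
set_option linter.style.haveILetI false
universe u
open CategoryTheory CategoryTheory.Limits AlgebraicGeometry Polynomial

noncomputable section

namespace Groth.Agent.Lib.Helper23.HilbT

open Groth.Agent.Lib.Helper17 Groth.Agent.Lib.Helper17.DevBasic Groth.Agent.Lib.Helper23.HilbP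

variable (k : Type u) [Field k] {X : Scheme.{u}} [X.Over (Spec (CommRingCat.of k))]
  [IsProper (X ↘ Spec (CommRingCat.of k))] {L : X.Modules} {n : ℕ}

theorem isMuSemistable_of_tss (hL : CohB1.IsAmple L) (hn : 1 ≤ n) {M : X.Modules}
    (h : TSS k L 1 M n) : ShStab.IsMuSemistable k X L M n := by
  refine ⟨h.1, h.2.1, h.2.2.1 M (𝟙 M) inferInstance h.1 h.2.1, ?_, ?_⟩
  · intro F ι hι hF
    by_cases hz : IsZero F
    · rw [support_eq_empty_of_isZero hz, topologicalKrullDim_empty]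
      simp
    · rw [h.2.2.1 F ι hι hF hz]
      intro hcon
      have : ((n + 1 : ℕ) : WithBot ℕ∞) = (n : WithBot ℕ∞) := by
        rw [← hcon]; push_cast; rfl
      have h2 : n + 1 = n := by exact_mod_cast this
      omega
  · intro F ι hι hF pF pE hpF hpE a0 a1
    haveI := hι
    have hz : ¬ IsZero F := fun hz => by
      have : pF = 0 := isHilbPoly_unique k hpF (isHilbPoly_zero k hz)
      rw [this, alpha_zero] at a0
      exact lt_irrefl _ a0
    have hiso : ¬ IsIso ι := fun hiso => by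
      have : pF = pE := isHilbPoly_unique k (isHilbPoly_of_iso k (asIso ι) hpF) hpE
      rw [this] at a1
      exact lt_irrefl _ a1
    have := h.2.2.2 F ι hι hF hz hiso _ _ ⟨pF, hpF, rfl⟩ ⟨pE, hpE, rfl⟩
    exact (redLE_topPart_one_iff hn pF pE a0 (a0.trans a1)).1 this

theorem tss_of_isMuSemistable (hL : CohB1.IsAmple L) (hn : 1 ≤ n) {M : X.Modules}
    (hp : ShStab.IsPure X M n) (h : ShStab.IsMuSemistable k X L M n) : TSS k L 1 M n := by
  haveI := isNoetherian_of_isProper k X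
  refine ⟨h.1, h.2.1, hp, ?_⟩
  intro F ι hι hF hz hiso pF' pE' hpF' hpE'
  haveI := hι
  obtain ⟨PF, hPF, rfl⟩ := hpF'
  obtain ⟨PE, hPE, rfl⟩ := hpE'
  have aF : 0 < StabCat.alpha n PF := alpha_pos_of_pure k hL hp ι hF hz hPF
  have hC : Coh.IsCoh (cokernel ι) := isCoh_cokernel ι hF.1 h.1
  have hPC : ShStab.IsHilbPoly k X L (cokernel ι) (PE - PF) :=
    isHilbPoly_X₃ k hL.1 _ (DevKey.shortExact_of_mono ι) hF h.1 hC hPF hPE
  have hdC : topologicalKrullDim (CohB1.support (cokernel ι)) ≤ (n : WithBot ℕ∞) := by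
    rw [← hp M (𝟙 M) inferInstance h.1 h.2.1]
    exact topologicalKrullDim_mono (support_subset_of_epi (cokernel.π ι))
  have aC : 0 ≤ StabCat.alpha n (PE - PF) := alpha_nonneg_of_dim_le k hL _ hC hPC n hdC
  rw [alpha_sub] at aC
  rcases (sub_nonneg.1 aC).lt_or_eq with hlt | heq
  · have := h.2.2.2.2 F ι hι hF PF PE hPF hPE aF hlt
    exact (redLE_topPart_one_iff hn PF PE aF (aF.trans hlt)).2 this
  · obtain ⟨N, hN⟩ := thp_eventually_nonneg k hL _ hC
      (⟨PE - PF, hPC, rfl⟩ : THP k L 1 n _ _) hdC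
    rw [redLE_iff, alpha_topPart, alpha_topPart, ← heq]
    refine ⟨N, fun m hm => ?_⟩
    have := hN m hm
    rw [topPart_sub, eval_sub] at this
    exact mul_le_mul_of_nonneg_left (by linarith) aF.le

variable {E : X.Modules}

theorem tIsHN_iff (hL : CohB1.IsAmple L) (hn : 1 ≤ n) (s : LTSeries (Subobject E)) :
    TIsHN k L 1 E n s ↔
      (s.head = ⊥ ∧ s.last = ⊤ ∧
      (∀ i : Fin s.length,
        ShStab.IsPure X (StabCat.factor s i) n ∧
          ShStab.IsMuSemistable k X L (StabCat.factor s i) n) ∧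
      ∀ (i j : Fin s.length), i.val + 1 = j.val →
        ∀ (p q : ℚ[X]), ShStab.IsHilbPoly k X L (StabCat.factor s i) p →
          ShStab.IsHilbPoly k X L (StabCat.factor s j) q →
          StabCat.hatSlope n q < StabCat.hatSlope n p) := by
  constructor
  · rintro ⟨h1, h2, h3, h4⟩
    refine ⟨h1, h2, fun i => ⟨(h3 i).2.2.1, isMuSemistable_of_tss k hL hn (h3 i)⟩, ?_⟩
    intro i j hij p q hp hq
    have ap : 0 < StabCat.alpha n p :=
      alpha_pos_of_pure k hL (h3 i).2.2.1 (𝟙 _) (h3 i).1 (h3 i).2.1 hp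
    have aq : 0 < StabCat.alpha n q :=
      alpha_pos_of_pure k hL (h3 j).2.2.1 (𝟙 _) (h3 j).1 (h3 j).2.1 hq
    exact (redLT_topPart_one_iff hn q p aq ap).1 (h4 i j hij _ _ ⟨p, hp, rfl⟩ ⟨q, hq, rfl⟩)
  · rintro ⟨h1, h2, h3, h4⟩
    refine ⟨h1, h2, fun i => tss_of_isMuSemistable k hL hn (h3 i).1 (h3 i).2, ?_⟩
    intro i j hij p' q' hp' hq'
    obtain ⟨p, hp, rfl⟩ := hp'
    obtain ⟨q, hq, rfl⟩ := hq'
    have ap : 0 < StabCat.alpha n p :=
      alpha_pos_of_pure k hL (h3 i).1 (𝟙 _) (h3 i).2.1 (h3 i).2.2.1 hp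
    have aq : 0 < StabCat.alpha n q :=
      alpha_pos_of_pure k hL (h3 j).1 (𝟙 _) (h3 j).2.1 (h3 j).2.2.1 hq
    exact (redLT_topPart_one_iff hn q p aq ap).2 (h4 i j hij p q hp hq)

/-- **slope Harder–Narasimhan filtration**: existence and uniqueness. -/
theorem existsUnique_muHN (hL : CohB1.IsAmple L) (hn : 1 ≤ n) (F : X.Modules)
    (hF : Coh.IsCoh F) (h0 : ¬ IsZero F) (htf : ShStab.IsPure X F n) :
    ∃! s : LTSeries (Subobject F),
      s.head = ⊥ ∧ s.last = ⊤ ∧
      (∀ i : Fin s.length,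
        ShStab.IsPure X (StabCat.factor s i) n ∧
          ShStab.IsMuSemistable k X L (StabCat.factor s i) n) ∧
      ∀ (i j : Fin s.length), i.val + 1 = j.val →
        ∀ (p q : ℚ[X]), ShStab.IsHilbPoly k X L (StabCat.factor s i) p →
          ShStab.IsHilbPoly k X L (StabCat.factor s j) q →
          StabCat.hatSlope n q < StabCat.hatSlope n p := by
  obtain ⟨pE, hpE⟩ := exists_thp k 1 n hL F hF
  obtain ⟨m, -, hm⟩ := t_exists_nat_alpha_of_pure k hL htf (𝟙 F) hF h0 hpE
  obtain ⟨s, hs⟩ := exists_isHNFiltration k 1 hL m F hF h0 htf pE hpE hm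
  exact ⟨s, (tIsHN_iff k hL hn s).1 hs, fun s' hs' =>
    hn_unique k hL s' s ((tIsHN_iff k hL hn s').2 hs') hs⟩

end Groth.Agent.Lib.Helper23.HilbT
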