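import Mathlib
import Groth.Prelude
import Groth.Agent.Lib.Helper23.HilbTH

/-!
# Quotients of a module with a truncated Harder–Narasimhan filtration (helper23)
-/

set_option autoImplicit false
set_option linter.unusedSectionVars false
set_option linter.style.haveILetI false
universe u
open CategoryTheory CategoryTheory.Limits AlgebraicGeometry Polynomial

noncomputable section

namespace Groth.Agent.Lib.Helper23.HilbT

open Groth.Agent.Lib.Helper17 Groth.Agent.Lib.Helper17.DevBasic Groth.Agent.Lib.Helper23.HilbP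

section Poly

lemma redLE_trans' {d : ℕ} {P Q R : ℚ[X]} (aP : 0 ≤ StabCat.alpha d P)
    (aQ : 0 < StabCat.alpha d Q) (aR : 0 ≤ StabCat.alpha d R)
    (h1 : StabCat.RedLE d P Q) (h2 : StabCat.RedLE d Q R) : StabCat.RedLE d P R := by
  obtain ⟨N1, hN1⟩ := (redLE_iff _ _ _).1 h1
  obtain ⟨N2, hN2⟩ := (redLE_iff _ _ _).1 h2
  refine (redLE_iff _ _ _).2 ⟨max N1 N2, fun m hm => ?_⟩
  have e1 := hN1 m ((le_max_left _ _).trans hm)
  have e2 := hN2 m ((le_max_right _ _).trans hm)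
  have f1 := mul_le_mul_of_nonneg_left e1 aR
  have f2 := mul_le_mul_of_nonneg_left e2 aP
  have f3 : StabCat.alpha d Q * (StabCat.alpha d R * P.eval (m : ℚ)) ≤
      StabCat.alpha d Q * (StabCat.alpha d P * R.eval (m : ℚ)) := by nlinarith
  exact le_of_mul_le_mul_left f3 aQ

lemma redLE_add_right {d : ℕ} {P Q R : ℚ[X]} (h1 : StabCat.RedLE d P Q)
    (h2 : StabCat.RedLE d P R) : StabCat.RedLE d P (Q + R) := by
  obtain ⟨N1, hN1⟩ := (redLE_iff _ _ _).1 h1
  obtain ⟨N2, hN2⟩ := (redLE_iff _ _ _).1 h2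
  refine (redLE_iff _ _ _).2 ⟨max N1 N2, fun m hm => ?_⟩
  have e1 := hN1 m ((le_max_left _ _).trans hm)
  have e2 := hN2 m ((le_max_right _ _).trans hm)
  rw [alpha_add, eval_add]
  linarith

end Poly

variable (k : Type u) [Field k] {X : Scheme.{u}} [X.Over (Spec (CommRingCat.of k))]
  [IsProper (X ↘ Spec (CommRingCat.of k))] {L : X.Modules} {ℓ d : ℕ}

theorem tss_of_isEllSemistable (hL : CohB1.IsAmple L) {M : X.Modules}
    (h : ShStab.IsEllSemistable k X L M d ℓ) : TSS k L ℓ M d := by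
  haveI := isNoetherian_of_isProper k X
  have hp := h.2.2.1
  refine ⟨h.1, h.2.1, hp, ?_⟩
  intro F ι hι hF hz hiso pF' pE' hpF' hpE'
  haveI := hι
  obtain ⟨PF, hPF, rfl⟩ := hpF'
  obtain ⟨PE, hPE, rfl⟩ := hpE'
  have aF : 0 < StabCat.alpha d PF := alpha_pos_of_pure k hL hp ι hF hz hPF
  have hC : Coh.IsCoh (cokernel ι) := isCoh_cokernel ι hF.1 h.1
  have hPC : ShStab.IsHilbPoly k X L (cokernel ι) (PE - PF) :=
    isHilbPoly_X₃ k hL.1 _ (DevKey.shortExact_of_mono ι) hF h.1 hC hPF hPE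
  have hdC : topologicalKrullDim (CohB1.support (cokernel ι)) ≤ (d : WithBot ℕ∞) := by
    rw [← hp M (𝟙 M) inferInstance h.1 h.2.1]
    exact topologicalKrullDim_mono (support_subset_of_epi (cokernel.π ι))
  have aC : 0 ≤ StabCat.alpha d (PE - PF) := alpha_nonneg_of_dim_le k hL _ hC hPC d hdC
  rw [alpha_sub] at aC
  rcases (sub_nonneg.1 aC).lt_or_eq with hlt | heq
  · exact h.2.2.2 F ι hι hF PF PE hPF hPE aF hlt
  · obtain ⟨N, hN⟩ := thp_eventually_nonneg k hL _ hC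
      (⟨PE - PF, hPC, rfl⟩ : THP k L ℓ d _ _) hdC
    rw [redLE_iff, alpha_topPart, alpha_topPart, ← heq]
    refine ⟨N, fun m hm => ?_⟩
    have := hN m hm
    rw [topPart_sub, eval_sub] at this
    exact mul_le_mul_of_nonneg_left (by linarith) aF.le

/-- every coherent quotient of `M` has reduced truncated polynomial at least `p₀`
(cross-multiplied, so quotients of smaller dimension are allowed). -/
def QuotLE (L : X.Modules) (ℓ d : ℕ) (p₀ : ℚ[X]) (M : X.Modules) : Prop :=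
  ∀ (Q : X.Modules) (π : M ⟶ Q), Epi π → Coh.IsCoh Q → ∀ pQ : ℚ[X], THP k L ℓ d Q pQ →
    StabCat.RedLE d p₀ pQ

variable {p₀ : ℚ[X]}

omit [IsProper (X ↘ Spec (CommRingCat.of k))] in
lemma quotLE_of_iso {M N : X.Modules} (e : M ≅ N) (h : QuotLE k L ℓ d p₀ M) :
    QuotLE k L ℓ d p₀ N := by
  intro Q π hπ hQ pQ hpQ
  haveI := hπ
  exact h Q (e.hom ≫ π) inferInstance hQ pQ hpQ

omit [IsProper (X ↘ Spec (CommRingCat.of k))] in
lemma quotLE_of_isZero {M : X.Modules} (hM : IsZero M) : QuotLE k L ℓ d p₀ M := by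
  intro Q π hπ hQ pQ hpQ
  haveI := hπ
  have hQz : IsZero Q := IsZero.of_epi_eq_zero π (hM.eq_of_src _ _)
  have : pQ = 0 := thp_unique k hpQ (thp_zero k hQz)
  rw [this, redLE_iff]
  exact ⟨0, fun m _ => by simp [alpha_zero]⟩

theorem quotLE_of_tss (hL : CohB1.IsAmple L) (a0 : 0 ≤ StabCat.alpha d p₀) {M : X.Modules}
    (hM : TSS k L ℓ M d) {pM : ℚ[X]} (hpM : THP k L ℓ d M pM) (h : StabCat.RedLE d p₀ pM) :
    QuotLE k L ℓ d p₀ M := by
  intro Q π hπ hQ pQ hpQ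
  haveI := hπ
  have h1 := t_redLE_of_quot k hL hM π hQ hpM hpQ
  have hdQ : topologicalKrullDim (CohB1.support Q) ≤ (d : WithBot ℕ∞) := by
    rw [← hM.2.2.1 M (𝟙 M) inferInstance hM.1 hM.2.1]
    exact topologicalKrullDim_mono (support_subset_of_epi π)
  have aQ := t_alpha_nonneg_of_dim_le k hL Q hQ hpQ hdQ
  exact redLE_trans' a0 (t_alpha_pos_of_isSemistable k hL hM hpM) aQ h h1

theorem quotLE_of_shortExact (hL : CohB1.IsAmple L) (S : ShortComplex X.Modules)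
    (hS : S.ShortExact) (c1 : Coh.IsCoh S.X₁)
    (h1 : QuotLE k L ℓ d p₀ S.X₁) (h3 : QuotLE k L ℓ d p₀ S.X₃) : QuotLE k L ℓ d p₀ S.X₂ := by
  haveI := isNoetherian_of_isProper k X
  intro Q π hπ hQ pQ hpQ
  haveI := hπ
  haveI := hS.epi_g
  let φ : S.X₁ ⟶ Q := S.f ≫ π
  have hA : Coh.IsCoh (Abelian.image φ) :=
    isCoh_kernel (cokernel.π φ) hQ (isCoh_cokernel φ c1.1 hQ).1
  have hC : Coh.IsCoh (cokernel (Abelian.image.ι φ)) := isCoh_cokernel _ hA.1 hQ
  have hk : S.f ≫ (π ≫ cokernel.π (Abelian.image.ι φ)) = 0 := by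
    rw [← Category.assoc]
    show φ ≫ cokernel.π (Abelian.image.ι φ) = 0
    have e : φ ≫ cokernel.π (Abelian.image.ι φ) =
        Abelian.factorThruImage φ ≫ (Abelian.image.ι φ ≫ cokernel.π (Abelian.image.ι φ)) := by
      rw [← Category.assoc, Abelian.image.fac]
    rw [e, cokernel.condition, Limits.comp_zero]
  let g' : S.X₃ ⟶ cokernel (Abelian.image.ι φ) := hS.exact.desc _ hk
  have hg' : S.g ≫ g' = π ≫ cokernel.π (Abelian.image.ι φ) := hS.exact.g_desc _ hk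
  haveI : Epi g' := epi_of_epi_fac hg'
  obtain ⟨pA, hpA⟩ := exists_thp k ℓ d hL _ hA
  obtain ⟨pC, hpC⟩ := exists_thp k ℓ d hL _ hC
  have hsum : THP k L ℓ d Q (pA + pC) :=
    thp_add k hL.1 _ (DevKey.shortExact_of_mono (Abelian.image.ι φ)) hA hQ hC hpA hpC
  have e1 := h1 _ (Abelian.factorThruImage φ) inferInstance hA pA hpA
  have e3 := h3 _ g' inferInstance hC pC hpC
  rw [thp_unique k hpQ hsum]
  exact redLE_add_right e1 e3

end Groth.Agent.Lib.Helper23.HilbT
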