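import Mathlib
import Groth.Prelude
import Groth.Agent.Lib.Helper23.HilbTI

/-!
# The last factor of a truncated Harder–Narasimhan filtration is the minimal destabilising
quotient (helper23)
-/

set_option autoImplicit false
set_option linter.unusedSectionVars false
set_option linter.style.haveILetI false
universe u
open CategoryTheory CategoryTheory.Limits AlgebraicGeometry Polynomial

noncomputable section

namespace Groth.Agent.Lib.Helper23.HilbT

open Groth.Agent.Lib.Helper17 Groth.Agent.Lib.Helper17.DevBasic Groth.Agent.Lib.Helper23.HilbP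

variable (k : Type u) [Field k] {X : Scheme.{u}} [X.Over (Spec (CommRingCat.of k))]
  [IsProper (X ↘ Spec (CommRingCat.of k))] {L : X.Modules} {ℓ d : ℕ} {E : X.Modules}

omit [IsProper (X ↘ Spec (CommRingCat.of k))] in
lemma quotLE_of_epi {p₀ : ℚ[X]} {M N : X.Modules} (q : M ⟶ N) [Epi q]
    (h : QuotLE k L ℓ d p₀ M) : QuotLE k L ℓ d p₀ N := by
  intro Q π hπ hQ pQ hpQ
  haveI := hπ
  exact h Q (q ≫ π) inferInstance hQ pQ hpQ

theorem quotLE_of_isHN (hL : CohB1.IsAmple L) {p₀ : ℚ[X]} (a0 : 0 ≤ StabCat.alpha d p₀)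
    (s : LTSeries (Subobject E)) (hs : TIsHN k L ℓ E d s)
    (hp0 : ∀ (j : Fin s.length) (pj : ℚ[X]), THP k L ℓ d (StabCat.factor s j) pj →
      StabCat.RedLE d p₀ pj) : QuotLE k L ℓ d p₀ E := by
  haveI := isNoetherian_of_isProper k X
  have key : ∀ i : Fin (s.length + 1), Coh.IsCoh (s i : X.Modules) ∧
      QuotLE k L ℓ d p₀ (s i : X.Modules) := by
    intro i
    induction i using Fin.induction with
    | zero =>
      have h0 : s 0 = ⊥ := hs.1
      rw [h0]
      have hz : IsZero ((⊥ : Subobject E) : X.Modules) :=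
        IsZero.of_iso (isZero_zero _) Subobject.botCoeIsoZero
      exact ⟨isCoh_of_isZero hz, quotLE_of_isZero k hz⟩
    | succ i ih =>
      have hSE := DevKey.shortExact_of_mono
        (Subobject.ofLE (s i.castSucc) (s i.succ) (le_of_lt (s.step i)))
      have hss := hs.2.2.1 i
      obtain ⟨pj, hpj⟩ := exists_thp k ℓ d hL _ hss.1
      have h3 : QuotLE k L ℓ d p₀ (StabCat.factor s i) :=
        quotLE_of_tss k hL a0 hss hpj (hp0 i pj hpj)
      exact ⟨Groth.Agent.Lib.Helper1.PushCoh.isCoh_of_shortExact _ hSE ih.1 hss.1,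
        quotLE_of_shortExact k hL _ hSE ih.1 ih.2 h3⟩
  have hlast := (key (Fin.last _)).2
  have h1 : s (Fin.last _) = ⊤ := hs.2.1
  rw [h1] at hlast
  exact quotLE_of_iso k (asIso (⊤ : Subobject E).arrow) hlast

theorem tss_of_quotLE (hL : CohB1.IsAmple L) {G : X.Modules} (hG : Coh.IsCoh G)
    (hG0 : ¬ IsZero G) (hGp : ShStab.IsPure X G d) {pG : ℚ[X]} (hpG : THP k L ℓ d G pG)
    (hq : QuotLE k L ℓ d pG G) : TSS k L ℓ G d := by
  haveI := isNoetherian_of_isProper k X
  refine ⟨hG, hG0, hGp, ?_⟩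
  intro H ι hι hH hH0 _ pH pG' hpH hpG'
  haveI := hι
  rw [thp_unique k hpG' hpG]
  have hR : Coh.IsCoh (cokernel ι) := isCoh_cokernel ι hH.1 hG
  have hpR : THP k L ℓ d (cokernel ι) (pG - pH) :=
    thp_X₃ k hL.1 _ (DevKey.shortExact_of_mono ι) hH hG hR hpH hpG
  have h := hq _ (cokernel.π ι) inferInstance hR _ hpR
  obtain ⟨N, hN⟩ := (redLE_iff _ _ _).1 h
  refine (redLE_iff _ _ _).2 ⟨N, fun m hm => ?_⟩
  have := hN m hm
  rw [alpha_sub, eval_sub] at this
  linarith

theorem arrow_comp_eq_zero (hL : CohB1.IsAmple L) (s : LTSeries (Subobject E))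
    (hs : TIsHN k L ℓ E d s) {G : X.Modules} (hG : TSS k L ℓ G d) {pG : ℚ[X]}
    (hpG : THP k L ℓ d G pG) (q : E ⟶ G) (i : Fin (s.length + 1))
    (hlt : ∀ j : Fin s.length, j.castSucc < i → ∀ pj : ℚ[X],
      THP k L ℓ d (StabCat.factor s j) pj → StabCat.RedLT d pG pj) :
    (s i).arrow ≫ q = 0 := by
  induction i using Fin.induction with
  | zero =>
    have h0 : s 0 = ⊥ := hs.1
    have : ∀ T : Subobject E, T = ⊥ → T.arrow ≫ q = 0 := by
      rintro T rfl
      rw [Subobject.bot_arrow, Limits.zero_comp]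
    exact this _ h0
  | succ i ih =>
    have ih' := ih (fun j hj pj hpj => hlt j (hj.trans (Fin.castSucc_lt_succ)) pj hpj)
    have hz : Subobject.ofLE (s i.castSucc) (s i.succ) (le_of_lt (s.step i)) ≫
        ((s i.succ).arrow ≫ q) = 0 := by
      rw [← Category.assoc, Subobject.ofLE_arrow (le_of_lt (s.step i)), ih']
    let ψ : StabCat.factor s i ⟶ G := cokernel.desc _ _ hz
    have hψ : cokernel.π _ ≫ ψ = (s i.succ).arrow ≫ q := cokernel.π_desc _ _ hz
    have hss := hs.2.2.1 i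
    obtain ⟨pj, hpj⟩ := exists_thp k ℓ d hL _ hss.1
    have h0 : ψ = 0 := t_hom_eq_zero k hL hss hG hpj hpG
      (hlt i Fin.castSucc_lt_succ pj hpj) ψ
    have e := hψ
    rw [h0] at e
    exact e.symm.trans Limits.comp_zero

end Groth.Agent.Lib.Helper23.HilbT
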