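import Mathlib
import Groth.Prelude
import Groth.Agent.Lib.Helper23.HilbTJ

/-!
# The last truncated Harder–Narasimhan factor as a quotient is determined by its invariants
(helper23)
-/

set_option autoImplicit false
set_option linter.unusedSectionVars false
set_option linter.style.haveILetI false
universe u
open CategoryTheory CategoryTheory.Limits AlgebraicGeometry Polynomial

noncomputable section

namespace Groth.Agent.Lib.Helper23.HilbT

open Groth.Agent.Lib.Helper17 Groth.Agent.Lib.Helper17.DevBasic Groth.Agent.Lib.Helper23.HilbP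

variable (k : Type u) [Field k] {X : Scheme.{u}} [X.Over (Spec (CommRingCat.of k))]
  [IsProper (X ↘ Spec (CommRingCat.of k))] {L : X.Modules} {ℓ d : ℕ} {E : X.Modules}

/-- `E/K ≅ ⊤/K`. -/
def cokerTopIso (K : Subobject E) :
    cokernel (Subobject.ofLE K ⊤ le_top) ≅ cokernel K.arrow :=
  (cokernelCompIsIso (Subobject.ofLE K ⊤ le_top) (⊤ : Subobject E).arrow).symm ≪≫
    cokernelIsoOfEq (Subobject.ofLE_arrow le_top)

theorem exists_iso_lastFactor (hL : CohB1.IsAmple L) (hE : Coh.IsCoh E) (h0 : ¬ IsZero E)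
    (s : LTSeries (Subobject E)) (hs : TIsHN k L ℓ E d s)
    (G : X.Modules) (q : E ⟶ G) [Epi q] (hG : Coh.IsCoh G) (hG0 : ¬ IsZero G)
    (hGp : ShStab.IsPure X G d) (pF pG : ℚ[X])
    (hpF : ShStab.IsHilbPoly k X L (cokernel s.eraseLast.last.arrow) pF)
    (hpG : ShStab.IsHilbPoly k X L G pG)
    (hα : StabCat.alpha d pF = StabCat.alpha d pG)
    (hred : StabCat.RedEq d (StabCat.topPart ℓ d pF) (StabCat.topPart ℓ d pG)) :
    ∃ φ : (cokernel s.eraseLast.last.arrow) ≅ G,
      cokernel.π s.eraseLast.last.arrow ≫ φ.hom = q := by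
  haveI := isNoetherian_of_isProper k X
  have hm : 0 < s.length := by
    by_contra hcon
    have h00 : s.length = 0 := by omega
    have hhl : s.head = s.last := by
      show s 0 = s (Fin.last _)
      congr 1
      ext
      simp [h00]
    have hbt : (⊥ : Subobject E) = ⊤ := by rw [← hs.1, ← hs.2.1, hhl]
    apply h0
    have hz : IsZero ((⊤ : Subobject E) : X.Modules) := by
      rw [← hbt]
      exact IsZero.of_iso (isZero_zero _) Subobject.botCoeIsoZero
    exact IsZero.of_iso hz (asIso (⊤ : Subobject E).arrow).symm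
  let J : Fin s.length := ⟨s.length - 1, by omega⟩
  have hK : s.eraseLast.last = s J.castSucc := rfl
  have hJs : s J.succ = ⊤ := by
    rw [← hs.2.1]
    show s J.succ = s (Fin.last _)
    congr 1
    ext
    simp only [Fin.val_succ, Fin.val_last, J]
    omega
  have eF : StabCat.factor s J ≅ cokernel s.eraseLast.last.arrow :=
    SubCorr.cokerOfLEIso hK.symm hJs _ le_top ≪≫ cokerTopIso s.eraseLast.last
  have hFss : TSS k L ℓ (cokernel s.eraseLast.last.arrow) d := tss_of_iso k eF (hs.2.2.1 J)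
  have hpF' : THP k L ℓ d (cokernel s.eraseLast.last.arrow) (StabCat.topPart ℓ d pF) :=
    ⟨pF, hpF, rfl⟩
  have hpJ : THP k L ℓ d (StabCat.factor s J) (StabCat.topPart ℓ d pF) :=
    thp_of_iso k eF.symm hpF'
  have aF : 0 < StabCat.alpha d pF := by
    have := t_alpha_pos_of_isSemistable k hL hFss hpF'
    rwa [alpha_topPart] at this
  have heq : StabCat.topPart ℓ d pF = StabCat.topPart ℓ d pG := by
    have h := hred
    unfold StabCat.RedEq at h
    rw [alpha_topPart, alpha_topPart, ← hα] at h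
    exact smul_right_injective _ (ne_of_gt aF) h
  have hpG' : THP k L ℓ d G (StabCat.topPart ℓ d pG) := ⟨pG, hpG, rfl⟩
  have hp0 : ∀ (j : Fin s.length) (pj : ℚ[X]), THP k L ℓ d (StabCat.factor s j) pj →
      StabCat.RedLE d (StabCat.topPart ℓ d pG) pj := by
    intro j pj hpj
    rw [← heq]
    exact hn_chain_le k hL s hs j J (Nat.le_sub_one_of_lt j.isLt) hpj hpJ
  have a0 : 0 ≤ StabCat.alpha d (StabCat.topPart ℓ d pG) := by
    rw [alpha_topPart, ← hα]; exact aF.le
  have hQE : QuotLE k L ℓ d (StabCat.topPart ℓ d pG) E := quotLE_of_isHN k hL a0 s hs hp0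
  have hQG : QuotLE k L ℓ d (StabCat.topPart ℓ d pG) G := quotLE_of_epi k q hQE
  have hGss : TSS k L ℓ G d := tss_of_quotLE k hL hG hG0 hGp hpG' hQG
  have hzero : s.eraseLast.last.arrow ≫ q = 0 := by
    show (s J.castSucc).arrow ≫ q = 0
    refine arrow_comp_eq_zero k hL s hs hGss hpG' q J.castSucc ?_
    intro j hj pj hpj
    rw [← heq]
    exact hn_chain_lt k hL s hs j J (Fin.castSucc_lt_castSucc_iff.1 hj) hpj hpJ
  let qb : cokernel s.eraseLast.last.arrow ⟶ G := cokernel.desc _ q hzero
  have hqb : cokernel.π s.eraseLast.last.arrow ≫ qb = q := cokernel.π_desc _ _ _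
  haveI : Epi qb := epi_of_epi_fac hqb
  have hN : Coh.IsCoh (kernel qb) := isCoh_kernel qb hFss.1 hG.1
  have hPN : ShStab.IsHilbPoly k X L (kernel qb) (pF - pG) :=
    isHilbPoly_X₁ k hL.1 _ (DevKey.shortExact_of_epi qb) hN hFss.1 hG hpF hpG
  have hNz : IsZero (kernel qb) := by
    by_contra hN0
    have := alpha_pos_of_pure k hL hFss.2.2.1 (kernel.ι qb) hN hN0 hPN
    rw [alpha_sub, hα, sub_self] at this
    exact lt_irrefl _ this
  haveI : Mono qb := Preadditive.mono_of_isZero_kernel qb hNz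
  haveI : IsIso qb := isIso_of_mono_of_epi qb
  exact ⟨asIso qb, hqb⟩

end Groth.Agent.Lib.Helper23.HilbT
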