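import Mathlib
import Groth.Prelude
import Groth.Agent.Lib.Helper23.IntCartC
import Groth.Agent.Lib.Helper22.Sard2
import Groth.Agent.Lib.Helper12.ClosedSub
import Groth.Agent.Lib.Helper9.TopDim
import Groth.Agent.Lib.Helper4.RegCM
import Groth.Agent.Lib.Helper3.QProj

/-!
# Helper library (helper23): intersection numbers of effective Cartier divisors on
Cohen–Macaulay (resp. regular) projective surfaces (S7871, S11340)
-/

set_option autoImplicit false
set_option linter.unusedSectionVars false
set_option linter.style.haveILetI false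
universe u
open CategoryTheory CategoryTheory.Limits AlgebraicGeometry TopologicalSpace Opposite

namespace Groth.Agent.Lib.Helper23.IntCart

open Groth.Agent.Lib.Helper12.ClosedSub

/-- at a closed point of a scheme locally of finite type over a field, the local ring has at
least the dimension of the irreducible component through the point. -/
theorem dim_irreducibleComponent_le_ringKrullDim_stalk (k : Type u) [Field k] (X : Scheme.{u})
    (q : X ⟶ Spec (CommRingCat.of k)) [LocallyOfFiniteType q]
    (x : X) (hx : IsClosed ({x} : Set X)) :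
    topologicalKrullDim (irreducibleComponent x) ≤ ringKrullDim (X.presheaf.stalk x) := by
  have hirr : IsIrreducible (irreducibleComponent x) := isIrreducible_irreducibleComponent
  have hcl : IsClosed (irreducibleComponent x) := isClosed_irreducibleComponent
  set ξ : X := hirr.genericPoint with hξ
  have hgen : closure ({ξ} : Set X) = irreducibleComponent x :=
    hirr.isGenericPoint_genericPoint hcl
  have hxZ : x ∈ closure ({ξ} : Set X) := by rw [hgen]; exact mem_irreducibleComponent
  obtain ⟨x', hx'⟩ := exists_clSubι_eq X ξ x (specializes_iff_mem_closure.mpr hxZ)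
  have hinj : Function.Injective (clSubι X ξ) := (clSubι X ξ).isEmbedding.injective
  have hx'cl : IsClosed ({x'} : Set (clSub X ξ)) := by
    have h1 : ({x'} : Set (clSub X ξ)) = (clSubι X ξ) ⁻¹' {x} := by
      ext y
      simp only [Set.mem_singleton_iff, Set.mem_preimage]
      constructor
      · intro h; rw [h, hx']
      · intro h; exact hinj (h.trans hx'.symm)
    rw [h1]
    exact hx.preimage (clSubι X ξ).continuous
  have h2 := Groth.Agent.Lib.Helper22.Sard.ringKrullDim_stalk_eq_topologicalKrullDim k
    (clSub X ξ) (clSubι X ξ ≫ q) x' hx'cl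
  have h3 : topologicalKrullDim (clSub X ξ) = topologicalKrullDim (irreducibleComponent x) := by
    let e : clSub X ξ ≃ₜ ↥(irreducibleComponent x) :=
      ((clSubι X ξ).isEmbedding.toHomeomorph.trans (Homeomorph.setCongr (range_clSubι X ξ))).trans
        (Homeomorph.setCongr hgen)
    exact IsHomeomorph.topologicalKrullDim_eq e e.isHomeomorph
  have h4 : ringKrullDim ((clSub X ξ).presheaf.stalk x') ≤
      ringKrullDim (X.presheaf.stalk (clSubι X ξ x')) :=
    ringKrullDim_le_of_surjective ((clSubι X ξ).stalkMap x').hom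
      ((clSubι X ξ).stalkMap_surjective x')
  rw [← h3, ← h2]
  rw [hx'] at h4
  exact h4

open Groth.Agent.Lib.Helper3.QProj in
theorem main11340 (k : Type u) [Field k] (X : Scheme.{u}) [X.Over (Spec (CommRingCat.of k))]
    [IsIntegral X] (hdim : topologicalKrullDim X = 2)
    (hreg : ∀ x : X, IsRegularLocalRing (X.presheaf.stalk x))
    (hproj : ∃ (n : ℕ) (ι : X ⟶ CohB1.ProjSpace n k), IsClosedImmersion ι ∧
      ι ≫ CohB1.ProjSpace.toSpec n k = (X ↘ (Spec (CommRingCat.of k))))
    (IC ID : X.IdealSheafData) (hC : FGA.IsEffCartier IC) (hD : FGA.IsEffCartier ID)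
    (hfin : ((IC ⊔ ID).support : Set X).Finite) :
    FGA.intNum k X 2 ![ClSub.idealMod IC, ClSub.idealMod ID] (Coh.structureModule X) =
      (Module.finrank k (Coh.HH X (ClSub.quotMod (IC ⊔ ID)) 0) : ℤ) := by
  obtain ⟨n, ι, hι, hcomm⟩ := hproj
  haveI := hι
  haveI : IsProper (X ↘ Spec (CommRingCat.of k)) := by rw [← hcomm]; infer_instance
  refine main k X (le_of_eq hdim) (fun x => ?_) (fun x hx h1 => ?_) IC ID hC hD hfin
  · haveI := hreg x
    exact Groth.Agent.Lib.Helper4.RegCM.isCohenMacaulayLocalRing _
  · have h2 := Groth.Agent.Lib.Helper22.Sard.ringKrullDim_stalk_eq_topologicalKrullDim k X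
      (X ↘ Spec (CommRingCat.of k)) x hx
    rw [hdim, h1] at h2
    exact absurd h2 (by decide)

theorem main7871 (k : Type u) [Field k] (X : Scheme.{u})
    [X.Over (Spec (CommRingCat.of k))] [IsProper (X ↘ (Spec (CommRingCat.of k)))]
    (hdim : ∀ Z ∈ irreducibleComponents (X : Type u), topologicalKrullDim Z = 2)
    (hCM : ∀ x : X, LocCoh.IsCohenMacaulayLocalRing (X.presheaf.stalk x))
    (IC ID : X.IdealSheafData) (hC : FGA.IsEffCartier IC) (hD : FGA.IsEffCartier ID)
    (hfin : ((IC ⊔ ID).support : Set X).Finite) :
    FGA.intNum k X 2 ![ClSub.idealMod IC, ClSub.idealMod ID] (Coh.structureModule X) =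
      (Module.finrank k (Coh.HH X (ClSub.quotMod (IC ⊔ ID)) 0) : ℤ) := by
  have hd : topologicalKrullDim X ≤ (2 : ℕ) := by
    rw [Groth.Agent.Lib.Helper9.topologicalKrullDim_eq_iSup_irreducibleComponents]
    exact iSup₂_le fun Z hZ => le_of_eq (hdim Z hZ)
  refine main k X hd hCM (fun x hx h1 => ?_) IC ID hC hD hfin
  have h2 := dim_irreducibleComponent_le_ringKrullDim_stalk k X (X ↘ Spec (CommRingCat.of k)) x hx
  rw [hdim _ (irreducibleComponent_mem_irreducibleComponents x), h1] at h2
  exact absurd h2 (by decide)

end Groth.Agent.Lib.Helper23.IntCart
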