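import Mathlib

/-!
# Helper library (helper23): an algebra lemma on separation of jets for tensor products
-/

set_option autoImplicit false
open TensorProduct

namespace Groth.Agent.Lib.Helper23.JetSepAlg

variable {R : Type*} [CommRing R] (𝔪 : Ideal R) {M N : Type*} [AddCommGroup M] [Module R M]
  [AddCommGroup N] [Module R N]

theorem tmul_mem_pow_smul (p q : ℕ) (x : M) (hx : x ∈ 𝔪 ^ p • (⊤ : Submodule R M)) (y : N)
    (hy : y ∈ 𝔪 ^ q • (⊤ : Submodule R N)) :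
    x ⊗ₜ[R] y ∈ 𝔪 ^ (p + q) • (⊤ : Submodule R (M ⊗[R] N)) := by
  refine Submodule.smul_induction_on hx (fun r hr u _ => ?_) (fun x₁ x₂ h₁ h₂ => ?_)
  · refine Submodule.smul_induction_on hy (fun s hs v _ => ?_) (fun y₁ y₂ h₁ h₂ => ?_)
    · have h : (r • u) ⊗ₜ[R] (s • v) = (r * s) • (u ⊗ₜ[R] v) := by
        rw [TensorProduct.smul_tmul_smul]
      rw [h]
      exact Submodule.smul_mem_smul (by rw [pow_add]; exact Ideal.mul_mem_mul hr hs)
        Submodule.mem_top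
    · rw [TensorProduct.tmul_add]
      exact Submodule.add_mem _ h₁ h₂
  · rw [TensorProduct.add_tmul]
    exact Submodule.add_mem _ h₁ h₂

theorem pow_smul_le {p q : ℕ} (h : p ≤ q) {P : Type*} [AddCommGroup P] [Module R P] :
    𝔪 ^ q • (⊤ : Submodule R P) ≤ 𝔪 ^ p • (⊤ : Submodule R P) :=
  Submodule.smul_mono_left (Ideal.pow_le_pow_right h)

/-- the key statement: products of elements separating jets separate jets of the sum order. -/
theorem main (i j : ℕ) (A : AddSubgroup M) (B : AddSubgroup N)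
    (hA : ∀ m : M, ∃ a ∈ A, a - m ∈ 𝔪 ^ (i + 1) • (⊤ : Submodule R M))
    (hB : ∀ n : N, ∃ b ∈ B, b - n ∈ 𝔪 ^ (j + 1) • (⊤ : Submodule R N))
    (t : M ⊗[R] N) :
    ∃ y ∈ AddSubgroup.closure {z : M ⊗[R] N | ∃ a ∈ A, ∃ b ∈ B, z = a ⊗ₜ[R] b},
      y - t ∈ 𝔪 ^ (i + j + 1) • (⊤ : Submodule R (M ⊗[R] N)) := by
  set S : AddSubgroup (M ⊗[R] N) :=
    AddSubgroup.closure {z : M ⊗[R] N | ∃ a ∈ A, ∃ b ∈ B, z = a ⊗ₜ[R] b} with hS
  set T : Submodule R (M ⊗[R] N) := 𝔪 ^ (i + j + 1) • (⊤ : Submodule R (M ⊗[R] N)) with hT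
  -- `P c`: every element of `𝔪^c (M ⊗ N)` is congruent to an element of `S` modulo `T`
  have key : ∀ d c : ℕ, c + d = i + j + 1 →
      ∀ t ∈ 𝔪 ^ c • (⊤ : Submodule R (M ⊗[R] N)), ∃ y ∈ S, y - t ∈ T := by
    intro d
    induction d with
    | zero =>
      intro c hc t ht
      refine ⟨0, S.zero_mem, ?_⟩
      rw [zero_sub]
      have : c = i + j + 1 := by omega
      subst this
      exact T.neg_mem ht
    | succ d ih =>
      intro c hc t ht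
      have hcle : c ≤ i + j := by omega
      -- split `c = a + b`
      obtain ⟨a, b, hab, hai, hbj⟩ : ∃ a b : ℕ, a + b = c ∧ a ≤ i ∧ b ≤ j := by
        by_cases h : c ≤ i
        · exact ⟨c, 0, by omega, h, by omega⟩
        · exact ⟨i, c - i, by omega, le_rfl, by omega⟩
      have step : ∀ (r₁ : R) (_ : r₁ ∈ 𝔪 ^ a) (r₂ : R) (_ : r₂ ∈ 𝔪 ^ b) (u : M) (v : N),
          ∃ y ∈ S, y - (r₁ * r₂) • (u ⊗ₜ[R] v) ∈ T := by
        intro r₁ hr₁ r₂ hr₂ u v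
        obtain ⟨a₁, ha₁, hμ⟩ := hA (r₁ • u)
        obtain ⟨b₁, hb₁, hν⟩ := hB (r₂ • v)
        have hru : r₁ • u ∈ 𝔪 ^ a • (⊤ : Submodule R M) :=
          Submodule.smul_mem_smul hr₁ Submodule.mem_top
        have hrv : r₂ • v ∈ 𝔪 ^ b • (⊤ : Submodule R N) :=
          Submodule.smul_mem_smul hr₂ Submodule.mem_top
        have ha₁' : a₁ ∈ 𝔪 ^ a • (⊤ : Submodule R M) := by
          have : a₁ = (a₁ - r₁ • u) + r₁ • u := by abel
          rw [this]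
          exact Submodule.add_mem _ (pow_smul_le 𝔪 (by omega) hμ) hru
        -- the error term
        have e1 : a₁ ⊗ₜ[R] (b₁ - r₂ • v) ∈ 𝔪 ^ (c + 1) • (⊤ : Submodule R (M ⊗[R] N)) :=
          pow_smul_le 𝔪 (by omega) (tmul_mem_pow_smul 𝔪 a (j + 1) a₁ ha₁' _ hν)
        have e2 : (a₁ - r₁ • u) ⊗ₜ[R] (r₂ • v) ∈
            𝔪 ^ (c + 1) • (⊤ : Submodule R (M ⊗[R] N)) :=
          pow_smul_le 𝔪 (by omega) (tmul_mem_pow_smul 𝔪 (i + 1) b _ hμ _ hrv)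
        have e3 : a₁ ⊗ₜ[R] b₁ - (r₁ * r₂) • (u ⊗ₜ[R] v) =
            a₁ ⊗ₜ[R] (b₁ - r₂ • v) + (a₁ - r₁ • u) ⊗ₜ[R] (r₂ • v) := by
          rw [TensorProduct.tmul_sub, TensorProduct.sub_tmul, ← TensorProduct.smul_tmul_smul]
          abel
        obtain ⟨y', hy', hy'T⟩ := ih (c + 1) (by omega)
          (a₁ ⊗ₜ[R] b₁ - (r₁ * r₂) • (u ⊗ₜ[R] v)) (by rw [e3]; exact Submodule.add_mem _ e1 e2)
        refine ⟨a₁ ⊗ₜ[R] b₁ - y', S.sub_mem (AddSubgroup.subset_closure ⟨a₁, ha₁, b₁, hb₁, rfl⟩) hy',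
          ?_⟩
        have : a₁ ⊗ₜ[R] b₁ - y' - (r₁ * r₂) • (u ⊗ₜ[R] v) =
            -(y' - (a₁ ⊗ₜ[R] b₁ - (r₁ * r₂) • (u ⊗ₜ[R] v))) := by abel
        rw [this]
        exact T.neg_mem hy'T
      -- extend additively
      have step2 : ∀ (r : R) (_ : r ∈ 𝔪 ^ c) (u : M) (v : N),
          ∃ y ∈ S, y - r • (u ⊗ₜ[R] v) ∈ T := by
        intro r hr u v
        rw [← hab, pow_add] at hr
        refine Submodule.mul_induction_on hr (fun r₁ hr₁ r₂ hr₂ => step r₁ hr₁ r₂ hr₂ u v)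
          (fun r r' h₁ h₂ => ?_)
        obtain ⟨y₁, hy₁, h₁'⟩ := h₁
        obtain ⟨y₂, hy₂, h₂'⟩ := h₂
        refine ⟨y₁ + y₂, S.add_mem hy₁ hy₂, ?_⟩
        have : y₁ + y₂ - (r + r') • (u ⊗ₜ[R] v) =
            (y₁ - r • (u ⊗ₜ[R] v)) + (y₂ - r' • (u ⊗ₜ[R] v)) := by
          rw [add_smul]; abel
        rw [this]
        exact T.add_mem h₁' h₂'
      have step3 : ∀ (r : R) (_ : r ∈ 𝔪 ^ c) (w : M ⊗[R] N), ∃ y ∈ S, y - r • w ∈ T := by
        intro r hr w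
        induction w using TensorProduct.induction_on with
        | zero => exact ⟨0, S.zero_mem, by rw [smul_zero, sub_zero]; exact T.zero_mem⟩
        | tmul u v => exact step2 r hr u v
        | add w₁ w₂ h₁ h₂ =>
          obtain ⟨y₁, hy₁, h₁'⟩ := h₁
          obtain ⟨y₂, hy₂, h₂'⟩ := h₂
          refine ⟨y₁ + y₂, S.add_mem hy₁ hy₂, ?_⟩
          have : y₁ + y₂ - r • (w₁ + w₂) = (y₁ - r • w₁) + (y₂ - r • w₂) := by
            rw [smul_add]; abel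
          rw [this]
          exact T.add_mem h₁' h₂'
      refine Submodule.smul_induction_on ht (fun r hr w _ => step3 r hr w)
        (fun t₁ t₂ h₁ h₂ => ?_)
      obtain ⟨y₁, hy₁, h₁'⟩ := h₁
      obtain ⟨y₂, hy₂, h₂'⟩ := h₂
      refine ⟨y₁ + y₂, S.add_mem hy₁ hy₂, ?_⟩
      have : y₁ + y₂ - (t₁ + t₂) = (y₁ - t₁) + (y₂ - t₂) := by abel
      rw [this]
      exact T.add_mem h₁' h₂'
  exact key (i + j + 1) 0 (by omega) t (by rw [pow_zero, Ideal.one_eq_top, Submodule.top_smul]; exact Submodule.mem_top)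

end Groth.Agent.Lib.Helper23.JetSepAlg
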