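import Mathlib
import Groth.Prelude
import Groth.Agent.Lib.Helper23.JetSepAlg
import Groth.Agent.Lib.Helper23.T2A
import Groth.Agent.Lib.Helper17.DevStep
import Groth.Agent.Lib.Helper17.TensorSec
import Groth.Agent.Lib.Helper1.IdealMulSec
import Groth.Agent.Lib.Helper3.InvTensor

/-!
# Helper library (helper23): separation of jets of a tensor product (S15253)
-/

set_option autoImplicit false
set_option linter.unusedSectionVars false
set_option linter.style.haveILetI false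
universe u
open CategoryTheory CategoryTheory.Limits AlgebraicGeometry Opposite TopologicalSpace
open Scheme.Modules TensorProduct

noncomputable section

namespace Groth.Agent.Lib.Helper23.JetSep

open Groth.Agent.Lib.Helper3 Groth.Agent.Lib.Helper3.QCSec Groth.Agent.Lib.Helper3.InvGen
  Groth.Agent.Lib.Helper3.InvTensor Groth.Agent.Lib.Helper17 Groth.Agent.Lib.Helper23.T2

variable {X : Scheme.{u}}

theorem res_bijective_of_eq {Z : Scheme.{u}} (G : Z.Modules) :
    ∀ (O₁ O₂ : Z.Opens) (h : O₁ ≤ O₂), O₁ = O₂ → Function.Bijective (res G h) := by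
  rintro O₁ _ h rfl
  have : res G h = id := funext fun s => res_self G h s
  rw [this]
  exact Function.bijective_id

/-- restriction of sections of a pushforward to an open containing the image is bijective. -/
theorem res_push_bijective {Z : Scheme.{u}} (ι : Z ⟶ X) (G : Z.Modules) (U : X.Opens)
    (hU : Set.range ι.base ⊆ (U : Set X)) :
    Function.Bijective (res ((Scheme.Modules.pushforward ι).obj G) (le_top : U ≤ ⊤)) := by
  have hpre : ι ⁻¹ᵁ U = ι ⁻¹ᵁ ⊤ := by
    ext z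
    simp only [Scheme.Hom.coe_preimage, Set.mem_preimage, SetLike.mem_coe, Opens.coe_top,
      Set.mem_univ, iff_true]
    exact hU ⟨z, rfl⟩
  exact res_bijective_of_eq G (ι ⁻¹ᵁ U) (ι ⁻¹ᵁ ⊤)
    ((Scheme.Hom.preimage_mono ι) le_top) hpre

section Local

variable (J : X.IdealSheafData) (M : X.Modules) [M.IsQuasicoherent]

theorem resH_eq (ξ : Coh.HH X M 0) :
    W4c2seshadripos.resH J M ξ = Hmap (DevStep.proj J M) 0 ξ := rfl

/-- local criterion for the surjectivity of `H⁰(M) → H⁰(M / J M)` when `V(J)` lies in an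
affine open `U`. -/
theorem surj_iff_local (U : X.affineOpens) (hJU : (J.support : Set X) ⊆ (U.1 : Set X)) :
    Function.Surjective (W4c2seshadripos.resH J M) ↔
      ∀ m : Γ(M, U.1), ∃ s : Γ(M, ⊤),
        res M (le_top : U.1 ≤ ⊤) s - m ∈ J.ideal U • (⊤ : Submodule Γ(X, U.1) Γ(M, U.1)) := by
  have hρ := res_push_bijective J.subschemeι ((Scheme.Modules.pullback J.subschemeι).obj M) U.1
    (by rw [Scheme.IdealSheafData.range_subschemeι]; exact hJU)
  constructor
  · intro hsurj m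
    obtain ⟨t', ht'⟩ := hρ.2 ((DevStep.proj J M).app U.1 m)
    obtain ⟨ξ, hξ⟩ := hsurj ((H0equiv (DevStep.quot J M)).symm t')
    refine ⟨H0equiv M ξ, ?_⟩
    have h1 : (DevStep.proj J M).app ⊤ (H0equiv M ξ) = t' := by
      have h2 := H0equiv_naturality (DevStep.proj J M) ξ
      rw [← resH_eq, hξ, LinearEquiv.apply_symm_apply] at h2
      exact h2.symm
    apply DevStep.mem_smul_top_of_proj_app_eq_zero J M U
    have h3 : (DevStep.proj J M).app U.1 (res M (le_top : U.1 ≤ ⊤) (H0equiv M ξ) - m) =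
        (DevStep.proj J M).app U.1 (res M (le_top : U.1 ≤ ⊤) (H0equiv M ξ)) -
          (DevStep.proj J M).app U.1 m := map_sub _ _ _
    rw [h3, QCExact.app_res', h1, ht', sub_self]
  · intro hloc η
    obtain ⟨m, hm⟩ := DevStep.proj_app_surjective J M U
      (res (DevStep.quot J M) (le_top : U.1 ≤ ⊤) (H0equiv (DevStep.quot J M) η))
    obtain ⟨s, hs⟩ := hloc m
    have h0 := Groth.Agent.Lib.Helper1.IdealMulSec.proj_app_eq_zero_of_mem J M U _ hs
    have h3 : (DevStep.proj J M).app U.1 (res M (le_top : U.1 ≤ ⊤) s - m) =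
        (DevStep.proj J M).app U.1 (res M (le_top : U.1 ≤ ⊤) s) -
          (DevStep.proj J M).app U.1 m := map_sub _ _ _
    rw [h3, sub_eq_zero, QCExact.app_res', hm] at h0
    have h1 : (DevStep.proj J M).app ⊤ s = H0equiv (DevStep.quot J M) η := hρ.1 h0
    refine ⟨(H0equiv M).symm s, ?_⟩
    rw [resH_eq, H0equiv_symm_naturality]
    apply (H0equiv (DevStep.quot J M)).injective
    rw [LinearEquiv.apply_symm_apply]
    exact h1

end Local

section Main

open Groth.Agent.Lib.Helper17.TensorSec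

theorem res_neg' (M : X.Modules) {A B : X.Opens} (h : A ≤ B) (a : Γ(M, B)) :
    res M h (-a) = - res M h a := _root_.map_neg _ a

/-- the subgroup of sections over `U` which extend to global sections. -/
def imTop (M : X.Modules) (U : X.Opens) : AddSubgroup ↑((CohB1.toPMod M).obj (op U)) where
  carrier := {a | ∃ s : Γ(M, ⊤), res M (le_top : U ≤ ⊤) s = a}
  zero_mem' := ⟨0, res_zero M _⟩
  add_mem' := by
    rintro _ _ ⟨s, rfl⟩ ⟨s', rfl⟩
    exact ⟨s + s', QCExact.res_add M _ s s'⟩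
  neg_mem' := by
    rintro _ ⟨s, rfl⟩
    exact ⟨-s, res_neg' M _ s⟩

theorem mem_conv (M : X.Modules) (U : X.Opens) (I : Ideal Γ(X, U)) (m : Γ(M, U))
    (hm : m ∈ I • (⊤ : Submodule Γ(X, U) Γ(M, U))) :
    (show ↑((CohB1.toPMod M).obj (op U)) from m) ∈
      (show Ideal (Rg X U) from I) •
        (⊤ : Submodule (Rg X U) ↑((CohB1.toPMod M).obj (op U))) := by
  refine Submodule.smul_induction_on hm (fun r hr u _ => ?_) (fun a b ha hb => ?_)
  · exact Submodule.smul_mem_smul (show toRg U r ∈ (show Ideal (Rg X U) from I) from hr)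
      Submodule.mem_top
  · exact Submodule.add_mem _ ha hb

theorem et_mem (F G : X.Modules) (U : X.Opens) (I : Ideal Γ(X, U)) (w : PT F G U)
    (hw : w ∈ (show Ideal (Rg X U) from I) • (⊤ : Submodule (Rg X U) (PT F G U))) :
    et F G U w ∈ I • (⊤ : Submodule Γ(X, U) Γ(CohB1.tensorMod F G, U)) := by
  refine Submodule.smul_induction_on hw (fun r hr u _ => ?_) (fun a b ha hb => ?_)
  · have h := et_smul F G U r u
    have h' : et F G U (r • u) = (show Γ(X, U) from r) • et F G U u := h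
    rw [h']
    exact Submodule.smul_mem_smul hr Submodule.mem_top
  · rw [map_add]
    exact Submodule.add_mem _ ha hb

theorem pow_conv (U : X.Opens) (I : Ideal Γ(X, U)) (n : ℕ) :
    (show Ideal (Rg X U) from I ^ n) = (show Ideal (Rg X U) from I) ^ n := rfl

theorem main (x : X) (hx : IsClosed ({x} : Set X)) (F G : X.Modules)
    [F.IsQuasicoherent] [G.IsQuasicoherent] (i j : ℕ)
    (hi : W4c2seshadripos.SeparatesJets F x hx i)
    (hj : W4c2seshadripos.SeparatesJets G x hx j) :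
    W4c2seshadripos.SeparatesJets (CohB1.tensorMod F G) x hx (i + j) := by
  obtain ⟨U₀, hU₀, hxU⟩ := QCProps.exists_affine_nbhd x
  let U : X.affineOpens := ⟨U₀, hU₀⟩
  haveI := TensorSec.isQuasicoherent_tensorMod F G
  have hsupp : ∀ l : ℕ,
      (((W4c2seshadripos.pointIdeal x hx) ^ (l + 1)).support : Set X) ⊆ (U.1 : Set X) := by
    intro l
    rw [Scheme.IdealSheafData.support_pow_succ]
    unfold W4c2seshadripos.pointIdeal
    rw [Scheme.IdealSheafData.coe_support_vanishingIdeal]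
    intro z hz
    have hzx : z = x := hz
    rw [hzx]
    exact hxU
  unfold W4c2seshadripos.SeparatesJets at hi hj ⊢
  rw [surj_iff_local _ _ U (hsupp _)] at hi hj ⊢
  intro t
  obtain ⟨y, rfl⟩ := TensorSec.et_surjective (F := F) (G := G) U.2 t
  let I : Ideal Γ(X, U.1) := (W4c2seshadripos.pointIdeal x hx).ideal U
  have hi' : ∀ m : Γ(F, U.1), ∃ s : Γ(F, ⊤), res F (le_top : U.1 ≤ ⊤) s - m ∈
      (I ^ (i + 1)) • (⊤ : Submodule Γ(X, U.1) Γ(F, U.1)) := hi
  have hj' : ∀ m : Γ(G, U.1), ∃ s : Γ(G, ⊤), res G (le_top : U.1 ≤ ⊤) s - m ∈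
      (I ^ (j + 1)) • (⊤ : Submodule Γ(X, U.1) Γ(G, U.1)) := hj
  show ∃ s : Γ(CohB1.tensorMod F G, ⊤),
    res (CohB1.tensorMod F G) (le_top : U.1 ≤ ⊤) s - et F G U.1 y ∈
      (I ^ (i + j + 1)) • (⊤ : Submodule Γ(X, U.1) Γ(CohB1.tensorMod F G, U.1))
  let 𝔪 : Ideal (Rg X U.1) := I
  have hA : ∀ m : ↑((CohB1.toPMod F).obj (op U.1)), ∃ a ∈ imTop F U.1,
      a - m ∈ 𝔪 ^ (i + 1) • (⊤ : Submodule (Rg X U.1) ↑((CohB1.toPMod F).obj (op U.1))) := by
    intro m
    obtain ⟨s, hs⟩ := hi' m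
    exact ⟨res F (le_top : U.1 ≤ ⊤) s, ⟨s, rfl⟩, mem_conv F U.1 (I ^ (i + 1)) _ hs⟩
  have hB : ∀ m : ↑((CohB1.toPMod G).obj (op U.1)), ∃ a ∈ imTop G U.1,
      a - m ∈ 𝔪 ^ (j + 1) • (⊤ : Submodule (Rg X U.1) ↑((CohB1.toPMod G).obj (op U.1))) := by
    intro m
    obtain ⟨s, hs⟩ := hj' m
    exact ⟨res G (le_top : U.1 ≤ ⊤) s, ⟨s, rfl⟩, mem_conv G U.1 (I ^ (j + 1)) _ hs⟩
  obtain ⟨y', hy', hyy⟩ := JetSepAlg.main 𝔪 i j (imTop F U.1) (imTop G U.1) hA hB y
  have hglob : ∀ z ∈ AddSubgroup.closure {z : PT F G U.1 | ∃ a ∈ imTop F U.1,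
      ∃ b ∈ imTop G U.1, z = a ⊗ₜ[Rg X U.1] b},
      ∃ s : Γ(CohB1.tensorMod F G, ⊤),
        res (CohB1.tensorMod F G) (le_top : U.1 ≤ ⊤) s = et F G U.1 z := by
    intro z hz
    refine AddSubgroup.closure_induction
      (p := fun z _ => ∃ s : Γ(CohB1.tensorMod F G, ⊤),
        res (CohB1.tensorMod F G) (le_top : U.1 ≤ ⊤) s = et F G U.1 z) ?_ ?_ ?_ ?_ hz
    · rintro _ ⟨_, ⟨a, rfl⟩, _, ⟨b, rfl⟩, rfl⟩
      exact ⟨tm F G ⊤ a b, tm_res F G (le_top : U.1 ≤ ⊤) a b⟩
    · exact ⟨0, by rw [res_zero, map_zero]⟩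
    · rintro _ _ _ _ ⟨s, hs⟩ ⟨s', hs'⟩
      exact ⟨s + s', by rw [QCExact.res_add, hs, hs', map_add]⟩
    · rintro _ _ ⟨s, hs⟩
      exact ⟨-s, by rw [res_neg', hs, map_neg]⟩
  obtain ⟨s, hs⟩ := hglob y' hy'
  refine ⟨s, ?_⟩
  rw [hs, ← map_sub]
  exact et_mem F G U.1 (I ^ (i + j + 1)) (y' - y) hyy

end Main

end Groth.Agent.Lib.Helper23.JetSep
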