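import Mathlib
import Groth.Prelude
import Groth.Agent.Lib.Helper23.CurveGen
import Groth.Agent.Lib.Helper17.ClImmUnit
import Groth.Agent.Lib.Helper17.PbStalk
import Groth.Agent.Lib.Helper13.BaseChangeVanish
import Groth.Agent.Lib.Helper13.CBCInvFibre
import Groth.Agent.Lib.Helper13.SerreCrit1

/-!
# Vanishing of cohomology above the dimension of the support (dimension `≤ 1`), and
long exact sequence helpers (helper23)
-/

set_option autoImplicit false
set_option linter.unusedSectionVars false
set_option linter.style.haveILetI false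
universe u
open CategoryTheory CategoryTheory.Limits AlgebraicGeometry

noncomputable section

namespace Groth.Agent.Lib.Helper23.VanSupp

open Groth.Agent.Lib.Helper17 Groth.Agent.Lib.Helper13 Groth.Agent.Lib.Helper3
open Groth.Agent.Lib.Helper13.SerreCrit1

section LES

variable {X : Scheme.{u}}

/-- `H^n` of the cokernel vanishes if `H^n` of the middle and `H^{n+1}` of the kernel do. -/
lemma sub_X₃ (S : ShortComplex X.Modules) (hS : S.ShortExact) (n : ℕ)
    (h2 : Subsingleton (Coh.HH X S.X₂ n)) (h1 : Subsingleton (Coh.HH X S.X₁ (n + 1))) :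
    Subsingleton (Coh.HH X S.X₃ n) := by
  have hS' := shortExact_map_toSheaf S hS
  refine subsingleton_of_forall_eq 0 fun x => ?_
  have hx : x.comp hS'.extClass rfl = 0 := @Subsingleton.elim _ h1 _ _
  obtain ⟨x₂, hx₂⟩ := Abelian.Ext.covariant_sequence_exact₃ _ hS' x rfl hx
  have hx0 : x₂ = 0 := @Subsingleton.elim _ h2 _ _
  rw [← hx₂, hx0, Abelian.Ext.zero_comp]
  rfl

/-- `H^{n+1}` of the kernel vanishes if `H^{n+1}` of the middle and `H^n` of the cokernel do. -/
lemma sub_X₁ (S : ShortComplex X.Modules) (hS : S.ShortExact) (n : ℕ)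
    (h2 : Subsingleton (Coh.HH X S.X₂ (n + 1))) (h3 : Subsingleton (Coh.HH X S.X₃ n)) :
    Subsingleton (Coh.HH X S.X₁ (n + 1)) := by
  have hS' := shortExact_map_toSheaf S hS
  refine subsingleton_of_forall_eq 0 fun x => ?_
  have hx : x.comp (Abelian.Ext.mk₀ (S.map (TT X)).f) (add_zero (n + 1)) = 0 :=
    @Subsingleton.elim _ h2 _ _
  obtain ⟨x₃, hx₃⟩ := Abelian.Ext.covariant_sequence_exact₁ _ hS' x hx rfl
  have hx0 : x₃ = 0 := @Subsingleton.elim _ h3 _ _
  rw [← hx₃, hx0, Abelian.Ext.zero_comp]
  rfl

end LES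

section Supp

variable (k : Type u) [Field k] (X : Scheme.{u}) [X.Over (Spec (CommRingCat.of k))]
  [IsProper (X ↘ Spec (CommRingCat.of k))]

include k in
/-- **Cohomology of a coherent module whose support has dimension `≤ 1` vanishes in degrees
`≥ 2`** (on a proper scheme over a field). -/
theorem subsingleton_HH_of_dim_support_le_one (F : X.Modules) (hF : Coh.IsCoh F)
    (hdim : topologicalKrullDim (CohB1.support F) ≤ 1) (j : ℕ) :
    Subsingleton (Coh.HH X F (j + 2)) := by
  haveI := hF.1
  haveI := hF.2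
  obtain ⟨J, -, hiso, -, hsupp⟩ := ClImmUnit.exists_schemeTheoreticSupport F
  letI : J.subscheme.Over (Spec (CommRingCat.of k)) :=
    ⟨J.subschemeι ≫ (X ↘ Spec (CommRingCat.of k))⟩
  haveI : IsProper (J.subscheme ↘ Spec (CommRingCat.of k)) :=
    inferInstanceAs (IsProper (J.subschemeι ≫ (X ↘ Spec (CommRingCat.of k))))
  set G : J.subscheme.Modules := (Scheme.Modules.pullback J.subschemeι).obj F with hG
  haveI : G.IsQuasicoherent := PbStalk.isQuasicoherent_pullback J.subschemeι F
  -- dimension
  have hmem : ∀ z : J.subscheme, J.subschemeι z ∈ CohB1.support F := by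
    intro z
    rw [← hsupp, ← Scheme.IdealSheafData.range_subschemeι]
    exact ⟨z, rfl⟩
  have hind : Topology.IsInducing
      (Set.codRestrict (fun z : J.subscheme => J.subschemeι z) (CohB1.support F) hmem) :=
    (J.subschemeι.isEmbedding.isInducing).codRestrict hmem
  have hdimZ : topologicalKrullDim J.subscheme ≤ 1 :=
    hind.topologicalKrullDim_le.trans hdim
  have h1 : Subsingleton (Coh.HH J.subscheme G (j + 2)) :=
    Groth.Agent.Lib.Helper23.CurveGen.subsingleton_HH_of_dim_le_one k J.subscheme hdimZ G j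
  obtain ⟨e⟩ := BaseChangeVanish.nonempty_HH_equiv_push J.subschemeι G (j + 2)
  have h2 : Subsingleton (Coh.HH X ((Scheme.Modules.pushforward J.subschemeι).obj G) (j + 2)) :=
    e.symm.toEquiv.subsingleton
  haveI := hiso
  exact CBCInvFibre.subsingleton_HH_of_iso
    (asIso ((Scheme.Modules.pullbackPushforwardAdjunction J.subschemeι).unit.app F)) (j + 2) h2

end Supp

end Groth.Agent.Lib.Helper23.VanSupp
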