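import Mathlib
import Groth.Prelude
import Groth.Agent.Lib.Helper23.VanSupp
import Groth.Agent.Lib.Helper23.HilbPD
import Groth.Agent.Lib.Helper23.HilbPH
import Groth.Agent.Lib.Helper23.T2L
import Groth.Agent.Lib.Helper7.AmpleSerre
import Groth.Agent.Lib.Helper7.AmpleH1
import Groth.Agent.Lib.Helper7.InvEnd
import Groth.Agent.Lib.Helper7.Hypersurf
import Groth.Agent.Lib.Helper7.CechCard
import Groth.Agent.Lib.Helper13.ZeroDimSupp
import Groth.Agent.Lib.Helper17.AmpleFin
import Groth.Agent.Lib.Helper17.StalkExact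
import Groth.Agent.Lib.Helper17.DevBasic

/-!
# Cohomology of powers of the ideal of a closed point twisted by invertible modules (helper23)
-/

set_option autoImplicit false
set_option linter.unusedSectionVars false
set_option linter.style.haveILetI false
universe u
open CategoryTheory CategoryTheory.Limits AlgebraicGeometry

noncomputable section

namespace Groth.Agent.Lib.Helper23.JetVan

open Groth.Agent.Lib.Helper17 Groth.Agent.Lib.Helper17.DevBasic Groth.Agent.Lib.Helper13
  Groth.Agent.Lib.Helper3 Groth.Agent.Lib.Helper7 Groth.Agent.Lib.Helper7.TwFun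
  Groth.Agent.Lib.Helper23.VanSupp Groth.Agent.Lib.Helper13.SerreCrit1
  Groth.Agent.Lib.Helper17.StalkExact

variable {X : Scheme.{u}}

/-- the support of `O/J` lies in the support of `J`. -/
lemma support_quotMod_subset (J : X.IdealSheafData) :
    CohB1.support (ClSub.quotMod J) ⊆ (J.support : Set X) := by
  have h := AmpleFin.support_push_subset_closure_range J.subschemeι
    (Coh.structureModule J.subscheme)
  rw [Scheme.IdealSheafData.range_subschemeι, J.support.isClosed.closure_eq] at h
  exact h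

/-- the ideal sequence `0 → I_J → O → O/J → 0`. -/
def sesJ (J : X.IdealSheafData) : ShortComplex X.Modules :=
  ShortComplex.mk (ClSub.idealModι J) (ClSub.toSubscheme J) (kernel.condition _)

lemma shortExact_sesJ (J : X.IdealSheafData) : (sesJ J).ShortExact := by
  haveI := Hypersurf.epi_toSubscheme J
  exact CechCard.shortExact_kernel (ClSub.toSubscheme J)

lemma isCoh_idealMod [IsLocallyNoetherian X] (J : X.IdealSheafData) :
    Coh.IsCoh (ClSub.idealMod J) :=
  isCoh_kernel _ (Groth.Agent.Lib.Helper23.T2.isCoh_structureModule X)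
    (Hypersurf.isCoh_quotMod J).1

/-- the support of `I_{D₁}/I_{D₂}` lies in the support of `D₂`. -/
lemma support_cokernel_incl (D₁ D₂ : X.IdealSheafData) (hle : D₂ ≤ D₁) :
    CohB1.support (cokernel (InvEnd.incl D₁ D₂ hle)) ⊆ (D₂.support : Set X) := by
  intro y hy
  by_contra hyn
  apply hy
  have hq : Subsingleton ((ClSub.quotMod D₂).presheaf.stalk y) := by
    by_contra hns
    exact hyn (support_quotMod_subset D₂ hns)
  -- `(ι₂)_y` is surjective
  haveI : Mono (sesJ D₂).f := (shortExact_sesJ D₂).mono_f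
  have hex : Function.Exact (stalkLin (ClSub.idealModι D₂) y)
      (stalkLin (ClSub.toSubscheme D₂) y) :=
    stalkLin_exact (sesJ D₂) (shortExact_sesJ D₂).exact y
  have hs2 : Function.Surjective (stalkLin (ClSub.idealModι D₂) y) := by
    intro z
    exact (hex z).1 (Subsingleton.elim _ _)
  -- `(ι₁)_y` is injective
  have hi1 : Function.Injective (stalkLin (ClSub.idealModι D₁) y) :=
    haveI : Mono (ClSub.idealModι D₁) := inferInstanceAs (Mono (kernel.ι _))
    stalkLin_injective _ y
  -- `incl_y` is surjective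
  have hsi : Function.Surjective (stalkLin (InvEnd.incl D₁ D₂ hle) y) := by
    intro b
    obtain ⟨a, ha⟩ := hs2 (stalkLin (ClSub.idealModι D₁) y b)
    refine ⟨a, hi1 ?_⟩
    rw [← ha]
    have := QS.stalkMap_comp_apply (InvEnd.incl D₁ D₂ hle) (ClSub.idealModι D₁) y a
    rw [InvEnd.incl_ι] at this
    exact this.symm
  -- the cokernel stalk vanishes
  have hπ : Function.Surjective (stalkLin (cokernel.π (InvEnd.incl D₁ D₂ hle)) y) :=
    stalkLin_surjective _ y
  refine subsingleton_of_forall_eq 0 fun q => ?_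
  obtain ⟨b, rfl⟩ := hπ q
  obtain ⟨a, rfl⟩ := hsi b
  have := QS.stalkMap_comp_apply (InvEnd.incl D₁ D₂ hle) (cokernel.π (InvEnd.incl D₁ D₂ hle)) y a
  rw [cokernel.condition] at this
  exact this.symm.trans (QS.stalkMap_zero_apply y a)


section Pt

variable (x : X) (hx : IsClosed ({x} : Set X))

lemma support_pointIdeal_pow (a : ℕ) :
    (((W4c2seshadripos.pointIdeal x hx) ^ a).support : Set X) ⊆ {x} := by
  cases a with
  | zero =>
    rw [pow_zero, Scheme.IdealSheafData.one_eq_top, Scheme.IdealSheafData.support_top]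
    intro y hy
    exact absurd hy (by simp)
  | succ a =>
    rw [Scheme.IdealSheafData.support_pow_succ]
    unfold W4c2seshadripos.pointIdeal
    rw [Scheme.IdealSheafData.coe_support_vanishingIdeal]
    rfl

variable (k : Type u) [Field k] [X.Over (Spec (CommRingCat.of k))]
  [IsProper (X ↘ Spec (CommRingCat.of k))]

include hx in
/-- vanishing of higher cohomology of a twist of a coherent module supported at `x`. -/
lemma sub_of_support_subset_point [IsLocallyNoetherian X] (Q N : X.Modules) (hQ : Coh.IsCoh Q)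
    (hN : PicF.IsInvertible N) (hs : CohB1.support Q ⊆ {x}) (i : ℕ) (hi : 0 < i) :
    Subsingleton (Coh.HH X (CohB1.tensorMod Q N) i) := by
  refine ZeroDimSupp.subsingleton_HH X _
    (Groth.Agent.Lib.Helper23.HilbP.isCoh_tensor_inv X hN hQ) ?_ i hi
  intro y hy
  rw [Groth.Agent.Lib.Helper23.HilbP.support_tensor_inv hN hQ] at hy
  have : y = x := hs hy
  rw [this]
  exact hx

include k in
theorem van_pointIdeal_pow (L : X.Modules) (hL : CohB1.IsAmple L) :
    ∃ m₀ : ℕ, ∀ m : ℕ, m₀ ≤ m → ∀ i : ℕ, 1 < i → ∀ a : ℕ,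
      Subsingleton (Coh.HH X (CohB1.tensorMod
        (ClSub.idealMod ((W4c2seshadripos.pointIdeal x hx) ^ a)) (CohB1.tensorPow L m)) i) := by
  haveI := Groth.Agent.Lib.Helper23.HilbP.isNoetherian_of_isProper k X
  obtain ⟨m₀, hm₀⟩ := AmpleSerre.serre_vanishing_of_isAmple k (X ↘ Spec (CommRingCat.of k)) hL
    (Coh.structureModule X) (Groth.Agent.Lib.Helper23.T2.isCoh_structureModule X)
  refine ⟨m₀, fun m hm i hi a => ?_⟩
  obtain ⟨j, rfl⟩ : ∃ j, i = j + 1 := ⟨i - 1, by omega⟩
  have hN : PicF.IsInvertible (CohB1.tensorPow L m) :=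
    Groth.Agent.Lib.Helper3.InvTensor.isInvertible_tensorPow hL.1 m
  have hS := AmpleH1.shortExact_tw hN _
    (shortExact_sesJ ((W4c2seshadripos.pointIdeal x hx) ^ a))
  refine sub_X₁ _ hS j (hm₀ m hm (j + 1) (by omega)) ?_
  exact sub_of_support_subset_point x hx _ _ (Hypersurf.isCoh_quotMod _) hN
    ((support_quotMod_subset _).trans (support_pointIdeal_pow x hx a)) j (by omega)

include k in
theorem nontrivial_h1_succ (L : X.Modules) (hL : PicF.IsInvertible L) (a m : ℕ)
    (h : Nontrivial (Coh.HH X (CohB1.tensorMod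
      (ClSub.idealMod ((W4c2seshadripos.pointIdeal x hx) ^ a)) (CohB1.tensorPow L m)) 1)) :
    Nontrivial (Coh.HH X (CohB1.tensorMod
      (ClSub.idealMod ((W4c2seshadripos.pointIdeal x hx) ^ (a + 1))) (CohB1.tensorPow L m)) 1) := by
  haveI := Groth.Agent.Lib.Helper23.HilbP.isNoetherian_of_isProper k X
  by_contra hn
  rw [not_nontrivial_iff_subsingleton] at hn
  have hN : PicF.IsInvertible (CohB1.tensorPow L m) :=
    Groth.Agent.Lib.Helper3.InvTensor.isInvertible_tensorPow hL m
  set I := W4c2seshadripos.pointIdeal x hx with hI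
  have hle : I ^ (a + 1) ≤ I ^ a := by
    rw [pow_succ, Scheme.IdealSheafData.le_def]
    intro U
    rw [Scheme.IdealSheafData.ideal_mul]
    exact Ideal.mul_le_left (I := (I ^ a).ideal U) (J := I.ideal U)
  have hS₀ : (ShortComplex.mk (InvEnd.incl (I ^ a) (I ^ (a + 1)) hle)
      (cokernel.π (InvEnd.incl (I ^ a) (I ^ (a + 1)) hle)) (cokernel.condition _)).ShortExact :=
    DevKey.shortExact_of_mono _
  have hS := AmpleH1.shortExact_tw hN _ hS₀
  have hQ : Coh.IsCoh (cokernel (InvEnd.incl (I ^ a) (I ^ (a + 1)) hle)) :=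
    isCoh_cokernel _ (isCoh_idealMod _).1 (isCoh_idealMod _)
  have h3 := sub_of_support_subset_point x hx _ _ hQ hN
    ((support_cokernel_incl _ _ hle).trans (support_pointIdeal_pow x hx (a + 1))) 1 (by omega)
  have h2 := subsingleton_H1_middle _ hS 1 hn h3
  exact not_nontrivial_iff_subsingleton.2 h2 h

end Pt

end Groth.Agent.Lib.Helper23.JetVan
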