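import Groth.Agent.Lib.Helper23.KunC

/-! Tensoring a cochain `γ : Cochain K K' s` with the identity of `X`, giving a cochain
`tens K X → tens K' X` of the same degree; compatibility with sums, composition and `δ`. -/

set_option autoImplicit false
universe u
open CategoryTheory Limits HomologicalComplex MonoidalCategory TensorProduct DirectSum
open CochainComplex HomComplex

namespace Groth.Agent.Lib.Helper23.Kun

open Groth.Agent.Lib.Helper2.Tot

variable {R : Type u} [CommRing R]

lemma tens_hom_ext {L M : Cx R} {n : ℤ} {N : Type*} [AddCommGroup N] [Module R N]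
    (f g : (tens L M).X n →ₗ[R] N)
    (h : ∀ (i j : ℤ) (hij : i + j = n) (t : L.X i ⊗[R] M.X j),
      f (inc L M i j n hij t) = g (inc L M i j n hij t)) : f = g := by
  apply LinearMap.ext
  intro x
  induction x using tens_induction L M with
  | zero => rw [map_zero, map_zero]
  | add x y hx hy => rw [map_add, map_add, hx, hy]
  | incK k t => exact h k.1.1 k.1.2 (idx_eq k) t

variable {K K' K'' : Cx R} (X : Cx R)

/-- Components of the tensored cochain. -/
noncomputable def tcComp {s : ℤ} (γ : Cochain K K' s) (n n' : ℤ) (hn : n + s = n') :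
    (tens K X).X n →ₗ[R] (tens K' X).X n' :=
  (DirectSum.toModule R (Idx n) ((tens K' X).X n') (fun k =>
    inc K' X (k.1.1 + s) k.1.2 n' (by have := idx_eq k; omega) ∘ₗ
      LinearMap.rTensor (X.X k.1.2) (γ.v k.1.1 (k.1.1 + s) rfl).hom)) ∘ₗ (dsIso K X n).hom.hom

lemma tcComp_inc {s : ℤ} (γ : Cochain K K' s) (i i' j n n' : ℤ) (hi : i + s = i')
    (h : i + j = n) (hn : n + s = n') (t : K.X i ⊗[R] X.X j) :
    tcComp X γ n n' hn (inc K X i j n h t) =
      inc K' X i' j n' (by omega) (LinearMap.rTensor (X.X j) (γ.v i i' hi).hom t) := by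
  subst hi
  unfold tcComp
  rw [LinearMap.comp_apply]
  have h1 := dsIso_incK K X n (mkIdx i j n h) t
  change (dsIso K X n).hom.hom (inc K X i j n h t) = _ at h1
  rw [h1]
  exact DirectSum.toModule_lof R (M := fun k : Idx n => summ K X n k) (mkIdx i j n h) t

/-- The tensored cochain `γ ⊗ X`. -/
noncomputable def tc {s : ℤ} (γ : Cochain K K' s) : Cochain (tens K X) (tens K' X) s :=
  Cochain.mk (fun p q hpq => ModuleCat.ofHom (tcComp X γ p q hpq))

lemma tc_v_inc {s : ℤ} (γ : Cochain K K' s) (i i' j n n' : ℤ) (hi : i + s = i')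
    (h : i + j = n) (hn : n + s = n') (t : K.X i ⊗[R] X.X j) :
    ((tc X γ).v n n' hn).hom (inc K X i j n h t) =
      inc K' X i' j n' (by omega) (LinearMap.rTensor (X.X j) (γ.v i i' hi).hom t) :=
  tcComp_inc X γ i i' j n n' hi h hn t

lemma cochain_ext_inc {s : ℤ} (a b : Cochain (tens K X) (tens K' X) s)
    (h : ∀ (i j n n' : ℤ) (hij : i + j = n) (hn : n + s = n') (t : K.X i ⊗[R] X.X j),
      (a.v n n' hn).hom (inc K X i j n hij t) = (b.v n n' hn).hom (inc K X i j n hij t)) :
    a = b := by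
  ext p q hpq : 1
  apply ModuleCat.hom_ext
  apply tens_hom_ext
  intro i j hij t
  exact h i j p q hij hpq t

lemma tc_zero (s : ℤ) : tc X (0 : Cochain K K' s) = 0 := by
  apply cochain_ext_inc
  intro i j n n' hij hn t
  rw [tc_v_inc X _ i (i + s) j n n' rfl hij hn]
  simp

lemma tc_add {s : ℤ} (γ γ' : Cochain K K' s) : tc X (γ + γ') = tc X γ + tc X γ' := by
  apply cochain_ext_inc
  intro i j n n' hij hn t
  rw [tc_v_inc X _ i (i + s) j n n' rfl hij hn, Cochain.add_v, Cochain.add_v,
    ModuleCat.hom_add, ModuleCat.hom_add, LinearMap.rTensor_add, LinearMap.add_apply, map_add,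
    LinearMap.add_apply, tc_v_inc X γ i (i + s) j n n' rfl hij hn,
    tc_v_inc X γ' i (i + s) j n n' rfl hij hn]

lemma tc_neg {s : ℤ} (γ : Cochain K K' s) : tc X (-γ) = -tc X γ := by
  apply cochain_ext_inc
  intro i j n n' hij hn t
  rw [tc_v_inc X _ i (i + s) j n n' rfl hij hn, Cochain.neg_v, Cochain.neg_v,
    ModuleCat.hom_neg, ModuleCat.hom_neg, LinearMap.rTensor_neg, LinearMap.neg_apply, map_neg,
    LinearMap.neg_apply, tc_v_inc X γ i (i + s) j n n' rfl hij hn]

lemma tc_units_smul {s : ℤ} (u : ℤˣ) (γ : Cochain K K' s) : tc X (u • γ) = u • tc X γ := by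
  rcases Int.units_eq_one_or u with rfl | rfl
  · rw [one_smul, one_smul]
  · rw [Units.neg_smul, one_smul, Units.neg_smul, one_smul, tc_neg]

lemma tc_comp {s s' s'' : ℤ} (γ : Cochain K K' s) (γ' : Cochain K' K'' s') (h : s + s' = s'') :
    tc X (γ.comp γ' h) = (tc X γ).comp (tc X γ') h := by
  apply cochain_ext_inc
  intro i j n n' hij hn t
  rw [tc_v_inc X _ i (i + s'') j n n' rfl hij hn,
    Cochain.comp_v _ _ h n (n + s) n' rfl (by omega), ModuleCat.hom_comp, LinearMap.comp_apply,
    tc_v_inc X γ i (i + s) j n (n + s) rfl hij rfl,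
    tc_v_inc X γ' (i + s) (i + s'') j (n + s) n' (by omega) (by omega) (by omega),
    Cochain.comp_v _ _ h i (i + s) (i + s'') rfl (by omega), ModuleCat.hom_comp,
    LinearMap.rTensor_comp, LinearMap.comp_apply]

variable {X} in
lemma map_inc_left (f : K ⟶ K') (i j n : ℤ) (h : i + j = n) (t : K.X i ⊗[R] X.X j) :
    ((HomologicalComplex.tensorHom f (𝟙 X)).f n).hom (inc K X i j n h t) =
      inc K' X i j n h (LinearMap.rTensor (X.X j) (f.f i).hom t) := by
  have := congrArg (fun g => g.hom t)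
    (ι_mapBifunctorMap f (𝟙 X) (curriedTensor (ModuleCat.{u} R)) (ComplexShape.up ℤ) i j n h)
  simp only [ModuleCat.hom_comp, LinearMap.comp_apply] at this
  rw [inc_def]
  erw [this]
  simp
  rfl

lemma tc_ofHom (f : K ⟶ K') :
    tc X (Cochain.ofHom f) = Cochain.ofHom (HomologicalComplex.tensorHom f (𝟙 X)) := by
  apply cochain_ext_inc
  intro i j n n' hij hn t
  obtain rfl : n = n' := by omega
  rw [tc_v_inc X _ i i j n n (add_zero i) hij hn, Cochain.ofHom_v, Cochain.ofHom_v,
    map_inc_left]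

end Groth.Agent.Lib.Helper23.Kun
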