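import Groth.Agent.Lib.Helper23.KosA

/-! `δ (γ ⊗ X) = (δ γ) ⊗ X`. -/

set_option autoImplicit false
universe u
open CategoryTheory Limits HomologicalComplex MonoidalCategory TensorProduct DirectSum
open CochainComplex HomComplex

namespace Groth.Agent.Lib.Helper23.Kun

open Groth.Agent.Lib.Helper2.Tot

variable {R : Type u} [CommRing R] {K K' : Cx R} (X : Cx R)

lemma negOnePow_cancel (i s m : ℤ) (hm : s + 1 = m) {N : Type*} [AddCommGroup N] (x : N) :
    (((i + s).negOnePow : ℤˣ) : ℤ) • x +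
      ((m.negOnePow : ℤˣ) : ℤ) • (((i.negOnePow : ℤˣ) : ℤ) • x) = 0 := by
  subst hm
  rw [smul_smul, ← add_smul]
  have : (((i + s).negOnePow : ℤˣ) : ℤ) + (((s + 1).negOnePow : ℤˣ) : ℤ) * ((i.negOnePow : ℤˣ) : ℤ)
      = 0 := by
    rw [Int.negOnePow_add, Int.negOnePow_add, Int.negOnePow_one]
    push_cast
    ring
  rw [this, zero_smul]

theorem tc_δ {s m : ℤ} (hm : s + 1 = m) (γ : Cochain K K' s) :
    δ s m (tc X γ) = tc X (δ s m γ) := by
  apply cochain_ext_inc
  intro i j n n' hij hn t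
  rw [δ_v s m hm (tc X γ) n n' hn (n' - 1) (n + 1) rfl rfl]
  rw [tc_v_inc X (δ s m γ) i (i + m) j n n' rfl hij hn]
  rw [δ_v s m hm γ i (i + m) rfl (i + s) (i + 1) (by omega) rfl]
  simp only [ModuleCat.hom_add, ModuleCat.hom_comp, LinearMap.add_apply, LinearMap.comp_apply,
    Units.smul_def, ModuleCat.hom_zsmul, LinearMap.smul_apply, LinearMap.rTensor_add,
    LinearMap.rTensor_comp, map_add]
  rw [tc_v_inc X γ i (i + s) j n (n' - 1) rfl hij (by omega)]
  rw [d_inc' K' X (i + s) j (n' - 1) n' (i + m) (j + 1) (by omega) (by omega) (by omega) rfl]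
  rw [d_inc' K X i j n (n + 1) (i + 1) (j + 1) hij rfl rfl rfl]
  rw [map_add, map_zsmul]
  rw [tc_v_inc X γ (i + 1) (i + m) j (n + 1) n' (by omega) (by omega) (by omega)]
  rw [tc_v_inc X γ i (i + s) (j + 1) (n + 1) n' rfl (by omega) (by omega)]
  have hcomm : LinearMap.rTensor (X.X (j + 1)) (γ.v i (i + s) rfl).hom
      (LinearMap.lTensor (K.X i) (X.d j (j + 1)).hom t) =
      LinearMap.lTensor (K'.X (i + s)) (X.d j (j + 1)).hom
        (LinearMap.rTensor (X.X j) (γ.v i (i + s) rfl).hom t) := by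
    rw [← LinearMap.comp_apply, ← LinearMap.comp_apply, LinearMap.rTensor_comp_lTensor,
      LinearMap.lTensor_comp_rTensor]
  rw [hcomm]
  have hz : ∀ (k : ℤ) (a : K.X i →ₗ[R] K'.X (i + m)), LinearMap.rTensor (X.X j) (k • a) =
      k • LinearMap.rTensor (X.X j) a := fun k a =>
    map_zsmul (LinearMap.rTensorHom (R := R) (N := K.X i) (P := K'.X (i + m)) (X.X j)) k a
  rw [hz, LinearMap.smul_apply, LinearMap.rTensor_comp, LinearMap.comp_apply]
  rw [map_zsmul, smul_add, add_add_add_comm, negOnePow_cancel i s m hm, add_zero]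

end Groth.Agent.Lib.Helper23.Kun
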