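import Groth.Agent.Lib.Helper23.KosB

/-! `Cone(φ) ⊗ X ≅ Cone(φ ⊗ X)` for complexes of modules. -/

set_option autoImplicit false
universe u
open CategoryTheory Limits HomologicalComplex MonoidalCategory TensorProduct DirectSum
open CochainComplex HomComplex

namespace Groth.Agent.Lib.Helper23.Kun

open Groth.Agent.Lib.Helper2.Tot

variable {R : Type u} [CommRing R]

lemma tc_id (K X : Cx R) : tc X (Cochain.ofHom (𝟙 K)) = Cochain.ofHom (𝟙 (tens K X)) := by
  apply cochain_ext_inc
  intro i j n n' hij hn t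
  obtain rfl : n = n' := by omega
  rw [tc_v_inc X _ i i j n n (add_zero i) hij hn, Cochain.ofHom_v, Cochain.ofHom_v]
  simp

variable {F G : Cx R} (φ : F ⟶ G) (X : Cx R)

/-- `φ ⊗ X`. -/
noncomputable abbrev whisk : tens F X ⟶ tens G X := HomologicalComplex.tensorHom φ (𝟙 X)

lemma tc_fst_cocycle : δ 1 2 (tc X (mappingCone.fst φ).1) = 0 := by
  rw [tc_δ X (by norm_num) (mappingCone.fst φ).1, Cocycle.δ_eq_zero, tc_zero]

lemma tc_snd_eq : δ 0 1 (tc X (mappingCone.snd φ)) +
    (Cocycle.mk (tc X (mappingCone.fst φ).1) 2 (by norm_num) (tc_fst_cocycle φ X)).1.comp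
      (Cochain.ofHom (whisk φ X)) (add_zero 1) = 0 := by
  rw [tc_δ X (by norm_num) (mappingCone.snd φ), mappingCone.δ_snd, tc_neg, tc_comp, tc_ofHom]
  exact neg_add_cancel _

/-- `Cone(φ) ⊗ X ⟶ Cone(φ ⊗ X)`. -/
noncomputable def coneTensHom : tens (mappingCone φ) X ⟶ mappingCone (whisk φ X) :=
  mappingCone.lift (whisk φ X)
    (Cocycle.mk (tc X (mappingCone.fst φ).1) 2 (by norm_num) (tc_fst_cocycle φ X))
    (tc X (mappingCone.snd φ)) (tc_snd_eq φ X)

lemma tc_inl_eq : δ (-1) 0 (tc X (mappingCone.inl φ)) =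
    Cochain.ofHom (whisk φ X ≫ whisk (mappingCone.inr φ) X) := by
  rw [tc_δ X (by norm_num) (mappingCone.inl φ), mappingCone.δ_inl, tc_ofHom]
  congr 1
  ext n : 1
  apply ModuleCat.hom_ext
  apply tens_hom_ext
  intro i j hij t
  rw [HomologicalComplex.comp_f, ModuleCat.hom_comp, LinearMap.comp_apply, map_inc_left,
    map_inc_left, map_inc_left, HomologicalComplex.comp_f, ModuleCat.hom_comp,
    LinearMap.rTensor_comp, LinearMap.comp_apply]

/-- `Cone(φ ⊗ X) ⟶ Cone(φ) ⊗ X`. -/
noncomputable def coneTensInv : mappingCone (whisk φ X) ⟶ tens (mappingCone φ) X :=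
  mappingCone.desc (whisk φ X) (tc X (mappingCone.inl φ)) (whisk (mappingCone.inr φ) X)
    (tc_inl_eq φ X)

lemma tc_comp_v {K K' K'' : Cx R} {s s' s'' : ℤ} (γ : Cochain K K' s) (γ' : Cochain K' K'' s')
    (h : s + s' = s'') (p q r : ℤ) (hpq : p + s = q) (hqr : q + s' = r) :
    (tc X γ).v p q hpq ≫ (tc X γ').v q r hqr = (tc X (γ.comp γ' h)).v p r (by omega) := by
  rw [tc_comp, Cochain.comp_v _ _ h p q r hpq hqr]

lemma coneTensHom_inv : coneTensHom φ X ≫ coneTensInv φ X = 𝟙 _ := by
  ext p : 1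
  rw [HomologicalComplex.comp_f, HomologicalComplex.id_f]
  unfold coneTensHom coneTensInv
  rw [mappingCone.lift_f _ _ _ _ p (p + 1) rfl, Preadditive.add_comp, Category.assoc,
    Category.assoc, mappingCone.inl_v_desc_f, mappingCone.inr_f_desc_f]
  change (tc X (mappingCone.fst φ).1).v p (p + 1) rfl ≫ (tc X (mappingCone.inl φ)).v (p + 1) p _ +
    (tc X (mappingCone.snd φ)).v p p (add_zero p) ≫ (whisk (mappingCone.inr φ) X).f p = _
  have h2 : (whisk (mappingCone.inr φ) X).f p =
      (tc X (Cochain.ofHom (mappingCone.inr φ))).v p p (add_zero p) := by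
    rw [tc_ofHom, Cochain.ofHom_v]
  rw [h2, tc_comp_v X _ _ (add_neg_cancel 1), tc_comp_v X _ _ (add_zero 0), ← Cochain.add_v,
    ← tc_add, mappingCone.id, tc_id, Cochain.ofHom_v, HomologicalComplex.id_f]

lemma coneTensInv_hom : coneTensInv φ X ≫ coneTensHom φ X = 𝟙 _ := by
  ext p : 1
  rw [HomologicalComplex.comp_f, HomologicalComplex.id_f]
  have hr : (whisk (mappingCone.inr φ) X).f p =
      (tc X (Cochain.ofHom (mappingCone.inr φ))).v p p (add_zero p) := by
    rw [tc_ofHom, Cochain.ofHom_v]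
  apply mappingCone.ext_from (whisk φ X) (p + 1) p rfl
  · apply mappingCone.ext_to (whisk φ X) p (p + 1) rfl
    · unfold coneTensHom coneTensInv
      rw [Category.assoc, Category.assoc, mappingCone.lift_f_fst_v, mappingCone.inl_v_desc_f_assoc,
        Category.comp_id, mappingCone.inl_v_fst_v]
      change (tc X (mappingCone.inl φ)).v (p + 1) p _ ≫
        (tc X (mappingCone.fst φ).1).v p (p + 1) rfl = _
      rw [tc_comp_v X _ _ (neg_add_cancel 1), mappingCone.inl_fst, tc_id, Cochain.ofHom_v,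
        HomologicalComplex.id_f]
    · unfold coneTensHom coneTensInv
      rw [Category.assoc, Category.assoc, mappingCone.lift_f_snd_v, mappingCone.inl_v_desc_f_assoc,
        Category.comp_id, mappingCone.inl_v_snd_v]
      rw [tc_comp_v X _ _ (add_zero (-1)), mappingCone.inl_snd, tc_zero, Cochain.zero_v]
  · apply mappingCone.ext_to (whisk φ X) p (p + 1) rfl
    · unfold coneTensHom coneTensInv
      rw [Category.assoc, Category.assoc, mappingCone.lift_f_fst_v, mappingCone.inr_f_desc_f_assoc,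
        Category.comp_id, mappingCone.inr_f_fst_v]
      change (whisk (mappingCone.inr φ) X).f p ≫ (tc X (mappingCone.fst φ).1).v p (p + 1) rfl = _
      rw [hr, tc_comp_v X _ _ (zero_add 1), mappingCone.inr_fst, tc_zero, Cochain.zero_v]
    · unfold coneTensHom coneTensInv
      rw [Category.assoc, Category.assoc, mappingCone.lift_f_snd_v, mappingCone.inr_f_desc_f_assoc,
        Category.comp_id, mappingCone.inr_f_snd_v]
      rw [hr, tc_comp_v X _ _ (zero_add 0), mappingCone.inr_snd, tc_id, Cochain.ofHom_v,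
        HomologicalComplex.id_f]

/-- `Cone(φ) ⊗ X ≅ Cone(φ ⊗ X)`. -/
noncomputable def coneTensIso : tens (mappingCone φ) X ≅ mappingCone (whisk φ X) where
  hom := coneTensHom φ X
  inv := coneTensInv φ X
  hom_inv_id := coneTensHom_inv φ X
  inv_hom_id := coneTensInv_hom φ X

end Groth.Agent.Lib.Helper23.Kun
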