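import Mathlib
import Groth.Prelude.Def_W4c2quivmodsheafKron

/-! Auxiliary lemmas on Kronecker modules (helper23). -/

set_option linter.unusedSectionVars false

namespace Groth.Agent.Lib.Helper23.KronModAux
open KronMod Module

variable {K : Type*} [Field K] {V W : Type*} [AddCommGroup V] [Module K V]
  [AddCommGroup W] [Module K W] {n : ℕ}

/-- the sum map `Vⁿ → W`. -/
noncomputable def sumMap (f : Fin n → (V →ₗ[K] W)) : (Fin n → V) →ₗ[K] W :=
  ∑ j, (f j).comp (LinearMap.proj j)

@[simp] lemma sumMap_apply (f : Fin n → (V →ₗ[K] W)) (v : Fin n → V) :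
    sumMap f v = ∑ j, f j (v j) := by
  simp [sumMap, LinearMap.sum_apply]

lemma sumMap_coe (f : Fin n → (V →ₗ[K] W)) :
    (fun v : Fin n → V => ∑ j, f j (v j)) = ⇑(sumMap f) := by
  funext v; exact (sumMap_apply f v).symm

lemma sumMap_single (f : Fin n → (V →ₗ[K] W)) (j : Fin n) (v : V) :
    sumMap f (Pi.single j v) = f j v := by
  classical
  rw [sumMap_apply, Finset.sum_eq_single j]
  · simp
  · intro b _ hb; simp [Pi.single_eq_of_ne hb]
  · intro h; exact absurd (Finset.mem_univ j) h

/-- the tuple map `V → Wⁿ`. -/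
def tupleMap (f : Fin n → (V →ₗ[K] W)) : V →ₗ[K] (Fin n → W) := LinearMap.pi f

@[simp] lemma tupleMap_apply (f : Fin n → (V →ₗ[K] W)) (v : V) (j : Fin n) :
    tupleMap f v j = f j v := rfl

lemma tupleMap_coe (f : Fin n → (V →ₗ[K] W)) :
    (fun v : V => fun j : Fin n => f j v) = ⇑(tupleMap f) := rfl

lemma isSubrep_iff (f : Fin n → (V →ₗ[K] W)) (V' : Submodule K V) (W' : Submodule K W) :
    IsSubrep f V' W' ↔ ∀ j, ∀ v ∈ V', f j v ∈ W' := by
  unfold IsSubrep
  refine forall_congr' fun j => ?_
  rw [Submodule.map_le_iff_le_comap]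
  rfl

lemma IsStable.isSemistable {f : Fin n → (V →ₗ[K] W)} (h : IsStable f) : IsSemistable f :=
  ⟨h.1, fun V' W' hs h1 h2 => (h.2 V' W' hs h1 h2).le⟩

lemma top_ne_bot_of_finrank_pos (hV : 0 < finrank K V) : (⊤ : Submodule K V) ≠ ⊥ := by
  intro h
  have h1 : finrank K (⊤ : Submodule K V) = finrank K (⊥ : Submodule K V) := by rw [h]
  rw [finrank_top, finrank_bot] at h1
  omega

variable [FiniteDimensional K V] [FiniteDimensional K W]

lemma finrank_fin_pi (U : Type*) [AddCommGroup U] [Module K U] [FiniteDimensional K U] :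
    finrank K (Fin n → U) = n * finrank K U := by
  rw [Module.finrank_pi_fintype]
  simp

lemma card_mul_finrank_le (f : Fin n → (V →ₗ[K] W)) (hinj : Function.Injective (sumMap f))
    {V' : Submodule K V} {W' : Submodule K W} (h : IsSubrep f V' W') :
    n * finrank K V' ≤ finrank K W' := by
  have hsub := (isSubrep_iff f V' W').mp h
  let φ' : (Fin n → V') →ₗ[K] W' :=
    LinearMap.codRestrict W'
      ((sumMap f).comp (LinearMap.pi (fun j => V'.subtype.comp (LinearMap.proj j)))) (by
        intro v
        rw [LinearMap.comp_apply, sumMap_apply]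
        exact W'.sum_mem (fun j _ => hsub j _ (v j).2))
  have hinj' : Function.Injective φ' := by
    intro a b hab
    have h1 : sumMap f (fun j => (a j : V)) = sumMap f (fun j => (b j : V)) :=
      congrArg Subtype.val hab
    have h2 := hinj h1
    funext j
    exact Subtype.ext (congrFun h2 j)
  have := LinearMap.finrank_le_finrank_of_injective hinj'
  rwa [finrank_fin_pi] at this

omit [FiniteDimensional K V] in
lemma finrank_le_card_mul (f : Fin n → (V →ₗ[K] W)) (hinj : Function.Injective (tupleMap f))
    {V' : Submodule K V} {W' : Submodule K W} (h : IsSubrep f V' W') :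
    finrank K V' ≤ n * finrank K W' := by
  have hsub := (isSubrep_iff f V' W').mp h
  let ψ' : V' →ₗ[K] (Fin n → W') :=
    LinearMap.pi (fun j => LinearMap.codRestrict W' ((f j).comp V'.subtype)
      (fun v => hsub j v v.2))
  have hinj' : Function.Injective ψ' := by
    intro a b hab
    apply Subtype.ext
    apply hinj
    funext j
    exact congrArg Subtype.val (congrFun hab j)
  have := LinearMap.finrank_le_finrank_of_injective hinj'
  rwa [finrank_fin_pi] at this

lemma isSemistable_of_sumMap_injective (f : Fin n → (V →ₗ[K] W)) (hV : 0 < finrank K V)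
    (hW : finrank K W = n * finrank K V) (hinj : Function.Injective (sumMap f)) :
    IsSemistable f := by
  refine ⟨by omega, fun V' W' h _ _ => ?_⟩
  have := card_mul_finrank_le f hinj h
  rw [hW]
  calc n * finrank K V * finrank K V' = finrank K V * (n * finrank K V') := by ring
    _ ≤ finrank K V * finrank K W' := Nat.mul_le_mul_left _ this

lemma sumMap_bijective_of_isSemistable (f : Fin n → (V →ₗ[K] W)) (hV : 0 < finrank K V)
    (hW : finrank K W = n * finrank K V) (hs : IsSemistable f) :
    Function.Bijective (sumMap f) := by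
  have hdim : finrank K (Fin n → V) = finrank K W := by rw [hW, finrank_fin_pi]
  have hsurj : Function.Surjective (sumMap f) := by
    rw [← LinearMap.range_eq_top]
    by_contra hne
    have hsub : IsSubrep f ⊤ (LinearMap.range (sumMap f)) :=
      (isSubrep_iff _ _ _).mpr (fun j v _ => ⟨Pi.single j v, sumMap_single f j v⟩)
    have h1 := hs.2 ⊤ _ hsub (fun h => top_ne_bot_of_finrank_pos hV h.1) (fun h => hne h.2)
    rw [finrank_top] at h1
    have h2 : finrank K (LinearMap.range (sumMap f)) < finrank K W := Submodule.finrank_lt hne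
    have h3 : finrank K V * finrank K (LinearMap.range (sumMap f)) <
        finrank K V * finrank K W := Nat.mul_lt_mul_of_pos_left h2 hV
    rw [Nat.mul_comm (finrank K W)] at h1
    omega
  exact ⟨(LinearMap.injective_iff_surjective_of_finrank_eq_finrank hdim).mpr hsurj, hsurj⟩

lemma isSemistable_of_tupleMap_injective (f : Fin n → (V →ₗ[K] W)) (hW : 0 < finrank K W)
    (hV : finrank K V = n * finrank K W) (hinj : Function.Injective (tupleMap f)) :
    IsSemistable f := by
  refine ⟨by omega, fun V' W' h _ _ => ?_⟩
  have := finrank_le_card_mul f hinj h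
  rw [hV]
  calc finrank K W * finrank K V' ≤ finrank K W * (n * finrank K W') :=
        Nat.mul_le_mul_left _ this
    _ = n * finrank K W * finrank K W' := by ring

lemma tupleMap_bijective_of_isSemistable (f : Fin n → (V →ₗ[K] W)) (hW : 0 < finrank K W)
    (hV : finrank K V = n * finrank K W) (hs : IsSemistable f) :
    Function.Bijective (tupleMap f) := by
  have hdim : finrank K V = finrank K (Fin n → W) := by rw [hV, finrank_fin_pi]
  have hinj : Function.Injective (tupleMap f) := by
    rw [← LinearMap.ker_eq_bot]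
    by_contra hne
    have hsub : IsSubrep f (LinearMap.ker (tupleMap f)) ⊥ := by
      refine (isSubrep_iff _ _ _).mpr (fun j v hv => ?_)
      rw [Submodule.mem_bot]
      exact congrFun (LinearMap.mem_ker.mp hv) j
    have h1 := hs.2 _ ⊥ hsub (fun h => hne h.1)
      (fun h => top_ne_bot_of_finrank_pos hW h.2.symm)
    rw [finrank_bot, Nat.mul_zero] at h1
    have h2 : finrank K (LinearMap.ker (tupleMap f)) ≠ 0 := fun h0 =>
      hne (Submodule.finrank_eq_zero.mp h0)
    have h3 : 0 < finrank K W * finrank K (LinearMap.ker (tupleMap f)) :=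
      Nat.mul_pos hW (Nat.pos_of_ne_zero h2)
    omega
  exact ⟨hinj, (LinearMap.injective_iff_surjective_of_finrank_eq_finrank hdim).mp hinj⟩

end Groth.Agent.Lib.Helper23.KronModAux
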