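import Mathlib

/-!
Consequences of Krull's height theorem for generators of the maximal ideal of a Noetherian local
ring, and stability of the maximal ideal (and its square) under ring automorphisms coming from a
group action.
-/

namespace Groth.Agent.Lib.Helper23.KrullGen

/-- In a Noetherian local ring of Krull dimension `n`, a finite subset `s` of the maximal ideal
whose span has radical containing the maximal ideal has at least `n` elements. -/
theorem le_card_of_maximalIdeal_le_radical {A : Type*} [CommRing A] [IsLocalRing A]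
    [IsNoetherianRing A] (n : ℕ) (hn : ringKrullDim A = n) (s : Finset A)
    (hs : ∀ x ∈ s, x ∈ IsLocalRing.maximalIdeal A)
    (hrad : IsLocalRing.maximalIdeal A ≤ (Ideal.span (s : Set A)).radical) : n ≤ s.card := by
  have hle : Ideal.span (s : Set A) ≤ IsLocalRing.maximalIdeal A := Ideal.span_le.mpr hs
  have hmin : IsLocalRing.maximalIdeal A ∈ (Ideal.span (s : Set A)).minimalPrimes := by
    refine ⟨⟨inferInstance, hle⟩, fun q hq _ => ?_⟩
    exact hrad.trans (hq.1.radical_le_iff.mpr hq.2)
  have h1 := Ideal.height_le_card_of_mem_minimalPrimes_span_finset hmin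
  have h2 : ((IsLocalRing.maximalIdeal A).height : WithBot ℕ∞) = (n : WithBot ℕ∞) := by
    rw [IsLocalRing.maximalIdeal_height_eq_ringKrullDim, hn]
  have h3 : (IsLocalRing.maximalIdeal A).height = (n : ℕ∞) := by exact_mod_cast h2
  rw [h3] at h1
  exact_mod_cast h1

/-- A ring automorphism coming from a group action preserves the maximal ideal. -/
theorem smul_mem_maximalIdeal {A : Type*} [CommRing A] [IsLocalRing A]
    {G : Type*} [Group G] [MulSemiringAction G A] (σ : G) (x : A)
    (hx : x ∈ IsLocalRing.maximalIdeal A) : σ • x ∈ IsLocalRing.maximalIdeal A := by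
  rw [IsLocalRing.mem_maximalIdeal, mem_nonunits_iff] at hx ⊢
  intro hunit
  apply hx
  have h := hunit.map (MulSemiringAction.toRingHom G A σ⁻¹)
  rwa [MulSemiringAction.toRingHom_apply, inv_smul_smul] at h

/-- A ring automorphism coming from a group action preserves powers of the maximal ideal. -/
theorem smul_mem_maximalIdeal_pow {A : Type*} [CommRing A] [IsLocalRing A]
    {G : Type*} [Group G] [MulSemiringAction G A] (σ : G) (k : ℕ) (x : A)
    (hx : x ∈ IsLocalRing.maximalIdeal A ^ k) : σ • x ∈ IsLocalRing.maximalIdeal A ^ k := by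
  have h1 : IsLocalRing.maximalIdeal A ^ k ≤
      Ideal.comap (MulSemiringAction.toRingHom G A σ) (IsLocalRing.maximalIdeal A ^ k) := by
    rw [← Ideal.map_le_iff_le_comap, Ideal.map_pow]
    apply Ideal.pow_right_mono
    rw [Ideal.map_le_iff_le_comap]
    intro y hy
    rw [Ideal.mem_comap, MulSemiringAction.toRingHom_apply]
    exact smul_mem_maximalIdeal σ y hy
  have h2 := h1 hx
  rwa [Ideal.mem_comap, MulSemiringAction.toRingHom_apply] at h2

/-- Nakayama: in a Noetherian local ring, `m ≤ N ⊔ m ^ 2` implies `m ≤ N`. -/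
theorem maximalIdeal_le_of_le_sup_sq {A : Type*} [CommRing A] [IsLocalRing A]
    [IsNoetherianRing A] (N : Ideal A)
    (hN : IsLocalRing.maximalIdeal A ≤ N ⊔ IsLocalRing.maximalIdeal A ^ 2) :
    IsLocalRing.maximalIdeal A ≤ N := by
  apply Submodule.le_of_le_smul_of_le_jacobson_bot (I := IsLocalRing.maximalIdeal A)
    (IsNoetherian.noetherian (IsLocalRing.maximalIdeal A))
    (IsLocalRing.maximalIdeal_le_jacobson ⊥)
  rwa [Ideal.smul_eq_mul, ← pow_two]

end Groth.Agent.Lib.Helper23.KrullGen
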