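import Groth.Prelude.Def_HTor

/-! Subquotient bookkeeping (`HTor.IsSubquotient`) and the abstract filtration pull-back step. -/

set_option autoImplicit false
universe u v

namespace Groth.Agent.Lib.Helper23.Kun

variable {R : Type v} [CommRing R]

section Sub

variable {N N' T T' Q : Type u} [AddCommGroup N] [Module R N] [AddCommGroup N'] [Module R N']
  [AddCommGroup T] [Module R T] [AddCommGroup T'] [Module R T'] [AddCommGroup Q] [Module R Q]

/-- A span `N ↞ Q ↪ T` exhibits `N` as a subquotient of `T`. -/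
theorem isSubquotient_of_span_inj (i : Q →ₗ[R] T) (hi : Function.Injective i) (f : Q →ₗ[R] N)
    (hf : Function.Surjective f) : HTor.IsSubquotient R N T := by
  refine ⟨(LinearMap.ker f).map i, LinearMap.range i, ?_, ⟨?_⟩⟩
  · rintro _ ⟨q, _, rfl⟩
    exact ⟨q, rfl⟩
  · let e : Q ≃ₗ[R] LinearMap.range i := LinearEquiv.ofInjective i hi
    have hmap : (LinearMap.ker f).map (e : Q →ₗ[R] LinearMap.range i) =
        Submodule.comap (LinearMap.range i).subtype ((LinearMap.ker f).map i) := by
      ext ⟨y, hy⟩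
      constructor
      · rintro ⟨q, hq, hqy⟩
        refine ⟨q, hq, ?_⟩
        have := congrArg Subtype.val hqy
        simpa [e] using this
      · rintro ⟨q, hq, hqy⟩
        refine ⟨q, hq, ?_⟩
        apply Subtype.ext
        simpa [e] using hqy
    exact (LinearMap.quotKerEquivOfSurjective f hf).symm.trans
      (Submodule.Quotient.equiv (LinearMap.ker f) _ e hmap)

/-- A span `N ↞ Q → T` with `ker (Q → T) ≤ ker (Q → N)` exhibits `N` as a subquotient of `T`. -/
theorem isSubquotient_of_span (i : Q →ₗ[R] T) (f : Q →ₗ[R] N)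
    (hf : Function.Surjective f) (hk : LinearMap.ker i ≤ LinearMap.ker f) :
    HTor.IsSubquotient R N T := by
  refine isSubquotient_of_span_inj (Q := Q ⧸ LinearMap.ker i)
    ((LinearMap.ker i).liftQ i le_rfl) ?_ ((LinearMap.ker i).liftQ f hk) ?_
  · rw [← LinearMap.ker_eq_bot]
    exact Submodule.ker_liftQ_eq_bot _ _ _ le_rfl
  · intro n
    obtain ⟨q, rfl⟩ := hf n
    exact ⟨Submodule.Quotient.mk q, by simp⟩

theorem exists_span_of_isSubquotient (h : HTor.IsSubquotient R N T) :
    ∃ (S' : Submodule R T) (f : S' →ₗ[R] N), Function.Surjective f := by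
  obtain ⟨S, S', _, ⟨e⟩⟩ := h
  refine ⟨S', e.symm.toLinearMap.comp (Submodule.mkQ _), ?_⟩
  exact e.symm.surjective.comp (Submodule.mkQ_surjective _)

theorem IsSubquotient.trans (h₁ : HTor.IsSubquotient R N T) (h₂ : HTor.IsSubquotient R T T') :
    HTor.IsSubquotient R N T' := by
  obtain ⟨S₁, f₁, hf₁⟩ := exists_span_of_isSubquotient h₁
  obtain ⟨S₂, f₂, hf₂⟩ := exists_span_of_isSubquotient h₂
  let Q' : Submodule R S₂ := Submodule.comap f₂ S₁
  have hr : ∀ x ∈ Q', f₂ x ∈ S₁ := fun x hx => hx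
  refine isSubquotient_of_span_inj (Q := Q') (S₂.subtype.comp Q'.subtype) ?_
    (f₁.comp ((f₂.domRestrict Q').codRestrict S₁ (fun x => x.2))) ?_
  · exact (Submodule.injective_subtype _).comp (Submodule.injective_subtype _)
  · intro n
    obtain ⟨s, rfl⟩ := hf₁ n
    obtain ⟨q, hq⟩ := hf₂ s.1
    refine ⟨⟨q, ?_⟩, ?_⟩
    · change f₂ q ∈ S₁
      rw [hq]; exact s.2
    · change f₁ _ = f₁ s
      congr 1
      exact Subtype.ext hq

theorem isSubquotient_of_injective (g : N →ₗ[R] N') (hg : Function.Injective g) :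
    HTor.IsSubquotient R N N' :=
  isSubquotient_of_span_inj g hg LinearMap.id Function.surjective_id

theorem isSubquotient_of_surjective (g : T →ₗ[R] N) (hg : Function.Surjective g) :
    HTor.IsSubquotient R N T :=
  isSubquotient_of_span_inj LinearMap.id Function.injective_id g hg

theorem isSubquotient_of_subsingleton [Subsingleton N] : HTor.IsSubquotient R N T :=
  isSubquotient_of_injective (0 : N →ₗ[R] T) (fun _ _ _ => Subsingleton.elim _ _)

theorem subsingleton_of_isSubquotient [Subsingleton T] (h : HTor.IsSubquotient R N T) :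
    Subsingleton N := by
  obtain ⟨S', f, hf⟩ := exists_span_of_isSubquotient h
  refine ⟨fun a b => ?_⟩
  obtain ⟨a', rfl⟩ := hf a
  obtain ⟨b', rfl⟩ := hf b
  rw [Subsingleton.elim a' b']

end Sub

section Pull

variable {H H' T : Type u} [AddCommGroup H] [Module R H] [AddCommGroup H'] [Module R H']
  [AddCommGroup T] [Module R T]

/-- Pull back a filtration along `a`, putting `ker a` in filtration degree `0`. -/
def pullF (a : H →ₗ[R] H') (F' : ℕ → Submodule R H') : ℕ → Submodule R H
  | 0 => LinearMap.ker a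
  | (p + 1) => Submodule.comap a (F' p)

lemma pullF_zero (a : H →ₗ[R] H') (F' : ℕ → Submodule R H') : pullF a F' 0 = LinearMap.ker a := rfl

lemma pullF_succ (a : H →ₗ[R] H') (F' : ℕ → Submodule R H') (p : ℕ) :
    pullF a F' (p + 1) = Submodule.comap a (F' p) := rfl

lemma pullF_monotone (a : H →ₗ[R] H') (F' : ℕ → Submodule R H') (hF' : Monotone F') :
    Monotone (pullF a F') := by
  apply monotone_nat_of_le_succ
  intro p
  cases p with
  | zero =>
    intro x hx
    change a x ∈ F' 0
    rw [LinearMap.mem_ker.1 hx]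
    exact Submodule.zero_mem _
  | succ p =>
    exact Submodule.comap_mono (hF' (Nat.le_succ p))

lemma pullF_top (a : H →ₗ[R] H') (F' : ℕ → Submodule R H') (N : ℕ) (hN : F' N = ⊤) :
    pullF a F' (N + 1) = ⊤ := by
  rw [pullF_succ, hN, Submodule.comap_top]

/-- The higher graded pieces of the pulled-back filtration embed into those of `F'`. -/
theorem exists_injective_grSucc (a : H →ₗ[R] H') (F' : ℕ → Submodule R H') (p : ℕ) :
    ∃ g : HTor.grSucc (pullF a F') (p + 1) →ₗ[R] HTor.grSucc F' p, Function.Injective g := by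
  let r : ↥(pullF a F' (p + 1 + 1)) →ₗ[R] ↥(F' (p + 1)) :=
    (a.domRestrict (pullF a F' (p + 1 + 1))).codRestrict (F' (p + 1)) (fun x => x.2)
  let g0 : ↥(pullF a F' (p + 1 + 1)) →ₗ[R] HTor.grSucc F' p :=
    (Submodule.mkQ _).comp r
  have hker : LinearMap.ker g0 =
      Submodule.comap (pullF a F' (p + 1 + 1)).subtype (pullF a F' (p + 1)) := by
    ext x
    simp only [g0, LinearMap.mem_ker, LinearMap.comp_apply, Submodule.mkQ_apply,
      Submodule.Quotient.mk_eq_zero, Submodule.mem_comap]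
    rfl
  refine ⟨Submodule.liftQ _ g0 hker.ge, ?_⟩
  rw [← LinearMap.ker_eq_bot]
  exact Submodule.ker_liftQ_eq_bot _ _ _ hker.le

/-- The bottom graded piece of the pulled-back filtration is a subquotient of `T` as soon as
`a (F 1) ⊆ range t`. -/
theorem isSubquotient_grSucc_zero (a : H →ₗ[R] H') (F' : ℕ → Submodule R H') (t : T →ₗ[R] H')
    (ht : ∀ x : H, a x ∈ F' 0 → a x ∈ LinearMap.range t) :
    HTor.IsSubquotient R (HTor.grSucc (pullF a F') 0) T := by
  let F1 : Submodule R H := pullF a F' (0 + 1)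
  let Q : Submodule R (↥F1 × T) :=
    LinearMap.ker ((a.comp (F1.subtype.comp (LinearMap.fst R ↥F1 T))) - t.comp (LinearMap.snd R ↥F1 T))
  have hQ : ∀ q : ↥F1 × T, q ∈ Q ↔ a q.1.1 = t q.2 := by
    intro q
    simp only [Q, LinearMap.mem_ker, LinearMap.sub_apply, LinearMap.comp_apply, sub_eq_zero]
    rfl
  refine isSubquotient_of_span (Q := Q) ((LinearMap.snd R ↥F1 T).comp Q.subtype)
    ((Submodule.mkQ _).comp ((LinearMap.fst R ↥F1 T).comp Q.subtype)) ?_ ?_
  · intro y
    obtain ⟨x, rfl⟩ := Submodule.mkQ_surjective _ y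
    obtain ⟨τ, hτ⟩ := ht x.1 x.2
    exact ⟨⟨(x, τ), (hQ _).2 hτ.symm⟩, rfl⟩
  · rintro ⟨⟨x, τ⟩, hq⟩ hk
    have h0 : τ = 0 := hk
    have h1 : a x.1 = t τ := (hQ _).1 hq
    rw [h0, map_zero] at h1
    simp only [LinearMap.mem_ker, LinearMap.comp_apply, Submodule.mkQ_apply,
      Submodule.Quotient.mk_eq_zero, Submodule.mem_comap]
    exact h1

end Pull

end Groth.Agent.Lib.Helper23.Kun
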