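import Mathlib
import Groth.Agent.Lib.Helper2.Tot.Exact
import Groth.Agent.Lib.Helper7.CxElem
import Groth.Agent.Lib.Helper7.CxTransfer

/-! Element-level API for the tensor product of cochain complexes of modules. -/

set_option autoImplicit false
universe u
open CategoryTheory Limits HomologicalComplex MonoidalCategory TensorProduct DirectSum

namespace Groth.Agent.Lib.Helper23.Kun

open Groth.Agent.Lib.Helper2.Tot

variable {R : Type u} [CommRing R]

/-- Cochain complexes of `R`-modules. -/
abbrev Cx (R : Type u) [CommRing R] : Type (u + 1) := CochainComplex (ModuleCat.{u} R) ℤ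

variable (L M : Cx R)

/-- The tensor product complex. -/
noncomputable abbrev tens : Cx R := HomologicalComplex.tensorObj L M

/-- The inclusion of a summand, as a linear map. -/
noncomputable def inc (i j n : ℤ) (h : i + j = n) : (L.X i ⊗[R] M.X j) →ₗ[R] (tens L M).X n :=
  (ιTensorObj L M i j n h).hom

lemma inc_def (i j n : ℤ) (h : i + j = n) (t : L.X i ⊗[R] M.X j) :
    inc L M i j n h t = (ιTensorObj L M i j n h).hom t := rfl

lemma ι_d (i j n : ℤ) (h : i + j = n) :
    ιTensorObj L M i j n h ≫ (tens L M).d n (n + 1) =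
      ((L.d i (i + 1)) ▷ (M.X j)) ≫ ιTensorObj L M (i + 1) j (n + 1) (by omega) +
      (i.negOnePow : ℤˣ) •
        ((L.X i) ◁ (M.d j (j + 1)) ≫ ιTensorObj L M i (j + 1) (n + 1) (by omega)) := by
  rw [mapBifunctor.d_eq, Preadditive.comp_add, mapBifunctor.ι_D₁, mapBifunctor.ι_D₂]
  rw [mapBifunctor.d₁_eq _ _ _ _ (show (ComplexShape.up ℤ).Rel i (i + 1) from rfl) j (n + 1)
    (by simp [ComplexShape.π]; omega)]
  rw [mapBifunctor.d₂_eq _ _ _ _ i (show (ComplexShape.up ℤ).Rel j (j + 1) from rfl) (n + 1)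
    (by simp [ComplexShape.π]; omega)]
  simp

lemma d_inc (i j n : ℤ) (h : i + j = n) (t : L.X i ⊗[R] M.X j) :
    ((tens L M).d n (n + 1)).hom (inc L M i j n h t) =
      inc L M (i + 1) j (n + 1) (by omega) (LinearMap.rTensor (M.X j) (L.d i (i + 1)).hom t) +
      ((i.negOnePow : ℤˣ) : ℤ) •
        inc L M i (j + 1) (n + 1) (by omega) (LinearMap.lTensor (L.X i) (M.d j (j + 1)).hom t) := by
  have := congrArg (fun f => f.hom t) (ι_d L M i j n h)
  simp only [ModuleCat.hom_comp, LinearMap.comp_apply] at this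
  rw [inc_def, this]
  simp only [ModuleCat.hom_add, LinearMap.add_apply, ModuleCat.hom_comp, LinearMap.comp_apply,
    ModuleCat.hom_whiskerRight, ModuleCat.hom_whiskerLeft]
  congr 1

variable {M} in
lemma map_inc {M' : Cx R} (f : M ⟶ M') (i j n : ℤ) (h : i + j = n) (t : L.X i ⊗[R] M.X j) :
    ((HomologicalComplex.tensorHom (𝟙 L) f).f n).hom (inc L M i j n h t) =
      inc L M' i j n h (LinearMap.lTensor (L.X i) (f.f j).hom t) := by
  have := congrArg (fun g => g.hom t)
    (ι_mapBifunctorMap (𝟙 L) f (curriedTensor (ModuleCat.{u} R)) (ComplexShape.up ℤ) i j n h)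
  simp only [ModuleCat.hom_comp, LinearMap.comp_apply] at this
  rw [inc_def]
  erw [this]
  simp
  rfl

end Groth.Agent.Lib.Helper23.Kun
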