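import Groth.Agent.Lib.Helper23.KunB

/-! Cycles as submodules, homology classes as a linear map; direct-sum decomposition of the terms of
the tensor complex. -/

set_option autoImplicit false
universe u
open CategoryTheory Limits HomologicalComplex MonoidalCategory TensorProduct DirectSum

namespace Groth.Agent.Lib.Helper23.Kun

open Groth.Agent.Lib.Helper2.Tot Groth.Agent.Lib.Helper7

variable {R : Type u} [CommRing R]

section Cycles

variable (K : Cx R) (i : ℤ)

/-- Cycles in degree `i` as a submodule. -/
def ZS : Submodule R (K.X i) := LinearMap.ker (K.d i (i + 1)).hom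

lemma mem_ZS (x : K.X i) : x ∈ ZS K i ↔ (K.d i (i + 1)).hom x = 0 := LinearMap.mem_ker

lemma d_next_of {j : ℤ} (hj : (ComplexShape.up ℤ).next i = j) (x : K.X i)
    (hx : (K.d i j).hom x = 0) : (K.d i ((ComplexShape.up ℤ).next i)).hom x = 0 := by
  subst hj; exact hx

lemma d_next (x : K.X i) (hx : (K.d i (i + 1)).hom x = 0) :
    (K.d i ((ComplexShape.up ℤ).next i)).hom x = 0 :=
  d_next_of K i (CochainComplex.next ℤ i) x hx

/-- The class of a cycle, as a linear map. -/
noncomputable def clsL : ZS K i →ₗ[R] K.homology i where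
  toFun z := cls K i z.1 (d_next K i z.1 z.2)
  map_add' z z' := cls_add K i z.1 z'.1 _ _
  map_smul' r z := cls_smul K i r z.1 _

lemma clsL_apply (z : ZS K i) : clsL K i z = cls K i z.1 (d_next K i z.1 z.2) := rfl

lemma clsL_surjective : Function.Surjective (clsL K i) := by
  intro h
  obtain ⟨x, hx, rfl⟩ := cls_surjective K i h
  have hx' : (K.d i (i + 1)).hom x = 0 := by
    have e := CochainComplex.next ℤ i
    revert hx
    generalize (ComplexShape.up ℤ).next i = j at e
    subst e
    exact id
  exact ⟨⟨x, hx'⟩, rfl⟩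

lemma exists_prev_of {j : ℤ} (hj : (ComplexShape.up ℤ).prev i = j) (x : K.X i) :
    (∃ y : K.X ((ComplexShape.up ℤ).prev i), (K.d ((ComplexShape.up ℤ).prev i) i).hom y = x) ↔
      ∃ y : K.X j, (K.d j i).hom y = x := by
  subst hj; rfl

lemma clsL_eq_zero_iff (z : ZS K i) :
    clsL K i z = 0 ↔ ∃ y : K.X (i - 1), (K.d (i - 1) i).hom y = z.1 := by
  rw [clsL_apply, cls_eq_zero_iff, exists_prev_of K i (CochainComplex.prev ℤ i)]

lemma homologyπ_eq_clsL (z : K.cycles i) :
    (K.homologyπ i).hom z = clsL K i ⟨(K.iCycles i).hom z, by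
      rw [mem_ZS]
      exact congrArg (fun f => f.hom z) (K.iCycles_d i (i + 1))⟩ := by
  rw [clsL_apply]
  unfold cls
  congr 1
  exact iCycles_injective K i (iCycles_cyc K i _ _).symm

variable {K} in
lemma map_mem_ZS {K' : Cx R} (φ : K ⟶ K') (z : ZS K i) : (φ.f i).hom z.1 ∈ ZS K' i := by
  rw [mem_ZS]
  have := congrArg (fun f => f.hom z.1) (φ.comm i (i + 1))
  simp only [ModuleCat.hom_comp, LinearMap.comp_apply] at this
  rw [this, (mem_ZS K i z.1).1 z.2, map_zero]

variable {K} in
lemma homologyMap_clsL {K' : Cx R} (φ : K ⟶ K') (z : ZS K i) :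
    (HomologicalComplex.homologyMap φ i).hom (clsL K i z) =
      clsL K' i ⟨(φ.f i).hom z.1, map_mem_ZS i φ z⟩ := by
  rw [clsL_apply, clsL_apply]
  exact homologyMap_cls φ i z.1 _ _

/-- The differential into the cycles. -/
noncomputable def dTo : K.X (i - 1) →ₗ[R] ZS K i :=
  LinearMap.codRestrict (ZS K i) (K.d (i - 1) i).hom (fun y => by
    rw [mem_ZS]
    exact congrArg (fun f => f.hom y) (K.d_comp_d (i - 1) i (i + 1)))

lemma dTo_apply (y : K.X (i - 1)) : ((dTo K i y : ZS K i) : K.X i) = (K.d (i - 1) i).hom y := rfl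

lemma exact_dTo_clsL : Function.Exact (dTo K i) (clsL K i) := by
  intro z
  rw [clsL_eq_zero_iff]
  constructor
  · rintro ⟨y, hy⟩
    exact ⟨y, Subtype.ext hy⟩
  · rintro ⟨y, rfl⟩
    exact ⟨y, rfl⟩

end Cycles

section Decomp

variable (L M : Cx R)

/-- The family of summands in degree `n`. -/
abbrev summ (n : ℤ) (k : Idx n) : ModuleCat.{u} R := L.X k.1.1 ⊗ M.X k.1.2

/-- The terms of the tensor complex as direct sums. -/
noncomputable def dsIso (n : ℤ) :
    (tens L M).X n ≅ ModuleCat.of R (⨁ k : Idx n, summ L M n k) :=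
  (isColimitTotCofan (curriedTensor (ModuleCat.{u} R)) L M n).coconePointUniqueUpToIso
    (ModuleCat.coproductCoconeIsColimit (summ L M n))

lemma idx_eq {n : ℤ} (k : Idx n) : k.1.1 + k.1.2 = n := k.2

/-- The index of a summand. -/
def mkIdx (i j n : ℤ) (h : i + j = n) : Idx n := ⟨(i, j), h⟩

/-- Inclusion of the summand of index `k`. -/
noncomputable def incK {n : ℤ} (k : Idx n) : (L.X k.1.1 ⊗[R] M.X k.1.2) →ₗ[R] (tens L M).X n :=
  inc L M k.1.1 k.1.2 n (idx_eq k)

lemma dsIso_incK (n : ℤ) (k : Idx n) (t : L.X k.1.1 ⊗[R] M.X k.1.2) :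
    (dsIso L M n).hom.hom (incK L M k t) =
      DirectSum.lof R (Idx n) (fun k => summ L M n k) k t := by
  have := (isColimitTotCofan (curriedTensor (ModuleCat.{u} R)) L M
    n).comp_coconePointUniqueUpToIso_hom (ModuleCat.coproductCoconeIsColimit (summ L M n)) ⟨k⟩
  exact congrArg (fun g => g.hom t) this

lemma dsIso_inv_lof (n : ℤ) (k : Idx n) (t : L.X k.1.1 ⊗[R] M.X k.1.2) :
    (dsIso L M n).inv.hom (DirectSum.lof R (Idx n) (fun k => summ L M n k) k t) =
      incK L M k t := by
  rw [← dsIso_incK]
  exact congrArg (fun g => g.hom (incK L M k t)) (dsIso L M n).hom_inv_id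

open Classical in
/-- The component of index `k`. -/
noncomputable def comp {n : ℤ} (k : Idx n) : (tens L M).X n →ₗ[R] (L.X k.1.1 ⊗[R] M.X k.1.2) :=
  (DirectSum.component R (Idx n) (fun k => summ L M n k) k) ∘ₗ (dsIso L M n).hom.hom

open Classical in
lemma comp_incK_same {n : ℤ} (k : Idx n) (t : L.X k.1.1 ⊗[R] M.X k.1.2) :
    comp L M k (incK L M k t) = t := by
  unfold comp
  rw [LinearMap.comp_apply, dsIso_incK]
  exact DirectSum.lof_apply R (M := fun k => summ L M n k) k t

open Classical in
lemma comp_incK_ne {n : ℤ} (k k' : Idx n) (h : k' ≠ k) (t : L.X k'.1.1 ⊗[R] M.X k'.1.2) :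
    comp L M k (incK L M k' t) = 0 := by
  unfold comp
  rw [LinearMap.comp_apply, dsIso_incK]
  rw [DirectSum.lof_eq_of]
  exact DirectSum.of_eq_of_ne (β := fun k => summ L M n k) k' k t h.symm

/-- Induction principle for elements of the tensor complex. -/
lemma tens_induction {n : ℤ} {motive : (tens L M).X n → Prop} (zero : motive 0)
    (add : ∀ x y, motive x → motive y → motive (x + y))
    (incK : ∀ (k : Idx n) (t : L.X k.1.1 ⊗[R] M.X k.1.2), motive (incK L M k t))
    (x : (tens L M).X n) : motive x := by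
  have hx : x = (dsIso L M n).inv.hom ((dsIso L M n).hom.hom x) :=
    (congrArg (fun g => g.hom x) (dsIso L M n).hom_inv_id).symm
  rw [hx]
  generalize (dsIso L M n).hom.hom x = y
  induction y using DirectSum.induction_on with
  | zero => rw [map_zero]; exact zero
  | of k t =>
    have := dsIso_inv_lof L M n k t
    rw [DirectSum.lof_eq_of] at this
    rw [this]
    exact incK k t
  | add a b ha hb => rw [map_add]; exact add _ _ ha hb

open Classical in
/-- An element all of whose components vanish is zero. -/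
lemma eq_zero_of_comp {n : ℤ} (x : (tens L M).X n) (h : ∀ k : Idx n, comp L M k x = 0) : x = 0 := by
  have hinj : Function.Injective (dsIso L M n).hom.hom := by
    intro a b hab
    have := congrArg (dsIso L M n).inv.hom hab
    have ha := congrArg (fun g => g.hom a) (dsIso L M n).hom_inv_id
    have hb := congrArg (fun g => g.hom b) (dsIso L M n).hom_inv_id
    simp only [ModuleCat.hom_comp, LinearMap.comp_apply, ModuleCat.hom_id, LinearMap.id_apply]
      at ha hb
    rw [← ha, ← hb]; exact this
  apply hinj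
  rw [map_zero]
  apply DFinsupp.ext
  intro k
  exact h k

open Classical in
/-- Every element is the (finite) sum of its components. -/
lemma exists_finset_sum {n : ℤ} (x : (tens L M).X n) :
    ∃ s : Finset (Idx n), x = ∑ k ∈ s, incK L M k (comp L M k x) := by
  induction x using tens_induction L M with
  | zero => exact ⟨∅, by simp⟩
  | incK k t =>
    refine ⟨{k}, ?_⟩
    rw [Finset.sum_singleton, comp_incK_same]
  | add x y hx hy =>
    obtain ⟨s, hs⟩ := hx
    obtain ⟨s', hs'⟩ := hy
    refine ⟨s ∪ s', ?_⟩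
    have key : ∀ (z : (tens L M).X n) (s₀ s₁ : Finset (Idx n)), s₀ ⊆ s₁ →
        z = ∑ k ∈ s₀, incK L M k (comp L M k z) → z = ∑ k ∈ s₁, incK L M k (comp L M k z) := by
      intro z s₀ s₁ hsub hz
      rw [← Finset.sum_subset hsub]
      · exact hz
      · intro k _ hk
        have : comp L M k z = 0 := by
          rw [hz, map_sum]
          apply Finset.sum_eq_zero
          intro k' hk'
          rw [comp_incK_ne]
          rintro rfl
          exact hk hk'
        rw [this, map_zero]
    have h1 := key x s (s ∪ s') Finset.subset_union_left hs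
    have h2 := key y s' (s ∪ s') Finset.subset_union_right hs'
    conv_lhs => rw [h1, h2]
    rw [← Finset.sum_add_distrib]
    apply Finset.sum_congr rfl
    intro k _
    rw [map_add, map_add]

end Decomp

end Groth.Agent.Lib.Helper23.Kun
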