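import Groth.Agent.Lib.Helper23.KunB2

/-! The Künneth map `⊕_{i+j=n} H^i(L) ⊗ H^j(M) → H^n(L ⊗ M)`. -/

set_option autoImplicit false
universe u
open CategoryTheory Limits HomologicalComplex MonoidalCategory TensorProduct DirectSum

namespace Groth.Agent.Lib.Helper23.Kun

open Groth.Agent.Lib.Helper2.Tot Groth.Agent.Lib.Helper7

variable {R : Type u} [CommRing R]

section Descend

variable {A B C : Type*} [AddCommGroup A] [AddCommGroup B] [AddCommGroup C]
  [Module R A] [Module R B] [Module R C]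

/-- Descend a linear map along a surjection. -/
noncomputable def descend (f : A →ₗ[R] B) (hf : Function.Surjective f) (g : A →ₗ[R] C)
    (h : LinearMap.ker f ≤ LinearMap.ker g) : B →ₗ[R] C :=
  (LinearMap.ker f).liftQ g h ∘ₗ (f.quotKerEquivOfSurjective hf).symm.toLinearMap

lemma descend_apply (f : A →ₗ[R] B) (hf : Function.Surjective f) (g : A →ₗ[R] C)
    (h : LinearMap.ker f ≤ LinearMap.ker g) (a : A) : descend f hf g h (f a) = g a := by
  unfold descend
  rw [LinearMap.comp_apply]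
  have : (f.quotKerEquivOfSurjective hf).symm (f a) = (LinearMap.ker f).mkQ a := by
    rw [LinearEquiv.symm_apply_eq]
    rfl
  erw [this]
  rfl

end Descend

variable (L M : Cx R)

lemma d_inc' (i j n n' i' j' : ℤ) (h : i + j = n) (hn : n + 1 = n') (hi : i + 1 = i')
    (hj : j + 1 = j') (t : L.X i ⊗[R] M.X j) :
    ((tens L M).d n n').hom (inc L M i j n h t) =
      inc L M i' j n' (by omega) (LinearMap.rTensor (M.X j) (L.d i i').hom t) +
      ((i.negOnePow : ℤˣ) : ℤ) •
        inc L M i j' n' (by omega) (LinearMap.lTensor (L.X i) (M.d j j').hom t) := by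
  subst hn hi hj
  exact d_inc L M i j n h t

/-- Tensor of two cycles, as an element of the tensor complex. -/
noncomputable def kapPre {n : ℤ} (k : Idx n) :
    (ZS L k.1.1 ⊗[R] ZS M k.1.2) →ₗ[R] (tens L M).X n :=
  incK L M k ∘ₗ TensorProduct.map (ZS L k.1.1).subtype (ZS M k.1.2).subtype

lemma d_sub_ZS (K : Cx R) (i : ℤ) : (K.d i (i + 1)).hom ∘ₗ (ZS K i).subtype = 0 := by
  ext z
  exact (mem_ZS K i z.1).1 z.2

lemma d_kapPre {n : ℤ} (k : Idx n) (t : ZS L k.1.1 ⊗[R] ZS M k.1.2) :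
    ((tens L M).d n (n + 1)).hom (kapPre L M k t) = 0 := by
  unfold kapPre incK
  rw [LinearMap.comp_apply, d_inc]
  have h1 : LinearMap.rTensor (M.X k.1.2) (L.d k.1.1 (k.1.1 + 1)).hom
      (TensorProduct.map (ZS L k.1.1).subtype (ZS M k.1.2).subtype t) = 0 := by
    rw [← LinearMap.comp_apply, LinearMap.rTensor_comp_map, d_sub_ZS, TensorProduct.map_zero_left]
    rfl
  have h2 : LinearMap.lTensor (L.X k.1.1) (M.d k.1.2 (k.1.2 + 1)).hom
      (TensorProduct.map (ZS L k.1.1).subtype (ZS M k.1.2).subtype t) = 0 := by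
    rw [← LinearMap.comp_apply, LinearMap.lTensor_comp_map, d_sub_ZS, TensorProduct.map_zero_right]
    rfl
  rw [h1, h2, map_zero, map_zero, smul_zero, add_zero]

/-- The class of the tensor of two cycles. -/
noncomputable def kap {n : ℤ} (k : Idx n) :
    (ZS L k.1.1 ⊗[R] ZS M k.1.2) →ₗ[R] (tens L M).homology n :=
  clsL (tens L M) n ∘ₗ LinearMap.codRestrict (ZS (tens L M) n) (kapPre L M k)
    (fun t => (mem_ZS _ _ _).2 (d_kapPre L M k t))

lemma kap_apply {n : ℤ} (k : Idx n) (t : ZS L k.1.1 ⊗[R] ZS M k.1.2) :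
    kap L M k t = clsL (tens L M) n ⟨kapPre L M k t, (mem_ZS _ _ _).2 (d_kapPre L M k t)⟩ := rfl

end Groth.Agent.Lib.Helper23.Kun
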