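import Groth.Agent.Lib.Helper23.KunC
import Groth.Prelude.Def_HTor

/-! The Künneth map: descent to homology, `IsKunnethMap`, uniqueness and naturality. -/

set_option autoImplicit false
universe u
open CategoryTheory Limits HomologicalComplex MonoidalCategory TensorProduct DirectSum

namespace Groth.Agent.Lib.Helper23.Kun

open Groth.Agent.Lib.Helper2.Tot Groth.Agent.Lib.Helper7

variable {R : Type u} [CommRing R]

variable (L M : Cx R)

lemma units_smul_smul (u : ℤˣ) {A : Type*} [AddCommGroup A] (x : A) :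
    ((u : ℤˣ) : ℤ) • (((u : ℤˣ) : ℤ) • x) = x := by
  rw [smul_smul, Int.units_coe_mul_self, one_smul]

lemma kap_lTensor' (i j n : ℤ) (hk : i + j = n) (t : ZS L i ⊗[R] M.X (j - 1)) :
    kap L M (mkIdx i j n hk) (LinearMap.lTensor (ZS L i) (dTo M j) t) = 0 := by
  rw [kap_apply, clsL_eq_zero_iff]
  let y : (tens L M).X (n - 1) := inc L M i (j - 1) (n - 1) (by omega)
    (LinearMap.rTensor (M.X (j - 1)) (ZS L i).subtype t)
  have hd := d_inc' L M i (j - 1) (n - 1) n (i + 1) j (by omega) (by omega) rfl (by omega)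
    (LinearMap.rTensor (M.X (j - 1)) (ZS L i).subtype t)
  have h1 : LinearMap.rTensor (M.X (j - 1)) (L.d i (i + 1)).hom
      (LinearMap.rTensor (M.X (j - 1)) (ZS L i).subtype t) = 0 := by
    rw [← LinearMap.comp_apply, ← LinearMap.rTensor_comp, d_sub_ZS, LinearMap.rTensor_zero]
    rfl
  have h2 : LinearMap.lTensor (L.X i) (M.d (j - 1) j).hom
      (LinearMap.rTensor (M.X (j - 1)) (ZS L i).subtype t) =
      TensorProduct.map (ZS L i).subtype (ZS M j).subtype
        (LinearMap.lTensor (ZS L i) (dTo M j) t) := by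
    rw [← LinearMap.comp_apply, ← LinearMap.comp_apply]
    congr 1
    apply TensorProduct.ext'
    intro a b
    rfl
  rw [h1, h2, map_zero, zero_add] at hd
  refine ⟨((i.negOnePow : ℤˣ) : ℤ) • y, ?_⟩
  rw [map_zsmul, hd, units_smul_smul]
  rfl

lemma kap_lTensor {n : ℤ} (k : Idx n) (t : ZS L k.1.1 ⊗[R] M.X (k.1.2 - 1)) :
    kap L M k (LinearMap.lTensor (ZS L k.1.1) (dTo M k.1.2) t) = 0 :=
  kap_lTensor' L M k.1.1 k.1.2 n (idx_eq k) t

lemma kap_rTensor' (i j n : ℤ) (hk : i + j = n) (t : L.X (i - 1) ⊗[R] ZS M j) :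
    kap L M (mkIdx i j n hk) (LinearMap.rTensor (ZS M j) (dTo L i) t) = 0 := by
  rw [kap_apply, clsL_eq_zero_iff]
  let y : (tens L M).X (n - 1) := inc L M (i - 1) j (n - 1) (by omega)
    (LinearMap.lTensor (L.X (i - 1)) (ZS M j).subtype t)
  have hd := d_inc' L M (i - 1) j (n - 1) n i (j + 1) (by omega) (by omega) (by omega) rfl
    (LinearMap.lTensor (L.X (i - 1)) (ZS M j).subtype t)
  have h1 : LinearMap.lTensor (L.X (i - 1)) (M.d j (j + 1)).hom
      (LinearMap.lTensor (L.X (i - 1)) (ZS M j).subtype t) = 0 := by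
    rw [← LinearMap.comp_apply, ← LinearMap.lTensor_comp, d_sub_ZS, LinearMap.lTensor_zero]
    rfl
  have h2 : LinearMap.rTensor (M.X j) (L.d (i - 1) i).hom
      (LinearMap.lTensor (L.X (i - 1)) (ZS M j).subtype t) =
      TensorProduct.map (ZS L i).subtype (ZS M j).subtype
        (LinearMap.rTensor (ZS M j) (dTo L i) t) := by
    rw [← LinearMap.comp_apply, ← LinearMap.comp_apply]
    congr 1
    apply TensorProduct.ext'
    intro a b
    rfl
  rw [h1, h2, map_zero, smul_zero, add_zero] at hd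
  exact ⟨y, hd⟩

lemma kap_rTensor {n : ℤ} (k : Idx n) (t : L.X (k.1.1 - 1) ⊗[R] ZS M k.1.2) :
    kap L M k (LinearMap.rTensor (ZS M k.1.2) (dTo L k.1.1) t) = 0 :=
  kap_rTensor' L M k.1.1 k.1.2 n (idx_eq k) t

lemma kap_ker {n : ℤ} (k : Idx n) :
    LinearMap.ker (TensorProduct.map (clsL L k.1.1) (clsL M k.1.2)) ≤ LinearMap.ker (kap L M k) := by
  rw [TensorProduct.map_ker (exact_dTo_clsL L k.1.1) (clsL_surjective L k.1.1)
    (exact_dTo_clsL M k.1.2) (clsL_surjective M k.1.2)]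
  apply sup_le
  · rintro _ ⟨t, rfl⟩
    exact kap_lTensor L M k t
  · rintro _ ⟨t, rfl⟩
    exact kap_rTensor L M k t

/-- The Künneth map on one summand. -/
noncomputable def PhiK {n : ℤ} (k : Idx n) :
    (L.homology k.1.1 ⊗[R] M.homology k.1.2) →ₗ[R] (tens L M).homology n :=
  descend (TensorProduct.map (clsL L k.1.1) (clsL M k.1.2))
    (TensorProduct.map_surjective (clsL_surjective L k.1.1) (clsL_surjective M k.1.2))
    (kap L M k) (kap_ker L M k)

lemma PhiK_map {n : ℤ} (k : Idx n) (t : ZS L k.1.1 ⊗[R] ZS M k.1.2) :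
    PhiK L M k (TensorProduct.map (clsL L k.1.1) (clsL M k.1.2) t) = kap L M k t :=
  descend_apply _ _ _ _ t

/-- Antidiagonal index to `Idx`. -/
def ofAnti {n : ℤ} (ij : HTor.Antidiag n) : Idx n := ⟨ij.1, ij.2⟩

/-- The Künneth map. -/
noncomputable def Phi (n : ℤ) : HTor.KunnethSum L M n →ₗ[R] (HTor.tensorCx L M).homology n :=
  DirectSum.toModule R (HTor.Antidiag n) _ (fun ij => PhiK L M (ofAnti ij))

lemma Phi_lof (n : ℤ) (ij : HTor.Antidiag n) (t : L.homology ij.1.1 ⊗[R] M.homology ij.1.2) :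
    Phi L M n (DirectSum.lof R (HTor.Antidiag n) _ ij t) = PhiK L M (ofAnti ij) t := by
  unfold Phi
  exact DirectSum.toModule_lof R (M := fun ij : HTor.Antidiag n =>
    (L.homology ij.1.1 ⊗[R] M.homology ij.1.2)) ij t

theorem isKunnethMap_Phi (n : ℤ) : HTor.IsKunnethMap L M n (Phi L M n) := by
  intro ij z z' w hw
  rw [Phi_lof, homologyπ_eq_clsL L, homologyπ_eq_clsL M, homologyπ_eq_clsL]
  have := PhiK_map L M (ofAnti ij)
    ((⟨(L.iCycles ij.1.1).hom z, by
      rw [mem_ZS]; exact congrArg (fun f => f.hom z) (L.iCycles_d ij.1.1 (ij.1.1 + 1))⟩ :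
        ZS L ij.1.1) ⊗ₜ[R]
     (⟨(M.iCycles ij.1.2).hom z', by
      rw [mem_ZS]; exact congrArg (fun f => f.hom z') (M.iCycles_d ij.1.2 (ij.1.2 + 1))⟩ :
        ZS M ij.1.2))
  rw [TensorProduct.map_tmul] at this
  erw [this]
  rw [kap_apply]
  congr 1
  apply Subtype.ext
  exact hw.symm

end Groth.Agent.Lib.Helper23.Kun
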