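import Groth.Agent.Lib.Helper23.KunC2

/-! Formula for the Künneth map on classes, and naturality in the second variable. -/

set_option autoImplicit false
universe u
open CategoryTheory Limits HomologicalComplex MonoidalCategory TensorProduct DirectSum

namespace Groth.Agent.Lib.Helper23.Kun

open Groth.Agent.Lib.Helper2.Tot Groth.Agent.Lib.Helper7

variable {R : Type u} [CommRing R]

variable (L M : Cx R)

lemma d_inc_cycles (i j n : ℤ) (h : i + j = n) (z : ZS L i) (z' : ZS M j) :
    inc L M i j n h (z.1 ⊗ₜ[R] z'.1) ∈ ZS (tens L M) n := by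
  rw [mem_ZS]
  exact d_kapPre L M (mkIdx i j n h) (z ⊗ₜ[R] z')

lemma Phi_cls (i j n : ℤ) (h : i + j = n) (z : ZS L i) (z' : ZS M j) :
    Phi L M n (DirectSum.lof R (HTor.Antidiag n) _ ⟨(i, j), h⟩
      (clsL L i z ⊗ₜ[R] clsL M j z')) =
      clsL (tens L M) n ⟨inc L M i j n h (z.1 ⊗ₜ[R] z'.1), d_inc_cycles L M i j n h z z'⟩ := by
  rw [Phi_lof]
  have := PhiK_map L M (mkIdx i j n h) (z ⊗ₜ[R] z')
  rw [TensorProduct.map_tmul] at this
  erw [this]
  rfl

/-- The span of the pure classes is everything. -/
lemma kunnethSum_induction {n : ℤ} {motive : HTor.KunnethSum L M n → Prop} (zero : motive 0)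
    (add : ∀ x y, motive x → motive y → motive (x + y))
    (pure : ∀ (i j : ℤ) (h : i + j = n) (z : ZS L i) (z' : ZS M j),
      motive (DirectSum.lof R (HTor.Antidiag n) _ ⟨(i, j), h⟩ (clsL L i z ⊗ₜ[R] clsL M j z')))
    (x : HTor.KunnethSum L M n) : motive x := by
  induction x using DirectSum.induction_on with
  | zero => exact zero
  | add a b ha hb => exact add a b ha hb
  | of ij t =>
    obtain ⟨⟨i, j⟩, h⟩ := ij
    induction t using TensorProduct.induction_on with
    | zero => rw [map_zero]; exact zero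
    | add a b ha hb => rw [map_add]; exact add _ _ ha hb
    | tmul a b =>
      obtain ⟨z, rfl⟩ := clsL_surjective L i a
      obtain ⟨z', rfl⟩ := clsL_surjective M j b
      exact pure i j h z z'

variable {M}

/-- Functoriality of the Künneth sum in the second variable. -/
noncomputable def SMap {M' : Cx R} (f : M ⟶ M') (n : ℤ) :
    HTor.KunnethSum L M n →ₗ[R] HTor.KunnethSum L M' n :=
  DirectSum.lmap (fun ij : HTor.Antidiag n =>
    LinearMap.lTensor (L.homology ij.1.1) (HomologicalComplex.homologyMap f ij.1.2).hom)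

lemma SMap_lof {M' : Cx R} (f : M ⟶ M') (n : ℤ) (ij : HTor.Antidiag n)
    (t : L.homology ij.1.1 ⊗[R] M.homology ij.1.2) :
    SMap L f n (DirectSum.lof R (HTor.Antidiag n) _ ij t) =
      DirectSum.lof R (HTor.Antidiag n) _ ij
        (LinearMap.lTensor (L.homology ij.1.1) (HomologicalComplex.homologyMap f ij.1.2).hom t) := by
  unfold SMap
  exact DirectSum.lmap_lof (M := fun ij : HTor.Antidiag n =>
    (L.homology ij.1.1 ⊗[R] M.homology ij.1.2)) _ ij t

/-- The map induced on the homology of the tensor complex. -/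
noncomputable def TMap {M' : Cx R} (f : M ⟶ M') (n : ℤ) :
    (tens L M).homology n →ₗ[R] (tens L M').homology n :=
  (HomologicalComplex.homologyMap (HomologicalComplex.tensorHom (𝟙 L) f) n).hom

theorem Phi_natural {M' : Cx R} (f : M ⟶ M') (n : ℤ) (x : HTor.KunnethSum L M n) :
    TMap L f n (Phi L M n x) = Phi L M' n (SMap L f n x) := by
  induction x using kunnethSum_induction L M with
  | zero => simp
  | add x y hx hy => rw [map_add, map_add, map_add, map_add, hx, hy]
  | pure i j h z z' =>
    rw [Phi_cls, SMap_lof, LinearMap.lTensor_tmul, homologyMap_clsL]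
    rw [Phi_cls L M' i j n h z ⟨(f.f j).hom z'.1, map_mem_ZS j f z'⟩]
    unfold TMap
    rw [homologyMap_clsL]
    congr 1
    apply Subtype.ext
    exact map_inc L f i j n h _

end Groth.Agent.Lib.Helper23.Kun
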