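import Groth.Agent.Lib.Helper23.KunC3

/-! Künneth for a second factor with zero differentials and flat terms. -/

set_option autoImplicit false
universe u
open CategoryTheory Limits HomologicalComplex MonoidalCategory TensorProduct DirectSum

namespace Groth.Agent.Lib.Helper23.Kun

open Groth.Agent.Lib.Helper2.Tot Groth.Agent.Lib.Helper7

variable {R : Type u} [CommRing R]

variable (L M : Cx R)

section ZeroDiff

variable (hd : ∀ a b : ℤ, M.d a b = 0)

include hd in
lemma d_incK_of_zero {n : ℤ} (k : Idx n) (t : L.X k.1.1 ⊗[R] M.X k.1.2) :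
    ((tens L M).d n (n + 1)).hom (incK L M k t) =
      incK L M (mkIdx (k.1.1 + 1) k.1.2 (n + 1) (by have := idx_eq k; omega))
        (LinearMap.rTensor (M.X k.1.2) (L.d k.1.1 (k.1.1 + 1)).hom t) := by
  unfold incK
  rw [d_inc, hd]
  simp only [ModuleCat.hom_zero, LinearMap.lTensor_zero, LinearMap.zero_apply, map_zero,
    smul_zero, add_zero]
  rfl

include hd in
lemma comp_d {n : ℤ} (k : Idx n) (x : (tens L M).X n) :
    comp L M (mkIdx (k.1.1 + 1) k.1.2 (n + 1) (by have := idx_eq k; omega))
        (((tens L M).d n (n + 1)).hom x) =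
      LinearMap.rTensor (M.X k.1.2) (L.d k.1.1 (k.1.1 + 1)).hom (comp L M k x) := by
  induction x using tens_induction L M with
  | zero => simp only [map_zero]; rfl
  | add x y hx hy => simp only [map_add, hx, hy]; rfl
  | incK k' t =>
    rw [d_incK_of_zero L M hd]
    by_cases hkk : k' = k
    · subst hkk
      rw [comp_incK_same, comp_incK_same]
    · have hne : mkIdx (k'.1.1 + 1) k'.1.2 (n + 1) (by have := idx_eq k'; omega) ≠
          mkIdx (k.1.1 + 1) k.1.2 (n + 1) (by have := idx_eq k; omega) := by
        intro h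
        apply hkk
        have h1 := congrArg (fun k : Idx (n + 1) => k.1.1) h
        have h2 := congrArg (fun k : Idx (n + 1) => k.1.2) h
        simp only [mkIdx] at h1 h2
        apply Subtype.ext
        apply Prod.ext
        · omega
        · exact h2
      rw [comp_incK_ne L M k k' hkk, map_zero, comp_incK_ne L M _ _ hne]
      rfl

include hd in
lemma comp_d' (n n' i i' j : ℤ) (hn : n + 1 = n') (hi : i + 1 = i') (h : i + j = n)
    (x : (tens L M).X n) :
    comp L M (mkIdx i' j n' (by omega)) (((tens L M).d n n').hom x) =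
      LinearMap.rTensor (M.X j) (L.d i i').hom (comp L M (mkIdx i j n h) x) := by
  subst hn hi
  exact comp_d L M hd (mkIdx i j n h) x

include hd in
lemma mem_ZS_of_zero (j : ℤ) (m : M.X j) : m ∈ ZS M j := by
  rw [mem_ZS, hd]; rfl

/-- The class map `M^j → H^j(M)` when the differentials vanish. -/
noncomputable def psi (j : ℤ) : M.X j →ₗ[R] M.homology j :=
  clsL M j ∘ₗ LinearMap.codRestrict (ZS M j) LinearMap.id (mem_ZS_of_zero M hd j)

lemma psi_apply (j : ℤ) (m : M.X j) :
    psi M hd j m = clsL M j ⟨m, mem_ZS_of_zero M hd j m⟩ := rfl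

lemma psi_surjective (j : ℤ) : Function.Surjective (psi M hd j) := by
  intro h
  obtain ⟨z, rfl⟩ := clsL_surjective M j h
  exact ⟨z.1, rfl⟩

lemma psi_injective (j : ℤ) : Function.Injective (psi M hd j) := by
  rw [← LinearMap.ker_eq_bot, LinearMap.ker_eq_bot']
  intro m hm
  rw [psi_apply, clsL_eq_zero_iff] at hm
  obtain ⟨y, hy⟩ := hm
  rw [hd] at hy
  exact hy.symm

end ZeroDiff

section Flat

variable (j : ℤ) [Module.Flat R (M.X j)] (i : ℤ)

lemma exists_of_rTensor_d_eq_zero (c : L.X i ⊗[R] M.X j)
    (hc : LinearMap.rTensor (M.X j) (L.d i (i + 1)).hom c = 0) :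
    ∃ t : ZS L i ⊗[R] M.X j, LinearMap.rTensor (M.X j) (ZS L i).subtype t = c := by
  have hex : Function.Exact (ZS L i).subtype (L.d i (i + 1)).hom :=
    LinearMap.exact_subtype_ker_map _
  exact (Module.Flat.rTensor_exact (M.X j) hex c).1 hc

lemma rTensor_sub_injective :
    Function.Injective (LinearMap.rTensor (M.X j) (ZS L i).subtype) :=
  Module.Flat.rTensor_preserves_injective_linearMap _ Subtype.val_injective

end Flat

end Groth.Agent.Lib.Helper23.Kun
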