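import Groth.Agent.Lib.Helper23.KunD

/-! Künneth for a second factor with zero differentials and flat terms: bijectivity. -/

set_option autoImplicit false
universe u
open CategoryTheory Limits HomologicalComplex MonoidalCategory TensorProduct DirectSum

namespace Groth.Agent.Lib.Helper23.Kun

open Groth.Agent.Lib.Helper2.Tot Groth.Agent.Lib.Helper7

variable {R : Type u} [CommRing R]

section LMap

variable {ι : Type*} [DecidableEq ι] {A B : ι → Type*} [∀ i, AddCommGroup (A i)]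
  [∀ i, Module R (A i)] [∀ i, AddCommGroup (B i)] [∀ i, Module R (B i)]

lemma mem_range_lmap (f : ∀ i, A i →ₗ[R] B i) (c : ⨁ i, B i)
    (h : ∀ i, c i ∈ LinearMap.range (f i)) : c ∈ LinearMap.range (DirectSum.lmap f) := by
  classical
  rw [← DirectSum.sum_support_of c]
  apply Submodule.sum_mem
  intro i _
  obtain ⟨a, ha⟩ := h i
  exact ⟨DirectSum.of A i a, by rw [DirectSum.lmap_of, ha]⟩

end LMap

variable (L M : Cx R) (hd : ∀ a b : ℤ, M.d a b = 0)

/-- The source of the chain-level Künneth map. -/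
abbrev ZSum (n : ℤ) : Type u := ⨁ k : Idx n, (ZS L k.1.1 ⊗[R] M.X k.1.2)

/-- Passage to classes. -/
noncomputable def Qmap (n : ℤ) : ZSum L M n →ₗ[R] HTor.KunnethSum L M n :=
  DirectSum.lmap (fun k : Idx n => TensorProduct.map (clsL L k.1.1) (psi M hd k.1.2))

/-- Inclusion of cycles, summandwise. -/
noncomputable def PsiP (n : ℤ) : ZSum L M n →ₗ[R] (⨁ k : Idx n, summ L M n k) :=
  DirectSum.lmap (fun k : Idx n => LinearMap.rTensor (M.X k.1.2) (ZS L k.1.1).subtype)

/-- The chain-level Künneth map. -/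
noncomputable def Psi (n : ℤ) : ZSum L M n →ₗ[R] (tens L M).X n :=
  (dsIso L M n).inv.hom ∘ₗ PsiP L M n

lemma Qmap_surjective (n : ℤ) : Function.Surjective (Qmap L M hd n) := by
  exact (DirectSum.lmap_surjective (fun k : Idx n =>
    TensorProduct.map (clsL L k.1.1) (psi M hd k.1.2))).2 (fun k =>
      TensorProduct.map_surjective (clsL_surjective L k.1.1) (psi_surjective M hd k.1.2))

/-- The key compatibility. -/
def KeyP (n : ℤ) (t : ZSum L M n) : Prop :=
  ∃ h : Psi L M n t ∈ ZS (tens L M) n,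
    Phi L M n (Qmap L M hd n t) = clsL (tens L M) n ⟨Psi L M n t, h⟩

lemma keyP_zero (n : ℤ) : KeyP L M hd n 0 := by
  refine ⟨by rw [map_zero]; exact Submodule.zero_mem _, ?_⟩
  rw [map_zero, map_zero]
  have : (⟨Psi L M n 0, by rw [map_zero]; exact Submodule.zero_mem _⟩ : ZS (tens L M) n) = 0 :=
    Subtype.ext (map_zero _)
  rw [this, map_zero]

lemma keyP_add (n : ℤ) (a b : ZSum L M n) (ha : KeyP L M hd n a) (hb : KeyP L M hd n b) :
    KeyP L M hd n (a + b) := by
  obtain ⟨h1, e1⟩ := ha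
  obtain ⟨h2, e2⟩ := hb
  refine ⟨by rw [map_add]; exact Submodule.add_mem _ h1 h2, ?_⟩
  rw [map_add, map_add, e1, e2, ← map_add]
  congr 1
  exact Subtype.ext (map_add _ _ _).symm

lemma keyP_pure (n : ℤ) (k : Idx n) (z : ZS L k.1.1) (m : M.X k.1.2) :
    KeyP L M hd n (DirectSum.lof R (Idx n) (fun k => (ZS L k.1.1 ⊗[R] M.X k.1.2)) k (z ⊗ₜ[R] m)) := by
  have hPsi : Psi L M n (DirectSum.lof R (Idx n) (fun k => (ZS L k.1.1 ⊗[R] M.X k.1.2)) k
      (z ⊗ₜ[R] m)) = inc L M k.1.1 k.1.2 n (idx_eq k) (z.1 ⊗ₜ[R] m) := by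
    unfold Psi PsiP
    rw [LinearMap.comp_apply]
    erw [DirectSum.lmap_lof]
    rw [LinearMap.rTensor_tmul]
    exact dsIso_inv_lof L M n k _
  have hz' := mem_ZS_of_zero M hd k.1.2 m
  have hmem := d_inc_cycles L M k.1.1 k.1.2 n (idx_eq k) z ⟨m, hz'⟩
  refine ⟨by rw [hPsi]; exact hmem, ?_⟩
  have hQ : Qmap L M hd n (DirectSum.lof R (Idx n) (fun k => (ZS L k.1.1 ⊗[R] M.X k.1.2)) k
      (z ⊗ₜ[R] m)) = DirectSum.lof R (HTor.Antidiag n) _ ⟨(k.1.1, k.1.2), idx_eq k⟩
        (clsL L k.1.1 z ⊗ₜ[R] clsL M k.1.2 ⟨m, hz'⟩) := by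
    unfold Qmap
    erw [DirectSum.lmap_lof]
    rw [TensorProduct.map_tmul]
    rfl
  rw [hQ, Phi_cls]
  congr 1
  exact Subtype.ext hPsi.symm

lemma keyP (n : ℤ) (t : ZSum L M n) : KeyP L M hd n t := by
  induction t using DirectSum.induction_on with
  | zero => exact keyP_zero L M hd n
  | add a b ha hb => exact keyP_add L M hd n a b ha hb
  | of k t =>
    induction t using TensorProduct.induction_on with
    | zero =>
      rw [map_zero]
      exact keyP_zero L M hd n
    | add a b ha hb =>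
      rw [map_add]
      exact keyP_add L M hd n _ _ ha hb
    | tmul z m => exact keyP_pure L M hd n k z m

end Groth.Agent.Lib.Helper23.Kun
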