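import Groth.Agent.Lib.Helper23.KunD2

/-! Künneth for a second factor with zero differentials and flat terms: bijectivity. -/

set_option autoImplicit false
universe u
open CategoryTheory Limits HomologicalComplex MonoidalCategory TensorProduct DirectSum

namespace Groth.Agent.Lib.Helper23.Kun

open Groth.Agent.Lib.Helper2.Tot Groth.Agent.Lib.Helper7

variable {R : Type u} [CommRing R]

variable (L M : Cx R) (hd : ∀ a b : ℤ, M.d a b = 0) (hfl : ∀ j : ℤ, Module.Flat R (M.X j))

lemma clsL_dTo (K : Cx R) (i : ℤ) (y : K.X (i - 1)) : clsL K i (dTo K i y) = 0 :=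
  (exact_dTo_clsL K i (dTo K i y)).2 ⟨y, rfl⟩

include hd hfl in
theorem Phi_surjective_of_zero (n : ℤ) : Function.Surjective (Phi L M n) := by
  intro h₀
  obtain ⟨⟨x, hx⟩, rfl⟩ := clsL_surjective (tens L M) n h₀
  have hc : ∀ k : Idx n, (dsIso L M n).hom.hom x k ∈
      LinearMap.range (LinearMap.rTensor (M.X k.1.2) (ZS L k.1.1).subtype) := by
    intro k
    have h1 : LinearMap.rTensor (M.X k.1.2) (L.d k.1.1 (k.1.1 + 1)).hom (comp L M k x) = 0 := by
      rw [← comp_d L M hd k x, (mem_ZS _ _ _).1 hx, map_zero]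
      rfl
    have := hfl k.1.2
    obtain ⟨t, ht⟩ := exists_of_rTensor_d_eq_zero L M k.1.2 k.1.1 _ h1
    exact ⟨t, ht⟩
  obtain ⟨t, ht⟩ := mem_range_lmap _ _ hc
  have hPsi : Psi L M n t = x := by
    unfold Psi PsiP
    rw [LinearMap.comp_apply]
    erw [ht]
    exact congrArg (fun g => g.hom x) (dsIso L M n).hom_inv_id
  obtain ⟨h, e⟩ := keyP L M hd n t
  refine ⟨Qmap L M hd n t, ?_⟩
  rw [e]
  congr 1
  exact Subtype.ext hPsi

include hd hfl in
theorem Phi_injective_of_zero (n : ℤ) : Function.Injective (Phi L M n) := by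
  rw [← LinearMap.ker_eq_bot, LinearMap.ker_eq_bot']
  intro s hs
  obtain ⟨t, rfl⟩ := Qmap_surjective L M hd n s
  obtain ⟨h, e⟩ := keyP L M hd n t
  rw [e, clsL_eq_zero_iff] at hs
  obtain ⟨v, hv⟩ := hs
  have hv' : ((tens L M).d (n - 1) n).hom v = Psi L M n t := hv
  apply DFinsupp.ext
  intro k
  show TensorProduct.map (clsL L k.1.1) (psi M hd k.1.2) (t k) = 0
  have hk := idx_eq k
  have h1 : comp L M k (Psi L M n t) =
      LinearMap.rTensor (M.X k.1.2) (ZS L k.1.1).subtype (t k) := by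
    unfold Psi comp
    rw [LinearMap.comp_apply, LinearMap.comp_apply]
    have := congrArg (fun g => g.hom (PsiP L M n t)) (dsIso L M n).inv_hom_id
    simp only [ModuleCat.hom_comp, LinearMap.comp_apply, ModuleCat.hom_id,
      LinearMap.id_apply] at this
    erw [this]
    rfl
  have h2 := comp_d' L M hd (n - 1) n (k.1.1 - 1) k.1.1 k.1.2 (by omega) (by omega) (by omega) v
  rw [hv'] at h2
  have h3 : ∀ w : L.X (k.1.1 - 1) ⊗[R] M.X k.1.2,
      LinearMap.rTensor (M.X k.1.2) (L.d (k.1.1 - 1) k.1.1).hom w =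
        LinearMap.rTensor (M.X k.1.2) (ZS L k.1.1).subtype
          (LinearMap.rTensor (M.X k.1.2) (dTo L k.1.1) w) := by
    intro w
    rw [← LinearMap.comp_apply, ← LinearMap.rTensor_comp]
    rfl
  have := hfl k.1.2
  have h4 : t k = LinearMap.rTensor (M.X k.1.2) (dTo L k.1.1)
      (comp L M (mkIdx (k.1.1 - 1) k.1.2 (n - 1) (by omega)) v) := by
    apply rTensor_sub_injective L M k.1.2 k.1.1
    rw [← h3, ← h1]
    exact h2
  rw [h4]
  have h5 : TensorProduct.map (clsL L k.1.1) (psi M hd k.1.2) ∘ₗ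
      LinearMap.rTensor (M.X k.1.2) (dTo L k.1.1) = 0 := by
    apply TensorProduct.ext'
    intro a b
    rw [LinearMap.comp_apply, LinearMap.rTensor_tmul, TensorProduct.map_tmul, clsL_dTo,
      TensorProduct.zero_tmul]
    rfl
  rw [← LinearMap.comp_apply, h5]
  rfl

include hd hfl in
theorem Phi_bijective_of_zero (n : ℤ) : Function.Bijective (Phi L M n) :=
  ⟨Phi_injective_of_zero L M hd hfl n, Phi_surjective_of_zero L M hd hfl n⟩

end Groth.Agent.Lib.Helper23.Kun
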