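import Groth.Agent.Lib.Helper23.KunE0
import Groth.Agent.Lib.Helper23.KunD

/-! The "free cover" construction: for a complex `M`, a termwise split short exact sequence
`0 → M → CC M → PP M → 0` with `PP M` free with zero differentials, `H(M) → H(CC M)` zero. -/

set_option autoImplicit false
universe u
open CategoryTheory Limits HomologicalComplex MonoidalCategory TensorProduct

namespace Groth.Agent.Lib.Helper23.Kun

open Groth.Agent.Lib.Helper7

variable {R : Type u} [CommRing R]

lemma clsL_eq_zero_iff' (K : Cx R) (i' i : ℤ) (h : i' + 1 = i) (z : ZS K i) :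
    clsL K i z = 0 ↔ ∃ y : K.X i', (K.d i' i).hom y = z.1 := by
  obtain rfl : i' = i - 1 := by omega
  exact clsL_eq_zero_iff K i z

variable (M : Cx R)

/-- Free module on the nonzero classes of `H^{j+1}(M)`. -/
abbrev PF (j : ℤ) : Type u := {h : M.homology (j + 1) // h ≠ 0} →₀ R

noncomputable def liftZ (j : ℤ) (h : M.homology (j + 1)) : ZS M (j + 1) :=
  Classical.choose (clsL_surjective M (j + 1) h)

lemma clsL_liftZ (j : ℤ) (h : M.homology (j + 1)) : clsL M (j + 1) (liftZ M j h) = h :=
  Classical.choose_spec (clsL_surjective M (j + 1) h)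

noncomputable def sig (j : ℤ) : PF M j →ₗ[R] ZS M (j + 1) :=
  Finsupp.linearCombination R (fun h : {h : M.homology (j + 1) // h ≠ 0} => liftZ M j h.1)

noncomputable def phi (j : ℤ) : PF M j →ₗ[R] M.X (j + 1) :=
  (ZS M (j + 1)).subtype ∘ₗ sig M j

lemma phi_apply (j : ℤ) (p : PF M j) : phi M j p = (sig M j p).1 := rfl

lemma d_phi (j : ℤ) (p : PF M j) : (M.d (j + 1) (j + 1 + 1)).hom (phi M j p) = 0 :=
  (mem_ZS _ _ _).1 (sig M j p).2

lemma exists_sig (j : ℤ) (h : M.homology (j + 1)) :
    ∃ p : PF M j, clsL M (j + 1) (sig M j p) = h := by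
  by_cases h0 : h = 0
  · exact ⟨0, by rw [map_zero, map_zero, h0]⟩
  · refine ⟨Finsupp.single ⟨h, h0⟩ 1, ?_⟩
    unfold sig
    rw [Finsupp.linearCombination_single, one_smul]
    exact clsL_liftZ M j h

/-- Differential of the cover complex. -/
noncomputable def CdLin (j : ℤ) : (PF M j × M.X j) →ₗ[R] (PF M (j + 1) × M.X (j + 1)) :=
  LinearMap.inr R (PF M (j + 1)) (M.X (j + 1)) ∘ₗ
    (phi M j ∘ₗ LinearMap.fst R (PF M j) (M.X j) +
      (M.d j (j + 1)).hom ∘ₗ LinearMap.snd R (PF M j) (M.X j))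

lemma CdLin_apply (j : ℤ) (p : PF M j) (m : M.X j) :
    CdLin M j (p, m) = (0, phi M j p + (M.d j (j + 1)).hom m) := rfl

lemma CdLin_sq (j : ℤ) (x : PF M j × M.X j) : CdLin M (j + 1) (CdLin M j x) = 0 := by
  obtain ⟨p, m⟩ := x
  rw [CdLin_apply, CdLin_apply, map_zero, zero_add, map_add, d_phi, zero_add]
  have : (M.d (j + 1) (j + 1 + 1)).hom ((M.d j (j + 1)).hom m) = 0 :=
    congrArg (fun φ => φ.hom m) (M.d_comp_d j (j + 1) (j + 1 + 1))
  rw [this]
  rfl

/-- The cover complex `CC M`, with terms `PF M j × M^j`. -/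
noncomputable def CC : Cx R :=
  CochainComplex.of (fun j => ModuleCat.of R (PF M j × M.X j))
    (fun j => ModuleCat.ofHom (CdLin M j))
    (fun j => by
      apply ModuleCat.hom_ext
      apply LinearMap.ext
      intro x
      exact CdLin_sq M j x)

/-- The free complex with zero differentials `PP M`, with terms `PF M j`. -/
noncomputable def PP : Cx R :=
  CochainComplex.of (fun j => ModuleCat.of R (PF M j)) (fun _ => 0) (fun _ => by simp)

lemma PP_d (a b : ℤ) : (PP M).d a b = 0 := by
  by_cases h : a + 1 = b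
  · subst h
    exact CochainComplex.of_d (fun j => ModuleCat.of R (PF M j))
      (fun _ => (0 : ModuleCat.of R (PF M _) ⟶ ModuleCat.of R (PF M (_ + 1)))) a
  · exact (PP M).shape _ _ h

instance PP_flat (j : ℤ) : Module.Flat R ((PP M).X j) :=
  inferInstanceAs (Module.Flat R (PF M j))

/-- Build an element of `(CC M)^j`. -/
def mkC (j : ℤ) (p : PF M j) (m : M.X j) : (CC M).X j := ((p, m) : PF M j × M.X j)

lemma mkC_surjective (j : ℤ) (x : (CC M).X j) : ∃ p m, x = mkC M j p m :=
  ⟨(show PF M j × M.X j from x).1, (show PF M j × M.X j from x).2, rfl⟩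

lemma mkC_add (j : ℤ) (p p' : PF M j) (m m' : M.X j) :
    mkC M j p m + mkC M j p' m' = mkC M j (p + p') (m + m') := rfl

lemma mkC_zero (j : ℤ) : mkC M j 0 0 = 0 := rfl

lemma CC_d_mkC (j : ℤ) (p : PF M j) (m : M.X j) :
    ((CC M).d j (j + 1)).hom (mkC M j p m) =
      mkC M (j + 1) 0 (phi M j p + (M.d j (j + 1)).hom m) := by
  have : (CC M).d j (j + 1) = ModuleCat.ofHom (CdLin M j) :=
    CochainComplex.of_d (fun j => ModuleCat.of R (PF M j × M.X j))
      (fun j => ModuleCat.ofHom (CdLin M j)) j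
  rw [this]
  rfl

/-- The inclusion `M ⟶ CC M`. -/
noncomputable def ιC : M ⟶ CC M where
  f j := ModuleCat.ofHom (LinearMap.inr R (PF M j) (M.X j))
  comm' i j hij := by
    change i + 1 = j at hij
    subst hij
    apply ModuleCat.hom_ext
    apply LinearMap.ext
    intro m
    change ((CC M).d i (i + 1)).hom (mkC M i 0 m) = mkC M (i + 1) 0 ((M.d i (i + 1)).hom m)
    rw [CC_d_mkC, map_zero, zero_add]

lemma ιC_apply (j : ℤ) (m : M.X j) : ((ιC M).f j).hom m = mkC M j 0 m := rfl

/-- The projection `CC M ⟶ PP M`. -/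
noncomputable def πC : CC M ⟶ PP M where
  f j := ModuleCat.ofHom (LinearMap.fst R (PF M j) (M.X j))
  comm' i j hij := by
    change i + 1 = j at hij
    subst hij
    rw [PP_d, comp_zero]
    apply ModuleCat.hom_ext
    apply LinearMap.ext
    intro x
    obtain ⟨p, m, rfl⟩ := mkC_surjective M i x
    change (0 : (PP M).X (i + 1)) = (LinearMap.fst R (PF M (i + 1)) (M.X (i + 1)))
      (((CC M).d i (i + 1)).hom (mkC M i p m))
    rw [CC_d_mkC]
    rfl

lemma πC_apply (j : ℤ) (p : PF M j) (m : M.X j) : ((πC M).f j).hom (mkC M j p m) = p := rfl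

lemma ιC_πC : ιC M ≫ πC M = 0 := by
  ext j : 1
  apply ModuleCat.hom_ext
  apply LinearMap.ext
  intro m
  rfl

/-- The short exact sequence `0 → M → CC M → PP M → 0`. -/
noncomputable def sesC : ShortComplex (Cx R) := ShortComplex.mk (ιC M) (πC M) (ιC_πC M)

lemma sesC_shortExact : (sesC M).ShortExact := by
  apply HomologicalComplex.shortExact_of_degreewise_shortExact
  intro j
  apply ModuleCat.shortComplex_shortExact
  · intro x
    obtain ⟨p, m, rfl⟩ := mkC_surjective M j x
    constructor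
    · intro h
      have hp : p = 0 := h
      exact ⟨m, by rw [hp]; rfl⟩
    · rintro ⟨m', hm'⟩
      rw [← hm']
      rfl
  · intro m m' h
    have := congrArg (fun x : PF M j × M.X j => x.2) h
    exact this
  · intro p
    exact ⟨mkC M j p 0, rfl⟩

end Groth.Agent.Lib.Helper23.Kun
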