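import Groth.Agent.Lib.Helper23.KunB2

/-! Element-level formula for the connecting homomorphism of a short exact sequence of complexes
of modules. -/

set_option autoImplicit false
universe u
open CategoryTheory Limits HomologicalComplex MonoidalCategory TensorProduct

namespace Groth.Agent.Lib.Helper23.Kun

open Groth.Agent.Lib.Helper7

variable {R : Type u} [CommRing R]

lemma mem_ZS_of_f_eq_d (S : ShortComplex (Cx R)) (hS : S.ShortExact) (i j : ℤ) (hij : i + 1 = j)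
    (x₂ : S.X₂.X i) (x₁ : S.X₁.X j)
    (hx₁ : (S.f.f j).hom x₁ = (S.X₂.d i j).hom x₂) : x₁ ∈ ZS S.X₁ j := by
  rw [mem_ZS]
  haveI := hS.mono_f
  have hmono : Mono (S.f.f (j + 1)) := inferInstance
  have hinj : Function.Injective (S.f.f (j + 1)).hom := (ModuleCat.mono_iff_injective _).1 hmono
  apply hinj
  rw [map_zero]
  have hc := congrArg (fun φ => φ.hom x₁) (S.f.comm j (j + 1))
  change (S.X₂.d j (j + 1)).hom ((S.f.f j).hom x₁) = (S.f.f (j + 1)).hom ((S.X₁.d j (j + 1)).hom x₁) at hc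
  rw [← hc, hx₁]
  exact congrArg (fun φ => φ.hom x₂) (S.X₂.d_comp_d i j (j + 1))

theorem δ_clsL (S : ShortComplex (Cx R)) (hS : S.ShortExact) (i j : ℤ) (hij : i + 1 = j)
    (z₃ : ZS S.X₃ i) (x₂ : S.X₂.X i) (hx₂ : (S.g.f i).hom x₂ = z₃.1)
    (x₁ : S.X₁.X j) (hx₁ : (S.f.f j).hom x₁ = (S.X₂.d i j).hom x₂) :
    (hS.δ i j hij).hom (clsL S.X₃ i z₃) =
      clsL S.X₁ j ⟨x₁, mem_ZS_of_f_eq_d S hS i j hij x₂ x₁ hx₁⟩ := by
  subst hij
  let A : ModuleCat.{u} R := ModuleCat.of R R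
  let a₃ : A ⟶ S.X₃.X i := ModuleCat.ofHom (LinearMap.toSpanSingleton R _ z₃.1)
  let a₂ : A ⟶ S.X₂.X i := ModuleCat.ofHom (LinearMap.toSpanSingleton R _ x₂)
  let a₁ : A ⟶ S.X₁.X (i + 1) := ModuleCat.ofHom (LinearMap.toSpanSingleton R _ x₁)
  have ha₃ : a₃ ≫ S.X₃.d i (i + 1) = 0 := by
    ext
    change (S.X₃.d i (i + 1)).hom ((1 : R) • z₃.1) = 0
    rw [one_smul]
    exact (mem_ZS _ _ _).1 z₃.2
  have ha₂ : a₂ ≫ S.g.f i = a₃ := by
    ext
    change (S.g.f i).hom ((1 : R) • x₂) = (1 : R) • z₃.1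
    rw [one_smul, one_smul, hx₂]
  have ha₁ : a₁ ≫ S.f.f (i + 1) = a₂ ≫ S.X₂.d i (i + 1) := by
    ext
    change (S.f.f (i + 1)).hom ((1 : R) • x₁) = (S.X₂.d i (i + 1)).hom ((1 : R) • x₂)
    rw [one_smul, one_smul, hx₁]
  have key := hS.δ_eq i (i + 1) rfl a₃ ha₃ a₂ ha₂ a₁ ha₁ (i + 1 + 1) (by simp)
  have key1 := congrArg (fun φ => φ.hom (1 : R)) key
  simp only [ModuleCat.hom_comp, LinearMap.comp_apply] at key1
  rw [homologyπ_eq_clsL, homologyπ_eq_clsL] at key1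
  convert key1 using 3
  · apply Subtype.ext
    have := congrArg (fun φ => φ.hom (1 : R))
      (S.X₃.liftCycles_i a₃ (i + 1) ((ComplexShape.up ℤ).next_eq' rfl) ha₃)
    change (S.X₃.iCycles i).hom _ = (1 : R) • z₃.1 at this
    rw [one_smul] at this
    exact this.symm
  · have := congrArg (fun φ => φ.hom (1 : R))
      (S.X₁.liftCycles_i a₁ (i + 1 + 1) (by simp) (by
        haveI := hS.mono_f
        rw [← cancel_mono (S.f.f (i + 1 + 1)), Category.assoc, ← S.f.comm, reassoc_of% ha₁,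
          d_comp_d, comp_zero, zero_comp]))
    change (S.X₁.iCycles (i + 1)).hom _ = (1 : R) • x₁ at this
    rw [one_smul] at this
    exact this.symm

end Groth.Agent.Lib.Helper23.Kun
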