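import Groth.Agent.Lib.Helper23.KunE

/-! Homology of the cover: `H(M) → H(CC M)` is zero, the short exact sequences
`0 → H^j(CC M) → H^j(PP M) → H^{j+1}(M) → 0`, flatness of `H^j(PP M)`, and bounds. -/

set_option autoImplicit false
universe u
open CategoryTheory Limits HomologicalComplex MonoidalCategory TensorProduct

namespace Groth.Agent.Lib.Helper23.Kun

open Groth.Agent.Lib.Helper7

variable {R : Type u} [CommRing R] (M : Cx R)

lemma homologyMap_ιC_clsL (j' : ℤ) (z : ZS M (j' + 1)) :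
    (HomologicalComplex.homologyMap (ιC M) (j' + 1)).hom (clsL M (j' + 1) z) = 0 := by
  rw [homologyMap_clsL]
  obtain ⟨p, hp⟩ := exists_sig M j' (clsL M (j' + 1) z)
  have h0 : clsL M (j' + 1) (z - sig M j' p) = 0 := by
    rw [map_sub, hp, sub_self]
  obtain ⟨m, hm⟩ := (clsL_eq_zero_iff' M j' (j' + 1) rfl _).1 h0
  rw [clsL_eq_zero_iff' (CC M) j' (j' + 1) rfl]
  refine ⟨mkC M j' p m, ?_⟩
  rw [CC_d_mkC, hm]
  change mkC M (j' + 1) 0 (phi M j' p + (z.1 - (sig M j' p).1)) = mkC M (j' + 1) 0 z.1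
  rw [phi_apply, add_sub_cancel]

theorem homologyMap_ιC (j : ℤ) : HomologicalComplex.homologyMap (ιC M) j = 0 := by
  obtain ⟨j', rfl⟩ : ∃ j', j = j' + 1 := ⟨j - 1, by omega⟩
  apply ModuleCat.hom_ext
  apply LinearMap.ext
  intro x
  obtain ⟨z, rfl⟩ := clsL_surjective M (j' + 1) x
  rw [homologyMap_ιC_clsL]
  rfl

/-- The connecting homomorphism `H^j(PP M) → H^{j'}(M)`. -/
noncomputable def δC (j j' : ℤ) (h : j + 1 = j') : (PP M).homology j ⟶ M.homology j' :=
  (sesC_shortExact M).δ j j' h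

/-- The short exact sequence `0 → H^j(CC M) → H^j(PP M) → H^{j'}(M) → 0`. -/
noncomputable def homSES (j j' : ℤ) (h : j + 1 = j') : ShortComplex (ModuleCat.{u} R) :=
  ShortComplex.mk (HomologicalComplex.homologyMap (πC M) j) (δC M j j' h)
    ((sesC_shortExact M).comp_δ j j' h)

lemma homSES_shortExact (j j' : ℤ) (h : j + 1 = j') : (homSES M j j' h).ShortExact where
  exact := (sesC_shortExact M).homology_exact₃ j j' h
  mono_f := ((sesC_shortExact M).homology_exact₂ j).mono_g (homologyMap_ιC M j)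
  epi_g := ((sesC_shortExact M).homology_exact₁ j j' h).epi_f (homologyMap_ιC M j')

/-- `H^j(PP M) ≃ PF M j`. -/
noncomputable def psiEquiv (j : ℤ) : (PP M).X j ≃ₗ[R] (PP M).homology j :=
  LinearEquiv.ofBijective (psi (PP M) (PP_d M) j)
    ⟨psi_injective (PP M) (PP_d M) j, psi_surjective (PP M) (PP_d M) j⟩

instance homology_PP_flat (j : ℤ) : Module.Flat R ((PP M).homology j) :=
  Module.Flat.of_linearEquiv (psiEquiv M j).symm

lemma homSES_flat (j j' : ℤ) (h : j + 1 = j') : Module.Flat R (homSES M j j' h).X₂ :=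
  homology_PP_flat M j

/-- Elements of `PF M j` viewed as cycles of `PP M`. -/
def zP (j : ℤ) (p : PF M j) : ZS (PP M) j := ⟨p, mem_ZS_of_zero (PP M) (PP_d M) j p⟩

lemma zP_surjective (j : ℤ) (z : ZS (PP M) j) : ∃ p : PF M j, z = zP M j p := ⟨z.1, rfl⟩

lemma δC_clsL (j : ℤ) (p : PF M j) :
    (δC M j (j + 1) rfl).hom (clsL (PP M) j (zP M j p)) = clsL M (j + 1) (sig M j p) := by
  have := δ_clsL (sesC M) (sesC_shortExact M) j (j + 1) rfl (zP M j p) (mkC M j p 0) rfl
    (phi M j p) (by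
      change ((ιC M).f (j + 1)).hom (phi M j p) = ((CC M).d j (j + 1)).hom (mkC M j p 0)
      rw [ιC_apply, CC_d_mkC, map_zero, add_zero])
  exact this

lemma isZero_homology_PP (j : ℤ) (h : IsZero (M.homology (j + 1))) :
    IsZero ((PP M).homology j) := by
  haveI : Subsingleton (M.homology (j + 1)) := ModuleCat.subsingleton_of_isZero h
  haveI : IsEmpty {h : M.homology (j + 1) // h ≠ 0} :=
    ⟨fun x => x.2 (Subsingleton.elim _ _)⟩
  haveI : Subsingleton ((PP M).X j) := inferInstanceAs (Subsingleton (PF M j))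
  haveI : Subsingleton ((PP M).homology j) := (psiEquiv M j).symm.subsingleton
  exact ModuleCat.isZero_of_subsingleton _

lemma isZero_homology_CC (j : ℤ) (h : IsZero (M.homology (j + 1))) :
    IsZero ((CC M).homology j) := by
  haveI : Mono (HomologicalComplex.homologyMap (πC M) j) :=
    (homSES_shortExact M j (j + 1) rfl).mono_f
  exact IsZero.of_mono (HomologicalComplex.homologyMap (πC M) j) (isZero_homology_PP M j h)

end Groth.Agent.Lib.Helper23.Kun
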