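import Mathlib.Algebra.DirectSum.Module
import Mathlib.LinearAlgebra.Span.Defs

/-! A general range criterion for maps between direct sums given by reindexing. -/

set_option autoImplicit false
universe u
open DirectSum

namespace Groth.Agent.Lib.Helper23.Kun

variable {R : Type*} [CommRing R]

section Reindex

variable {ιA ιB : Type*} [DecidableEq ιA] [DecidableEq ιB] {A : ιA → Type*} {B : ιB → Type*}
  [∀ a, AddCommGroup (A a)] [∀ a, Module R (A a)] [∀ b, AddCommGroup (B b)] [∀ b, Module R (B b)]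

/-- The map `⨁ A a → ⨁ B b` with components `A a → B (σ a)`. -/
noncomputable def reidx (σ : ιA → ιB) (f : ∀ a, A a →ₗ[R] B (σ a)) :
    (⨁ a, A a) →ₗ[R] (⨁ b, B b) :=
  DirectSum.toModule R ιA (⨁ b, B b) (fun a => (DirectSum.lof R ιB B (σ a)) ∘ₗ f a)

lemma reidx_lof (σ : ιA → ιB) (f : ∀ a, A a →ₗ[R] B (σ a)) (a : ιA) (x : A a) :
    reidx σ f (DirectSum.lof R ιA A a x) = DirectSum.lof R ιB B (σ a) (f a x) := by
  unfold reidx
  rw [DirectSum.toModule_lof]
  rfl

lemma mem_range_reidx (σ : ιA → ιB) (hσ : Function.Surjective σ) (f : ∀ a, A a →ₗ[R] B (σ a))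
    (c : ⨁ b, B b) (h : ∀ a, c (σ a) ∈ LinearMap.range (f a)) :
    c ∈ LinearMap.range (reidx σ f) := by
  classical
  rw [← DirectSum.sum_support_of c]
  apply Submodule.sum_mem
  intro b _
  obtain ⟨a, rfl⟩ := hσ b
  obtain ⟨x, hx⟩ := h a
  refine ⟨DirectSum.lof R ιA A a x, ?_⟩
  rw [reidx_lof, hx]
  rfl

lemma reidx_surjective (σ : ιA → ιB) (hσ : Function.Surjective σ) (f : ∀ a, A a →ₗ[R] B (σ a))
    (hf : ∀ a, Function.Surjective (f a)) : Function.Surjective (reidx σ f) := by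
  intro c
  exact mem_range_reidx σ hσ f c (fun a => hf a _)

end Reindex

end Groth.Agent.Lib.Helper23.Kun
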