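import Groth.Agent.Lib.Helper23.KunE2
import Groth.Agent.Lib.Helper23.KunD3
import Groth.Agent.Lib.Helper23.KunF0
import Groth.Agent.Lib.Helper2.Tot.DRing

/-! The tensored short exact sequence `0 → L ⊗ M → L ⊗ CC M → L ⊗ PP M → 0`, its connecting
homomorphism on Künneth classes, and `range Φ_M = ker (H(L ⊗ M) → H(L ⊗ CC M))`. -/

set_option autoImplicit false
universe u
open CategoryTheory Limits HomologicalComplex MonoidalCategory TensorProduct DirectSum

namespace Groth.Agent.Lib.Helper23.Kun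

open Groth.Agent.Lib.Helper2.Tot Groth.Agent.Lib.Helper7

variable {R : Type u} [CommRing R] (L M : Cx R)

/-- `L ⊗ (0 → M → CC M → PP M → 0)`. -/
noncomputable def tSES : ShortComplex (Cx R) :=
  (sesC M).map ((DR.T R).map₂CochainComplex.obj L)

lemma tSES_shortExact : (tSES L M).ShortExact :=
  shortExact_map₂ (DR.T R) L (sesC M) (fun p q =>
    DR.shortExact_of_flat (sesC M) (sesC_shortExact M) (fun j => PP_flat M j) (L.X p) q)

/-- Connecting homomorphism `H^n(L ⊗ PP M) → H^{n'}(L ⊗ M)`. -/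
noncomputable def δT (n n' : ℤ) (h : n + 1 = n') :
    (tens L (PP M)).homology n →ₗ[R] (tens L M).homology n' :=
  ((tSES_shortExact L M).δ n n' h).hom

lemma exact_TMap_ι_π (n : ℤ) : Function.Exact (TMap L (ιC M) n) (TMap L (πC M) n) :=
  (ShortComplex.ShortExact.moduleCat_exact_iff_function_exact _).1
    ((tSES_shortExact L M).homology_exact₂ n)

lemma exact_δT_TMap_ι (n n' : ℤ) (h : n + 1 = n') :
    Function.Exact (δT L M n n' h) (TMap L (ιC M) n') :=
  (ShortComplex.ShortExact.moduleCat_exact_iff_function_exact _).1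
    ((tSES_shortExact L M).homology_exact₁ n n' h)

lemma exact_TMap_π_δT (n n' : ℤ) (h : n + 1 = n') :
    Function.Exact (TMap L (πC M) n) (δT L M n n' h) :=
  (ShortComplex.ShortExact.moduleCat_exact_iff_function_exact _).1
    ((tSES_shortExact L M).homology_exact₃ n n' h)

end Groth.Agent.Lib.Helper23.Kun

namespace Groth.Agent.Lib.Helper23.Kun

open Groth.Agent.Lib.Helper2.Tot Groth.Agent.Lib.Helper7

variable {R : Type u} [CommRing R] (L M : Cx R)

lemma δT_cls (i j n : ℤ) (h : i + j = n) (z : ZS L i) (p : PF M j) :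
    δT L M n (n + 1) rfl (clsL (tens L (PP M)) n
        ⟨inc L (PP M) i j n h (z.1 ⊗ₜ[R] (zP M j p).1),
          d_inc_cycles L (PP M) i j n h z (zP M j p)⟩) =
      ((i.negOnePow : ℤˣ) : ℤ) • clsL (tens L M) (n + 1)
        ⟨inc L M i (j + 1) (n + 1) (by omega) (z.1 ⊗ₜ[R] (sig M j p).1),
          d_inc_cycles L M i (j + 1) (n + 1) (by omega) z (sig M j p)⟩ := by
  have hx₂ : ((HomologicalComplex.tensorHom (𝟙 L) (πC M)).f n).hom
      (inc L (CC M) i j n h (z.1 ⊗ₜ[R] mkC M j p 0)) =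
      inc L (PP M) i j n h (z.1 ⊗ₜ[R] (zP M j p).1) := by
    rw [map_inc, LinearMap.lTensor_tmul]
    rfl
  have hx₁ : ((HomologicalComplex.tensorHom (𝟙 L) (ιC M)).f (n + 1)).hom
      (((i.negOnePow : ℤˣ) : ℤ) •
        inc L M i (j + 1) (n + 1) (by omega) (z.1 ⊗ₜ[R] (sig M j p).1)) =
      ((tens L (CC M)).d n (n + 1)).hom (inc L (CC M) i j n h (z.1 ⊗ₜ[R] mkC M j p 0)) := by
    rw [map_zsmul, map_inc, LinearMap.lTensor_tmul, d_inc, LinearMap.rTensor_tmul,
      LinearMap.lTensor_tmul, (mem_ZS _ _ _).1 z.2, zero_tmul, map_zero, zero_add, CC_d_mkC,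
      map_zero, add_zero, ιC_apply]
    rfl
  have key := δ_clsL (tSES L M) (tSES_shortExact L M) n (n + 1) rfl
    ⟨inc L (PP M) i j n h (z.1 ⊗ₜ[R] (zP M j p).1), d_inc_cycles L (PP M) i j n h z (zP M j p)⟩
    (inc L (CC M) i j n h (z.1 ⊗ₜ[R] mkC M j p 0)) hx₂
    (((i.negOnePow : ℤˣ) : ℤ) • inc L M i (j + 1) (n + 1) (by omega) (z.1 ⊗ₜ[R] (sig M j p).1))
    hx₁
  refine key.trans ?_
  exact map_zsmul (clsL (tens L M) (n + 1)) ((i.negOnePow : ℤˣ) : ℤ)
    ⟨inc L M i (j + 1) (n + 1) (by omega) (z.1 ⊗ₜ[R] (sig M j p).1),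
      d_inc_cycles L M i (j + 1) (n + 1) (by omega) z (sig M j p)⟩

end Groth.Agent.Lib.Helper23.Kun
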