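import Groth.Agent.Lib.Helper23.KunF

/-! `δT ∘ Φ_{PP} = Φ_M ∘ DeltaS` and `range Φ_M = ker (H(L ⊗ M) → H(L ⊗ CC M))`. -/

set_option autoImplicit false
universe u
open CategoryTheory Limits HomologicalComplex MonoidalCategory TensorProduct DirectSum

namespace Groth.Agent.Lib.Helper23.Kun

open Groth.Agent.Lib.Helper2.Tot Groth.Agent.Lib.Helper7

variable {R : Type u} [CommRing R] (L M : Cx R)

/-- Index shift `(i, j) ↦ (i, j + 1)`. -/
abbrev shiftIdx (n : ℤ) (ij : HTor.Antidiag n) : HTor.Antidiag (n + 1) :=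
  ⟨(ij.1.1, ij.1.2 + 1), by have := ij.2; omega⟩

lemma shiftIdx_surjective (n : ℤ) : Function.Surjective (shiftIdx n) := by
  rintro ⟨⟨i, j⟩, h⟩
  refine ⟨⟨(i, j - 1), by simp only at h ⊢; omega⟩, ?_⟩
  apply Subtype.ext
  apply Prod.ext
  · rfl
  · simp [shiftIdx]

/-- Component of `DeltaS`. -/
noncomputable def DeltaK (n : ℤ) (ij : HTor.Antidiag n) :
    (L.homology ij.1.1 ⊗[R] (PP M).homology ij.1.2) →ₗ[R]
      (L.homology (shiftIdx n ij).1.1 ⊗[R] M.homology (shiftIdx n ij).1.2) :=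
  ((ij.1.1.negOnePow : ℤˣ) : ℤ) •
    LinearMap.lTensor (L.homology ij.1.1) (δC M ij.1.2 (ij.1.2 + 1) rfl).hom

/-- The signed sum of `id ⊗ δ`. -/
noncomputable def DeltaS (n : ℤ) : HTor.KunnethSum L (PP M) n →ₗ[R] HTor.KunnethSum L M (n + 1) :=
  reidx (A := fun ij : HTor.Antidiag n => L.homology ij.1.1 ⊗[R] (PP M).homology ij.1.2)
    (B := fun ij : HTor.Antidiag (n + 1) => L.homology ij.1.1 ⊗[R] M.homology ij.1.2)
    (shiftIdx n) (DeltaK L M n)

lemma DeltaS_lof (n : ℤ) (ij : HTor.Antidiag n)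
    (t : L.homology ij.1.1 ⊗[R] (PP M).homology ij.1.2) :
    DeltaS L M n (DirectSum.lof R (HTor.Antidiag n) _ ij t) =
      DirectSum.lof R (HTor.Antidiag (n + 1)) _ (shiftIdx n ij) (DeltaK L M n ij t) :=
  reidx_lof (A := fun ij : HTor.Antidiag n => L.homology ij.1.1 ⊗[R] (PP M).homology ij.1.2)
    (B := fun ij : HTor.Antidiag (n + 1) => L.homology ij.1.1 ⊗[R] M.homology ij.1.2)
    (shiftIdx n) (DeltaK L M n) ij t

lemma DeltaK_surjective (n : ℤ) (ij : HTor.Antidiag n) :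
    Function.Surjective (DeltaK L M n ij) := by
  intro y
  haveI : Epi (δC M ij.1.2 (ij.1.2 + 1) rfl) := (homSES_shortExact M ij.1.2 (ij.1.2 + 1) rfl).epi_g
  have hs : Function.Surjective (δC M ij.1.2 (ij.1.2 + 1) rfl).hom :=
    (ModuleCat.epi_iff_surjective _).1 inferInstance
  obtain ⟨x, hx⟩ := LinearMap.lTensor_surjective (L.homology ij.1.1) hs y
  refine ⟨((ij.1.1.negOnePow : ℤˣ) : ℤ) • x, ?_⟩
  unfold DeltaK
  rw [LinearMap.smul_apply, map_zsmul, hx, units_smul_smul]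

lemma DeltaS_surjective (n : ℤ) : Function.Surjective (DeltaS L M n) :=
  reidx_surjective _ (shiftIdx_surjective n) _ (DeltaK_surjective L M n)

lemma DeltaS_SMap (n : ℤ) (v : HTor.KunnethSum L (CC M) n) :
    DeltaS L M n (SMap L (πC M) n v) = 0 := by
  induction v using DirectSum.induction_on with
  | zero => simp
  | add x y hx hy => rw [map_add, map_add, hx, hy, add_zero]
  | of ij t =>
    change DeltaS L M n (SMap L (πC M) n (DirectSum.lof R (HTor.Antidiag n) _ ij t)) = 0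
    rw [SMap_lof, DeltaS_lof]
    have : DeltaK L M n ij (LinearMap.lTensor (L.homology ij.1.1)
        (HomologicalComplex.homologyMap (πC M) ij.1.2).hom t) = 0 := by
      unfold DeltaK
      rw [LinearMap.smul_apply, ← LinearMap.comp_apply, ← LinearMap.lTensor_comp]
      have hz : (δC M ij.1.2 (ij.1.2 + 1) rfl).hom ∘ₗ
          (HomologicalComplex.homologyMap (πC M) ij.1.2).hom = 0 := by
        have := (sesC_shortExact M).comp_δ ij.1.2 (ij.1.2 + 1) rfl
        exact congrArg ModuleCat.Hom.hom this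
      rw [hz, LinearMap.lTensor_zero, LinearMap.zero_apply, smul_zero]
    rw [this, map_zero]

theorem δT_Phi (n : ℤ) (y : HTor.KunnethSum L (PP M) n) :
    δT L M n (n + 1) rfl (Phi L (PP M) n y) = Phi L M (n + 1) (DeltaS L M n y) := by
  induction y using kunnethSum_induction L (PP M) with
  | zero => simp
  | add x y hx hy => rw [map_add, map_add, map_add, map_add, hx, hy]
  | pure i j h z z' =>
    obtain ⟨p, rfl⟩ := zP_surjective M j z'
    rw [Phi_cls, δT_cls, DeltaS_lof]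
    have hD : DeltaK L M n ⟨(i, j), h⟩ (clsL L i z ⊗ₜ[R] clsL (PP M) j (zP M j p)) =
        ((i.negOnePow : ℤˣ) : ℤ) • (clsL L i z ⊗ₜ[R] clsL M (j + 1) (sig M j p)) := by
      unfold DeltaK
      rw [LinearMap.smul_apply, LinearMap.lTensor_tmul]
      congr 2
      exact δC_clsL M j p
    rw [hD, map_zsmul, map_zsmul]
    congr 1
    exact (Phi_cls L M i (j + 1) (n + 1) (by omega) z (sig M j p)).symm

lemma SMap_ιC (n : ℤ) (x : HTor.KunnethSum L M n) : SMap L (ιC M) n x = 0 := by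
  induction x using DirectSum.induction_on with
  | zero => simp
  | add x y hx hy => rw [map_add, hx, hy, add_zero]
  | of ij t =>
    change SMap L (ιC M) n (DirectSum.lof R (HTor.Antidiag n) _ ij t) = 0
    rw [SMap_lof, homologyMap_ιC]
    simp

theorem range_Phi_eq_ker (n : ℤ) :
    LinearMap.range (Phi L M n) = LinearMap.ker (TMap L (ιC M) n) := by
  obtain ⟨m, rfl⟩ : ∃ m, n = m + 1 := ⟨n - 1, by omega⟩
  apply le_antisymm
  · rintro _ ⟨x, rfl⟩
    rw [LinearMap.mem_ker, Phi_natural, SMap_ιC, map_zero]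
  · intro y hy
    rw [LinearMap.mem_ker] at hy
    obtain ⟨y', rfl⟩ := (exact_δT_TMap_ι L M m (m + 1) rfl y).1 hy
    obtain ⟨x', rfl⟩ := Phi_surjective_of_zero L (PP M) (PP_d M) (fun j => PP_flat M j) m y'
    exact ⟨DeltaS L M m x', (δT_Phi L M m x').symm⟩

end Groth.Agent.Lib.Helper23.Kun
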