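import Groth.Agent.Lib.Helper7.TorNat7
import Groth.Agent.Lib.Helper7.TorBasic

/-! Dimension shifting for `Tor` in the second variable along `0 → X₁ → X₂ → X₃ → 0`, `X₂` flat:
surjections `Tor_{p+1}(M, X₃) ↠ Tor_p(M, X₁)` (`p ≥ 1`) and `Tor_1(M, X₃) ↠ ker (M ⊗ X₁ → M ⊗ X₂)`. -/

set_option autoImplicit false
universe u
open CategoryTheory CategoryTheory.Limits MonoidalCategory TensorProduct

namespace Groth.Agent.Lib.Helper23.Kun

open Groth.Agent.Lib.Helper7

variable {A : Type u} [CommRing A]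

theorem torδ_surjective (M : ModuleCat.{u} A) (S : ShortComplex (ModuleCat.{u} A))
    (hS : S.ShortExact) (hfl : Module.Flat A S.X₂) (p : ℕ) (hp : 0 < p) :
    Function.Surjective (torδ M S hS p).hom := by
  obtain ⟨w, hex⟩ := torδ_exact₁ M S hS p
  rw [ShortComplex.moduleCat_exact_iff] at hex
  intro y
  haveI := Tor_subsingleton_of_flat_right M S.X₂ hfl p hp
  obtain ⟨x, hx⟩ := hex y (Subsingleton.elim _ _)
  exact ⟨x, hx⟩

/-- The connecting map `Tor_1(M, X₃) → M ⊗ X₁`. -/
noncomputable def torOneMap (M : ModuleCat.{u} A) (S : ShortComplex (ModuleCat.{u} A))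
    (hS : S.ShortExact) :
    ((Tor (ModuleCat.{u} A) (0 + 1)).obj M).obj S.X₃ →ₗ[A] (M ⊗[A] S.X₁) :=
  (tor0Equiv M S.X₁).toLinearMap.comp (torδ M S hS 0).hom

theorem range_torOneMap (M : ModuleCat.{u} A) (S : ShortComplex (ModuleCat.{u} A))
    (hS : S.ShortExact) (hfl : Module.Flat A S.X₂) :
    LinearMap.range (torOneMap M S hS) = LinearMap.ker (LinearMap.lTensor M S.f.hom) := by
  obtain ⟨w, hex⟩ := torδ_exact₁ M S hS 0
  rw [ShortComplex.moduleCat_exact_iff] at hex
  ext y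
  constructor
  · rintro ⟨x, rfl⟩
    rw [LinearMap.mem_ker]
    change LinearMap.lTensor M S.f.hom (tor0Equiv M S.X₁ ((torδ M S hS 0).hom x)) = 0
    rw [← tor0Equiv_naturality]
    have := congrArg (fun F => F.hom x) w
    change (((Tor (ModuleCat.{u} A) 0).obj M).map S.f).hom ((torδ M S hS 0).hom x) = 0 at this
    rw [this, map_zero]
  · intro hy
    rw [LinearMap.mem_ker] at hy
    have h1 : (((Tor (ModuleCat.{u} A) 0).obj M).map S.f).hom ((tor0Equiv M S.X₁).symm y) = 0 := by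
      apply (tor0Equiv M S.X₂).injective
      rw [tor0Equiv_naturality, LinearEquiv.apply_symm_apply, hy, map_zero]
    obtain ⟨x, hx⟩ := hex _ h1
    refine ⟨x, ?_⟩
    change tor0Equiv M S.X₁ ((torδ M S hS 0).hom x) = y
    erw [hx]
    exact LinearEquiv.apply_symm_apply _ _

end Groth.Agent.Lib.Helper23.Kun
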