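import Groth.Agent.Lib.Helper23.KunF2
import Groth.Agent.Lib.Helper23.KunG

/-! The Tor-side maps: `gTor : TorSum L M n 1 → KunnethSum L (CC M) n` with range `ker S(πC)`, and
the surjection `hTor : TorSum L M n (p+2) ↠ TorSum L (CC M) n (p+1)`. -/

set_option autoImplicit false
universe u
open CategoryTheory Limits HomologicalComplex MonoidalCategory TensorProduct DirectSum

namespace Groth.Agent.Lib.Helper23.Kun

open Groth.Agent.Lib.Helper2.Tot Groth.Agent.Lib.Helper7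

variable {R : Type u} [CommRing R] (L M : Cx R)

/-- `(i, j') ↦ (i, j' - 1)`. -/
abbrev backIdx0 (n : ℤ) (ij : {ij : ℤ × ℤ // ij.1 + ij.2 - ((0 + 1 : ℕ) : ℤ) = n}) :
    HTor.Antidiag n :=
  ⟨(ij.1.1, ij.1.2 - 1), by have := ij.2; push_cast at this; omega⟩

lemma backIdx0_surjective (n : ℤ) : Function.Surjective (backIdx0 n) := by
  rintro ⟨⟨i, j⟩, h⟩
  refine ⟨⟨(i, j + 1), by simp only at h ⊢; push_cast; omega⟩, ?_⟩
  apply Subtype.ext
  apply Prod.ext
  · rfl
  · simp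

/-- Component `Tor_1(H^i L, H^{j'} M) → H^i L ⊗ H^j (CC M)`. -/
noncomputable def gK (i j j' : ℤ) (h : j + 1 = j') :
    DRing.Tor R (0 + 1) (L.homology i) (M.homology j') →ₗ[R]
      (L.homology i ⊗[R] (CC M).homology j) :=
  torOneMap (ModuleCat.of R (L.homology i)) (homSES M j j' h) (homSES_shortExact M j j' h)

lemma range_gK (i j j' : ℤ) (h : j + 1 = j') :
    LinearMap.range (gK L M i j j' h) =
      LinearMap.ker (LinearMap.lTensor (L.homology i)
        (HomologicalComplex.homologyMap (πC M) j).hom) :=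
  range_torOneMap (ModuleCat.of R (L.homology i)) (homSES M j j' h) (homSES_shortExact M j j' h)
    (homSES_flat M j j' h)

noncomputable def gTor (n : ℤ) : HTor.TorSum L M n (0 + 1) →ₗ[R] HTor.KunnethSum L (CC M) n :=
  reidx (A := fun ij : {ij : ℤ × ℤ // ij.1 + ij.2 - ((0 + 1 : ℕ) : ℤ) = n} =>
      DRing.Tor R (0 + 1) (L.homology ij.1.1) (M.homology ij.1.2))
    (B := fun ij : HTor.Antidiag n => L.homology ij.1.1 ⊗[R] (CC M).homology ij.1.2)
    (backIdx0 n) (fun ij => gK L M ij.1.1 (ij.1.2 - 1) ij.1.2 (by omega))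

theorem mem_range_gTor (n : ℤ) (y : HTor.KunnethSum L (CC M) n)
    (hy : SMap L (πC M) n y = 0) : y ∈ LinearMap.range (gTor L M n) := by
  apply mem_range_reidx (A := fun ij : {ij : ℤ × ℤ // ij.1 + ij.2 - ((0 + 1 : ℕ) : ℤ) = n} =>
      DRing.Tor R (0 + 1) (L.homology ij.1.1) (M.homology ij.1.2))
    (B := fun ij : HTor.Antidiag n => L.homology ij.1.1 ⊗[R] (CC M).homology ij.1.2)
    (backIdx0 n) (backIdx0_surjective n)
  intro a
  rw [range_gK, LinearMap.mem_ker]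
  have := congrArg (fun c : HTor.KunnethSum L (PP M) n => c (backIdx0 n a)) hy
  exact this

/-- `(i, j') ↦ (i, j' - 1)`. -/
abbrev backIdxP (n : ℤ) (p : ℕ) (ij : {ij : ℤ × ℤ // ij.1 + ij.2 - ((p + 1 + 1 : ℕ) : ℤ) = n}) :
    {ij : ℤ × ℤ // ij.1 + ij.2 - ((p + 1 : ℕ) : ℤ) = n} :=
  ⟨(ij.1.1, ij.1.2 - 1), by have := ij.2; push_cast at this ⊢; omega⟩

lemma backIdxP_surjective (n : ℤ) (p : ℕ) : Function.Surjective (backIdxP n p) := by
  rintro ⟨⟨i, j⟩, h⟩
  refine ⟨⟨(i, j + 1), by simp only at h ⊢; push_cast at h ⊢; omega⟩, ?_⟩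
  apply Subtype.ext
  apply Prod.ext
  · rfl
  · simp

/-- Component `Tor_{p+2}(H^i L, H^{j'} M) → Tor_{p+1}(H^i L, H^j (CC M))`. -/
noncomputable def hK (i j j' : ℤ) (h : j + 1 = j') (p : ℕ) :
    DRing.Tor R (p + 1 + 1) (L.homology i) (M.homology j') →ₗ[R]
      DRing.Tor R (p + 1) (L.homology i) ((CC M).homology j) :=
  (torδ (ModuleCat.of R (L.homology i)) (homSES M j j' h) (homSES_shortExact M j j' h) (p + 1)).hom

lemma hK_surjective (i j j' : ℤ) (h : j + 1 = j') (p : ℕ) :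
    Function.Surjective (hK L M i j j' h p) :=
  torδ_surjective (ModuleCat.of R (L.homology i)) (homSES M j j' h) (homSES_shortExact M j j' h)
    (homSES_flat M j j' h) (p + 1) (Nat.succ_pos p)

noncomputable def hTor (n : ℤ) (p : ℕ) :
    HTor.TorSum L M n (p + 1 + 1) →ₗ[R] HTor.TorSum L (CC M) n (p + 1) :=
  reidx (A := fun ij : {ij : ℤ × ℤ // ij.1 + ij.2 - ((p + 1 + 1 : ℕ) : ℤ) = n} =>
      DRing.Tor R (p + 1 + 1) (L.homology ij.1.1) (M.homology ij.1.2))
    (B := fun ij : {ij : ℤ × ℤ // ij.1 + ij.2 - ((p + 1 : ℕ) : ℤ) = n} =>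
      DRing.Tor R (p + 1) (L.homology ij.1.1) ((CC M).homology ij.1.2))
    (backIdxP n p) (fun ij => hK L M ij.1.1 (ij.1.2 - 1) ij.1.2 (by omega) p)

theorem hTor_surjective (n : ℤ) (p : ℕ) : Function.Surjective (hTor L M n p) :=
  reidx_surjective _ (backIdxP_surjective n p) _ (fun ij => hK_surjective L M _ _ _ _ p)

end Groth.Agent.Lib.Helper23.Kun
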