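import Groth.Agent.Lib.Helper23.KunB
import Groth.Agent.Lib.Helper2.Tot.DRingSymm
import Groth.Agent.Lib.Helper2.Tot.Bounded

/-! Vanishing of `H^n(L ⊗ M)` above `bL + b` when `L` is termwise flat and strictly `≤ bL` and
`M` is cohomologically `≤ b`. -/

set_option autoImplicit false
universe u
open CategoryTheory Limits HomologicalComplex MonoidalCategory TensorProduct

namespace Groth.Agent.Lib.Helper23.Kun

open Groth.Agent.Lib.Helper2.Tot

variable {R : Type u} [CommRing R]

theorem isZero_homology_tens (L M : Cx R) (hL : ∀ i : ℤ, Module.Flat R (L.X i)) (bL : ℤ)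
    (hbL : ∀ i : ℤ, bL < i → IsZero (L.X i)) (b : ℤ)
    (hb : ∀ j : ℤ, b < j → IsZero (M.homology j)) (n : ℤ) (hn : bL + b < n) :
    IsZero ((tens L M).homology n) := by
  haveI : L.IsStrictlyLE bL := by
    rw [CochainComplex.isStrictlyLE_iff]
    exact hbL
  haveI : M.IsLE b := by
    rw [CochainComplex.isLE_iff]
    intro i hi
    rw [HomologicalComplex.exactAt_iff_isZero_homology]
    exact hb i hi
  have hfl := DR.kflat_flip_of_isStrictlyLE (R := R) L bL hL
  haveI hq : QuasiIso (HomologicalComplex.tensorHom (𝟙 L) (M.ιTruncLE b)) :=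
    quasiIso_map₂_of_kflat_flip (F := DR.T R) hfl (M.ιTruncLE b)
  have hz : IsZero ((tens L (M.truncLE b)).X n) :=
    isZero_tot_X (F := DR.T R) L (M.truncLE b) bL b n hn
  have hz' : IsZero ((tens L (M.truncLE b)).homology n) :=
    (HomologicalComplex.ExactAt.of_isZero hz).isZero_homology
  exact IsZero.of_iso hz'
    (asIso (HomologicalComplex.homologyMap
      (HomologicalComplex.tensorHom (𝟙 L) (M.ιTruncLE b)) n)).symm

end Groth.Agent.Lib.Helper23.Kun
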