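import Groth.Agent.Lib.Helper23.KunF3
import Groth.Agent.Lib.Helper23.KunA
import Groth.Agent.Lib.Helper23.KunH

/-! The Künneth filtration by dimension shifting: main induction. -/

set_option autoImplicit false
universe u
open CategoryTheory Limits HomologicalComplex MonoidalCategory TensorProduct DirectSum

namespace Groth.Agent.Lib.Helper23.Kun

open Groth.Agent.Lib.Helper2.Tot Groth.Agent.Lib.Helper7

variable {R : Type u} [CommRing R]

/-- The Künneth filtration statement in degree `n`. -/
def KunOK (L M : Cx R) (n : ℤ) : Prop :=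
  ∃ (N : ℕ) (F : ℕ → Submodule R ((tens L M).homology n)),
    F 0 = LinearMap.range (Phi L M n) ∧ Monotone F ∧ F N = ⊤ ∧
    ∀ p : ℕ, HTor.IsSubquotient R (HTor.grSucc F p) (HTor.TorSum L M n (p + 1))

theorem kunOK_step (L M : Cx R) (n : ℤ) (hOK : KunOK L (CC M) n) : KunOK L M n := by
  obtain ⟨N, F', hF0, hmono, htop, hgr⟩ := hOK
  refine ⟨N + 1, pullF (TMap L (ιC M) n) F', ?_, pullF_monotone _ _ hmono,
    pullF_top _ _ N htop, ?_⟩
  · rw [pullF_zero, range_Phi_eq_ker]
  · intro p
    cases p with
    | zero =>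
      apply isSubquotient_grSucc_zero (TMap L (ιC M) n) F'
        ((Phi L (CC M) n) ∘ₗ (gTor L M n))
      intro x hx
      rw [hF0] at hx
      obtain ⟨y, hy⟩ := hx
      have h0 : TMap L (πC M) n (TMap L (ιC M) n x) = 0 :=
        (exact_TMap_ι_π L M n).apply_apply_eq_zero x
      rw [← hy, Phi_natural] at h0
      have h1 : SMap L (πC M) n y = 0 := by
        apply Phi_injective_of_zero L (PP M) (PP_d M) (fun j => PP_flat M j) n
        rw [h0, map_zero]
      obtain ⟨τ, hτ⟩ := mem_range_gTor L M n y h1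
      exact ⟨τ, by rw [LinearMap.comp_apply, hτ, hy]⟩
    | succ p =>
      obtain ⟨g, hg⟩ := exists_injective_grSucc (TMap L (ιC M) n) F' p
      exact IsSubquotient.trans (IsSubquotient.trans (isSubquotient_of_injective g hg) (hgr p))
        (isSubquotient_of_surjective (hTor L M n p) (hTor_surjective L M n p))

lemma kunOK_of_isZero (L M : Cx R) (n : ℤ) (hz : IsZero ((tens L M).homology n)) :
    KunOK L M n := by
  haveI : Subsingleton ((tens L M).homology n) := ModuleCat.subsingleton_of_isZero hz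
  refine ⟨0, fun _ => ⊤, ?_, fun _ _ _ => le_rfl, rfl, ?_⟩
  · ext x
    rw [Subsingleton.elim x 0]
    simp
  · intro p
    haveI : Subsingleton (HTor.grSucc (fun _ : ℕ => (⊤ : Submodule R ((tens L M).homology n))) p) := by
      refine ⟨fun a b => ?_⟩
      obtain ⟨a', rfl⟩ := Submodule.mkQ_surjective _ a
      obtain ⟨b', rfl⟩ := Submodule.mkQ_surjective _ b
      congr 1
      exact Subtype.ext (Subsingleton.elim _ _)
    exact isSubquotient_of_subsingleton

theorem kunOK (L : Cx R) (hL : ∀ i : ℤ, Module.Flat R (L.X i)) (bL : ℤ)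
    (hbL : ∀ i : ℤ, bL < i → IsZero (L.X i)) (n : ℤ) :
    ∀ (d : ℕ) (M : Cx R) (b : ℤ), (∀ j : ℤ, b < j → IsZero (M.homology j)) →
      bL + b < n + d → KunOK L M n := by
  intro d
  induction d with
  | zero =>
    intro M b hb hlt
    exact kunOK_of_isZero L M n
      (isZero_homology_tens L M hL bL hbL b hb n (by simpa using hlt))
  | succ d ih =>
    intro M b hb hlt
    apply kunOK_step
    apply ih (CC M) (b - 1)
    · intro j hj
      exact isZero_homology_CC M j (hb (j + 1) (by omega))
    · push_cast at hlt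
      omega

theorem kunOK' (L M : Cx R) (hL : ∀ i : ℤ, Module.Flat R (L.X i)) (bL : ℤ)
    (hbL : ∀ i : ℤ, bL < i → IsZero (L.X i)) (b : ℤ)
    (hb : ∀ j : ℤ, b < j → IsZero (M.homology j)) (n : ℤ) : KunOK L M n :=
  kunOK L hL bL hbL n (bL + b - n + 1).toNat M b hb (by
    have := Int.self_le_toNat (bL + b - n + 1)
    omega)

end Groth.Agent.Lib.Helper23.Kun
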