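import Groth.Agent.Lib.Helper23.KunI

/-! Consequences of the Künneth filtration: vanishing, and bijectivity of the Künneth map when the
cohomology of `L` is flat. -/

set_option autoImplicit false
universe u
open CategoryTheory Limits HomologicalComplex MonoidalCategory TensorProduct DirectSum

namespace Groth.Agent.Lib.Helper23.Kun

open Groth.Agent.Lib.Helper2.Tot Groth.Agent.Lib.Helper7

variable {R : Type u} [CommRing R]

lemma subsingleton_directSum {ι : Type*} {A : ι → Type*} [∀ i, AddCommMonoid (A i)]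
    (h : ∀ i, Subsingleton (A i)) : Subsingleton (⨁ i, A i) :=
  ⟨fun _ _ => DFinsupp.ext (fun i => (h i).elim _ _)⟩

lemma le_of_subsingleton_grSucc {H : Type u} [AddCommGroup H] [Module R H]
    (F : ℕ → Submodule R H) (p : ℕ) (h : Subsingleton (HTor.grSucc F p)) : F (p + 1) ≤ F p := by
  intro x hx
  have h1 : (Submodule.Quotient.mk (⟨x, hx⟩ : ↥(F (p + 1))) :
      HTor.grSucc F p) = 0 := Subsingleton.elim _ _
  rw [Submodule.Quotient.mk_eq_zero] at h1
  exact h1

lemma top_le_zero_of_subsingleton_grSucc {H : Type u} [AddCommGroup H] [Module R H]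
    (F : ℕ → Submodule R H) (h : ∀ p, Subsingleton (HTor.grSucc F p)) (N : ℕ) : F N ≤ F 0 := by
  induction N with
  | zero => exact le_rfl
  | succ N ih => exact (le_of_subsingleton_grSucc F N (h N)).trans ih

theorem Phi_surjective_of_kunOK (L M : Cx R) (n : ℤ) (hOK : KunOK L M n)
    (hT : ∀ p : ℕ, Subsingleton (HTor.TorSum L M n (p + 1))) :
    Function.Surjective (Phi L M n) := by
  obtain ⟨N, F, hF0, hmono, htop, hgr⟩ := hOK
  have h1 : F N ≤ F 0 := top_le_zero_of_subsingleton_grSucc F
    (fun p => @subsingleton_of_isSubquotient R _ _ _ _ _ _ _ (hT p) (hgr p)) N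
  rw [htop, hF0] at h1
  rw [← LinearMap.range_eq_top]
  exact top_le_iff.1 h1

theorem isZero_of_kunOK (L M : Cx R) (n : ℤ) (hOK : KunOK L M n)
    (hT : ∀ p : ℕ, Subsingleton (HTor.TorSum L M n (p + 1)))
    (hS : Subsingleton (HTor.KunnethSum L M n)) : IsZero ((tens L M).homology n) := by
  have hsurj := Phi_surjective_of_kunOK L M n hOK hT
  haveI : Subsingleton ((tens L M).homology n) := by
    refine ⟨fun a b => ?_⟩
    obtain ⟨a', rfl⟩ := hsurj a
    obtain ⟨b', rfl⟩ := hsurj b
    rw [Subsingleton.elim a' b']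
  exact ModuleCat.isZero_of_subsingleton _

theorem Phi_injective_of_surjective (L M : Cx R)
    (hsurj : ∀ m : ℤ, Function.Surjective (Phi L (CC M) m)) (n : ℤ) :
    Function.Injective (Phi L M n) := by
  obtain ⟨m, rfl⟩ : ∃ m, n = m + 1 := ⟨n - 1, by omega⟩
  rw [injective_iff_map_eq_zero]
  intro x hx
  obtain ⟨y, rfl⟩ := DeltaS_surjective L M m x
  rw [← δT_Phi] at hx
  obtain ⟨w, hw⟩ := (exact_TMap_π_δT L M m (m + 1) rfl _).1 hx
  obtain ⟨v, rfl⟩ := hsurj m w
  rw [Phi_natural] at hw
  have hy : SMap L (πC M) m v = y :=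
    Phi_injective_of_zero L (PP M) (PP_d M) (fun j => PP_flat M j) m hw
  rw [← hy, DeltaS_SMap]

end Groth.Agent.Lib.Helper23.Kun
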