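import Mathlib
import Groth.Prelude.Def_LambdaRing

/-!
Pre-λ-ring identities (only additivity of λ_t and λ_t(1) = 1 + t are used).
-/

namespace Groth.Agent.Lib.Helper23.Lam

open Finset LambdaRing

universe u
variable {K : Type u} [CommRing K] [LambdaRing.LambdaOps K]

theorem lam_succ_add_line (x L : K) (hL : ∀ j : ℕ, 2 ≤ j → LambdaOps.lam j L = 0) (k : ℕ) :
    LambdaOps.lam (k + 1) (x + L) = LambdaOps.lam (k + 1) x + LambdaOps.lam k x * L := by
  rw [LambdaOps.lam_add, Finset.sum_range_succ, Finset.sum_range_succ]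
  have h0 : ∑ i ∈ range k, LambdaOps.lam i x * LambdaOps.lam (k + 1 - i) L = 0 := by
    refine Finset.sum_eq_zero fun i hi => ?_
    have hi' := Finset.mem_range.mp hi
    rw [hL (k + 1 - i) (by omega), mul_zero]
  rw [h0, Nat.sub_self, Nat.add_sub_cancel_left, LambdaOps.lam_zero, LambdaOps.lam_one]
  ring

theorem lam_succ_add_one (h1 : ∀ k : ℕ, 2 ≤ k → LambdaOps.lam k (1 : K) = 0) (x : K) (k : ℕ) :
    LambdaOps.lam (k + 1) (x + 1) = LambdaOps.lam (k + 1) x + LambdaOps.lam k x := by
  rw [lam_succ_add_line x 1 h1 k, mul_one]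

theorem lam_add_nat (h1 : ∀ k : ℕ, 2 ≤ k → LambdaOps.lam k (1 : K) = 0) (m : ℕ) :
    ∀ (n : ℕ) (x : K), LambdaOps.lam n (x + (m : K)) =
      ∑ i ∈ range (n + 1), ((m.choose (n - i) : ℕ) : K) * LambdaOps.lam i x := by
  induction m with
  | zero =>
    intro n x
    rw [Nat.cast_zero, add_zero, Finset.sum_eq_single_of_mem n (Finset.self_mem_range_succ n)]
    · simp
    · intro i hi hne
      have hi' := Finset.mem_range.mp hi
      have h0 : Nat.choose 0 (n - i) = 0 := Nat.choose_eq_zero_of_lt (by omega)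
      rw [h0, Nat.cast_zero, zero_mul]
  | succ m ih =>
    intro n x
    have hx : x + ((m + 1 : ℕ) : K) = (x + (m : K)) + 1 := by push_cast; ring
    rw [hx]
    cases n with
    | zero => simp [LambdaOps.lam_zero]
    | succ n =>
      have e1 : ∑ i ∈ range (n + 1 + 1), ((m.choose (n + 1 - i) : ℕ) : K) * LambdaOps.lam i x
          = ∑ i ∈ range (n + 1), ((m.choose (n - i + 1) : ℕ) : K) * LambdaOps.lam i x
            + LambdaOps.lam (n + 1) x := by
        rw [Finset.sum_range_succ, Nat.sub_self, Nat.choose_zero_right, Nat.cast_one, one_mul]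
        congr 1
        refine Finset.sum_congr rfl fun i hi => ?_
        have hi' := Finset.mem_range.mp hi
        rw [show n + 1 - i = n - i + 1 by omega]
      have e2 : ∑ i ∈ range (n + 1 + 1), (((m + 1).choose (n + 1 - i) : ℕ) : K) * LambdaOps.lam i x
          = ∑ i ∈ range (n + 1), ((m.choose (n - i) : ℕ) : K) * LambdaOps.lam i x
            + ∑ i ∈ range (n + 1), ((m.choose (n - i + 1) : ℕ) : K) * LambdaOps.lam i x
            + LambdaOps.lam (n + 1) x := by
        rw [Finset.sum_range_succ, Nat.sub_self, Nat.choose_zero_right, Nat.cast_one, one_mul,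
          ← Finset.sum_add_distrib]
        congr 1
        refine Finset.sum_congr rfl fun i hi => ?_
        have hi' := Finset.mem_range.mp hi
        rw [show n + 1 - i = n - i + 1 by omega, Nat.choose_succ_succ, Nat.cast_add, add_mul]
      rw [lam_succ_add_one h1, ih, ih, e1, e2]
      ring

theorem alt_sum_lam_add_one (h1 : ∀ k : ℕ, 2 ≤ k → LambdaOps.lam k (1 : K) = 0) (z : K) (n : ℕ) :
    ∑ i ∈ range (n + 1), (-1 : K) ^ i * LambdaOps.lam i (z + 1)
      = (-1 : K) ^ n * LambdaOps.lam n z := by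
  induction n with
  | zero => simp [LambdaOps.lam_zero]
  | succ n ih =>
    rw [Finset.sum_range_succ, ih, lam_succ_add_one h1]
    ring

theorem gamma_eq (h1 : ∀ k : ℕ, 2 ≤ k → LambdaOps.lam k (1 : K) = 0) (n : ℕ) (x : K) :
    gamma n x = LambdaOps.lam n (x + (n : K) - 1) := by
  cases n with
  | zero => simp [gamma, LambdaOps.lam_zero]
  | succ m =>
    have hx : x + ((m + 1 : ℕ) : K) - 1 = x + (m : K) := by push_cast; ring
    rw [hx, lam_add_nat h1, gamma, if_neg (Nat.succ_ne_zero m)]
    refine Finset.sum_congr rfl fun j hj => ?_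
    have hj' := Finset.mem_range.mp hj
    rcases Nat.eq_zero_or_pos j with rfl | hpos
    · simp
    · have hj0 : j ≠ 0 := by omega
      have hc : m.choose (m + 1 - j) = m.choose (j - 1) := by
        rw [show m + 1 - j = m - (j - 1) by omega]
        exact Nat.choose_symm (by omega)
      rw [if_neg hj0, Nat.add_sub_cancel, hc]

theorem lam_succ_zero (h1 : ∀ k : ℕ, 2 ≤ k → LambdaOps.lam k (1 : K) = 0) (k : ℕ) :
    LambdaOps.lam (k + 1) (0 : K) = 0 := by
  induction k with
  | zero => exact LambdaOps.lam_one 0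
  | succ k ih =>
    have h := lam_succ_add_one h1 (0 : K) (k + 1)
    rw [zero_add, h1 (k + 1 + 1) (by omega), ih, add_zero] at h
    exact h.symm

theorem gamma_succ_zero (h1 : ∀ k : ℕ, 2 ≤ k → LambdaOps.lam k (1 : K) = 0) (k : ℕ) :
    gamma (k + 1) (0 : K) = 0 := by
  rw [gamma, if_neg (Nat.succ_ne_zero k)]
  refine Finset.sum_eq_zero fun j hj => ?_
  rcases Nat.eq_zero_or_pos j with rfl | hpos
  · simp
  · obtain ⟨i, rfl⟩ := Nat.exists_eq_add_one_of_ne_zero (by omega : j ≠ 0)
    rw [if_neg (Nat.succ_ne_zero i), lam_succ_zero h1, mul_zero]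

theorem gamma_succ_add_line_sub_one (h1 : ∀ k : ℕ, 2 ≤ k → LambdaOps.lam k (1 : K) = 0)
    (z y : K) (hy : ∀ j : ℕ, 2 ≤ j → LambdaOps.lam j y = 0) (k : ℕ) :
    gamma (k + 1) (z + y - 1) = gamma (k + 1) z + (y - 1) * gamma k z := by
  rw [gamma_eq h1, gamma_eq h1, gamma_eq h1]
  have e1 : z + y - 1 + ((k + 1 : ℕ) : K) - 1 = (z + (k : K) - 1) + y := by push_cast; ring
  have e2 : z + ((k + 1 : ℕ) : K) - 1 = (z + (k : K) - 1) + 1 := by push_cast; ring
  rw [e1, e2, lam_succ_add_line _ y hy, lam_succ_add_one h1]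
  ring

omit [LambdaRing.LambdaOps K] in
theorem esymm_cons (a : K) (m : Multiset K) (k : ℕ) :
    (a ::ₘ m).esymm (k + 1) = m.esymm (k + 1) + a * m.esymm k := by
  simp only [Multiset.esymm, Multiset.powersetCard_cons, Multiset.map_add, Multiset.sum_add,
    Multiset.map_map, Function.comp_def, Multiset.prod_cons, Multiset.sum_map_mul_left]

theorem gamma_multiset (h1 : ∀ k : ℕ, 2 ≤ k → LambdaOps.lam k (1 : K) = 0) (m : Multiset K) :
    (∀ a ∈ m, ∀ j : ℕ, 2 ≤ j → LambdaOps.lam j a = 0) → ∀ k : ℕ,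
    gamma k (m.sum - (Multiset.card m : K)) = (m.map fun a => a - 1).esymm k := by
  induction m using Multiset.induction_on with
  | empty =>
    intro _ k
    cases k with
    | zero => simp [gamma, Multiset.esymm, Multiset.powersetCard_zero_left]
    | succ k =>
      rw [Multiset.sum_zero, Multiset.card_zero, Nat.cast_zero, sub_zero, gamma_succ_zero h1,
        Multiset.map_zero, Multiset.esymm, Multiset.powersetCard_zero_right, Multiset.map_zero,
        Multiset.sum_zero]
  | cons a m ih =>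
    intro hm k
    have hm' : ∀ b ∈ m, ∀ j : ℕ, 2 ≤ j → LambdaOps.lam j b = 0 :=
      fun b hb => hm b (Multiset.mem_cons_of_mem hb)
    cases k with
    | zero => simp [gamma, Multiset.esymm, Multiset.powersetCard_zero_left]
    | succ k =>
      have e : (a ::ₘ m).sum - (Multiset.card (a ::ₘ m) : K)
          = (m.sum - (Multiset.card m : K)) + a - 1 := by
        rw [Multiset.sum_cons, Multiset.card_cons]; push_cast; ring
      rw [e, gamma_succ_add_line_sub_one h1 _ a (hm a (Multiset.mem_cons_self a m)),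
        ih hm' (k + 1), ih hm' k, Multiset.map_cons, esymm_cons]

end Groth.Agent.Lib.Helper23.Lam
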