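import Mathlib
import Groth.Prelude.Def_WeilCoh
import Groth.Agent.Lib.Helper23.WeilCohCorr

/-!
# Weil cohomology: the trace of a composite of correspondences (helper23)
-/

universe u v w

open AlgebraicGeometry CategoryTheory TensorProduct

namespace Groth.Agent.Lib.Helper23.WeilCohCorr

open Groth.Agent.Lib.Helper23.WeilCohBasic Groth.Agent.Lib.Helper23.WeilCohGraph

variable {k : Type u} [Field k] {P : ObjectProperty (Over (Spec (CommRingCat.of k)))}
variable {K : Type v} [Field K] (T : WeilCoh.TheoryOn.{u, v, w} k P K)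

/-- Induction on a graded piece of the cohomology of a product: it is spanned by the products of
pulled back homogeneous classes of complementary degrees. -/
theorem gr_prod_induction {X Y Q : P.FullSubcategory} (p : Q ⟶ X) (q : Q ⟶ Y)
    (h : WeilCoh.IsProd p q) (m : ℤ) {C : T.gr Q m → Prop} (h0 : C 0)
    (hadd : ∀ x y, C x → C y → C (x + y))
    (hmul : ∀ (s t : ℕ) (a : T.H X) (b : T.H Y) (_ : a ∈ T.gr X (s : ℤ)) (_ : b ∈ T.gr Y (t : ℤ))
      (hm : T.pull p a * T.pull q b ∈ T.gr Q m), (s : ℤ) + t = m →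
        C ⟨T.pull p a * T.pull q b, hm⟩) :
    ∀ x, C x := by
  have key : ∀ τ : T.H X ⊗[K] T.H Y,
      C (proj T Q m (WeilCoh.kunnethMap K (T.pull p) (T.pull q) τ)) := by
    intro τ
    induction τ using TensorProduct.induction_on with
    | zero => simpa using h0
    | add τ₁ τ₂ h₁ h₂ => rw [map_add, map_add]; exact hadd _ _ h₁ h₂
    | tmul a b =>
      change C (proj T Q m (T.pull p a * T.pull q b))
      revert b
      refine hom_induction T X
        (C := fun a => ∀ b, C (proj T Q m (T.pull p a * T.pull q b))) ?_ ?_ ?_ a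
      · intro b; simpa using h0
      · intro a₁ a₂ h₁ h₂ b
        rw [map_add, add_mul, map_add]; exact hadd _ _ (h₁ b) (h₂ b)
      · intro s a ha b
        refine hom_induction T Y
          (C := fun b => C (proj T Q m (T.pull p a * T.pull q b))) ?_ ?_ ?_ b
        · simpa using h0
        · intro b₁ b₂ h₁ h₂
          rw [map_add, mul_add, map_add]; exact hadd _ _ h₁ h₂
        · intro t b hb
          have hmem : T.pull p a * T.pull q b ∈ T.gr Q ((s : ℤ) + t) :=
            SetLike.mul_mem_graded (T.pull_mem p _ a ha) (T.pull_mem q _ b hb)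
          by_cases hst : (s : ℤ) + t = m
          · have hm : T.pull p a * T.pull q b ∈ T.gr Q m := hst ▸ hmem
            rw [proj_of_mem T Q m _ hm]
            exact hmul s t a b ha hb hm hst
          · rw [proj_of_mem_ne T Q m _ hst _ hmem]
            exact h0
  intro x
  obtain ⟨τ, hτ⟩ := (T.kunneth p q h).2 (x : T.H Q)
  have hx : proj T Q m (x : T.H Q) = x := by rw [proj_of_mem T Q m _ x.2]
  rw [← hx, ← hτ]
  exact key τ

theorem tr_mul_pull_swap {X Y Q Q' : P.FullSubcategory} (p : Q ⟶ X) (q : Q ⟶ Y)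
    (hQ : WeilCoh.IsProd p q) (p' : Q' ⟶ Y) (q' : Q' ⟶ X) (hQ' : WeilCoh.IsProd p' q')
    (σ : Q ⟶ Q') (hσ₁ : σ ≫ p' = q) (hσ₂ : σ ≫ q' = p) (m m' : ℤ)
    (hdeg : ∀ i : ℤ, (i + m + 2 * (WeilCoh.dim Y.obj.left : ℤ) -
      2 * (WeilCoh.dim Q.obj.left : ℤ)) + m' + 2 * (WeilCoh.dim X.obj.left : ℤ) -
        2 * (WeilCoh.dim Q'.obj.left : ℤ) = i)
    (φ : T.gr Q m) (ψ : T.gr Q' m') :
    T.tr Q ((φ : T.H Q) * T.pull σ (ψ : T.H Q')) =
      ∑ i ∈ Finset.range (2 * WeilCoh.dim X.obj.left + 1),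
        (-1 : K) ^ i * LinearMap.trace K ↥(T.gr X (i : ℤ))
          ((LinearEquiv.ofEq _ _ (congrArg (T.gr X) (hdeg (i : ℤ)))).toLinearMap ∘ₗ
            (corr T p' q' m' ψ ((i : ℤ) + m + 2 * (WeilCoh.dim Y.obj.left : ℤ) -
              2 * (WeilCoh.dim Q.obj.left : ℤ))) ∘ₗ (corr T p q m φ (i : ℤ))) := by
  have hd := dim_prod T p q hQ
  have hd' := dim_prod T p' q' hQ'
  have hmm : m + m' = 2 * (WeilCoh.dim Q.obj.left : ℤ) := by
    have := hdeg 0; omega
  refine gr_prod_induction T p' q' hQ' m'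
    (C := fun ψ => T.tr Q ((φ : T.H Q) * T.pull σ (ψ : T.H Q')) =
      ∑ i ∈ Finset.range (2 * WeilCoh.dim X.obj.left + 1),
        (-1 : K) ^ i * LinearMap.trace K ↥(T.gr X (i : ℤ))
          ((LinearEquiv.ofEq _ _ (congrArg (T.gr X) (hdeg (i : ℤ)))).toLinearMap ∘ₗ
            (corr T p' q' m' ψ ((i : ℤ) + m + 2 * (WeilCoh.dim Y.obj.left : ℤ) -
              2 * (WeilCoh.dim Q.obj.left : ℤ))) ∘ₗ (corr T p q m φ (i : ℤ)))) ?_ ?_ ?_ ψ
  · simp only [ZeroMemClass.coe_zero, map_zero, mul_zero, corr_zero, LinearMap.zero_comp,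
      LinearMap.comp_zero, Finset.sum_const_zero]
  · intro ψ₁ ψ₂ h₁ h₂
    simp only [Submodule.coe_add, map_add, mul_add, corr_add, LinearMap.add_comp,
      LinearMap.comp_add, Finset.sum_add_distrib]
    rw [h₁, h₂]
  · intro s t c d hc hdm hm hst
    -- the value of the composite
    have claim1 : ∀ (i : ℤ) (x : T.gr X i),
        ((corr T p' q' m' ⟨T.pull p' c * T.pull q' d, hm⟩
          (i + m + 2 * (WeilCoh.dim Y.obj.left : ℤ) - 2 * (WeilCoh.dim Q.obj.left : ℤ))
          (corr T p q m φ i x)) : T.H X) =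
        T.tr Q (T.pull p (x : T.H X) * (φ : T.H Q) * T.pull q c) • d := by
      intro i x
      apply eq_of_forall_tr_mul_total T X
      intro α
      rw [tr_corr_mul]
      have e1 : T.pull p' ((corr T p q m φ i x : T.H Y)) * (T.pull p' c * T.pull q' d) *
          T.pull q' α = T.pull p' ((corr T p q m φ i x : T.H Y) * c) * T.pull q' (d * α) := by
        rw [map_mul, map_mul]; simp only [mul_assoc]
      change T.tr Q' (T.pull p' ((corr T p q m φ i x : T.H Y)) * (T.pull p' c * T.pull q' d) *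
          T.pull q' α) = _
      rw [e1, tr_pull_mul_pull T p' q' hQ', tr_corr_mul, smul_mul_assoc, map_smul, smul_eq_mul]
    -- vanishing off degree t
    have claim2 : ∀ i : ℕ, i ≠ t →
        ((LinearEquiv.ofEq _ _ (congrArg (T.gr X) (hdeg (i : ℤ)))).toLinearMap ∘ₗ
          (corr T p' q' m' ⟨T.pull p' c * T.pull q' d, hm⟩
            ((i : ℤ) + m + 2 * (WeilCoh.dim Y.obj.left : ℤ) -
              2 * (WeilCoh.dim Q.obj.left : ℤ))) ∘ₗ (corr T p q m φ (i : ℤ))) = 0 := by
      intro i hit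
      ext x
      rw [LinearMap.comp_apply, LinearMap.comp_apply, LinearEquiv.coe_coe,
        LinearEquiv.coe_ofEq_apply, claim1]
      have hmem : T.pull p (x : T.H X) * (φ : T.H Q) * T.pull q c ∈ T.gr Q ((i : ℤ) + m + s) :=
        SetLike.mul_mem_graded (SetLike.mul_mem_graded (T.pull_mem p _ _ x.2) φ.2)
          (T.pull_mem q _ c hc)
      rw [T.tr_vanish Q _ _ hmem (by omega)]
      simp
    by_cases ht : t ≤ 2 * WeilCoh.dim X.obj.left
    · rw [Finset.sum_eq_single t]
      · -- the rank one endomorphism in degree t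
        let lam : Module.Dual K (T.gr X (t : ℤ)) :=
          (T.tr Q) ∘ₗ (LinearMap.mulRight K (T.pull q c)) ∘ₗ
            (LinearMap.mulRight K (φ : T.H Q)) ∘ₗ (T.pull p).toLinearMap ∘ₗ
              (T.gr X (t : ℤ)).subtype
        have hlam : ∀ x : T.gr X (t : ℤ),
            lam x = T.tr Q (T.pull p (x : T.H X) * (φ : T.H Q) * T.pull q c) := fun x => rfl
        have claim3 : ((LinearEquiv.ofEq _ _ (congrArg (T.gr X) (hdeg (t : ℤ)))).toLinearMap ∘ₗ
            (corr T p' q' m' ⟨T.pull p' c * T.pull q' d, hm⟩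
              ((t : ℤ) + m + 2 * (WeilCoh.dim Y.obj.left : ℤ) -
                2 * (WeilCoh.dim Q.obj.left : ℤ))) ∘ₗ (corr T p q m φ (t : ℤ))) =
            dualTensorHom K _ _ (lam ⊗ₜ[K] (⟨d, hdm⟩ : T.gr X (t : ℤ))) := by
          ext x
          rw [LinearMap.comp_apply, LinearMap.comp_apply, LinearEquiv.coe_coe,
            LinearEquiv.coe_ofEq_apply, claim1, dualTensorHom_apply, hlam]
          rfl
        rw [claim3, LinearMap.trace_eq_contract_apply, contractLeft_apply, hlam]
        change _ = (-1 : K) ^ t * T.tr Q (T.pull p d * (φ : T.H Q) * T.pull q c)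
        have hcm := T.gradedComm Q _ _ (T.pull p d) ((φ : T.H Q) * T.pull q c)
          (T.pull_mem p _ d hdm) (SetLike.mul_mem_graded φ.2 (T.pull_mem q _ c hc))
        rw [mul_assoc, hcm, map_smul, smul_eq_mul, ← mul_assoc, ← pow_add]
        change T.tr Q ((φ : T.H Q) * T.pull σ (T.pull p' c * T.pull q' d)) = _
        rw [map_mul (T.pull σ), ← AlgHom.comp_apply, ← AlgHom.comp_apply (T.pull σ) (T.pull q'),
          ← T.pull_comp, ← T.pull_comp, hσ₁, hσ₂, mul_assoc]
        have hsign : (-1 : K) ^ (t + ((t : ℕ) : ℤ).natAbs * (m + (s : ℤ)).natAbs) = 1 := by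
          have h2 : (m + (s : ℤ)).natAbs = 2 * WeilCoh.dim Q.obj.left - t := by omega
          have hpar : (t + ((t : ℕ) : ℤ).natAbs * (m + (s : ℤ)).natAbs) % 2 = 0 % 2 := by
            rw [Int.natAbs_natCast, h2, Nat.add_mod, Nat.mul_mod]
            have h3 : (2 * WeilCoh.dim Q.obj.left - t) % 2 = t % 2 := by omega
            rw [h3]
            rcases Nat.mod_two_eq_zero_or_one t with h0 | h0 <;> rw [h0]
          exact (WeilCohGraph.neg_one_pow_congr hpar).trans (pow_zero _)
        rw [hsign, one_mul]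
      · intro i _ hit
        rw [claim2 i hit, map_zero, mul_zero]
      · intro htn
        exact absurd (Finset.mem_range.mpr (by omega)) htn
    · -- `d = 0`
      have hbot : T.gr X (t : ℤ) = ⊥ := T.vanish X t (Or.inr (by omega))
      have hd0 : d = 0 := (Submodule.mem_bot K).mp ((le_of_eq hbot) hdm)
      rw [Finset.sum_eq_zero]
      · change T.tr Q ((φ : T.H Q) * T.pull σ (T.pull p' c * T.pull q' d)) = 0
        rw [hd0]; simp
      · intro i hi
        have hit : i ≠ t := by
          have := Finset.mem_range.mp hi; omega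
        rw [claim2 i hit, map_zero, mul_zero]

end Groth.Agent.Lib.Helper23.WeilCohCorr
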