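import Mathlib
import Groth.Prelude.Def_WeilCoh
import Groth.Agent.Lib.Helper23.WeilCohGraph

/-!
# Weil cohomology: class of a graph in terms of dual bases, Lefschetz trace formula (helper23)
-/

universe u v w

open AlgebraicGeometry CategoryTheory TensorProduct

namespace Groth.Agent.Lib.Helper23.WeilCohGraph

open Groth.Agent.Lib.Helper23.WeilCohBasic Groth.Agent.Lib.Helper23.WeilCohPt

variable {k : Type u} [Field k] {K : Type v} [Field K]
variable (T : WeilCoh.TheoryOn.{u, v, w} k (WeilCoh.IsVar k) K)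

theorem cl_graph_eq {X Q : WeilCoh.Var k} [IrreducibleSpace ↥X.obj.left] (φ : X ⟶ X)
    (p q : Q ⟶ X) (hQ : WeilCoh.IsProd p q) (j : X ⟶ Q) (hjp : j ≫ p = 𝟙 X) (hjq : j ≫ q = φ)
    (ι : ℕ → Type) [∀ r, Fintype (ι r)] [∀ r, DecidableEq (ι r)]
    (e : (r : ℕ) → Module.Basis (ι r) K ↥(T.gr X (r : ℤ)))
    (f : (r : ℕ) → ι r → ↥(T.gr X (2 * (WeilCoh.dim X.obj.left : ℤ) - r)))
    (hef : ∀ r, r ≤ 2 * WeilCoh.dim X.obj.left → ∀ i l : ι r,
      T.tr X ((f r l : T.H X) * (e r i : T.H X)) = if i = l then 1 else 0) :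
    T.cl Q (WeilCoh.sm j (genericPoint ↥X.obj.left)) =
      ∑ r ∈ Finset.range (2 * WeilCoh.dim X.obj.left + 1), ∑ i : ι r,
        T.pull p (T.pull φ (e r i : T.H X)) * T.pull q (f r i : T.H X) := by
  have hc := codim_graph T p q hQ j hjp
  have hΓ : T.cl Q (WeilCoh.sm j (genericPoint ↥X.obj.left)) ∈
      T.gr Q (2 * (WeilCoh.dim X.obj.left : ℤ)) := by
    have := T.cl_mem Q (WeilCoh.sm j (genericPoint ↥X.obj.left))
    rwa [hc] at this
  have hR : (∑ r ∈ Finset.range (2 * WeilCoh.dim X.obj.left + 1), ∑ i : ι r,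
        T.pull p (T.pull φ (e r i : T.H X)) * T.pull q (f r i : T.H X)) ∈
      T.gr Q (2 * (WeilCoh.dim X.obj.left : ℤ)) := by
    refine Submodule.sum_mem _ (fun r _ => Submodule.sum_mem _ (fun i _ => ?_))
    have := SetLike.mul_mem_graded (T.pull_mem p _ _ (T.pull_mem φ _ _ (e r i).2))
      (T.pull_mem q _ _ (f r i).2)
    rwa [show (r : ℤ) + (2 * (WeilCoh.dim X.obj.left : ℤ) - r) =
      2 * (WeilCoh.dim X.obj.left : ℤ) by ring] at this
  refine eq_of_forall_tr_mul_pull_pull T p q hQ _ _ _ hΓ hR ?_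
  intro s t a b ha hb
  rw [tr_cl_graph_mul T p q hQ j hjp, map_mul, ← AlgHom.comp_apply, ← AlgHom.comp_apply (T.pull j),
    ← T.pull_comp, ← T.pull_comp, hjp, hjq, T.pull_id, AlgHom.id_apply]
  rw [Finset.sum_mul, map_sum]
  -- the general term
  have hterm : ∀ (r : ℕ) (i : ι r),
      T.tr Q (T.pull p (T.pull φ (e r i : T.H X)) * T.pull q (f r i : T.H X) *
        (T.pull p a * T.pull q b)) =
      (-1 : K) ^ ((2 * (WeilCoh.dim X.obj.left : ℤ) - r).natAbs * ((s : ℕ) : ℤ).natAbs) *
        (T.tr X (T.pull φ (e r i : T.H X) * a) * T.tr X ((f r i : T.H X) * b)) := by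
    intro r i
    have hcm := T.gradedComm Q _ _ (T.pull q (f r i : T.H X)) (T.pull p a)
      (T.pull_mem q _ _ (f r i).2) (T.pull_mem p _ a ha)
    have h1 : T.pull p (T.pull φ (e r i : T.H X)) * T.pull q (f r i : T.H X) *
        (T.pull p a * T.pull q b) =
        T.pull p (T.pull φ (e r i : T.H X)) * (T.pull q (f r i : T.H X) * T.pull p a) *
          T.pull q b := by
      simp only [mul_assoc]
    rw [h1, hcm]
    simp only [mul_smul_comm, smul_mul_assoc, map_smul, smul_eq_mul]
    congr 1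
    rw [← mul_assoc, mul_assoc _ (T.pull q (f r i : T.H X)), ← map_mul, ← map_mul,
      tr_pull_mul_pull T p q hQ]
  by_cases ht : t ≤ 2 * WeilCoh.dim X.obj.left
  · rw [Finset.sum_eq_single t]
    · rw [Finset.sum_mul, map_sum]
      simp only [hterm]
      -- coefficients of `b`
      have hcoef : ∀ i, T.tr X ((f t i : T.H X) * b) = (e t).repr ⟨b, hb⟩ i := fun i =>
        (repr_eq_tr T X _ _ (e t) (f t) (hef t ht) ⟨b, hb⟩ i).symm
      have hb' : b = ∑ i, (e t).repr ⟨b, hb⟩ i • (e t i : T.H X) := by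
        have := congrArg Subtype.val ((e t).sum_repr ⟨b, hb⟩)
        rw [Submodule.coe_sum] at this
        simpa using this.symm
      have hcm2 := T.gradedComm X _ _ a (T.pull φ b) ha (T.pull_mem φ _ b hb)
      rw [hcm2, map_smul, smul_eq_mul, ← Finset.mul_sum]
      congr 1
      · apply neg_one_pow_congr
        simp only [Int.natAbs_natCast]
        have h2 : (2 * (WeilCoh.dim X.obj.left : ℤ) - t).natAbs = 2 * WeilCoh.dim X.obj.left - t := by
          omega
        rw [h2, Nat.mul_mod, Nat.mul_mod (2 * WeilCoh.dim X.obj.left - t)]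
        have h3 : (2 * WeilCoh.dim X.obj.left - t) % 2 = t % 2 := by omega
        rw [h3, Nat.mul_comm]
      · simp only [hcoef]
        conv_lhs => rw [hb']
        rw [map_sum, Finset.sum_mul, map_sum]
        refine Finset.sum_congr rfl (fun i _ => ?_)
        rw [map_smul, smul_mul_assoc, map_smul, smul_eq_mul, mul_comm]
    · intro r _ hrt
      rw [Finset.sum_mul, map_sum]
      refine Finset.sum_eq_zero (fun i _ => ?_)
      rw [hterm, T.tr_vanish X _ _ (SetLike.mul_mem_graded (f r i).2 hb) (by omega), mul_zero,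
        mul_zero]
    · intro htn
      exact absurd (Finset.mem_range.mpr (by omega)) htn
  · have hbot : T.gr X (t : ℤ) = ⊥ := T.vanish X t (Or.inr (by omega))
    rw [hbot] at hb
    rw [(Submodule.mem_bot K).mp hb]
    simp

end Groth.Agent.Lib.Helper23.WeilCohGraph
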