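import Mathlib
import Groth.Prelude.Def_WeilCoh
import Groth.Agent.Lib.Helper23.WeilCohGraph2

/-!
# Weil cohomology: Lefschetz trace formula, pull-back as a correspondence (helper23)
-/

universe u v w

open AlgebraicGeometry CategoryTheory TensorProduct

namespace Groth.Agent.Lib.Helper23.WeilCohGraph

open Groth.Agent.Lib.Helper23.WeilCohBasic Groth.Agent.Lib.Helper23.WeilCohPt

variable {k : Type u} [Field k] {K : Type v} [Field K]
variable (T : WeilCoh.TheoryOn.{u, v, w} k (WeilCoh.IsVar k) K)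

theorem lefschetz {X Q : WeilCoh.Var k} [IrreducibleSpace ↥X.obj.left] (φ : X ⟶ X)
    (p q : Q ⟶ X) (hQ : WeilCoh.IsProd p q) (j d : X ⟶ Q)
    (hjp : j ≫ p = 𝟙 X) (hjq : j ≫ q = φ) (hdp : d ≫ p = 𝟙 X) (hdq : d ≫ q = 𝟙 X) :
    T.tr Q (T.cl Q (WeilCoh.sm j (genericPoint ↥X.obj.left)) *
        T.cl Q (WeilCoh.sm d (genericPoint ↥X.obj.left))) =
      ∑ i ∈ Finset.range (2 * WeilCoh.dim X.obj.left + 1),
        (-1 : K) ^ i * LinearMap.trace K ↥(T.gr X (i : ℤ)) (T.pullDeg φ (i : ℤ)) := by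
  classical
  let ι : ℕ → Type := fun r => Fin (Module.finrank K (T.gr X (r : ℤ)))
  let e : (r : ℕ) → Module.Basis (ι r) K (T.gr X (r : ℤ)) := fun r => Module.finBasis K _
  have hf : ∀ r : ℕ, ∃ f : ι r → T.gr X (2 * (WeilCoh.dim X.obj.left : ℤ) - r),
      ∀ i l, T.tr X ((f l : T.H X) * (e r i : T.H X)) = if i = l then 1 else 0 :=
    fun r => exists_dual_family T X _ _ (by ring) (e r)
  choose f hf using hf
  have hΓ := cl_graph_eq T φ p q hQ j hjp hjq ι e f (fun r _ => hf r)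
  have hcomm : T.cl Q (WeilCoh.sm j (genericPoint ↥X.obj.left)) *
      T.cl Q (WeilCoh.sm d (genericPoint ↥X.obj.left)) =
      T.cl Q (WeilCoh.sm d (genericPoint ↥X.obj.left)) *
        T.cl Q (WeilCoh.sm j (genericPoint ↥X.obj.left)) := by
    have h1 := T.gradedComm Q _ _ _ _ (T.cl_mem Q (WeilCoh.sm j (genericPoint ↥X.obj.left)))
      (T.cl_mem Q (WeilCoh.sm d (genericPoint ↥X.obj.left)))
    rw [h1, Even.neg_one_pow, one_smul]
    apply Even.mul_right
    rw [Int.natAbs_mul]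
    exact Even.mul_right (by decide) _
  rw [hcomm, tr_cl_graph_mul T p q hQ d hdp, hΓ, map_sum, map_sum]
  refine Finset.sum_congr rfl (fun r hr => ?_)
  have hr' : r ≤ 2 * WeilCoh.dim X.obj.left := by
    have := Finset.mem_range.mp hr; omega
  rw [map_sum, map_sum]
  have hpull : ∀ i, T.pull d (T.pull p (T.pull φ (e r i : T.H X)) * T.pull q (f r i : T.H X)) =
      T.pull φ (e r i : T.H X) * (f r i : T.H X) := by
    intro i
    rw [map_mul, ← AlgHom.comp_apply, ← AlgHom.comp_apply (T.pull d) (T.pull q), ← T.pull_comp,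
      ← T.pull_comp, hdp, hdq, T.pull_id]
    rfl
  simp only [hpull]
  rw [LinearMap.trace_eq_matrix_trace K (e r), Matrix.trace, Finset.mul_sum]
  refine Finset.sum_congr rfl (fun i _ => ?_)
  rw [Matrix.diag_apply, LinearMap.toMatrix_apply,
    repr_eq_tr T X _ _ (e r) (f r) (hf r) _ i]
  have hcm := T.gradedComm X _ _ (T.pull φ (e r i : T.H X)) (f r i : T.H X)
    (T.pull_mem φ _ _ (e r i).2) (f r i).2
  rw [hcm, map_smul, smul_eq_mul]
  congr 1
  apply neg_one_pow_congr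
  simp only [Int.natAbs_natCast]
  have h2 : (2 * (WeilCoh.dim X.obj.left : ℤ) - r).natAbs = 2 * WeilCoh.dim X.obj.left - r := by
    omega
  rw [h2, Nat.mul_mod]
  have h3 : (2 * WeilCoh.dim X.obj.left - r) % 2 = r % 2 := by omega
  rw [h3]
  rcases Nat.mod_two_eq_zero_or_one r with h0 | h0 <;> rw [h0]

theorem pull_eq_push_graph {X Y Q : WeilCoh.Var k} [IrreducibleSpace ↥X.obj.left] (f : X ⟶ Y)
    (p : Q ⟶ X) (q : Q ⟶ Y) (hQ : WeilCoh.IsProd p q) (j : X ⟶ Q) (hjp : j ≫ p = 𝟙 X)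
    (hjq : j ≫ q = f) (i : ℤ) (β : ↥(T.gr Y i)) :
    (T.push p (2 * (WeilCoh.codim Q.obj.left (WeilCoh.sm j (genericPoint ↥X.obj.left)) : ℤ) + i)
        ⟨T.cl Q (WeilCoh.sm j (genericPoint ↥X.obj.left)) * T.pull q (β : T.H Y),
          SetLike.mul_mem_graded (T.cl_mem Q (WeilCoh.sm j (genericPoint ↥X.obj.left)))
            (T.pull_mem q i β β.2)⟩ : T.H X) = T.pull f (β : T.H Y) := by
  have hd := dim_prod T p q hQ
  have hc := codim_graph T p q hQ j hjp
  have hdeg : 2 * (WeilCoh.codim Q.obj.left (WeilCoh.sm j (genericPoint ↥X.obj.left)) : ℤ) + i +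
      2 * (WeilCoh.dim X.obj.left : ℤ) - 2 * (WeilCoh.dim Q.obj.left : ℤ) = i := by omega
  have hmem : ∀ (m : ℤ) (z : T.gr X m), m = i → (z : T.H X) ∈ T.gr X i := by
    intro m z hm; subst hm; exact z.2
  refine eq_of_forall_tr_mul_eq T X i (2 * (WeilCoh.dim X.obj.left : ℤ) - i) (by ring) _ _
    (hmem _ _ hdeg) (T.pull_mem f i β β.2) (fun α hα => ?_)
  rw [tr_push_mul T p _ _ α _ (by omega) hα]
  change T.tr Q (T.cl Q (WeilCoh.sm j (genericPoint ↥X.obj.left)) * T.pull q (β : T.H Y) *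
    T.pull p α) = _
  rw [mul_assoc, tr_cl_graph_mul T p q hQ j hjp, map_mul, ← AlgHom.comp_apply,
    ← AlgHom.comp_apply (T.pull j) (T.pull p), ← T.pull_comp, ← T.pull_comp, hjp, hjq, T.pull_id]
  rfl

end Groth.Agent.Lib.Helper23.WeilCohGraph
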