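import Mathlib
import Groth.Prelude.Def_WeilCoh
import Groth.Agent.Lib.Helper23.WeilCohCorr2
import Groth.Agent.Lib.Helper23.WeilCohGraph3

/-!
# Weil cohomology: algebraic Künneth projectors from coprime characteristic polynomials (helper23)
-/

universe u v w

open AlgebraicGeometry CategoryTheory TensorProduct

namespace Groth.Agent.Lib.Helper23.WeilCohCorr

open Groth.Agent.Lib.Helper23.WeilCohBasic Groth.Agent.Lib.Helper23.WeilCohGraph
  Groth.Agent.Lib.Helper23.WeilCohPt

variable {k : Type u} [Field k] {K : Type v} [Field K]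

/-- The morphism `(g, id) : Y → Q` into a product `Q` of `X` and `Y`. -/
theorem exists_graph {X Y Q : WeilCoh.Var k} (p : Q ⟶ X) (q : Q ⟶ Y) (hQ : WeilCoh.IsProd p q)
    (g : Y ⟶ X) : ∃ jt : Y ⟶ Q, jt ≫ p = g ∧ jt ≫ q = 𝟙 Y := by
  have w : WeilCoh.sm g ≫ X.obj.hom = 𝟙 _ ≫ Y.obj.hom := by
    rw [Category.id_comp]; exact Over.w g.hom
  have hl1 : hQ.lift (WeilCoh.sm g) (𝟙 _) w ≫ WeilCoh.sm p = WeilCoh.sm g := hQ.lift_fst _ _ _
  have hl2 : hQ.lift (WeilCoh.sm g) (𝟙 _) w ≫ WeilCoh.sm q = 𝟙 _ := hQ.lift_snd _ _ _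
  have hl3 : hQ.lift (WeilCoh.sm g) (𝟙 _) w ≫ Q.obj.hom = Y.obj.hom := by
    have h3 : WeilCoh.sm q ≫ Y.obj.hom = Q.obj.hom := Over.w q.hom
    rw [← h3, ← Category.assoc, hl2, Category.id_comp]
  refine ⟨ObjectProperty.homMk (Over.homMk (hQ.lift (WeilCoh.sm g) (𝟙 _) w) hl3), ?_, ?_⟩
  · apply ObjectProperty.hom_ext
    apply Over.OverMorphism.ext
    exact hl1
  · apply ObjectProperty.hom_ext
    apply Over.OverMorphism.ext
    exact hl2

variable (T : WeilCoh.TheoryOn.{u, v, w} k (WeilCoh.IsVar k) K)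

/-- The action of a combination of classes of transposed graphs. -/
theorem corr_graph_sum {X Q : WeilCoh.Var k} [IrreducibleSpace ↥X.obj.left] (p q : Q ⟶ X)
    (hQ : WeilCoh.IsProd p q) {ι : Type*} (s : Finset ι) (c : ι → K) (g : ι → (X ⟶ X))
    (jt : ι → (X ⟶ Q)) (h1 : ∀ a, jt a ≫ p = g a) (h2 : ∀ a, jt a ≫ q = 𝟙 X)
    (m : ℤ) (u : T.gr Q m)
    (hu : (u : T.H Q) = ∑ a ∈ s, c a • T.cl Q (WeilCoh.sm (jt a) (genericPoint ↥X.obj.left)))
    (j : ℤ) (b : T.gr X j) :
    (corr T p q m u j b : T.H X) = ∑ a ∈ s, c a • T.pull (g a) (b : T.H X) := by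
  have hQ' : WeilCoh.IsProd q p := hQ.flip
  apply eq_of_forall_tr_mul_total T X
  intro α
  rw [tr_corr_mul, hu, Finset.mul_sum, Finset.sum_mul, map_sum, Finset.sum_mul, map_sum]
  refine Finset.sum_congr rfl (fun a _ => ?_)
  have hc := codim_graph T q p hQ' (jt a) (h2 a)
  have hcm := T.gradedComm Q _ _ (T.pull p (b : T.H X))
    (T.cl Q (WeilCoh.sm (jt a) (genericPoint ↥X.obj.left))) (T.pull_mem p _ _ b.2)
    (T.cl_mem Q _)
  have heven : Even (j.natAbs *
      (2 * (WeilCoh.codim Q.obj.left (WeilCoh.sm (jt a) (genericPoint ↥X.obj.left)) : ℤ)).natAbs) := by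
    apply Even.mul_left
    rw [Int.natAbs_mul]
    exact Even.mul_right (by decide) _
  rw [heven.neg_one_pow, one_smul] at hcm
  rw [mul_smul_comm, smul_mul_assoc, map_smul, hcm, mul_assoc,
    tr_cl_graph_mul T q p hQ' (jt a) (h2 a), map_mul, ← AlgHom.comp_apply,
    ← AlgHom.comp_apply (T.pull (jt a)) (T.pull q), ← T.pull_comp, ← T.pull_comp, h1, h2,
    T.pull_id, smul_mul_assoc, map_smul]
  rfl

/-- iterates of an endomorphism -/
noncomputable def fpow {X : WeilCoh.Var k} (F : X ⟶ X) : ℕ → (X ⟶ X)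
  | 0 => 𝟙 X
  | (a + 1) => fpow F a ≫ F

theorem pull_fpow {X : WeilCoh.Var k} (F : X ⟶ X) (j : ℤ) (a : ℕ) (b : T.gr X j) :
    T.pull (fpow F a) (b : T.H X) = (((T.pullDeg F j) ^ a) b : T.H X) := by
  induction a generalizing b with
  | zero => simp [fpow, T.pull_id]
  | succ a ih =>
    rw [fpow, T.pull_comp, AlgHom.comp_apply, pow_succ, Module.End.mul_apply]
    exact ih (T.pullDeg F j b)

theorem exists_projector {X Q : WeilCoh.Var k} (p q : Q ⟶ X) (hQ : WeilCoh.IsProd p q)
    (F : X ⟶ X)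
    (hF : ∀ i j : ℤ, i ≠ j → IsCoprime (T.pullDeg F i).charpoly (T.pullDeg F j).charpoly)
    (i : ℤ) :
    ∃ u : ↥(T.gr Q (2 * (WeilCoh.dim X.obj.left : ℤ))),
      (u : T.H Q) ∈ Submodule.span K (Set.range (T.cl Q)) ∧
        ∀ (j : ℤ) (b : ↥(T.gr X j)),
          (corr T p q _ u j b : T.H X) = if j = i then (b : T.H X) else 0 := by
  classical
  have : IrreducibleSpace ↥X.obj.left := X.property.2.2
  have hQ' : WeilCoh.IsProd q p := hQ.flip
  by_cases hi : i < 0 ∨ 2 * (WeilCoh.dim X.obj.left : ℤ) < i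
  · refine ⟨0, Submodule.zero_mem _, fun j b => ?_⟩
    rw [corr_zero]
    split_ifs with hji
    · subst hji
      exact ((Submodule.mem_bot K).mp ((le_of_eq (T.vanish X j hi)) b.2)).symm
    · rfl
  · push Not at hi
    obtain ⟨i₀, rfl⟩ := Int.eq_ofNat_of_zero_le hi.1
    -- the graphs of the powers of `F`
    choose jt hjt1 hjt2 using fun a : ℕ => exists_graph p q hQ (fpow F a)
    -- the polynomial
    have hcop : IsCoprime (T.pullDeg F (i₀ : ℤ)).charpoly
        (∏ j ∈ (Finset.range (2 * WeilCoh.dim X.obj.left + 1)).erase i₀,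
          (T.pullDeg F (j : ℤ)).charpoly) :=
      IsCoprime.prod_right (fun j hj => hF _ _ (by
        have := (Finset.mem_erase.mp hj).1
        exact_mod_cast this.symm))
    obtain ⟨A, B, hAB⟩ := hcop
    set M := ∏ j ∈ (Finset.range (2 * WeilCoh.dim X.obj.left + 1)).erase i₀,
          (T.pullDeg F (j : ℤ)).charpoly with hM
    set G : Polynomial K := B * M with hG
    have hmem : ∀ a, T.cl Q (WeilCoh.sm (jt a) (genericPoint ↥X.obj.left)) ∈
        T.gr Q (2 * (WeilCoh.dim X.obj.left : ℤ)) := by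
      intro a
      have h1 := T.cl_mem Q (WeilCoh.sm (jt a) (genericPoint ↥X.obj.left))
      rwa [codim_graph T q p hQ' (jt a) (hjt2 a)] at h1
    have humem : (∑ a ∈ G.support, G.coeff a •
        T.cl Q (WeilCoh.sm (jt a) (genericPoint ↥X.obj.left))) ∈
          T.gr Q (2 * (WeilCoh.dim X.obj.left : ℤ)) :=
      Submodule.sum_mem _ (fun a _ => Submodule.smul_mem _ _ (hmem a))
    refine ⟨⟨_, humem⟩, ?_, fun j b => ?_⟩
    · exact Submodule.sum_mem _ (fun a _ => Submodule.smul_mem _ _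
        (Submodule.subset_span ⟨_, rfl⟩))
    · rw [corr_graph_sum T p q hQ G.support (fun a => G.coeff a) (fun a => fpow F a) jt hjt1 hjt2
        _ ⟨_, humem⟩ rfl j b]
      have hval : (∑ a ∈ G.support, G.coeff a • T.pull (fpow F a) (b : T.H X)) =
          ((Polynomial.aeval (T.pullDeg F j) G) b : T.H X) := by
        rw [Polynomial.aeval_endomorphism, Polynomial.sum, Submodule.coe_sum]
        refine Finset.sum_congr rfl (fun a _ => ?_)
        rw [Submodule.coe_smul, pull_fpow]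
      rw [hval]
      by_cases hj : j < 0 ∨ 2 * (WeilCoh.dim X.obj.left : ℤ) < j
      · have hb : b = 0 := Subtype.ext
          ((Submodule.mem_bot K).mp ((le_of_eq (T.vanish X j hj)) b.2))
        rw [hb]; simp
      · push Not at hj
        obtain ⟨j₀, rfl⟩ := Int.eq_ofNat_of_zero_le hj.1
        split_ifs with hji
        · have hji' : j₀ = i₀ := by exact_mod_cast hji
          subst hji'
          have hG1 : G = 1 - A * (T.pullDeg F (j₀ : ℤ)).charpoly := by
            rw [hG, ← hAB]; ring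
          rw [hG1, map_sub, map_one, map_mul, LinearMap.aeval_self_charpoly, mul_zero]
          simp
        · have hji' : j₀ ≠ i₀ := fun h => hji (by rw [h])
          have hjm : j₀ ∈ (Finset.range (2 * WeilCoh.dim X.obj.left + 1)).erase i₀ :=
            Finset.mem_erase.mpr ⟨hji', Finset.mem_range.mpr (by omega)⟩
          have hM0 : Polynomial.aeval (T.pullDeg F (j₀ : ℤ)) M = 0 := by
            rw [hM, ← Finset.mul_prod_erase _ _ hjm, map_mul, LinearMap.aeval_self_charpoly,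
              zero_mul]
          rw [hG, map_mul, hM0, mul_zero]
          rfl

end Groth.Agent.Lib.Helper23.WeilCohCorr
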