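import Mathlib
import Groth.Prelude.Def_WeilCoh
import Groth.Prelude.Def_W4c1zetahwZeta
import Groth.Agent.Lib.Helper23.FrobFix
import Groth.Agent.Lib.Helper23.FixPts
import Groth.Agent.Lib.Helper23.FixCount2
import Groth.Agent.Lib.Helper23.WeilCohCorr3
import Groth.Agent.Lib.Helper23.WeilCohDim2
import Groth.Agent.Lib.Helper23.WeilCohPt2

/-!
# The Lefschetz count of the points of a variety over a finite field (helper23)

`N_m = Σ_i (-1)^i Tr((F^*)^m | H^i)`.
-/

universe u v w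

open AlgebraicGeometry CategoryTheory CategoryTheory.Limits

namespace Groth.Agent.Lib.Helper23.LefCount

open Groth.Agent.Lib.Helper23.WeilCohDim Groth.Agent.Lib.Helper23.WeilCohPt
  Groth.Agent.Lib.Helper23.WeilCohGraph Groth.Agent.Lib.Helper23.WeilCohCorr
  Groth.Agent.Lib.Helper23.FrobFix Groth.Agent.Lib.Helper23.FixPts
  Groth.Agent.Lib.Helper23.FixCount

section Top

theorem finite_of_isClosed_of_forall_isClosed {X : Type*} [TopologicalSpace X]
    [TopologicalSpace.NoetherianSpace X] [QuasiSober X] (Z : Set X) (hZ : IsClosed Z)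
    (h : ∀ z ∈ Z, IsClosed ({z} : Set X)) : Z.Finite := by
  obtain ⟨S, hSf, hSc, hSi, hSU⟩ :=
    TopologicalSpace.NoetherianSpace.exists_finite_set_isClosed_irreducible hZ
  have hfin : (⋃₀ S).Finite := by
    apply Set.Finite.sUnion hSf
    intro t ht
    obtain ⟨g, hg⟩ := QuasiSober.sober (hSi t ht) (hSc t ht)
    have hgt : g ∈ t := by rw [← hg.def]; exact subset_closure rfl
    have hgZ : g ∈ Z := by rw [hSU]; exact ⟨t, ht, hgt⟩
    have ht' : t = {g} := by rw [← hg.def, (h g hgZ).closure_eq]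
    rw [ht']
    exact Set.finite_singleton g
  rw [hSU]
  exact hfin

end Top

section Iter

variable {X : Scheme.{u}} (FX : X ⟶ X)

/-- The iterates of an endomorphism of a scheme. -/
noncomputable def iter : ℕ → (X ⟶ X)
  | 0 => 𝟙 X
  | m + 1 => iter m ≫ FX

theorem iter_base (hFb : FX.base = 𝟙 _) (m : ℕ) : (iter FX m).base = 𝟙 _ := by
  induction m with
  | zero => rfl
  | succ m ih =>
    change (iter FX m ≫ FX).base = _
    rw [Scheme.Hom.comp_base, ih, hFb, Category.comp_id]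

theorem iter_le (hFb : FX.base = 𝟙 _) (m : ℕ) (U : X.Opens) : U ≤ (iter FX m) ⁻¹ᵁ U := by
  intro x hx
  change (iter FX m) x ∈ U
  rw [FrobGeom.frob_apply (iter FX m) (iter_base FX hFb m) x]
  exact hx

theorem iter_appLE (hFb : FX.base = 𝟙 _) (hle : ∀ U : X.Opens, U ≤ FX ⁻¹ᵁ U) (q : ℕ)
    (hFapp : ∀ (U : X.Opens) (s : Γ(X, U)), (FX.appLE U U (hle U)).hom s = s ^ q) (m : ℕ)
    (U : X.Opens) (s : Γ(X, U)) :
    ((iter FX m).appLE U U (iter_le FX hFb m U)).hom s = s ^ (q ^ m) := by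
  induction m generalizing s with
  | zero =>
    simp [iter, Scheme.Hom.appLE]
    change (X.presheaf.map (𝟙 (Opposite.op U))).hom s = s
    rw [CategoryTheory.Functor.map_id]
    rfl
  | succ m ih =>
    have h := Scheme.Hom.appLE_comp_appLE (iter FX m) FX U U U (hle U) (iter_le FX hFb m U)
    have h' := congrArg (fun φ => φ.hom s) h
    simp only [CommRingCat.hom_comp, RingHom.comp_apply] at h'
    change ((iter FX m ≫ FX).appLE U U _).hom s = _
    rw [← h', hFapp, ih, ← pow_mul, pow_succ']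

end Iter

section IterV

variable {k : Type u} [Field k] {K : Type v} [Field K]

/-- The iterates of an endomorphism of a variety. -/
noncomputable def iterV {X : WeilCoh.Var k} (F : X ⟶ X) : ℕ → (X ⟶ X)
  | 0 => 𝟙 X
  | m + 1 => iterV F m ≫ F

theorem sm_iterV_comp {Xb : WeilCoh.Var k} {X : Scheme.{u}} (F : Xb ⟶ Xb) (FX : X ⟶ X)
    (π : Xb.obj.left ⟶ X) (hF : WeilCoh.sm F ≫ π = π ≫ FX) (m : ℕ) :
    WeilCoh.sm (iterV F m) ≫ π = π ≫ iter FX m := by
  induction m with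
  | zero =>
    change 𝟙 _ ≫ π = π ≫ 𝟙 _
    rw [Category.id_comp, Category.comp_id]
  | succ m ih =>
    change (WeilCoh.sm (iterV F m) ≫ WeilCoh.sm F) ≫ π = π ≫ (iter FX m ≫ FX)
    rw [Category.assoc, hF, ← Category.assoc, ih, Category.assoc]

theorem pullDeg_iterV (T : WeilCoh.TheoryOn.{u, v, w} k (WeilCoh.IsVar k) K) {X : WeilCoh.Var k}
    (F : X ⟶ X) (m : ℕ) (i : ℤ) : T.pullDeg (iterV F m) i = (T.pullDeg F i) ^ m := by
  induction m with
  | zero =>
    apply LinearMap.ext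
    intro a
    apply Subtype.ext
    change T.pull (𝟙 X) (a : T.H X) = a
    rw [T.pull_id]
    rfl
  | succ m ih =>
    rw [pow_succ, ← ih]
    apply LinearMap.ext
    intro a
    apply Subtype.ext
    change T.pull (iterV F m ≫ F) (a : T.H X) = T.pull (iterV F m) (T.pull F a)
    rw [T.pull_comp]
    rfl

theorem var_isSeparated (X : WeilCoh.Var k) : IsSeparated X.obj.hom := by
  obtain ⟨n, i, hi, hcomp⟩ := X.property.2.1
  haveI := hi
  rw [← hcomp]
  infer_instance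

end IterV

section Main

variable (k₀ : Type u) [Field k₀] [Finite k₀] (k : Type u) [Field k] [IsAlgClosed k] [Algebra k₀ k]
variable {K : Type v} [Field K] [CharZero K]
  (T : WeilCoh.TheoryOn.{u, v, w} k (WeilCoh.IsVar k) K)
variable {X : Scheme.{u}} (f : X ⟶ Spec (CommRingCat.of k₀)) [LocallyOfFiniteType f]
  (FX : X ⟶ X) (hFb : FX.base = 𝟙 _) (hle : ∀ U : X.Opens, U ≤ FX ⁻¹ᵁ U)
  (hFapp : ∀ (U : X.Opens) (s : Γ(X, U)), (FX.appLE U U (hle U)).hom s = s ^ Nat.card k₀)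
  (Xb : WeilCoh.Var k) (π : Xb.obj.left ⟶ X)
  (hπ : IsPullback π Xb.obj.hom f (Spec.map (CommRingCat.ofHom (algebraMap k₀ k))))
  (F : Xb ⟶ Xb) (hF : WeilCoh.sm F ≫ π = π ≫ FX)
  (Pb : WeilCoh.Var k) (p q : Pb ⟶ Xb) (hP : WeilCoh.IsProd p q)

include hFb hle hFapp hπ hF hP in
/-- The number of points over the extension of degree `m` is the alternating sum of the traces of
the `m`-th power of Frobenius. -/
theorem lefschetz_count (m : ℕ) (hm : m ≠ 0) :
    ∑ i ∈ Finset.range (2 * WeilCoh.dim Xb.obj.left + 1),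
      (-1 : K) ^ i * LinearMap.trace K ↥(T.gr Xb (i : ℤ)) ((T.pullDeg F (i : ℤ)) ^ m) =
      (Zeta.nPts f m : K) := by
  classical
  haveI : IrreducibleSpace ↥Xb.obj.left := Xb.property.2.2
  haveI : LocallyOfFiniteType Xb.obj.hom := var_locallyOfFiniteType Xb
  haveI : IsSeparated Xb.obj.hom := var_isSeparated Xb
  haveI : CompactSpace ↥Xb.obj.left := var_compactSpace Xb
  haveI : IsNoetherian Xb.obj.left :=
    { __ := LocallyOfFiniteType.isLocallyNoetherian Xb.obj.hom }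
  -- the characteristic
  haveI : Fintype k₀ := Fintype.ofFinite k₀
  obtain ⟨pp, hpp⟩ := CharP.exists k₀
  obtain ⟨e, hprime, hcard⟩ := FiniteField.card k₀ pp
  haveI : ExpChar k₀ pp := ExpChar.prime hprime
  haveI : ExpChar k pp := expChar_of_injective_algebraMap (algebraMap k₀ k).injective pp
  have hq : Nat.card k₀ = pp ^ (e : ℕ) := by
    rw [Nat.card_eq_fintype_card]
    exact hcard
  have hq1 : 1 < Nat.card k₀ := Finite.one_lt_card
  -- the iterates
  have hΦb := iter_base FX hFb m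
  have hΦle := iter_le FX hFb m
  have hΦapp := iter_appLE FX hFb hle (Nat.card k₀) hFapp m
  have hΦapp' : ∀ (U : X.Opens) (s : Γ(X, U)),
      ((iter FX m).appLE U U (hΦle U)).hom s = s ^ (pp ^ ((e : ℕ) * m)) := by
    intro U s
    rw [pow_mul, ← hq]
    exact hΦapp U s
  have hQ : 1 < pp ^ ((e : ℕ) * m) := by
    rw [pow_mul, ← hq]
    exact Nat.one_lt_pow hm hq1
  have hG : WeilCoh.sm (iterV F m) ≫ π = π ≫ iter FX m := sm_iterV_comp F FX π hF m
  have hGk : WeilCoh.sm (iterV F m) ≫ Xb.obj.hom = Xb.obj.hom := Over.w (iterV F m).hom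
  -- graph and diagonal
  obtain ⟨j, hjq, hjp⟩ := exists_graph q p hP.flip (iterV F m)
  obtain ⟨d, hdp, hdq⟩ := exists_graph p q hP (𝟙 Xb)
  have sjp : WeilCoh.sm j ≫ WeilCoh.sm p = 𝟙 _ := congrArg (fun φ => WeilCoh.sm φ) hjp
  have sjq : WeilCoh.sm j ≫ WeilCoh.sm q = WeilCoh.sm (iterV F m) :=
    congrArg (fun φ => WeilCoh.sm φ) hjq
  have sdp : WeilCoh.sm d ≫ WeilCoh.sm p = 𝟙 _ := congrArg (fun φ => WeilCoh.sm φ) hdp
  have sdq : WeilCoh.sm d ≫ WeilCoh.sm q = 𝟙 _ := congrArg (fun φ => WeilCoh.sm φ) hdq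
  have hη : ∀ w : ↥Xb.obj.left, genericPoint ↥Xb.obj.left ⤳ w := genericPoint_specializes
  -- the fixed locus
  have hjw : ∀ w : ↥Xb.obj.left,
      WeilCoh.sm d w ∈ closure ({WeilCoh.sm j (genericPoint ↥Xb.obj.left)} : Set ↥Pb.obj.left) →
      WeilCoh.sm j w = WeilCoh.sm d w :=
    fun w h => eq_of_mem_closure hP sjp sdp _ w h
  have hcl : ∀ w : ↥Xb.obj.left,
      WeilCoh.sm d w ∈ closure ({WeilCoh.sm j (genericPoint ↥Xb.obj.left)} : Set ↥Pb.obj.left) →
      IsClosed ({w} : Set ↥Xb.obj.left) := fun w h =>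
    isClosed_of_fix k₀ k pp ((e : ℕ) * m) f (iter FX m) hΦle hΦapp' hQ π Xb.obj.hom hπ
      (WeilCoh.sm (iterV F m)) hG (WeilCoh.sm p) (WeilCoh.sm q) (WeilCoh.sm j) (WeilCoh.sm d)
      sjp sjq sdp sdq _ w (specializes_iff_mem_closure.mpr h) (hjw w h)
  have hZfin : Set.Finite {w : ↥Xb.obj.left | WeilCoh.sm d w ∈
      closure ({WeilCoh.sm j (genericPoint ↥Xb.obj.left)} : Set ↥Pb.obj.left)} :=
    finite_of_isClosed_of_forall_isClosed _
      (isClosed_closure.preimage (WeilCoh.sm d).continuous) hcl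
  haveI : Finite {w : ↥Xb.obj.left // WeilCoh.sm d w ∈
      closure ({WeilCoh.sm j (genericPoint ↥Xb.obj.left)} : Set ↥Pb.obj.left)} :=
    hZfin.to_subtype
  -- the count
  have e1 := fixEquiv hP sjp sjq sdp sdq _ hη hcl
  have e2 := ptsEquiv hπ hGk hG
  haveI : Finite {u : Spec (CommRingCat.of k) ⟶ X //
      u ≫ f = Spec.map (CommRingCat.ofHom (algebraMap k₀ k)) ∧ u ≫ iter FX m = u} :=
    Finite.of_equiv _ (e1.symm.trans e2)
  have hcount : Nat.card {w : ↥Xb.obj.left // WeilCoh.sm d w ∈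
      closure ({WeilCoh.sm j (genericPoint ↥Xb.obj.left)} : Set ↥Pb.obj.left)} =
      Zeta.nPts f m := by
    rw [Nat.card_congr (e1.symm.trans e2)]
    exact natCard_fixedPts k₀ k f (iter FX m) hΦb hΦle m hm hΦapp
  -- the trace formula
  have hlef := lefschetz T (iterV F m) p q hP j d hjp hjq hdp hdq
  simp_rw [pullDeg_iterV] at hlef
  rw [← hlef, cl_mul_comm T Pb, tr_cl_graph_mul T p q hP d hdp]
  -- the pull-back formula
  have hc := codim_graph T p q hP j hjp
  have hvc := var_codim Pb (WeilCoh.sm j (genericPoint ↥Xb.obj.left))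
  have hd := dim_prod T p q hP
  have hdim : ∀ w : ↥Xb.obj.left,
      WeilCoh.IsCompPt ((WeilCoh.sm d) ⁻¹' closure
        ({WeilCoh.sm j (genericPoint ↥Xb.obj.left)} : Set ↥Pb.obj.left)) w →
      (WeilCoh.pdim Xb.obj.left w : ℤ) =
        WeilCoh.pdim Pb.obj.left (WeilCoh.sm j (genericPoint ↥Xb.obj.left)) +
          WeilCoh.dim Xb.obj.left - WeilCoh.dim Pb.obj.left := by
    intro w hw
    rw [pdim_eq_zero_of_isClosed _ w (hcl w hw.1)]
    push_cast
    omega
  have hmult : ∀ (w : ↥Xb.obj.left) (hw : WeilCoh.IsCompPt ((WeilCoh.sm d) ⁻¹' closure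
      ({WeilCoh.sm j (genericPoint ↥Xb.obj.left)} : Set ↥Pb.obj.left)) w),
      WeilCoh.preimMult (WeilCoh.sm d) (WeilCoh.sm j (genericPoint ↥Xb.obj.left)) w hw.1 = 1 :=
    fun w hw =>
      preimMult_eq_one k₀ k pp ((e : ℕ) * m) f (iter FX m) hΦle hΦapp' hQ π Xb.obj.hom hπ
        (WeilCoh.sm (iterV F m)) hG (WeilCoh.sm p) (WeilCoh.sm q) (WeilCoh.sm j) (WeilCoh.sm d)
        sjp sjq sdp sdq _ w (hjw w hw.1) hw.1
  have h3 := T.cl_pull d (WeilCoh.sm j (genericPoint ↥Xb.obj.left)) hdim (Or.inr hmult)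
  rw [h3]
  have hcomp : ∀ w : ↥Xb.obj.left,
      WeilCoh.IsCompPt ((WeilCoh.sm d) ⁻¹' closure
        ({WeilCoh.sm j (genericPoint ↥Xb.obj.left)} : Set ↥Pb.obj.left)) w ↔
      WeilCoh.sm d w ∈ closure
        ({WeilCoh.sm j (genericPoint ↥Xb.obj.left)} : Set ↥Pb.obj.left) := by
    intro w
    constructor
    · intro hw
      exact hw.1
    · intro hw
      refine ⟨hw, fun w' hw' hsp => ?_⟩
      have h1 := specializes_iff_mem_closure.mp hsp
      rw [(hcl w' hw').closure_eq] at h1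
      exact h1.symm
  let e3 : {w : ↥Xb.obj.left // WeilCoh.IsCompPt ((WeilCoh.sm d) ⁻¹' closure
        ({WeilCoh.sm j (genericPoint ↥Xb.obj.left)} : Set ↥Pb.obj.left)) w} ≃
      {w : ↥Xb.obj.left // WeilCoh.sm d w ∈ closure
        ({WeilCoh.sm j (genericPoint ↥Xb.obj.left)} : Set ↥Pb.obj.left)} :=
    Equiv.subtypeEquivRight hcomp
  haveI : Finite {w : ↥Xb.obj.left // WeilCoh.IsCompPt ((WeilCoh.sm d) ⁻¹' closure
        ({WeilCoh.sm j (genericPoint ↥Xb.obj.left)} : Set ↥Pb.obj.left)) w} :=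
    Finite.of_equiv _ e3.symm
  haveI := Fintype.ofFinite {w : ↥Xb.obj.left // WeilCoh.IsCompPt ((WeilCoh.sm d) ⁻¹' closure
        ({WeilCoh.sm j (genericPoint ↥Xb.obj.left)} : Set ↥Pb.obj.left)) w}
  rw [finsum_eq_sum_of_fintype, map_sum]
  have hterm : ∀ w : {w : ↥Xb.obj.left // WeilCoh.IsCompPt ((WeilCoh.sm d) ⁻¹' closure
        ({WeilCoh.sm j (genericPoint ↥Xb.obj.left)} : Set ↥Pb.obj.left)) w},
      T.tr Xb (((WeilCoh.preimMult (WeilCoh.sm d)
        (WeilCoh.sm j (genericPoint ↥Xb.obj.left)) w.1 w.2.1 : ℕ) : K) • T.cl Xb w.1) = 1 := by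
    intro w
    rw [hmult w.1 w.2, Nat.cast_one, one_smul, tr_cl_closedPoint T Xb w.1 (hcl w.1 w.2.1)]
  rw [Finset.sum_congr rfl (fun w _ => hterm w), Finset.sum_const, Finset.card_univ,
    nsmul_eq_mul, mul_one, ← hcount, ← Nat.card_eq_fintype_card, Nat.card_congr e3]

end Main

end Groth.Agent.Lib.Helper23.LefCount
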