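import Mathlib

/-!
Sub-additivity of the length of `A ⧸ (I + (y z))` in the factors, and its iterated versions.
-/

namespace Groth.Agent.Lib.Helper23.LengthMul

theorem length_mul_le {A : Type*} [CommRing A] (I : Ideal A) (y z : A) :
    Module.length A (A ⧸ (I ⊔ Ideal.span {y * z})) ≤
      Module.length A (A ⧸ (I ⊔ Ideal.span {y})) + Module.length A (A ⧸ (I ⊔ Ideal.span {z})) := by
  have hJJy : I ⊔ Ideal.span {y * z} ≤ I ⊔ Ideal.span {y} :=
    sup_le le_sup_left (le_sup_of_le_right
      ((Ideal.span_singleton_le_iff_mem _).mpr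
        (Ideal.mul_mem_right _ _ (Ideal.mem_span_singleton_self y))))
  let ψ : (A ⧸ (I ⊔ Ideal.span {y * z})) →ₗ[A] (A ⧸ (I ⊔ Ideal.span {y})) :=
    Submodule.factor hJJy
  have hψ : Function.Surjective ψ := Submodule.factor_surjective hJJy
  let φ0 : A →ₗ[A] (A ⧸ (I ⊔ Ideal.span {y * z})) :=
    (Submodule.mkQ _) ∘ₗ (LinearMap.mulLeft A y)
  have hφ0 : (I ⊔ Ideal.span {z}) ≤ LinearMap.ker φ0 := by
    intro a ha
    obtain ⟨i, hi, w, hw, rfl⟩ := Submodule.mem_sup.mp ha
    obtain ⟨c, rfl⟩ := Ideal.mem_span_singleton'.mp hw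
    rw [LinearMap.mem_ker]
    show Submodule.Quotient.mk (y * (i + c * z)) = 0
    rw [Submodule.Quotient.mk_eq_zero, mul_add]
    refine Submodule.add_mem _ (Ideal.mem_sup_left (Ideal.mul_mem_left _ _ hi))
      (Ideal.mem_sup_right ?_)
    rw [Ideal.mem_span_singleton']
    exact ⟨c, by ring⟩
  let φ : (A ⧸ (I ⊔ Ideal.span {z})) →ₗ[A] (A ⧸ (I ⊔ Ideal.span {y * z})) :=
    Submodule.liftQ _ φ0 hφ0
  have hφker : ∀ x, φ x ∈ LinearMap.ker ψ := by
    intro x
    obtain ⟨a, rfl⟩ := Submodule.Quotient.mk_surjective _ x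
    rw [LinearMap.mem_ker]
    show (Submodule.Quotient.mk (y * a) : A ⧸ (I ⊔ Ideal.span {y})) = 0
    rw [Submodule.Quotient.mk_eq_zero]
    exact Ideal.mem_sup_right (Ideal.mul_mem_right _ _ (Ideal.mem_span_singleton_self y))
  have hsurj : Function.Surjective (φ.codRestrict (LinearMap.ker ψ) hφker) := by
    rintro ⟨x, hx⟩
    obtain ⟨b, rfl⟩ := Submodule.Quotient.mk_surjective _ x
    rw [LinearMap.mem_ker] at hx
    have hb : b ∈ I ⊔ Ideal.span {y} := by
      have h0 : (Submodule.Quotient.mk b : A ⧸ (I ⊔ Ideal.span {y})) = 0 := hx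
      rwa [Submodule.Quotient.mk_eq_zero] at h0
    obtain ⟨i, hi, w, hw, rfl⟩ := Submodule.mem_sup.mp hb
    obtain ⟨c, rfl⟩ := Ideal.mem_span_singleton'.mp hw
    refine ⟨Submodule.Quotient.mk c, ?_⟩
    apply Subtype.ext
    show (Submodule.Quotient.mk (y * c) : A ⧸ (I ⊔ Ideal.span {y * z}))
      = Submodule.Quotient.mk (i + c * y)
    rw [Submodule.Quotient.eq]
    have h1 : y * c - (i + c * y) = -i := by ring
    rw [h1]
    exact Submodule.neg_mem _ (Ideal.mem_sup_left hi)
  have h1 := Module.length_eq_add_of_exact (LinearMap.ker ψ).subtype ψ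
    (Submodule.subtype_injective _) hψ (LinearMap.exact_subtype_ker_map ψ)
  have h2 := Module.length_le_of_surjective (φ.codRestrict (LinearMap.ker ψ) hφker) hsurj
  rw [h1, add_comm]
  gcongr

theorem length_prod_le {A : Type*} [CommRing A] {ι : Type*} (s : Finset ι) (I : Ideal A)
    (y : ι → A) :
    Module.length A (A ⧸ (I ⊔ Ideal.span {∏ σ ∈ s, y σ})) ≤
      ∑ σ ∈ s, Module.length A (A ⧸ (I ⊔ Ideal.span {y σ})) := by
  classical
  induction s using Finset.induction_on with
  | empty =>
    rw [Finset.prod_empty, Finset.sum_empty, nonpos_iff_eq_zero, Module.length_eq_zero_iff,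
      Submodule.Quotient.subsingleton_iff, Ideal.span_singleton_one, sup_top_eq]
  | insert a s ha ih =>
    rw [Finset.prod_insert ha, Finset.sum_insert ha]
    exact (length_mul_le I (y a) _).trans (by gcongr)

theorem span_range_succ {A : Type*} [CommRing A] {n : ℕ} (f : Fin (n + 1) → A) :
    Ideal.span (Set.range f)
      = Ideal.span {f 0} ⊔ Ideal.span (Set.range fun j : Fin n => f j.succ) := by
  rw [← Ideal.span_union, Fin.range_fin_succ, Set.insert_eq]
  rfl

theorem length_multi_le {A : Type*} [CommRing A] {G : Type*} [Fintype G] :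
    ∀ (n : ℕ) (I : Ideal A) (y : Fin n → G → A),
      Module.length A (A ⧸ (I ⊔ Ideal.span (Set.range fun i => ∏ σ : G, y i σ))) ≤
        ∑ τ : Fin n → G,
          Module.length A (A ⧸ (I ⊔ Ideal.span (Set.range fun i => y i (τ i)))) := by
  intro n
  induction n with
  | zero =>
    intro I y
    rw [Fintype.sum_unique]
    have h0 : ∀ f : Fin 0 → A, Set.range f = ∅ := fun f => Set.range_eq_empty f
    rw [h0, h0]
  | succ n ih =>
    intro I y
    have e1 : I ⊔ Ideal.span (Set.range fun i => ∏ σ : G, y i σ)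
        = (I ⊔ Ideal.span (Set.range fun j : Fin n => ∏ σ : G, y j.succ σ))
          ⊔ Ideal.span {∏ σ : G, y 0 σ} := by
      rw [span_range_succ, sup_assoc,
        sup_comm (Ideal.span (Set.range fun j : Fin n => ∏ σ : G, y j.succ σ))]
    rw [e1]
    calc Module.length A (A ⧸ ((I ⊔ Ideal.span (Set.range fun j : Fin n => ∏ σ : G, y j.succ σ))
            ⊔ Ideal.span {∏ σ : G, y 0 σ}))
        ≤ ∑ σ : G, Module.length A
            (A ⧸ ((I ⊔ Ideal.span (Set.range fun j : Fin n => ∏ σ : G, y j.succ σ))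
              ⊔ Ideal.span {y 0 σ})) := length_prod_le Finset.univ _ (y 0)
      _ = ∑ σ : G, Module.length A
            (A ⧸ ((I ⊔ Ideal.span {y 0 σ})
              ⊔ Ideal.span (Set.range fun j : Fin n => ∏ σ' : G, y j.succ σ'))) := by
          refine Finset.sum_congr rfl (fun σ _ => ?_)
          rw [sup_right_comm]
      _ ≤ ∑ σ : G, ∑ τ' : Fin n → G, Module.length A
            (A ⧸ ((I ⊔ Ideal.span {y 0 σ})
              ⊔ Ideal.span (Set.range fun j : Fin n => y j.succ (τ' j)))) :=
          Finset.sum_le_sum (fun σ _ => ih (I ⊔ Ideal.span {y 0 σ}) (fun j => y j.succ))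
      _ = ∑ τ : Fin (n + 1) → G,
            Module.length A (A ⧸ (I ⊔ Ideal.span (Set.range fun i => y i (τ i)))) := by
          rw [← (Fin.consEquiv (fun _ : Fin (n + 1) => G)).sum_comp, Fintype.sum_prod_type]
          refine Finset.sum_congr rfl (fun σ _ => Finset.sum_congr rfl (fun τ' _ => ?_))
          show _ = Module.length A (A ⧸ (I ⊔ Ideal.span
            (Set.range fun i => y i ((Fin.cons σ τ' : Fin (n + 1) → G) i))))
          rw [span_range_succ, sup_assoc]
          have e2 : I ⊔ (Ideal.span {y 0 ((Fin.cons σ τ' : Fin (n + 1) → G) 0)}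
                ⊔ Ideal.span (Set.range fun j : Fin n =>
                    y j.succ ((Fin.cons σ τ' : Fin (n + 1) → G) j.succ)))
              = I ⊔ (Ideal.span {y 0 σ} ⊔ Ideal.span (Set.range fun j : Fin n =>
                    y j.succ (τ' j))) := by
            simp only [Fin.cons_zero, Fin.cons_succ]
          rw [e2]

end Groth.Agent.Lib.Helper23.LengthMul
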