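import Mathlib

/-!
# The logarithmic derivative of `det (1 - t M)`

For a square matrix `M` over a commutative ring `K`, in `K⟦t⟧`:
`d/dt det (1 - t M) = - det (1 - t M) * ∑ₘ tr (M ^ (m + 1)) t ^ m`.
-/

set_option autoImplicit false

namespace Groth.Agent.Lib.Helper23.LogDet

section Mat

variable {K : Type*} [CommRing K] {n : Type*} [Fintype n] [DecidableEq n]

/-- The geometric series `Σ t^m M^m` as a matrix of power series. -/
noncomputable def geom (M : Matrix n n K) : Matrix n n (PowerSeries K) :=
  fun i j => PowerSeries.mk (fun m => (M ^ m) i j)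

theorem geom_apply (M : Matrix n n K) (i j : n) :
    geom M i j = PowerSeries.mk (fun m => (M ^ m) i j) := rfl

theorem one_sub_mul_geom (M : Matrix n n K) :
    (1 - (PowerSeries.X : PowerSeries K) • M.map PowerSeries.C) * geom M = 1 := by
  rw [sub_mul, one_mul, Matrix.smul_mul, sub_eq_iff_eq_add]
  refine Matrix.ext fun i j => ?_
  ext m
  rw [Matrix.add_apply, Matrix.smul_apply, smul_eq_mul, map_add]
  cases m with
  | zero =>
    rw [PowerSeries.coeff_zero_X_mul, add_zero, geom_apply, PowerSeries.coeff_mk, pow_zero,
      Matrix.one_apply, Matrix.one_apply]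
    split_ifs
    · rw [PowerSeries.coeff_zero_one]
    · rw [map_zero]
  | succ m =>
    rw [PowerSeries.coeff_succ_X_mul]
    have h1 : PowerSeries.coeff (m + 1) ((1 : Matrix n n (PowerSeries K)) i j) = 0 := by
      rw [Matrix.one_apply]
      split_ifs
      · rw [PowerSeries.coeff_one, if_neg (Nat.succ_ne_zero m)]
      · exact map_zero _
    rw [h1, zero_add, Matrix.mul_apply, map_sum, geom_apply, PowerSeries.coeff_mk, pow_succ',
      Matrix.mul_apply]
    refine Finset.sum_congr rfl fun l _ => ?_
    rw [Matrix.map_apply, PowerSeries.coeff_C_mul, geom_apply, PowerSeries.coeff_mk]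

theorem trace_geom_mul (M : Matrix n n K) :
    Matrix.trace (geom M * M.map PowerSeries.C) =
      PowerSeries.mk (fun m => Matrix.trace (M ^ (m + 1))) := by
  ext m
  rw [PowerSeries.coeff_mk, Matrix.trace, Matrix.trace, map_sum]
  refine Finset.sum_congr rfl fun i _ => ?_
  rw [Matrix.diag_apply, Matrix.diag_apply, Matrix.mul_apply, map_sum, pow_succ, Matrix.mul_apply]
  refine Finset.sum_congr rfl fun l _ => ?_
  rw [Matrix.map_apply, PowerSeries.coeff_mul_C, geom_apply, PowerSeries.coeff_mk]

/-- The ring homomorphism `p(X) ↦ p(t + Y)` from `K[X]` to `K⟦t⟧[Y]`. -/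
noncomputable def shift : Polynomial K →+* Polynomial (PowerSeries K) :=
  (Polynomial.taylorAlgHom (PowerSeries.X : PowerSeries K)).toRingHom.comp
    (Polynomial.mapRingHom PowerSeries.C)

theorem shift_apply (p : Polynomial K) :
    shift p = Polynomial.taylor PowerSeries.X (p.map PowerSeries.C) := rfl

theorem coeff_one_shift (p : Polynomial K) :
    (shift p).coeff 1 = PowerSeries.derivative K (p : PowerSeries K) := by
  rw [shift_apply, Polynomial.taylor_coeff_one, Polynomial.derivative_map, Polynomial.eval_map,
    Polynomial.eval₂_C_X_eq_coe, PowerSeries.derivative_coe]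

theorem shift_X :
    shift (Polynomial.X : Polynomial K) = Polynomial.X + Polynomial.C PowerSeries.X := by
  rw [shift_apply, Polynomial.map_X, Polynomial.taylor_X]

theorem shift_C (a : K) : shift (Polynomial.C a) = Polynomial.C (PowerSeries.C a) := by
  rw [shift_apply, Polynomial.map_C, Polynomial.taylor_C]

theorem coe_charpolyRev (M : Matrix n n K) :
    ((M.charpolyRev : Polynomial K) : PowerSeries K) =
      Matrix.det (1 - (PowerSeries.X : PowerSeries K) • M.map PowerSeries.C) := by
  rw [← Polynomial.coeToPowerSeries.ringHom_apply, Matrix.charpolyRev, RingHom.map_det]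
  congr 1
  refine Matrix.ext fun i j => ?_
  rw [RingHom.mapMatrix_apply, Matrix.map_apply, Matrix.sub_apply, Matrix.sub_apply,
    Matrix.smul_apply, Matrix.smul_apply, Matrix.map_apply, Matrix.map_apply, smul_eq_mul,
    smul_eq_mul, map_sub, map_mul, Polynomial.coeToPowerSeries.ringHom_apply,
    Polynomial.coeToPowerSeries.ringHom_apply, Polynomial.coeToPowerSeries.ringHom_apply,
    Polynomial.coe_X, Polynomial.coe_C, Matrix.one_apply, Matrix.one_apply]
  congr 1
  split_ifs
  · exact Polynomial.coe_one
  · exact Polynomial.coe_zero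

theorem shift_charpolyRev (M : Matrix n n K) :
    shift M.charpolyRev =
      Matrix.det ((1 - (PowerSeries.X : PowerSeries K) • M.map PowerSeries.C).map Polynomial.C) *
        Matrix.det (1 + (Polynomial.X : Polynomial (PowerSeries K)) •
          (-(geom M * M.map PowerSeries.C)).map Polynomial.C) := by
  rw [← Matrix.det_mul, Matrix.charpolyRev, RingHom.map_det]
  congr 1
  have h1 : shift.mapMatrix (1 - (Polynomial.X : Polynomial K) • M.map Polynomial.C) =
      1 - (Polynomial.X + Polynomial.C PowerSeries.X : Polynomial (PowerSeries K)) •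
        (M.map PowerSeries.C).map Polynomial.C := by
    refine Matrix.ext fun i j => ?_
    rw [RingHom.mapMatrix_apply, Matrix.map_apply, Matrix.sub_apply, Matrix.sub_apply,
      Matrix.smul_apply, Matrix.smul_apply, Matrix.map_apply, Matrix.map_apply, Matrix.map_apply,
      smul_eq_mul, smul_eq_mul, map_sub, map_mul, shift_X, shift_C, Matrix.one_apply,
      Matrix.one_apply]
    congr 1
    split_ifs
    · exact map_one _
    · exact map_zero _
  have h2 : (1 - (PowerSeries.X : PowerSeries K) • M.map PowerSeries.C) *
      -(geom M * M.map PowerSeries.C) = -(M.map PowerSeries.C) := by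
    rw [mul_neg, ← mul_assoc, one_sub_mul_geom, one_mul]
  have h3 : ((1 - (PowerSeries.X : PowerSeries K) • M.map PowerSeries.C).map Polynomial.C :
      Matrix n n (Polynomial (PowerSeries K))) =
      1 - (Polynomial.C PowerSeries.X : Polynomial (PowerSeries K)) •
        (M.map PowerSeries.C).map Polynomial.C := by
    refine Matrix.ext fun i j => ?_
    rw [Matrix.map_apply, Matrix.sub_apply, Matrix.sub_apply,
      Matrix.smul_apply, Matrix.smul_apply, Matrix.map_apply, Matrix.map_apply,
      smul_eq_mul, smul_eq_mul, map_sub, map_mul, Matrix.one_apply,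
      Matrix.one_apply]
    congr 1
    split_ifs
    · exact map_one _
    · exact map_zero _
  have h4 : ((1 - (PowerSeries.X : PowerSeries K) • M.map PowerSeries.C).map Polynomial.C :
      Matrix n n (Polynomial (PowerSeries K))) *
      (-(geom M * M.map PowerSeries.C)).map Polynomial.C =
      -((M.map PowerSeries.C).map Polynomial.C) := by
    rw [← Matrix.map_mul, h2]
    refine Matrix.ext fun i j => ?_
    rw [Matrix.map_apply, Matrix.neg_apply, Matrix.neg_apply, Matrix.map_apply, map_neg]
    rfl
  rw [h1, mul_add, mul_one, Matrix.mul_smul, h4, h3, add_smul, smul_neg]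
  abel

theorem derivative_charpolyRev (M : Matrix n n K) :
    PowerSeries.derivative K ((M.charpolyRev : Polynomial K) : PowerSeries K) =
      -(((M.charpolyRev : Polynomial K) : PowerSeries K) *
        PowerSeries.mk (fun m => Matrix.trace (M ^ (m + 1)))) := by
  have hdet : Matrix.det ((1 - (PowerSeries.X : PowerSeries K) • M.map PowerSeries.C).map
      Polynomial.C) = Polynomial.C (Matrix.det (1 - (PowerSeries.X : PowerSeries K) •
        M.map PowerSeries.C)) := by
    rw [RingHom.map_det]
    rfl
  rw [← coeff_one_shift, shift_charpolyRev, hdet, Polynomial.coeff_C_mul,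
    Matrix.coeff_det_one_add_X_smul_one, Matrix.trace_neg, trace_geom_mul, ← coe_charpolyRev,
    mul_neg]

end Mat

section Lin

variable {K : Type*} [CommRing K] {V : Type*} [AddCommGroup V] [Module K V]
  [Module.Free K V] [Module.Finite K V]

theorem derivative_charpoly_reverse (A : V →ₗ[K] V) :
    PowerSeries.derivative K ((A.charpoly.reverse : Polynomial K) : PowerSeries K) =
      -(((A.charpoly.reverse : Polynomial K) : PowerSeries K) *
        PowerSeries.mk (fun m => LinearMap.trace K V (A ^ (m + 1)))) := by
  classical
  let b := Module.Free.chooseBasis K V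
  have h1 : A.charpoly = (LinearMap.toMatrix b b A).charpoly :=
    (LinearMap.charpoly_toMatrix A b).symm
  have h2 : ∀ m, LinearMap.trace K V (A ^ m) = Matrix.trace ((LinearMap.toMatrix b b A) ^ m) := by
    intro m
    rw [LinearMap.trace_eq_matrix_trace K b, LinearMap.toMatrix_pow]
  rw [h1, Matrix.reverse_charpoly]
  simp only [h2]
  exact derivative_charpolyRev _

end Lin

end Groth.Agent.Lib.Helper23.LogDet
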