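import Mathlib

/-!
# Monomial congruences modulo `x₀^(q-p) - x₁x₂` and `s - x₀^(mp) x₁^m` in any commutative ring

For a "monomial" `x₀^d₀ x₁^d₁ x₂^d₂` put `n = d₀ - p d₁ + q d₂`, `c = d₁ - d₂`.
* `gen_i`: same `n`, same `c` ⇒ difference in `(x₀^(q-p) - x₁x₂)`.
* `gen_ii`: same `n`, `c' + m ≤ c` ⇒ the first monomial is congruent mod `(x₀^(q-p) - x₁x₂)` to
  `x₀^(mp) x₁^m` times a monomial with the same `n` and `c - m`.
* `gen_iii`: same `n`, `c - c' = j m` ⇒ `x^d - s^j x^e ∈ (x₀^(q-p) - x₁x₂, s - x₀^(mp) x₁^m)`.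
-/

namespace Groth.Agent.Lib.Helper23.Mono3

variable {R : Type*} [CommRing R] (x0 x1 x2 s : R) (p q m : ℕ)

theorem gen_i (hpq : p < q) :
    ∀ d0 d1 d2 e0 e1 e2 : ℕ,
      (e0 : ℤ) - (p : ℤ) * e1 + (q : ℤ) * e2 = (d0 : ℤ) - (p : ℤ) * d1 + (q : ℤ) * d2 →
      (d1 : ℤ) - d2 = (e1 : ℤ) - e2 →
      x0 ^ d0 * x1 ^ d1 * x2 ^ d2 - x0 ^ e0 * x1 ^ e1 * x2 ^ e2 ∈
        Ideal.span {x0 ^ (q - p) - x1 * x2} := by
  have key : ∀ a0 a1 a2 j : ℕ, x0 ^ (a0 + (q - p) * j) * x1 ^ a1 * x2 ^ a2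
      - x0 ^ a0 * x1 ^ (a1 + j) * x2 ^ (a2 + j) ∈ Ideal.span {x0 ^ (q - p) - x1 * x2} := by
    intro a0 a1 a2 j
    obtain ⟨w, hw⟩ := sub_dvd_pow_sub_pow (x0 ^ (q - p)) (x1 * x2) j
    rw [Ideal.mem_span_singleton]
    refine ⟨x0 ^ a0 * x1 ^ a1 * x2 ^ a2 * w, ?_⟩
    have h1 : x0 ^ (a0 + (q - p) * j) * x1 ^ a1 * x2 ^ a2
        - x0 ^ a0 * x1 ^ (a1 + j) * x2 ^ (a2 + j)
        = x0 ^ a0 * x1 ^ a1 * x2 ^ a2 * ((x0 ^ (q - p)) ^ j - (x1 * x2) ^ j) := by ring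
    rw [h1, hw]; ring
  intro d0 d1 d2 e0 e1 e2 hn hc
  have hpq' : (p : ℤ) < q := by exact_mod_cast hpq
  rcases le_total d1 e1 with h | h
  · obtain ⟨j, rfl⟩ := Nat.exists_eq_add_of_le h
    have h2 : e2 = d2 + j := by push_cast at hc; omega
    subst h2
    have h0 : d0 = e0 + (q - p) * j := by
      zify [hpq.le]; push_cast at hn; linarith
    subst h0
    exact key e0 d1 d2 j
  · obtain ⟨j, rfl⟩ := Nat.exists_eq_add_of_le h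
    have h2 : d2 = e2 + j := by push_cast at hc; omega
    subst h2
    have h0 : e0 = d0 + (q - p) * j := by
      zify [hpq.le]; push_cast at hn; linarith
    subst h0
    have := key d0 e1 e2 j
    have h3 := neg_mem this
    rwa [neg_sub] at h3

theorem gen_ii (hp : 0 < p) (hpq : p < q) :
    ∀ d0 d1 d2 e0 e1 e2 : ℕ,
      (e0 : ℤ) - (p : ℤ) * e1 + (q : ℤ) * e2 = (d0 : ℤ) - (p : ℤ) * d1 + (q : ℤ) * d2 →
      (e1 : ℤ) - e2 + m ≤ (d1 : ℤ) - d2 →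
      ∃ a0 a1 a2 : ℕ,
        (a0 : ℤ) - (p : ℤ) * a1 + (q : ℤ) * a2 = (d0 : ℤ) - (p : ℤ) * d1 + (q : ℤ) * d2 ∧
        (a1 : ℤ) - a2 = (d1 : ℤ) - d2 - m ∧
        x0 ^ d0 * x1 ^ d1 * x2 ^ d2 - x0 ^ (a0 + m * p) * x1 ^ (a1 + m) * x2 ^ a2 ∈
          Ideal.span {x0 ^ (q - p) - x1 * x2} := by
  intro d0 d1 d2 e0 e1 e2 hn hc
  have hpq' : (p : ℤ) < q := by exact_mod_cast hpq
  have hp' : (0 : ℤ) < p := by exact_mod_cast hp
  have he0 : (0 : ℤ) ≤ e0 := Int.natCast_nonneg _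
  have he1 : (0 : ℤ) ≤ e1 := Int.natCast_nonneg _
  have he2 : (0 : ℤ) ≤ e2 := Int.natCast_nonneg _
  rcases le_or_gt ((d1 : ℤ) - d2) m with hA | hB
  · have h1 : (0 : ℤ) ≤ (d0 : ℤ) - p * d1 + q * d2 - q * (m - ((d1 : ℤ) - d2)) := by
      nlinarith [mul_nonneg (sub_pos.mpr hpq').le he1,
        mul_nonneg (hp'.trans hpq').le (sub_nonneg.mpr hc)]
    have h2 : (0 : ℤ) ≤ m - ((d1 : ℤ) - d2) := by linarith
    obtain ⟨a0, ha0⟩ := Int.eq_ofNat_of_zero_le h1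
    obtain ⟨a2, ha2⟩ := Int.eq_ofNat_of_zero_le h2
    refine ⟨a0, 0, a2, ?_, ?_, ?_⟩
    · push_cast; rw [← ha0, ← ha2]; ring
    · push_cast; rw [← ha2]; ring
    · apply gen_i x0 x1 x2 p q hpq
      · push_cast; rw [← ha0, ← ha2]; ring
      · push_cast; rw [← ha2]; ring
  · have h1 : (0 : ℤ) ≤ (d0 : ℤ) - p * d1 + q * d2 + p * ((d1 : ℤ) - d2) - m * p := by
      nlinarith [mul_nonneg (sub_pos.mpr hpq').le he2, mul_nonneg hp'.le (sub_nonneg.mpr hc)]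
    have h2 : (0 : ℤ) ≤ (d1 : ℤ) - d2 - m := by linarith
    obtain ⟨a0, ha0⟩ := Int.eq_ofNat_of_zero_le h1
    obtain ⟨a1, ha1⟩ := Int.eq_ofNat_of_zero_le h2
    refine ⟨a0, a1, 0, ?_, ?_, ?_⟩
    · push_cast; rw [← ha0, ← ha1]; ring
    · push_cast; rw [← ha1]; ring
    · apply gen_i x0 x1 x2 p q hpq
      · push_cast; rw [← ha0, ← ha1]; ring
      · push_cast; rw [← ha1]; ring

theorem gen_iii (hp : 0 < p) (hpq : p < q) :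
    ∀ j : ℕ, ∀ d0 d1 d2 e0 e1 e2 : ℕ,
      (e0 : ℤ) - (p : ℤ) * e1 + (q : ℤ) * e2 = (d0 : ℤ) - (p : ℤ) * d1 + (q : ℤ) * d2 →
      ((d1 : ℤ) - d2) - ((e1 : ℤ) - e2) = (j : ℤ) * m →
      x0 ^ d0 * x1 ^ d1 * x2 ^ d2 - s ^ j * (x0 ^ e0 * x1 ^ e1 * x2 ^ e2) ∈
        Ideal.span {x0 ^ (q - p) - x1 * x2, s - x0 ^ (m * p) * x1 ^ m} := by
  intro j
  induction j with
  | zero =>
    intro d0 d1 d2 e0 e1 e2 hn hc
    rw [pow_zero, one_mul]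
    refine Ideal.span_mono ?_ (gen_i x0 x1 x2 p q hpq d0 d1 d2 e0 e1 e2 hn
      (by push_cast at hc; linarith))
    simp
  | succ j ih =>
    intro d0 d1 d2 e0 e1 e2 hn hc
    obtain ⟨a0, a1, a2, han, hac, hmem⟩ := gen_ii x0 x1 x2 p q m hp hpq d0 d1 d2 e0 e1 e2 hn (by
      push_cast at hc
      have : (0 : ℤ) ≤ (j : ℤ) * m := by positivity
      linarith)
    have h2 := ih a0 a1 a2 e0 e1 e2 (hn.trans han.symm) (by push_cast at hc; linarith)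
    have h1 := Ideal.span_mono (show ({x0 ^ (q - p) - x1 * x2} : Set R) ⊆
      {x0 ^ (q - p) - x1 * x2, s - x0 ^ (m * p) * x1 ^ m} by simp) hmem
    have h3 : s - x0 ^ (m * p) * x1 ^ m ∈
        Ideal.span {x0 ^ (q - p) - x1 * x2, s - x0 ^ (m * p) * x1 ^ m} :=
      Ideal.subset_span (by simp)
    have h4 := Ideal.mul_mem_left _ (x0 ^ (m * p) * x1 ^ m) h2
    have h5 := Ideal.mul_mem_right (s ^ j * (x0 ^ e0 * x1 ^ e1 * x2 ^ e2)) _ h3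
    have := Ideal.sub_mem _ (Ideal.add_mem _ h1 h4) h5
    convert this using 1
    ring

end Groth.Agent.Lib.Helper23.Mono3
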