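import Mathlib

/-!
# A lattice lemma for the weights `(1,0), (-p,-1), (q,1)` with small `X₀`-exponent
-/

namespace Groth.Agent.Lib.Helper23.NT

/-- Two exponent vectors `(d0,d1,d3)`, `(e0,e1,e3)` with `d0, e0 < g = gcd(m, q-p)`, the same
`ℤ`-weight `d0 - p d1 + q d3` and `d3 - d1 ≡ e3 - e1 (mod m)`, and `e1 ≤ d1`, differ by a
non-negative multiple of `(0, aq, ap)`, `a = m / g`. -/
theorem aux_nt (p q m : ℕ) (hp : 0 < p) (hpq : p < q) (hcop : Nat.Coprime p q) (hm : 0 < m)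
    (d0 d1 d3 e0 e1 e3 : ℕ) (hd0 : d0 < Nat.gcd m (q - p)) (he0 : e0 < Nat.gcd m (q - p))
    (h1 : (d0 : ℤ) - p * d1 + q * d3 = (e0 : ℤ) - p * e1 + q * e3)
    (hmdvd : (m : ℤ) ∣ ((d3 : ℤ) - e3) - ((d1 : ℤ) - e1)) (hle : e1 ≤ d1) :
    ∃ j : ℕ, d0 = e0 ∧ d1 = e1 + j * (m / Nat.gcd m (q - p) * q) ∧
      d3 = e3 + j * (m / Nat.gcd m (q - p) * p) := by
  have hga : Nat.gcd m (q - p) * (m / Nat.gcd m (q - p)) = m :=
    Nat.mul_div_cancel' (Nat.gcd_dvd_left _ _)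
  have hgb : Nat.gcd m (q - p) * ((q - p) / Nat.gcd m (q - p)) = q - p :=
    Nat.mul_div_cancel' (Nat.gcd_dvd_right _ _)
  have hg : 0 < Nat.gcd m (q - p) := Nat.gcd_pos_of_pos_left _ hm
  have hcopab : Nat.Coprime (m / Nat.gcd m (q - p)) ((q - p) / Nat.gcd m (q - p)) :=
    Nat.coprime_div_gcd_div_gcd hg
  generalize Nat.gcd m (q - p) = g at *
  generalize hadef : m / g = a at *
  generalize hbdef : (q - p) / g = b at *
  have ha : 0 < a := by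
    rcases Nat.eq_zero_or_pos a with h | h
    · rw [h] at hga; omega
    · exact h
  have hpq' : (p : ℤ) < q := by exact_mod_cast hpq
  have hp' : (0 : ℤ) < p := by exact_mod_cast hp
  have hgZ : (0 : ℤ) < g := by exact_mod_cast hg
  have haZ : (0 : ℤ) < a := by exact_mod_cast ha
  have hgaZ : (g : ℤ) * a = m := by exact_mod_cast hga
  have hgbZ : (g : ℤ) * b = (q : ℤ) - p := by
    rw [← Nat.cast_sub hpq.le]; exact_mod_cast hgb
  have hgm : (g : ℤ) ∣ m := ⟨a, hgaZ.symm⟩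
  have hgqp : (g : ℤ) ∣ (q : ℤ) - p := ⟨b, hgbZ.symm⟩
  have hδ0 : (d0 : ℤ) - e0 = (p : ℤ) * (((d1 : ℤ) - e1) - ((d3 : ℤ) - e3))
      - ((q : ℤ) - p) * ((d3 : ℤ) - e3) := by
    linarith
  have hgdvd0 : (g : ℤ) ∣ (d0 : ℤ) - e0 := by
    rw [hδ0]
    refine dvd_sub (dvd_mul_of_dvd_right ?_ _) (dvd_mul_of_dvd_left hgqp _)
    have := hgm.trans hmdvd
    have h3 : ((d1 : ℤ) - e1) - ((d3 : ℤ) - e3) = -(((d3 : ℤ) - e3) - ((d1 : ℤ) - e1)) := by ring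
    rw [h3]; exact (dvd_neg).mpr this
  have habs : |(d0 : ℤ) - e0| < g := by
    rw [abs_lt]; constructor <;> omega
  have h00 : (d0 : ℤ) - e0 = 0 := Int.eq_zero_of_abs_lt_dvd hgdvd0 habs
  have hd0e0 : d0 = e0 := by omega
  have hpq1 : (p : ℤ) * ((d1 : ℤ) - e1) = q * ((d3 : ℤ) - e3) := by linarith
  have hcopZ : IsCoprime (q : ℤ) (p : ℤ) := Nat.isCoprime_iff_coprime.mpr hcop.symm
  have hq1 : (q : ℤ) ∣ (d1 : ℤ) - e1 := hcopZ.dvd_of_dvd_mul_left ⟨(d3 : ℤ) - e3, hpq1⟩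
  obtain ⟨t, ht⟩ := hq1
  have hq0 : (q : ℤ) ≠ 0 := by linarith
  have ht3 : (d3 : ℤ) - e3 = p * t := by
    have : (q : ℤ) * ((d3 : ℤ) - e3) = q * (p * t) := by rw [← hpq1, ht]; ring
    exact mul_left_cancel₀ hq0 this
  have hm2 : (g : ℤ) * a ∣ (g : ℤ) * (b * t) := by
    rw [hgaZ, ← mul_assoc, hgbZ]
    have h4 : ((q : ℤ) - p) * t = -(((d3 : ℤ) - e3) - ((d1 : ℤ) - e1)) := by rw [ht3, ht]; ring
    rw [h4]; exact (dvd_neg).mpr hmdvd
  have hat : (a : ℤ) ∣ (b : ℤ) * t := (mul_dvd_mul_iff_left hgZ.ne').mp hm2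
  have hcopZ2 : IsCoprime (a : ℤ) (b : ℤ) := Nat.isCoprime_iff_coprime.mpr hcopab
  obtain ⟨j', hj'⟩ := hcopZ2.dvd_of_dvd_mul_left hat
  have hd1e1 : (0 : ℤ) ≤ (d1 : ℤ) - e1 := by
    have : (e1 : ℤ) ≤ d1 := by exact_mod_cast hle
    linarith
  have hj0 : 0 ≤ j' := by
    by_contra h
    push Not at h
    have : (q : ℤ) * (a * j') < 0 := by
      have h5 : (0:ℤ) < (q : ℤ) * a := mul_pos (by linarith) haZ
      nlinarith [mul_pos h5 (neg_pos.mpr h)]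
    rw [ht, hj'] at hd1e1
    linarith
  obtain ⟨j, rfl⟩ := Int.eq_ofNat_of_zero_le hj0
  refine ⟨j, hd0e0, ?_, ?_⟩
  · have : (d1 : ℤ) = ((e1 + j * (a * q) : ℕ) : ℤ) := by
      push_cast
      have : (d1 : ℤ) - e1 = q * (a * j) := by rw [ht, hj']
      linarith
    exact_mod_cast this
  · have : (d3 : ℤ) = ((e3 + j * (a * p) : ℕ) : ℤ) := by
      push_cast
      have : (d3 : ℤ) - e3 = p * (a * j) := by rw [ht3, hj']
      linarith
    exact_mod_cast this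

end Groth.Agent.Lib.Helper23.NT
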