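import Mathlib
import Groth.Prelude.Def_EGA4b

/-!
# NormalProd: a product of two normal rings is a normal ring
-/
set_option autoImplicit false
universe u

namespace Groth.Agent.Lib.Helper23.NormalProd

/-- localizing at a prime not containing an element killing the kernel of a surjection -/
theorem normalP_localization_of_surjective {R A : Type u} [CommRing R] [CommRing A] (f : R →+* A)
    (hf : Function.Surjective f) (e : R) (he : ∀ r, f r = 0 → e * r = 0)
    (hA : EGA4.IsNormalRing A) (p : Ideal R) [hp : p.IsPrime] (hep : e ∉ p) :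
    IsDomain (Localization.AtPrime p) ∧ IsIntegrallyClosed (Localization.AtPrime p) := by
  have hker : RingHom.ker f ≤ p := fun r hr => by
    have h1 : e * r ∈ p := by
      rw [he r hr]
      exact p.zero_mem
    exact (hp.mem_or_mem h1).resolve_left hep
  haveI hq : (p.map f).IsPrime := Ideal.map_isPrime_of_surjective hf hker
  have hcomap : (p.map f).comap f = p := by
    rw [Ideal.comap_map_of_surjective f hf, sup_eq_left]
    exact hker
  have hmem : ∀ r : R, f r ∈ p.map f ↔ r ∈ p := fun r => by
    rw [← Ideal.mem_comap, hcomap]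
  obtain ⟨hd, hic⟩ := hA (p.map f)
  letI : Algebra R (Localization.AtPrime (p.map f)) :=
    ((algebraMap A (Localization.AtPrime (p.map f))).comp f).toAlgebra
  have halg : ∀ r : R, algebraMap R (Localization.AtPrime (p.map f)) r =
      algebraMap A (Localization.AtPrime (p.map f)) (f r) := fun _ => rfl
  haveI : IsLocalization.AtPrime (Localization.AtPrime (p.map f)) p := by
    rw [IsLocalization.AtPrime, isLocalization_iff]
    refine ⟨?_, ?_, ?_⟩
    · intro y
      rw [halg]
      exact IsLocalization.map_units (M := (p.map f).primeCompl) _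
        ⟨f y, fun h => y.2 ((hmem _).1 h)⟩
    · intro z
      obtain ⟨⟨a, s⟩, hz⟩ := IsLocalization.surj (p.map f).primeCompl z
      obtain ⟨a', rfl⟩ := hf a
      obtain ⟨s', hs'⟩ := hf s.1
      have hs'p : s' ∈ p.primeCompl := fun h => s.2 (hs' ▸ (hmem _).2 h)
      refine ⟨(a', ⟨s', hs'p⟩), ?_⟩
      rw [halg, halg]
      simp only
      rw [hs']
      exact hz
    · intro x y hxy
      rw [halg, halg] at hxy
      obtain ⟨c, hc⟩ := IsLocalization.exists_of_eq (M := (p.map f).primeCompl) hxy
      obtain ⟨c', hc'⟩ := hf c.1
      have hc'p : c' ∉ p := fun h => c.2 (hc' ▸ (hmem _).2 h)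
      have hmul : e * c' ∈ p.primeCompl := fun h =>
        (hp.mem_or_mem h).elim hep hc'p
      refine ⟨⟨e * c', hmul⟩, ?_⟩
      have h0 : f (c' * x - c' * y) = 0 := by
        rw [map_sub, map_mul, map_mul, hc', hc, sub_self]
      have h1 := he _ h0
      simp only
      rw [mul_sub] at h1
      rw [mul_assoc, mul_assoc]
      exact sub_eq_zero.1 h1
  let ε : Localization.AtPrime p ≃ₐ[R] Localization.AtPrime (p.map f) :=
    IsLocalization.algEquiv p.primeCompl _ _
  exact ⟨ε.toRingEquiv.toMulEquiv.isDomain _, IsIntegrallyClosed.of_equiv ε.symm.toRingEquiv⟩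

/-- a product of normal rings is normal -/
theorem isNormalRing_prod (A B : Type u) [CommRing A] [CommRing B]
    (hA : EGA4.IsNormalRing A) (hB : EGA4.IsNormalRing B) : EGA4.IsNormalRing (A × B) := by
  intro p hp
  have h0 : ((1, 0) : A × B) * (0, 1) ∈ p := by
    have : ((1, 0) : A × B) * (0, 1) = 0 := by
      ext <;> simp
    rw [this]
    exact p.zero_mem
  by_cases h1 : ((1, 0) : A × B) ∈ p
  · -- use the second projection
    have h2 : ((0, 1) : A × B) ∉ p := fun h2 => by
      apply hp.ne_top
      rw [Ideal.eq_top_iff_one]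
      have : (1 : A × B) = (1, 0) + (0, 1) := by ext <;> simp
      rw [this]
      exact p.add_mem h1 h2
    exact normalP_localization_of_surjective (RingHom.snd A B) Prod.snd_surjective (0, 1)
      (fun r hr => by
        have hr' : r.2 = 0 := hr
        ext <;> simp [hr']) hB p h2
  · exact normalP_localization_of_surjective (RingHom.fst A B) Prod.fst_surjective (1, 0)
      (fun r hr => by
        have hr' : r.1 = 0 := hr
        ext <;> simp [hr']) hA p h1

end Groth.Agent.Lib.Helper23.NormalProd
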