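import Mathlib
import Groth.Prelude.Def_Curv2
import Groth.Agent.Lib.Helper27.DeltaInv1

/-!
# RedDeltaA: a birational integral normal overring is the integral closure in the total ring of
fractions (no domain hypothesis)
-/
set_option autoImplicit false
universe u

noncomputable section

namespace Groth.Agent.Lib.Helper23.RedDelta

section LemmaA

variable (A C : Type u) [CommRing A] [CommRing C] [Algebra A C] (s : A)

/-- If `A → C` is injective and becomes surjective after inverting `s`, then `C_s` is also `A_s`. -/
theorem isLocalization_away (hinj : Function.Injective (algebraMap A C))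
    (hbir : ∀ c : C, ∃ (n : ℕ) (a : A), algebraMap A C (s ^ n) * c = algebraMap A C a)
    (Cs : Type u) [CommRing Cs] [Algebra C Cs] [Algebra A Cs] [IsScalarTower A C Cs]
    [IsLocalization.Away (algebraMap A C s) Cs] : IsLocalization.Away s Cs := by
  have hsu : IsUnit (algebraMap A Cs s) := by
    rw [IsScalarTower.algebraMap_apply A C Cs]
    exact IsLocalization.Away.algebraMap_isUnit (algebraMap A C s)
  refine ⟨?_, ?_, ?_⟩
  · rintro ⟨_, n, rfl⟩
    rw [map_pow]
    exact hsu.pow n
  · intro z
    obtain ⟨c, ⟨_, m, rfl⟩, rfl⟩ := IsLocalization.exists_mk'_eq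
      (Submonoid.powers (algebraMap A C s)) z
    obtain ⟨n, a, hna⟩ := hbir c
    refine ⟨(a, ⟨s ^ (n + m), n + m, rfl⟩), ?_⟩
    simp only
    rw [IsScalarTower.algebraMap_apply A C Cs, IsScalarTower.algebraMap_apply A C Cs a, ← hna,
      map_mul, pow_add, map_mul, map_mul]
    have h1 : IsLocalization.mk' Cs c
        (⟨(algebraMap A C s) ^ m, m, rfl⟩ : Submonoid.powers (algebraMap A C s)) *
        algebraMap C Cs ((algebraMap A C s) ^ m) = algebraMap C Cs c :=
      IsLocalization.mk'_spec Cs c _
    rw [map_pow (algebraMap A C) s m]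
    calc IsLocalization.mk' Cs c
          (⟨(algebraMap A C s) ^ m, m, rfl⟩ : Submonoid.powers (algebraMap A C s)) *
          (algebraMap C Cs (algebraMap A C (s ^ n)) * algebraMap C Cs ((algebraMap A C s) ^ m))
        = algebraMap C Cs (algebraMap A C (s ^ n)) * (IsLocalization.mk' Cs c
          (⟨(algebraMap A C s) ^ m, m, rfl⟩ : Submonoid.powers (algebraMap A C s)) *
          algebraMap C Cs ((algebraMap A C s) ^ m)) := by ring
      _ = algebraMap C Cs (algebraMap A C (s ^ n)) * algebraMap C Cs c := by rw [h1]
  · intro a b hab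
    rw [IsScalarTower.algebraMap_apply A C Cs, IsScalarTower.algebraMap_apply A C Cs b] at hab
    obtain ⟨⟨_, n, rfl⟩, hn⟩ := (IsLocalization.eq_iff_exists
      (Submonoid.powers (algebraMap A C s)) Cs).1 hab
    refine ⟨⟨s ^ n, n, rfl⟩, ?_⟩
    apply hinj
    simp only at hn ⊢
    rw [map_mul, map_mul, map_pow]
    exact hn

variable {A C}

/-- **Lemma A.** An injective integral birational extension `A → C` with `C` a normal ring is the
integral closure of `A` in its total ring of fractions. -/
theorem nonempty_algEquiv_integralClosure (hs : s ∈ nonZeroDivisors A)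
    (hsC : algebraMap A C s ∈ nonZeroDivisors C)
    (hinj : Function.Injective (algebraMap A C))
    (hbir : ∀ c : C, ∃ (n : ℕ) (a : A), algebraMap A C (s ^ n) * c = algebraMap A C a)
    [Algebra.IsIntegral A C] (hC : EGA4.IsNormalRing C) :
    Nonempty (C ≃ₐ[A] integralClosure A (FractionRing A)) := by
  classical
  let K := FractionRing A
  let Cs := Localization.Away (algebraMap A C s)
  haveI hAs : IsLocalization.Away s Cs := isLocalization_away A C s hinj hbir Cs
  have hunits : ∀ y : Submonoid.powers s, IsUnit (algebraMap A K y) := by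
    rintro ⟨_, n, rfl⟩
    rw [map_pow]
    exact (IsLocalization.map_units K (⟨s, hs⟩ : nonZeroDivisors A)).pow n
  let ψ₀ : Cs →+* K := IsLocalization.lift (M := Submonoid.powers s) (S := Cs) hunits
  have hψ₀ : ∀ a : A, ψ₀ (algebraMap A Cs a) = algebraMap A K a :=
    fun a => IsLocalization.lift_eq hunits a
  have hψ₀inj : Function.Injective ψ₀ := by
    rw [IsLocalization.lift_injective_iff]
    intro x y
    constructor
    · intro h
      rw [← hψ₀ x, ← hψ₀ y, h]
    · intro h
      rw [IsFractionRing.injective A K h]
  have hCinj : Function.Injective (algebraMap C Cs) :=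
    IsLocalization.injective Cs (Submonoid.powers_le.mpr hsC)
  let ψ : C →ₐ[A] K :=
    { ψ₀.comp (algebraMap C Cs) with
      commutes' := fun a => by
        show ψ₀ (algebraMap C Cs (algebraMap A C a)) = algebraMap A K a
        rw [← IsScalarTower.algebraMap_apply A C Cs, hψ₀] }
  have hψinj : Function.Injective ψ := hψ₀inj.comp hCinj
  have hψA : ∀ a : A, ψ (algebraMap A C a) = algebraMap A K a := fun a => ψ.commutes a
  let f : C →ₐ[A] integralClosure A K :=
    AlgHom.codRestrict ψ (integralClosure A K)
      (fun c => (Algebra.IsIntegral.isIntegral (R := A) c).map ψ)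
  have hf : ∀ c, ((f c : integralClosure A K) : K) = ψ c := fun c => rfl
  refine ⟨AlgEquiv.ofBijective f ⟨?_, ?_⟩⟩
  · intro c c' h
    apply hψinj
    rw [← hf, ← hf, h]
  · rintro ⟨z, hz⟩
    obtain ⟨a, t, rfl⟩ := IsLocalization.exists_mk'_eq (nonZeroDivisors A) z
    have hz' : (ψ : C →+* K).IsIntegralElem (IsLocalization.mk' K a t) := by
      apply RingHom.IsIntegralElem.of_comp (f := algebraMap A C)
      have : (ψ : C →+* K).comp (algebraMap A C) = algebraMap A K := by
        ext a
        exact hψA a
      rw [this]
      exact hz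
    obtain ⟨c, hc⟩ := Groth.Agent.Lib.Helper27.DeltaInv1.mem_range_of_isIntegral_of_isNormalRing
      (ψ : C →+* K) hψinj hC (IsLocalization.mk' K a t) hz' (algebraMap A C t) (algebraMap A C a)
      (by
        show IsUnit (ψ (algebraMap A C t))
        rw [hψA]
        exact IsLocalization.map_units K t)
      (by
        show ψ (algebraMap A C t) * IsLocalization.mk' K a t = ψ (algebraMap A C a)
        rw [hψA, hψA, mul_comm]
        exact IsLocalization.mk'_spec K a t)
    exact ⟨c, Subtype.ext hc⟩

/-- the δ-invariant computed through a birational integral normal overring -/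
theorem deltaInv_eq_length_of_normal (hs : s ∈ nonZeroDivisors A)
    (hsC : algebraMap A C s ∈ nonZeroDivisors C)
    (hinj : Function.Injective (algebraMap A C))
    (hbir : ∀ c : C, ∃ (n : ℕ) (a : A), algebraMap A C (s ^ n) * c = algebraMap A C a)
    [Algebra.IsIntegral A C] (hC : EGA4.IsNormalRing C) :
    Curv2.deltaInv A = Module.length A (C ⧸ LinearMap.range (Algebra.linearMap A C)) := by
  obtain ⟨e⟩ := nonempty_algEquiv_integralClosure s hs hsC hinj hbir hC
  unfold Curv2.deltaInv
  symm
  refine LinearEquiv.length_eq (Submodule.Quotient.equiv _ _ e.toLinearEquiv ?_)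
  ext z
  simp only [Submodule.mem_map, LinearMap.mem_range, Algebra.linearMap_apply]
  constructor
  · rintro ⟨y, ⟨a, rfl⟩, rfl⟩
    exact ⟨a, (e.commutes a).symm⟩
  · rintro ⟨a, rfl⟩
    exact ⟨algebraMap A _ a, ⟨a, rfl⟩, e.commutes a⟩

end LemmaA

end Groth.Agent.Lib.Helper23.RedDelta
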