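import Groth.Agent.Lib.Helper23.NodeAlgA
import Groth.Agent.Lib.Helper23.NormalProd
import Groth.Agent.Lib.Helper23.RedDeltaA

/-!
# NodeAlgB: the δ-invariant of a ring isomorphic to the node algebra `K[[x,y]]/(xy)` is `1`
-/
set_option autoImplicit false
set_option linter.style.haveILetI false
universe u
open MvPowerSeries

noncomputable section

namespace Groth.Agent.Lib.Helper23.NodeAlg

variable (K : Type u) [Field K]

/-- the node algebra -/
abbrev Dk : Type u :=
  MvPowerSeries (Fin 2) K ⧸ Ideal.span {(MvPowerSeries.X 0 * MvPowerSeries.X 1 : MvPowerSeries (Fin 2) K)}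

/-- the induced map from the node algebra to the product -/
def barProd : Dk K →+* PowerSeries K × PowerSeries K :=
  Ideal.Quotient.lift _ (toProd K) (fun f hf => by
    rw [← ker_toProd] at hf
    exact hf)

variable {K}

theorem barProd_mk (f : MvPowerSeries (Fin 2) K) :
    barProd K (Ideal.Quotient.mk _ f) = toProd K f := rfl

variable (K)

theorem barProd_injective : Function.Injective (barProd K) := by
  rw [injective_iff_map_eq_zero]
  intro d hd
  obtain ⟨f, rfl⟩ := Ideal.Quotient.mk_surjective d
  rw [barProd_mk] at hd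
  rw [Ideal.Quotient.eq_zero_iff_mem, ← ker_toProd]
  exact hd

variable {K}

theorem mem_range_barProd (p q : PowerSeries K) :
    (p, q) ∈ (barProd K).range ↔ PowerSeries.constantCoeff p = PowerSeries.constantCoeff q := by
  rw [← mem_range_toProd]
  constructor
  · rintro ⟨d, hd⟩
    obtain ⟨f, rfl⟩ := Ideal.Quotient.mk_surjective d
    exact ⟨f, hd⟩
  · rintro ⟨f, hf⟩
    exact ⟨Ideal.Quotient.mk _ f, hf⟩

theorem isNormalRing_powerSeries : EGA4.IsNormalRing (PowerSeries K) := by
  intro p hp
  exact ⟨IsLocalization.isDomain_of_le_nonZeroDivisors (M := p.primeCompl) _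
      p.primeCompl_le_nonZeroDivisors,
    isIntegrallyClosed_of_isLocalization (Localization.AtPrime p) p.primeCompl
      p.primeCompl_le_nonZeroDivisors⟩

variable (K)

/-- a ring isomorphic to the node algebra is reduced -/
theorem isReduced_of_ringEquiv (A : Type u) [CommRing A] (e : A ≃+* Dk K) : IsReduced A := by
  haveI : IsReduced (PowerSeries K × PowerSeries K) := inferInstance
  exact isReduced_of_injective ((barProd K).comp e.toRingHom)
    ((barProd_injective K).comp e.injective)

/-- **The δ-invariant of the node is `1`.** -/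
theorem deltaInv_eq_one (A : Type u) [CommRing A] (ι : K →+* A) (e : A ≃+* Dk K)
    (he : ∀ c : K, e (ι c) = Ideal.Quotient.mk _ (MvPowerSeries.C c)) :
    Curv2.deltaInv A = 1 := by
  classical
  let ψ : A →+* PowerSeries K × PowerSeries K := (barProd K).comp e.toRingHom
  letI : Algebra A (PowerSeries K × PowerSeries K) := ψ.toAlgebra
  have halg : ∀ a : A, algebraMap A (PowerSeries K × PowerSeries K) a = ψ a := fun _ => rfl
  have hψ : ∀ a : A, ψ a = barProd K (e a) := fun _ => rfl
  have hψinj : Function.Injective ψ := (barProd_injective K).comp e.injective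
  haveI : Nontrivial A := RingHom.domain_nontrivial ψ
  have hrange : ∀ p q : PowerSeries K,
      (∃ a : A, ψ a = (p, q)) ↔ PowerSeries.constantCoeff p = PowerSeries.constantCoeff q := by
    intro p q
    rw [← mem_range_barProd]
    constructor
    · rintro ⟨a, ha⟩
      exact ⟨e a, ha⟩
    · rintro ⟨d, hd⟩
      exact ⟨e.symm d, by rw [hψ, e.apply_symm_apply, hd]⟩
  let s : A := e.symm (Ideal.Quotient.mk _ (MvPowerSeries.X 0 + MvPowerSeries.X 1))
  have hs : ψ s = (PowerSeries.X, PowerSeries.X) := by
    rw [hψ, e.apply_symm_apply, barProd_mk, toProd_apply, map_add, map_add, face_X_self,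
      face_X_self, face_X_ne (show (0 : Fin 2) ≠ 1 by decide),
      face_X_ne (show (1 : Fin 2) ≠ 0 by decide), add_zero, zero_add]
  have hsC : algebraMap A (PowerSeries K × PowerSeries K) s ∈
      nonZeroDivisors (PowerSeries K × PowerSeries K) := by
    rw [halg, hs, mem_nonZeroDivisors_iff_right]
    rintro ⟨p, q⟩ hpq
    rw [Prod.mk_mul_mk, Prod.mk_eq_zero] at hpq
    rw [Prod.mk_eq_zero]
    exact ⟨(mul_eq_zero.1 hpq.1).resolve_right PowerSeries.X_ne_zero,
      (mul_eq_zero.1 hpq.2).resolve_right PowerSeries.X_ne_zero⟩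
  have hsA : s ∈ nonZeroDivisors A := by
    rw [mem_nonZeroDivisors_iff_right]
    intro a ha
    apply hψinj
    rw [map_zero]
    have h1 : ψ a * ψ s = 0 := by rw [← map_mul, ha, map_zero]
    exact (mem_nonZeroDivisors_iff_right.1 hsC) _ h1
  have hbir : ∀ c : PowerSeries K × PowerSeries K, ∃ (n : ℕ) (a : A),
      algebraMap A (PowerSeries K × PowerSeries K) (s ^ n) * c =
        algebraMap A (PowerSeries K × PowerSeries K) a := by
    rintro ⟨p, q⟩
    obtain ⟨a, ha⟩ := (hrange (PowerSeries.X * p) (PowerSeries.X * q)).2 (by simp)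
    exact ⟨1, a, by rw [pow_one, halg, halg, hs, ha, Prod.mk_mul_mk]⟩
  haveI : Algebra.IsIntegral A (PowerSeries K × PowerSeries K) := by
    constructor
    rintro ⟨p, q⟩
    obtain ⟨a, ha⟩ := (hrange p (PowerSeries.C (PowerSeries.constantCoeff p))).2 (by simp)
    obtain ⟨b, hb⟩ := (hrange (PowerSeries.C (PowerSeries.constantCoeff q)) q).2 (by simp)
    have hidem : IsIntegral A ((1, 0) : PowerSeries K × PowerSeries K) := by
      refine ⟨Polynomial.X ^ 2 - Polynomial.X, Polynomial.monic_X_pow_sub
        (by rw [Polynomial.degree_X]; norm_num), ?_⟩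
      simp only [Polynomial.eval₂_sub, Polynomial.eval₂_pow, Polynomial.eval₂_X]
      ext <;> simp
    have hidem' : IsIntegral A ((0, 1) : PowerSeries K × PowerSeries K) := by
      refine ⟨Polynomial.X ^ 2 - Polynomial.X, Polynomial.monic_X_pow_sub
        (by rw [Polynomial.degree_X]; norm_num), ?_⟩
      simp only [Polynomial.eval₂_sub, Polynomial.eval₂_pow, Polynomial.eval₂_X]
      ext <;> simp
    have hdec : ((p, q) : PowerSeries K × PowerSeries K) =
        algebraMap A _ a * (1, 0) + algebraMap A _ b * (0, 1) := by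
      rw [halg, halg, ha, hb]
      ext <;> simp
    rw [hdec]
    exact (isIntegral_algebraMap.mul hidem).add (isIntegral_algebraMap.mul hidem')
  have hC : EGA4.IsNormalRing (PowerSeries K × PowerSeries K) :=
    NormalProd.isNormalRing_prod _ _ isNormalRing_powerSeries isNormalRing_powerSeries
  rw [RedDelta.deltaInv_eq_length_of_normal s hsA hsC hψinj hbir hC, Module.length_eq_one_iff,
    isSimpleModule_iff_toSpanSingleton_surjective]
  -- the difference of the constant coefficients
  let χ : PowerSeries K × PowerSeries K → K := fun c =>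
    PowerSeries.constantCoeff c.1 - PowerSeries.constantCoeff c.2
  have hχ : ∀ c : PowerSeries K × PowerSeries K,
      c ∈ LinearMap.range (Algebra.linearMap A (PowerSeries K × PowerSeries K)) ↔ χ c = 0 := by
    rintro ⟨p, q⟩
    rw [LinearMap.mem_range]
    simp only [Algebra.linearMap_apply, halg]
    rw [hrange p q]
    exact sub_eq_zero.symm
  have hmk0 : ∀ c : PowerSeries K × PowerSeries K,
      (Submodule.Quotient.mk c : (PowerSeries K × PowerSeries K) ⧸
        LinearMap.range (Algebra.linearMap A (PowerSeries K × PowerSeries K))) = 0 ↔ χ c = 0 :=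
    fun c => by rw [Submodule.Quotient.mk_eq_zero, hχ]
  refine ⟨⟨⟨Submodule.Quotient.mk (1, 0), 0, ?_⟩⟩, ?_⟩
  · intro h
    have := (hmk0 _).1 h
    simp [χ] at this
  · intro x hx z
    obtain ⟨c, rfl⟩ := Submodule.Quotient.mk_surjective _ x
    obtain ⟨c', rfl⟩ := Submodule.Quotient.mk_surjective _ z
    have hc : χ c ≠ 0 := fun h => hx ((hmk0 c).2 h)
    refine ⟨ι (χ c' / χ c), ?_⟩
    rw [LinearMap.toSpanSingleton_apply, ← Submodule.Quotient.mk_smul, ← sub_eq_zero,
      ← Submodule.Quotient.mk_sub, hmk0, Algebra.smul_def, halg, hψ, he, barProd_mk, toProd_apply,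
      face_C, face_C]
    obtain ⟨p, q⟩ := c
    obtain ⟨p', q'⟩ := c'
    simp only [χ, Prod.mk_mul_mk, Prod.fst_sub, Prod.snd_sub, map_sub, map_mul,
      PowerSeries.constantCoeff_C] at hc ⊢
    field_simp
    ring

end Groth.Agent.Lib.Helper23.NodeAlg
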