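import Mathlib
import Groth.Prelude
import Groth.Agent.Lib.Helper1.Deligne3
import Groth.Agent.Lib.Helper17.DevStep
import Groth.Agent.Lib.Helper17.Deligne
import Groth.Agent.Lib.Helper17.PbStalk
import Groth.Agent.Lib.Helper7.PushLinear
import Groth.Agent.Lib.Helper7.TwFun
import Groth.Agent.Lib.Helper7.CechCard
import Groth.Agent.Lib.Helper23.T2A

/-!
# Helper library (helper23): cohomology only depends on the module off a closed subscheme of
small cohomological dimension (S13536)
-/

set_option autoImplicit false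
set_option linter.unusedSectionVars false
set_option linter.style.haveILetI false
universe u
open CategoryTheory CategoryTheory.Limits AlgebraicGeometry Opposite TopologicalSpace
open Scheme.Modules

noncomputable section

namespace Groth.Agent.Lib.Helper23.OffClosed

open Groth.Agent.Lib.Helper3 Groth.Agent.Lib.Helper17 Groth.Agent.Lib.Helper7.TwFun
  Groth.Agent.Lib.Helper23.T2

variable {X : Scheme.{u}}

/-! ### bijectivity in the long exact sequence -/

theorem bijective_f (S : ShortComplex X.Modules) (hS : S.ShortExact) (n : ℕ)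
    (h₀ : Subsingleton (Coh.HH X S.X₃ n)) (h₁ : Subsingleton (Coh.HH X S.X₃ (n + 1))) :
    Function.Bijective (Hmap S.f (n + 1)) := by
  constructor
  · rw [injective_iff_map_eq_zero]
    intro x hx
    obtain ⟨y, rfl⟩ := exact₁ S hS n x hx
    rw [Subsingleton.elim y 0, map_zero]
  · intro z
    exact exact₂ S hS (n + 1) z (Subsingleton.elim _ _)

theorem bijective_g (S : ShortComplex X.Modules) (hS : S.ShortExact) (n : ℕ)
    (h₀ : Subsingleton (Coh.HH X S.X₁ n)) (h₁ : Subsingleton (Coh.HH X S.X₁ (n + 1))) :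
    Function.Bijective (Hmap S.g n) := by
  constructor
  · rw [injective_iff_map_eq_zero]
    intro x hx
    obtain ⟨y, rfl⟩ := exact₂ S hS n x hx
    rw [Subsingleton.elim y 0, map_zero]
  · intro z
    exact exact₃ S hS n z (Subsingleton.elim _ _)

/-! ### modules killed by a power of the ideal -/

variable {Z : Scheme.{u}} (ι : Z ⟶ X) [IsClosedImmersion ι] (k : ℕ)

theorem sub_of_killed_one
    (hcd : ∀ G : Z.Modules, Coh.IsQCoh G → ∀ i : ℕ, k + 1 ≤ i → Subsingleton (Coh.HH Z G i))
    (C : X.Modules) [C.IsQuasicoherent] (hC : ClSub.KilledByIdeal ι.ker C) (i : ℕ)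
    (hi : k + 1 ≤ i) : Subsingleton (Coh.HH X C i) := by
  haveI : IsIso ((Scheme.Modules.pullbackPushforwardAdjunction ι).unit.app C) :=
    (ClImmUnit.isIso_unit_iff ι C).mpr ((DevBasic.killed_iff ι.ker C).mp hC)
  let e : C ≅ (Scheme.Modules.pushforward ι).obj ((Scheme.Modules.pullback ι).obj C) :=
    asIso ((Scheme.Modules.pullbackPushforwardAdjunction ι).unit.app C)
  haveI := PbStalk.isQuasicoherent_pullback ι C
  have h1 : Subsingleton (Coh.HH Z ((Scheme.Modules.pullback ι).obj C) i) :=
    hcd _ inferInstance i hi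
  have h2 : Subsingleton (Coh.HH X
      ((Scheme.Modules.pushforward ι).obj ((Scheme.Modules.pullback ι).obj C)) i) :=
    (Groth.Agent.Lib.Helper7.PushLinear.pushEquiv ι _ i).symm.toEquiv.subsingleton
  exact subsingleton_HH_of_iso e i h2

theorem sub_of_killed_pow
    (hcd : ∀ G : Z.Modules, Coh.IsQCoh G → ∀ i : ℕ, k + 1 ≤ i → Subsingleton (Coh.HH Z G i)) :
    ∀ (n : ℕ) (C : X.Modules) [C.IsQuasicoherent], ClSub.KilledByIdeal (ι.ker ^ n) C →
      ∀ i : ℕ, k + 1 ≤ i → Subsingleton (Coh.HH X C i)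
  | 0, C, _, hC, i, hi => by
    refine sub_of_killed_one ι k hcd C ?_ i hi
    intro U a _ m
    have h1 := hC U 1 (by
      rw [pow_zero, Scheme.IdealSheafData.one_eq_top, Scheme.IdealSheafData.ideal_top]
      exact Submodule.mem_top) m
    rw [one_smul] at h1
    rw [h1, smul_zero]
  | n + 1, C, _, hC, i, hi => by
    have hS := Groth.Agent.Lib.Helper7.CechCard.shortExact_kernel (DevStep.proj ι.ker C)
    haveI : (kernel (DevStep.proj ι.ker C)).IsQuasicoherent :=
      QCProps.isQuasicoherent_kernel _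
    have h1 : Subsingleton (Coh.HH X (kernel (DevStep.proj ι.ker C)) i) :=
      sub_of_killed_pow hcd n _ (DevStep.killed_kernel ι.ker C n hC) i hi
    have h3 : Subsingleton (Coh.HH X (DevStep.quot ι.ker C) i) :=
      sub_of_killed_one ι k hcd _ (DevStep.killed_quot ι.ker C) i hi
    exact sub_mid _ hS i h1 h3

theorem support_ker_eq : (ι.ker.support : Set X) = Set.range ι.base := by
  rw [Scheme.Hom.support_ker]
  exact (Scheme.Hom.isClosedEmbedding ι).isClosed_range.closure_eq

theorem sub_of_support [IsNoetherian X]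
    (hcd : ∀ G : Z.Modules, Coh.IsQCoh G → ∀ i : ℕ, k + 1 ≤ i → Subsingleton (Coh.HH Z G i))
    (C : X.Modules) (hC : Coh.IsCoh C) (hsupp : CohB1.support C ⊆ Set.range ι.base) (i : ℕ)
    (hi : k + 1 ≤ i) : Subsingleton (Coh.HH X C i) := by
  obtain ⟨n, hn⟩ := Deligne.exists_pow_killed' C hC ι.ker (by rw [support_ker_eq]; exact hsupp)
  haveI : C.IsQuasicoherent := hC.1
  exact sub_of_killed_pow ι k hcd n C hn i hi

/-- if `q` restricts to an isomorphism over `U`, its kernel is supported off `U`. -/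
theorem support_kernel_subset (U : X.Opens) {A B : X.Modules} (q : A ⟶ B)
    [IsIso ((restrictFunctor U.ι).map q)] : CohB1.support (kernel q) ⊆ (U : Set X)ᶜ := by
  let R := restrictFunctor (X := (U : Scheme.{u})) U.ι
  have h0 : R.map (kernel.ι q) ≫ R.map q = 0 := by
    rw [← Functor.map_comp, kernel.condition, Functor.map_zero]
  have h1 : R.map (kernel.ι q) = 0 := by
    rw [← cancel_mono (R.map q), h0, zero_comp]
  haveI : Mono (R.map (kernel.ι q)) := inferInstance
  have hz : IsZero (R.obj (kernel q)) := by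
    rw [IsZero.iff_id_eq_zero, ← cancel_mono (R.map (kernel.ι q)), h1, comp_zero, comp_zero]
  intro x hx hxU
  refine Groth.Agent.Lib.Helper17.DevTF.notMem_support_of_sections (kernel q) U
    (fun O hO s => ?_) x hxU hx
  exact Groth.Agent.Lib.Helper17.DevSplit.sections_eq_zero_of_isZero_restrict _ U hz O hO s

theorem disjoint_support_pow (I : X.IdealSheafData) (U : X.Opens)
    (hU : (U : Set X) = (I.support : Set X)ᶜ) (n : ℕ) :
    Disjoint (U : Set X) ((I ^ n).support : Set X) := by
  cases n with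
  | zero =>
    rw [pow_zero, Scheme.IdealSheafData.one_eq_top]
    simp
  | succ m =>
    rw [Scheme.IdealSheafData.support_pow_succ, hU]
    exact disjoint_compl_left

/-- **cohomology in degrees `≥ k + 2` only depends on the module off a closed subscheme of
cohomological dimension `≤ k`.** -/
theorem main [IsNoetherian X]
    (hcd : ∀ G : Z.Modules, Coh.IsQCoh G → ∀ i : ℕ, k + 1 ≤ i → Subsingleton (Coh.HH Z G i))
    (U : X.Opens) (hU : (U : Set X) = (Set.range ι.base)ᶜ)
    (F F' : X.Modules) (hF : Coh.IsCoh F) (hF' : Coh.IsCoh F')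
    (e : F.restrict U.ι ≅ F'.restrict U.ι) (i : ℕ) (hi : k + 2 ≤ i) :
    Nonempty (Coh.HH X F i ≃+ Coh.HH X F' i) := by
  obtain ⟨j, rfl⟩ : ∃ j, i = j + 1 := ⟨i - 1, by omega⟩
  have hj : k + 1 ≤ j := by omega
  haveI : F.IsQuasicoherent := hF.1
  haveI : F'.IsQuasicoherent := hF'.1
  have hUI : (U : Set X) = (ι.ker.support : Set X)ᶜ := by rw [support_ker_eq]; exact hU
  have hUc : (U : Set X)ᶜ = Set.range ι.base := by rw [hU, compl_compl]
  obtain ⟨n, ψ, hψ⟩ := Groth.Agent.Lib.Helper1.Deligne.key9515 X F' F hF'.1 hF ι.ker U hUI e.hom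
  let R := restrictFunctor (X := (U : Scheme.{u})) U.ι
  let A : X.Modules := (Dual3.idealMul (ι.ker ^ n)).obj F
  let ι₁ : A ⟶ F := Dual3.idealMulι (ι.ker ^ n) F
  haveI : IsIso (R.map ι₁) :=
    Groth.Agent.Lib.Helper1.Deligne.isIso_restrict_idealMulι (ι.ker ^ n) F U
      (disjoint_support_pow ι.ker U hUI n)
  haveI : IsIso (R.map ψ) := by
    have h : R.map ψ = R.map ι₁ ≫ e.hom := hψ
    rw [h]
    infer_instance
  haveI : A.IsQuasicoherent := QCProps.isQuasicoherent_kernel (DevStep.proj (ι.ker ^ n) F)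
  have hA : Coh.IsCoh A := DevBasic.isCoh_of_mono ι₁ inferInstance hF
  -- first sequence
  have hS1 := Groth.Agent.Lib.Helper7.CechCard.shortExact_kernel (DevStep.proj (ι.ker ^ n) F)
  have hQ1 : ∀ l, k + 1 ≤ l → Subsingleton (Coh.HH X (DevStep.quot (ι.ker ^ n) F) l) :=
    fun l hl => sub_of_killed_pow ι k hcd n _ (DevStep.killed_quot (ι.ker ^ n) F) l hl
  have b1 : Function.Bijective (Hmap ι₁ (j + 1)) :=
    bijective_f _ hS1 j (hQ1 j hj) (hQ1 (j + 1) (by omega))
  -- image factorisation
  let p : A ⟶ Abelian.image ψ := Abelian.factorThruImage ψ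
  let j' : Abelian.image ψ ⟶ F' := Abelian.image.ι ψ
  have hpj : p ≫ j' = ψ := Abelian.image.fac ψ
  have hcokψ : Coh.IsCoh (cokernel ψ) := DevBasic.isCoh_cokernel ψ inferInstance hF'
  haveI : (cokernel ψ).IsQuasicoherent := hcokψ.1
  haveI : (Abelian.image ψ).IsQuasicoherent := QCProps.isQuasicoherent_kernel (cokernel.π ψ)
  haveI : Epi (R.map p) := inferInstance
  haveI : Mono (R.map p) := by
    haveI : Mono (R.map p ≫ R.map j') := by
      rw [← Functor.map_comp, hpj]
      infer_instance
    exact mono_of_mono (R.map p) (R.map j')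
  haveI : IsIso (R.map p) := isIso_of_mono_of_epi _
  haveI : IsIso (R.map j') := by
    have h : R.map j' = inv (R.map p) ≫ R.map ψ := by
      rw [IsIso.eq_inv_comp, ← Functor.map_comp, hpj]
    rw [h]
    infer_instance
  -- second sequence
  have hS2 := Groth.Agent.Lib.Helper7.CechCard.shortExact_kernel p
  have hK : Coh.IsCoh (kernel p) := DevBasic.isCoh_kernel p hA inferInstance
  have hKs : CohB1.support (kernel p) ⊆ Set.range ι.base := by
    rw [← hUc]
    exact support_kernel_subset U p
  have hK1 : ∀ l, k + 1 ≤ l → Subsingleton (Coh.HH X (kernel p) l) :=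
    fun l hl => sub_of_support ι k hcd _ hK hKs l hl
  have b2 : Function.Bijective (Hmap p (j + 1)) :=
    bijective_g _ hS2 (j + 1) (hK1 (j + 1) (by omega)) (hK1 (j + 1 + 1) (by omega))
  -- third sequence
  have hS3 : (ShortComplex.mk j' (cokernel.π j') (cokernel.condition j')).ShortExact :=
    ShortComplex.ShortExact.mk' (ShortComplex.exact_cokernel j') inferInstance inferInstance
  have hQ : Coh.IsCoh (cokernel j') := DevBasic.isCoh_cokernel j' inferInstance hF'
  have hQs : CohB1.support (cokernel j') ⊆ Set.range ι.base := by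
    rw [← hUc]
    exact Deligne.support_cokernel_subset U j'
  have hQ3 : ∀ l, k + 1 ≤ l → Subsingleton (Coh.HH X (cokernel j') l) :=
    fun l hl => sub_of_support ι k hcd _ hQ hQs l hl
  have b3 : Function.Bijective (Hmap j' (j + 1)) :=
    bijective_f _ hS3 j (hQ3 j hj) (hQ3 (j + 1) (by omega))
  exact ⟨((LinearEquiv.ofBijective (Hmap ι₁ (j + 1)) b1).toAddEquiv).symm.trans
    (((LinearEquiv.ofBijective (Hmap p (j + 1)) b2).toAddEquiv).trans
      ((LinearEquiv.ofBijective (Hmap j' (j + 1)) b3).toAddEquiv))⟩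

end Groth.Agent.Lib.Helper23.OffClosed
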