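import Groth.Agent.Lib.Helper3.VACore

/-!
# PnPoint: projective space over a ring has a section
-/
set_option autoImplicit false
set_option linter.style.haveILetI false
universe u
open CategoryTheory CategoryTheory.Limits Opposite TopologicalSpace AlgebraicGeometry
open Groth.Agent.Lib.Helper3 Groth.Agent.Lib.Helper3.QCSec Groth.Agent.Lib.Helper3.InvGen
  Groth.Agent.Lib.Helper3.InvAmple Groth.Agent.Lib.Helper3.SecCoord

noncomputable section

namespace Groth.Agent.Lib.Helper23.PnPoint

/-- every morphism to `Spec R` lifts to projective space -/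
theorem exists_lift_projSpace {R : Type u} [CommRing R] (n : ℕ) {T : Scheme.{u}}
    (q : T ⟶ Spec (CommRingCat.of R)) :
    ∃ r : T ⟶ CohB1.ProjSpace n R, r ≫ CohB1.ProjSpace.toSpec n R = q := by
  have hcov : ∀ x : T, ∃ i : Fin (n + 1), x ∈ locus (Coh.structureModule T)
      ((fun _ : Fin (n + 1) => (ofFun ⊤ 1 : Γ(Coh.structureModule T, ⊤))) i) := by
    intro x
    refine ⟨0, ?_⟩
    change x ∈ CohB1.genLocus _ (globalHom _ _)
    rw [mem_genLocus_iff]
    refine ⟨⊤, trivial, ?_⟩
    rw [sec_globalHom, res_self]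
    exact isGen_one ⊤
  obtain ⟨r, hr, -, -⟩ := Groth.Agent.Lib.Helper3.VACore.exists_hom_projSpace n q
    (Coh.structureModule T) _ hcov
  exact ⟨r, hr⟩

end Groth.Agent.Lib.Helper23.PnPoint
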