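import Groth.Agent.Lib.Helper23.PtDiv2
import Groth.Agent.Lib.Helper23.DegTensor
import Groth.Agent.Lib.Helper23.AmpleCurve4
import Groth.Agent.Lib.Helper1.CurveFlat

/-!
# PtDiv3: degrees of invertible modules form a subgroup; closed normal points give elements
-/
set_option autoImplicit false
set_option linter.style.haveILetI false
universe u
open CategoryTheory CategoryTheory.Limits Opposite TopologicalSpace AlgebraicGeometry
open Groth.Agent.Lib.Helper3 Groth.Agent.Lib.Helper3.QCSec Groth.Agent.Lib.Helper3.InvGen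
open Groth.Agent.Lib.Helper23.T2

noncomputable section

namespace Groth.Agent.Lib.Helper23.PtDiv

open Groth.Agent.Lib.Helper23.Curve Groth.Agent.Lib.Helper23.EffCart
  Groth.Agent.Lib.Helper23.DegTensor Groth.Agent.Lib.Helper23.Inverse

variable (k : Type u) [Field k] (X : Scheme.{u}) [X.Over (Spec (CommRingCat.of k))]
  [IsProper (X ↘ Spec (CommRingCat.of k))] [IsIntegral X]

/-- the degrees of invertible modules on a proper integral curve form a subgroup of `ℤ` -/
def degSubgroup (hdim : topologicalKrullDim X ≤ 1) : AddSubgroup ℤ where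
  carrier := {d | ∃ L : X.Modules, PicF.IsInvertible L ∧ Curv2.deg k X L 1 = d}
  zero_mem' := ⟨Coh.structureModule X, isInvertible_structureModule X,
    deg_structureModule_one k⟩
  add_mem' := by
    rintro a b ⟨L, hL, rfl⟩ ⟨M, hM, rfl⟩
    refine ⟨CohB1.tensorMod L M, Groth.Agent.Lib.Helper3.InvTensor.isInvertible_tensorMod hL hM, ?_⟩
    rw [deg_tw k hdim (isFinLocFreeOfRank_one_of_isInvertible hL) hM]
    push_cast
    ring
  neg_mem' := by
    rintro a ⟨L, hL, rfl⟩
    exact ⟨dual L, isInvertible_dual hL, deg_dual k hdim hL⟩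

theorem mem_degSubgroup_iff (hdim : topologicalKrullDim X ≤ 1) (d : ℤ) :
    d ∈ degSubgroup k X hdim ↔ ∃ L : X.Modules, PicF.IsInvertible L ∧ Curv2.deg k X L 1 = d :=
  Iff.rfl

section Point

omit [IsProper (X ↘ Spec (CommRingCat.of k))] [X.Over (Spec (CommRingCat.of k))] in
/-- a closed point of an integral scheme of dimension one is not the generic point -/
theorem ne_genericPoint_of_isClosed (hdim : topologicalKrullDim X = 1) (x : X)
    (hx : IsClosed ({x} : Set X)) : x ≠ genericPoint X := by
  intro h
  have h1 : closure ({x} : Set X) = Set.univ := by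
    rw [h]
    exact (genericPoint_spec X).def
  rw [hx.closure_eq] at h1
  haveI : Subsingleton X := ⟨fun a b => by
    have ha : a ∈ ({x} : Set X) := h1 ▸ Set.mem_univ a
    have hb : b ∈ ({x} : Set X) := h1 ▸ Set.mem_univ b
    rw [Set.mem_singleton_iff.1 ha, Set.mem_singleton_iff.1 hb]⟩
  haveI : DiscreteTopology X := inferInstance
  have h2 := topologicalKrullDim_zero_of_discreteTopology X
  rw [hdim] at h2
  exact absurd h2 (by decide)

omit [IsProper (X ↘ Spec (CommRingCat.of k))] [X.Over (Spec (CommRingCat.of k))] in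
/-- the maximal ideal of an integrally closed local ring of a curve is principal -/
theorem isPrincipal_maximalIdeal_of_isIntegrallyClosed [IsLocallyNoetherian X]
    (hdim : topologicalKrullDim X ≤ 1) (x : X)
    (hn : IsIntegrallyClosed (X.presheaf.stalk x)) :
    (IsLocalRing.maximalIdeal (X.presheaf.stalk x)).IsPrincipal := by
  have hd : ringKrullDim (X.presheaf.stalk x) ≤ 1 :=
    (Groth.Agent.Lib.Helper1.CurveFlat.ringKrullDim_stalk_le X x).trans hdim
  haveI : Ring.KrullDimLE 1 (X.presheaf.stalk x) := Ring.krullDimLE_iff.2 (by exact_mod_cast hd)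
  have h34 : (IsIntegrallyClosed (X.presheaf.stalk x) ∧ ∀ P : Ideal (X.presheaf.stalk x),
      P ≠ ⊥ → P.IsPrime → P = IsLocalRing.maximalIdeal (X.presheaf.stalk x)) →
      (IsLocalRing.maximalIdeal (X.presheaf.stalk x)).IsPrincipal :=
    ((tfae_of_isNoetherianRing_of_isLocalRing_of_isDomain (X.presheaf.stalk x)).out 3 4).1
  exact h34 ⟨hn, fun P hP hPp => IsLocalRing.eq_maximalIdeal (hPp.isMaximal_of_ne_bot hP)⟩

attribute [local instance] Curv2.resAlgebra

/-- the degree of a closed point with integrally closed local ring is the degree of an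
invertible module -/
theorem finrank_residueField_mem_degSubgroup (hdim : topologicalKrullDim X = 1) (x : X)
    (hx : IsClosed ({x} : Set X)) (hn : IsIntegrallyClosed (X.presheaf.stalk x)) :
    (Module.finrank k (X.residueField x) : ℤ) ∈ degSubgroup k X hdim.le := by
  haveI := isNoetherian_of_isProper k X
  have hne := ne_genericPoint_of_isClosed X hdim x hx
  have hprin := isPrincipal_maximalIdeal_of_isIntegrallyClosed X hdim.le x hn
  have hEff := isEffCartierIdeal_point x hx hne hprin
  have hInv := (Groth.Agent.Lib.Helper17.EffCartMod.isInvertible_idealMod_iff _).mpr hEff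
  have hsupp : ((Scheme.IdealSheafData.vanishingIdeal ⟨{x}, hx⟩).support : Set X) = {x} :=
    Scheme.IdealSheafData.coe_support_vanishingIdeal _
  have hdeg := deg_idealMod k X (Scheme.IdealSheafData.vanishingIdeal ⟨{x}, hx⟩)
    (isCoh_of_isInvertible hInv) (by rw [hsupp]; exact Set.finite_singleton x)
    (by
      intro z hz
      rw [hsupp] at hz
      rw [Set.mem_singleton_iff.1 hz]
      exact hx)
  rw [finrank_h0_quotMod_point k X x hx] at hdeg
  have hmem : -(Module.finrank k (X.residueField x) : ℤ) ∈ degSubgroup k X hdim.le :=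
    ⟨_, hInv, hdeg⟩
  simpa using (degSubgroup k X hdim.le).neg_mem hmem

/-- closed points with integrally closed local rings whose degrees have gcd one give an
invertible module of degree one -/
theorem exists_invertible_deg_one_of_gcd (hdim : topologicalKrullDim X = 1)
    (s : Finset X) (hcl : ∀ x ∈ s, IsClosed ({x} : Set X))
    (hn : ∀ x ∈ s, IsIntegrallyClosed (X.presheaf.stalk x))
    (hgcd : s.gcd (fun x => Module.finrank k (X.residueField x)) = 1) :
    ∃ L : X.Modules, PicF.IsInvertible L ∧ Curv2.deg k X L 1 = 1 := by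
  rw [← mem_degSubgroup_iff k X hdim.le]
  obtain ⟨n, hn'⟩ := Int.subgroup_cyclic (degSubgroup k X hdim.le)
  have hdvd : ∀ x ∈ s, n.natAbs ∣ Module.finrank k (X.residueField x) := by
    intro x hxs
    have h1 := finrank_residueField_mem_degSubgroup k X hdim x (hcl x hxs) (hn x hxs)
    rw [hn', AddSubgroup.mem_closure_singleton] at h1
    obtain ⟨c, hc⟩ := h1
    have h2 : n ∣ (Module.finrank k (X.residueField x) : ℤ) := ⟨c, by rw [← hc, smul_eq_mul]; ring⟩
    exact Int.natAbs_dvd_natAbs.2 h2 |>.trans (by simp)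
  have h1 : n.natAbs ∣ 1 := hgcd ▸ Finset.dvd_gcd hdvd
  have h2 : n.natAbs = 1 := Nat.dvd_one.1 h1
  rw [hn', AddSubgroup.mem_closure_singleton]
  rcases Int.natAbs_eq n with h | h
  · exact ⟨1, by rw [h, h2]; simp⟩
  · exact ⟨-1, by rw [h, h2]; simp⟩

end Point

end Groth.Agent.Lib.Helper23.PtDiv
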