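import Groth.Agent.Lib.Helper23.GeomCurve
import Groth.Agent.Lib.Helper23.RatPoint
import Groth.Agent.Lib.Helper23.PnPoint
import Groth.Agent.Lib.Helper23.PtDiv3
import Groth.Agent.Lib.Helper26.RegularSch
import Groth.Agent.Lib.Helper26.RegularNormal
import Groth.Agent.S6541

/-!
# P1Rat: a smooth proper integral curve with `H¹(O) = 0` and a rational point is the projective line
-/
set_option autoImplicit false
set_option linter.style.haveILetI false
universe u
open CategoryTheory CategoryTheory.Limits Opposite TopologicalSpace AlgebraicGeometry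

noncomputable section

namespace Groth.Agent.Lib.Helper23.P1Rat

variable (k : Type u) [Field k] (X : Scheme.{u}) [X.Over (Spec (CommRingCat.of k))]
  [IsProper (X ↘ Spec (CommRingCat.of k))] [IsIntegral X]

/-- a section through a point with integrally closed local ring gives an invertible module of
degree one -/
theorem exists_invertible_deg_one_of_section (hdim : topologicalKrullDim X = 1)
    (s : Spec (CommRingCat.of k) ⟶ X) (hs : s ≫ (X ↘ Spec (CommRingCat.of k)) = 𝟙 _)
    (hn : ∀ z, IsIntegrallyClosed (X.presheaf.stalk (s z))) :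
    ∃ L : X.Modules, PicF.IsInvertible L ∧ Curv2.deg k X L 1 = 1 := by
  have z : Spec (CommRingCat.of k) := Nonempty.some inferInstance
  obtain ⟨hcl, -, hfin⟩ := Groth.Agent.Lib.Helper23.RatPoint.of_section k X s hs z
  have hmem := Groth.Agent.Lib.Helper23.PtDiv.finrank_residueField_mem_degSubgroup k X hdim
    (s z) hcl (hn z)
  rw [hfin] at hmem
  obtain ⟨L, hL, hdeg⟩ := (Groth.Agent.Lib.Helper23.PtDiv.mem_degSubgroup_iff k X hdim.le _).1 hmem
  exact ⟨L, hL, by simpa using hdeg⟩

/-- a smooth proper integral curve with `H¹(O) = 0` and a rational point is the projective line -/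
theorem iso_projectiveLine_of_section [Smooth (X ↘ Spec (CommRingCat.of k))]
    (hdim : topologicalKrullDim X = 1)
    (h1 : Subsingleton (Coh.HH X (Coh.structureModule X) 1))
    (s : Spec (CommRingCat.of k) ⟶ X) (hs : s ≫ (X ↘ Spec (CommRingCat.of k)) = 𝟙 _) :
    ∃ e : X ≅ CohB1.ProjSpace 1 k,
      e.hom ≫ CohB1.ProjSpace.toSpec 1 k = X ↘ Spec (CommRingCat.of k) := by
  have hn : ∀ z, IsIntegrallyClosed (X.presheaf.stalk (s z)) := by
    intro z
    haveI hreg := Groth.Agent.Lib.Helper26.RegularSch.isRegularLocalRing_stalk_of_smooth_field k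
      (X ↘ Spec (CommRingCat.of k)) (s z)
    exact Groth.Agent.Lib.Helper26.RegularNormal.isIntegrallyClosed_of_isRegularLocalRing
      (X.presheaf.stalk (s z))
  obtain ⟨L, hL, hdeg⟩ := exists_invertible_deg_one_of_section k X hdim s hs hn
  exact Groth.Agent.S6541.result k X hdim h1 L hL hdeg

end Groth.Agent.Lib.Helper23.P1Rat
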