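import Mathlib
import Groth.Prelude.Def_BlowUp2

/-!
# PtDiv1: the reduced ideal of a closed point with principal maximal ideal is an effective
Cartier divisor
-/
set_option autoImplicit false
set_option linter.style.haveILetI false
universe u
open CategoryTheory CategoryTheory.Limits Opposite TopologicalSpace AlgebraicGeometry

namespace Groth.Agent.Lib.Helper23.PtDiv

/-- spreading out a generator of `P S` for `S = R_P`: it generates `P` after inverting a single
element outside `P` -/
theorem exists_map_eq_span {R : Type*} [CommRing R] (P : Ideal R) [P.IsPrime] (hfg : P.FG)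
    {S : Type*} [CommRing S] [Algebra R S] [IsLocalization.AtPrime S P] (a : R) (ha : a ∈ P)
    (hgen : P.map (algebraMap R S) = Ideal.span {algebraMap R S a}) :
    ∃ f : R, f ∉ P ∧ ∀ {T : Type*} [CommRing T] (φ : R →+* T), IsUnit (φ f) →
      P.map φ = Ideal.span {φ a} := by
  classical
  obtain ⟨s, hs⟩ := hfg
  have h1 : ∀ p ∈ P, ∃ f : R, f ∉ P ∧ f * p ∈ Ideal.span {a} := by
    intro p hp
    have hp' : algebraMap R S p ∈ Ideal.span {algebraMap R S a} := by
      rw [← hgen]
      exact Ideal.mem_map_of_mem _ hp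
    obtain ⟨c, hc⟩ := Ideal.mem_span_singleton'.1 hp'
    obtain ⟨r, u, rfl⟩ := IsLocalization.exists_mk'_eq P.primeCompl c
    have h2 : algebraMap R S (r * a) = algebraMap R S (p * u) := by
      rw [map_mul, map_mul, ← hc, mul_assoc, mul_comm (algebraMap R S a), ← mul_assoc,
        IsLocalization.mk'_spec]
    obtain ⟨v, hv⟩ := (IsLocalization.eq_iff_exists P.primeCompl S).1 h2
    refine ⟨v * u, fun h => ?_, ?_⟩
    · rcases (Ideal.IsPrime.mem_or_mem inferInstance h) with h | h
      · exact v.2 h
      · exact u.2 h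
    · rw [Ideal.mem_span_singleton']
      refine ⟨v * r, ?_⟩
      rw [mul_assoc, hv]
      ring
  choose! g hg using h1
  have hsP : ∀ p ∈ s, p ∈ P := fun p hp => hs ▸ Ideal.subset_span hp
  refine ⟨∏ p ∈ s, g p, fun h => ?_, ?_⟩
  · obtain ⟨p, hp, hgp⟩ := (Ideal.IsPrime.prod_mem_iff).1 h
    exact (hg p (hsP p hp)).1 hgp
  · intro T _ φ hu
    apply le_antisymm
    · rw [Ideal.map_le_iff_le_comap, ← hs, Ideal.span_le]
      intro p hp
      have h3 : (∏ q ∈ s, g q) * p ∈ Ideal.span {a} := by
        rw [← Finset.mul_prod_erase s g hp, mul_comm (g p), mul_assoc]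
        exact Ideal.mul_mem_left _ _ (hg p (hsP p hp)).2
      obtain ⟨c, hc⟩ := Ideal.mem_span_singleton'.1 h3
      change φ p ∈ Ideal.span {φ a}
      rw [Ideal.mem_span_singleton']
      obtain ⟨w, hw⟩ := hu.exists_left_inv
      refine ⟨w * φ c, ?_⟩
      rw [mul_assoc, ← map_mul, hc, map_mul, ← mul_assoc, hw, one_mul]
    · rw [Ideal.span_le]
      rintro _ rfl
      exact Ideal.mem_map_of_mem _ ha

section Scheme

variable {X : Scheme.{u}}

/-- the ideal of the reduced point `x` on an affine open containing `x` -/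
theorem vanishingIdeal_ideal_of_mem (x : X) (hx : IsClosed ({x} : Set X)) (U : X.affineOpens)
    (hxU : x ∈ U.1) :
    (Scheme.IdealSheafData.vanishingIdeal ⟨{x}, hx⟩).ideal U =
      (U.2.primeIdealOf ⟨x, hxU⟩).asIdeal := by
  have h0 := Scheme.IdealSheafData.vanishingIdeal_ideal (X := X) ⟨{x}, hx⟩ U
  have h1 : U.2.fromSpec ⁻¹' ((⟨{x}, hx⟩ : Closeds X) : Set X) = {U.2.primeIdealOf ⟨x, hxU⟩} := by
    ext y
    simp only [Set.mem_preimage]
    constructor
    · intro hy
      apply U.2.fromSpec.isOpenEmbedding.injective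
      rw [U.2.fromSpec_primeIdealOf]
      exact hy
    · intro hy
      rw [hy, U.2.fromSpec_primeIdealOf]
      rfl
  exact h0.trans ((congrArg PrimeSpectrum.vanishingIdeal h1).trans
    (PrimeSpectrum.vanishingIdeal_singleton _))

/-- the ideal of the reduced point `x` on an affine open not containing `x` -/
theorem vanishingIdeal_ideal_of_notMem (x : X) (hx : IsClosed ({x} : Set X)) (U : X.affineOpens)
    (hxU : x ∉ U.1) :
    (Scheme.IdealSheafData.vanishingIdeal ⟨{x}, hx⟩).ideal U = ⊤ := by
  have h0 := Scheme.IdealSheafData.vanishingIdeal_ideal (X := X) ⟨{x}, hx⟩ U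
  have h1 : U.2.fromSpec ⁻¹' ((⟨{x}, hx⟩ : Closeds X) : Set X) = ∅ := by
    ext y
    simp only [Set.mem_preimage, Set.mem_empty_iff_false, iff_false]
    intro hy
    apply hxU
    have h2 : U.2.fromSpec y = x := hy
    rw [← h2]
    have h3 : U.2.fromSpec y ∈ Set.range U.2.fromSpec := ⟨y, rfl⟩
    rw [U.2.range_fromSpec] at h3
    exact h3
  exact h0.trans ((congrArg PrimeSpectrum.vanishingIdeal h1).trans
    PrimeSpectrum.vanishingIdeal_empty)

/-- the reduced ideal of a closed, non-generic point of an integral locally noetherian scheme whose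
maximal ideal is principal is an effective Cartier divisor -/
theorem isEffCartierIdeal_point [IsIntegral X] [IsLocallyNoetherian X] (x : X)
    (hx : IsClosed ({x} : Set X)) (hne : x ≠ genericPoint X)
    (hprin : (IsLocalRing.maximalIdeal (X.presheaf.stalk x)).IsPrincipal) :
    BlowUp.IsEffCartierIdeal (Scheme.IdealSheafData.vanishingIdeal ⟨{x}, hx⟩) := by
  intro y
  by_cases hyx : y = x
  · subst hyx
    obtain ⟨_, ⟨U, hU, rfl⟩, hyU, -⟩ :=
      X.isBasis_affineOpens.exists_subset_of_mem_open (Set.mem_univ y) isOpen_univ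
    let U' : X.affineOpens := ⟨U, hU⟩
    haveI : IsNoetherianRing Γ(X, U) := IsLocallyNoetherian.component_noetherian U'
    letI algS : Algebra Γ(X, U) (X.presheaf.stalk y) :=
      TopCat.Presheaf.algebra_section_stalk X.presheaf ⟨y, hyU⟩
    haveI hloc : IsLocalization.AtPrime (X.presheaf.stalk y) (hU.primeIdealOf ⟨y, hyU⟩).asIdeal :=
      hU.isLocalization_stalk ⟨y, hyU⟩
    set P := (hU.primeIdealOf ⟨y, hyU⟩).asIdeal with hP
    have hideal := vanishingIdeal_ideal_of_mem y hx U' hyU
    have hmax : IsLocalRing.maximalIdeal (X.presheaf.stalk y) =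
        P.map (algebraMap Γ(X, U) (X.presheaf.stalk y)) :=
      (IsLocalization.AtPrime.map_eq_maximalIdeal P (X.presheaf.stalk y)).symm
    obtain ⟨t, ht⟩ := hprin
    obtain ⟨a, u, rfl⟩ := IsLocalization.exists_mk'_eq P.primeCompl t
    have hu : IsUnit (algebraMap Γ(X, U) (X.presheaf.stalk y) u) :=
      IsLocalization.map_units _ u
    have hspan : IsLocalRing.maximalIdeal (X.presheaf.stalk y) =
        Ideal.span {algebraMap Γ(X, U) (X.presheaf.stalk y) a} := by
      rw [ht]
      change Ideal.span _ = _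
      rw [← IsLocalization.mk'_spec (X.presheaf.stalk y) a u]
      exact (Ideal.span_singleton_mul_right_unit hu _).symm
    have haP : a ∈ P := by
      rw [← IsLocalization.AtPrime.to_map_mem_maximal_iff (X.presheaf.stalk y) P a, hspan]
      exact Ideal.subset_span rfl
    obtain ⟨f, hfP, hf⟩ := exists_map_eq_span P (IsNoetherian.noetherian P) a haP
      (hmax.symm.trans hspan)
    -- the basic open
    let V' : X.affineOpens := X.affineBasicOpen (U := U') f
    have hVU : V' ≤ U' := X.affineBasicOpen_le (V := U') f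
    have hyV : y ∈ V'.1 := by
      change y ∈ X.basicOpen f
      rw [Scheme.mem_basicOpen X f y hyU]
      have h1 : algebraMap Γ(X, U) (X.presheaf.stalk y) f ∉
          IsLocalRing.maximalIdeal (X.presheaf.stalk y) := by
        rw [IsLocalization.AtPrime.to_map_mem_maximal_iff (X.presheaf.stalk y) P f]
        exact hfP
      exact (IsLocalRing.notMem_maximalIdeal.1 h1)
    have hunit : IsUnit ((X.presheaf.map (homOfLE hVU).op).hom f) :=
      RingedSpace.isUnit_res_basicOpen X.toRingedSpace f
    have hmap := (Scheme.IdealSheafData.vanishingIdeal ⟨{y}, hx⟩).map_ideal hVU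
    rw [hideal] at hmap
    have hV := hf (X.presheaf.map (homOfLE hVU).op).hom hunit
    refine ⟨V', hyV, (X.presheaf.map (homOfLE hVU).op).hom a, ?_, hmap.symm.trans hV⟩
    -- nonzerodivisor
    haveI : Nonempty V'.1 := ⟨⟨y, hyV⟩⟩
    haveI : IsDomain Γ(X, V'.1) := inferInstance
    apply mem_nonZeroDivisors_of_ne_zero
    intro h0
    -- then the ideal on `V'` vanishes, so `V' ⊆ {y}` and `y` is generic
    have hbot : (Scheme.IdealSheafData.vanishingIdeal ⟨{y}, hx⟩).ideal V' = ⊥ := by
      rw [hmap.symm.trans hV, h0]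
      exact Ideal.span_singleton_eq_bot.2 rfl
    have hsub := (Scheme.IdealSheafData.vanishingIdeal ⟨{y}, hx⟩).coe_support_inter V'
    rw [hbot, Scheme.IdealSheafData.coe_support_vanishingIdeal] at hsub
    have hgen : genericPoint X ∈ V'.1 :=
      ((genericPoint_spec X).specializes (Set.mem_univ y)).mem_open V'.1.2 hyV
    have h2 : genericPoint X ∈ (X.zeroLocus (U := V'.1) (⊥ : Ideal Γ(X, V'.1)) ∩ V'.1 : Set X) := by
      refine ⟨?_, hgen⟩
      rw [Scheme.zeroLocus_def]
      simp
    rw [← hsub] at h2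
    exact hne h2.1.symm
  · have hopen : IsOpen ({x}ᶜ : Set X) := hx.isOpen_compl
    obtain ⟨_, ⟨U, hU, rfl⟩, hyU, hUx⟩ :=
      X.isBasis_affineOpens.exists_subset_of_mem_open (show y ∈ ({x}ᶜ : Set X) from hyx) hopen
    let U' : X.affineOpens := ⟨U, hU⟩
    have hxU : x ∉ U'.1 := fun h => hUx h rfl
    refine ⟨U', hyU, 1, one_mem _, ?_⟩
    rw [vanishingIdeal_ideal_of_notMem x hx U' hxU]
    exact (Ideal.span_singleton_one).symm

end Scheme

end Groth.Agent.Lib.Helper23.PtDiv
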