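import Groth.Agent.Lib.Helper23.PtDiv2
import Groth.Agent.Lib.Helper23.PtLin3

/-!
# PtPow: `h⁰(O/D)` for an ideal supported in an affine open, and the degree of the `n`-th power of
the ideal of a rational normal point
-/
set_option autoImplicit false
set_option linter.style.haveILetI false
universe u
open CategoryTheory CategoryTheory.Limits Opposite TopologicalSpace AlgebraicGeometry
open Groth.Agent.Lib.Helper3 Groth.Agent.Lib.Helper3.QCSec Groth.Agent.Lib.Helper3.InvGen
open Groth.Agent.Lib.Helper23.T2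

noncomputable section

namespace Groth.Agent.Lib.Helper23.PtPow

open Groth.Agent.Lib.Helper23.Curve Groth.Agent.Lib.Helper23.EffCart
  Groth.Agent.Lib.Helper12.SchemeDimFT Groth.Agent.Lib.Helper23.PtDiv

section H0

variable (k : Type u) [Field k] (X : Scheme.{u}) [X.Over (Spec (CommRingCat.of k))]

/-- `h⁰(O/D)` is the dimension of `Γ(X, U)/D(U)` when the support of `D` lies in the affine open
`U` -/
theorem finrank_h0_quotMod_eq (D : X.IdealSheafData) (U : X.Opens) (hU : IsAffineOpen U)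
    (hDU : (D.support : Set X) ⊆ U) :
    letI := secAlgebra k X U
    Module.finrank k (Coh.HH X (ClSub.quotMod D) 0) =
      Module.finrank k (Γ(X, U) ⧸ D.ideal ⟨U, hU⟩) := by
  let U' : X.affineOpens := ⟨U, hU⟩
  have hle : D.subschemeι ⁻¹ᵁ ⊤ ≤ D.subschemeι ⁻¹ᵁ U := by
    intro z _
    have h1 : D.subschemeι z ∈ (D.support : Set X) := by
      rw [← D.range_subschemeι]
      exact ⟨z, rfl⟩
    exact hDU h1
  letI := secAlgebra k X U
  letI algA : Algebra k Γ(D.subscheme, D.subschemeι ⁻¹ᵁ ⊤) :=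
    ((D.subschemeι.app ⊤).hom.comp (Coh.toGlobal (X ↘ Spec (CommRingCat.of k)))).toAlgebra
  let F : Coh.HH X (ClSub.quotMod D) 0 ≃ₗ[k] Γ(D.subscheme, D.subschemeι ⁻¹ᵁ ⊤) :=
    { toFun := fun h => toFun (D.subschemeι ⁻¹ᵁ ⊤) (H0equiv (ClSub.quotMod D) h)
      invFun := fun a => (H0equiv (ClSub.quotMod D)).symm (ofFun (D.subschemeι ⁻¹ᵁ ⊤) a)
      map_add' := fun a b => by
        rw [map_add]
        rfl
      map_smul' := fun c h => by
        have h1 : c • h = (Coh.toGlobal (X ↘ Spec (CommRingCat.of k)) c) • h := rfl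
        rw [h1, (H0equiv (ClSub.quotMod D)).map_smul]
        rfl
      left_inv := fun h => by
        change (H0equiv (ClSub.quotMod D)).symm (H0equiv (ClSub.quotMod D) h) = h
        exact (H0equiv (ClSub.quotMod D)).symm_apply_apply h
      right_inv := fun a => by
        change toFun _ (H0equiv (ClSub.quotMod D)
          ((H0equiv (ClSub.quotMod D)).symm (ofFun _ a))) = a
        rw [(H0equiv (ClSub.quotMod D)).apply_symm_apply]
        rfl }
  rw [F.finrank_eq]
  let ρ : Γ(D.subscheme, D.subschemeι ⁻¹ᵁ U) →+* Γ(D.subscheme, D.subschemeι ⁻¹ᵁ ⊤) :=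
    (D.subscheme.presheaf.map (homOfLE hle).op).hom
  have hρ : Function.Bijective ρ := by
    haveI : IsIso (homOfLE hle) := ⟨homOfLE le_top, Subsingleton.elim _ _, Subsingleton.elim _ _⟩
    exact ConcreteCategory.bijective_of_isIso (D.subscheme.presheaf.map (homOfLE hle).op)
  let Ψ₀ : Γ(X, U) →+* Γ(D.subscheme, D.subschemeι ⁻¹ᵁ ⊤) :=
    ρ.comp (D.subschemeι.app U).hom
  have hΨ₀k : ∀ c : k, Ψ₀ (algebraMap k Γ(X, U) c) =
      algebraMap k Γ(D.subscheme, D.subschemeι ⁻¹ᵁ ⊤) c := by
    intro c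
    change ρ ((D.subschemeι.app U).hom ((X.presheaf.map (homOfLE (le_top : U ≤ ⊤)).op).hom
      (Coh.toGlobal (X ↘ Spec (CommRingCat.of k)) c))) =
      (D.subschemeι.app ⊤).hom (Coh.toGlobal (X ↘ Spec (CommRingCat.of k)) c)
    have hnat := D.subschemeι.naturality (homOfLE (le_top : U ≤ ⊤)).op
    have h2 := congrArg (fun φ => φ.hom (Coh.toGlobal (X ↘ Spec (CommRingCat.of k)) c)) hnat
    simp only [CommRingCat.hom_comp, RingHom.comp_apply] at h2
    change ρ ((D.subschemeι.app U).hom ((X.presheaf.map (homOfLE (le_top : U ≤ ⊤)).op).hom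
      (Coh.toGlobal (X ↘ Spec (CommRingCat.of k)) c))) = _
    rw [h2]
    change (D.subscheme.presheaf.map (homOfLE hle).op).hom
      ((D.subscheme.presheaf.map _).hom ((D.subschemeι.app ⊤).hom _)) = _
    rw [← RingHom.comp_apply, ← CommRingCat.hom_comp, ← Functor.map_comp]
    have h3 : ∀ f : op (D.subschemeι ⁻¹ᵁ ⊤) ⟶ op (D.subschemeι ⁻¹ᵁ ⊤),
        D.subscheme.presheaf.map f = 𝟙 _ := fun f => by
      rw [Subsingleton.elim f (𝟙 _), CategoryTheory.Functor.map_id]
    rw [h3]
    rfl
  let Ψ : Γ(X, U) →ₐ[k] Γ(D.subscheme, D.subschemeι ⁻¹ᵁ ⊤) := { Ψ₀ with commutes' := hΨ₀k }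
  have hΨsurj : Function.Surjective Ψ :=
    hρ.2.comp (D.subschemeι_app_surjective U')
  have hΨker : RingHom.ker Ψ = D.ideal U' := by
    rw [← D.ker_subschemeι_app U']
    ext r
    change ρ ((D.subschemeι.app U).hom r) = 0 ↔ (D.subschemeι.app U).hom r = 0
    rw [← map_zero ρ]
    exact hρ.1.eq_iff
  let Φ : Γ(X, U) →ₐ[k] (Γ(X, U) ⧸ D.ideal U') := Ideal.Quotient.mkₐ k (D.ideal U')
  have hΦsurj : Function.Surjective Φ := Ideal.Quotient.mkₐ_surjective k _
  have hΦker : RingHom.ker Φ = D.ideal U' := Ideal.Quotient.mkₐ_ker k _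
  exact finrank_eq_of_surjective_of_ker_eq Ψ Φ hΨsurj hΦsurj (hΨker.trans hΦker.symm)

end H0


theorem finrank_quot_span_pow {k A : Type*} [Field k] [CommRing A] [IsDomain A] [Algebra k A]
    (a : A) (ha : a ≠ 0) [Module.Finite k (A ⧸ Ideal.span {a})] (n : ℕ) :
    Module.Finite k (A ⧸ (Ideal.span {a}) ^ n) ∧
      Module.finrank k (A ⧸ (Ideal.span {a}) ^ n) = n * Module.finrank k (A ⧸ Ideal.span {a}) := by
  induction n with
  | zero =>
    haveI : Subsingleton (A ⧸ (Ideal.span {a}) ^ 0) := by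
      rw [pow_zero, Ideal.one_eq_top]
      exact Ideal.Quotient.subsingleton_iff.mpr rfl
    exact ⟨inferInstance, by rw [Module.finrank_zero_of_subsingleton]; simp⟩
  | succ n ih =>
    obtain ⟨hfin, hrank⟩ := ih
    set I : Ideal A := Ideal.span {a} with hI
    have hle : I ^ (n + 1) ≤ I ^ n := Ideal.pow_le_pow_right (Nat.le_succ n)
    let f : (A ⧸ I ^ (n + 1)) →ₗ[k] (A ⧸ I ^ n) := (Ideal.Quotient.factorₐ k hle).toLinearMap
    have hf : Function.Surjective f := Ideal.Quotient.factor_surjective hle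
    have hmap : I ≤ Submodule.comap (LinearMap.mulLeft A (a ^ n)) (I ^ (n + 1)) := by
      intro x hx
      rw [Submodule.mem_comap, LinearMap.mulLeft_apply, pow_succ]
      exact Ideal.mul_mem_mul (by rw [hI, Ideal.span_singleton_pow]; exact Ideal.mem_span_singleton_self _) hx
    let g₀ : (A ⧸ I) →ₗ[A] (A ⧸ I ^ (n + 1)) :=
      Submodule.mapQ I (I ^ (n + 1)) (LinearMap.mulLeft A (a ^ n)) hmap
    let g : (A ⧸ I) →ₗ[k] (A ⧸ I ^ (n + 1)) := g₀.restrictScalars k
    have hg_apply : ∀ x : A, g (Ideal.Quotient.mk I x) = Ideal.Quotient.mk (I ^ (n + 1)) (a ^ n * x) :=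
      fun x => rfl
    have hginj : Function.Injective g := by
      rw [injective_iff_map_eq_zero]
      intro y hy
      obtain ⟨x, rfl⟩ := Ideal.Quotient.mk_surjective y
      rw [hg_apply, Ideal.Quotient.eq_zero_iff_mem, hI, Ideal.span_singleton_pow,
        Ideal.mem_span_singleton'] at hy
      obtain ⟨c, hc⟩ := hy
      rw [Ideal.Quotient.eq_zero_iff_mem, hI, Ideal.mem_span_singleton']
      refine ⟨c, ?_⟩
      have : a ^ n * (c * a) = a ^ n * x := by rw [← hc]; ring
      exact mul_left_cancel₀ (pow_ne_zero n ha) this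
    have hrange : LinearMap.range g = LinearMap.ker f := by
      ext y
      obtain ⟨x, rfl⟩ := Ideal.Quotient.mk_surjective y
      constructor
      · rintro ⟨z, hz⟩
        obtain ⟨w, rfl⟩ := Ideal.Quotient.mk_surjective z
        rw [hg_apply] at hz
        rw [LinearMap.mem_ker, ← hz]
        change Ideal.Quotient.mk (I ^ n) (a ^ n * w) = 0
        rw [Ideal.Quotient.eq_zero_iff_mem, hI, Ideal.span_singleton_pow]
        exact Ideal.mul_mem_right _ _ (Ideal.mem_span_singleton_self _)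
      · intro hx
        rw [LinearMap.mem_ker] at hx
        change Ideal.Quotient.mk (I ^ n) x = 0 at hx
        rw [Ideal.Quotient.eq_zero_iff_mem, hI, Ideal.span_singleton_pow,
          Ideal.mem_span_singleton'] at hx
        obtain ⟨c, hc⟩ := hx
        exact ⟨Ideal.Quotient.mk I c, by rw [hg_apply, ← hc, mul_comm]⟩
    let eK : (A ⧸ I) ≃ₗ[k] LinearMap.ker f :=
      (LinearEquiv.ofInjective g hginj).trans (LinearEquiv.ofEq _ _ hrange)
    let eQ : ((A ⧸ I ^ (n + 1)) ⧸ LinearMap.ker f) ≃ₗ[k] (A ⧸ I ^ n) :=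
      f.quotKerEquivOfSurjective hf
    haveI : Module.Finite k (LinearMap.ker f) := Module.Finite.equiv eK
    haveI : Module.Finite k ((A ⧸ I ^ (n + 1)) ⧸ LinearMap.ker f) := Module.Finite.equiv eQ.symm
    haveI hM : Module.Finite k (A ⧸ I ^ (n + 1)) :=
      Module.Finite.of_submodule_quotient (LinearMap.ker f)
    refine ⟨hM, ?_⟩
    have h1 := Submodule.finrank_quotient_add_finrank (LinearMap.ker f)
    rw [eQ.finrank_eq, ← eK.finrank_eq, hrank] at h1
    rw [← h1]
    ring

section Pow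

variable (k : Type u) [Field k] (X : Scheme.{u}) [X.Over (Spec (CommRingCat.of k))]
  [IsProper (X ↘ Spec (CommRingCat.of k))] [IsIntegral X]

attribute [local instance] Curv2.resAlgebra

/-- powers of an effective Cartier ideal are effective Cartier -/
theorem isEffCartierIdeal_pow {Y : Scheme.{u}} (I : Y.IdealSheafData)
    (hI : BlowUp.IsEffCartierIdeal I) (n : ℕ) : BlowUp.IsEffCartierIdeal (I ^ n) := by
  intro y
  obtain ⟨U, hyU, f, hf, hid⟩ := hI y
  refine ⟨U, hyU, f ^ n, pow_mem hf n, ?_⟩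
  change (I.ideal U) ^ n = _
  rw [hid, Ideal.span_singleton_pow]

/-- `h⁰(O/I_x^n) = n [κ(x):k]` at a closed normal point of a proper integral curve -/
theorem finrank_h0_quotMod_pow (hdim : topologicalKrullDim X = 1) (x : X)
    (hx : IsClosed ({x} : Set X)) (hn : IsIntegrallyClosed (X.presheaf.stalk x)) (n : ℕ) :
    Module.finrank k (Coh.HH X
      (ClSub.quotMod ((Scheme.IdealSheafData.vanishingIdeal ⟨{x}, hx⟩) ^ n)) 0) =
      n * Module.finrank k (X.residueField x) := by
  haveI := isNoetherian_of_isProper k X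
  have hne := ne_genericPoint_of_isClosed X hdim x hx
  have hprin := isPrincipal_maximalIdeal_of_isIntegrallyClosed X hdim.le x hn
  have hEff := isEffCartierIdeal_point x hx hne hprin
  set I := Scheme.IdealSheafData.vanishingIdeal (⟨{x}, hx⟩ : Closeds X) with hI
  obtain ⟨V, hxV, a, ha, hideal⟩ := hEff x
  have hsupp : (I.support : Set X) = {x} := Scheme.IdealSheafData.coe_support_vanishingIdeal _
  have hIV : (I.support : Set X) ⊆ V.1 := by
    rw [hsupp]
    intro z hz
    rw [Set.mem_singleton_iff.mp hz]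
    exact hxV
  letI := secAlgebra k X V.1
  haveI : Nonempty V.1 := ⟨⟨x, hxV⟩⟩
  haveI : IsDomain Γ(X, V.1) := inferInstance
  have ha0 : a ≠ 0 := nonZeroDivisors.ne_zero ha
  -- the case `n = 1`
  have h1 := finrank_h0_quotMod_eq k X I V.1 V.2 hIV
  have hpt := finrank_h0_quotMod_point k X x hx
  have hid1 : I.ideal ⟨V.1, V.2⟩ = Ideal.span {a} := hideal
  rw [hid1] at h1
  haveI hQfin : Module.Finite k (Coh.HH X (ClSub.quotMod I) 0) :=
    finite_HH k _ (isCoh_quotMod I) 0
  haveI hQnt : Nontrivial (Coh.HH X (ClSub.quotMod I) 0) := by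
    have hxr : x ∈ Set.range I.subschemeι := by
      rw [I.range_subschemeι, hsupp]
      rfl
    obtain ⟨z, hz⟩ := hxr
    have h2 : Nontrivial Γ(I.subscheme, I.subschemeι ⁻¹ᵁ ⊤) :=
      @Scheme.component_nontrivial I.subscheme (I.subschemeι ⁻¹ᵁ ⊤) ⟨⟨z, trivial⟩⟩
    have h3 : Nontrivial (Γm (ClSub.quotMod I)) := h2
    exact (H0equiv (ClSub.quotMod I)).toEquiv.nontrivial
  have hpos : 0 < Module.finrank k (Γ(X, V.1) ⧸ Ideal.span {a}) := by
    rw [← h1]
    exact Module.finrank_pos
  haveI : Module.Finite k (Γ(X, V.1) ⧸ Ideal.span {a}) := Module.finite_of_finrank_pos hpos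
  obtain ⟨-, hpow⟩ := finrank_quot_span_pow (k := k) a ha0 n
  -- the general case
  have hDV : (((I ^ n).support : Closeds X) : Set X) ⊆ V.1 := by
    rcases Nat.eq_zero_or_pos n with h0 | h0
    · subst h0
      intro z hz
      have : (I ^ 0).support = ⊥ := by
        rw [pow_zero]
        exact Scheme.IdealSheafData.support_top
      rw [this] at hz
      exact absurd hz (Set.notMem_empty z)
    · rw [Scheme.IdealSheafData.support_pow I n (by omega)]
      exact hIV
  have h2 := finrank_h0_quotMod_eq k X (I ^ n) V.1 V.2 hDV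
  have hidn : (I ^ n).ideal ⟨V.1, V.2⟩ = (Ideal.span {a}) ^ n := by
    change (I.ideal ⟨V.1, V.2⟩) ^ n = _
    rw [hid1]
  rw [hidn] at h2
  rw [h2, hpow, ← h1, hpt]

/-- the `n`-th power of the ideal of a closed normal point is invertible of degree
`- n [κ(x):k]` -/
theorem isInvertible_and_deg_idealMod_pow (hdim : topologicalKrullDim X = 1) (x : X)
    (hx : IsClosed ({x} : Set X)) (hn : IsIntegrallyClosed (X.presheaf.stalk x)) (n : ℕ) :
    PicF.IsInvertible (ClSub.idealMod ((Scheme.IdealSheafData.vanishingIdeal ⟨{x}, hx⟩) ^ n)) ∧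
      Curv2.deg k X (ClSub.idealMod ((Scheme.IdealSheafData.vanishingIdeal ⟨{x}, hx⟩) ^ n)) 1 =
        -((n : ℤ) * (Module.finrank k (X.residueField x) : ℤ)) := by
  haveI := isNoetherian_of_isProper k X
  have hne := ne_genericPoint_of_isClosed X hdim x hx
  have hprin := isPrincipal_maximalIdeal_of_isIntegrallyClosed X hdim.le x hn
  have hEff := isEffCartierIdeal_pow _ (isEffCartierIdeal_point x hx hne hprin) n
  have hInv := (Groth.Agent.Lib.Helper17.EffCartMod.isInvertible_idealMod_iff _).mpr hEff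
  set I := Scheme.IdealSheafData.vanishingIdeal (⟨{x}, hx⟩ : Closeds X) with hI
  have hsupp : (I.support : Set X) = {x} := Scheme.IdealSheafData.coe_support_vanishingIdeal _
  have hsub : (((I ^ n).support : Closeds X) : Set X) ⊆ {x} := by
    rcases Nat.eq_zero_or_pos n with h0 | h0
    · subst h0
      intro z hz
      have : (I ^ 0).support = ⊥ := by
        rw [pow_zero]
        exact Scheme.IdealSheafData.support_top
      rw [this] at hz
      exact absurd hz (Set.notMem_empty z)
    · rw [Scheme.IdealSheafData.support_pow I n (by omega), hsupp]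
  have hdeg := deg_idealMod k X (I ^ n) (isCoh_of_isInvertible hInv)
    ((Set.finite_singleton x).subset hsub)
    (by
      intro z hz
      rw [Set.mem_singleton_iff.1 (hsub hz)]
      exact hx)
  rw [finrank_h0_quotMod_pow k X hdim x hx hn n] at hdeg
  refine ⟨hInv, ?_⟩
  rw [hdeg]
  push_cast
  ring

end Pow

end Groth.Agent.Lib.Helper23.PtPow
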