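import Mathlib
import Groth.Prelude.Def_W4bk4goldsch23FF
import Groth.Agent.Lib.Helper23.FF1
import Groth.Agent.Lib.Helper27.FunFld1

/-! Higher ramification groups at a place with separable residue field: the criterion through a
local parameter (S11027) and the structure of the quotients (S11024, S11025). -/

set_option autoImplicit false

namespace Groth.Agent.Lib.Helper23.Ram

open FunFld

universe u v
variable {k : Type u} {L : Type v} [Field k] [Field L] [Algebra k L]

theorem val_lt_one_iff_le (Q : Place k L) (y : L) : Q.1 y < 1 ↔ Q.1 y ≤ WithZero.exp (-1) := by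
  by_cases hy : y = 0
  · subst hy
    simp
  · rw [Groth.Agent.Lib.Helper27.FF.val_eq_exp_neg_ord Q hy, ← WithZero.exp_zero,
      WithZero.exp_lt_exp, WithZero.exp_le_exp]
    omega

instance (Q : Place k L) : IsScalarTower k Q.O L := IsScalarTower.of_algebraMap_eq fun _ => rfl

theorem coe_aeval (Q : Place k L) (z : Q.O) (m : Polynomial k) :
    ((Polynomial.aeval z m : Q.O) : L) = Polynomial.aeval (z : L) m := by
  have := Polynomial.aeval_algebraMap_apply (A := Q.O) L z m
  exact this.symm

theorem residue_aeval (Q : Place k L) (z : Q.O) (m : Polynomial k) :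
    IsLocalRing.residue Q.O (Polynomial.aeval z m) =
      Polynomial.aeval (IsLocalRing.residue Q.O z) m := by
  let f : Q.O →ₐ[k] IsLocalRing.ResidueField Q.O :=
    { toRingHom := IsLocalRing.residue Q.O
      commutes' := fun _ => rfl }
  exact (Polynomial.aeval_algHom_apply f z m).symm

variable (Q : Place k L) [Algebra.IsSeparable k (IsLocalRing.ResidueField Q.O)]

/-- One step of the induction: if `σ` acts trivially modulo `Q^j` and `σ t ≡ t` modulo `Q^(j+1)`
for a local parameter `t`, then `σ` acts trivially modulo `Q^(j+1)`. -/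
theorem ram_step (σ : L →ₐ[k] L) {t : L} (ht : Q.1 t = WithZero.exp (-1)) (j : ℕ) (hj : 1 ≤ j)
    (hσj : ∀ x, Q.1 x ≤ 1 → Q.1 (σ x - x) ≤ WithZero.exp (-(j : ℤ)))
    (ht' : Q.1 (σ t - t) ≤ WithZero.exp (-((j : ℤ) + 1))) :
    ∀ x, Q.1 x ≤ 1 → Q.1 (σ x - x) ≤ WithZero.exp (-((j : ℤ) + 1)) := by
  have ht0 : t ≠ 0 := by
    rintro rfl
    rw [map_zero] at ht
    exact WithZero.exp_ne_zero ht.symm
  have hσt : Q.1 (σ t) ≤ WithZero.exp (-1) := by
    have : σ t = t + (σ t - t) := by ring
    rw [this]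
    refine (Q.1.map_add _ _).trans (max_le ht.le (ht'.trans ?_))
    rw [WithZero.exp_le_exp]; omega
  -- Step A: elements of the maximal ideal
  have hA : ∀ y, Q.1 y ≤ WithZero.exp (-1) → Q.1 (σ y - y) ≤ WithZero.exp (-((j : ℤ) + 1)) := by
    intro y hy
    set u := y / t with hu
    have hu1 : Q.1 u ≤ 1 := by
      rw [hu, map_div₀, ht]
      rw [div_le_iff₀ (WithZero.exp_pos), one_mul]
      exact hy
    have hyu : y = t * u := by rw [hu]; field_simp
    have h1 : σ y - y = σ t * (σ u - u) + (σ t - t) * u := by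
      rw [hyu, map_mul]; ring
    rw [h1]
    refine (Q.1.map_add _ _).trans (max_le ?_ ?_)
    · rw [map_mul]
      calc Q.1 (σ t) * Q.1 (σ u - u) ≤ WithZero.exp (-1) * WithZero.exp (-(j : ℤ)) :=
            mul_le_mul' hσt (hσj u hu1)
        _ = WithZero.exp (-((j : ℤ) + 1)) := by rw [← WithZero.exp_add]; congr 1; ring
    · rw [map_mul]
      calc Q.1 (σ t - t) * Q.1 u ≤ WithZero.exp (-((j : ℤ) + 1)) * 1 := mul_le_mul' ht' hu1
        _ = _ := mul_one _
  intro x hx
  set h := σ x - x with hh
  have hhj : Q.1 h ≤ WithZero.exp (-(j : ℤ)) := hσj x hx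
  have hh1 : Q.1 h ≤ 1 := hhj.trans (by
    rw [← WithZero.exp_zero, WithZero.exp_le_exp]; omega)
  let xA : Q.O := ⟨x, (Valuation.mem_valuationSubring_iff Q.1 x).mpr hx⟩
  let hA' : Q.O := ⟨h, (Valuation.mem_valuationSubring_iff Q.1 h).mpr hh1⟩
  set xbar := IsLocalRing.residue Q.O xA with hxbar
  set m := minpoly k xbar with hm
  have hsep : m.Separable := Algebra.IsSeparable.isSeparable k xbar
  have hint : IsIntegral k xbar := Algebra.IsSeparable.isIntegral k xbar
  obtain ⟨c, hc⟩ := Polynomial.binomExpansion (m.map (algebraMap k Q.O)) xA hA'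
  rw [Polynomial.eval_map_algebraMap, Polynomial.eval_map_algebraMap,
    Polynomial.derivative_map, Polynomial.eval_map_algebraMap] at hc
  have hc' : ((Polynomial.aeval (xA + hA') m : Q.O) : L) =
      ((Polynomial.aeval xA m + Polynomial.aeval xA (Polynomial.derivative m) * hA' +
        c * hA' ^ 2 : Q.O) : L) := congrArg (fun z : Q.O => (z : L)) hc
  rw [coe_aeval] at hc'
  push_cast at hc'
  rw [coe_aeval, coe_aeval] at hc'
  have hxh : (xA : L) + (hA' : L) = σ x := by
    show x + h = σ x
    rw [hh]; ring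
  rw [hxh] at hc'
  have hxA : (xA : L) = x := rfl
  have hhA : (hA' : L) = h := rfl
  rw [hxA, hhA, Polynomial.aeval_algHom_apply] at hc'
  -- `y = m(x)` lies in the maximal ideal
  set y := Polynomial.aeval x m with hy
  have hy1 : Q.1 y ≤ WithZero.exp (-1) := by
    rw [← val_lt_one_iff_le, hy, ← hxA, ← coe_aeval, ← Groth.Agent.Lib.Helper23.FF.residue_eq_zero_iff,
      residue_aeval]
    exact minpoly.aeval k xbar
  have hAy := hA y hy1
  -- `m'(x)` is a unit
  have hunit : Q.1 (Polynomial.aeval x (Polynomial.derivative m)) = 1 := by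
    have h1 : IsLocalRing.residue Q.O (Polynomial.aeval xA (Polynomial.derivative m)) ≠ 0 := by
      rw [residue_aeval]
      exact hsep.aeval_derivative_ne_zero (minpoly.aeval k xbar)
    rw [Ne, Groth.Agent.Lib.Helper23.FF.residue_eq_zero_iff, coe_aeval, hxA, not_lt] at h1
    have h2 : Q.1 ((Polynomial.aeval xA (Polynomial.derivative m) : Q.O) : L) ≤ 1 :=
      (Valuation.mem_valuationSubring_iff Q.1 _).mp (Polynomial.aeval xA (Polynomial.derivative m)).2
    rw [coe_aeval, hxA] at h2
    exact le_antisymm h2 h1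
  have hcv : Q.1 (c : L) ≤ 1 := (Valuation.mem_valuationSubring_iff Q.1 _).mp c.2
  have hkey : Polynomial.aeval x (Polynomial.derivative m) * h = (σ y - y) - (c : L) * h ^ 2 := by
    rw [hc']; ring
  have hval : Q.1 (Polynomial.aeval x (Polynomial.derivative m) * h) ≤
      WithZero.exp (-((j : ℤ) + 1)) := by
    rw [hkey]
    refine (Valuation.map_sub _ _ _).trans (max_le hAy ?_)
    rw [map_mul, map_pow]
    calc Q.1 (c : L) * Q.1 h ^ 2 ≤ 1 * WithZero.exp (-(j : ℤ)) ^ 2 :=
          mul_le_mul' hcv (pow_le_pow_left' hhj 2)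
      _ = WithZero.exp (-(j : ℤ) + -(j : ℤ)) := by
          rw [one_mul, pow_two, ← WithZero.exp_add]
      _ ≤ WithZero.exp (-((j : ℤ) + 1)) := by
          rw [WithZero.exp_le_exp]; omega
  rw [map_mul, hunit, one_mul] at hval
  exact hval

/-- S11027: the criterion through a local parameter. -/
theorem ram_criterion (σ : L →ₐ[k] L)
    (hσ : ∀ x, Q.1 x ≤ 1 → Q.1 (σ x - x) ≤ WithZero.exp (-(1 : ℤ)))
    {t : L} (ht : Q.1 t = WithZero.exp (-1)) (j : ℕ) (hj : 1 ≤ j) :
    (∀ x, Q.1 x ≤ 1 → Q.1 (σ x - x) ≤ WithZero.exp (-(j : ℤ))) ↔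
      Q.1 (σ t - t) ≤ WithZero.exp (-(j : ℤ)) := by
  constructor
  · intro h
    apply h t
    rw [ht, ← WithZero.exp_zero, WithZero.exp_le_exp]
    norm_num
  · induction j, hj using Nat.le_induction with
    | base =>
      intro _
      simpa using hσ
    | succ j hj ih =>
      intro h
      have h1 : Q.1 (σ t - t) ≤ WithZero.exp (-(j : ℤ)) := h.trans (by
        rw [WithZero.exp_le_exp]; push_cast; omega)
      have h2 := ram_step Q σ ht j hj (ih h1) (by
        refine h.trans (le_of_eq ?_)
        congr 1)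
      intro x hx
      have := h2 x hx
      refine this.trans (le_of_eq ?_)
      congr 1

end Groth.Agent.Lib.Helper23.Ram
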