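import Mathlib
import Groth.Agent.Lib.Helper23.Ram1

/-! Higher ramification groups: group structure and additivity (S11024, S11025). -/

set_option autoImplicit false

namespace Groth.Agent.Lib.Helper23.Ram

open FunFld

universe u v w
variable {k : Type u} {K : Type w} {L : Type v} [Field k] [Field K] [Field L] [Algebra k L]
  [Algebra K L]

/-- `σ` lies in the `i`-th ramification group (lower numbering shifted by one: `i = 1` is the
inertia group) of the place `Q`. -/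
def InG (Q : Place k L) (σ : L ≃ₐ[K] L) (i : ℕ) : Prop :=
  ∀ x : L, Q.1 x ≤ 1 → Q.1 (σ x - x) ≤ WithZero.exp (-(i : ℤ))

variable (Q : Place k L)

theorem InG.mono {σ : L ≃ₐ[K] L} {i j : ℕ} (h : InG Q σ j) (hij : i ≤ j) : InG Q σ i := by
  intro x hx
  refine (h x hx).trans ?_
  rw [WithZero.exp_le_exp]; omega

theorem inG_one (i : ℕ) : InG Q (1 : L ≃ₐ[K] L) i := by
  intro x _
  simp

theorem exists_unif : ∃ t : L, Q.1 t = WithZero.exp (-1) := Q.2.2 _

theorem unif_ne_zero {t : L} (ht : Q.1 t = WithZero.exp (-1)) : t ≠ 0 := by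
  rintro rfl
  rw [map_zero] at ht
  exact WithZero.exp_ne_zero ht.symm

theorem InG.val_map_unif {σ : L ≃ₐ[K] L} {i : ℕ} (h : InG Q σ i) (hi : 1 ≤ i) {t : L}
    (ht : Q.1 t = WithZero.exp (-1)) : Q.1 (σ t) ≤ WithZero.exp (-1) := by
  have h1 : Q.1 (σ t - t) ≤ WithZero.exp (-(i : ℤ)) := h t (by
    rw [ht, ← WithZero.exp_zero, WithZero.exp_le_exp]; norm_num)
  have : σ t = t + (σ t - t) := by ring
  rw [this]
  refine (Q.1.map_add _ _).trans (max_le ht.le (h1.trans ?_))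
  rw [WithZero.exp_le_exp]; omega

/-- Elements of `Q^a` are moved by `σ ∈ G_i` by elements of `Q^(a+i-1)`. -/
theorem InG.val_sub_le {σ : L ≃ₐ[K] L} {i : ℕ} (h : InG Q σ i) (hi : 1 ≤ i) :
    ∀ (a : ℕ), 1 ≤ a → ∀ y : L, Q.1 y ≤ WithZero.exp (-(a : ℤ)) →
      Q.1 (σ y - y) ≤ WithZero.exp (-((a : ℤ) + i - 1)) := by
  obtain ⟨t, ht⟩ := exists_unif Q
  have ht0 := unif_ne_zero Q ht
  have hσt := h.val_map_unif Q hi ht
  have hσt' : Q.1 (σ t - t) ≤ WithZero.exp (-(i : ℤ)) := h t (by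
    rw [ht, ← WithZero.exp_zero, WithZero.exp_le_exp]; norm_num)
  have key : ∀ (y y' : L) (b c : ℤ), y = t * y' → Q.1 (σ y' - y') ≤ WithZero.exp (-b) →
      Q.1 y' ≤ WithZero.exp (-c) →
      Q.1 (σ y - y) ≤ max (WithZero.exp (-(1 + b))) (WithZero.exp (-((i : ℤ) + c))) := by
    intro y y' b c hy h1 h2
    have e : σ y - y = σ t * (σ y' - y') + (σ t - t) * y' := by
      rw [hy, map_mul]; ring
    rw [e]
    refine (Q.1.map_add _ _).trans (max_le_max ?_ ?_)
    · rw [map_mul]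
      calc Q.1 (σ t) * Q.1 (σ y' - y') ≤ WithZero.exp (-1) * WithZero.exp (-b) :=
            mul_le_mul' hσt h1
        _ = WithZero.exp (-(1 + b)) := by rw [← WithZero.exp_add]; congr 1; ring
    · rw [map_mul]
      calc Q.1 (σ t - t) * Q.1 y' ≤ WithZero.exp (-(i : ℤ)) * WithZero.exp (-c) :=
            mul_le_mul' hσt' h2
        _ = WithZero.exp (-((i : ℤ) + c)) := by rw [← WithZero.exp_add]; congr 1; ring
  have hdiv : ∀ (y : L) (c : ℤ), Q.1 y ≤ WithZero.exp (-(c + 1)) →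
      Q.1 (y / t) ≤ WithZero.exp (-c) := by
    intro y c hy
    rw [map_div₀, ht, div_le_iff₀ WithZero.exp_pos, ← WithZero.exp_add]
    refine hy.trans (le_of_eq ?_)
    congr 1
    ring
  intro a ha
  induction a, ha using Nat.le_induction with
  | base =>
    intro y hy
    have hy' : Q.1 (y / t) ≤ 1 := by
      have := hdiv y 0 (by simpa using hy)
      simpa using this
    have := key y (y / t) i 0 (by field_simp) (h _ hy') (by simpa using hy')
    refine this.trans (max_le ?_ ?_)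
    · rw [WithZero.exp_le_exp]; push_cast; omega
    · rw [WithZero.exp_le_exp]; push_cast; omega
  | succ a ha ih =>
    intro y hy
    have hy' : Q.1 (y / t) ≤ WithZero.exp (-(a : ℤ)) := hdiv y a (by
      refine hy.trans (le_of_eq ?_); congr 1)
    have := key y (y / t) ((a : ℤ) + i - 1) a (by field_simp) (ih _ hy') hy'
    refine this.trans (max_le ?_ ?_)
    · rw [WithZero.exp_le_exp]; push_cast; omega
    · rw [WithZero.exp_le_exp]; push_cast; omega

/-- `σ ∈ G_i` (`i ≥ 1`) preserves the powers of the maximal ideal. -/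
theorem InG.val_map_le {σ : L ≃ₐ[K] L} {i : ℕ} (h : InG Q σ i) (hi : 1 ≤ i) (a : ℕ) (y : L)
    (hy : Q.1 y ≤ WithZero.exp (-(a : ℤ))) : Q.1 (σ y) ≤ WithZero.exp (-(a : ℤ)) := by
  have e : σ y = y + (σ y - y) := by ring
  rw [e]
  refine (Q.1.map_add _ _).trans (max_le hy ?_)
  rcases Nat.eq_zero_or_pos a with h0 | hpos
  · subst h0
    refine (h y (by simpa using hy)).trans ?_
    rw [WithZero.exp_le_exp]; push_cast; omega
  · refine (h.val_sub_le Q hi a hpos y hy).trans ?_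
    rw [WithZero.exp_le_exp]; omega

theorem InG.mul {σ τ : L ≃ₐ[K] L} {i : ℕ} (hσ : InG Q σ i) (hτ : InG Q τ i) (hi : 1 ≤ i) :
    InG Q (σ * τ) i := by
  intro x hx
  have e : (σ * τ) x - x = σ (τ x - x) + (σ x - x) := by
    rw [AlgEquiv.mul_apply, map_sub]; ring
  rw [e]
  exact (Q.1.map_add _ _).trans (max_le (hσ.val_map_le Q hi i _ (hτ x hx)) (hσ x hx))

theorem InG.pow {σ : L ≃ₐ[K] L} {i : ℕ} (hσ : InG Q σ i) (hi : 1 ≤ i) (n : ℕ) :
    InG Q (σ ^ n) i := by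
  induction n with
  | zero => rw [pow_zero]; exact inG_one Q i
  | succ n ih => rw [pow_succ]; exact ih.mul Q hσ hi

theorem InG.inv [Finite (L ≃ₐ[K] L)] {σ : L ≃ₐ[K] L} {i : ℕ} (hσ : InG Q σ i) (hi : 1 ≤ i) :
    InG Q σ⁻¹ i := by
  have h1 : σ⁻¹ = σ ^ (orderOf σ - 1) := by
    have hpos : 0 < orderOf σ := orderOf_pos σ
    rw [inv_eq_iff_mul_eq_one, ← pow_succ', Nat.sub_add_cancel hpos, pow_orderOf_eq_one]
  rw [h1]
  exact hσ.pow Q hi _

/-- Additivity of `σ ↦ σ t - t` modulo `Q^(i+1)` on `G_i`, `i ≥ 2`. -/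
theorem InG.additive {σ τ : L ≃ₐ[K] L} {i : ℕ} (hσ : InG Q σ i) (hτ : InG Q τ i) (hi : 2 ≤ i)
    {t : L} (ht : Q.1 t = WithZero.exp (-1)) :
    Q.1 ((σ * τ) t - t - ((σ t - t) + (τ t - t))) ≤ WithZero.exp (-((i : ℤ) + 1)) := by
  have ht1 : Q.1 t ≤ 1 := by
    rw [ht, ← WithZero.exp_zero, WithZero.exp_le_exp]; norm_num
  have hb : Q.1 (τ t - t) ≤ WithZero.exp (-(i : ℤ)) := hτ t ht1
  have e : (σ * τ) t - t - ((σ t - t) + (τ t - t)) = σ (τ t - t) - (τ t - t) := by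
    rw [AlgEquiv.mul_apply, map_sub]; ring
  rw [e]
  refine (hσ.val_sub_le Q (by omega) i (by omega) _ hb).trans ?_
  rw [WithZero.exp_le_exp]; omega

end Groth.Agent.Lib.Helper23.Ram
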