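import Mathlib
import Groth.Agent.Lib.Helper23.Ram2

/-! Higher ramification groups: the quotients `G_i/G_(i+1)`, `i ≥ 2` (S11025). -/

set_option autoImplicit false

namespace Groth.Agent.Lib.Helper23.Ram

open FunFld

universe u v w
variable {k : Type u} {K : Type w} {L : Type v} [Field k] [Field K] [Field L] [Algebra k L]
  [Algebra K L] [Algebra k K] [IsScalarTower k K L]

variable (Q : Place k L) [Algebra.IsSeparable k (IsLocalRing.ResidueField Q.O)]

/-- The criterion for automorphisms. -/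
theorem inG_iff {σ : L ≃ₐ[K] L} (hσ : InG Q σ 1) {t : L} (ht : Q.1 t = WithZero.exp (-1))
    (j : ℕ) (hj : 1 ≤ j) : InG Q σ j ↔ Q.1 (σ t - t) ≤ WithZero.exp (-(j : ℤ)) :=
  ram_criterion Q (σ.toAlgHom.restrictScalars k) (by simpa [InG] using hσ) ht j hj

theorem val_pow_sub {σ : L ≃ₐ[K] L} {i : ℕ} (hσ : InG Q σ i) (hi : 2 ≤ i) {t : L}
    (ht : Q.1 t = WithZero.exp (-1)) (n : ℕ) :
    Q.1 ((σ ^ n) t - t - (n : L) * (σ t - t)) ≤ WithZero.exp (-((i : ℤ) + 1)) := by
  induction n with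
  | zero => simp
  | succ n ih =>
    have h1 := hσ.additive Q (hσ.pow Q (by omega) n) hi ht
    have e : (σ ^ (n + 1)) t - t - ((n + 1 : ℕ) : L) * (σ t - t) =
        ((σ * σ ^ n) t - t - ((σ t - t) + ((σ ^ n) t - t))) +
          ((σ ^ n) t - t - (n : L) * (σ t - t)) := by
      rw [pow_succ']; push_cast; ring
    rw [e]
    exact (Q.1.map_add _ _).trans (max_le h1 ih)

/-- S11025. -/
theorem quotient_structure [Finite (L ≃ₐ[K] L)] (i : ℕ) (hi : 2 ≤ i) (σ τ : L ≃ₐ[K] L)
    (hσ : InG Q σ i) (hτ : InG Q τ i) :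
    InG Q (σ * τ * σ⁻¹ * τ⁻¹) (i + 1) ∧ (ringChar K = 0 → InG Q σ (i + 1)) ∧
      ∀ p : ℕ, p.Prime → ringChar K = p → InG Q (σ ^ p) (i + 1) := by
  obtain ⟨t, ht⟩ := exists_unif Q
  have hi1 : 1 ≤ i := by omega
  refine ⟨?_, ?_, ?_⟩
  · set ρ := σ * τ * σ⁻¹ * τ⁻¹ with hρ
    have hρi : InG Q ρ i :=
      ((hσ.mul Q hτ hi1).mul Q (hσ.inv Q hi1) hi1).mul Q (hτ.inv Q hi1) hi1
    rw [inG_iff Q (hρi.mono Q hi1) ht (i + 1) (by omega)]
    have hid : ρ * (τ * σ) = σ * τ := by rw [hρ]; group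
    have A1 := hρi.additive Q (hτ.mul Q hσ hi1) hi ht
    have A2 := hτ.additive Q hσ hi ht
    have A3 := hσ.additive Q hτ hi ht
    rw [hid] at A1
    have e : ρ t - t = ((σ * τ) t - t - ((σ t - t) + (τ t - t))) -
        ((σ * τ) t - t - ((ρ t - t) + ((τ * σ) t - t))) -
        ((τ * σ) t - t - ((τ t - t) + (σ t - t))) := by ring
    rw [e]
    push_cast
    exact (Valuation.map_sub _ _ _).trans (max_le ((Valuation.map_sub _ _ _).trans
      (max_le A3 A1)) A2)
  · intro h0
    rw [inG_iff Q (hσ.mono Q hi1) ht (i + 1) (by omega)]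
    set N := orderOf σ with hN
    have hNpos : 0 < N := orderOf_pos σ
    have h1 := val_pow_sub Q hσ hi ht N
    rw [hN, pow_orderOf_eq_one, AlgEquiv.one_apply, sub_self, zero_sub, Valuation.map_neg,
      map_mul] at h1
    haveI : CharP K 0 := by rw [← h0]; exact ringChar.charP K
    have hNk : (N : k) ≠ 0 := by
      intro hz
      have h2 : algebraMap k K (N : k) = 0 := by rw [hz, map_zero]
      have h3 : (N : K) = 0 := by
        rw [← h2, map_natCast]
      rw [CharP.cast_eq_zero_iff K 0] at h3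
      have := Nat.eq_zero_of_zero_dvd h3
      omega
    have hNL : Q.1 ((orderOf σ : ℕ) : L) = 1 := by
      have h2 : ((N : ℕ) : L) = algebraMap k L (N : k) := by rw [map_natCast]
      rw [← hN, h2]
      exact Groth.Agent.Lib.Helper27.FF.val_const Q hNk
    rw [hNL, one_mul] at h1
    push_cast
    exact h1
  · intro p hp hchar
    have hσp : InG Q (σ ^ p) i := hσ.pow Q hi1 p
    rw [inG_iff Q (hσp.mono Q hi1) ht (i + 1) (by omega)]
    have h1 := val_pow_sub Q hσ hi ht p
    haveI : CharP K p := by rw [← hchar]; exact ringChar.charP K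
    have hpL : ((p : ℕ) : L) = 0 := by
      have h2 : ((p : ℕ) : L) = algebraMap K L (p : K) := by rw [map_natCast]
      rw [h2, CharP.cast_eq_zero K p, map_zero]
    rw [hpL, zero_mul, sub_zero] at h1
    push_cast
    exact h1

end Groth.Agent.Lib.Helper23.Ram
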