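import Mathlib
import Groth.Agent.Lib.Helper23.Ram3
import Groth.Agent.Lib.Helper27.HD14

/-! Higher ramification groups: `G₁/G₂` is cyclic (S11024). -/

set_option autoImplicit false

namespace Groth.Agent.Lib.Helper23.Ram

open FunFld
open Groth.Agent.Lib.Helper27.HD

universe u v w
variable {k : Type u} {K : Type w} {L : Type v} [Field k] [Field K] [Field L] [Algebra k L]
  [Algebra K L] [Algebra k K] [IsScalarTower k K L]

variable (Q : Place k L)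

/-- The inertia group as a subgroup. -/
def G1 [Finite (L ≃ₐ[K] L)] : Subgroup (L ≃ₐ[K] L) where
  carrier := {σ | InG Q σ 1}
  mul_mem' := fun ha hb => InG.mul Q ha hb le_rfl
  one_mem' := inG_one Q 1
  inv_mem' := fun ha => InG.inv Q ha le_rfl

variable [Finite (L ≃ₐ[K] L)]

theorem val_map_unif_eq {σ : L ≃ₐ[K] L} (hσ : InG Q σ 1) {t : L} (ht : Q.1 t = WithZero.exp (-1)) :
    Q.1 (σ t) = WithZero.exp (-1) := by
  apply le_antisymm (hσ.val_map_unif Q le_rfl ht)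
  by_contra hlt
  rw [not_le] at hlt
  have hσt0 : σ t ≠ 0 := by
    rw [Ne, map_eq_zero_iff σ σ.injective]
    exact unif_ne_zero Q ht
  rw [Groth.Agent.Lib.Helper27.FF.val_eq_exp_neg_ord Q hσt0, WithZero.exp_lt_exp] at hlt
  have h2 : Q.1 (σ t) ≤ WithZero.exp (-((2 : ℕ) : ℤ)) := by
    rw [Groth.Agent.Lib.Helper27.FF.val_eq_exp_neg_ord Q hσt0, WithZero.exp_le_exp]
    push_cast; omega
  have h3 := (hσ.inv Q le_rfl).val_map_le Q le_rfl 2 (σ t) h2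
  have h4 : σ⁻¹ (σ t) = t := by
    rw [← AlgEquiv.mul_apply, inv_mul_cancel, AlgEquiv.one_apply]
  rw [h4, ht, WithZero.exp_le_exp] at h3
  norm_num at h3

theorem val_div_unif {σ : L ≃ₐ[K] L} (hσ : InG Q σ 1) {t : L} (ht : Q.1 t = WithZero.exp (-1)) :
    Q.1 (σ t / t) = 1 := by
  rw [map_div₀, val_map_unif_eq Q hσ ht, ht, div_self WithZero.exp_ne_zero]

theorem evalP_map_eq {σ : L ≃ₐ[K] L} (hσ : InG Q σ 1) {u : L} (hu : Q.1 u ≤ 1) :
    evalP Q (σ u) = evalP Q u := by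
  have h1 : Q.1 (σ u - u) < 1 := by
    rw [val_lt_one_iff_le]
    exact hσ u hu
  have e : σ u = u + (σ u - u) := by ring
  rw [e, evalP_add Q hu h1.le, (evalP_eq_zero_iff Q h1.le).mpr h1, add_zero]

/-- The homomorphism `σ ↦ σ t / t mod Q` on the inertia group. -/
noncomputable def theta {t : L} (ht : Q.1 t = WithZero.exp (-1)) :
    (G1 (K := K) Q) →* IsLocalRing.ResidueField Q.O where
  toFun σ := evalP Q ((σ : L ≃ₐ[K] L) t / t)
  map_one' := by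
    show evalP Q ((1 : L ≃ₐ[K] L) t / t) = 1
    rw [AlgEquiv.one_apply, div_self (unif_ne_zero Q ht)]
    exact evalP_one' Q
  map_mul' := by
    intro σ τ
    show evalP Q (((σ : L ≃ₐ[K] L) * (τ : L ≃ₐ[K] L)) t / t) =
      evalP Q ((σ : L ≃ₐ[K] L) t / t) * evalP Q ((τ : L ≃ₐ[K] L) t / t)
    have ht0 := unif_ne_zero Q ht
    have e : ((σ : L ≃ₐ[K] L) * (τ : L ≃ₐ[K] L)) t / t =
        (σ : L ≃ₐ[K] L) ((τ : L ≃ₐ[K] L) t / t) * ((σ : L ≃ₐ[K] L) t / t) := by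
      rw [AlgEquiv.mul_apply, map_div₀]
      have : (σ : L ≃ₐ[K] L) t ≠ 0 := by
        rw [Ne, map_eq_zero_iff _ (σ : L ≃ₐ[K] L).injective]; exact ht0
      field_simp
    have hτu : Q.1 ((τ : L ≃ₐ[K] L) t / t) ≤ 1 := (val_div_unif Q τ.2 ht).le
    have hσu : Q.1 ((σ : L ≃ₐ[K] L) t / t) ≤ 1 := (val_div_unif Q σ.2 ht).le
    have hστu : Q.1 ((σ : L ≃ₐ[K] L) ((τ : L ≃ₐ[K] L) t / t)) ≤ 1 := by
      have h0 : Q.1 ((τ : L ≃ₐ[K] L) t / t) ≤ WithZero.exp (-((0 : ℕ) : ℤ)) := by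
        rw [Nat.cast_zero, neg_zero, WithZero.exp_zero]; exact hτu
      have := σ.2.val_map_le Q le_rfl 0 _ h0
      rwa [Nat.cast_zero, neg_zero, WithZero.exp_zero] at this
    rw [e, evalP_mul Q hστu hσu, evalP_map_eq Q σ.2 hτu, mul_comm]

variable [Algebra.IsSeparable k (IsLocalRing.ResidueField Q.O)]

theorem theta_eq_one_iff {t : L} (ht : Q.1 t = WithZero.exp (-1)) (σ : G1 (K := K) Q) :
    theta Q ht σ = 1 ↔ InG Q (σ : L ≃ₐ[K] L) 2 := by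
  have ht0 := unif_ne_zero Q ht
  rw [inG_iff Q σ.2 ht 2 (by norm_num)]
  show evalP Q ((σ : L ≃ₐ[K] L) t / t) = 1 ↔ _
  have hu : Q.1 ((σ : L ≃ₐ[K] L) t / t) ≤ 1 := (val_div_unif Q σ.2 ht).le
  have h1 : evalP Q ((σ : L ≃ₐ[K] L) t / t) = 1 ↔ Q.1 ((σ : L ≃ₐ[K] L) t / t - 1) < 1 := by
    have hsub : Q.1 ((σ : L ≃ₐ[K] L) t / t - 1) ≤ 1 :=
      (Valuation.map_sub _ _ _).trans (max_le hu (by rw [map_one]))
    rw [← evalP_eq_zero_iff Q hsub]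
    have e : (σ : L ≃ₐ[K] L) t / t = ((σ : L ≃ₐ[K] L) t / t - 1) + 1 := by ring
    constructor
    · intro h
      rw [e, evalP_add Q hsub (by rw [map_one]), evalP_one'] at h
      exact add_eq_right.mp h
    · intro h
      rw [e, evalP_add Q hsub (by rw [map_one]), evalP_one', h, zero_add]
  rw [h1, val_lt_one_iff_le]
  have e2 : (σ : L ≃ₐ[K] L) t / t - 1 = ((σ : L ≃ₐ[K] L) t - t) / t := by field_simp
  rw [e2, map_div₀, ht, div_le_iff₀ WithZero.exp_pos, ← WithZero.exp_add]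
  norm_num

/-- S11024. -/
theorem cyclic_quotient :
    ∃ σ₀ : L ≃ₐ[K] L, InG Q σ₀ 1 ∧ ∀ σ : L ≃ₐ[K] L, InG Q σ 1 →
      ∃ n : ℕ, InG Q ((σ₀ ^ n)⁻¹ * σ) 2 := by
  obtain ⟨t, ht⟩ := exists_unif Q
  let Θ := (theta (K := K) Q ht).toHomUnits
  haveI : Finite Θ.range := Finite.of_surjective Θ.rangeRestrict Θ.rangeRestrict_surjective
  obtain ⟨g, hg⟩ := IsCyclic.exists_monoid_generator (α := Θ.range)
  obtain ⟨σ₀, hσ₀⟩ := g.2
  refine ⟨σ₀, σ₀.2, fun σ hσ => ?_⟩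
  obtain ⟨n, hn⟩ := hg ⟨Θ ⟨σ, hσ⟩, ⟨⟨σ, hσ⟩, rfl⟩⟩
  refine ⟨n, ?_⟩
  have h1 : (Θ σ₀) ^ n = Θ ⟨σ, hσ⟩ := by
    have := congrArg Subtype.val hn
    simp only [SubmonoidClass.coe_pow] at this
    rw [← hσ₀] at this
    exact this
  have h2 : Θ ((σ₀ ^ n)⁻¹ * ⟨σ, hσ⟩) = 1 := by
    rw [map_mul, map_inv, map_pow, h1, inv_mul_cancel]
  have h3 : theta Q ht ((σ₀ ^ n)⁻¹ * ⟨σ, hσ⟩) = 1 := by
    have := congrArg Units.val h2
    rwa [MonoidHom.coe_toHomUnits, Units.val_one] at this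
  exact (theta_eq_one_iff Q ht _).mp h3

end Groth.Agent.Lib.Helper23.Ram
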