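import Groth.Agent.Lib.Helper23.GenDiv

/-!
# RatDiv: twisting down by rational points on a proper integral curve over any field
-/
set_option autoImplicit false
set_option linter.style.haveILetI false
universe u
open CategoryTheory CategoryTheory.Limits Opposite TopologicalSpace AlgebraicGeometry
open Scheme.Modules
open Groth.Agent.Lib.Helper3 Groth.Agent.Lib.Helper3.QCSec Groth.Agent.Lib.Helper3.InvGen
open Groth.Agent.Lib.Helper23.T2

noncomputable section

namespace Groth.Agent.Lib.Helper23.RatDiv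

open Groth.Agent.Lib.Helper23.Curve Groth.Agent.Lib.Helper23.EffCart
  Groth.Agent.Lib.Helper23.DegTensor Groth.Agent.Lib.Helper23.Inverse
  Groth.Agent.Lib.Helper7.PtDiv Groth.Agent.Lib.Helper7.CurvePair
  Groth.Agent.Lib.Helper3.InvMonoidal Groth.Agent.Lib.Helper23.TwE Groth.Agent.Lib.Helper7.TwFun

variable (k : Type u) [Field k] (X : Scheme.{u}) [X.Over (Spec (CommRingCat.of k))]
  [IsProper (X ↘ Spec (CommRingCat.of k))] [IsIntegral X]

/-- the image point of a rational section: it is closed and the kernel of the section is its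
reduced ideal -/
theorem section_point (σ : Spec (CommRingCat.of k) ⟶ X)
    (hσ : σ ≫ (X ↘ Spec (CommRingCat.of k)) = 𝟙 _) :
    ∃ (P : X) (hP : IsClosed ({P} : Set X)),
      σ.ker = Scheme.IdealSheafData.vanishingIdeal ⟨{P}, hP⟩ ∧ ∀ t, σ t = P := by
  haveI : IsClosedImmersion σ := by
    haveI : IsClosedImmersion (σ ≫ (X ↘ Spec (CommRingCat.of k))) := by rw [hσ]; infer_instance
    exact IsClosedImmersion.of_comp σ (X ↘ Spec (CommRingCat.of k))
  have hr : Set.range σ = {σ default} := by
    ext z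
    constructor
    · rintro ⟨a, rfl⟩
      rw [Subsingleton.elim a default]
      rfl
    · intro hz
      exact ⟨default, (Set.mem_singleton_iff.mp hz).symm⟩
  have hP : IsClosed ({σ default} : Set X) := by
    rw [← hr]
    exact σ.isClosedEmbedding.isClosed_range
  refine ⟨σ default, hP, ker_eq_vanishingIdeal_of_range σ _ hP hr, fun t => ?_⟩
  rw [Subsingleton.elim t default]

/-- twisting down by a closed normal rational point: invertible of degree one less -/
theorem twist_point (hdim : topologicalKrullDim X = 1)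
    (h0 : Module.finrank k (Coh.HH X (Coh.structureModule X) 0) = 1)
    (x : X) (hx : IsClosed ({x} : Set X))
    (hn : IsIntegrallyClosed (X.presheaf.stalk x))
    (hrat : Module.finrank k (Coh.HH X
      (ClSub.quotMod (Scheme.IdealSheafData.vanishingIdeal ⟨{x}, hx⟩)) 0) = 1)
    {L : X.Modules} (hL : PicF.IsInvertible L) :
    PicF.IsInvertible (CohB1.tensorMod (ClSub.idealMod
        (Scheme.IdealSheafData.vanishingIdeal ⟨{x}, hx⟩)) L) ∧
      Curv2.deg k X (CohB1.tensorMod (ClSub.idealMod
        (Scheme.IdealSheafData.vanishingIdeal ⟨{x}, hx⟩)) L) 1 = Curv2.deg k X L 1 - 1 := by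
  have hI := (Groth.Agent.Lib.Helper23.PtDiv.isInvertible_and_deg_idealMod_point k X hdim x hx hn).1
  refine ⟨InvTensor.isInvertible_tensorMod hI hL, ?_⟩
  let Zc : Closeds X := ⟨{x}, hx⟩
  have hsupp : ((Scheme.IdealSheafData.vanishingIdeal Zc).support : Set X) = {x} :=
    Scheme.IdealSheafData.coe_support_vanishingIdeal Zc
  have hZ : topologicalKrullDim ((Scheme.IdealSheafData.vanishingIdeal Zc).support : Set X) ≤ 0 := by
    rw [hsupp]
    exact topologicalKrullDim_singleton_le_zero x
  have hχ := euler_ideal_tensor k hdim.le h0 hL (Scheme.IdealSheafData.vanishingIdeal Zc) hZ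
  have hO := euler_structureModule k hdim.le h0
  unfold Curv2.deg at hχ ⊢
  rw [hχ, hrat, hO]
  push_cast
  ring

/-- if some global section of `L` generates at the closed point `P`, then
`h⁰(I_P ⊗ L) < h⁰(L)` -/
theorem h0_ideal_tensor_lt {L : X.Modules} (hL : PicF.IsInvertible L)
    (P : X) (hP : IsClosed ({P} : Set X)) (m : Γ(L, ⊤))
    (hm : P ∈ CohB1.genLocus L (InvAmple.globalHom L m)) :
    Module.finrank k (Coh.HH X (CohB1.tensorMod (ClSub.idealMod
      (Scheme.IdealSheafData.vanishingIdeal ⟨{P}, hP⟩)) L) 0) <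
      Module.finrank k (Coh.HH X L 0) := by
  haveI := isNoetherian_of_isProper k X
  have hE := isFinLocFreeOfRank_one_of_isInvertible hL
  let Zc : Closeds X := ⟨{P}, hP⟩
  let Z : X.IdealSheafData := Scheme.IdealSheafData.vanishingIdeal Zc
  have hsupp : (Z.support : Set X) = {P} := Scheme.IdealSheafData.coe_support_vanishingIdeal Zc
  have hPZ : P ∈ Z.support := by
    show P ∈ (Z.support : Set X)
    rw [hsupp]; rfl
  let j1 : CohB1.tensorMod (ClSub.idealMod Z) L ⟶ CohB1.tensorMod (Coh.structureModule X) L :=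
    (twR L).map (ClSub.idealModι Z)
  haveI : Mono j1 := mono_twE hE _
  haveI : Mono (jmap Z L) := by
    show Mono (j1 ≫ (unitorL L).hom)
    exact mono_comp _ _
  have hinj := HmapL_injective_of_mono k (jmap Z L)
  have hMcoh : Coh.IsCoh (CohB1.tensorMod (ClSub.idealMod Z) L) :=
    isCoh_tensor X (isCoh_idealMod k Z) (isCoh_of_isInvertible hL)
  haveI : Module.Finite k (Coh.HH X (CohB1.tensorMod (ClSub.idealMod Z) L) 0) :=
    finite_HH k _ hMcoh 0
  haveI : Module.Finite k (Coh.HH X L 0) := finite_HH k _ (isCoh_of_isInvertible hL) 0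
  have hne : LinearMap.range (Groth.Agent.Lib.Helper7.CohFinite.HmapL k (jmap Z L) 0) ≠ ⊤ := by
    intro htop
    obtain ⟨n, hn⟩ := exists_section_of_mem_range_HmapL k (jmap Z L) m
      (by rw [htop]; exact Submodule.mem_top)
    have h1 := notMem_genLocus_jmap Z P hPZ hL n
    rw [hn] at h1
    exact h1 hm
  have hlt := Submodule.finrank_lt hne
  rw [LinearMap.finrank_range_of_inj hinj] at hlt
  exact hlt

/-- at a rational closed point where some section generates, `h⁰` drops by exactly one -/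
theorem h0_ideal_tensor_add_one {L : X.Modules} (hL : PicF.IsInvertible L)
    (P : X) (hP : IsClosed ({P} : Set X))
    (hrat : Module.finrank k (Coh.HH X
      (ClSub.quotMod (Scheme.IdealSheafData.vanishingIdeal ⟨{P}, hP⟩)) 0) = 1) (m : Γ(L, ⊤))
    (hm : P ∈ CohB1.genLocus L (InvAmple.globalHom L m)) :
    Module.finrank k (Coh.HH X (CohB1.tensorMod (ClSub.idealMod
      (Scheme.IdealSheafData.vanishingIdeal ⟨{P}, hP⟩)) L) 0) + 1 =
      Module.finrank k (Coh.HH X L 0) := by
  have hlt := h0_ideal_tensor_lt k X hL P hP m hm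
  let Zc : Closeds X := ⟨{P}, hP⟩
  have hsupp : ((Scheme.IdealSheafData.vanishingIdeal Zc).support : Set X) = {P} :=
    Scheme.IdealSheafData.coe_support_vanishingIdeal Zc
  have hle := h0_le_h0_ideal_tensor_add' k hL (Scheme.IdealSheafData.vanishingIdeal Zc)
    (by rw [hsupp]; exact Set.finite_singleton P)
    (by
      intro z hz
      rw [hsupp] at hz
      rw [Set.mem_singleton_iff.mp hz]
      exact hP)
  change Module.finrank k (Coh.HH X L 0) ≤
    Module.finrank k (Coh.HH X (CohB1.tensorMod (ClSub.idealMod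
      (Scheme.IdealSheafData.vanishingIdeal ⟨{P}, hP⟩)) L) 0) +
    Module.finrank k (Coh.HH X
      (ClSub.quotMod (Scheme.IdealSheafData.vanishingIdeal ⟨{P}, hP⟩)) 0) at hle
  rw [hrat] at hle
  omega

/-- step down at a non base point taken in a set `S` of closed normal rational points meeting every
nonempty open: `H¹ = 0` is kept -/
theorem step_h1 (hdim : topologicalKrullDim X = 1)
    (h0 : Module.finrank k (Coh.HH X (Coh.structureModule X) 0) = 1) (S : Set X)
    (hS : ∀ U : X.Opens, (U : Set X).Nonempty → ∃ x ∈ S, x ∈ U)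
    (hSc : ∀ x ∈ S, ∃ hx : IsClosed ({x} : Set X), IsIntegrallyClosed (X.presheaf.stalk x) ∧
      Module.finrank k (Coh.HH X
        (ClSub.quotMod (Scheme.IdealSheafData.vanishingIdeal ⟨{x}, hx⟩)) 0) = 1)
    {M : X.Modules} (hM : PicF.IsInvertible M) (h1 : Subsingleton (Coh.HH X M 1))
    (hd : (Curv2.genus k X : ℤ) ≤ Curv2.deg k X M 1) :
    ∃ x ∈ S, ∃ hx : IsClosed ({x} : Set X),
      PicF.IsInvertible (CohB1.tensorMod (ClSub.idealMod
        (Scheme.IdealSheafData.vanishingIdeal ⟨{x}, hx⟩)) M) ∧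
      Curv2.deg k X (CohB1.tensorMod (ClSub.idealMod
        (Scheme.IdealSheafData.vanishingIdeal ⟨{x}, hx⟩)) M) 1 = Curv2.deg k X M 1 - 1 ∧
      Subsingleton (Coh.HH X (CohB1.tensorMod (ClSub.idealMod
        (Scheme.IdealSheafData.vanishingIdeal ⟨{x}, hx⟩)) M) 1) := by
  haveI := isNoetherian_of_isProper k X
  have hrr := riemann_roch k hdim.le h0 hM
  have e1 : Module.finrank k (Coh.HH X M 1) = 0 := Module.finrank_zero_of_subsingleton
  rw [e1] at hrr
  push_cast at hrr
  haveI : Module.Finite k (Coh.HH X M 0) := finite_HH k M (isCoh_of_isInvertible hM) 0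
  have hpos : 0 < Module.finrank k (Coh.HH X M 0) := by
    have : (0 : ℤ) < (Module.finrank k (Coh.HH X M 0) : ℤ) := by linarith
    exact_mod_cast this
  have hnt : Nontrivial (Coh.HH X M 0) := Module.nontrivial_of_finrank_pos (R := k) hpos
  obtain ⟨s, hs⟩ := exists_section_of_nontrivial M hnt
  obtain ⟨y, hy⟩ := Groth.Agent.Lib.Helper23.AmpleCurve.exists_mem_genLocus hM s hs
  obtain ⟨x, hxS, hxU⟩ := hS (CohB1.genLocus M s) ⟨y, hy⟩
  obtain ⟨hx, hn, hrat⟩ := hSc x hxS
  have hs' : InvAmple.globalHom M (sec s ⊤) = s :=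
    hom_ext_sec _ _ (sec_globalHom_top M _)
  obtain ⟨hI, hdeg⟩ := twist_point k X hdim h0 x hx hn hrat hM
  refine ⟨x, hxS, hx, hI, hdeg, ?_⟩
  have hadd := h0_ideal_tensor_add_one k X hM x hx hrat (sec s ⊤) (by rw [hs']; exact hxU)
  have hrr' := riemann_roch k hdim.le h0 hI
  rw [hdeg] at hrr'
  haveI : Module.Finite k (Coh.HH X (CohB1.tensorMod (ClSub.idealMod
      (Scheme.IdealSheafData.vanishingIdeal ⟨{x}, hx⟩)) M) 1) :=
    finite_HH k _ (isCoh_of_isInvertible hI) 1
  have hadd' : (Module.finrank k (Coh.HH X (CohB1.tensorMod (ClSub.idealMod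
      (Scheme.IdealSheafData.vanishingIdeal ⟨{x}, hx⟩)) M) 0) : ℤ) + 1 =
      (Module.finrank k (Coh.HH X M 0) : ℤ) := by exact_mod_cast hadd
  have hz : Module.finrank k (Coh.HH X (CohB1.tensorMod (ClSub.idealMod
      (Scheme.IdealSheafData.vanishingIdeal ⟨{x}, hx⟩)) M) 1) = 0 := by
    have : (Module.finrank k (Coh.HH X (CohB1.tensorMod (ClSub.idealMod
      (Scheme.IdealSheafData.vanishingIdeal ⟨{x}, hx⟩)) M) 1) : ℤ) = 0 := by linarith
    exact_mod_cast this
  exact Module.finrank_zero_iff.mp hz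

end Groth.Agent.Lib.Helper23.RatDiv
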