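import Groth.Agent.Lib.Helper23.RedDeltaA
import Groth.Agent.Lib.Helper14.NormalRing

/-!
# RedDeltaB: the δ-invariant of a localization through a birational normal overring (reduced case)
-/
set_option autoImplicit false
universe u

noncomputable section

namespace Groth.Agent.Lib.Helper23.RedDelta

/-- **Lemma B.** If `B` is a birational integral normal overring of `R` and `g : B → N` is a
localization of `B` at the prime `p` of `R`, then the quotient of `N` by the `R_p`-span of the
image of `R` has length `δ(R_p)`. -/
theorem length_quotient_eq_deltaInv {R : Type u} [CommRing R] (p : Ideal R) [p.IsPrime]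
    (A : Type u) [CommRing A] [Algebra R A] [IsLocalization.AtPrime A p]
    (B : Type u) [CommRing B] [Algebra R B] (s : R)
    (hs : s ∈ nonZeroDivisors R) (hsB : algebraMap R B s ∈ nonZeroDivisors B)
    (hinj : Function.Injective (algebraMap R B))
    (hbir : ∀ b : B, ∃ (n : ℕ) (r : R), algebraMap R B (s ^ n) * b = algebraMap R B r)
    [Algebra.IsIntegral R B] (hB : EGA4.IsNormalRing B)
    {N : Type u} [AddCommGroup N] [Module R N] [Module A N] [IsScalarTower R A N]
    (g : B →ₗ[R] N) (hg : IsLocalizedModule p.primeCompl g) (N₀ : Submodule A N)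
    (hN₀ : N₀ = Submodule.span A (Set.range fun r : R => g (algebraMap R B r))) :
    Module.length A (N ⧸ N₀) = Curv2.deltaInv A := by
  classical
  haveI := hg
  let C := Localization (Algebra.algebraMapSubmonoid B p.primeCompl)
  letI algAC : Algebra A C := localizationAlgebra p.primeCompl B
  haveI towerRAC : IsScalarTower R A C := isScalarTower_localizationAlgebra _ _
  have hRC : ∀ r : R, algebraMap A C (algebraMap R A r) = algebraMap B C (algebraMap R B r) := by
    intro r
    rw [← IsScalarTower.algebraMap_apply R A C, ← IsScalarTower.algebraMap_apply R B C]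
  -- hypotheses of Lemma A
  have hs' : algebraMap R A s ∈ nonZeroDivisors A :=
    IsLocalization.map_nonZeroDivisors_le p.primeCompl A ⟨s, hs, rfl⟩
  have hsC : algebraMap A C (algebraMap R A s) ∈ nonZeroDivisors C := by
    rw [hRC]
    exact IsLocalization.map_nonZeroDivisors_le (Algebra.algebraMapSubmonoid B p.primeCompl) C
      ⟨_, hsB, rfl⟩
  have hinj' : Function.Injective (algebraMap A C) :=
    localizationAlgebra_injective (M := p.primeCompl) (S := B) A C hinj
  have hbir' : ∀ c : C, ∃ (n : ℕ) (a : A),
      algebraMap A C ((algebraMap R A s) ^ n) * c = algebraMap A C a := by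
    intro c
    obtain ⟨b, ⟨_, y, hy, rfl⟩, rfl⟩ := IsLocalization.exists_mk'_eq
      (Algebra.algebraMapSubmonoid B p.primeCompl) c
    obtain ⟨n, r, hnr⟩ := hbir b
    refine ⟨n, IsLocalization.mk' A r (⟨y, hy⟩ : p.primeCompl), ?_⟩
    have hyu : IsUnit (algebraMap A C (algebraMap R A y)) :=
      (IsLocalization.map_units A (⟨y, hy⟩ : p.primeCompl)).map _
    apply hyu.mul_left_injective
    simp only
    rw [← map_mul (algebraMap A C), IsLocalization.mk'_spec, ← map_pow, hRC, hRC, hRC, mul_assoc,
      IsLocalization.mk'_spec, ← map_mul, hnr]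
  haveI hint : Algebra.IsIntegral A C := by
    rw [← algebraMap_isIntegral_iff]
    exact isIntegral_localization (M := p.primeCompl) (R := R) (S := B) (Rₘ := A) (Sₘ := C)
  have hCn : EGA4.IsNormalRing C :=
    Groth.Agent.Lib.Helper14.isNormalRing_of_isLocalization
      (Algebra.algebraMapSubmonoid B p.primeCompl) C hB
  rw [deltaInv_eq_length_of_normal (algebraMap R A s) hs' hsC hinj' hbir' hCn]
  -- `N ≃ C`
  let f' : B →ₗ[R] C := (IsScalarTower.toAlgHom R B C).toLinearMap
  haveI hloc : IsLocalizedModule p.primeCompl f' :=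
    (isLocalizedModule_iff_isLocalization (S := p.primeCompl) (A := B) (Aₛ := C)).2 inferInstance
  let e₀ : N ≃ₗ[R] C := IsLocalizedModule.linearEquiv p.primeCompl g f'
  let e : N ≃ₗ[A] C := LinearEquiv.extendScalarsOfIsLocalization p.primeCompl A e₀
  have he : ∀ b : B, e (g b) = algebraMap B C b := fun b =>
    IsLocalizedModule.linearEquiv_apply p.primeCompl g f' b
  refine LinearEquiv.length_eq (Submodule.Quotient.equiv _ _ e ?_)
  rw [hN₀, Submodule.map_span]
  apply le_antisymm
  · rw [Submodule.span_le]
    rintro _ ⟨_, ⟨r, rfl⟩, rfl⟩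
    refine ⟨algebraMap R A r, ?_⟩
    show algebraMap A C (algebraMap R A r) = e (g (algebraMap R B r))
    rw [he, hRC]
  · rintro _ ⟨a, rfl⟩
    have h1 : (Algebra.linearMap A C) a = a • (e (g (algebraMap R B 1))) := by
      rw [he, map_one, map_one, Algebra.smul_def, mul_one]
      rfl
    rw [h1]
    exact Submodule.smul_mem _ _ (Submodule.subset_span ⟨_, ⟨1, rfl⟩, rfl⟩)

end Groth.Agent.Lib.Helper23.RedDelta
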