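import Mathlib

/-!
# RedDeltaC: a nowhere dense closed subset of a reduced Noetherian spectrum is cut out by a
nonzerodivisor (simultaneously for an overring)
-/
set_option autoImplicit false
universe u

noncomputable section

namespace Groth.Agent.Lib.Helper23.RedDelta

open PrimeSpectrum TopologicalSpace

/-- a closed set with dense complement contains no minimal prime -/
theorem notMem_of_mem_minimalPrimes {R : Type u} [CommRing R] [IsNoetherianRing R]
    (T : Set (PrimeSpectrum R)) (hd : Dense Tᶜ) (hT : IsClosed T) (q : PrimeSpectrum R)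
    (hq : q.asIdeal ∈ minimalPrimes R) : q ∉ T := by
  intro hqT
  have hZ : zeroLocus (q.asIdeal : Set R) ∈ irreducibleComponents (PrimeSpectrum R) := by
    rw [← zeroLocus_minimalPrimes]
    exact ⟨q.asIdeal, hq, rfl⟩
  obtain ⟨o, ho, hne, hoZ⟩ :=
    NoetherianSpace.exists_isOpen_nonempty_subset_irreducibleComponent _ hZ
  obtain ⟨y, hyo, hyT⟩ := hd.inter_open_nonempty o ho hne
  have hqy : q ⤳ y := by
    rw [← le_iff_specializes]
    exact hoZ hyo
  exact (hqy.mem_open hT.isOpen_compl hyT) hqT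

/-- an element outside all minimal primes of a reduced ring is a nonzerodivisor -/
theorem mem_nonZeroDivisors_of_notMem_minimalPrimes {R : Type u} [CommRing R] [IsReduced R]
    (s : R) (hs : ∀ q ∈ minimalPrimes R, s ∉ q) : s ∈ nonZeroDivisors R := by
  rw [mem_nonZeroDivisors_iff_right]
  intro y hy
  have h1 : y ∈ sInf (minimalPrimes R) := by
    rw [Ideal.mem_sInf]
    intro q hq
    have hqp : q.IsPrime := hq.1.1
    have : y * s ∈ q := hy ▸ q.zero_mem
    exact (hqp.mem_or_mem this).resolve_right (hs q hq)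
  have h2 : sInf (minimalPrimes R) = ⊥ := by
    show sInf (⊥ : Ideal R).minimalPrimes = ⊥
    rw [Ideal.sInf_minimalPrimes]
    exact nilradical_eq_zero R
  rw [h2] at h1
  exact h1

/-- **Simultaneous nonzerodivisor.** -/
theorem exists_mem_vanishingIdeal_nonZeroDivisors {R B : Type u} [CommRing R] [CommRing B]
    [Algebra R B] [IsNoetherianRing R] [IsNoetherianRing B] [IsReduced R] [IsReduced B]
    (T : Set (PrimeSpectrum R)) (hT : IsClosed T) (hd : Dense Tᶜ)
    (hd' : Dense ((PrimeSpectrum.comap (algebraMap R B)) ⁻¹' T)ᶜ) :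
    ∃ s : R, s ∈ vanishingIdeal T ∧ s ∈ nonZeroDivisors R ∧
      algebraMap R B s ∈ nonZeroDivisors B := by
  classical
  have hT' : IsClosed ((PrimeSpectrum.comap (algebraMap R B)) ⁻¹' T) :=
    hT.preimage (PrimeSpectrum.continuous_comap _)
  let F : Set (Ideal R) := minimalPrimes R ∪ (Ideal.comap (algebraMap R B)) '' minimalPrimes B
  have hFfin : F.Finite :=
    (minimalPrimes.finite_of_isNoetherianRing R).union
      ((minimalPrimes.finite_of_isNoetherianRing B).image _)
  have hFprime : ∀ P ∈ F, P.IsPrime := by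
    rintro P (hP | ⟨Q, hQ, rfl⟩)
    · exact hP.1.1
    · haveI : Q.IsPrime := hQ.1.1
      exact Ideal.comap_isPrime _ _
  have hFnot : ∀ P ∈ F, ¬ vanishingIdeal T ≤ P := by
    rintro P (hP | ⟨Q, hQ, rfl⟩) hle
    · haveI : P.IsPrime := hP.1.1
      refine notMem_of_mem_minimalPrimes T hd hT ⟨P, inferInstance⟩ hP ?_
      rw [← hT.closure_eq, ← zeroLocus_vanishingIdeal_eq_closure]
      exact hle
    · haveI : Q.IsPrime := hQ.1.1
      refine notMem_of_mem_minimalPrimes _ hd' hT' ⟨Q, inferInstance⟩ hQ ?_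
      show PrimeSpectrum.comap (algebraMap R B) ⟨Q, inferInstance⟩ ∈ T
      rw [← hT.closure_eq, ← zeroLocus_vanishingIdeal_eq_closure]
      exact hle
  have key := Ideal.subset_union_prime (R := R) (s := hFfin.toFinset) (f := id) ⊥ ⊥
    (fun P hP _ _ => hFprime P (hFfin.mem_toFinset.1 hP)) (I := vanishingIdeal T)
  have hnot : ∃ s ∈ vanishingIdeal T, ∀ P ∈ F, s ∉ P := by
    by_contra hcon
    push_neg at hcon
    obtain ⟨P, hP, hle⟩ := key.1 (by
      intro s hs
      obtain ⟨P, hP, hsP⟩ := hcon s hs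
      simp only [Set.mem_iUnion]
      exact ⟨P, by simpa using hP, hsP⟩)
    exact hFnot P (hFfin.mem_toFinset.1 hP) hle
  obtain ⟨s, hsI, hsF'⟩ := hnot
  refine ⟨s, hsI, ?_, ?_⟩
  · exact mem_nonZeroDivisors_of_notMem_minimalPrimes s (fun q hq => hsF' q (Or.inl hq))
  · exact mem_nonZeroDivisors_of_notMem_minimalPrimes _
      (fun Q hQ hsQ => hsF' _ (Or.inr ⟨Q, hQ, rfl⟩) hsQ)

end Groth.Agent.Lib.Helper23.RedDelta
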