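import Groth.Agent.Lib.Helper23.RedDeltaC
import Groth.Prelude.Def_Pi1
import Groth.Prelude.Def_EGA4b

/-!
# RedDeltaD: affine-local data of a finite birational morphism from a normal scheme
-/
set_option autoImplicit false
universe u
open CategoryTheory CategoryTheory.Limits Opposite TopologicalSpace AlgebraicGeometry

noncomputable section

namespace Groth.Agent.Lib.Helper23.RedDelta

section Bij

theorem app_bijective_of_le {Y T : Scheme.{u}} (π : Y ⟶ T) (O : T.Opens) [IsIso (π ∣_ O)]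
    (W : T.Opens) (hW : W ≤ O) : Function.Bijective (π.app W) := by
  have hA : O.ι ''ᵁ (O.ι ⁻¹ᵁ W) = W := by
    rw [Scheme.Hom.image_preimage_eq_opensRange_inf, Scheme.Opens.opensRange_ι]
    exact inf_eq_right.2 hW
  have key : Function.Bijective ((π ∣_ O).app (O.ι ⁻¹ᵁ W)) :=
    (ConcreteCategory.isIso_iff_bijective _).1 inferInstance
  have e := morphismRestrict_app π O (O.ι ⁻¹ᵁ W)
  have key2 : Function.Bijective (π.app (O.ι ''ᵁ (O.ι ⁻¹ᵁ W))) := by
    let ψ := Y.presheaf.map (eqToHom (image_morphismRestrict_preimage π O (O.ι ⁻¹ᵁ W))).op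
    have hψ : Function.Bijective ψ.hom :=
      (ConcreteCategory.isIso_iff_bijective ψ).1 inferInstance
    have e' : ∀ a, ψ.hom ((π.app (O.ι ''ᵁ (O.ι ⁻¹ᵁ W))).hom a) =
        ((π ∣_ O).app (O.ι ⁻¹ᵁ W)).hom a := by
      intro a
      have e' := congr($(e) a)
      simp only [CommRingCat.comp_apply] at e'
      exact e'.symm
    constructor
    · intro a b hab
      apply key.1
      show ((π ∣_ O).app (O.ι ⁻¹ᵁ W)).hom a = ((π ∣_ O).app (O.ι ⁻¹ᵁ W)).hom b
      rw [← e', ← e']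
      exact congrArg ψ.hom hab
    · intro b
      obtain ⟨a, ha⟩ := key.2 (ψ.hom b)
      refine ⟨a, hψ.1 ?_⟩
      exact (e' a).trans ha
  have gen : ∀ A : T.Opens, A = W → Function.Bijective (π.app A) →
      Function.Bijective (π.app W) := by
    rintro A rfl h
    exact h
  exact gen _ hA key2

end Bij

section Dense

variable {X : Scheme.{u}} {W : X.Opens} (hW : IsAffineOpen W)

include hW in
theorem dense_fromSpec_preimage (U : X.Opens) (hU : Dense (U : Set X)) :
    Dense ((hW.fromSpec ⁻¹' (U : Set X)ᶜ)ᶜ : Set (PrimeSpectrum Γ(X, W))) := by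
  rw [dense_iff_inter_open]
  intro o ho hne
  have hopen : IsOpen (hW.fromSpec '' o) := hW.fromSpec.isOpenEmbedding.isOpenMap o ho
  obtain ⟨x, ⟨y, hyo, rfl⟩, hxU⟩ := hU.inter_open_nonempty _ hopen (hne.image _)
  exact ⟨y, hyo, fun h => h hxU⟩

end Dense

section Local

variable {X X' : Scheme.{u}} (π : X' ⟶ X) [IsAffineHom π] [IsReduced X] [IsReduced X']
  [IsLocallyNoetherian X] [IsLocallyNoetherian X']
  (U : X.Opens) (hU : Dense (U : Set X)) (hU' : Dense ((π ⁻¹ᵁ U : X'.Opens) : Set X'))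
  {W : X.Opens} (hW : IsAffineOpen W)

include hU hU' hW in
theorem exists_nzd : ∃ s : Γ(X, W), s ∈ nonZeroDivisors Γ(X, W) ∧
    (π.app W).hom s ∈ nonZeroDivisors Γ(X', π ⁻¹ᵁ W) ∧ X.basicOpen s ≤ U := by
  have hW' : IsAffineOpen (π ⁻¹ᵁ W) := hW.preimage π
  letI : Algebra Γ(X, W) Γ(X', π ⁻¹ᵁ W) := (π.app W).hom.toAlgebra
  haveI : IsNoetherianRing Γ(X, W) := IsLocallyNoetherian.component_noetherian ⟨W, hW⟩
  haveI : IsNoetherianRing Γ(X', π ⁻¹ᵁ W) := IsLocallyNoetherian.component_noetherian ⟨_, hW'⟩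
  let T : Set (PrimeSpectrum Γ(X, W)) := hW.fromSpec ⁻¹' (U : Set X)ᶜ
  have hT : IsClosed T := (U.isOpen.isClosed_compl).preimage hW.fromSpec.continuous
  have hd : Dense Tᶜ := dense_fromSpec_preimage hW U hU
  have hcomm : ∀ y : PrimeSpectrum Γ(X', π ⁻¹ᵁ W),
      hW.fromSpec (PrimeSpectrum.comap (π.app W).hom y) = π (hW'.fromSpec y) := by
    intro y
    have h := IsAffineOpen.SpecMap_appLE_fromSpec π hW hW' le_rfl
    rw [Scheme.Hom.appLE_eq_app] at h
    have h2 : (Spec.map (π.app W) ≫ hW.fromSpec) y = (hW'.fromSpec ≫ π) y := by rw [h]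
    rw [Scheme.Hom.comp_apply, Scheme.Hom.comp_apply] at h2
    exact h2
  have hpre : (PrimeSpectrum.comap (algebraMap Γ(X, W) Γ(X', π ⁻¹ᵁ W))) ⁻¹' T =
      hW'.fromSpec ⁻¹' ((π ⁻¹ᵁ U : X'.Opens) : Set X')ᶜ := by
    ext y
    show hW.fromSpec (PrimeSpectrum.comap (π.app W).hom y) ∉ U ↔ hW'.fromSpec y ∉ π ⁻¹ᵁ U
    rw [hcomm]
    rfl
  have hd' : Dense ((PrimeSpectrum.comap (algebraMap Γ(X, W) Γ(X', π ⁻¹ᵁ W))) ⁻¹' T)ᶜ := by
    rw [hpre]
    exact dense_fromSpec_preimage hW' _ hU'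
  obtain ⟨s, hsI, hs, hsB⟩ := exists_mem_vanishingIdeal_nonZeroDivisors T hT hd hd'
  refine ⟨s, hs, hsB, ?_⟩
  intro x hx
  have hxW : x ∈ W := X.basicOpen_le s hx
  obtain ⟨y, rfl⟩ : ∃ y, hW.fromSpec y = x := by
    have : x ∈ Set.range hW.fromSpec := by
      rw [hW.range_fromSpec]
      exact hxW
    exact this
  have hy : y ∈ hW.fromSpec ⁻¹ᵁ X.basicOpen s := hx
  rw [hW.fromSpec_preimage_basicOpen] at hy
  by_contra hxU
  exact hy ((PrimeSpectrum.mem_vanishingIdeal _ _).1 hsI y hxU)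

end Local

section Local2

variable {X X' : Scheme.{u}} (π : X' ⟶ X) [IsAffineHom π]
  (U : X.Opens) [IsIso (π ∣_ U)] {W : X.Opens} (hW : IsAffineOpen W)

theorem app_res (V : X.Opens) (hVW : V ≤ W) (r : Γ(X, W)) :
    (π.app V).hom ((X.presheaf.map (homOfLE hVW).op).hom r) =
      (X'.presheaf.map (homOfLE (show π ⁻¹ᵁ V ≤ π ⁻¹ᵁ W from fun _ h => hVW h)).op).hom
        ((π.app W).hom r) := by
  have hnat := π.naturality (homOfLE hVW).op
  have := congr($(hnat) r)
  simp only [CommRingCat.comp_apply] at this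
  exact this

include hW in
theorem app_injective (s : Γ(X, W)) (hs : s ∈ nonZeroDivisors Γ(X, W))
    (hsU : X.basicOpen s ≤ U) : Function.Injective (π.app W).hom := by
  rw [injective_iff_map_eq_zero]
  intro r hr
  have hbij := app_bijective_of_le π U (X.basicOpen s) hsU
  have h1 : (π.app (X.basicOpen s)).hom
      ((X.presheaf.map (homOfLE (X.basicOpen_le s)).op).hom r) = 0 := by
    rw [app_res π (X.basicOpen s) (X.basicOpen_le s) r, hr, map_zero]
  have h2 : (X.presheaf.map (homOfLE (X.basicOpen_le s)).op).hom r = 0 :=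
    hbij.1 (h1.trans (map_zero _).symm)
  haveI := hW.isLocalization_basicOpen s
  obtain ⟨⟨_, n, rfl⟩, hn⟩ := IsLocalization.exists_of_eq (M := Submonoid.powers s)
    (S := Γ(X, X.basicOpen s)) (x := r) (y := 0) (by rw [map_zero]; exact h2)
  simp only [mul_zero] at hn
  exact (mul_left_mem_nonZeroDivisors_eq_zero_iff (pow_mem hs n)).1 hn

include hW in
theorem app_birational (s : Γ(X, W)) (hsU : X.basicOpen s ≤ U) (b : Γ(X', π ⁻¹ᵁ W)) :
    ∃ (n : ℕ) (r : Γ(X, W)), (π.app W).hom (s ^ n) * b = (π.app W).hom r := by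
  have hW' : IsAffineOpen (π ⁻¹ᵁ W) := hW.preimage π
  have hbij := app_bijective_of_le π U (X.basicOpen s) hsU
  have hle : π ⁻¹ᵁ (X.basicOpen s) ≤ π ⁻¹ᵁ W := fun _ h => X.basicOpen_le s h
  obtain ⟨a, ha⟩ := hbij.2 ((X'.presheaf.map (homOfLE hle).op).hom b)
  haveI := hW.isLocalization_basicOpen s
  obtain ⟨⟨r, ⟨_, n, rfl⟩⟩, hr⟩ := IsLocalization.surj (Submonoid.powers s) a
  simp only at hr
  -- apply `π.app V`
  have h1 : (X'.presheaf.map (homOfLE hle).op).hom (b * (π.app W).hom (s ^ n) - (π.app W).hom r) =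
      0 := by
    rw [map_sub, map_mul, ← app_res π (X.basicOpen s) (X.basicOpen_le s) (s ^ n),
      ← app_res π (X.basicOpen s) (X.basicOpen_le s) r, ← ha, ← map_mul]
    have hr' : a * (X.presheaf.map (homOfLE (X.basicOpen_le s)).op).hom (s ^ n) =
        (X.presheaf.map (homOfLE (X.basicOpen_le s)).op).hom r := hr
    rw [hr', sub_self]
  -- transfer to `basicOpen (π^* s)`
  have heq : X'.basicOpen ((π.app W).hom s) = π ⁻¹ᵁ (X.basicOpen s) :=
    (Scheme.preimage_basicOpen π s).symm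
  have h2 : (X'.presheaf.map (homOfLE (X'.basicOpen_le ((π.app W).hom s))).op).hom
      (b * (π.app W).hom (s ^ n) - (π.app W).hom r) = 0 := by
    have hfac : (homOfLE (X'.basicOpen_le ((π.app W).hom s))).op =
        (homOfLE hle).op ≫ (homOfLE heq.le).op := Subsingleton.elim _ _
    rw [hfac, Functor.map_comp, CommRingCat.comp_apply, h1, map_zero]
  haveI := hW'.isLocalization_basicOpen ((π.app W).hom s)
  obtain ⟨⟨_, m, rfl⟩, hm⟩ := IsLocalization.exists_of_eq
    (M := Submonoid.powers ((π.app W).hom s))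
    (S := Γ(X', X'.basicOpen ((π.app W).hom s)))
    (x := b * (π.app W).hom (s ^ n) - (π.app W).hom r) (y := 0) (by rw [map_zero]; exact h2)
  simp only [mul_zero] at hm
  refine ⟨m + n, s ^ m * r, ?_⟩
  rw [pow_add, map_mul, map_mul, map_pow (π.app W).hom s m]
  have : (π.app W).hom s ^ m * (b * (π.app W).hom (s ^ n)) =
      (π.app W).hom s ^ m * (π.app W).hom r := by
    rw [mul_sub] at hm
    exact sub_eq_zero.1 hm
  rw [← this]
  ring

end Local2

section Normal

theorem isNormalRing_sections {Y : Scheme.{u}} (hY : Pi1.IsNormalScheme Y) {V : Y.Opens}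
    (hV : IsAffineOpen V) : EGA4.IsNormalRing Γ(Y, V) := by
  intro p hp
  let y : PrimeSpectrum Γ(Y, V) := ⟨p, hp⟩
  have hyV : hV.fromSpec y ∈ V := by
    have : hV.fromSpec y ∈ Set.range hV.fromSpec := ⟨y, rfl⟩
    rw [hV.range_fromSpec] at this
    exact this
  letI := TopCat.Presheaf.algebra_section_stalk Y.presheaf (U := V) ⟨hV.fromSpec y, hyV⟩
  haveI : IsLocalization.AtPrime (Y.presheaf.stalk (hV.fromSpec y)) p :=
    hV.isLocalization_stalk' y hyV
  let e : Localization.AtPrime p ≃ₐ[Γ(Y, V)] Y.presheaf.stalk (hV.fromSpec y) :=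
    IsLocalization.algEquiv p.primeCompl _ _
  obtain ⟨hd, hic⟩ := hY (hV.fromSpec y)
  haveI := hd
  haveI := hic
  exact ⟨e.toRingEquiv.toMulEquiv.isDomain _, IsIntegrallyClosed.of_equiv e.symm.toRingEquiv⟩

theorem isReduced_of_isNormalScheme {Y : Scheme.{u}} (hY : Pi1.IsNormalScheme Y) : IsReduced Y := by
  haveI : ∀ x : Y, _root_.IsReduced (Y.presheaf.stalk x) := fun x => by
    haveI := (hY x).1
    infer_instance
  exact isReduced_of_isReduced_stalk Y

end Normal

end Groth.Agent.Lib.Helper23.RedDelta
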