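import Groth.Agent.Lib.Helper23.RedDeltaB
import Groth.Agent.Lib.Helper23.RedDeltaD
import Groth.Agent.Lib.Helper23.NormDelta

/-!
# RedDeltaE: the cokernel of `O_X → π_* O_{X'}` for a finite birational morphism from a normal
scheme onto a reduced scheme: stalk lengths are δ-invariants
-/
set_option autoImplicit false
set_option linter.style.haveILetI false
universe u
open CategoryTheory CategoryTheory.Limits Opposite TopologicalSpace AlgebraicGeometry
open Scheme.Modules
open Groth.Agent.Lib.Helper3 Groth.Agent.Lib.Helper3.QCSec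
open Groth.Agent.Lib.Helper12

noncomputable section

namespace Groth.Agent.Lib.Helper23.RedDelta

variable {X X' : Scheme.{u}} (π : X' ⟶ X)

theorem unitToPush_app (W : X.Opens) (t : Γ(X, W)) :
    (ClSub.unitToPush π).app W t = (π.app W).hom t := rfl

open Groth.Agent.Lib.Helper23.Curve in
theorem vanishesOn_cokernel (V : X.Opens) [IsIso (π ∣_ V)] :
    VanishesOn (cokernel (ClSub.unitToPush π)) V := by
  intro W hWV t
  apply ModBasis.eq_zero_of_locally_zero
  intro y hy
  obtain ⟨W', hW'W, hyW', l, hl⟩ :=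
    QCExact.exists_local_lift (cokernel.π (ClSub.unitToPush π)) W t y hy
  refine ⟨W', hW'W, hyW', ?_⟩
  obtain ⟨a, ha⟩ := (app_bijective_of_le π V W' (hW'W.trans hWV)).2 l
  have hzero : (cokernel.π (ClSub.unitToPush π)).app W'
      ((ClSub.unitToPush π).app W' a) = 0 := by
    have h3 : (ClSub.unitToPush π ≫ cokernel.π (ClSub.unitToPush π)).app W' a = 0 := by
      rw [cokernel.condition, Scheme.Modules.Hom.zero_app]
      rfl
    exact h3
  rw [unitToPush_app, ha] at hzero
  exact hl.symm.trans hzero

section Main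

variable [IsFinite π] [IsReduced X] [IsLocallyNoetherian X] (hX' : Pi1.IsNormalScheme X')
  (U : X.Opens) (hU : Dense (U : Set X)) (hU' : Dense ((π ⁻¹ᵁ U : X'.Opens) : Set X'))
  [IsIso (π ∣_ U)]

include hX' hU hU' in
theorem mono_unitToPush : Mono (ClSub.unitToPush π) := by
  haveI : IsReduced X' := isReduced_of_isNormalScheme hX'
  haveI : IsLocallyNoetherian X' := LocallyOfFiniteType.isLocallyNoetherian π
  apply ModBasis.mono_of_injective_on_basis
  intro W x hxW
  obtain ⟨_, ⟨V, hV, rfl⟩, hxV, hVW⟩ :=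
    X.isBasis_affineOpens.exists_subset_of_mem_open hxW W.isOpen
  refine ⟨V, hxV, hVW, fun t ht => ?_⟩
  obtain ⟨s, hs, -, hsU⟩ := exists_nzd π U hU hU' hV
  apply app_injective π U hV s hs hsU
  exact ht.trans (map_zero _).symm

open Groth.Agent.Lib.Helper17.StalkExact Groth.Agent.Lib.Helper3.InvGen in
include hX' hU hU' in
theorem length_stalk_cokernel (x : X) :
    Module.length (X.presheaf.stalk x)
      ((cokernel (ClSub.unitToPush π)).presheaf.stalk x) =
      Curv2.deltaInv (X.presheaf.stalk x) := by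
  haveI : IsReduced X' := isReduced_of_isNormalScheme hX'
  haveI : IsLocallyNoetherian X' := LocallyOfFiniteType.isLocallyNoetherian π
  obtain ⟨_, ⟨V, hV, rfl⟩, hxU, -⟩ :=
    X.isBasis_affineOpens.exists_subset_of_mem_open (Set.mem_univ x) isOpen_univ
  obtain ⟨s, hs, hsB, hsU⟩ := exists_nzd π U hU hU' hV
  have hinj := app_injective π U hV s hs hsU
  have hbir := app_birational π U hV s hsU
  have hnorm : EGA4.IsNormalRing Γ(X', π ⁻¹ᵁ V) := isNormalRing_sections hX' (hV.preimage π)
  letI algRB : Algebra Γ(X, V) Γ(X', π ⁻¹ᵁ V) := (π.app V).hom.toAlgebra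
  haveI : Module.Finite Γ(X, V) Γ(X', π ⁻¹ᵁ V) := IsFinite.finite_app π V hV
  haveI : Algebra.IsIntegral Γ(X, V) Γ(X', π ⁻¹ᵁ V) := Algebra.IsIntegral.of_finite _ _
  letI algA : Algebra Γ(X, V) (X.presheaf.stalk x) :=
    TopCat.Presheaf.algebra_section_stalk X.presheaf (U := V) ⟨x, hxU⟩
  haveI locA : IsLocalization.AtPrime (X.presheaf.stalk x)
      (hV.primeIdealOf ⟨x, hxU⟩).asIdeal := hV.isLocalization_stalk ⟨x, hxU⟩
  haveI : (Coh.structureModule X').IsQuasicoherent := QCOpen.isQuasicoherent_structureModule _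
  haveI : (Coh.structureModule X).IsQuasicoherent := QCOpen.isQuasicoherent_structureModule _
  haveI hPqc : ((Scheme.Modules.pushforward π).obj (Coh.structureModule X')).IsQuasicoherent :=
    Groth.Agent.Lib.Helper3.QCSec.isQuasicoherent_pushforward π _
  letI modRN : Module Γ(X, V) (((Scheme.Modules.pushforward π).obj
      (Coh.structureModule X')).presheaf.stalk x) :=
    Module.compHom _ (algebraMap Γ(X, V) (X.presheaf.stalk x))
  haveI tower : IsScalarTower Γ(X, V) (X.presheaf.stalk x)
      (((Scheme.Modules.pushforward π).obj (Coh.structureModule X')).presheaf.stalk x) :=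
    ⟨fun r a n => by
      show (r • a) • n = algebraMap Γ(X, V) (X.presheaf.stalk x) r • (a • n)
      rw [Algebra.smul_def, mul_smul]⟩
  let gP : Γ((Scheme.Modules.pushforward π).obj (Coh.structureModule X'), V) →ₗ[Γ(X, V)]
      (((Scheme.Modules.pushforward π).obj (Coh.structureModule X')).presheaf.stalk x) :=
    { toFun := ((Scheme.Modules.pushforward π).obj
        (Coh.structureModule X')).presheaf.germ V x hxU
      map_add' := map_add _
      map_smul' := fun r m => QS.germ_smul _ x hxU r m }
  haveI hgP : IsLocalizedModule (hV.primeIdealOf ⟨x, hxU⟩).asIdeal.primeCompl gP :=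
    QS.isLocalizedModule_germ hV _ x hxU (fun r z => rfl) gP (fun m => rfl)
  haveI := mono_unitToPush π hX' U hU hU'
  -- the stalk of the cokernel is the cokernel of the stalks
  let T : ShortComplex X.Modules :=
    ShortComplex.mk (ClSub.unitToPush π) (cokernel.π (ClSub.unitToPush π))
      (cokernel.condition _)
  have hT : T.Exact := ShortComplex.exact_cokernel (ClSub.unitToPush π)
  haveI : Mono T.f := inferInstanceAs (Mono (ClSub.unitToPush π))
  have hex := stalkLin_exact T hT x
  have hsurj : Function.Surjective (stalkLin T.g x) :=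
    stalkLin_surjective (cokernel.π (ClSub.unitToPush π)) x
  have hker : LinearMap.ker (stalkLin T.g x) = LinearMap.range (stalkLin T.f x) :=
    LinearMap.exact_iff.mp hex
  let eQ := (stalkLin T.g x).quotKerEquivOfSurjective hsurj
  rw [← LinearEquiv.length_eq eQ, hker]
  refine length_quotient_eq_deltaInv (hV.primeIdealOf ⟨x, hxU⟩).asIdeal
    (X.presheaf.stalk x) Γ(X', π ⁻¹ᵁ V) s hs hsB hinj hbir hnorm gP hgP _ ?_
  apply le_antisymm
  · rintro _ ⟨z, rfl⟩
    obtain ⟨t, ht, m, hm⟩ := Groth.Agent.Lib.Helper17.StalkKit.exists_germ_smul_eq hV x hxU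
      (Coh.structureModule X) z
    have hu : IsUnit (X.presheaf.germ V x hxU t) :=
      Groth.Agent.Lib.Helper17.StalkKit.isUnit_germ hV x hxU t ht
    obtain ⟨t', ht'⟩ := hu.exists_left_inv
    have hz : z = t' • (Coh.structureModule X).presheaf.germ V x hxU m := by
      rw [← hm, ← mul_smul, ht', one_smul]
    rw [hz, LinearMap.map_smul]
    refine Submodule.smul_mem _ _ (Submodule.subset_span ⟨toFun V m, ?_⟩)
    show gP ((π.app V).hom (toFun V m)) =
      stalkLin (ClSub.unitToPush π) x ((Coh.structureModule X).presheaf.germ V x hxU m)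
    rw [stalkLin_apply, QS.stalkMap_germ]
    rfl
  · rw [Submodule.span_le]
    rintro _ ⟨r, rfl⟩
    refine ⟨(Coh.structureModule X).presheaf.germ V x hxU (ofFun V r), ?_⟩
    show stalkLin (ClSub.unitToPush π) x
      ((Coh.structureModule X).presheaf.germ V x hxU (ofFun V r)) = gP ((π.app V).hom r)
    rw [stalkLin_apply, QS.stalkMap_germ]
    rfl

end Main

end Groth.Agent.Lib.Helper23.RedDelta
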