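import Mathlib
import Groth.Prelude
import Groth.Agent.Lib.Helper23.HilbPQ
import Groth.Agent.Lib.Helper26.RefShH
import Groth.Agent.Lib.Helper17.StalkExact
import Groth.Agent.Lib.Helper1.MaxAnnInt

/-!
# Reflexive coherent modules on an integral scheme are pure (helper23)
-/

set_option autoImplicit false
set_option linter.unusedSectionVars false
set_option linter.style.haveILetI false
universe u
open CategoryTheory CategoryTheory.Limits AlgebraicGeometry Polynomial

noncomputable section

namespace Groth.Agent.Lib.Helper23.ReflMu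

open Groth.Agent.Lib.Helper17 Groth.Agent.Lib.Helper17.DevBasic Groth.Agent.Lib.Helper23.HilbP
  Groth.Agent.Lib.Helper3 Groth.Agent.Lib.Helper26

variable {X : Scheme.{u}}

lemma stalkMapₗ_eq_stalkLin {F G : X.Modules} (φ : F ⟶ G) (x : X) (m : F.presheaf.stalk x) :
    RefHull.stalkMapₗ φ x m = StalkExact.stalkLin φ x m := by
  obtain ⟨U, hx, s, rfl⟩ := TopCat.Presheaf.exists_germ_eq F.presheaf m
  rw [RefHull.stalkMapₗ_germ, StalkExact.stalkLin_apply, QS.stalkMap_germ]

theorem isTorsionFree_of_isReflexive [IsIntegral X] [IsLocallyNoetherian X] {F : X.Modules}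
    (hF : Coh.IsCoh F) (hr : RefHull.IsReflexive F) : TorSh.IsTorsionFree F := fun x => by
  haveI : Module.IsReflexive (X.presheaf.stalk x) (F.presheaf.stalk x) :=
    (RefSh.isReflexive_iff_forall hF).mp hr x
  infer_instance

theorem isTorsionFree_of_mono {K F : X.Modules} (ι : K ⟶ F) [Mono ι]
    (hF : TorSh.IsTorsionFree F) : TorSh.IsTorsionFree K := fun x => by
  haveI := hF x
  exact Function.Injective.moduleIsTorsionFree (StalkExact.stalkLin ι x)
    (StalkExact.stalkLin_injective ι x) (fun r m => map_smul _ r m)

/-- a nonzero coherent torsion-free module on an integral scheme has full support. -/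
theorem support_eq_univ_of_torsionFree [IsIntegral X] {K : X.Modules} (hK : Coh.IsCoh K)
    (htf : TorSh.IsTorsionFree K) (h0 : ¬ IsZero K) : CohB1.support K = Set.univ := by
  haveI := hK.1
  haveI := hK.2
  have hne : (CohB1.support K).Nonempty := by
    rw [Set.nonempty_iff_ne_empty]
    exact fun h => h0 (isZero_of_support_eq_empty h)
  obtain ⟨y, hy⟩ := hne
  have hsp : genericPoint X ⤳ y := genericPoint_specializes y
  have hinj := RefSh.specHom_injective_of_torsionFree K htf y hsp
  have hη : genericPoint X ∈ CohB1.support K := by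
    intro hsub
    apply hy
    exact hinj.subsingleton
  have hcl : IsClosed (CohB1.support K) := Groth.Agent.Lib.Helper1.MaxAnnInt.isClosed_support K
  rw [Set.eq_univ_iff_forall]
  intro z
  have hz : z ∈ closure ({genericPoint X} : Set X) := by
    rw [genericPoint_closure]; trivial
  exact (hcl.closure_subset_iff.2 (Set.singleton_subset_iff.2 hη)) hz

theorem isPure_of_torsionFree [IsIntegral X] {n : ℕ}
    (hX : topologicalKrullDim X = (n : WithBot ℕ∞)) {F : X.Modules}
    (htf : TorSh.IsTorsionFree F) : ShStab.IsPure X F n := by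
  intro K ι hι hK hK0
  haveI := hι
  have h1 := support_eq_univ_of_torsionFree hK (isTorsionFree_of_mono ι htf) hK0
  rw [h1, ← hX]
  exact (Homeomorph.Set.univ X).isHomeomorph.topologicalKrullDim_eq

end Groth.Agent.Lib.Helper23.ReflMu
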