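import Mathlib
import Groth.Prelude
import Groth.Agent.Lib.Helper23.ReflMuA
import Groth.Agent.Lib.Helper12.SchemeDimFT3
import Groth.Agent.Lib.Helper12.SchemeDimIneq2

/-!
# Points of a closed subset of codimension at least two have local rings of dimension at least two
(helper23)
-/

set_option autoImplicit false
set_option linter.unusedSectionVars false
set_option linter.style.haveILetI false
universe u
open CategoryTheory CategoryTheory.Limits AlgebraicGeometry Polynomial

noncomputable section

namespace Groth.Agent.Lib.Helper23.ReflMu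

open Groth.Agent.Lib.Helper23.HilbP Groth.Agent.Lib.Helper12 Groth.Agent.Lib.Helper12.SchemeDimFT
  Groth.Agent.Lib.Helper12.SchemeDimIneq

lemma le_of_lt_succ_withBot {x : WithBot ℕ∞} {m : ℕ}
    (h : x < ((m + 1 : ℕ) : WithBot ℕ∞)) : x ≤ (m : WithBot ℕ∞) := by
  induction x using WithBot.recBotCoe with
  | bot => exact bot_le
  | coe e =>
    have h1 : e < ((m + 1 : ℕ) : ℕ∞) := by exact_mod_cast h
    have h2 : e ≤ (m : ℕ∞) := by
      have : e < (m : ℕ∞) + 1 := by exact_mod_cast h1
      exact (ENat.lt_add_one_iff (ENat.natCast_ne_top m)).1 this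
    exact_mod_cast h2

theorem two_le_ringKrullDim_stalk (k : Type u) [Field k] (X : Scheme.{u})
    [X.Over (Spec (CommRingCat.of k))] [LocallyOfFiniteType (X ↘ Spec (CommRingCat.of k))]
    [IrreducibleSpace X] (n : ℕ) (hX : topologicalKrullDim X = (n : WithBot ℕ∞)) (Z : Set X)
    (hZ : IsClosed Z) (hdim : topologicalKrullDim Z < ((n - 1 : ℕ) : WithBot ℕ∞)) (x : X)
    (hx : x ∈ Z) : (2 : WithBot ℕ∞) ≤ ringKrullDim (X.presheaf.stalk x) := by
  obtain ⟨m, hm⟩ := exists_trdeg_eq k X (genericPoint X)
  have h1 := topologicalKrullDim_eq_of_irreducible k X m hm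
  have hmn : m = n := by
    have : ((m : ℕ) : WithBot ℕ∞) = ((n : ℕ) : WithBot ℕ∞) := h1.symm.trans hX
    exact_mod_cast this
  subst hmn
  obtain ⟨b, hb⟩ := exists_ringKrullDim_stalk_eq k X x
  have h2 := localDim_eq k X x (tr k X x) b (tr_spec k X x) hb
  have h3 := localDim_eq_of_irreducible k X m hm x
  have h4 : tr k X x + b = m := by
    have : ((tr k X x + b : ℕ) : WithBot ℕ∞) = ((m : ℕ) : WithBot ℕ∞) := h2.symm.trans h3
    exact_mod_cast this
  have h5 : topologicalKrullDim (closure ({x} : Set X)) ≤ topologicalKrullDim Z :=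
    topologicalKrullDim_mono (closure_minimal (Set.singleton_subset_iff.2 hx) hZ)
  rw [topologicalKrullDim_closure_singleton k X x] at h5
  have h6 : ((tr k X x : ℕ) : WithBot ℕ∞) < ((m - 1 : ℕ) : WithBot ℕ∞) := h5.trans_lt hdim
  have h7 : tr k X x < m - 1 := by exact_mod_cast h6
  rw [hb]
  have : 2 ≤ b := by omega
  exact_mod_cast this

end Groth.Agent.Lib.Helper23.ReflMu
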