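import Mathlib
import Groth.Prelude
import Groth.Agent.Lib.Helper23.ReflMuB
import Groth.Agent.Lib.Helper23.HilbPX
import Groth.Agent.Lib.Helper17.DepthTwoIsoSch
import Groth.Agent.Lib.Helper26.RefShD
import Groth.Agent.Lib.Helper26.RegularSch

/-!
# Nonzero morphisms between slope-stable reflexive modules (helper23)
-/

set_option autoImplicit false
set_option linter.unusedSectionVars false
set_option linter.style.haveILetI false
universe u
open CategoryTheory CategoryTheory.Limits AlgebraicGeometry Polynomial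

noncomputable section

namespace Groth.Agent.Lib.Helper23.ReflMu

open Groth.Agent.Lib.Helper17 Groth.Agent.Lib.Helper17.DevBasic Groth.Agent.Lib.Helper23.HilbP
  Groth.Agent.Lib.Helper3 Groth.Agent.Lib.Helper26

/-- a torsion-free module over a local domain of positive dimension has no associated maximal
ideal. -/
lemma not_isAssociatedPrime_maximalIdeal {R M : Type*} [CommRing R] [IsDomain R] [IsLocalRing R]
    [AddCommGroup M] [Module R M] [Module.IsTorsionFree R M]
    (hdim : (2 : WithBot ℕ∞) ≤ ringKrullDim R) :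
    ¬ IsAssociatedPrime (IsLocalRing.maximalIdeal R) M := by
  rintro ⟨hp, g, hg⟩
  have hbot : IsLocalRing.maximalIdeal R = ⊥ := by
    rw [eq_bot_iff]
    intro r hr
    rw [hg, Ideal.mem_radical_iff] at hr
    obtain ⟨N, hN⟩ := hr
    rw [Submodule.mem_colon_singleton, Submodule.mem_bot, smul_eq_zero] at hN
    rcases hN with hN | hN
    · have hr0 : r = 0 := by
        by_cases hN0 : N = 0
        · subst hN0; simp at hN
        · exact (pow_eq_zero_iff hN0).1 hN
      rw [hr0]; exact Submodule.zero_mem _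
    · exfalso
      apply hp.ne_top
      rw [hg, hN, Ideal.radical_eq_top]
      rw [eq_top_iff]
      intro r _
      rw [Submodule.mem_colon_singleton, smul_zero]
      exact Submodule.zero_mem _
  have hfield : IsField R := IsLocalRing.isField_iff_maximalIdeal_eq.2 hbot
  rw [ringKrullDim_eq_zero_of_isField hfield] at hdim
  exact absurd hdim (by decide)

variable (k : Type u) [Field k] {X : Scheme.{u}} [X.Over (Spec (CommRingCat.of k))]
  [IsIntegral X] [IsProper (X ↘ Spec (CommRingCat.of k))] [Smooth (X ↘ Spec (CommRingCat.of k))]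

theorem isIso_of_reflexive_muStable (n : ℕ) (hn : 1 ≤ n)
    (hX : topologicalKrullDim X = (n : WithBot ℕ∞)) {L : X.Modules} (hL : CohB1.IsAmple L)
    {F G : X.Modules} (hFr : RefHull.IsReflexive F) (hGr : RefHull.IsReflexive G)
    (hF : ShStab.IsMuStable k X L F n) (hG : ShStab.IsMuStable k X L G n) {pF pG : ℚ[X]}
    (hpF : ShStab.IsHilbPoly k X L F pF) (hpG : ShStab.IsHilbPoly k X L G pG)
    (hle : StabCat.hatSlope n pG ≤ StabCat.hatSlope n pF) (φ : F ⟶ G) (hφ : φ ≠ 0) :
    IsIso φ := by
  classical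
  haveI := isNoetherian_of_isProper k X
  have hFtf := isTorsionFree_of_isReflexive hF.1 hFr
  have hGtf := isTorsionFree_of_isReflexive hG.1 hGr
  have hFt : ShStab.IsPure X F n := isPure_of_torsionFree hX hFtf
  have hGt : ShStab.IsPure X G n := isPure_of_torsionFree hX hGtf
  have hGss : ShStab.IsMuSemistable k X L G n :=
    ⟨hG.1, hG.2.1, hG.2.2.1, hG.2.2.2.1, fun F' ι hι hF' pF' pE h1 h2 a1 a2 =>
      (hG.2.2.2.2 F' ι hι hF' pF' pE h1 h2 a1 a2).le⟩
  have aF : 0 < StabCat.alpha n pF := alpha_pos_of_pure k hL hFt (𝟙 F) hF.1 hF.2.1 hpF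
  have aG : 0 < StabCat.alpha n pG := alpha_pos_of_pure k hL hGt (𝟙 G) hG.1 hG.2.1 hpG
  have h3F : StabCat.alpha (n - 1) pF = StabCat.hatSlope n pF * StabCat.alpha n pF := by
    unfold StabCat.hatSlope
    rw [div_mul_cancel₀ _ aF.ne']
  have h3G : StabCat.alpha (n - 1) pG = StabCat.hatSlope n pG * StabCat.alpha n pG := by
    unfold StabCat.hatSlope
    rw [div_mul_cancel₀ _ aG.ne']
  -- Step 1: `φ` is a monomorphism
  have hIcoh : Coh.IsCoh (Abelian.image φ) :=
    isCoh_kernel (cokernel.π φ) hG.1 (isCoh_cokernel φ hF.1.1 hG.1).1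
  have hfac : Abelian.factorThruImage φ ≫ Abelian.image.ι φ = φ := Abelian.image.fac φ
  have hI0 : ¬ IsZero (Abelian.image φ) := fun hz =>
    hφ (by rw [← hfac, hz.eq_of_tgt (Abelian.factorThruImage φ) 0, Limits.zero_comp])
  obtain ⟨pI, hpI⟩ := exists_isHilbPoly k X hL _ hIcoh
  have aI : 0 < StabCat.alpha n pI :=
    alpha_pos_of_pure k hL hGt (Abelian.image.ι φ) hIcoh hI0 hpI
  haveI : Mono φ := by
    by_contra hmono
    have hK0 : ¬ IsZero (kernel (Abelian.factorThruImage φ)) := by
      intro hz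
      haveI : Mono (Abelian.factorThruImage φ) :=
        Preadditive.mono_of_kernel_zero (hz.eq_of_src _ _)
      apply hmono
      rw [← hfac]
      exact mono_comp _ _
    have hK : Coh.IsCoh (kernel (Abelian.factorThruImage φ)) := isCoh_kernel _ hF.1 hIcoh.1
    have hpK : ShStab.IsHilbPoly k X L (kernel (Abelian.factorThruImage φ)) (pF - pI) :=
      isHilbPoly_X₁ k hL.1 _ (DevKey.shortExact_of_epi (Abelian.factorThruImage φ)) hK hF.1 hIcoh
        hpF hpI
    have aK : 0 < StabCat.alpha n (pF - pI) :=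
      alpha_pos_of_pure k hL hFt (kernel.ι (Abelian.factorThruImage φ)) hK hK0 hpK
    have aKlt : StabCat.alpha n (pF - pI) < StabCat.alpha n pF := by
      rw [alpha_sub]; linarith
    have hst := hF.2.2.2.2 _ (kernel.ι (Abelian.factorThruImage φ)) inferInstance hK (pF - pI) pF
      hpK hpF aK aKlt
    have h1 := muSS_sub k hL hGss hGt (Abelian.image.ι φ) hIcoh hpI hpG
    have hst' : StabCat.alpha (n - 1) (pF - pI) <
        StabCat.hatSlope n pF * StabCat.alpha n (pF - pI) := by
      have h := hst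
      unfold StabCat.hatSlope at h ⊢
      exact (div_lt_iff₀ aK).1 h
    rw [alpha_sub, alpha_sub, mul_sub] at hst'
    have e1 := mul_le_mul_of_nonneg_right hle aI.le
    linarith
  -- Step 2: the cokernel has small support
  have hTcoh : Coh.IsCoh (cokernel φ) := isCoh_cokernel φ hF.1.1 hG.1
  have hpT : ShStab.IsHilbPoly k X L (cokernel φ) (pG - pF) :=
    isHilbPoly_X₃ k hL.1 _ (DevKey.shortExact_of_mono φ) hF.1 hG.1 hTcoh hpF hpG
  have hTdim : topologicalKrullDim (CohB1.support (cokernel φ)) ≤ (n : WithBot ℕ∞) := by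
    rw [← hX]; exact topologicalKrullDim_subspace_le X _
  have aT : 0 ≤ StabCat.alpha n (pG - pF) := alpha_nonneg_of_dim_le k hL _ hTcoh hpT n hTdim
  have aT2 := aT
  rw [alpha_sub] at aT2
  have hαeq : StabCat.alpha n pF = StabCat.alpha n pG := by
    by_contra hne
    have hlt : StabCat.alpha n pF < StabCat.alpha n pG := lt_of_le_of_ne (by linarith) hne
    have := hG.2.2.2.2 F φ inferInstance hF.1 pF pG hpF hpG aF hlt
    linarith
  have hfn : (0 : ℚ) < (n.factorial : ℚ) := by exact_mod_cast Nat.factorial_pos n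
  have hcoef_n : (pG - pF).coeff n = 0 := by
    have h0 : StabCat.alpha n (pG - pF) = 0 := by rw [alpha_sub]; linarith
    unfold StabCat.alpha at h0
    rcases mul_eq_zero.1 h0 with h | h
    · exact absurd h hfn.ne'
    · exact h
  have hdeg : (pG - pF).natDegree ≤ n := natDegree_le_of_dim_le k hL _ hTcoh hpT n hTdim
  have hge : ∀ j, n ≤ j → (pG - pF).coeff j = 0 := by
    intro j hj
    rcases hj.eq_or_lt with rfl | h
    · exact hcoef_n
    · exact coeff_eq_zero_of_natDegree_lt (by omega)
  have hTlt : topologicalKrullDim (CohB1.support (cokernel φ)) < (n : WithBot ℕ∞) :=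
    (dim_lt_iff k hL _ hTcoh hpT n).2 hge
  obtain ⟨m, rfl⟩ : ∃ m, n = m + 1 := ⟨n - 1, by omega⟩
  have hTle : topologicalKrullDim (CohB1.support (cokernel φ)) ≤ (m : WithBot ℕ∞) :=
    le_of_lt_succ_withBot hTlt
  have aT' : 0 ≤ StabCat.alpha m (pG - pF) := alpha_nonneg_of_dim_le k hL _ hTcoh hpT m hTle
  have hm1 : m + 1 - 1 = m := by omega
  rw [hm1] at h3F h3G
  have hαm : StabCat.alpha m (pG - pF) = 0 := by
    apply le_antisymm _ aT'
    rw [alpha_sub, h3F, h3G, ← hαeq]
    nlinarith [mul_le_mul_of_nonneg_right hle aF.le]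
  have hfm : (0 : ℚ) < (m.factorial : ℚ) := by exact_mod_cast Nat.factorial_pos m
  have hcoef_m : (pG - pF).coeff m = 0 := by
    unfold StabCat.alpha at hαm
    rcases mul_eq_zero.1 hαm with h | h
    · exact absurd h hfm.ne'
    · exact h
  have hge' : ∀ j, m ≤ j → (pG - pF).coeff j = 0 := by
    intro j hj
    rcases hj.eq_or_lt with rfl | h
    · exact hcoef_m
    · exact hge j (by omega)
  have hTlt' : topologicalKrullDim (CohB1.support (cokernel φ)) <
      ((m + 1 - 1 : ℕ) : WithBot ℕ∞) := by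
    rw [hm1]
    exact (dim_lt_iff k hL _ hTcoh hpT m).2 hge'
  -- Step 3: the depth criterion
  haveI : F.IsQuasicoherent := hF.1.1
  haveI : F.IsFiniteType := hF.1.2
  haveI : G.IsQuasicoherent := hG.1.1
  haveI : (cokernel φ).IsQuasicoherent := hTcoh.1
  haveI : (cokernel φ).IsFiniteType := hTcoh.2
  apply DepthTwoIsoSch.isIso_of_depth_two φ
  intro x
  by_cases hx : x ∈ CohB1.support (cokernel φ)
  · right
    have hdim2 := two_le_ringKrullDim_stalk k X (m + 1) hX (CohB1.support (cokernel φ))
      (Groth.Agent.Lib.Helper1.MaxAnnInt.isClosed_support _) hTlt' x hx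
    haveI : IsRegularLocalRing (X.presheaf.stalk x) :=
      RegularSch.isRegularLocalRing_stalk_of_smooth_field k (X ↘ Spec (CommRingCat.of k)) x
    haveI : Module.IsReflexive (X.presheaf.stalk x) (F.presheaf.stalk x) :=
      (RefSh.isReflexive_iff_forall hF.1).mp hFr x
    haveI := hGtf x
    exact ⟨RefSh.two_le_depth_of_isReflexive _ _ (RefSh.two_le_depth_of_regular _ hdim2),
      not_isAssociatedPrime_maximalIdeal hdim2⟩
  · left
    have hsub : Subsingleton ((cokernel φ).presheaf.stalk x) := not_not.1 hx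
    constructor
    · intro a b hab
      rw [stalkMapₗ_eq_stalkLin, stalkMapₗ_eq_stalkLin] at hab
      exact StalkExact.stalkLin_injective φ x hab
    · intro g
      have hex := StalkExact.stalkLin_exact (ShortComplex.mk φ (cokernel.π φ) (cokernel.condition φ))
        (DevKey.shortExact_of_mono φ).exact x
      have hg : StalkExact.stalkLin (cokernel.π φ) x g = 0 := Subsingleton.elim _ _
      obtain ⟨a, ha⟩ := (hex g).1 hg
      exact ⟨a, by rw [stalkMapₗ_eq_stalkLin]; exact ha⟩

end Groth.Agent.Lib.Helper23.ReflMu
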