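import Mathlib
import Groth.Prelude
import Groth.Agent.Lib.Helper23.VanSupp
import Groth.Agent.Lib.Helper23.SimpA
import Groth.Agent.Lib.Helper23.HilbPD
import Groth.Agent.Lib.Helper7.Mumford
import Groth.Agent.Lib.Helper7.Hypersurf
import Groth.Agent.Lib.Helper7.MumLem
import Groth.Agent.Lib.Helper17.DevBasic

/-!
# Regularity of the cokernel and image of a complex of regular modules on `P^n_k` whose
homology has support of dimension `≤ 1` (helper23)
-/

set_option autoImplicit false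
set_option linter.unusedSectionVars false
set_option linter.style.haveILetI false
universe u
open CategoryTheory CategoryTheory.Limits AlgebraicGeometry

noncomputable section

namespace Groth.Agent.Lib.Helper23.RegCx

open Groth.Agent.Lib.Helper17 Groth.Agent.Lib.Helper17.DevBasic Groth.Agent.Lib.Helper13
  Groth.Agent.Lib.Helper3 Groth.Agent.Lib.Helper7 Groth.Agent.Lib.Helper7.TwFun
  Groth.Agent.Lib.Helper23.VanSupp Groth.Agent.Lib.Helper23.Simp
  Groth.Agent.Lib.Helper13.SerreCrit1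

variable (n : ℕ) (k : Type u) [Field k]

/-- regularity in all positive degrees. -/
def RegAll (F : (CohB1.ProjSpace n k).Modules) (m : ℤ) : Prop :=
  ∀ i : ℕ, 1 ≤ i → Subsingleton (Coh.HH (CohB1.ProjSpace n k)
    (CohB1.tensorMod F (Twist.twistProjSpace n k (m - i))) i)

lemma sub_of_gt (F : (CohB1.ProjSpace n k).Modules) (hF : Coh.IsQCoh F) (c : ℤ) (i : ℕ)
    (hi : n < i) : Subsingleton (Coh.HH (CohB1.ProjSpace n k)
      (CohB1.tensorMod F (Twist.twistProjSpace n k c)) i) := by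
  have h := Mumford.isQCoh_tw n k F hF c
  exact @Mumford.hvan n k _ (CohB1.tensorMod F (Twist.twistProjSpace n k c)) h i hi

lemma regAll_of_isMRegular (F : (CohB1.ProjSpace n k).Modules) (hF : Coh.IsQCoh F) (m : ℤ)
    (h : Curv2.IsMRegular k n F m) : RegAll n k F m := by
  intro i hi
  by_cases hin : i ≤ n
  · exact h i hi hin
  · exact sub_of_gt n k F hF _ i (by omega)

lemma isMRegular_of_regAll (F : (CohB1.ProjSpace n k).Modules) (m : ℤ)
    (h : RegAll n k F m) : Curv2.IsMRegular k n F m := fun i hi _ => h i hi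

/-- vanishing in degrees `≥ 2` of twists of a coherent module with support of dimension `≤ 1`. -/
lemma van_tw (H : (CohB1.ProjSpace n k).Modules) (hH : Coh.IsCoh H)
    (hdim : topologicalKrullDim (CohB1.support H) ≤ 1) (c : ℤ) (j : ℕ) :
    Subsingleton (Coh.HH (CohB1.ProjSpace n k)
      (CohB1.tensorMod H (Twist.twistProjSpace n k c)) (j + 2)) := by
  have hT : Coh.IsCoh (CohB1.tensorMod H (Twist.twistProjSpace n k c)) :=
    Groth.Agent.Lib.Helper7.MumLem.isCoh_tw n k H hH c
  refine subsingleton_HH_of_dim_support_le_one k (CohB1.ProjSpace n k) _ hT ?_ j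
  rw [Groth.Agent.Lib.Helper23.HilbP.support_tensor_inv (isInvertible_O n k c) hH]
  exact hdim


section Main

variable {n k}
variable (E : ChainComplex ((CohB1.ProjSpace n k).Modules) ℕ)

/-- the map `E_{s+2} → Z_s = ker (E_{s+1} → E_s)`. -/
def fl (s : ℕ) : E.X (s + 2) ⟶ kernel (E.d (s + 1) s) :=
  kernel.lift (E.d (s + 1) s) (E.d (s + 2) (s + 1)) (E.d_comp_d _ _ _)

lemma fl_ι (s : ℕ) : fl E s ≫ kernel.ι (E.d (s + 1) s) = E.d (s + 2) (s + 1) :=
  kernel.lift_ι _ _ _

/-- the homology in degree `s + 1` is the cokernel of `E_{s+2} → Z_s`. -/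
def homIso (s : ℕ) : E.homology (s + 1) ≅ cokernel (fl E s) :=
  E.homologyIsoSc' (s + 2) (s + 1) s (ChainComplex.prev ℕ (s + 1)) (ChainComplex.next_nat_succ s) ≪≫
    (ShortComplex.LeftHomologyData.ofHasKernelOfHasCokernel (E.sc' (s + 2) (s + 1) s)).homologyIso

/-- `ker (E_{s+2} → Z_s) ≅ Z_{s+1}`. -/
def kerIso (s : ℕ) : kernel (fl E s) ≅ kernel (E.d (s + 2) (s + 1)) :=
  (kernelCompMono (fl E s) (kernel.ι (E.d (s + 1) s))).symm ≪≫
    kernelIsoOfEq (fl_ι E s)

/-- the image–cokernel short complex. -/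
def imCoker {A : Type*} [Category A] [Abelian A] {M N : A} (β : M ⟶ N) : ShortComplex A :=
  ShortComplex.mk (Abelian.image.ι β) (cokernel.π β) (kernel.condition (cokernel.π β))

lemma shortExact_imCoker {A : Type*} [Category A] [Abelian A] {M N : A} (β : M ⟶ N) :
    (imCoker β).ShortExact :=
  ShortComplex.ShortExact.mk' (ShortComplex.kernelSequence_exact (cokernel.π β))
    (inferInstanceAs (Mono (kernel.ι (cokernel.π β)))) (inferInstanceAs (Epi (cokernel.π β)))


/-- transfer of vanishing along an isomorphism, after twisting. -/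
lemma sub_tw_of_iso {F G : (CohB1.ProjSpace n k).Modules} (e : F ≅ G) (c : ℤ) (i : ℕ)
    (h : Subsingleton (Coh.HH (CohB1.ProjSpace n k)
      (CohB1.tensorMod G (Twist.twistProjSpace n k c)) i)) :
    Subsingleton (Coh.HH (CohB1.ProjSpace n k)
      (CohB1.tensorMod F (Twist.twistProjSpace n k c)) i) :=
  CBCInvFibre.subsingleton_HH_of_iso ((twR (Twist.twistProjSpace n k c)).mapIso e) i h

lemma sub_tw_of_isZero {F : (CohB1.ProjSpace n k).Modules} (hF : IsZero F) (c : ℤ) (i : ℕ) :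
    Subsingleton (Coh.HH (CohB1.ProjSpace n k)
      (CohB1.tensorMod F (Twist.twistProjSpace n k c)) i) :=
  Hypersurf.subsingleton_HH_of_isZero _
    ((twR (Twist.twistProjSpace n k c)).map_isZero hF) i

variable (d : ℤ)

/-- the vanishing claim for the cycles `Z_s`. -/
def RZ (s : ℕ) : Prop :=
  ∀ i : ℕ, s + 1 ≤ i → Subsingleton (Coh.HH (CohB1.ProjSpace n k)
    (CohB1.tensorMod (kernel (E.d (s + 1) s)) (Twist.twistProjSpace n k (d + s + 1 - i))) (i + 1))

variable (hcoh : ∀ s : ℕ, Coh.IsCoh (E.X s))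
  (hreg : ∀ s : ℕ, Curv2.IsMRegular k n (E.X s) (d + s))
  (hsupp : ∀ i : ℕ, 0 < i → topologicalKrullDim (CohB1.support (E.homology i)) ≤ 1)

include hcoh hreg hsupp in
theorem rz_step (s : ℕ) (h : RZ E d (s + 1)) : RZ E d s := by
  intro i hi
  haveI : IsNoetherian (CohB1.ProjSpace n k) :=
    Groth.Agent.Lib.Helper23.HilbP.isNoetherian_of_isProper k _
  have hZ : Coh.IsCoh (kernel (E.d (s + 1) s)) := isCoh_kernel _ (hcoh (s + 1)) (hcoh s).1
  have hH : Coh.IsCoh (cokernel (fl E s)) := isCoh_cokernel _ (hcoh (s + 2)).1 hZ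
  have hHd : topologicalKrullDim (CohB1.support (cokernel (fl E s))) ≤ 1 := by
    rw [← DevBasic.support_eq_of_iso (homIso E s)]
    exact hsupp (s + 1) (Nat.succ_pos s)
  have h3 : Subsingleton (Coh.HH (CohB1.ProjSpace n k)
      (CohB1.tensorMod (cokernel (fl E s)) (Twist.twistProjSpace n k (d + s + 1 - i))) (i + 1)) := by
    obtain ⟨j, rfl⟩ : ∃ j, i = j + 1 := ⟨i - 1, by omega⟩
    exact van_tw n k _ hH hHd _ j
  have h1 : Subsingleton (Coh.HH (CohB1.ProjSpace n k)
      (CohB1.tensorMod (Abelian.image (fl E s)) (Twist.twistProjSpace n k (d + s + 1 - i)))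
      (i + 1)) := by
    have hS := Mumford.shortExact_tw n k (d + s + 1 - i) _ (shortExact_kerIm (fl E s))
    refine sub_X₃ _ hS (i + 1) ?_ ?_
    · have h2 := regAll_of_isMRegular n k (E.X (s + 2)) (hcoh (s + 2)).1 (d + (s + 2 : ℕ))
        (hreg (s + 2)) (i + 1) (by omega)
      rw [show (d + ((s + 2 : ℕ) : ℤ) - ((i + 1 : ℕ) : ℤ)) = d + s + 1 - i by push_cast; ring] at h2
      exact h2
    · have h2 := h (i + 1) (by omega)
      rw [show (d + ((s + 1 : ℕ) : ℤ) + 1 - ((i + 1 : ℕ) : ℤ)) = d + s + 1 - i by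
        push_cast; ring] at h2
      exact sub_tw_of_iso (kerIso E s) _ _ h2
  have hS := Mumford.shortExact_tw n k (d + s + 1 - i) _ (shortExact_imCoker (fl E s))
  exact subsingleton_H1_middle _ hS (i + 1) h1 h3

include hcoh hreg hsupp in
theorem rz_all (t : ℕ) (hbdd : ∀ s : ℕ, t < s → IsZero (E.X s)) :
    ∀ (m s : ℕ), t ≤ s + m → RZ E d s
  | 0, s, h => by
    intro i _
    have hz : IsZero (E.X (s + 1)) := hbdd (s + 1) (by omega)
    have hk : IsZero (kernel (E.d (s + 1) s)) := IsZero.of_mono (kernel.ι (E.d (s + 1) s)) hz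
    exact sub_tw_of_isZero hk _ _
  | m + 1, s, h => rz_step E d hcoh hreg hsupp s (rz_all t hbdd m (s + 1) (by omega))

include hcoh hreg hsupp in
theorem main (t : ℕ) (hbdd : ∀ s : ℕ, t < s → IsZero (E.X s)) :
    RegAll n k (cokernel (E.d 1 0)) d ∧ RegAll n k (Abelian.image (E.d 1 0)) (d + 1) := by
  have hR0 : RZ E d 0 := rz_all E d hcoh hreg hsupp t hbdd t 0 (by omega)
  have hI : RegAll n k (Abelian.image (E.d 1 0)) (d + 1) := by
    intro i hi
    have hS := Mumford.shortExact_tw n k (d + 1 - i) _ (shortExact_kerIm (E.d 1 0))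
    refine sub_X₃ _ hS i ?_ ?_
    · have h2 := regAll_of_isMRegular n k (E.X 1) (hcoh 1).1 (d + (1 : ℕ)) (hreg 1) i hi
      rw [show (d + ((1 : ℕ) : ℤ) - (i : ℤ)) = d + 1 - i by push_cast; ring] at h2
      exact h2
    · have h2 := hR0 i (by omega)
      rw [show (d + ((0 : ℕ) : ℤ) + 1 - (i : ℤ)) = d + 1 - i by push_cast; ring] at h2
      exact h2
  refine ⟨?_, hI⟩
  intro i hi
  have hS := Mumford.shortExact_tw n k (d - i) _ (shortExact_imCoker (E.d 1 0))
  refine sub_X₃ _ hS i ?_ ?_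
  · have h2 := regAll_of_isMRegular n k (E.X 0) (hcoh 0).1 (d + (0 : ℕ)) (hreg 0) i hi
    rw [show (d + ((0 : ℕ) : ℤ) - (i : ℤ)) = d - i by push_cast; ring] at h2
    exact h2
  · have h2 := hI (i + 1) (by omega)
    rw [show (d + 1 - ((i + 1 : ℕ) : ℤ)) = d - i by push_cast; ring] at h2
    exact h2

end Main

end Groth.Agent.Lib.Helper23.RegCx
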