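import Mathlib
import Groth.Prelude
import Groth.Agent.Lib.Helper9.RegLocal
import Groth.Agent.Lib.Helper26.RegSeq
import Groth.Agent.Lib.Helper26.RegularNormal

/-!
# Helper library (helper23): a surjection of regular local rings has kernel generated by a regular
sequence (part of a regular system of parameters).
-/

set_option autoImplicit false
set_option linter.unusedSectionVars false
set_option linter.style.haveILetI false
universe u

namespace Groth.Agent.Lib.Helper23.RegDual

open IsLocalRing RingTheory.Sequence Groth.Agent.Lib.Helper9.RegLocal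

theorem withBot_cancel_nat (D : WithBot ℕ∞) (c d : ℕ)
    (h : D + (c : WithBot ℕ∞) = ((d + c : ℕ) : WithBot ℕ∞)) : D = (d : WithBot ℕ∞) := by
  induction D using WithBot.recBotCoe with
  | bot =>
    rw [WithBot.bot_add] at h
    exact absurd h.symm (WithBot.natCast_ne_bot _)
  | coe a =>
    induction a using ENat.recTopCoe with
    | top =>
      exfalso
      have h1 : ((⊤ : ℕ∞) : WithBot ℕ∞) + (c : WithBot ℕ∞) = ((⊤ : ℕ∞) : WithBot ℕ∞) := by
        have : ((c : ℕ) : WithBot ℕ∞) = (((c : ℕ) : ℕ∞) : WithBot ℕ∞) := rfl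
        rw [this, ← WithBot.coe_add, top_add]
      rw [h1] at h
      have h2 : ((d + c : ℕ) : WithBot ℕ∞) = (((d + c : ℕ) : ℕ∞) : WithBot ℕ∞) := rfl
      rw [h2] at h
      exact ENat.top_ne_coe _ (WithBot.coe_injective h)
    | coe n =>
      have h1 : (((n : ℕ∞) : WithBot ℕ∞)) + (c : WithBot ℕ∞) = ((n + c : ℕ) : WithBot ℕ∞) := by
        push_cast; rfl
      rw [h1] at h
      have h2 : n + c = d + c := by exact_mod_cast h
      have h3 : n = d := by omega
      rw [h3]; rfl

theorem range_fin_append {α : Type*} {m n : ℕ} (a : Fin m → α) (b : Fin n → α) :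
    Set.range (Fin.append a b) = Set.range a ∪ Set.range b := by
  ext z
  constructor
  · rintro ⟨i, rfl⟩
    refine Fin.addCases (fun i => ?_) (fun j => ?_) i
    · left; exact ⟨i, by rw [Fin.append_left]⟩
    · right; exact ⟨j, by rw [Fin.append_right]⟩
  · rintro (⟨i, rfl⟩ | ⟨j, rfl⟩)
    · exact ⟨Fin.castAdd n i, Fin.append_left a b i⟩
    · exact ⟨Fin.natAdd m j, Fin.append_right a b j⟩

theorem ofList_ofFn {R : Type*} [CommRing R] {n : ℕ} (f : Fin n → R) :
    Ideal.ofList (List.ofFn f) = Ideal.span (Set.range f) := by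
  rw [Ideal.ofList]
  congr 1
  ext a
  simp [List.mem_ofFn]

/-- **A surjection of regular local rings has kernel generated by a regular sequence** of length
the drop of dimension. -/
theorem exists_regular_ker_of_surjective {A B : Type u} [CommRing A] [CommRing B]
    [IsRegularLocalRing A] [IsRegularLocalRing B] (φ : A →+* B) (hφ : Function.Surjective φ)
    (c : ℕ) (hc : ringKrullDim B + (c : WithBot ℕ∞) = ringKrullDim A) :
    ∃ rs : List A, rs.length = c ∧ IsWeaklyRegular A rs ∧ RingHom.ker φ = Ideal.ofList rs := by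
  classical
  set I := RingHom.ker φ with hI
  obtain ⟨d, hd⟩ := Groth.Agent.Lib.Helper26.SerreReg.exists_nat_ringKrullDim B
  have hn : ringKrullDim A = ((d + c : ℕ) : WithBot ℕ∞) := by
    rw [← hc, hd]; push_cast; rfl
  haveI : IsLocalHom φ := IsLocalHom.of_surjective φ hφ
  have hIm : I ≤ maximalIdeal A := IsLocalRing.le_maximalIdeal (RingHom.ker_ne_top φ)
  -- generators of the maximal ideal of `B`
  obtain ⟨y, hy, -⟩ := Groth.Agent.Lib.Helper26.RegularNormal.exists_isRegular_span_eq_maximalIdeal B hd
  choose y' hy' using fun j => hφ (y j)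
  have hy'm : ∀ j, y' j ∈ maximalIdeal A := by
    intro j
    rw [← IsLocalRing.maximalIdeal_comap φ, Ideal.mem_comap, hy' j, ← hy]
    exact Ideal.subset_span ⟨j, rfl⟩
  have hsup : I ⊔ Ideal.span (Set.range y') = maximalIdeal A := by
    have h1 : Set.range y = φ '' Set.range y' := by
      rw [← Set.range_comp]
      congr 1
      funext j
      exact (hy' j).symm
    rw [← IsLocalRing.maximalIdeal_comap φ, ← hy, h1, ← Ideal.map_span,
      Ideal.comap_map_of_surjective φ hφ, ← RingHom.ker_eq_comap_bot, sup_comm]
  -- cotangent space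
  let xI : I → maximalIdeal A := fun u => ⟨u.1, hIm u.2⟩
  let ym : Fin d → maximalIdeal A := fun j => ⟨y' j, hy'm j⟩
  set k := ResidueField A
  set V := CotangentSpace A
  set WI : Submodule k V := Submodule.span k
    (Set.range fun u : I => (maximalIdeal A).toCotangent (xI u)) with hWI
  set Wy : Submodule k V := Submodule.span k
    (Set.range fun j : Fin d => (maximalIdeal A).toCotangent (ym j)) with hWy
  have htop : WI ⊔ Wy = ⊤ := by
    refine (span_cotangent_sup_eq_top_iff xI ym).2 ?_
    have h1 : (Set.range fun u : I => ((xI u : maximalIdeal A) : A)) = (I : Set A) := by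
      ext a
      constructor
      · rintro ⟨u, rfl⟩; exact u.2
      · intro ha; exact ⟨⟨a, ha⟩, rfl⟩
    have h2 : (Set.range fun j : Fin d => ((ym j : maximalIdeal A) : A)) = Set.range y' := rfl
    rw [h1, h2, Ideal.span_eq]
    exact hsup
  have hfinV : Module.finrank k V = d + c := by
    have h1 := (IsRegularLocalRing.iff_finrank_cotangentSpace A).mp inferInstance
    rw [hn] at h1
    exact_mod_cast h1
  have hWy_le : Module.finrank k Wy ≤ d := by
    have := finrank_range_le_card (R := k) (fun j : Fin d => (maximalIdeal A).toCotangent (ym j))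
    rwa [Fintype.card_fin] at this
  have hWI_ge : c ≤ Module.finrank k WI := by
    have h1 := Submodule.finrank_add_le_finrank_add_finrank WI Wy
    rw [htop, finrank_top, hfinV] at h1
    omega
  -- extract `c` independent elements
  obtain ⟨b, hbS, hbspan, hbli⟩ := exists_linearIndependent k
    (Set.range fun u : I => (maximalIdeal A).toCotangent (xI u))
  haveI hbfin : Finite b := hbli.finite
  haveI : Fintype b := Fintype.ofFinite b
  have hcard : c ≤ Fintype.card b := by
    have h1 : Module.finrank k (Submodule.span k b) = Fintype.card b := by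
      have := finrank_span_eq_card (R := k) hbli
      rwa [Subtype.range_coe] at this
    rw [hbspan] at h1
    rw [← h1]; exact hWI_ge
  obtain ⟨g⟩ := Function.Embedding.nonempty_of_card_le
    (show Fintype.card (Fin c) ≤ Fintype.card b by rw [Fintype.card_fin]; exact hcard)
  have hu : ∀ i : Fin c, ∃ u : I, (maximalIdeal A).toCotangent (xI u) = (g i : V) :=
    fun i => hbS (g i).2
  choose u hu' using hu
  let x : Fin c → maximalIdeal A := fun i => xI (u i)
  have hx : LinearIndependent k (fun i => (maximalIdeal A).toCotangent (x i)) := by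
    have h1 : LinearIndependent k (fun i : Fin c => ((g i : b) : V)) := hbli.comp g g.injective
    have h2 : (fun i => (maximalIdeal A).toCotangent (x i)) = fun i : Fin c => ((g i : b) : V) :=
      funext hu'
    rw [h2]; exact h1
  obtain ⟨hdimJ, hregJ⟩ := quotient_regular A c x hx
  set J := Ideal.span (Set.range fun i => ((x i : maximalIdeal A) : A)) with hJ
  have hJI : J ≤ I := by
    rw [hJ, Ideal.span_le]
    rintro _ ⟨i, rfl⟩
    exact (u i).2
  have hdJ : ringKrullDim (A ⧸ J) = (d : WithBot ℕ∞) := by
    rw [hn] at hdimJ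
    exact withBot_cancel_nat _ c d hdimJ
  haveI := hregJ
  haveI : IsDomain (A ⧸ J) := isDomain_of_isRegularLocalRing (A ⧸ J)
  -- `I ≤ J`
  have hIJ : I ≤ J := by
    intro a ha
    by_contra haJ
    have hne : (Ideal.Quotient.mk J a) ≠ 0 := fun h0 => haJ (Ideal.Quotient.eq_zero_iff_mem.mp h0)
    have hnzd : Ideal.Quotient.mk J a ∈ nonZeroDivisors (A ⧸ J) :=
      mem_nonZeroDivisors_of_ne_zero hne
    have h1 := ringKrullDim_quotient_succ_le_of_nonZeroDivisor hnzd
    let ψ₀ : A ⧸ J →+* B := Ideal.Quotient.lift J φ (fun z hz => hJI hz)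
    have hψ₀ : Function.Surjective ψ₀ := Ideal.Quotient.lift_surjective_of_surjective J _ hφ
    let ψ : (A ⧸ J) ⧸ Ideal.span {Ideal.Quotient.mk J a} →+* B :=
      Ideal.Quotient.lift _ ψ₀ (by
        intro z hz
        obtain ⟨w, rfl⟩ := Ideal.mem_span_singleton'.mp hz
        rw [map_mul]
        have : ψ₀ (Ideal.Quotient.mk J a) = 0 := by
          show φ a = 0
          exact ha
        rw [this, mul_zero])
    have hψ : Function.Surjective ψ := Ideal.Quotient.lift_surjective_of_surjective _ _ hψ₀
    have h2 := ringKrullDim_le_of_surjective ψ hψ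
    rw [hd] at h2
    rw [hdJ] at h1
    have h3 : (d : WithBot ℕ∞) + 1 ≤ (d : WithBot ℕ∞) := (add_le_add_left h2 1).trans h1
    have h4 : d + 1 ≤ d := by exact_mod_cast h3
    omega
  have hIeq : I = J := le_antisymm hIJ hJI
  -- the regular sequence
  let xs : Fin c → A := fun i => ((x i : maximalIdeal A) : A)
  refine ⟨List.ofFn xs, List.length_ofFn, ?_, ?_⟩
  · let z : Fin (c + d) → A := Fin.append xs y'
    have hz : Ideal.span (Set.range z) = maximalIdeal A := by
      rw [range_fin_append, Ideal.span_union, ← hsup, hIeq]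
    have hcd : ringKrullDim A = ((c + d : ℕ) : WithBot ℕ∞) := by rw [hn, Nat.add_comm]
    have hreg := Groth.Agent.Lib.Helper26.RegSeq.isRegular_ofFn hcd z hz
    have h1 : List.ofFn z = List.ofFn xs ++ List.ofFn y' := List.ofFn_fin_append xs y'
    have h2 := hreg.toIsWeaklyRegular
    rw [h1] at h2
    exact ((isWeaklyRegular_append_iff A _ _).mp h2).1
  · rw [ofList_ofFn]
    exact hIeq

end Groth.Agent.Lib.Helper23.RegDual
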