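import Groth.Agent.Lib.Helper23.RegDualA
import Groth.Agent.Lib.Helper2.RegExt.Generic

/-!
# Helper library (helper23): for a closed immersion `ι : X → P` of regular schemes of constant
codimension `c`, a module `ω` with `ι_* ω ≅ ℰxt^c(ι_* O_X, ω_P)` (`ω_P` invertible) is locally
free of rank one.
-/

set_option autoImplicit false
set_option linter.unusedSectionVars false
set_option linter.style.haveILetI false
universe u
open CategoryTheory CategoryTheory.Limits AlgebraicGeometry TopologicalSpace Opposite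
open Scheme.Modules

noncomputable section

namespace Groth.Agent.Lib.Helper23.RegDual

open Groth.Agent.Lib.Helper3 Groth.Agent.Lib.Helper2.ExtTilde Groth.Agent.Lib.Helper2.ExtShCoh
  Groth.Agent.Lib.Helper2.RegExt

variable {X P : Scheme.{u}} [IsLocallyNoetherian P] (ι : X ⟶ P) [IsClosedImmersion ι]
  [ModSite.HasSheafHom (O := P.sheaf) ((pushforward ι).obj (Coh.structureModule X))]
  [HasInjectiveResolutions (ModSite.Mod P.sheaf)]

/-- spreading out a regular sequence generating the ideal at a point where both local rings are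
regular. -/
theorem exists_affine_regular_of_regular (z : X)
    [IsRegularLocalRing (X.presheaf.stalk z)] [IsRegularLocalRing (P.presheaf.stalk (ι z))]
    (c : ℕ)
    (hc : ringKrullDim (X.presheaf.stalk z) + (c : WithBot ℕ∞) =
      ringKrullDim (P.presheaf.stalk (ι z))) (W : P.Opens) (hzW : ι z ∈ W) :
    ∃ (V : P.Opens) (_ : IsAffineOpen V) (rs : List Γ(P, V)),
      ι z ∈ V ∧ V ≤ W ∧ rs.length = c ∧ RingTheory.Sequence.IsWeaklyRegular Γ(P, V) rs ∧
        RingHom.ker (ι.app V).hom = Ideal.ofList rs := by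
  obtain ⟨rsS, hlen, hreg, hker⟩ :=
    exists_regular_ker_of_surjective (ι.stalkMap z).hom (ι.stalkMap_surjective z) c hc
  obtain ⟨V, hV, rs, h1, h2, h3, h4, h5⟩ :=
    exists_affine_regular_of_stalk ι z W hzW rsS hreg hker
  exact ⟨V, hV, rs, h1, h2, h3.trans hlen, h4, h5⟩

/-- a basis of one section near a point where both local rings are regular. -/
theorem exists_basis_sections_of_regular (c : ℕ) (ωP : P.Modules)
    (hωP : FlatMod.IsFinLocFreeOfRank 1 ωP) (ω : X.Modules)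
    (e : (pushforward ι).obj ω ≅ (ModSite.extSh (O := P.sheaf)
      ((pushforward ι).obj (Coh.structureModule X)) c).obj ωP)
    (z : X) [IsRegularLocalRing (X.presheaf.stalk z)]
    [IsRegularLocalRing (P.presheaf.stalk (ι z))]
    (hc : ringKrullDim (X.presheaf.stalk z) + (c : WithBot ℕ∞) =
      ringKrullDim (P.presheaf.stalk (ι z))) :
    ∃ (V : P.Opens) (_ : IsAffineOpen V), ι z ∈ V ∧
      Nonempty (Module.Basis (Fin 1) Γ(X, ι ⁻¹ᵁ V) Γ(ω, ι ⁻¹ᵁ V)) := by
  have hlf : FlatMod.IsFinLocFree ωP :=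
    Groth.Agent.Lib.Helper17.LocFreeRank.isFinLocFree_of_rank hωP
  haveI : ωP.IsQuasicoherent := LocFreeCrit.isQuasicoherent_of_isFinLocFree hlf
  obtain ⟨W, eW, hxW, hb⟩ := FreeBasis.isFinLocFreeOfRank_iff.mp hωP (ι z)
  obtain ⟨V, hV, rs, hxV, hVW, hlen, hreg, hker⟩ :=
    exists_affine_regular_of_regular ι z c hc W hxW
  refine ⟨V, hV, hxV, ?_⟩
  let bW : Module.Basis (Fin 1) Γ(P, V) Γ(ωP, V) :=
    NormAlg.basisOfBijective _ (hb.mono hVW).self
  letI : Algebra Γ(P, V) Γ(X, ι ⁻¹ᵁ V) := (ι.app V).hom.toAlgebra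
  letI : Module Γ(P, V) Γ(ω, ι ⁻¹ᵁ V) :=
    inferInstanceAs (Module Γ(P, V) Γ((pushforward ι).obj ω, V))
  haveI : IsScalarTower Γ(P, V) Γ(X, ι ⁻¹ᵁ V) Γ(ω, ι ⁻¹ᵁ V) := ⟨fun a b q => by
    change ((ι.app V a : Γ(X, ι ⁻¹ᵁ V)) * b) • q = (ι.app V a : Γ(X, ι ⁻¹ᵁ V)) • (b • q)
    rw [mul_smul]⟩
  have hAB : Function.Surjective (algebraMap Γ(P, V) Γ(X, ι ⁻¹ᵁ V)) :=
    ι.app_surjective V hV
  have e1 := nonempty_sections_extSh_pushforward_linearEquiv ι hV ωP rs hker
    (isWeaklyRegular_sections_of_isFinLocFree hlf hV rs hreg)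
  rw [hlen] at e1
  obtain ⟨e1⟩ := e1
  let e2 : Γ(ω, ι ⁻¹ᵁ V) ≃ₗ[Γ(P, V)] Γ(((ModSite.extSh (O := P.sheaf)
      ((pushforward ι).obj (Coh.structureModule X)) c).obj ωP : P.Modules), V) :=
    sectionsLinearEquiv e V
  have hkerAlg : RingHom.ker (algebraMap Γ(P, V) Γ(X, ι ⁻¹ᵁ V)) = Ideal.ofList rs := hker
  let e3 : (Γ(ωP, V) ⧸ (Ideal.ofList rs • ⊤ : Submodule Γ(P, V) Γ(ωP, V))) ≃ₗ[Γ(P, V)]
      (Γ(ωP, V) ⧸ (RingHom.ker (algebraMap Γ(P, V) Γ(X, ι ⁻¹ᵁ V)) • ⊤ :
        Submodule Γ(P, V) Γ(ωP, V))) :=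
    Submodule.quotEquivOfEq _ _ (by rw [hkerAlg])
  exact nonempty_basis_of_equiv_quot hAB bW ((e2.trans e1).trans e3)

/-- **the `ℰxt` model of the dualizing sheaf of a regular closed subscheme of a regular scheme is
invertible**, provided the codimension is `c` at the closed points. -/
theorem isFinLocFreeOfRank_one_of_regular [CompactSpace X]
    (hregX : ∀ x : X, IsRegularLocalRing (X.presheaf.stalk x))
    (hregP : ∀ p : P, IsRegularLocalRing (P.presheaf.stalk p)) (c : ℕ)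
    (hcodim : ∀ x : X, IsClosed ({x} : Set ↥X) →
      ringKrullDim (X.presheaf.stalk x) + (c : WithBot ℕ∞) =
        ringKrullDim (P.presheaf.stalk (ι x)))
    (ωP : P.Modules) (hωP : FlatMod.IsFinLocFreeOfRank 1 ωP) (ω : X.Modules)
    (e : (pushforward ι).obj ω ≅ (ModSite.extSh (O := P.sheaf)
      ((pushforward ι).obj (Coh.structureModule X)) c).obj ωP) :
    FlatMod.IsFinLocFreeOfRank 1 ω := by
  have hlf : FlatMod.IsFinLocFree ωP :=
    Groth.Agent.Lib.Helper17.LocFreeRank.isFinLocFree_of_rank hωP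
  haveI : ω.IsQuasicoherent := isQuasicoherent_of_pushforward_iso_extSh ι c ωP hlf ω e
  rw [FreeBasis.isFinLocFreeOfRank_iff]
  intro x
  obtain ⟨z, hzx, hz⟩ := IsClosed.exists_closed_singleton (isClosed_closure (s := ({x} : Set ↥X)))
    ⟨x, subset_closure rfl⟩
  haveI := hregX z
  haveI := hregP (ι z)
  obtain ⟨V, hV, hzV, ⟨b⟩⟩ := exists_basis_sections_of_regular ι c ωP hωP ω e z (hcodim z hz)
  have hW : IsAffineOpen (ι ⁻¹ᵁ V) := hV.preimage ι
  have hB : FreeBasis.IsBasis ω (ι ⁻¹ᵁ V) (fun i => b i) :=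
    SecLoc.isBasis_of_isBasisAt ω hW (SecLoc.isBasisAt_of_basis ω _ b)
  have hsp : x ⤳ z := specializes_iff_mem_closure.mpr hzx
  have hxV : x ∈ ι ⁻¹ᵁ V := hsp.mem_open (ι ⁻¹ᵁ V).2 hzV
  exact ⟨ι ⁻¹ᵁ V, fun i => b i, hxV, hB⟩

end Groth.Agent.Lib.Helper23.RegDual
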