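import Mathlib
import Groth.Prelude
import Groth.Agent.Lib.Helper23.CurveNefA
import Groth.Agent.Lib.Helper17.DevStep
import Groth.Agent.Lib.Helper7.PushLinear
import Groth.Agent.Lib.Helper7.Hypersurf
import Groth.Agent.Lib.Helper3.PbBasic
import Groth.Agent.Lib.Helper26.RelNefA
import Groth.Agent.Lib.Helper21.RelNefB
import Groth.Agent.Lib.Helper25.RelNefC
import Groth.Agent.Lib.Helper9.RelNefE
import Groth.Agent.Lib.Helper17.RelNefF
import Groth.Agent.Lib.Helper20.RelNefG1
import Groth.Agent.Lib.Helper4.RelNefN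
import Groth.Agent.Lib.Helper13.RelNefH
import Groth.Agent.Lib.Helper17.WeilFinA
import Groth.Agent.Lib.Lead.HHStalk
import Groth.Agent.S7411
import Groth.Agent.S0002

/-!
# Helper library (helper23): the relative version of Lipman's theorem on nef invertible modules
(S19496).  Assembly of lemmas contributed by helper4/6 (N), helper14/26 (A), helper21 (B),
helper25/7/9 (C), helper9/13 (E), helper17/18/10/6 (F), helper20/24 (G1), helper13/11 (H).
-/

set_option autoImplicit false
set_option linter.unusedSectionVars false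
set_option linter.style.haveILetI false
universe u
open CategoryTheory CategoryTheory.Limits AlgebraicGeometry

noncomputable section

namespace Groth.Agent.Lib.Helper23.RelNef

open Groth.Agent.Lib.Helper3 Groth.Agent.Lib.Helper3.QCSec Groth.Agent.Lib.Helper17
  Groth.Agent.Lib.Helper23.T2

variable {X : Scheme.{u}}

/-- the ideal sheaf of the scheme-theoretic fibre of `f` over the closed subscheme `V(m)`. -/
def fibIdeal {A : Type u} [CommRing A] {X : Scheme.{u}}
    (f : X ⟶ Spec (CommRingCat.of A)) (m : Ideal A) : X.IdealSheafData :=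
  (Spec.map (CommRingCat.ofHom (Ideal.Quotient.mk m))).ker.comap f



/-- (A) the fibre is a proper scheme over `A/m`. -/
theorem A_exists_structure {A : Type u} [CommRing A] {X : Scheme.{u}}
    (f : X ⟶ Spec (CommRingCat.of A)) [IsProper f] (m : Ideal A) :
    ∃ t : (fibIdeal f m).subscheme ⟶ Spec (CommRingCat.of (A ⧸ m)),
      t ≫ Spec.map (CommRingCat.ofHom (Ideal.Quotient.mk m)) = (fibIdeal f m).subschemeι ≫ f ∧
        IsProper t :=
  Groth.Agent.Lib.Helper26.RelNefA.A_exists_structure f m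

/-- (B) the fibre over a closed point has dimension `≤ 1`. -/
theorem B_dim_le {A : Type u} [CommRing A] {X : Scheme.{u}}
    (f : X ⟶ Spec (CommRingCat.of A)) (m : Ideal A) [m.IsMaximal]
    (hfib : ∀ y : ↥(Spec (CommRingCat.of A)), topologicalKrullDim ↥(f.fiber y) ≤ 1) :
    topologicalKrullDim ↥(fibIdeal f m).subscheme ≤ 1 :=
  Groth.Agent.Lib.Helper21.RelNefB.B_dim_le f m hfib

/-- (C) nefness passes to closed subschemes. -/
theorem C_nef_sub {A : Type u} [CommRing A] {X : Scheme.{u}}
    (f : X ⟶ Spec (CommRingCat.of A)) {K : Type u} [Field K] (i : A →+* K)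
    (J : X.IdealSheafData) (t : J.subscheme ⟶ Spec (CommRingCat.of K))
    (ht : t ≫ Spec.map (CommRingCat.ofHom i) = J.subschemeι ≫ f) (L : X.Modules)
    (hnef : ∀ (K : Type u) [Field K] (i : A →+* K) (J : X.IdealSheafData)
      (t : J.subscheme ⟶ Spec (CommRingCat.of K)),
      AlgebraicGeometry.IsIntegral J.subscheme → topologicalKrullDim ↥J.subscheme = 1 →
      t ≫ Spec.map (CommRingCat.ofHom i) = J.subschemeι ≫ f →
      0 ≤ @Curv2.deg K _ J.subscheme ⟨t⟩ ((Scheme.Modules.pullback J.subschemeι).obj L) 1) :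
    ∀ Γ : J.subscheme.IdealSheafData, AlgebraicGeometry.IsIntegral Γ.subscheme →
      topologicalKrullDim ↥Γ.subscheme = 1 →
      0 ≤ @Curv2.deg K _ Γ.subscheme ⟨Γ.subschemeι ≫ t⟩
        ((Scheme.Modules.pullback Γ.subschemeι).obj
          ((Scheme.Modules.pullback J.subschemeι).obj L)) 1 :=
  Groth.Agent.Lib.Helper25.RelNefC.C_nef_sub f i J t ht L hnef

/-- (E) a module endomorphism which is multiplication by the global function `g` acts on
cohomology as the scalar `g`. -/
theorem E_Hmap_eq_smul (X : Scheme.{u}) (L : X.Modules) (g : Coh.Γtop X) (μ : L ⟶ L)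
    (hμ : ∀ (U : X.Opens) (s : Γ(L, U)), μ.app U s = rres X (le_top : U ≤ ⊤) g • s)
    (p : ℕ) (x : Coh.HH X L p) : Hmap μ p x = g • x :=
  Groth.Agent.Lib.Helper9.RelNefE.E_Hmap_eq_smul X L g μ hμ p x

/-- (F) the kernel of `L → L/mL` is a quotient of `L^r` via multiplication by generators of `m`. -/
theorem F_exists_epi_kernel {A : Type u} [CommRing A] [IsNoetherianRing A] {X : Scheme.{u}}
    (f : X ⟶ Spec (CommRingCat.of A)) (m : Ideal A) (L : X.Modules) [L.IsQuasicoherent] :
    ∃ (r : ℕ) (a : Fin r → A) (μ : Fin r → (L ⟶ L))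
      (φ : (∐ fun _ : Fin r => L) ⟶ kernel (DevStep.proj (fibIdeal f m) L)),
      (∀ i, a i ∈ m) ∧
      (∀ (i : Fin r) (U : X.Opens) (s : Γ(L, U)),
        (μ i).app U s = rres X (le_top : U ≤ ⊤) (Coh.toGlobal f (a i)) • s) ∧
      Epi φ ∧ ∀ i, Sigma.ι (fun _ : Fin r => L) i ≫ φ ≫ kernel.ι _ = μ i :=
  Groth.Agent.Lib.Helper17.RelNefF.F_exists_epi_kernel f m L

/-- (G1) cohomology of a finite coproduct is generated by the summands. -/
theorem G1_exists_sum {X : Scheme.{u}} (L : X.Modules) (r : ℕ) (p : ℕ)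
    (z : Coh.HH X (∐ fun _ : Fin r => L) p) :
    ∃ zs : Fin r → Coh.HH X L p, z = ∑ i, Hmap (Sigma.ι (fun _ : Fin r => L) i) p (zs i) :=
  Groth.Agent.Lib.Helper20.RelNefG1.G1_exists_sum L r p z

/-- (N) Nakayama over all maximal ideals. -/
theorem N_subsingleton {A M : Type u} [CommRing A] [AddCommGroup M] [Module A M]
    [Module.Finite A M]
    (h : ∀ m : Ideal A, m.IsMaximal → (⊤ : Submodule A M) ≤ m • (⊤ : Submodule A M)) :
    Subsingleton M :=
  Groth.Agent.Lib.Helper4.RelNefN.N_subsingleton h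

/-- (H) global generation can be checked on the closed fibres. -/
theorem H_gg_of_fibres {A : Type u} [CommRing A] [IsNoetherianRing A] {X : Scheme.{u}}
    (f : X ⟶ Spec (CommRingCat.of A)) [IsProper f] (L : X.Modules) (hL : PicF.IsInvertible L)
    (h : ∀ m : Ideal A, m.IsMaximal →
      Function.Surjective (Hmap (DevStep.proj (fibIdeal f m) L) 0) ∧
        Curv2.IsGloballyGenerated ((Scheme.Modules.pullback (fibIdeal f m).subschemeι).obj L)) :
    Curv2.IsGloballyGenerated L :=
  Groth.Agent.Lib.Helper13.RelNefH.H_gg_of_fibres f L hL h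


/-- right exactness of `H¹` when `H²` vanishes on quasi-coherent modules. -/
theorem Hmap_surjective_of_epi
    (H2 : ∀ (F : X.Modules) [F.IsQuasicoherent], Subsingleton (Coh.HH X F 2))
    {M N : X.Modules} [M.IsQuasicoherent] [N.IsQuasicoherent] (p : M ⟶ N) [Epi p] :
    Function.Surjective (Hmap p 1) := by
  haveI : (kernel p).IsQuasicoherent := QCProps.isQuasicoherent_kernel p
  let S : ShortComplex X.Modules := ShortComplex.mk (kernel.ι p) p (kernel.condition p)
  haveI : Mono S.f := inferInstanceAs (Mono (kernel.ι p))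
  haveI : Epi S.g := inferInstanceAs (Epi p)
  have hS : S.ShortExact :=
    ShortComplex.ShortExact.mk (ShortComplex.exact_of_f_is_kernel S (kernelIsKernel p))
  intro x
  have hH2 : Subsingleton (Coh.HH X (kernel p) 2) := H2 (kernel p)
  exact exact₃ S hS 1 x (@Subsingleton.elim _ hH2 _ _)

/-- the closed fibres are curves satisfying the hypotheses of `h1_gg_of_nef`. -/
theorem fibre_h1_gg {A : Type u} [CommRing A] [IsNoetherianRing A]
    (f : X ⟶ Spec (CommRingCat.of A)) [IsProper f]
    (H2 : ∀ (F : X.Modules) [F.IsQuasicoherent], Subsingleton (Coh.HH X F 2))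
    (h1 : Subsingleton (Coh.HH X (Coh.structureModule X) 1))
    (hfib : ∀ y : ↥(Spec (CommRingCat.of A)), topologicalKrullDim ↥(f.fiber y) ≤ 1)
    (L : X.Modules) (hL : PicF.IsInvertible L)
    (hnef : ∀ (K : Type u) [Field K] (i : A →+* K) (J : X.IdealSheafData)
      (t : J.subscheme ⟶ Spec (CommRingCat.of K)),
      AlgebraicGeometry.IsIntegral J.subscheme → topologicalKrullDim ↥J.subscheme = 1 →
      t ≫ Spec.map (CommRingCat.ofHom i) = J.subschemeι ≫ f →
      0 ≤ @Curv2.deg K _ J.subscheme ⟨t⟩ ((Scheme.Modules.pullback J.subschemeι).obj L) 1)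
    (m : Ideal A) [hm : m.IsMaximal] :
    Subsingleton (Coh.HH X (DevStep.quot (fibIdeal f m) L) 1) ∧
      Curv2.IsGloballyGenerated
        ((Scheme.Modules.pullback (fibIdeal f m).subschemeι).obj L) := by
  set J := fibIdeal f m with hJ
  obtain ⟨t, ht, hproper⟩ := A_exists_structure f m
  letI : Field (A ⧸ m) := Ideal.Quotient.field m
  letI : J.subscheme.Over (Spec (CommRingCat.of (A ⧸ m))) := ⟨t⟩
  haveI : IsProper (J.subscheme ↘ Spec (CommRingCat.of (A ⧸ m))) := hproper
  have hdim : topologicalKrullDim ↥J.subscheme ≤ 1 := B_dim_le f m hfib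
  haveI : (Coh.structureModule X).IsQuasicoherent :=
    (Groth.Agent.Lib.Helper23.T2.isCoh_structureModule X).1
  haveI : (Coh.structureModule J.subscheme).IsQuasicoherent :=
    (Groth.Agent.Lib.Helper23.T2.isCoh_structureModule J.subscheme).1
  haveI : (ClSub.quotMod J).IsQuasicoherent :=
    QCSec.isQuasicoherent_pushforward J.subschemeι _
  -- `H¹(O)` of the fibre
  have h1y : Subsingleton (Coh.HH J.subscheme (Coh.structureModule J.subscheme) 1) := by
    haveI := Groth.Agent.Lib.Helper7.Hypersurf.epi_toSubscheme J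
    have hs := Hmap_surjective_of_epi H2 (ClSub.toSubscheme J)
    have hq : Subsingleton (Coh.HH X (ClSub.quotMod J) 1) := by
      refine subsingleton_of_forall_eq 0 fun x => ?_
      obtain ⟨y, rfl⟩ := hs x
      rw [@Subsingleton.elim _ h1 y 0, map_zero]
    exact (Groth.Agent.Lib.Helper7.PushLinear.pushEquiv J.subschemeι
      (Coh.structureModule J.subscheme) 1).injective.subsingleton
  have hLy : PicF.IsInvertible ((Scheme.Modules.pullback J.subschemeι).obj L) :=
    PbBasic.isInvertible_pullback J.subschemeι hL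
  have hC := C_nef_sub f (Ideal.Quotient.mk m) J t ht L hnef
  obtain ⟨hH1, hgg⟩ := Groth.Agent.Lib.Helper23.CurveNef.h1_gg_of_nef (A ⧸ m) hdim h1y
    ((Scheme.Modules.pullback J.subschemeι).obj L) hLy
    (Groth.Agent.Lib.Helper23.CurveNef.nef_of_deg_nonneg_sub (A ⧸ m)
      ((Scheme.Modules.pullback J.subschemeι).obj L) hC)
  refine ⟨?_, hgg⟩
  exact (Groth.Agent.Lib.Helper7.PushLinear.pushEquiv J.subschemeι
    ((Scheme.Modules.pullback J.subschemeι).obj L) 1).symm.injective.subsingleton

/-- the kernel of `L → L/mL` has the cohomological properties of a quotient of `L^r`. -/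
theorem kernel_props {A : Type u} [CommRing A] [IsNoetherianRing A]
    (f : X ⟶ Spec (CommRingCat.of A))
    (H2 : ∀ (F : X.Modules) [F.IsQuasicoherent], Subsingleton (Coh.HH X F 2))
    (L : X.Modules) (hcL : Coh.IsCoh L) (m : Ideal A) :
    haveI := hcL.1
    ∀ y : Coh.HH X (kernel (DevStep.proj (fibIdeal f m) L)) 1,
      ∃ (r : ℕ) (a : Fin r → A) (zs : Fin r → Coh.HH X L 1), (∀ i, a i ∈ m) ∧
        Hmap (kernel.ι (DevStep.proj (fibIdeal f m) L)) 1 y =
          ∑ i, Coh.toGlobal f (a i) • zs i ∧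
        (Subsingleton (Coh.HH X L 1) → y = 0) := by
  haveI := hcL.1
  intro y
  obtain ⟨r, a, μ, φ, ham, hμ, hepi, hφ⟩ := F_exists_epi_kernel f m L
  haveI := hepi
  haveI : (kernel (DevStep.proj (fibIdeal f m) L)).IsQuasicoherent :=
    QCProps.isQuasicoherent_kernel _
  haveI : (∐ fun _ : Fin r => L).IsQuasicoherent :=
    (Groth.Agent.Lib.Helper17.WeilFinA.isCoh_sigma (fun _ : Fin r => L) (fun _ => hcL)).1
  obtain ⟨z, rfl⟩ := Hmap_surjective_of_epi H2 φ y
  obtain ⟨zs, rfl⟩ := G1_exists_sum L r 1 z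
  refine ⟨r, a, zs, ham, ?_, ?_⟩
  · rw [map_sum, map_sum]
    refine Finset.sum_congr rfl fun i _ => ?_
    rw [← Hmap_comp, ← Hmap_comp, hφ i]
    exact E_Hmap_eq_smul X L _ (μ i) (hμ i) 1 (zs i)
  · intro hsub
    rw [map_sum]
    refine Finset.sum_eq_zero fun i _ => ?_
    rw [@Subsingleton.elim _ hsub (zs i) 0, map_zero, map_zero]

theorem main (A : Type u) [CommRing A] [IsNoetherianRing A]
    (f : X ⟶ Spec (CommRingCat.of A)) [IsProper f]
    (h1 : Subsingleton (Coh.HH X (Coh.structureModule X) 1))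
    (hfib : ∀ y : ↥(Spec (CommRingCat.of A)), topologicalKrullDim ↥(f.fiber y) ≤ 1)
    (L : X.Modules) (hL : PicF.IsInvertible L)
    (hnef : ∀ (K : Type u) [Field K] (i : A →+* K) (J : X.IdealSheafData)
      (t : J.subscheme ⟶ Spec (CommRingCat.of K)),
      AlgebraicGeometry.IsIntegral J.subscheme → topologicalKrullDim ↥J.subscheme = 1 →
      t ≫ Spec.map (CommRingCat.ofHom i) = J.subschemeι ≫ f →
      0 ≤ @Curv2.deg K _ J.subscheme ⟨t⟩ ((Scheme.Modules.pullback J.subschemeι).obj L) 1) :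
    Curv2.IsGloballyGenerated L ∧ Subsingleton (Coh.HH X L 1) := by
  have H2 : ∀ (F : X.Modules) [F.IsQuasicoherent], Subsingleton (Coh.HH X F 2) := by
    intro F _
    refine Groth.Agent.Lib.Lead.HHStalk.subsingleton_HH_of_forall_isZero_stalk f F 2
      (fun y => ?_)
    exact Groth.Agent.S7411.result f y 1 (by exact_mod_cast hfib y) F 2 (by omega)
  have hcL := Groth.Agent.Lib.Helper23.Curve.isCoh_of_isInvertible hL
  haveI := hcL.1
  letI : X.Over (Spec (CommRingCat.of A)) := ⟨f⟩
  haveI : IsProper (X ↘ Spec (CommRingCat.of A)) := ‹IsProper f›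
  haveI hfin : Module.Finite A (Coh.HH X L 1) := Groth.Agent.S0002.result A X L hcL 1
  have hfibre := fun (m : Ideal A) (hm : m.IsMaximal) =>
    @fibre_h1_gg X A _ _ f _ H2 h1 hfib L hL hnef m hm
  -- `H¹(L) = 0`
  have hH1 : Subsingleton (Coh.HH X L 1) := by
    apply N_subsingleton (A := A)
    intro m hm x _
    obtain ⟨hq, -⟩ := hfibre m hm
    let S : ShortComplex X.Modules := ShortComplex.mk (kernel.ι (DevStep.proj (fibIdeal f m) L))
      (DevStep.proj (fibIdeal f m) L) (kernel.condition _)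
    haveI : Mono S.f := inferInstanceAs (Mono (kernel.ι (DevStep.proj (fibIdeal f m) L)))
    haveI : Epi S.g := inferInstanceAs (Epi (DevStep.proj (fibIdeal f m) L))
    have hS : S.ShortExact :=
      ShortComplex.ShortExact.mk (ShortComplex.exact_of_f_is_kernel S (kernelIsKernel _))
    obtain ⟨y, hy⟩ := exact₂ S hS 1 x (@Subsingleton.elim _ hq _ _)
    obtain ⟨r, a, zs, ham, hsum, -⟩ := kernel_props f H2 L hcL m y
    have hx : x = ∑ i, Coh.toGlobal f (a i) • zs i := hy.symm.trans hsum
    rw [hx]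
    refine Submodule.sum_mem _ fun i _ => ?_
    exact Submodule.smul_mem_smul (ham i) (Submodule.mem_top : zs i ∈ (⊤ : Submodule A _))
  refine ⟨?_, hH1⟩
  -- global generation
  apply H_gg_of_fibres f L hL
  intro m hm
  obtain ⟨hq, hgg⟩ := hfibre m hm
  refine ⟨?_, hgg⟩
  let S : ShortComplex X.Modules := ShortComplex.mk (kernel.ι (DevStep.proj (fibIdeal f m) L))
    (DevStep.proj (fibIdeal f m) L) (kernel.condition _)
  haveI : Mono S.f := inferInstanceAs (Mono (kernel.ι (DevStep.proj (fibIdeal f m) L)))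
  haveI : Epi S.g := inferInstanceAs (Epi (DevStep.proj (fibIdeal f m) L))
  have hS : S.ShortExact :=
    ShortComplex.ShortExact.mk (ShortComplex.exact_of_f_is_kernel S (kernelIsKernel _))
  intro q
  obtain ⟨r, a, zs, ham, hsum, hzero⟩ := kernel_props f H2 L hcL m (Hδ S hS 0 q)
  exact exact₃ S hS 0 q (hzero hH1)

end Groth.Agent.Lib.Helper23.RelNef
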