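import Mathlib
import Groth.Prelude
import Groth.Agent.Lib.Helper23.CurveMulA
import Groth.Agent.Lib.Helper23.EffCart
import Groth.Agent.Lib.Helper7.MulSurj
import Groth.Agent.Lib.Helper7.TensorRExact
import Groth.Agent.Lib.Helper3.IdealMod
import Groth.Agent.Lib.Helper27.ModSections

/-!
# Helper library (helper23): surjectivity of multiplication maps from the restriction to a divisor

Let `I` be a quasi-coherent ideal with `L ⊗ I ≅ O`.  If `H¹(O) = 0 = H¹(E ⊗ I)` for a finite
locally free `E` and the multiplication map of sections of `E ⊗ O/I` and `L ⊗ O/I` is surjective,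
then so is the multiplication map of sections of `E` and `L` (S13858).
-/

set_option autoImplicit false
set_option linter.unusedSectionVars false
set_option linter.style.haveILetI false
universe u
open CategoryTheory CategoryTheory.Limits AlgebraicGeometry Opposite TopologicalSpace
open Scheme.Modules

noncomputable section

namespace Groth.Agent.Lib.Helper23.RestrDiv

open Groth.Agent.Lib.Helper3 Groth.Agent.Lib.Helper3.QCSec Groth.Agent.Lib.Helper3.InvGen
  Groth.Agent.Lib.Helper3.InvTensor Groth.Agent.Lib.Helper3.InvMonoidal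
  Groth.Agent.Lib.Helper3.IdealMod Groth.Agent.Lib.Helper7.TwFun
  Groth.Agent.Lib.Helper23.AmpleCurve Groth.Agent.Lib.Helper23.CurveMul

variable {X : Scheme.{u}} (I : X.IdealSheafData)

/-- the action map `I ⊗ N ⟶ N`. -/
def act (N : X.Modules) : CohB1.tensorMod (ClSub.idealMod I) N ⟶ N :=
  tensorMap (ClSub.idealModι I) (𝟙 N) ≫ (unitorL N).hom

theorem idealModι_app {U : X.Opens} (f : Γ(ClSub.idealMod I, U)) :
    (ClSub.idealModι I).app U f = ofFun U (val I f) := rfl

theorem act_tm (N : X.Modules) (U : X.Opens) (f : Γ(ClSub.idealMod I, U)) (n : Γ(N, U)) :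
    (act I N).app U (tm _ N U f n) = val I f • n := by
  change (unitorL N).hom.app U ((tensorMap (ClSub.idealModι I) (𝟙 N)).app U (tm _ N U f n)) = _
  rw [tensorMap_tm, idealModι_app]
  exact unitorL_hom_tm N U n (val I f)

/-- sections of `O/I` are killed by `I`. -/
theorem val_smul_quot {U : X.Opens} (f : Γ(ClSub.idealMod I, U)) (t : Γ(ClSub.quotMod I, U)) :
    val I f • t = 0 := by
  have h := app_val I f
  change (I.subschemeι.app U (val I f)) •
    (show Γ(Coh.structureModule I.subscheme, I.subschemeι ⁻¹ᵁ U) from t) = 0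
  rw [h, zero_smul]

theorem act_quot : act I (ClSub.quotMod I) = 0 := by
  apply tensor_hom_ext
  intro U f t
  rw [act_tm, val_smul_quot]
  rfl

/-- the action on `B ⊗ A` is induced by the action on `B`. -/
theorem assoc_act_right (B A : X.Modules) :
    (assoc (ClSub.idealMod I) B A).hom ≫ act I (CohB1.tensorMod B A) =
      tensorMap (act I B) (𝟙 A) := by
  apply tensor_hom_ext₂
  intro U f b a
  change (act I (CohB1.tensorMod B A)).app U
      ((assoc (ClSub.idealMod I) B A).hom.app U (tm _ A U (tm _ B U f b) a)) =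
    (tensorMap (act I B) (𝟙 A)).app U (tm _ A U (tm _ B U f b) a)
  rw [assoc_hom_tm, act_tm, tensorMap_tm, act_tm, tm_smul_left]
  rfl

theorem act_tensor_right {B : X.Modules} (hB : act I B = 0) (A : X.Modules) :
    act I (CohB1.tensorMod B A) = 0 := by
  have h := assoc_act_right I B A
  rw [hB] at h
  have h0 : tensorMap (0 : CohB1.tensorMod (ClSub.idealMod I) B ⟶ B) (𝟙 A) = 0 :=
    (twR A).map_zero _ _
  rw [h0] at h
  exact (cancel_epi (assoc (ClSub.idealMod I) B A).hom).mp (h.trans comp_zero.symm)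

/-- the action on `A ⊗ B` is induced by the action on `B`. -/
theorem assoc_act_left (A B : X.Modules) :
    (assoc (ClSub.idealMod I) A B).hom ≫ act I (CohB1.tensorMod A B) =
      tensorMap (braid (ClSub.idealMod I) A).hom (𝟙 B) ≫ (assoc A (ClSub.idealMod I) B).hom ≫
        tensorMap (𝟙 A) (act I B) := by
  apply tensor_hom_ext₂
  intro U f a b
  change (act I (CohB1.tensorMod A B)).app U
      ((assoc (ClSub.idealMod I) A B).hom.app U (tm _ B U (tm _ A U f a) b)) =
    (tensorMap (𝟙 A) (act I B)).app U ((assoc A (ClSub.idealMod I) B).hom.app U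
      ((tensorMap (braid (ClSub.idealMod I) A).hom (𝟙 B)).app U (tm _ B U (tm _ A U f a) b)))
  rw [assoc_hom_tm, act_tm, tensorMap_tm, braid_hom_tm]
  change _ = (tensorMap (𝟙 A) (act I B)).app U ((assoc A (ClSub.idealMod I) B).hom.app U
      (tm _ B U (tm A _ U a f) b))
  rw [assoc_hom_tm, tensorMap_tm, act_tm, tm_smul_right]
  rfl

theorem act_tensor_left (A : X.Modules) {B : X.Modules} (hB : act I B = 0) :
    act I (CohB1.tensorMod A B) = 0 := by
  have h := assoc_act_left I A B
  rw [hB] at h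
  have h0 : tensorMap (𝟙 A) (0 : CohB1.tensorMod (ClSub.idealMod I) B ⟶ B) = 0 :=
    (twL A).map_zero _ _
  rw [h0, comp_zero, comp_zero] at h
  exact (cancel_epi (assoc (ClSub.idealMod I) A B).hom).mp (h.trans comp_zero.symm)

/-- `n ↦ n ⊗ 1̄`. -/
def rho (N : X.Modules) : N ⟶ CohB1.tensorMod N (ClSub.quotMod I) :=
  mulBy N (ClSub.toSubscheme I)

/-- the class of `1` in `O/I`. -/
def qone (U : X.Opens) : Γ(ClSub.quotMod I, U) := sec (ClSub.toSubscheme I) U

theorem rho_app (N : X.Modules) (U : X.Opens) (n : Γ(N, U)) :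
    (rho I N).app U n = tm N _ U n (qone I U) := mulBy_app N _ U n

theorem rho_eq (N : X.Modules) :
    rho I N = (unitorL N).inv ≫ tensorMap (ClSub.toSubscheme I) (𝟙 N) ≫
      (braid (ClSub.quotMod I) N).hom := by
  apply Scheme.Modules.hom_ext
  intro U
  ext z
  show (rho I N).app U z = (braid (ClSub.quotMod I) N).hom.app U
    ((tensorMap (ClSub.toSubscheme I) (𝟙 N)).app U ((unitorL N).inv.app U z))
  rw [rho_app, unitorL_inv_app', tensorMap_tm]
  have h1 : (ClSub.toSubscheme I).app U (ofFun U 1) = qone I U := rfl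
  rw [h1]
  exact (braid_hom_tm _ _ U _ _).symm

theorem mono_rho {N : X.Modules} (hN : act I N = 0) : Mono (rho I N) := by
  have hS₀ := Groth.Agent.Lib.Helper23.EffCart.shortExact_ideal I
  haveI : (ShortComplex.mk (ClSub.idealModι I) (ClSub.toSubscheme I)
      (kernel.condition (ClSub.toSubscheme I))).X₁.IsQuasicoherent :=
    inferInstanceAs (ClSub.idealMod I).IsQuasicoherent
  obtain ⟨hex, -⟩ := Groth.Agent.Lib.Helper7.TensorRExact.exact_epi_twR N _ hS₀
  have hf : tensorMap (ClSub.idealModι I) (𝟙 N) = 0 := by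
    have h1 : tensorMap (ClSub.idealModι I) (𝟙 N) = act I N ≫ (unitorL N).inv := by
      unfold act
      rw [Category.assoc, Iso.hom_inv_id, Category.comp_id]
    rw [h1, hN, zero_comp]
  haveI : Mono (tensorMap (ClSub.toSubscheme I) (𝟙 N)) := hex.mono_g hf
  rw [rho_eq]
  infer_instance

theorem id_rho_eq (M L : X.Modules) :
    tensorMap (𝟙 M) (rho I L) =
      rho I (CohB1.tensorMod M L) ≫ (assoc M L (ClSub.quotMod I)).hom := by
  apply tensor_hom_ext
  intro U m l
  change _ = (assoc M L _).hom.app U ((rho I (CohB1.tensorMod M L)).app U (tm M L U m l))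
  rw [tensorMap_tm, rho_app, rho_app, assoc_hom_tm]
  rfl

theorem mono_id_rho {M L : X.Modules} (h : act I (CohB1.tensorMod M L) = 0) :
    Mono (tensorMap (𝟙 M) (rho I L)) := by
  haveI := mono_rho I h
  rw [id_rho_eq]
  infer_instance

/-- surjectivity of the restriction on global sections. -/
theorem surj_rho (F : X.Modules)
    (hS : ((ShortComplex.mk (ClSub.idealModι I) (ClSub.toSubscheme I)
      (kernel.condition (ClSub.toSubscheme I))).map (twR F)).ShortExact)
    (h1 : Subsingleton (Coh.HH X (CohB1.tensorMod (ClSub.idealMod I) F) 1))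
    (α : Γ(CohB1.tensorMod F (ClSub.quotMod I), ⊤)) :
    ∃ a : Γ(F, ⊤), (rho I F).app ⊤ a = α := by
  obtain ⟨y, hy⟩ := Groth.Agent.Lib.Helper7.MulSurj.surj_top (ClSub.idealModι I)
    (ClSub.toSubscheme I) (kernel.condition _) (twR F) hS h1
    ((braid (ClSub.quotMod I) F).inv.app ⊤ α)
  refine ⟨(unitorL F).hom.app ⊤ y, ?_⟩
  rw [rho_eq]
  change (braid _ F).hom.app ⊤ ((tensorMap (ClSub.toSubscheme I) (𝟙 F)).app ⊤
    ((unitorL F).inv.app ⊤ ((unitorL F).hom.app ⊤ y))) = α
  rw [iso_inv_hom_app]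
  have h2 : (tensorMap (ClSub.toSubscheme I) (𝟙 F)).app ⊤ y =
      (braid (ClSub.quotMod I) F).inv.app ⊤ α := hy
  rw [h2, iso_hom_inv_app]

variable {I}

/-- the canonical section of `L` for `I ⊗ L ≅ O`. -/
def canSec {L : X.Modules} (e : CohB1.tensorMod (ClSub.idealMod I) L ≅ Coh.structureModule X) :
    Coh.structureModule X ⟶ L := e.inv ≫ act I L

/-- the isomorphism `(I ⊗ E) ⊗ L ≅ E`. -/
def xi {L : X.Modules} (e : CohB1.tensorMod (ClSub.idealMod I) L ≅ Coh.structureModule X)
    (E : X.Modules) :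
    CohB1.tensorMod (CohB1.tensorMod (ClSub.idealMod I) E) L ≅ E :=
  tensorMapIso (braid (ClSub.idealMod I) E) (Iso.refl L) ≪≫ cancelIso (ClSub.idealMod I) L e E

theorem act_tw_eq {L : X.Modules} (e : CohB1.tensorMod (ClSub.idealMod I) L ≅ Coh.structureModule X)
    (E : X.Modules) :
    tensorMap (act I E) (𝟙 L) = (xi e E).hom ≫ mulBy E (canSec e) := by
  apply tensor_hom_ext₂
  intro U f m l
  change (tensorMap (act I E) (𝟙 L)).app U (tm _ L U (tm _ E U f m) l) =
    (mulBy E (canSec e)).app U ((cancelIso (ClSub.idealMod I) L e E).hom.app U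
      ((tensorMapIso (braid (ClSub.idealMod I) E) (Iso.refl L)).hom.app U
        (tm _ L U (tm _ E U f m) l)))
  rw [tensorMap_tm, act_tm, tensorMapIso_hom_tm, braid_hom_tm]
  change tm E L U (val I f • m) l =
    (mulBy E (canSec e)).app U ((cancelIso (ClSub.idealMod I) L e E).hom.app U
      (tm _ L U (tm E _ U m f) l))
  rw [cancelIso_hom_tm, mulBy_app]
  have hc : toFun U (e.hom.app U (tm _ L U f l)) • sec (canSec e) U = val I f • l := by
    rw [← app_eq_smul_sec]
    change (act I L).app U (e.inv.app U (e.hom.app U (tm _ L U f l))) = _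
    rw [iso_inv_hom_app, act_tm]
  rw [tm_smul_left, tm_smul_left, ← tm_smul_right, ← tm_smul_right, hc]

open Groth.Agent.Lib.Helper11.VeryStableA Groth.Agent.Lib.Helper7.MulSurj in
/-- the kernel of the restriction `E ⊗ L → (E ⊗ O/I) ⊗ L` on global sections consists of
multiples of the canonical section. -/
theorem mem_pureSpan_of_rho_tw {E L : X.Modules} (hLi : PicF.IsInvertible L)
    (hE : HasLocBases E)
    (e : CohB1.tensorMod (ClSub.idealMod I) L ≅ Coh.structureModule X)
    (w : Γ(CohB1.tensorMod E L, ⊤)) (hw : (tensorMap (rho I E) (𝟙 L)).app ⊤ w = 0) :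
    w ∈ pureSpan E L := by
  have hS₀ := Groth.Agent.Lib.Helper23.EffCart.shortExact_ideal I
  let S₀ : ShortComplex X.Modules := ShortComplex.mk (ClSub.idealModι I) (ClSub.toSubscheme I)
      (kernel.condition (ClSub.toSubscheme I))
  haveI : S₀.X₁.IsQuasicoherent := inferInstanceAs (ClSub.idealMod I).IsQuasicoherent
  have hS₁ : (S₀.map (twR E)).ShortExact := by
    obtain ⟨hex, hepi⟩ := Groth.Agent.Lib.Helper7.TensorRExact.exact_epi_twR E S₀ hS₀
    haveI := hepi
    haveI : Mono S₀.f := hS₀.mono_f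
    haveI : Mono (S₀.map (twR E)).f := mono_tw_of_hasLocBases hE S₀.f
    exact ShortComplex.ShortExact.mk hex
  have hS₂ := Groth.Agent.Lib.Helper7.AmpleH1.shortExact_tw hLi _ hS₁
  -- move `w` to `(O ⊗ E) ⊗ L`
  let w₁ : Γ(CohB1.tensorMod (CohB1.tensorMod (Coh.structureModule X) E) L, ⊤) :=
    (tensorMap (unitorL E).inv (𝟙 L)).app ⊤ w
  have hfac : tensorMap (rho I E) (𝟙 L) =
      tensorMap (unitorL E).inv (𝟙 L) ≫ tensorMap (tensorMap (ClSub.toSubscheme I) (𝟙 E)) (𝟙 L) ≫
        tensorMap (braid (ClSub.quotMod I) E).hom (𝟙 L) := by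
    rw [rho_eq]
    exact ((twR L).map_comp _ _).trans (congrArg _ ((twR L).map_comp _ _))
  have hβ : tensorMap (braid (ClSub.quotMod I) E).hom (𝟙 L) ≫
      tensorMap (braid (ClSub.quotMod I) E).inv (𝟙 L) = 𝟙 _ := by
    have := (twR L).map_comp (braid (ClSub.quotMod I) E).hom (braid (ClSub.quotMod I) E).inv
    rw [Iso.hom_inv_id] at this
    exact this.symm.trans ((twR L).map_id _)
  have hg : (tensorMap (tensorMap (ClSub.toSubscheme I) (𝟙 E)) (𝟙 L)).app ⊤ w₁ = 0 := by
    rw [hfac] at hw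
    have hw' : (tensorMap (braid (ClSub.quotMod I) E).hom (𝟙 L)).app ⊤
        ((tensorMap (tensorMap (ClSub.toSubscheme I) (𝟙 E)) (𝟙 L)).app ⊤ w₁) = 0 := hw
    have h3 := congrArg (fun z => (tensorMap (braid (ClSub.quotMod I) E).inv (𝟙 L)).app ⊤ z) hw'
    have h4 := app_congr hβ ⊤ ((tensorMap (tensorMap (ClSub.toSubscheme I) (𝟙 E)) (𝟙 L)).app ⊤ w₁)
    rw [comp_app, id_app'] at h4
    rw [← h4]
    exact h3.trans (map_zero _)
  obtain ⟨y, hy⟩ : ∃ y : Γ(CohB1.tensorMod (CohB1.tensorMod (ClSub.idealMod I) E) L, ⊤),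
      (tensorMap (tensorMap (ClSub.idealModι I) (𝟙 E)) (𝟙 L)).app ⊤ y = w₁ := by
    have h5 := (Groth.Agent.Lib.Helper27.ModSections.sections_left_exact _ hS₂ ⊤).2 w₁
    exact h5.mp hg
  have hw₁ : w = (tensorMap (unitorL E).hom (𝟙 L)).app ⊤ w₁ := by
    have h6 : tensorMap (unitorL E).inv (𝟙 L) ≫ tensorMap (unitorL E).hom (𝟙 L) = 𝟙 _ := by
      have := (twR L).map_comp (unitorL E).inv (unitorL E).hom
      rw [Iso.inv_hom_id] at this
      exact this.symm.trans ((twR L).map_id _)
    have h7 := app_congr h6 ⊤ w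
    rw [comp_app, id_app'] at h7
    exact h7.symm
  have hΨ : w = (tensorMap (act I E) (𝟙 L)).app ⊤ y := by
    rw [hw₁, ← hy]
    have h8 : tensorMap (act I E) (𝟙 L) =
        tensorMap (tensorMap (ClSub.idealModι I) (𝟙 E)) (𝟙 L) ≫ tensorMap (unitorL E).hom (𝟙 L) :=
      (twR L).map_comp _ _
    rw [h8]
    rfl
  rw [hΨ, act_tw_eq e E]
  change (mulBy E (canSec e)).app ⊤ ((xi e E).hom.app ⊤ y) ∈ pureSpan E L
  rw [mulBy_app]
  exact AddSubgroup.subset_closure ⟨_, _, rfl⟩

open Groth.Agent.Lib.Helper11.VeryStableA Groth.Agent.Lib.Helper7.MulSurj in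
/-- **multiplication maps are surjective if they are so after restriction to the divisor.** -/
theorem main {E L : X.Modules} (hLi : PicF.IsInvertible L) (hE : HasLocBases E)
    (e : CohB1.tensorMod (ClSub.idealMod I) L ≅ Coh.structureModule X)
    (h0 : Subsingleton (Coh.HH X (Coh.structureModule X) 1))
    (h1 : Subsingleton (Coh.HH X (CohB1.tensorMod (ClSub.idealMod I) E) 1))
    (hD : Function.Surjective
      ((toSheafify (Opens.grothendieckTopology X)
        (CohB1.tensorPre (CohB1.tensorMod E (ClSub.quotMod I))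
          (CohB1.tensorMod L (ClSub.quotMod I))).presheaf).app (Opposite.op ⊤))) :
    Function.Surjective
      ((toSheafify (Opens.grothendieckTopology X) (CohB1.tensorPre E L).presheaf).app
        (Opposite.op ⊤)) := by
  apply surj_of_pureSpan
  intro w
  have hS₀ := Groth.Agent.Lib.Helper23.EffCart.shortExact_ideal I
  let S₀ : ShortComplex X.Modules := ShortComplex.mk (ClSub.idealModι I) (ClSub.toSubscheme I)
      (kernel.condition (ClSub.toSubscheme I))
  haveI : S₀.X₁.IsQuasicoherent := inferInstanceAs (ClSub.idealMod I).IsQuasicoherent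
  have hSE : (S₀.map (twR E)).ShortExact := by
    obtain ⟨hex, hepi⟩ := Groth.Agent.Lib.Helper7.TensorRExact.exact_epi_twR E S₀ hS₀
    haveI := hepi
    haveI : Mono S₀.f := hS₀.mono_f
    haveI : Mono (S₀.map (twR E)).f := mono_tw_of_hasLocBases hE S₀.f
    exact ShortComplex.ShortExact.mk hex
  have hSL : (S₀.map (twR L)).ShortExact :=
    Groth.Agent.Lib.Helper7.AmpleH1.shortExact_tw hLi _ hS₀
  have h1L : Subsingleton (Coh.HH X (CohB1.tensorMod (ClSub.idealMod I) L) 1) :=
    subsingleton_HH_of_iso e 1 h0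
  let EQ : X.Modules := CohB1.tensorMod E (ClSub.quotMod I)
  let LQ : X.Modules := CohB1.tensorMod L (ClSub.quotMod I)
  let PP : CohB1.tensorMod E L ⟶ CohB1.tensorMod EQ LQ := tensorMap (rho I E) (rho I L)
  -- every element in the image of the multiplication map on `D` lifts
  have claim : ∀ y' : ↑((CohB1.tensorPre EQ LQ).obj (op (⊤ : X.Opens))),
      ∃ v : Γ(CohB1.tensorMod E L, (⊤ : X.Opens)), v ∈ pureSpan E L ∧
        PP.app ⊤ v = ((SecTwist.toTensor EQ LQ).app (op (⊤ : X.Opens))).hom y' := by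
    intro y'
    refine TensorProduct.induction_on (R := Rg X ⊤) (M := (CohB1.toPMod EQ).obj (op ⊤))
      (N := (CohB1.toPMod LQ).obj (op ⊤))
      (motive := fun y' => ∃ v : Γ(CohB1.tensorMod E L, (⊤ : X.Opens)), v ∈ pureSpan E L ∧
        PP.app ⊤ v = ((SecTwist.toTensor EQ LQ).app (op (⊤ : X.Opens))).hom y') y' ?_ ?_ ?_
    · refine ⟨0, AddSubgroup.zero_mem _, ?_⟩
      have hz : ((SecTwist.toTensor EQ LQ).app (op (⊤ : X.Opens))).hom 0 = 0 := map_zero _
      exact (map_zero _).trans hz.symm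
    · intro α β
      obtain ⟨a, ha⟩ := surj_rho I E hSE h1 α
      obtain ⟨b, hb⟩ := surj_rho I L hSL h1L β
      refine ⟨tm E L ⊤ a b, AddSubgroup.subset_closure ⟨a, b, rfl⟩, ?_⟩
      change (tensorMap (rho I E) (rho I L)).app ⊤ (tm E L ⊤ a b) = tm EQ LQ ⊤ α β
      rw [tensorMap_tm, ha, hb]
    · rintro y₁ y₂ ⟨v₁, hv₁, e₁⟩ ⟨v₂, hv₂, e₂⟩
      refine ⟨v₁ + v₂, AddSubgroup.add_mem _ hv₁ hv₂, ?_⟩
      have hadd : ((SecTwist.toTensor EQ LQ).app (op (⊤ : X.Opens))).hom (y₁ + y₂) =
          ((SecTwist.toTensor EQ LQ).app (op (⊤ : X.Opens))).hom y₁ +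
            ((SecTwist.toTensor EQ LQ).app (op (⊤ : X.Opens))).hom y₂ := map_add _ _ _
      rw [hadd, ← e₁, ← e₂]
      exact map_add _ _ _
  obtain ⟨y', hy'⟩ := hD (PP.app ⊤ w)
  obtain ⟨v, hv, hPv⟩ := claim y'
  have hPP : PP.app ⊤ (w - v) = 0 := by
    have h2 : PP.app ⊤ (w - v) = PP.app ⊤ w - PP.app ⊤ v := map_sub _ _ _
    rw [h2, hPv]
    exact sub_eq_zero.mpr hy'.symm
  -- factor `PP`
  have hfac : PP = tensorMap (rho I E) (𝟙 L) ≫ tensorMap (𝟙 EQ) (rho I L) := by
    have := tensorMap_comp (rho I E) (𝟙 EQ) (𝟙 L) (rho I L)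
    rw [Category.comp_id, Category.id_comp] at this
    exact this
  have hkill : act I (CohB1.tensorMod EQ L) = 0 :=
    act_tensor_right I (act_tensor_left I E (act_quot I)) L
  haveI := mono_id_rho I hkill
  have hinj := (QCProps.mono_iff_app_injective (tensorMap (𝟙 EQ) (rho I L))).mp inferInstance ⊤
  have hker : (tensorMap (rho I E) (𝟙 L)).app ⊤ (w - v) = 0 := by
    apply hinj
    have h3 : (tensorMap (𝟙 EQ) (rho I L)).app ⊤ ((tensorMap (rho I E) (𝟙 L)).app ⊤ (w - v)) =
        PP.app ⊤ (w - v) := by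
      rw [hfac]
      rfl
    rw [h3, hPP]
    exact (map_zero _).symm
  have hd := mem_pureSpan_of_rho_tw hLi hE e (w - v) hker
  have : w = (w - v) + v := by abel
  rw [this]
  exact AddSubgroup.add_mem _ hd hv

end Groth.Agent.Lib.Helper23.RestrDiv
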