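import Mathlib
import Groth.Prelude
import Groth.Agent.Lib.Helper11.LiftInvB
import Groth.Agent.Lib.Helper12.OmegaAffine1
import Groth.Agent.Lib.Helper7.GGNef
import Groth.Agent.Lib.Helper7.Hypersurf
import Groth.Agent.Lib.Helper23.XTwA
import Groth.Agent.Lib.Helper23.JetVan
import Groth.Agent.S0844

/-!
# Helper library (helper23): the degree of an invertible module on a ribbon over `P¹` (S17660)

* `euler_twist_int` : `χ(P¹, O(m)) = m + 1` for every integer `m`;
* `euler_pullback_iso` : the Euler characteristic is invariant under pullback along an isomorphism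
  of `k`-schemes;
* `deg_ribbon` : the main statement.
-/

set_option autoImplicit false
set_option linter.unusedSectionVars false
set_option linter.style.haveILetI false
universe u
open CategoryTheory CategoryTheory.Limits AlgebraicGeometry

namespace Groth.Agent.Lib.Helper23.RibbonDeg

open Groth.Agent.Lib.Helper3 Groth.Agent.Lib.Helper3.InvMonoidal
open Groth.Agent.Lib.Helper7.TwFun

variable (k : Type u) [Field k]

/-- `χ(P¹, O(m)) = m + 1` for every integer `m`. -/
theorem euler_twist_int (m : ℤ) :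
    Curv2.euler k (CohB1.ProjSpace 1 k) (Twist.twistProjSpace 1 k m) = m + 1 := by
  unfold Curv2.euler
  have hvan : ∀ q : ℕ, 2 ≤ q →
      Module.finrank k (Coh.HH (CohB1.ProjSpace 1 k) (Twist.twistProjSpace 1 k m) q) = 0 := by
    intro q hq
    haveI := Groth.Agent.S0844.result k 1 m q (by rintro ⟨h, -⟩; omega)
      (by rintro ⟨h, -⟩; omega)
    exact Module.finrank_zero_of_subsingleton
  have hsupp : (Function.support fun i : ℕ => (-1 : ℤ) ^ i *
      (Module.finrank k (Coh.HH (CohB1.ProjSpace 1 k) (Twist.twistProjSpace 1 k m) i) : ℤ)) ⊆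
      ((Finset.range 2 : Finset ℕ) : Set ℕ) := by
    intro i hi
    by_contra hni
    apply hi
    have h2 : 2 ≤ i := by
      simp only [Finset.coe_range, Set.mem_Iio, not_lt] at hni
      exact hni
    simp [hvan i h2]
  rw [finsum_eq_sum_of_support_subset _ hsupp]
  rw [Finset.sum_range_succ, Finset.sum_range_one]
  rw [Groth.Agent.Lib.Helper7.Hypersurf.finrank_H0_twist 1 k le_rfl m,
    Groth.Agent.Lib.Helper7.Hypersurf.finrank_Htop_twist 1 k le_rfl m]
  rw [Nat.choose_one_right, Nat.choose_one_right]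
  push_cast
  omega

variable {D P : Scheme.{u}} [D.Over (Spec (CommRingCat.of k))] [P.Over (Spec (CommRingCat.of k))]

/-- the Euler characteristic is invariant under pullback along an isomorphism of `k`-schemes. -/
theorem euler_pullback_iso (e : D ≅ P)
    (he : e.hom ≫ (P ↘ Spec (CommRingCat.of k)) = D ↘ Spec (CommRingCat.of k))
    (F : P.Modules) :
    Curv2.euler k D ((Scheme.Modules.pullback e.hom).obj F) = Curv2.euler k P F := by
  have e1 : (Scheme.Modules.pullback e.hom).obj F ≅ (Scheme.Modules.pushforward e.inv).obj F :=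
    (Groth.Agent.Lib.Helper12.OmegaAffine.pullbackInvIsoPushforward e.symm).app F
  rw [Groth.Agent.Lib.Helper23.FBC.euler_eq_of_iso' k e1]
  have hXS : P ↘ Spec (CommRingCat.of k) = e.inv ≫ (D ↘ Spec (CommRingCat.of k)) := by
    rw [← he, Iso.inv_hom_id_assoc]
  unfold Curv2.euler
  refine finsum_congr fun i => ?_
  rw [Groth.Agent.Lib.Helper7.PushLinear.finrank_push e.inv F k hXS i]


section Main

variable (C : Scheme.{u}) [C.Over (Spec (CommRingCat.of k))]
  [IsProper (C ↘ Spec (CommRingCat.of k))]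

/-- **S17660**: the degree of an invertible module on a ribbon over `P¹`. -/
theorem deg_ribbon (I : C.IdealSheafData) (hI : I ^ 2 = ⊥)
    (e : I.subscheme ≅ CohB1.ProjSpace 1 k)
    (he : e.hom ≫ CohB1.ProjSpace.toSpec 1 k =
      I.subschemeι ≫ (C ↘ (Spec (CommRingCat.of k))))
    (g : ℕ)
    (hconormal : Nonempty ((Scheme.Modules.pullback I.subschemeι).obj (ClSub.idealMod I) ≅
      (Scheme.Modules.pullback e.hom).obj (Twist.twistProjSpace 1 k (-((g : ℤ) + 1)))))
    (L : C.Modules) (hL : PicF.IsInvertible L) (n : ℤ)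
    (hLD : Nonempty ((Scheme.Modules.pullback I.subschemeι).obj L ≅
      (Scheme.Modules.pullback e.hom).obj (Twist.twistProjSpace 1 k n))) :
    Curv2.deg k C L 1 = 2 * n := by
  letI : I.subscheme.Over (Spec (CommRingCat.of k)) :=
    ⟨I.subschemeι ≫ (C ↘ Spec (CommRingCat.of k))⟩
  have hov : I.subscheme ↘ Spec (CommRingCat.of k) =
      I.subschemeι ≫ (C ↘ Spec (CommRingCat.of k)) := rfl
  have he' : e.hom ≫ ((CohB1.ProjSpace 1 k) ↘ Spec (CommRingCat.of k)) =
      I.subscheme ↘ Spec (CommRingCat.of k) := he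
  obtain ⟨ec⟩ := hconormal
  obtain ⟨eL⟩ := hLD
  haveI : IsNoetherian C := Groth.Agent.Lib.Helper23.HilbP.isNoetherian_of_isProper k C
  have hcI : Coh.IsCoh (ClSub.idealMod I) := Groth.Agent.Lib.Helper23.JetVan.isCoh_idealMod I
  have hcO : Coh.IsCoh (Coh.structureModule C) :=
    Groth.Agent.Lib.Helper23.T2.isCoh_structureModule C
  have hcQ : Coh.IsCoh (ClSub.quotMod I) := Groth.Agent.Lib.Helper23.EffCart.isCoh_quotMod I
  have hS := Groth.Agent.Lib.Helper11.LiftInvB.S₀_shortExact I
  have a1 : Curv2.euler k C (Coh.structureModule C) =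
      Curv2.euler k C (ClSub.idealMod I) + Curv2.euler k C (ClSub.quotMod I) :=
    Groth.Agent.Lib.Helper23.T2.euler_additive k C (Groth.Agent.Lib.Helper11.LiftInvB.S₀ I) hS
      hcI hcO hcQ
  have hS' := Groth.Agent.Lib.Helper7.AmpleH1.shortExact_tw hL _ hS
  have a2 : Curv2.euler k C (CohB1.tensorMod (Coh.structureModule C) L) =
      Curv2.euler k C (CohB1.tensorMod (ClSub.idealMod I) L) +
        Curv2.euler k C (CohB1.tensorMod (ClSub.quotMod I) L) :=
    Groth.Agent.Lib.Helper23.T2.euler_additive k C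
      ((Groth.Agent.Lib.Helper11.LiftInvB.S₀ I).map (twR L)) hS'
      (Groth.Agent.Lib.Helper23.HilbP.isCoh_tensor_inv C hL hcI)
      (Groth.Agent.Lib.Helper23.HilbP.isCoh_tensor_inv C hL hcO)
      (Groth.Agent.Lib.Helper23.HilbP.isCoh_tensor_inv C hL hcQ)
  rw [Groth.Agent.Lib.Helper23.FBC.euler_eq_of_iso' k (unitorL L)] at a2
  -- (i)
  have b1 : Curv2.euler k C (CohB1.tensorMod (ClSub.quotMod I) L) = n + 1 := by
    rw [Groth.Agent.Lib.Helper7.GGNef.euler_quotMod_tensor k C I hov L,
      Groth.Agent.Lib.Helper23.FBC.euler_eq_of_iso' k eL,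
      euler_pullback_iso k e he', euler_twist_int]
  -- (ii)
  have eO : Coh.structureModule (CohB1.ProjSpace 1 k) ≅ Twist.twistProjSpace 1 k 0 :=
    TwistMul.unitIso (𝒜 := CohB1.polyGrading 1 k)
  have b2 : Curv2.euler k C (ClSub.quotMod I) = 1 := by
    rw [Groth.Agent.Lib.Helper7.GGNef.euler_push k C I hov,
      ← Groth.Agent.Lib.Helper23.FBC.euler_eq_of_iso' k (PbBasic.pbUnit e.hom),
      euler_pullback_iso k e he',
      Groth.Agent.Lib.Helper23.FBC.euler_eq_of_iso' k eO]
    have := euler_twist_int k 0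
    rw [zero_add] at this
    exact this
  -- (iii)
  haveI := Groth.Agent.Lib.Helper11.LiftInvB.isIso_unit_idealMod I hI
  let G := (Scheme.Modules.pullback I.subschemeι).obj (ClSub.idealMod I)
  let u : ClSub.idealMod I ≅ (Scheme.Modules.pushforward I.subschemeι).obj G :=
    asIso ((Scheme.Modules.pullbackPushforwardAdjunction I.subschemeι).unit.app
      (ClSub.idealMod I))
  have b3 : Curv2.euler k C (ClSub.idealMod I) = -(g : ℤ) := by
    rw [Groth.Agent.Lib.Helper23.FBC.euler_eq_of_iso' k u,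
      Groth.Agent.Lib.Helper7.GGNef.euler_push k C I hov,
      Groth.Agent.Lib.Helper23.FBC.euler_eq_of_iso' k ec,
      euler_pullback_iso k e he', euler_twist_int]
    ring
  -- (iv)
  have hLF := Groth.Agent.Lib.Helper17.PullBasis.isFinLocFree_of_isInvertible hL
  let v : CohB1.tensorMod (ClSub.idealMod I) L ≅
      (Scheme.Modules.pushforward I.subschemeι).obj
        (CohB1.tensorMod G ((Scheme.Modules.pullback I.subschemeι).obj L)) :=
    (twR L).mapIso u ≪≫
      (Groth.Agent.Lib.Helper23.PbTwist.projNatIso' I.subschemeι L hLF).app G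
  have hOa := Groth.Agent.Lib.Helper23.Simp.isInvertible_O 1 k (-((g : ℤ) + 1))
  have hOn := Groth.Agent.Lib.Helper23.Simp.isInvertible_O 1 k n
  let w : CohB1.tensorMod G ((Scheme.Modules.pullback I.subschemeι).obj L) ≅
      (Scheme.Modules.pullback e.hom).obj (Twist.twistProjSpace 1 k (-((g : ℤ) + 1) + n)) :=
    tensorMapIso ec eL ≪≫
      (PbTensor.pbTensorIso e.hom _ _ hOa hOn).symm ≪≫
      (Scheme.Modules.pullback e.hom).mapIso
        (Groth.Agent.Lib.Helper23.XTw.mulPn (-((g : ℤ) + 1)) n)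
  have b4 : Curv2.euler k C (CohB1.tensorMod (ClSub.idealMod I) L) = n - (g : ℤ) := by
    rw [Groth.Agent.Lib.Helper23.FBC.euler_eq_of_iso' k v,
      Groth.Agent.Lib.Helper7.GGNef.euler_push k C I hov,
      Groth.Agent.Lib.Helper23.FBC.euler_eq_of_iso' k w,
      euler_pullback_iso k e he', euler_twist_int]
    ring
  unfold Curv2.deg
  push_cast
  linarith

end Main

end Groth.Agent.Lib.Helper23.RibbonDeg
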