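import Mathlib
import Groth.Agent.Lib.Helper23.Sep4
import Groth.Agent.Lib.Helper27.Geo5
import Groth.Agent.Lib.Helper23.FFNS2

/-! A geometric function field has infinitely many places with separable residue field. -/

set_option autoImplicit false

namespace Groth.Agent.Lib.Helper23.SepPl

open FunFld IsLocalRing Polynomial IntermediateField
open Groth.Agent.Lib.Helper27.FF
open Groth.Agent.Lib.Helper23.Inert Groth.Agent.Lib.Helper23.IntCl

universe u v
variable {k : Type u} {K : Type v} [Field k] [Field K] [Algebra k K]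

/-- Zeros of `x - a` in the rational function field `k(x)`: degree one, `x - a` a uniformizer. -/
theorem rational_place_data {x : K} (hx : Transcendental k x) (hEF : IsFunctionField k k⟮x⟯)
    (a : k) (p : Place k k⟮x⟯)
    (hp : p.1 (AdjoinSimple.gen k x - algebraMap k k⟮x⟯ a) < 1) :
    p.deg = 1 ∧ p.1 (AdjoinSimple.gen k x - algebraMap k k⟮x⟯ a) = WithZero.exp (-1 : ℤ) := by
  classical
  obtain ⟨xa, hxa⟩ : ∃ xa : k⟮x⟯, xa = AdjoinSimple.gen k x - algebraMap k k⟮x⟯ a := ⟨_, rfl⟩
  rw [← hxa] at hp ⊢
  have hxaK : (xa : K) = x - algebraMap k K a := by rw [hxa]; rfl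
  have htop : k⟮xa⟯ = ⊤ := by
    apply IntermediateField.lift_injective
    rw [lift_adjoin_simple, lift_top, hxaK]
    apply le_antisymm
    · rw [adjoin_simple_le_iff]
      exact sub_mem (mem_adjoin_simple_self k x) (IntermediateField.algebraMap_mem _ a)
    · rw [adjoin_simple_le_iff]
      have h3 := add_mem (mem_adjoin_simple_self k (x - algebraMap k K a))
        (IntermediateField.algebraMap_mem k⟮x - algebraMap k K a⟯ a)
      rwa [sub_add_cancel] at h3
  have htr : Transcendental k xa := by
    intro halg
    apply hx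
    have h1 := halg.algebraMap (A := K)
    have h2 : algebraMap k⟮x⟯ K xa = x - algebraMap k K a := hxaK
    rw [h2] at h1
    have : x = (x - algebraMap k K a) + algebraMap k K a := by ring
    rw [this]
    exact h1.add (isAlgebraic_algebraMap a)
  have hxa0 : xa ≠ 0 := by
    rintro h0
    rw [h0] at htr
    exact htr isAlgebraic_zero
  have hsum := sum_zeros_eq_finrank hEF htr
  rw [htop, IntermediateField.finrank_top] at hsum
  have hval0 : p.1 xa ≠ 0 := (Valuation.ne_zero_iff _).mpr hxa0
  have hordpos : 0 < p.ord xa := by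
    unfold Place.ord
    have : p.1 xa < WithZero.exp (0 : ℤ) := by rw [WithZero.exp_zero]; exact hp
    rw [← WithZero.exp_log hval0, WithZero.exp_lt_exp] at this
    omega
  have hdivp : FunFld.div k xa p = p.ord xa := div_apply' hEF xa p
  have hmem : p ∈ (FunFld.div k xa).support.filter (fun P => 0 < FunFld.div k xa P) := by
    rw [Finset.mem_filter, Finsupp.mem_support_iff, hdivp]
    exact ⟨by omega, hordpos⟩
  have hle := Finset.single_le_sum (f := fun P => FunFld.div k xa P * (P.deg : ℤ))
    (s := (FunFld.div k xa).support.filter (fun P => 0 < FunFld.div k xa P))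
    (fun P hP => by
      rw [Finset.mem_filter] at hP
      exact mul_nonneg hP.2.le (Int.natCast_nonneg _)) hmem
  rw [hsum, hdivp] at hle
  have hdeg1 : (1 : ℤ) ≤ (p.deg : ℤ) := by exact_mod_cast one_le_deg' hEF p
  have hle' : p.ord xa * (p.deg : ℤ) ≤ 1 := by exact_mod_cast hle
  have h1 : p.ord xa = 1 := by nlinarith
  have h2 : (p.deg : ℤ) = 1 := by nlinarith
  refine ⟨by exact_mod_cast h2, ?_⟩
  unfold Place.ord at h1
  have h3 : WithZero.log (p.1 xa) = -1 := by omega
  rw [← WithZero.exp_log hval0, h3]

theorem infinite_separable_places (hK : IsFunctionField k K) (hg : IsGeometric k K) :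
    {P : Place k K | Algebra.IsSeparable k (ResidueField P.O)}.Infinite := by
  classical
  by_cases hkfin : Finite k
  · haveI := hkfin
    haveI := infinite_place_general hK
    have hall : ∀ P : Place k K, Algebra.IsSeparable k (ResidueField P.O) := by
      intro P
      haveI : @Module.Finite k (ResidueField P.O) _ _ (Place.algRes P).toModule := by
        rw [algRes_eq P]
        exact Module.finite_of_finrank_pos (one_le_deg' hK P)
      haveI : Algebra.IsAlgebraic k (ResidueField P.O) := Algebra.IsAlgebraic.of_finite k _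
      exact Algebra.IsAlgebraic.isSeparable_of_perfectField
    have : {P : Place k K | Algebra.IsSeparable k (ResidueField P.O)} = Set.univ :=
      Set.eq_univ_of_forall hall
    rw [this]
    exact Set.infinite_univ
  · haveI : Infinite k := not_finite_iff_infinite.mp hkfin
    obtain ⟨x, hx, hsep⟩ := Groth.Agent.Lib.Helper27.Geo.exists_separating hK hg
    haveI := hsep
    haveI hfd : FiniteDimensional k⟮x⟯ K := Groth.Agent.Lib.Helper23.FF.finiteDimensional_adjoin hK hx
    have hEF : IsFunctionField k k⟮x⟯ :=
      Groth.Agent.Lib.Helper27.Geo.isFunctionField_intermediateField hK k⟮x⟯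
        ⟨x, mem_adjoin_simple_self k x, hx⟩
    obtain ⟨y, hy⟩ := Field.exists_primitive_element k⟮x⟯ K
    have hyint : IsIntegral k⟮x⟯ y := Algebra.IsIntegral.isIntegral y
    have hytop : Algebra.adjoin k⟮x⟯ {y} = ⊤ := by
      rw [← IntermediateField.adjoin_simple_toSubalgebra_of_isAlgebraic hyint.isAlgebraic, hy,
        IntermediateField.top_toSubalgebra]
    obtain ⟨f, hf⟩ : ∃ f : (k⟮x⟯)[X], f = minpoly k⟮x⟯ y := ⟨_, rfl⟩
    have hfsep : f.Separable := by rw [hf]; exact Algebra.IsSeparable.isSeparable k⟮x⟯ y
    obtain ⟨A, B, hAB⟩ := hfsep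
    -- the places `x = a`
    have htr : ∀ a : k, Transcendental k (AdjoinSimple.gen k x - algebraMap k k⟮x⟯ a) := by
      intro a halg
      apply hx
      have h1 := halg.algebraMap (A := K)
      have h2 : algebraMap k⟮x⟯ K (AdjoinSimple.gen k x - algebraMap k k⟮x⟯ a) =
          x - algebraMap k K a := rfl
      rw [h2] at h1
      have : x = (x - algebraMap k K a) + algebraMap k K a := by ring
      rw [this]
      exact h1.add (isAlgebraic_algebraMap a)
    choose pl hpl using fun a : k => exists_place_val_lt_one hEF (htr a)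
    have hplinj : Function.Injective pl := by
      intro c c' hcc'
      by_contra hne
      have h1 := hpl c
      have h2 := hpl c'
      rw [← hcc'] at h2
      have h3 : (pl c).1 (algebraMap k k⟮x⟯ (c - c')) < 1 := by
        have : algebraMap k k⟮x⟯ (c - c') =
            (AdjoinSimple.gen k x - algebraMap k k⟮x⟯ c') -
              (AdjoinSimple.gen k x - algebraMap k k⟮x⟯ c) := by
          rw [map_sub]; ring
        rw [this]
        exact ((pl c).1.map_sub _ _).trans_lt (max_lt h2 h1)
      rw [Groth.Agent.Lib.Helper27.FF.val_const (pl c) (sub_ne_zero.mpr hne)] at h3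
      exact lt_irrefl _ h3
    have hpl1 := fun a : k => rational_place_data hx hEF a (pl a) (hpl a)
    -- bad constants
    obtain ⟨C, hC⟩ : ∃ C : Finset k⟮x⟯, C = f.coeffs ∪ A.coeffs ∪ B.coeffs := ⟨_, rfl⟩
    have hC0 : ∀ c ∈ C, c ≠ 0 := by
      intro c hc
      rw [hC, Finset.mem_union, Finset.mem_union] at hc
      rcases hc with (hc | hc) | hc <;>
      · obtain ⟨n, hn, rfl⟩ := mem_coeffs_iff.mp hc
        exact mem_support_iff.mp hn
    have hbad : {a : k | ∃ c ∈ C, 1 < (pl a).1 c}.Finite := by
      have h1 : (⋃ c ∈ (C : Set k⟮x⟯), {a : k | 1 < (pl a).1 c}).Finite := by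
        apply Set.Finite.biUnion C.finite_toSet
        intro c hc
        have hc0 := hC0 c hc
        have h2 := Groth.Agent.Lib.Helper23.FF.finite_zeros_of_ne_zero hEF (inv_ne_zero hc0)
        have h3 := h2.preimage (hplinj.injOn (s := pl ⁻¹' _))
        refine h3.subset ?_
        intro a ha
        show (pl a).1 c⁻¹ < 1
        rw [Groth.Agent.Lib.Helper23.FF.val_inv_lt_one_iff _ hc0]
        exact ha
      refine h1.subset ?_
      rintro a ⟨c, hc, h⟩
      exact Set.mem_biUnion (Finset.mem_coe.mpr hc) h
    have hgood : ∀ a : k, a ∉ {a : k | ∃ c ∈ C, 1 < (pl a).1 c} → ∀ Q : Place k K,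
        IsOver Q (pl a) → Algebra.IsSeparable k (ResidueField Q.O) := by
      intro a ha Q hQ
      have ha' : ∀ c ∈ C, (pl a).1 c ≤ 1 := by
        intro c hc
        by_contra hgt
        exact ha ⟨c, hc, not_le.mp hgt⟩
      have hcoef : ∀ g : (k⟮x⟯)[X], g.coeffs ⊆ C → g ∈ lifts (algebraMap (pl a).O k⟮x⟯) := by
        intro g hg
        rw [lifts_iff_coeff_lifts]
        intro n
        by_cases h0 : g.coeff n = 0
        · rw [h0]; exact ⟨0, map_zero _⟩
        · have h1 := ha' _ (hg (coeff_mem_coeffs h0))
          exact ⟨⟨g.coeff n, (Valuation.mem_valuationSubring_iff _ _).mpr h1⟩, rfl⟩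
      have hinj : Function.Injective (algebraMap (pl a).O k⟮x⟯) := Subtype.val_injective
      obtain ⟨fO, hfO, -, -⟩ := lifts_and_degree_eq_and_monic
        (hcoef f (by rw [hC]; exact fun c hc => Finset.mem_union_left _ (Finset.mem_union_left _ hc)))
        (by rw [hf]; exact minpoly.monic hyint)
      obtain ⟨AO, hAO⟩ := (mem_lifts _).mp (hcoef A
        (by rw [hC]; exact fun c hc => Finset.mem_union_left _ (Finset.mem_union_right _ hc)))
      obtain ⟨BO, hBO⟩ := (mem_lifts _).mp (hcoef B
        (by rw [hC]; exact fun c hc => Finset.mem_union_right _ hc))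
      have hsepO : fO.Separable := by
        refine ⟨AO, BO, ?_⟩
        apply Polynomial.map_injective _ hinj
        rw [Polynomial.map_add, Polynomial.map_mul, Polynomial.map_mul, ← derivative_map, hAO, hBO,
          hfO, Polynomial.map_one]
        exact hAB
      have hle : (pl a).1 ((AdjoinSimple.gen k x - algebraMap k k⟮x⟯ a : k⟮x⟯)) ≤ 1 := (hpl a).le
      exact isSeparable_residue_of_good hEF (pl a) (hpl1 a).1
        ⟨AdjoinSimple.gen k x - algebraMap k k⟮x⟯ a,
          (Valuation.mem_valuationSubring_iff _ _).mpr hle⟩ (hpl1 a).2 y hytop fO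
        (by rw [hfO, hf]) hsepO Q hQ
    choose Qa hQa using fun a : k =>
      Groth.Agent.Lib.Helper23.PIns.exists_isOver (K' := K) hEF (pl a)
    have hQinj : Function.Injective Qa := by
      intro a b hab
      obtain ⟨e₁, h₁⟩ := hQa a
      obtain ⟨e₂, h₂⟩ := hQa b
      rw [hab] at h₁
      exact hplinj (isOverWith_unique h₁ h₂).1
    have hinfgood : {a : k | a ∉ {a : k | ∃ c ∈ C, 1 < (pl a).1 c}}.Infinite :=
      hbad.infinite_compl
    refine (hinfgood.image hQinj.injOn).mono ?_
    rintro _ ⟨a, ha, rfl⟩
    exact hgood a ha _ (hQa a)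

end Groth.Agent.Lib.Helper23.SepPl
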