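import Mathlib
import Groth.Prelude
import Groth.Agent.Lib.Helper23.SimpA

/-!
# Comparison of the two forms of the reduced-polynomial order (helper23)
-/

set_option autoImplicit false
set_option linter.unusedSectionVars false
set_option linter.style.haveILetI false
universe u
open CategoryTheory CategoryTheory.Limits AlgebraicGeometry Polynomial

noncomputable section

namespace Groth.Agent.Lib.Helper23.Simp

open Groth.Agent.Lib.Helper23.HilbP

lemma rankOf_eq_alpha (d : ℕ) (φ : ℚ[X]) : W4c2simpsonmod1.rankOf d φ = StabCat.alpha d φ := rfl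

lemma w4RedLE_iff {d : ℕ} {ψ φ : ℚ[X]} (aψ : 0 < StabCat.alpha d ψ) (aφ : 0 < StabCat.alpha d φ) :
    W4c2simpsonmod1.RedLE d ψ φ ↔ StabCat.RedLE d ψ φ := by
  rw [redLE_iff]
  unfold W4c2simpsonmod1.RedLE
  simp only [rankOf_eq_alpha]
  constructor
  · rintro ⟨N, hN⟩
    refine ⟨N.toNat, fun m hm => ?_⟩
    have h := hN (m : ℤ) (by omega)
    rw [div_le_div_iff₀ aψ aφ] at h
    have e : (((m : ℤ) : ℚ)) = (m : ℚ) := by push_cast; rfl
    rw [e] at h
    linarith
  · rintro ⟨N, hN⟩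
    refine ⟨(N : ℤ), fun m hm => ?_⟩
    have h := hN m.toNat (by omega)
    have e : ((m.toNat : ℕ) : ℚ) = (m : ℚ) := by
      have : ((m.toNat : ℕ) : ℤ) = m := Int.toNat_of_nonneg (by omega)
      exact_mod_cast congrArg (fun z : ℤ => (z : ℚ)) this
    rw [e] at h
    rw [div_le_div_iff₀ aψ aφ]
    linarith

lemma w4RedLT_iff {d : ℕ} {ψ φ : ℚ[X]} (aψ : 0 < StabCat.alpha d ψ) (aφ : 0 < StabCat.alpha d φ) :
    W4c2simpsonmod1.RedLT d ψ φ ↔ StabCat.RedLT d ψ φ := by
  rw [redLT_iff]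
  unfold W4c2simpsonmod1.RedLT
  simp only [rankOf_eq_alpha]
  constructor
  · rintro ⟨N, hN⟩
    refine ⟨N.toNat, fun m hm => ?_⟩
    have h := hN (m : ℤ) (by omega)
    rw [div_lt_div_iff₀ aψ aφ] at h
    have e : (((m : ℤ) : ℚ)) = (m : ℚ) := by push_cast; rfl
    rw [e] at h
    linarith
  · rintro ⟨N, hN⟩
    refine ⟨(N : ℤ), fun m hm => ?_⟩
    have h := hN m.toNat (by omega)
    have e : ((m.toNat : ℕ) : ℚ) = (m : ℚ) := by
      have : ((m.toNat : ℕ) : ℤ) = m := Int.toNat_of_nonneg (by omega)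
      exact_mod_cast congrArg (fun z : ℤ => (z : ℚ)) this
    rw [e] at h
    rw [div_lt_div_iff₀ aψ aφ]
    linarith

end Groth.Agent.Lib.Helper23.Simp
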