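import Mathlib

/-!
# Finite chains in a partial order as strictly monotone sequences (helper23)
-/

set_option autoImplicit false
set_option linter.style.haveILetI false

namespace Groth.Agent.Lib.Helper23.Simp

/-- a nonempty finite chain in a partial order is the image of a strictly monotone map from
`Fin (m+1)`. -/
theorem exists_strictMono_of_finset_chain {α : Type*} [PartialOrder α] (C : Finset α)
    (hne : C.Nonempty) (hchain : IsChain (fun A B : α => A ≤ B) (↑C : Set α)) :
    ∃ (m : ℕ) (f : Fin (m + 1) → α), StrictMono f ∧ ∀ a, a ∈ C ↔ ∃ i, f i = a := by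
  classical
  letI : LinearOrder ↥C :=
    { (inferInstance : PartialOrder ↥C) with
      le_total := fun a b => by
        by_cases h : (a : α) = b
        · exact Or.inl (le_of_eq (Subtype.ext h))
        · exact hchain a.2 b.2 h
      toDecidableLE := Classical.decRel _ }
  have hcard : Fintype.card ↥C = (C.card - 1) + 1 := by
    rw [Fintype.card_coe]
    have := Finset.card_pos.2 hne
    omega
  let e : Fin ((C.card - 1) + 1) ≃o ↥C := monoEquivOfFin ↥C hcard
  refine ⟨C.card - 1, fun i => (e i : α), ?_, ?_⟩
  · intro i j hij
    exact e.strictMono hij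
  · intro a
    constructor
    · intro ha
      exact ⟨e.symm ⟨a, ha⟩, by simp⟩
    · rintro ⟨i, rfl⟩
      exact (e i).2

end Groth.Agent.Lib.Helper23.Simp
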