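import Mathlib
import Groth.Prelude
import Groth.Agent.Lib.Helper23.SimpB
import Groth.Agent.Lib.Helper23.SimpC
import Groth.Agent.Lib.Helper23.HilbJHc

/-!
# Harder–Narasimhan chains on projective space (helper23)
-/

set_option autoImplicit false
set_option linter.unusedSectionVars false
set_option linter.style.haveILetI false
universe u
open CategoryTheory CategoryTheory.Limits AlgebraicGeometry Polynomial

noncomputable section

namespace Groth.Agent.Lib.Helper23.Simp

open Groth.Agent.Lib.Helper17 Groth.Agent.Lib.Helper17.DevBasic Groth.Agent.Lib.Helper23.HilbP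
  Groth.Agent.Lib.Helper3 Groth.Agent.Lib.Helper3.InvMonoidal

variable {n : ℕ} {k : Type u} [Field k]

lemma zHilb_of_iso {M N : (CohB1.ProjSpace n k).Modules} (e : M ≅ N) {P : ℚ[X]}
    (h : ZHilb n k M P) : ZHilb n k N P := by
  intro m
  rw [← h m, Groth.Agent.Lib.Helper23.FBC.euler_eq_of_iso' k
    (tensorMapIso e (Iso.refl (Twist.twistProjSpace n k m)))]

variable (d : ℕ) {E : (CohB1.ProjSpace n k).Modules}

/-- the property of chains in the statement. -/
def ChainProp (C : Finset (Subobject E)) : Prop :=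
  ⊥ ∈ C ∧ ⊤ ∈ C ∧ IsChain (fun A B : Subobject E => A ≤ B) (↑C : Set (Subobject E)) ∧
    (∀ A ∈ C, Coh.IsCoh (A : (CohB1.ProjSpace n k).Modules)) ∧
    (∀ A ∈ C, ∀ B ∈ C, ∀ hAB : A < B, (∀ D ∈ C, ¬ (A < D ∧ D < B)) →
      (topologicalKrullDim ↥(CohB1.support (cokernel (Subobject.ofLE A B hAB.le))) =
          (d : WithBot ℕ∞) ∧
        ∀ (G : (CohB1.ProjSpace n k).Modules) (ι : G ⟶ (cokernel (Subobject.ofLE A B hAB.le))),
          Mono ι → Coh.IsCoh G → ¬ IsZero G →
            topologicalKrullDim ↥(CohB1.support G) = (d : WithBot ℕ∞)) ∧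
      (∀ (G : (CohB1.ProjSpace n k).Modules) (ι : G ⟶ (cokernel (Subobject.ofLE A B hAB.le))),
        Mono ι → Coh.IsCoh G → ¬ IsZero G →
        ∀ φ ψ : Polynomial ℚ,
          (∀ m : ℤ, (Curv2.euler k (CohB1.ProjSpace n k)
            (CohB1.tensorMod (cokernel (Subobject.ofLE A B hAB.le))
              (Twist.twistProjSpace n k m)) : ℚ) = φ.eval (m : ℚ)) →
          (∀ m : ℤ, (Curv2.euler k (CohB1.ProjSpace n k)
            (CohB1.tensorMod G (Twist.twistProjSpace n k m)) : ℚ) = ψ.eval (m : ℚ)) →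
          W4c2simpsonmod1.RedLE d ψ φ)) ∧
    (∀ A ∈ C, ∀ B ∈ C, ∀ B' ∈ C, ∀ hAB : A < B, ∀ hBB : B < B',
      (∀ D ∈ C, ¬ (A < D ∧ D < B)) → (∀ D ∈ C, ¬ (B < D ∧ D < B')) →
      ∀ ψ ψ' : Polynomial ℚ,
        (∀ m : ℤ, (Curv2.euler k (CohB1.ProjSpace n k)
          (CohB1.tensorMod (cokernel (Subobject.ofLE A B hAB.le))
            (Twist.twistProjSpace n k m)) : ℚ) = ψ.eval (m : ℚ)) →
        (∀ m : ℤ, (Curv2.euler k (CohB1.ProjSpace n k)
          (CohB1.tensorMod (cokernel (Subobject.ofLE B B' hBB.le))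
            (Twist.twistProjSpace n k m)) : ℚ) = ψ'.eval (m : ℚ)) →
        W4c2simpsonmod1.RedLT d ψ' ψ)

/-- the finite set of terms of a series. -/
def imageFinset (s : LTSeries (Subobject E)) : Finset (Subobject E) := by
  classical
  exact Finset.univ.image (fun i : Fin (s.length + 1) => s i)

lemma mem_imageFinset (s : LTSeries (Subobject E)) (A : Subobject E) :
    A ∈ imageFinset s ↔ ∃ i : Fin (s.length + 1), s i = A := by
  classical
  unfold imageFinset
  simp

variable {d}

/-- the terms of a Harder–Narasimhan filtration are coherent. -/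
lemma isCoh_of_isHN (s : LTSeries (Subobject E))
    (hs : ShStab.IsHNFiltration k (CohB1.ProjSpace n k) (Twist.twistProjSpace n k 1) E d s)
    (i : Fin (s.length + 1)) : Coh.IsCoh (s i : (CohB1.ProjSpace n k).Modules) := by
  induction i using Fin.induction with
  | zero =>
    have h0 : s 0 = ⊥ := hs.1
    rw [h0]
    exact isCoh_of_isZero (IsZero.of_iso (isZero_zero _) Subobject.botCoeIsoZero)
  | succ i ih =>
    have hSE := DevKey.shortExact_of_mono
      (Subobject.ofLE (s i.castSucc) (s i.succ) (le_of_lt (s.step i)))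
    exact Groth.Agent.Lib.Helper1.PushCoh.isCoh_of_shortExact _ hSE ih (hs.2.2.1 i).1

end Groth.Agent.Lib.Helper23.Simp
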