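import Mathlib
import Groth.Prelude
import Groth.Agent.Lib.Helper23.SimpD

/-!
# From a Harder–Narasimhan filtration to a Harder–Narasimhan chain (helper23)
-/

set_option autoImplicit false
set_option linter.unusedSectionVars false
set_option linter.style.haveILetI false
universe u
open CategoryTheory CategoryTheory.Limits AlgebraicGeometry Polynomial

noncomputable section

namespace Groth.Agent.Lib.Helper23.Simp

open Groth.Agent.Lib.Helper17 Groth.Agent.Lib.Helper17.DevBasic Groth.Agent.Lib.Helper23.HilbP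
  Groth.Agent.Lib.Helper3 Groth.Agent.Lib.Helper3.InvMonoidal

variable {n : ℕ} {k : Type u} [Field k] {d : ℕ} {E : (CohB1.ProjSpace n k).Modules}

/-- consecutive members of the image of a series are consecutive terms. -/
lemma consecutive_index (s : LTSeries (Subobject E)) (i j : Fin (s.length + 1))
    (hAB : s i < s j) (hno : ∀ D ∈ imageFinset s, ¬ (s i < D ∧ D < s j)) :
    j.val = i.val + 1 := by
  have hij : i < j := s.strictMono.lt_iff_lt.1 hAB
  by_contra hne
  have hlt : i.val + 1 < j.val := by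
    have : i.val < j.val := hij
    omega
  have hb : i.val + 1 < s.length + 1 := by
    have := j.isLt
    omega
  let l : Fin (s.length + 1) := ⟨i.val + 1, hb⟩
  refine hno (s l) ((mem_imageFinset s _).2 ⟨l, rfl⟩) ⟨s.strictMono ?_, s.strictMono ?_⟩
  · show i.val < i.val + 1
    omega
  · show i.val + 1 < j.val
    exact hlt

/-- the iso of a consecutive quotient with a factor. -/
def consecIso (s : LTSeries (Subobject E)) (i j : Fin (s.length + 1)) (hAB : s i < s j)
    (hj : j.val = i.val + 1) :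
    cokernel (Subobject.ofLE (s i) (s j) hAB.le) ≅
      StabCat.factor s ⟨i.val, by have := j.isLt; omega⟩ :=
  SubCorr.cokerOfLEIso (congrArg s (Fin.ext rfl)) (congrArg s (Fin.ext (by simpa using hj))) _ _

theorem chainProp_of_isHN (s : LTSeries (Subobject E))
    (hs : ShStab.IsHNFiltration k (CohB1.ProjSpace n k) (Twist.twistProjSpace n k 1) E d s) :
    ChainProp d (imageFinset s) := by
  have hLa := hL n k
  refine ⟨(mem_imageFinset s _).2 ⟨0, hs.1⟩, (mem_imageFinset s _).2 ⟨Fin.last _, hs.2.1⟩,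
    ?_, ?_, ?_, ?_⟩
  · intro A hA B hB _
    obtain ⟨i, rfl⟩ := (mem_imageFinset s _).1 hA
    obtain ⟨j, rfl⟩ := (mem_imageFinset s _).1 hB
    rcases le_total i j with h | h
    · exact Or.inl (s.strictMono.monotone h)
    · exact Or.inr (s.strictMono.monotone h)
  · intro A hA
    obtain ⟨i, rfl⟩ := (mem_imageFinset s _).1 hA
    exact isCoh_of_isHN s hs i
  · intro A hA B hB hAB hno
    obtain ⟨i, rfl⟩ := (mem_imageFinset s _).1 hA
    obtain ⟨j, rfl⟩ := (mem_imageFinset s _).1 hB
    have hj := consecutive_index s i j hAB hno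
    have hQss : ShStab.IsSemistable k (CohB1.ProjSpace n k) (Twist.twistProjSpace n k 1)
        (cokernel (Subobject.ofLE (s i) (s j) hAB.le)) d :=
      isSemistable_of_iso k (consecIso s i j hAB hj).symm (hs.2.2.1 _)
    refine ⟨⟨hQss.2.2.1 _ (𝟙 _) inferInstance hQss.1 hQss.2.1,
      fun G ι hι hG hG0 => hQss.2.2.1 G ι hι hG hG0⟩, ?_⟩
    intro G ι hι hG hG0 φ ψ hφ hψ
    haveI := hι
    have hpQ := isHilbPoly_of_zHilb (n := n) (k := k) hφ
    have hpG := isHilbPoly_of_zHilb (n := n) (k := k) hψ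
    have h1 := redLE_of_sub k hQss ι hG hG0 hpG hpQ
    exact (w4RedLE_iff (alpha_pos_of_pure k hLa hQss.2.2.1 ι hG hG0 hpG)
      (alpha_pos_of_isSemistable k hLa hQss hpQ)).2 h1
  · intro A hA B hB B' hB' hAB hBB hno1 hno2 ψ ψ' hψ hψ'
    obtain ⟨i, rfl⟩ := (mem_imageFinset s _).1 hA
    obtain ⟨j, rfl⟩ := (mem_imageFinset s _).1 hB
    obtain ⟨l, rfl⟩ := (mem_imageFinset s _).1 hB'
    have hj := consecutive_index s i j hAB hno1
    have hl := consecutive_index s j l hBB hno2
    have hp1 := isHilbPoly_of_iso k (consecIso s i j hAB hj)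
      (isHilbPoly_of_zHilb (n := n) (k := k) hψ)
    have hp2 := isHilbPoly_of_iso k (consecIso s j l hBB hl)
      (isHilbPoly_of_zHilb (n := n) (k := k) hψ')
    have h1 := hs.2.2.2 ⟨i.val, by have := j.isLt; omega⟩ ⟨j.val, by have := l.isLt; omega⟩
      hj.symm ψ ψ' hp1 hp2
    exact (w4RedLT_iff (alpha_pos_of_isSemistable k hLa (hs.2.2.1 _) hp2)
      (alpha_pos_of_isSemistable k hLa (hs.2.2.1 _) hp1)).2 h1

end Groth.Agent.Lib.Helper23.Simp
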