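import Mathlib
import Groth.Prelude
import Groth.Agent.Lib.Helper23.SimpE
import Groth.Agent.Lib.Helper23.HilbJH
import Groth.Agent.Lib.Helper23.HilbHNa
import Groth.Agent.Lib.Helper23.HilbHNb

/-!
# From a Harder–Narasimhan chain to a Harder–Narasimhan filtration; uniqueness (helper23)
-/

set_option autoImplicit false
set_option linter.unusedSectionVars false
set_option linter.style.haveILetI false
universe u
open CategoryTheory CategoryTheory.Limits AlgebraicGeometry Polynomial

noncomputable section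

namespace Groth.Agent.Lib.Helper23.Simp

open Groth.Agent.Lib.Helper17 Groth.Agent.Lib.Helper17.DevBasic Groth.Agent.Lib.Helper23.HilbP
  Groth.Agent.Lib.Helper3 Groth.Agent.Lib.Helper3.InvMonoidal

variable {n : ℕ} {k : Type u} [Field k] {d : ℕ} {E : (CohB1.ProjSpace n k).Modules}

theorem exists_series_of_chainProp (C : Finset (Subobject E)) (hC : ChainProp d C) :
    ∃ s : LTSeries (Subobject E),
      ShStab.IsHNFiltration k (CohB1.ProjSpace n k) (Twist.twistProjSpace n k 1) E d s ∧
        C = imageFinset s := by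
  haveI := isNoetherian_of_isProper k (CohB1.ProjSpace n k)
  have hLa := hL n k
  obtain ⟨hbot, htop, hchain, hcoh, hfac, hslope⟩ := hC
  obtain ⟨m, f, hf, hmem⟩ := exists_strictMono_of_finset_chain C ⟨⊥, hbot⟩ hchain
  let s : LTSeries (Subobject E) := LTSeries.mk m f hf
  have hsf : ∀ i : Fin (m + 1), s i = f i := fun i => rfl
  have hfC : ∀ i, f i ∈ C := fun i => (hmem _).2 ⟨i, rfl⟩
  -- no member strictly between consecutive terms
  have hno : ∀ (a b : Fin (m + 1)), b.val = a.val + 1 → ∀ D ∈ C, ¬ (f a < D ∧ D < f b) := by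
    intro a b hab D hD ⟨h1, h2⟩
    obtain ⟨l, rfl⟩ := (hmem D).1 hD
    have e1 : a.val < l.val := hf.lt_iff_lt.1 h1
    have e2 : l.val < b.val := hf.lt_iff_lt.1 h2
    omega
  have hhead : s.head = ⊥ := by
    obtain ⟨i, hi⟩ := (hmem ⊥).1 hbot
    have : f 0 ≤ f i := hf.monotone (Fin.zero_le i)
    rw [hi] at this
    exact le_bot_iff.1 this
  have hlast : s.last = ⊤ := by
    obtain ⟨i, hi⟩ := (hmem ⊤).1 htop
    have : f i ≤ f (Fin.last m) := hf.monotone (Fin.le_last i)
    rw [hi] at this
    exact top_le_iff.1 this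
  -- semistability of the factors
  have hss : ∀ I : Fin s.length, ShStab.IsSemistable k (CohB1.ProjSpace n k)
      (Twist.twistProjSpace n k 1) (StabCat.factor s I) d := by
    intro I
    have hAB : f I.castSucc < f I.succ := hf Fin.castSucc_lt_succ
    obtain ⟨⟨hdim, hpure⟩, hW⟩ := hfac _ (hfC I.castSucc) _ (hfC I.succ) hAB
      (hno I.castSucc I.succ (by simp))
    have hQc : Coh.IsCoh (StabCat.factor s I) :=
      isCoh_cokernel _ (hcoh _ (hfC I.castSucc)).1 (hcoh _ (hfC I.succ))
    have hQ0 : ¬ IsZero (StabCat.factor s I) := by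
      intro hz
      have hdim' : topologicalKrullDim ↥(CohB1.support (StabCat.factor s I)) =
          (d : WithBot ℕ∞) := hdim
      rw [support_eq_empty_of_isZero hz, topologicalKrullDim_empty] at hdim'
      exact WithBot.bot_ne_coe hdim'
    have hpure' : ShStab.IsPure (CohB1.ProjSpace n k) (StabCat.factor s I) d := hpure
    refine ⟨hQc, hQ0, hpure', ?_⟩
    intro F ι hι hF hF0 _ pF pE hpF hpE
    haveI := hι
    have h1 := hW F ι hι hF hF0 pE pF (zHilb_of_isHilbPoly hQc hpE) (zHilb_of_isHilbPoly hF hpF)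
    exact (w4RedLE_iff (alpha_pos_of_pure k hLa hpure' ι hF hF0 hpF)
      (alpha_pos_of_pure k hLa hpure' (𝟙 (StabCat.factor s I)) hQc hQ0 hpE)).1 h1
  refine ⟨s, ⟨hhead, hlast, hss, ?_⟩, ?_⟩
  · intro I J hIJ p q hp hq
    have hAB : f I.castSucc < f J.castSucc := hf (by
      show I.val < J.val
      omega)
    have hBB : f J.castSucc < f J.succ := hf Fin.castSucc_lt_succ
    have e1 : cokernel (Subobject.ofLE (f I.castSucc) (f J.castSucc) hAB.le) ≅
        StabCat.factor s I :=
      SubCorr.cokerOfLEIso rfl (congrArg f (Fin.ext (by simpa using hIJ.symm))) _ _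
    have h1 := hslope _ (hfC I.castSucc) _ (hfC J.castSucc) _ (hfC J.succ) hAB hBB
      (hno I.castSucc J.castSucc (by simpa using hIJ.symm)) (hno J.castSucc J.succ (by simp)) p q
      (zHilb_of_iso e1.symm (zHilb_of_isHilbPoly (hss I).1 hp))
      (zHilb_of_isHilbPoly (hss J).1 hq)
    exact (w4RedLT_iff (alpha_pos_of_isSemistable k hLa (hss J) hq)
      (alpha_pos_of_isSemistable k hLa (hss I) hp)).1 h1
  · ext A
    rw [mem_imageFinset, hmem]
    exact Iff.rfl

/-- **existence and uniqueness of the Harder–Narasimhan chain.** -/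
theorem existsUnique_chain (hE : Coh.IsCoh E) (h0 : ¬ IsZero E)
    (hp : ShStab.IsPure (CohB1.ProjSpace n k) E d) :
    ∃! C : Finset (Subobject E), ChainProp d C := by
  have hLa := hL n k
  obtain ⟨pE, hpE⟩ := exists_isHilbPoly k _ hLa E hE
  obtain ⟨m, -, hm⟩ := exists_nat_alpha_of_pure k hLa hp (𝟙 E) hE h0 hpE
  obtain ⟨s, hs⟩ := exists_isHNFiltration k hLa m E hE h0 hp pE hpE hm
  refine ⟨imageFinset s, chainProp_of_isHN s hs, ?_⟩
  intro C' hC'
  obtain ⟨s', hs', rfl⟩ := exists_series_of_chainProp C' hC'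
  rw [hn_unique k hLa s' s hs' hs]

end Groth.Agent.Lib.Helper23.Simp
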