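import Mathlib
import Groth.Prelude
import Groth.Agent.Lib.Helper23.SnapE
import Groth.Agent.Lib.Helper23.SnapD

/-!
# Helper library (helper23): intersection numbers are additive over top-dimensional components
-/

set_option autoImplicit false
set_option linter.unusedSectionVars false
set_option linter.style.haveILetI false
universe u
open CategoryTheory CategoryTheory.Limits AlgebraicGeometry

namespace Groth.Agent.Lib.Helper23.Snap

open Groth.Agent.Lib.Helper23.HilbP Groth.Agent.Lib.Helper1 Groth.Agent.Lib.Helper1.K0Dim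
open Groth.Agent.Lib.Helper23.Asymp

lemma coeff_ones_eq_zero_of_degLT {d : ℕ} {R : MvPolynomial (Fin d) ℚ} (hR : DegLT d R) :
    MvPolynomial.coeff (ones d) R = 0 := by
  by_contra h
  have hmem : ones d ∈ R.support := MvPolynomial.mem_support_iff.mpr h
  have := hR.support_lt _ hmem
  rw [ones_sum] at this
  exact lt_irrefl _ this

section Main

variable (k : Type u) [Field k] (X : Scheme.{u}) [X.Over (Spec (CommRingCat.of k))]
  [IsProper (X ↘ Spec (CommRingCat.of k))]

/-- general form: the mixed coefficient of the polynomial of `F` is the sum of the multiplicities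
times the mixed coefficients of the polynomials of the top-dimensional components. -/
theorem coeff_eq_finsum (d : ℕ) (L : Fin d → X.Modules) (hL : ∀ i, PicF.IsInvertible (L i))
    (F : X.Modules) (hF : Coh.IsCoh F)
    (hdim : topologicalKrullDim (CohB1.support F) ≤ (d : WithBot ℕ∞))
    (P : MvPolynomial (Fin d) ℚ) (hP : ∀ n, chiT k X d L F n = evN P n)
    (Q : X → MvPolynomial (Fin d) ℚ)
    (hQ : ∀ ξ : X, topologicalKrullDim ↥(closure ({ξ} : Set X)) = (d : WithBot ℕ∞) →
      ∀ n, chiT k X d L (Cyc.closureStructureSheaf ξ) n = evN (Q ξ) n) :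
    MvPolynomial.coeff (ones d) P =
      ∑ᶠ ξ : X, mult X d F ξ * MvPolynomial.coeff (ones d) (Q ξ) := by
  classical
  obtain ⟨R, hR, hev⟩ := chiT_sub_components k X d L hL d F hF hdim
  have hfin := finite_mult_support k X d F hF hdim
  set S := hfin.toFinset with hS
  have hmemS : ∀ ξ, mult X d F ξ ≠ 0 → ξ ∈ S := fun ξ h => by
    rw [hS, Set.Finite.mem_toFinset]
    exact h
  have hsum1 : ∀ n, (∑ᶠ ξ : X, mult X d F ξ * chiT k X d L (Cyc.closureStructureSheaf ξ) n) =
      ∑ ξ ∈ S, mult X d F ξ * evN (Q ξ) n := by
    intro n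
    rw [finsum_eq_sum_of_support_subset (s := S)]
    · refine Finset.sum_congr rfl fun ξ hξ => ?_
      have hm : mult X d F ξ ≠ 0 := by
        rw [hS, Set.Finite.mem_toFinset] at hξ
        exact hξ
      have hd : topologicalKrullDim ↥(closure ({ξ} : Set X)) = (d : WithBot ℕ∞) := by
        by_contra h
        exact hm (by unfold mult; rw [if_neg h])
      rw [hQ ξ hd n]
    · intro ξ hξ
      apply hmemS
      intro h0
      exact hξ (by simp [h0])
  have hpoly : P - ∑ ξ ∈ S, MvPolynomial.C (mult X d F ξ) * Q ξ = R := by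
    apply eq_of_evN_eq
    intro n
    have h1 := hev n
    simp only [] at h1
    rw [← h1, hsum1 n, hP n]
    simp [evN]
  have hc := congrArg (MvPolynomial.coeff (ones d)) hpoly
  rw [coeff_ones_eq_zero_of_degLT hR, MvPolynomial.coeff_sub, MvPolynomial.coeff_sum,
    sub_eq_zero] at hc
  rw [hc, finsum_eq_sum_of_support_subset (s := S)]
  · refine Finset.sum_congr rfl fun ξ _ => ?_
    rw [MvPolynomial.coeff_C_mul]
  · intro ξ hξ
    apply hmemS
    intro h0
    exact hξ (by simp [h0])

end Main

end Groth.Agent.Lib.Helper23.Snap
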