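import Mathlib
import Groth.Agent.Lib.Helper23.CExt5
import Groth.Agent.S11011
import Groth.Agent.S11012

/-! Places over a nonsingular place in a splitting field: single-step lemmas. -/

set_option autoImplicit false

namespace Groth.Agent.Lib.Helper23.Split

open FunFld TensorProduct
open Groth.Agent.Lib.Helper27
open Groth.Agent.Lib.Helper27.FF
open Groth.Agent.Lib.Helper23.TowerNS
open Groth.Agent.Lib.Helper23.CExt

universe u v

section FieldTheory

theorem finrank_eq_finInsepDegree (k ks F Fj : Type*) [Field k] [Field ks] [Field F] [Field Fj]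
    [Algebra k ks] [Algebra k F] [Algebra k Fj] [Algebra ks Fj] [Algebra F Fj]
    [IsScalarTower k ks Fj] [IsScalarTower k F Fj] [FiniteDimensional k ks]
    [FiniteDimensional k F] [FiniteDimensional k Fj] [Algebra.IsSeparable k ks]
    [IsPurelyInseparable ks Fj] [Algebra.IsSeparable F Fj] :
    Module.finrank ks Fj = Field.finInsepDegree k F := by
  haveI : FiniteDimensional ks Fj := FiniteDimensional.right k ks Fj
  haveI : FiniteDimensional F Fj := FiniteDimensional.right k F Fj
  haveI : Algebra.IsAlgebraic ks Fj := Algebra.IsAlgebraic.of_finite ks Fj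
  haveI : Algebra.IsAlgebraic F Fj := Algebra.IsAlgebraic.of_finite F Fj
  have e1 := Field.finSepDegree_mul_finSepDegree_of_isAlgebraic k ks Fj
  have e2 := Field.finSepDegree_mul_finSepDegree_of_isAlgebraic k F Fj
  rw [Field.finSepDegree_eq_finrank_of_isSeparable k ks,
    IsPurelyInseparable.finSepDegree_eq_one ks Fj, mul_one] at e1
  rw [Field.finSepDegree_eq_finrank_of_isSeparable F Fj] at e2
  have e3 := Module.finrank_mul_finrank k ks Fj
  have e4 := Module.finrank_mul_finrank k F Fj
  have e5 := Field.finSepDegree_mul_finInsepDegree k F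
  have hg : 0 < Module.finrank F Fj := Module.finrank_pos
  have hs : 0 < Field.finSepDegree k F := Nat.pos_of_ne_zero (fun h0 => by
    rw [h0, zero_mul] at e5
    exact (Module.finrank_pos (R := k) (M := F)).ne' e5.symm)
  have ha : Module.finrank k ks = Field.finSepDegree k F * Module.finrank F Fj :=
    e1.trans e2.symm
  apply Nat.eq_of_mul_eq_mul_left (Nat.mul_pos hs hg)
  calc Field.finSepDegree k F * Module.finrank F Fj * Module.finrank ks Fj
      = Module.finrank k ks * Module.finrank ks Fj := by rw [ha]
    _ = Module.finrank k Fj := e3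
    _ = Module.finrank k F * Module.finrank F Fj := e4.symm
    _ = Field.finSepDegree k F * Field.finInsepDegree k F * Module.finrank F Fj := by rw [e5]
    _ = Field.finSepDegree k F * Module.finrank F Fj * Field.finInsepDegree k F := by ring

theorem finrank_eq_finInsepDegree' (k ks F Fj : Type*) [Field k] [Field ks] [Field F]
    [Field Fj] [Algebra k ks] [Algebra k F]
    [FiniteDimensional k ks] [FiniteDimensional k F] [Algebra.IsSeparable k ks]
    (a : ks →+* Fj) (φ : F →+* Fj)
    (hcomp : ∀ c : k, φ (algebraMap k F c) = a (algebraMap k ks c))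
    (hfin : @Module.Finite ks Fj _ _ a.toAlgebra.toModule)
    (hpi : @IsPurelyInseparable ks Fj _ _ a.toAlgebra)
    (hsep : @Algebra.IsSeparable F Fj _ _ φ.toAlgebra) :
    @Module.finrank ks Fj _ _ a.toAlgebra.toModule = Field.finInsepDegree k F := by
  letI : Algebra ks Fj := a.toAlgebra
  letI : Algebra F Fj := φ.toAlgebra
  letI : Algebra k Fj := (a.comp (algebraMap k ks)).toAlgebra
  haveI : IsScalarTower k ks Fj := IsScalarTower.of_algebraMap_eq (fun _ => rfl)
  haveI : IsScalarTower k F Fj := IsScalarTower.of_algebraMap_eq (fun c => (hcomp c).symm)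
  haveI : FiniteDimensional ks Fj := hfin
  haveI : FiniteDimensional k Fj := FiniteDimensional.trans k ks Fj
  haveI := hpi
  haveI := hsep
  exact finrank_eq_finInsepDegree k ks F Fj

end FieldTheory

section Single

variable {k k' : Type u} {K K' : Type v} [Field k] [Field k'] [Field K] [Field K']
  [Algebra k k'] [Algebra k K] [Algebra K K'] [Algebra k' K']
  [Algebra k K'] [IsScalarTower k k' K'] [IsScalarTower k K K']

theorem residue_compat (P : Place k K) (Q : Place k' K')
    [P.1.HasExtension (Place.down (k := k) Q).1] (c : k) :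
    algebraMap (IsLocalRing.ResidueField P.O)
      (IsLocalRing.ResidueField (Place.down (k := k) Q).O)
      (algebraMap k (IsLocalRing.ResidueField P.O) c) =
      (algebraMap k' (IsLocalRing.ResidueField Q.O) (algebraMap k k' c) :
        IsLocalRing.ResidueField Q.O) := by
  have hel : (algebraMap P.O (Place.down (k := k) Q).O (algebraMap k P.O c)) =
      (algebraMap k' Q.O (algebraMap k k' c) : Q.O) := by
    apply Subtype.ext
    show algebraMap K K' (algebraMap k K c) = algebraMap k' K' (algebraMap k k' c)
    rw [← IsScalarTower.algebraMap_apply k K K', ← IsScalarTower.algebraMap_apply k k' K']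
  exact congrArg (IsLocalRing.residue Q.O) hel

theorem hasExtension_of_isOver {P : Place k K} {Q : Place k' K'}
    (hover : IsOver (Place.down (k := k) Q) P) : P.1.HasExtension (Place.down (k := k) Q).1 := by
  obtain ⟨e, he⟩ := hover
  exact ⟨Valuation.isEquiv_iff_val_le_one.mpr
    (fun {x} => (isOverWith_val_le_one_iff he x).symm)⟩

/-- the residue field extension is separable when `k'/k` is separable and `P` is nonsingular. -/
theorem isSeparable_residue [FiniteDimensional k k'] [Algebra.IsSeparable k k']
    (h : Function.Bijective (Algebra.TensorProduct.productMap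
      (IsScalarTower.toAlgHom k k' K') (IsScalarTower.toAlgHom k K K')))
    (hK : IsFunctionField k K) (hg : IsGeometric k K) (P : Place k K)
    (hns : integralClosure (P.O.toSubring.map (algebraMap K K')) K' =
      Algebra.adjoin (P.O.toSubring.map (algebraMap K K')) (Set.range (algebraMap k' K')))
    (Q : Place k' K') [P.1.HasExtension (Place.down (k := k) Q).1] :
    Algebra.IsSeparable (IsLocalRing.ResidueField P.O)
      (IsLocalRing.ResidueField (Place.down (k := k) Q).O) := by
  classical
  haveI : FiniteDimensional K K' := Geo.finiteDimensional_of_bijective h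
  letI : Algebra P.O K' := ((algebraMap K K').comp P.O.subtype).toAlgebra
  haveI : IsScalarTower P.O K K' := IsScalarTower.of_algebraMap_eq (fun _ => rfl)
  have hnsO := ns_O_of_ns_map hK P hns
  have hk' : ∀ c : k', (Place.down (k := k) Q).1 (algebraMap k' K' c) ≤ 1 := fun c => Q.2.1 c
  have hadj := Groth.Agent.S12589.result k k' K K' h hK hg P hnsO (Place.down (k := k) Q) hk'
  let ψ : k' →+* IsLocalRing.ResidueField (Place.down (k := k) Q).O :=
    algebraMap k' (IsLocalRing.ResidueField Q.O)
  have hgen : ∀ c : k', IsSeparable (IsLocalRing.ResidueField P.O) (ψ c) := by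
    intro c
    have hc : IsSeparable k c := Algebra.IsSeparable.isSeparable k c
    have hcomp : (algebraMap (IsLocalRing.ResidueField P.O)
        (IsLocalRing.ResidueField (Place.down (k := k) Q).O)).comp
        (algebraMap k (IsLocalRing.ResidueField P.O)) = ψ.comp (algebraMap k k') :=
      RingHom.ext (residue_compat P Q)
    have hroot : Polynomial.aeval (ψ c)
        ((minpoly k c).map (algebraMap k (IsLocalRing.ResidueField P.O))) = 0 := by
      rw [Polynomial.aeval_def, Polynomial.eval₂_map, hcomp, ← Polynomial.hom_eval₂]
      have h0 : Polynomial.eval₂ (algebraMap k k') c (minpoly k c) = 0 := minpoly.aeval k c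
      rw [h0, map_zero]
    exact (Polynomial.Separable.map hc).of_dvd (minpoly.dvd _ _ hroot)
  have hle : Algebra.adjoin (IsLocalRing.ResidueField P.O)
      (Set.range fun c : k' => IsLocalRing.residue (Place.down (k := k) Q).O
        ⟨algebraMap k' K' c, hk' c⟩) ≤
      (separableClosure (IsLocalRing.ResidueField P.O)
        (IsLocalRing.ResidueField (Place.down (k := k) Q).O)).toSubalgebra :=
    Algebra.adjoin_le (by
      rintro _ ⟨c, rfl⟩
      show IsSeparable (IsLocalRing.ResidueField P.O) (ψ c)
      exact hgen c)
  rw [hadj] at hle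
  exact ⟨fun y => hle Algebra.mem_top⟩

/-- the residue field of `P` is purely inseparable over `k` when `k'/k` is purely inseparable
and some place over `P` has degree one. -/
theorem isPurelyInseparable_residue [IsPurelyInseparable k k'] (P : Place k K)
    (Q : Place k' K') [P.1.HasExtension (Place.down (k := k) Q).1] (hdeg : Q.deg = 1) :
    IsPurelyInseparable k (IsLocalRing.ResidueField P.O) := by
  have hdeg' : @Module.finrank k' (IsLocalRing.ResidueField Q.O) _ _
      (Place.algRes Q).toModule = 1 := hdeg
  have hsurj : ∀ w : IsLocalRing.ResidueField Q.O,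
      ∃ c : k', algebraMap k' (IsLocalRing.ResidueField Q.O) c = w := by
    intro w
    obtain ⟨c, hc⟩ := (finrank_eq_one_iff_of_nonzero' (1 : IsLocalRing.ResidueField Q.O)
      one_ne_zero).mp hdeg' w
    refine ⟨c, ?_⟩
    rw [Algebra.algebraMap_eq_smul_one]
    exact hc
  haveI : ExpChar k (ringExpChar k) := ringExpChar.expChar k
  rw [isPurelyInseparable_iff_pow_mem k (ringExpChar k)]
  intro x
  obtain ⟨c, hc⟩ := hsurj (algebraMap (IsLocalRing.ResidueField P.O)
    (IsLocalRing.ResidueField (Place.down (k := k) Q).O) x)
  obtain ⟨n, a, ha⟩ := IsPurelyInseparable.pow_mem k (ringExpChar k) c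
  refine ⟨n, a, ?_⟩
  apply (algebraMap (IsLocalRing.ResidueField P.O)
    (IsLocalRing.ResidueField (Place.down (k := k) Q).O)).injective
  rw [residue_compat P Q a, ha]
  simp only [map_pow]
  rw [hc]
  rfl

theorem finite_over [FiniteDimensional k k']
    (h : Function.Bijective (Algebra.TensorProduct.productMap
      (IsScalarTower.toAlgHom k k' K') (IsScalarTower.toAlgHom k K K')))
    (hK : IsFunctionField k K) (P : Place k K) :
    {Q : Place k' K' | IsOver (Place.down (k := k) Q) P}.Finite := by
  haveI : FiniteDimensional K K' := Geo.finiteDimensional_of_bijective h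
  have hfin := (sum_ramIdx_mul_deg (K' := K') hK P).1
  have hset : {Q : Place k' K' | IsOver (Place.down (k := k) Q) P} =
      (Place.down (k := k)) ⁻¹' {Q₀ : Place k K' | IsOver Q₀ P} := rfl
  rw [hset]
  exact hfin.preimage (Place.down_injective.injOn)

theorem sum_ramIdx_mul_deg_up [FiniteDimensional k k']
    (h : Function.Bijective (Algebra.TensorProduct.productMap
      (IsScalarTower.toAlgHom k k' K') (IsScalarTower.toAlgHom k K K')))
    (hK : IsFunctionField k K) (P : Place k K) (T : Finset (Place k' K'))
    (hT : ∀ Q, Q ∈ T ↔ IsOver (Place.down (k := k) Q) P) :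
    ∑ Q ∈ T, ramIdx (Place.down (k := k) Q) P * Q.deg = P.deg := by
  classical
  haveI : FiniteDimensional K K' := Geo.finiteDimensional_of_bijective h
  haveI : Algebra.IsAlgebraic k k' := Algebra.IsAlgebraic.of_finite k k'
  have h1 := (sum_ramIdx_mul_deg (K' := K') hK P).2 (T.image (Place.down (k := k))) (by
    intro Q₀
    rw [Finset.mem_image]
    constructor
    · rintro ⟨Q, hQ, rfl⟩
      exact (hT Q).mp hQ
    · intro hQ₀
      refine ⟨Place.up (k' := k') Q₀, (hT _).mpr ?_, Place.down_up (k' := k') Q₀⟩
      rw [Place.down_up (k' := k')]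
      exact hQ₀)
  rw [Finset.sum_image (fun a _ b _ hab => Place.down_injective hab),
    Geo.finrank_of_bijective h] at h1
  have h2 : ∀ Q ∈ T, ramIdx (Place.down (k := k) Q) P * (Place.down (k := k) Q).deg =
      Module.finrank k k' * (ramIdx (Place.down (k := k) Q) P * Q.deg) := by
    intro Q _
    rw [Place.deg_down]
    ring
  rw [Finset.sum_congr rfl h2, ← Finset.mul_sum] at h1
  exact Nat.eq_of_mul_eq_mul_left Module.finrank_pos h1

end Single

end Groth.Agent.Lib.Helper23.Split
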