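import Mathlib
import Groth.Agent.Lib.Helper23.Split1

/-! Places over a nonsingular place in a splitting field: the count and the ramification. -/

set_option autoImplicit false

namespace Groth.Agent.Lib.Helper23.Split

open FunFld TensorProduct
open Groth.Agent.Lib.Helper27
open Groth.Agent.Lib.Helper27.FF
open Groth.Agent.Lib.Helper23.TowerNS
open Groth.Agent.Lib.Helper23.CExt

universe u v

section Two

variable {k k₁ k₂ : Type u} {K K₁ K₂ : Type v} [Field k] [Field k₁] [Field k₂] [Field K]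
    [Field K₁] [Field K₂]
    [Algebra k k₁] [Algebra k₁ k₂] [Algebra k k₂] [IsScalarTower k k₁ k₂]
    [FiniteDimensional k k₁] [FiniteDimensional k₁ k₂]
    [Algebra k K] [Algebra K K₁] [Algebra k₁ K₁] [Algebra k K₁] [IsScalarTower k k₁ K₁]
    [IsScalarTower k K K₁]
    [Algebra K₁ K₂] [Algebra k₂ K₂] [Algebra k₁ K₂] [Algebra k K₂] [Algebra K K₂]
    [IsScalarTower k₁ k₂ K₂] [IsScalarTower k₁ K₁ K₂] [IsScalarTower K K₁ K₂]
    [IsScalarTower k K K₂] [IsScalarTower k k₂ K₂]

omit [IsScalarTower k k₁ k₂] [FiniteDimensional k k₁] [FiniteDimensional k₁ k₂]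
  [IsScalarTower k K K₁] [IsScalarTower k₁ K₁ K₂] [IsScalarTower k K K₂] in
theorem comp_over {P : Place k K} {P₁ : Place k₁ K₁} {Q : Place k₂ K₂} {e₁ e₀ : ℕ}
    (he₁ : IsOverWith (Place.down (k := k) P₁) P e₁)
    (he₀ : IsOverWith (Place.down (k := k₁) Q) P₁ e₀) :
    IsOverWith (Place.down (k := k) Q) P (e₁ * e₀) := by
  intro x
  have he₀' : ∀ y : K₁, Q.1 (algebraMap K₁ K₂ y) = P₁.1 y ^ e₀ := he₀
  have he₁' : ∀ x : K, P₁.1 (algebraMap K K₁ x) = P.1 x ^ e₁ := he₁
  show Q.1 (algebraMap K K₂ x) = P.1 x ^ (e₁ * e₀)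
  rw [IsScalarTower.algebraMap_apply K K₁ K₂, he₀', he₁', ← pow_mul]

theorem split_main [Algebra.IsSeparable k k₁] [IsPurelyInseparable k₁ k₂]
    (h1 : Function.Bijective (Algebra.TensorProduct.productMap
      (IsScalarTower.toAlgHom k k₁ K₁) (IsScalarTower.toAlgHom k K K₁)))
    (h2 : Function.Bijective (Algebra.TensorProduct.productMap
      (IsScalarTower.toAlgHom k₁ k₂ K₂) (IsScalarTower.toAlgHom k₁ K₁ K₂)))
    (hK : IsFunctionField k K) (hg : IsGeometric k K) (P : Place k K)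
    (hns1 : integralClosure (P.O.toSubring.map (algebraMap K K₁)) K₁ =
      Algebra.adjoin (P.O.toSubring.map (algebraMap K K₁)) (Set.range (algebraMap k₁ K₁)))
    (hsplit : ∀ Q : Place k₂ K₂, IsOver (Place.down (k := k) Q) P → Q.deg = 1) :
    ∃ T : Finset (Place k₂ K₂), (∀ Q, Q ∈ T ↔ IsOver (Place.down (k := k) Q) P) ∧
      T.card = Field.finSepDegree k (IsLocalRing.ResidueField P.O) ∧
      ∀ Q ∈ T, IsOverWith (Place.down (k := k) Q) P
        (Field.finInsepDegree k (IsLocalRing.ResidueField P.O)) := by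
  classical
  haveI : FiniteDimensional K K₁ := Geo.finiteDimensional_of_bijective h1
  haveI : FiniteDimensional K₁ K₂ := Geo.finiteDimensional_of_bijective h2
  haveI : FiniteDimensional k k₂ := FiniteDimensional.trans k k₁ k₂
  haveI : Algebra.IsAlgebraic k k₁ := Algebra.IsAlgebraic.of_finite k k₁
  haveI : Algebra.IsAlgebraic k₁ k₂ := Algebra.IsAlgebraic.of_finite k₁ k₂
  haveI : Algebra.IsAlgebraic K K₁ := Algebra.IsAlgebraic.of_finite K K₁
  haveI : Algebra.IsAlgebraic K₁ K₂ := Algebra.IsAlgebraic.of_finite K₁ K₂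
  have hK₁ := Geo.isFunctionField_constExt h1 hK hg
  have hg₁ := Geo.isGeometric_constExt h1 hg
  have htop := bijective_top h1 h2 hg
  have hA1 : ∀ P₁ : Place k₁ K₁, IsOver (Place.down (k := k) P₁) P →
      IsOverWith (Place.down (k := k) P₁) P 1 := by
    intro P₁ hP₁
    letI : Algebra P.O K₁ := ((algebraMap K K₁).comp P.O.subtype).toAlgebra
    haveI : IsScalarTower P.O K K₁ := IsScalarTower.of_algebraMap_eq (fun _ => rfl)
    exact (Groth.Agent.S11012.result k k₁ K K₁ h1 hK hg P (Place.down (k := k) P₁) hP₁).2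
  have hA2 : ∀ P₁ : Place k₁ K₁, ∃! Q₀ : Place k₁ K₂, IsOver Q₀ P₁ := fun P₁ =>
    Groth.Agent.S11011.result k₁ k₂ K₁ K₂ h2 hK₁ hg₁ P₁ (Or.inl inferInstance)
  have huniq : ∀ (P₁ : Place k₁ K₁) (Q Q' : Place k₂ K₂),
      IsOver (Place.down (k := k₁) Q) P₁ → IsOver (Place.down (k := k₁) Q') P₁ → Q = Q' := by
    intro P₁ Q Q' hQ hQ'
    obtain ⟨Q₀, -, hu⟩ := hA2 P₁
    exact Place.down_injective ((hu _ hQ).trans (hu _ hQ').symm)
  have hkey : ∀ (P₁ : Place k₁ K₁) (Q : Place k₂ K₂) (e₀ : ℕ),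
      IsOver (Place.down (k := k) P₁) P → IsOverWith (Place.down (k := k₁) Q) P₁ e₀ →
      e₀ = Field.finInsepDegree k (IsLocalRing.ResidueField P.O) ∧
      P₁.deg = Field.finInsepDegree k (IsLocalRing.ResidueField P.O) := by
    intro P₁ Q e₀ hP₁ he₀
    have hQP : IsOver (Place.down (k := k) Q) P := ⟨1 * e₀, comp_over (hA1 P₁ hP₁) he₀⟩
    have hdegQ : Q.deg = 1 := hsplit Q hQP
    have hsum := sum_ramIdx_mul_deg_up h2 hK₁ P₁ {Q} (by
      intro Q'
      rw [Finset.mem_singleton]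
      constructor
      · rintro rfl
        exact ⟨e₀, he₀⟩
      · intro hQ'
        exact huniq P₁ Q' Q hQ' ⟨e₀, he₀⟩)
    rw [Finset.sum_singleton, ramIdx_eq he₀, hdegQ, mul_one] at hsum
    haveI ext1 : P.1.HasExtension (Place.down (k := k) P₁).1 := hasExtension_of_isOver hP₁
    haveI ext2 : P₁.1.HasExtension (Place.down (k := k₁) Q).1 :=
      hasExtension_of_isOver ⟨e₀, he₀⟩
    have hsep := isSeparable_residue h1 hK hg P hns1 P₁
    have hpi := isPurelyInseparable_residue P₁ Q hdegQ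
    haveI hfdP : @Module.Finite k (IsLocalRing.ResidueField P.O) _ _
        (Place.algRes P).toModule :=
      Groth.Agent.Lib.Helper23.FF.finiteDimensional_residueField hK P
    have hfd₁ : @Module.Finite k₁ (IsLocalRing.ResidueField P₁.O) _ _
        (Place.algRes P₁).toModule :=
      Groth.Agent.Lib.Helper23.FF.finiteDimensional_residueField hK₁ P₁
    have hsep' : @Algebra.IsSeparable (IsLocalRing.ResidueField P.O)
        (IsLocalRing.ResidueField (Place.down (k := k) P₁).O) _ _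
        (algebraMap (IsLocalRing.ResidueField P.O)
          (IsLocalRing.ResidueField (Place.down (k := k) P₁).O)).toAlgebra := by
      have halgeq : (algebraMap (IsLocalRing.ResidueField P.O)
          (IsLocalRing.ResidueField (Place.down (k := k) P₁).O)).toAlgebra =
          (inferInstance : Algebra (IsLocalRing.ResidueField P.O)
            (IsLocalRing.ResidueField (Place.down (k := k) P₁).O)) :=
        Algebra.algebra_ext _ _ (fun r => rfl)
      rw [halgeq]
      exact hsep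
    have hdeg₁ : P₁.deg = Field.finInsepDegree k (IsLocalRing.ResidueField P.O) :=
      finrank_eq_finInsepDegree' k k₁ (IsLocalRing.ResidueField P.O)
        (IsLocalRing.ResidueField P₁.O)
        (algebraMap k₁ (IsLocalRing.ResidueField P₁.O))
        (algebraMap (IsLocalRing.ResidueField P.O)
          (IsLocalRing.ResidueField (Place.down (k := k) P₁).O))
        (residue_compat P P₁) hfd₁ hpi hsep'
    exact ⟨hsum.trans hdeg₁, hdeg₁⟩
  have hfin1 := finite_over h1 hK P
  have hfin2 := finite_over htop hK P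
  have hT1mem : ∀ P₁, P₁ ∈ hfin1.toFinset ↔ IsOver (Place.down (k := k) P₁) P :=
    fun P₁ => Set.Finite.mem_toFinset hfin1
  have hT2mem : ∀ Q, Q ∈ hfin2.toFinset ↔ IsOver (Place.down (k := k) Q) P :=
    fun Q => Set.Finite.mem_toFinset hfin2
  have hbelow : ∀ Q : Place k₂ K₂, ∃ P₁ : Place k₁ K₁, IsOver (Place.down (k := k₁) Q) P₁ := by
    intro Q
    obtain ⟨P₁, e, he⟩ := exists_isOverWith hK₁ (Place.down (k := k₁) Q)
    exact ⟨P₁, e, he⟩
  choose below hbelow' using hbelow
  have hbelowT1 : ∀ Q, IsOver (Place.down (k := k) Q) P →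
      IsOver (Place.down (k := k) (below Q)) P := by
    intro Q hQ
    obtain ⟨e₀, he₀⟩ := hbelow' Q
    obtain ⟨P', e₁, he₁⟩ := exists_isOverWith hK (Place.down (k := k) (below Q))
    obtain ⟨e, he⟩ := hQ
    obtain ⟨hPP, -⟩ := isOverWith_unique (comp_over he₁ he₀) he
    rw [hPP] at he₁
    exact ⟨e₁, he₁⟩
  have habove : ∀ P₁ : Place k₁ K₁, ∃ (Q : Place k₂ K₂) (e₀ : ℕ),
      IsOverWith (Place.down (k := k₁) Q) P₁ e₀ := by
    intro P₁
    obtain ⟨Q₀, ⟨e₀, he₀⟩, -⟩ := hA2 P₁
    refine ⟨Place.up (k' := k₂) Q₀, e₀, ?_⟩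
    rw [Place.down_up (k' := k₂)]
    exact he₀
  have e5 : Field.finSepDegree k (IsLocalRing.ResidueField P.O) *
      Field.finInsepDegree k (IsLocalRing.ResidueField P.O) = P.deg :=
    Field.finSepDegree_mul_finInsepDegree k (IsLocalRing.ResidueField P.O)
  have hdi : 0 < Field.finInsepDegree k (IsLocalRing.ResidueField P.O) :=
    Nat.pos_of_ne_zero (fun h0 => by
      rw [h0, mul_zero] at e5
      exact (Groth.Agent.Lib.Helper23.FF.deg_pos hK P).ne' e5.symm)
  have hcard1 : hfin1.toFinset.card = Field.finSepDegree k (IsLocalRing.ResidueField P.O) := by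
    have hsum := sum_ramIdx_mul_deg_up h1 hK P hfin1.toFinset hT1mem
    have hterm : ∀ P₁ ∈ hfin1.toFinset, ramIdx (Place.down (k := k) P₁) P * P₁.deg =
        Field.finInsepDegree k (IsLocalRing.ResidueField P.O) := by
      intro P₁ hP₁
      have hP₁' := (hT1mem P₁).mp hP₁
      obtain ⟨Q, e₀, he₀⟩ := habove P₁
      rw [ramIdx_eq (hA1 P₁ hP₁'), one_mul, (hkey P₁ Q e₀ hP₁' he₀).2]
    rw [Finset.sum_congr rfl hterm, Finset.sum_const, smul_eq_mul, ← e5] at hsum
    exact Nat.eq_of_mul_eq_mul_right hdi hsum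
  refine ⟨hfin2.toFinset, hT2mem, ?_, ?_⟩
  · rw [← hcard1]
    refine Finset.card_bij (fun Q _ => below Q) ?_ ?_ ?_
    · intro Q hQ
      exact (hT1mem _).mpr (hbelowT1 Q ((hT2mem Q).mp hQ))
    · intro Q hQ Q' hQ' hEq
      have hEq' : below Q = below Q' := hEq
      have h1' := hbelow' Q
      have h2' := hbelow' Q'
      rw [← hEq'] at h2'
      exact huniq (below Q) Q Q' h1' h2'
    · intro P₁ hP₁
      have hP₁' := (hT1mem P₁).mp hP₁
      obtain ⟨Q, e₀, he₀⟩ := habove P₁
      have hQP : IsOver (Place.down (k := k) Q) P :=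
        ⟨1 * e₀, comp_over (hA1 P₁ hP₁') he₀⟩
      refine ⟨Q, (hT2mem Q).mpr hQP, ?_⟩
      obtain ⟨e', he'⟩ := hbelow' Q
      exact (isOverWith_unique he' he₀).1
  · intro Q hQ
    have hQP := (hT2mem Q).mp hQ
    obtain ⟨e₀, he₀⟩ := hbelow' Q
    have hP₁ := hbelowT1 Q hQP
    have h3 := comp_over (hA1 _ hP₁) he₀
    rw [one_mul, (hkey _ Q e₀ hP₁ he₀).1] at h3
    exact h3

end Two

section Final

theorem exists_sep_sub (k k' : Type u) [Field k] [Field k'] [Algebra k k']
    [FiniteDimensional k k'] :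
    ∃ (k₁ : Type u) (_ : Field k₁) (_ : Algebra k k₁) (_ : Algebra k₁ k')
      (_ : IsScalarTower k k₁ k'),
      FiniteDimensional k k₁ ∧ Algebra.IsSeparable k k₁ ∧ IsPurelyInseparable k₁ k' :=
  ⟨↥(separableClosure k k'), inferInstance, inferInstance, inferInstance, inferInstance,
    inferInstance, inferInstance, inferInstance⟩

variable {k k' : Type u} {K K' : Type v} [Field k] [Field k'] [Field K] [Field K']
    [Algebra k k'] [FiniteDimensional k k'] [Algebra k K] [Algebra K K'] [Algebra k' K']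
    [Algebra k K'] [IsScalarTower k k' K'] [IsScalarTower k K K']

theorem split_final
    (h : Function.Bijective (Algebra.TensorProduct.productMap
      (IsScalarTower.toAlgHom k k' K') (IsScalarTower.toAlgHom k K K')))
    (hK : IsFunctionField k K) (hg : IsGeometric k K) (P : Place k K)
    (hns : ∀ (k'' : Type u) [Field k''] [Algebra k k''] [FiniteDimensional k k'']
      (K'' : Type v) [Field K''] [Algebra K K''] [Algebra k'' K''] [Algebra k K'']
      [IsScalarTower k k'' K''] [IsScalarTower k K K''],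
      Function.Bijective (Algebra.TensorProduct.productMap
        (IsScalarTower.toAlgHom k k'' K'') (IsScalarTower.toAlgHom k K K'')) →
      integralClosure (P.O.toSubring.map (algebraMap K K'')) K'' =
        Algebra.adjoin (P.O.toSubring.map (algebraMap K K'')) (Set.range (algebraMap k'' K'')))
    (hsplit : ∀ Q : Place k' K',
      (∃ e : ℕ, ∀ z : K, Q.1 (algebraMap K K' z) = P.1 z ^ e) → Q.deg = 1) :
    {Q : Place k' K' | ∃ e : ℕ, ∀ z : K, Q.1 (algebraMap K K' z) = P.1 z ^ e}.Finite ∧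
    {Q : Place k' K' | ∃ e : ℕ, ∀ z : K, Q.1 (algebraMap K K' z) = P.1 z ^ e}.ncard =
      Field.finSepDegree k (IsLocalRing.ResidueField P.O) ∧
    ∀ Q : Place k' K', (∃ e : ℕ, ∀ z : K, Q.1 (algebraMap K K' z) = P.1 z ^ e) →
      ∀ z : K, Q.1 (algebraMap K K' z) = P.1 z ^ Module.finrank
        (separableClosure k (IsLocalRing.ResidueField P.O)) (IsLocalRing.ResidueField P.O) := by
  classical
  obtain ⟨k₁, _, _, _, _, hfd₁, hsep, hpi⟩ := exists_sep_sub k k'
  haveI : FiniteDimensional k₁ k' := FiniteDimensional.right k k₁ k'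
  letI : Algebra k₁ K' := ((algebraMap k' K').comp (algebraMap k₁ k')).toAlgebra
  haveI : IsScalarTower k₁ k' K' := IsScalarTower.of_algebraMap_eq (fun _ => rfl)
  haveI : IsScalarTower k k₁ K' := tower_abd k k₁ k' K'
  letI : Algebra (CE k k₁ K hg hfd₁) K' := (CE.lift (K'' := K') hg hfd₁).toAlgebra
  haveI : IsScalarTower k₁ (CE k k₁ K hg hfd₁) K' :=
    IsScalarTower.of_algebraMap_eq (fun c => (CE.lift_inl (K'' := K') hg hfd₁ c).symm)
  haveI : IsScalarTower K (CE k k₁ K hg hfd₁) K' :=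
    IsScalarTower.of_algebraMap_eq (fun x => (CE.lift_inr (K'' := K') hg hfd₁ x).symm)
  have h1 := CE.bijective (k := k) (k' := k₁) (K := K) hg hfd₁
  have h2 := bijective_mid h1 h.2 hg
  have hns1 := hns k₁ (CE k k₁ K hg hfd₁) h1
  obtain ⟨T, hT, hcard, he⟩ := split_main h1 h2 hK hg P hns1 (fun Q hQ => hsplit Q hQ)
  have hset : {Q : Place k' K' | ∃ e : ℕ, ∀ z : K, Q.1 (algebraMap K K' z) = P.1 z ^ e} =
      ↑T := by
    ext Q
    exact (hT Q).symm
  refine ⟨?_, ?_, ?_⟩
  · rw [hset]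
    exact T.finite_toSet
  · rw [hset, Set.ncard_coe_finset, hcard]
  · intro Q hQ z
    exact he Q ((hT Q).mpr hQ) z

end Final

end Groth.Agent.Lib.Helper23.Split
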