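import Mathlib
import Groth.Prelude.Def_W4c2submetdescSubtr
import Groth.Agent.Lib.Helper22.Subtr

/-!
# S-subtrusive morphisms over a valuation ring (helper23)
-/

set_option autoImplicit false
universe u

open CategoryTheory CategoryTheory.Limits AlgebraicGeometry

namespace Groth.Agent.Lib.Helper23.SubtrA

open Groth.Agent.Lib.Helper22.SubtrLib

/-- A morphism admitting a flat surjective "multi-section" is universally S-subtrusive. -/
theorem univSSubtrusive_of_flat_surjective {X Y Z : Scheme.{u}} (f : X ⟶ Y) (i : Z ⟶ X)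
    [Flat (i ≫ f)] [Surjective (i ≫ f)] : Subtr.UnivSSubtrusive f := by
  intro X' Y' i₁ i₂ f' H
  let p : pullback (i ≫ f) i₂ ⟶ Y' := pullback.snd _ _
  have hflat : Flat p := inferInstance
  have hsurj : Surjective p := inferInstance
  let k : pullback (i ≫ f) i₂ ⟶ X' :=
    H.lift p (pullback.fst _ _ ≫ i) (by
      simp only [p, Category.assoc]
      exact pullback.condition.symm)
  have hk : k ≫ f' = p := H.lift_fst _ _ _
  intro y y' hyy'
  obtain ⟨z, rfl⟩ := hsurj.surj y
  obtain ⟨z', hz', rfl⟩ := (Flat.generalizingMap p) hyy'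
  refine ⟨k z, k z', hz'.map k.continuous, ?_, ?_⟩
  · rw [← Scheme.Hom.comp_apply, hk]
  · rw [← Scheme.Hom.comp_apply, hk]

end Groth.Agent.Lib.Helper23.SubtrA
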