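import Mathlib
import Groth.Prelude.Def_W4c2submetdescSubtr
import Groth.Agent.Lib.Helper22.Subtr

/-!
# Points of the closure of the generic fibre (helper23)
-/

set_option autoImplicit false
universe u

open CategoryTheory CategoryTheory.Limits AlgebraicGeometry

namespace Groth.Agent.Lib.Helper23.SubtrB

open Groth.Agent.Lib.Helper22.SubtrLib

theorem exists_le_prime_comap_eq_bot {V A : Type u} [CommRing V] [IsDomain V] [CommRing A]
    (φ : V →+* A) (p : PrimeSpectrum A)
    (h : ∀ t : A, t ∉ p.asIdeal → ∃ q : PrimeSpectrum A, t ∉ q.asIdeal ∧ q.asIdeal.comap φ = ⊥) :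
    ∃ q : PrimeSpectrum A, q.asIdeal ≤ p.asIdeal ∧ q.asIdeal.comap φ = ⊥ := by
  let M : Submonoid A := (nonZeroDivisors V).map φ ⊔ p.asIdeal.primeCompl
  have hdis : Disjoint ((⊥ : Ideal A) : Set A) (M : Set A) := by
    rw [Set.disjoint_left]
    intro a ha haM
    have ha0 : a = 0 := ha
    subst ha0
    obtain ⟨y, hy, z, hz, hyz⟩ := Submonoid.mem_sup.mp haM
    obtain ⟨v, hv, rfl⟩ := Submonoid.mem_map.mp hy
    obtain ⟨q, hq1, hq2⟩ := h z hz
    have hmem : φ v * z ∈ q.asIdeal := by rw [hyz]; exact zero_mem _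
    rcases q.isPrime.mem_or_mem hmem with h1 | h1
    · have h2 : v ∈ q.asIdeal.comap φ := h1
      rw [hq2] at h2
      exact nonZeroDivisors.ne_zero hv h2
    · exact hq1 h1
  obtain ⟨q, hq, -, hqM⟩ := Ideal.exists_le_prime_disjoint ⊥ M hdis
  refine ⟨⟨q, hq⟩, ?_, ?_⟩
  · intro a ha
    by_contra hap
    exact Set.disjoint_left.mp hqM ha (Submonoid.mem_sup_right hap)
  · rw [eq_bot_iff]
    intro v hv
    by_contra hv0
    exact Set.disjoint_left.mp hqM hv
      (Submonoid.mem_sup_left (Submonoid.mem_map_of_mem _ (mem_nonZeroDivisors_of_ne_zero hv0)))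

/-- A point in the closure of the generic fibre is a specialization of a point of the generic
fibre. -/
theorem exists_generization_genPt (V : Type u) [CommRing V] [IsDomain V] {X : Scheme.{u}}
    (f : X ⟶ Spec (CommRingCat.of V)) (x : X)
    (hx : x ∈ closure (f ⁻¹' {genPt V})) : ∃ x' : X, x' ⤳ x ∧ f x' = genPt V := by
  obtain ⟨U, hU, hxU, -⟩ := exists_isAffineOpen_mem_and_subset (x := x) (U := ⊤) trivial
  let φ : CommRingCat.of V ⟶ Γ(X, U) := Spec.preimage (hU.fromSpec ≫ f)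
  have hφ : Spec.map φ = hU.fromSpec ≫ f := Spec.map_preimage _
  let p : Spec Γ(X, U) := hU.primeIdealOf ⟨x, hxU⟩
  have hp : hU.fromSpec p = x := hU.fromSpec_primeIdealOf ⟨x, hxU⟩
  have hcomap : ∀ q : Spec Γ(X, U), f (hU.fromSpec q) = genPt V ↔
      (q : PrimeSpectrum Γ(X, U)).asIdeal.comap φ.hom = ⊥ := by
    intro q
    rw [← Scheme.Hom.comp_apply, ← hφ]
    constructor
    · intro h
      exact congrArg PrimeSpectrum.asIdeal h
    · intro h
      exact PrimeSpectrum.ext h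
  obtain ⟨q, hq1, hq2⟩ := exists_le_prime_comap_eq_bot φ.hom p (by
    intro t ht
    have hopen : IsOpen (hU.fromSpec '' (PrimeSpectrum.basicOpen t : Set (PrimeSpectrum Γ(X, U)))) :=
      hU.fromSpec.isOpenEmbedding.isOpenMap _ (PrimeSpectrum.basicOpen t).isOpen
    have hmem : x ∈ hU.fromSpec '' (PrimeSpectrum.basicOpen t : Set (PrimeSpectrum Γ(X, U))) :=
      ⟨p, ht, hp⟩
    obtain ⟨x'', ⟨q, hq, rfl⟩, hx''⟩ := mem_closure_iff.mp hx _ hopen hmem
    exact ⟨q, hq, (hcomap q).mp hx''⟩)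
  refine ⟨hU.fromSpec q, ?_, (hcomap q).mpr hq2⟩
  rw [← hp]
  exact ((PrimeSpectrum.le_iff_specializes q p).mp hq1).map hU.fromSpec.continuous

end Groth.Agent.Lib.Helper23.SubtrB
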