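import Mathlib
import Groth.Prelude.Def_W4c2submetdescSubtr
import Groth.Agent.Lib.Helper22.Subtr
import Groth.Agent.Lib.Helper7.RedLib

/-!
# Flatness of the reduced closure of a point of the generic fibre (helper23)
-/

set_option autoImplicit false
universe u

open CategoryTheory CategoryTheory.Limits AlgebraicGeometry

namespace Groth.Agent.Lib.Helper23.SubtrC

open Groth.Agent.Lib.Helper22.SubtrLib

theorem flat_comp_of_isOpenImmersion_Spec {V : Type u} [CommRing V] [IsDomain V] [ValuationRing V]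
    {Z : Scheme.{u}} [IsReduced Z] (h : Z ⟶ Spec (CommRingCat.of V)) (z₀ : Z)
    (hz₀ : ∀ z : Z, z₀ ⤳ z) (hgen : h z₀ = genPt V)
    {R : CommRingCat.{u}} (j : Spec R ⟶ Z) [IsOpenImmersion j] : Flat (j ≫ h) := by
  obtain ⟨ψ, hψ⟩ : ∃ ψ : CommRingCat.of V ⟶ R, Spec.map ψ = j ≫ h :=
    ⟨Spec.preimage _, Spec.map_preimage _⟩
  rw [← hψ, Flat.SpecMap_iff]
  have hredS : IsReduced (Spec R) := isReduced_of_isOpenImmersion j
  have hred : _root_.IsReduced R := (affine_isReduced_iff R).mp hredS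
  letI : Algebra V R := ψ.hom.toAlgebra
  change Module.Flat V R
  rw [Module.Flat.flat_iff_torsion_eq_bot_of_isBezout, eq_bot_iff]
  intro r hr
  obtain ⟨a, ha⟩ := (Submodule.mem_torsion_iff r).mp hr
  rw [Submodule.mem_bot]
  have h1 : ψ.hom (a : V) * r = 0 := by
    have := ha
    rwa [Submonoid.smul_def, Algebra.smul_def] at this
  -- `r` lies in every prime
  have hnil : r ∈ nilradical R := by
    rw [nilradical_eq_sInf, Ideal.mem_sInf]
    intro q hq
    let qq : Spec R := (⟨q, hq⟩ : PrimeSpectrum R)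
    -- the generic point lies in the range of `j`
    have hspec : z₀ ⤳ j qq := hz₀ _
    have hmem : z₀ ∈ Set.range j :=
      j.isOpenEmbedding.isOpen_range.stableUnderGeneralization hspec ⟨qq, rfl⟩
    obtain ⟨q₀, hq₀⟩ := hmem
    have hspec' : q₀ ⤳ qq := by
      rw [← j.isOpenEmbedding.isInducing.specializes_iff, hq₀]
      exact hspec
    have hle : (q₀ : PrimeSpectrum R).asIdeal ≤ q := (PrimeSpectrum.le_iff_specializes q₀ qq).mpr hspec'
    have hcomap : (q₀ : PrimeSpectrum R).asIdeal.comap ψ.hom = ⊥ := by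
      have h2 : (Spec.map ψ) q₀ = genPt V := by
        rw [hψ, Scheme.Hom.comp_apply, hq₀, hgen]
      exact congrArg PrimeSpectrum.asIdeal h2
    have hmem0 : ψ.hom (a : V) * r ∈ (q₀ : PrimeSpectrum R).asIdeal := by
      rw [h1]; exact zero_mem _
    rcases (q₀ : PrimeSpectrum R).isPrime.mem_or_mem hmem0 with h3 | h3
    · exfalso
      have h4 : (a : V) ∈ (q₀ : PrimeSpectrum R).asIdeal.comap ψ.hom := h3
      rw [hcomap] at h4
      exact nonZeroDivisors.coe_ne_zero a h4
    · exact hle h3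
  rw [nilradical_eq_zero R] at hnil
  exact hnil

theorem flat_of_isReduced_of_generic {V : Type u} [CommRing V] [IsDomain V] [ValuationRing V]
    {Z : Scheme.{u}} [IsReduced Z] (h : Z ⟶ Spec (CommRingCat.of V)) (z₀ : Z)
    (hz₀ : ∀ z : Z, z₀ ⤳ z) (hgen : h z₀ = genPt V) : Flat h := by
  rw [IsZariskiLocalAtSource.iff_of_openCover (P := @Flat) Z.affineOpenCover.openCover]
  intro j
  exact flat_comp_of_isOpenImmersion_Spec h z₀ hz₀ hgen (Z.affineOpenCover.f j)

end Groth.Agent.Lib.Helper23.SubtrC
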