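import Mathlib
import Groth.Prelude.Def_W4c2submetdescSubtr
import Groth.Agent.Lib.Helper22.Subtr
import Groth.Agent.Lib.Helper7.RedLib
import Groth.Agent.Lib.Helper23.SubtrC

/-!
# A flat surjective closed subscheme from a valuation ring (helper23)
-/

set_option autoImplicit false
universe u

open CategoryTheory CategoryTheory.Limits AlgebraicGeometry TopologicalSpace

namespace Groth.Agent.Lib.Helper23.SubtrD

open Groth.Agent.Lib.Helper22.SubtrLib Groth.Agent.Lib.Helper23.SubtrC

theorem genPt_specializes (W : Type u) [CommRing W] [IsDomain W] (w : Spec (CommRingCat.of W)) :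
    genPt W ⤳ w :=
  (PrimeSpectrum.le_iff_specializes (genPt W : PrimeSpectrum W) (w : PrimeSpectrum W)).mp bot_le

theorem eq_genPt_of_specializes (V : Type u) [CommRing V] [IsDomain V]
    (y : Spec (CommRingCat.of V)) (h : y ⤳ genPt V) : y = genPt V := by
  have h3 := (PrimeSpectrum.le_iff_specializes (y : PrimeSpectrum V) (genPt V : PrimeSpectrum V)).mpr h
  exact PrimeSpectrum.ext (le_bot_iff.mp h3)

theorem exists_flat_closed {V W : Type u} [CommRing V] [IsDomain V] [ValuationRing V]
    [CommRing W] [IsDomain W] {X : Scheme.{u}} (f : X ⟶ Spec (CommRingCat.of V))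
    (g : Spec (CommRingCat.of W) ⟶ X) (hs : Surjective (g ≫ f)) :
    ∃ (Z : Scheme.{u}) (i : Z ⟶ X), IsClosedImmersion i ∧ Flat (i ≫ f) ∧ Surjective (i ≫ f) := by
  let x' := g (genPt W)
  let F : Closeds X := ⟨closure {x'}, isClosed_closure⟩
  let I := Scheme.IdealSheafData.vanishingIdeal F
  have hred : IsReduced I.subscheme := Groth.Agent.Lib.Helper7.isReduced_vanishingIdeal_subscheme F
  have hrange : Set.range I.subschemeι = closure {x'} := by
    rw [Scheme.IdealSheafData.range_subschemeι, Scheme.IdealSheafData.coe_support_vanishingIdeal]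
    rfl
  obtain ⟨z₀, hz₀⟩ : x' ∈ Set.range I.subschemeι := by
    rw [hrange]; exact subset_closure rfl
  have hgen : ∀ z, z₀ ⤳ z := by
    intro z
    rw [← I.subschemeι.isEmbedding.isInducing.specializes_iff, hz₀, specializes_iff_mem_closure,
      ← hrange]
    exact ⟨z, rfl⟩
  have hfx' : f x' = genPt V := by
    obtain ⟨w, hw⟩ := hs.surj (genPt V)
    have h2 : (g ≫ f) (genPt W) ⤳ (g ≫ f) w := (genPt_specializes W w).map (g ≫ f).continuous
    rw [hw] at h2
    exact eq_genPt_of_specializes V _ h2
  refine ⟨I.subscheme, I.subschemeι, inferInstance, ?_, ?_⟩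
  · exact flat_of_isReduced_of_generic (I.subschemeι ≫ f) z₀ hgen (by
      rw [Scheme.Hom.comp_apply, hz₀, hfx'])
  · constructor
    intro y
    obtain ⟨w, hw⟩ := hs.surj y
    have h2 : g w ∈ closure {x'} :=
      ((genPt_specializes W w).map g.continuous).mem_closure
    rw [← hrange] at h2
    obtain ⟨z, hz⟩ := h2
    exact ⟨z, by rw [Scheme.Hom.comp_apply, hz, ← Scheme.Hom.comp_apply, hw]⟩

end Groth.Agent.Lib.Helper23.SubtrD
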