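import Groth.Agent.Lib.Helper23.SurfRRC
import Groth.Agent.Lib.Helper4.NoEmb
import Groth.Agent.Lib.Helper22.Liaison1
import Groth.Agent.Lib.Helper22.CMGlue
import Groth.Agent.Lib.Helper22.DiagReg

set_option autoImplicit false
set_option linter.style.haveILetI false
universe u
open CategoryTheory CategoryTheory.Limits AlgebraicGeometry

namespace Groth.Agent.Lib.Helper23.SurfRR

/-- an lci algebra over a (ring which is a) field is Cohen–Macaulay. -/
theorem cm_of_lci_of_isField (K : Type u) [CommRing K] (hK : IsField K) (A : Type u) [CommRing A]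
    [Algebra K A] (h : LCI.IsLCI K A) : LocCoh.IsCohenMacaulayRing A := by
  obtain ⟨_, n, f, hf, hKz⟩ := h
  letI : Field K := hK.toField
  haveI := Groth.Agent.Lib.Helper4.NoEmb.gorenstein_of_lci_field K A n f hf hKz
  exact Groth.Agent.Lib.Helper22.Liaison.cm_of_gorenstein

/-- the local rings of a scheme lci over a field are Cohen–Macaulay. -/
theorem cm_stalk_of_isLCIMor (k : Type u) [Field k] (X : Scheme.{u})
    (f : X ⟶ Spec (CommRingCat.of k)) (hlci : Dual3.IsLCIMor f) (x : X) :
    LocCoh.IsCohenMacaulayLocalRing (X.presheaf.stalk x) := by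
  obtain ⟨U, V, e, hxU, h⟩ := hlci x
  have hV : V.1 = ⊤ :=
    Groth.Agent.Lib.Helper22.DiagReg.eq_top_of_field k V.1 (f x) (e hxU)
  have hfield : IsField Γ(Spec (CommRingCat.of k), V.1) := by
    rw [hV]
    exact MulEquiv.isField (Field.toIsField k)
      (Scheme.ΓSpecIso (CommRingCat.of k)).commRingCatIsoToRingEquiv.toMulEquiv
  letI := (f.appLE V.1 U.1 e).hom.toAlgebra
  haveI hcm := cm_of_lci_of_isField _ hfield _ h
  have hU := U.2
  letI i1 : Algebra Γ(X, U.1) (X.presheaf.stalk x) :=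
    TopCat.Presheaf.algebra_section_stalk X.presheaf (U := U.1) ⟨x, hxU⟩
  haveI i2 : IsLocalization.AtPrime (X.presheaf.stalk x)
      (hU.primeIdealOf ⟨x, hxU⟩).asIdeal := hU.isLocalization_stalk ⟨x, hxU⟩
  haveI := LocCoh.IsCohenMacaulayRing.isCohenMacaulayLocalRing_localization (R := Γ(X, U.1))
    (hU.primeIdealOf ⟨x, hxU⟩).asIdeal
  exact Groth.Agent.Lib.Helper22.CMG.isCMLocalRing_of_ringEquiv
    (IsLocalization.algEquiv (hU.primeIdealOf ⟨x, hxU⟩).asIdeal.primeCompl
      (Localization.AtPrime (hU.primeIdealOf ⟨x, hxU⟩).asIdeal) (X.presheaf.stalk x)).toRingEquiv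

end Groth.Agent.Lib.Helper23.SurfRR
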