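import Groth.Agent.Lib.Helper23.T2A

/-!
# T2A2: bundled cohomology modules `HHm M n : ModuleCat Γ(X, O_X)`

The raw types `Coh.HH X M n` carry instance terms that are very slow for the kernel; all further
development uses the bundled `HHm`, with the linear long exact sequence restated.
-/
set_option autoImplicit false
universe u
open CategoryTheory CategoryTheory.Limits Opposite TopologicalSpace AlgebraicGeometry

noncomputable section

namespace Groth.Agent.Lib.Helper23.T2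

variable {X : Scheme.{u}}

/-- `H^n(X, M)` as a bundled module over global functions. -/
def HHm (M : X.Modules) (n : ℕ) : ModuleCat.{u} (Coh.Γtop X) := ModuleCat.of _ (Coh.HH X M n)

/-- global sections as a bundled module. -/
def Gm (M : X.Modules) : ModuleCat.{u} (Coh.Γtop X) := M.val.obj (op ⊤)

def hmap {M N : X.Modules} (φ : M ⟶ N) (n : ℕ) : HHm M n →ₗ[Coh.Γtop X] HHm N n := Hmap φ n

def hδ (S : ShortComplex X.Modules) (hS : S.ShortExact) (n : ℕ) :
    HHm S.X₃ n →ₗ[Coh.Γtop X] HHm S.X₁ (n + 1) := Hδ S hS n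

def gmap {M N : X.Modules} (φ : M ⟶ N) : Gm M →ₗ[Coh.Γtop X] Gm N := Γmap φ

lemma hmap_id (M : X.Modules) (n : ℕ) (x : HHm M n) : hmap (𝟙 M) n x = x := Hmap_id M n x

lemma hmap_comp {M N L : X.Modules} (φ : M ⟶ N) (ψ : N ⟶ L) (n : ℕ) (x : HHm M n) :
    hmap (φ ≫ ψ) n x = hmap ψ n (hmap φ n x) := Hmap_comp φ ψ n x

lemma hmap_zero {M N : X.Modules} (n : ℕ) (x : HHm M n) : hmap (0 : M ⟶ N) n x = 0 :=
  Hmap_zero n x

lemma hmap_comp_eq_zero {M N L : X.Modules} (φ : M ⟶ N) (ψ : N ⟶ L) (h : φ ≫ ψ = 0) (n : ℕ)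
    (x : HHm M n) : hmap ψ n (hmap φ n x) = 0 := Hmap_comp_eq_zero φ ψ h n x

def hmapEquiv {M N : X.Modules} (e : M ≅ N) (n : ℕ) : HHm M n ≃ₗ[Coh.Γtop X] HHm N n :=
  HmapEquiv e n

lemma hmapEquiv_apply {M N : X.Modules} (e : M ≅ N) (n : ℕ) (x : HHm M n) :
    hmapEquiv e n x = hmap e.hom n x := rfl

lemma hexact₁ (S : ShortComplex X.Modules) (hS : S.ShortExact) (n : ℕ)
    (x : HHm S.X₁ (n + 1)) (hx : hmap S.f (n + 1) x = 0) : ∃ y, hδ S hS n y = x :=
  exact₁ S hS n x hx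

lemma hexact₂ (S : ShortComplex X.Modules) (hS : S.ShortExact) (n : ℕ)
    (x : HHm S.X₂ n) (hx : hmap S.g n x = 0) : ∃ y, hmap S.f n y = x :=
  exact₂ S hS n x hx

lemma hexact₃ (S : ShortComplex X.Modules) (hS : S.ShortExact) (n : ℕ)
    (x : HHm S.X₃ n) (hx : hδ S hS n x = 0) : ∃ y, hmap S.g n y = x :=
  exact₃ S hS n x hx

lemma hδ_hmap_g (S : ShortComplex X.Modules) (hS : S.ShortExact) (n : ℕ)
    (x : HHm S.X₂ n) : hδ S hS n (hmap S.g n x) = 0 := Hδ_Hmap_g S hS n x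

lemma hmap_f_hδ (S : ShortComplex X.Modules) (hS : S.ShortExact) (n : ℕ)
    (x : HHm S.X₃ n) : hmap S.f (n + 1) (hδ S hS n x) = 0 := Hmap_f_Hδ S hS n x

lemma hmap_g_hmap_f (S : ShortComplex X.Modules) (n : ℕ) (x : HHm S.X₁ n) :
    hmap S.g n (hmap S.f n x) = 0 := hmap_comp_eq_zero S.f S.g S.zero n x

lemma hmap_injective_zero {M N : X.Modules} (φ : M ⟶ N) [Mono φ] :
    Function.Injective (hmap φ 0) := Hmap_injective_zero φ

def h0equiv (M : X.Modules) : HHm M 0 ≃ₗ[Coh.Γtop X] Gm M := H0equiv M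

lemma h0equiv_naturality {M N : X.Modules} (φ : M ⟶ N) (x : HHm M 0) :
    h0equiv N (hmap φ 0 x) = gmap φ (h0equiv M x) := H0equiv_naturality φ x

lemma h0equiv_symm_naturality {M N : X.Modules} (φ : M ⟶ N) (x : Gm M) :
    hmap φ 0 ((h0equiv M).symm x) = (h0equiv N).symm (gmap φ x) := H0equiv_symm_naturality φ x

lemma gmap_id (M : X.Modules) (x : Gm M) : gmap (𝟙 M) x = x := rfl

lemma gmap_comp {M N L : X.Modules} (φ : M ⟶ N) (ψ : N ⟶ L) (x : Gm M) :
    gmap (φ ≫ ψ) x = gmap ψ (gmap φ x) := rfl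

/-- `HHm` of a zero object is zero. -/
lemma subsingleton_HHm_of_isZero {M : X.Modules} (h : IsZero M) (n : ℕ) :
    Subsingleton (HHm M n) := by
  refine ⟨fun x y => ?_⟩
  have hx : x = 0 := by
    have := hmap_id M n x
    rw [h.eq_of_src (𝟙 M) 0, hmap_zero] at this
    exact this.symm
  have hy : y = 0 := by
    have := hmap_id M n y
    rw [h.eq_of_src (𝟙 M) 0, hmap_zero] at this
    exact this.symm
  rw [hx, hy]

/-- bridge to the prelude's `A`-module structure. -/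
lemma finClass_HHm_iff (A : Type u) [CommRing A] [IsNoetherianRing A]
    [X.Over (Spec (CommRingCat.of A))] (M : X.Modules) (n : ℕ) :
    (finClass (Coh.toGlobal (X ↘ Spec (CommRingCat.of A)))).P (HHm M n) ↔
      Module.Finite A (Coh.HH X M n) := Iff.rfl

end Groth.Agent.Lib.Helper23.T2
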