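import Groth.Agent.Lib.Helper23.T2A2
import Groth.Agent.Lib.Helper13.LerayDeg

/-!
# T2B: cohomology of a complex of acyclic sheaves versus cohomology of its cohomology sheaves

For a cochain complex `K` of `O_X`-modules whose terms have no higher cohomology, we compare
(a Serre class `𝒮` of modules over global functions being fixed)

* the cohomology `Q0 K`, `Qs K n` of the complex of global sections of `K`, and
* the groups `H^p(X, ℋ^q(K))`,

by the usual dimension shifting through cycles and boundaries (an elementary replacement for the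
hypercohomology spectral sequence).
-/
set_option autoImplicit false
universe u
open CategoryTheory CategoryTheory.Limits Opposite TopologicalSpace AlgebraicGeometry

noncomputable section

namespace Groth.Agent.Lib.Helper23.T2

open Groth.Agent.Lib.Helper13.LerayDeg

variable {X : Scheme.{u}} (K : CochainComplex X.Modules ℕ)

/-- all terms of `K` have vanishing higher cohomology. -/
def TermsAcyclic : Prop := ∀ n p : ℕ, Subsingleton (HHm (K.X n) (p + 1))

/-- the differential on global sections. -/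
def dG (n : ℕ) : Gm (K.X n) →ₗ[Coh.Γtop X] Gm (K.X (n + 1)) := gmap (K.d n (n + 1))

lemma dG_comp (n : ℕ) (x : Gm (K.X n)) : dG K (n + 1) (dG K n x) = 0 := by
  change gmap (K.d (n + 1) (n + 1 + 1)) (gmap (K.d n (n + 1)) x) = 0
  rw [← gmap_comp, K.d_comp_d]
  rfl

/-- `H^0` of the complex of global sections. -/
abbrev Q0 : Type u := LinearMap.ker (dG K 0)

/-- `H^{n+1}` of the complex of global sections. -/
abbrev Qs (n : ℕ) : Type u :=
  (LinearMap.ker (dG K (n + 1))) ⧸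
    (LinearMap.range ((dG K n).codRestrict (LinearMap.ker (dG K (n + 1))) (fun x => dG_comp K n x)))

/-- the cohomology of the complex of global sections lies in the class `𝒮`. -/
def PQ (𝒮 : SClass (Coh.Γtop X)) : ℕ → Prop
  | 0 => 𝒮.P (Q0 K)
  | n + 1 => 𝒮.P (Qs K n)

/-! ### cycles and sections -/

lemma hmap_iCycles_d (n : ℕ) (z : HHm (K.cycles n) 0) :
    hmap (K.d n (n + 1)) 0 (hmap (K.iCycles n) 0 z) = 0 := by
  rw [← hmap_comp, K.iCycles_d, hmap_zero]

lemma d_eq (n : ℕ) :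
    K.d n (n + 1) = toB K n ≫ kernel.ι (K.homologyπ (n + 1)) ≫ K.iCycles (n + 1) := by
  rw [← Category.assoc, toB_ι, K.toCycles_i]

/-- a global section of `K^n` killed by the differential comes from a section of the cycles. -/
lemma exists_cycle_of_d_eq_zero (n : ℕ) (b : HHm (K.X n) 0)
    (hb : hmap (K.d n (n + 1)) 0 b = 0) : ∃ z, hmap (K.iCycles n) 0 z = b := by
  apply hexact₂ (Sa K n) (Sa_shortExact K n) 0 b
  have h1 : hmap (kernel.ι (K.homologyπ (n + 1)) ≫ K.iCycles (n + 1)) 0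
      (hmap (toB K n) 0 b) = 0 := by
    rw [← hmap_comp, ← d_eq]; exact hb
  exact hmap_injective_zero (kernel.ι (K.homologyπ (n + 1)) ≫ K.iCycles (n + 1))
    (h1.trans (map_zero _).symm)

/-- the class of a cycle section in the cohomology of the complex of global sections. -/
def qmap (n : ℕ) : HHm (K.cycles (n + 1)) 0 →ₗ[Coh.Γtop X] Qs K n :=
  (Submodule.mkQ _).comp
    (((h0equiv (K.X (n + 1))).toLinearMap.comp (hmap (K.iCycles (n + 1)) 0)).codRestrict
      (LinearMap.ker (dG K (n + 1))) (fun z => by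
        rw [LinearMap.mem_ker]
        change gmap (K.d (n + 1) (n + 1 + 1)) (h0equiv _ (hmap (K.iCycles (n + 1)) 0 z)) = 0
        rw [← h0equiv_naturality, hmap_iCycles_d, map_zero]))

lemma qmap_surjective (n : ℕ) : Function.Surjective (qmap K n) := by
  intro y
  obtain ⟨⟨b, hb⟩, rfl⟩ := Submodule.mkQ_surjective _ y
  rw [LinearMap.mem_ker] at hb
  have hb' : hmap (K.d (n + 1) (n + 1 + 1)) 0 ((h0equiv (K.X (n + 1))).symm b) = 0 := by
    rw [h0equiv_symm_naturality]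
    change (h0equiv _).symm (dG K (n + 1) b) = 0
    rw [hb, map_zero]
  obtain ⟨z, hz⟩ := exists_cycle_of_d_eq_zero K (n + 1) _ hb'
  refine ⟨z, ?_⟩
  change Submodule.mkQ _ _ = Submodule.mkQ _ _
  congr 1
  apply Subtype.ext
  change h0equiv _ (hmap (K.iCycles (n + 1)) 0 z) = b
  rw [hz, LinearEquiv.apply_symm_apply]

lemma qmap_eq_zero_iff (n : ℕ) (z : HHm (K.cycles (n + 1)) 0) :
    qmap K n z = 0 ↔ ∃ c : HHm (K.X n) 0, hmap (K.toCycles n (n + 1)) 0 c = z := by
  change Submodule.mkQ _ _ = 0 ↔ _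
  rw [Submodule.mkQ_apply, Submodule.Quotient.mk_eq_zero, LinearMap.mem_range]
  constructor
  · rintro ⟨c, hc⟩
    have hc' : dG K n c = h0equiv _ (hmap (K.iCycles (n + 1)) 0 z) := congrArg Subtype.val hc
    refine ⟨(h0equiv (K.X n)).symm c, ?_⟩
    apply hmap_injective_zero (K.iCycles (n + 1))
    rw [← hmap_comp, K.toCycles_i, h0equiv_symm_naturality]
    apply (h0equiv _).injective
    rw [LinearEquiv.apply_symm_apply]
    exact hc'
  · rintro ⟨c, rfl⟩
    refine ⟨h0equiv _ c, ?_⟩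
    apply Subtype.ext
    change dG K n (h0equiv _ c) = h0equiv _ (hmap (K.iCycles (n + 1)) 0 (hmap (K.toCycles n (n + 1)) 0 c))
    rw [← hmap_comp, K.toCycles_i, h0equiv_naturality]
    rfl

/-- degree zero: sections of the cycles are the kernel of the first differential. -/
def q0map : HHm (K.cycles 0) 0 →ₗ[Coh.Γtop X] Q0 K :=
  ((h0equiv (K.X 0)).toLinearMap.comp (hmap (K.iCycles 0) 0)).codRestrict
    (LinearMap.ker (dG K 0)) (fun z => by
      rw [LinearMap.mem_ker]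
      change gmap (K.d 0 (0 + 1)) (h0equiv _ (hmap (K.iCycles 0) 0 z)) = 0
      rw [← h0equiv_naturality, hmap_iCycles_d, map_zero])

lemma q0map_bijective : Function.Bijective (q0map K) := by
  constructor
  · intro z z' h
    have h' : h0equiv _ (hmap (K.iCycles 0) 0 z) = h0equiv _ (hmap (K.iCycles 0) 0 z') :=
      congrArg Subtype.val h
    exact hmap_injective_zero (K.iCycles 0) ((h0equiv _).injective h')
  · rintro ⟨b, hb⟩
    rw [LinearMap.mem_ker] at hb
    have hb' : hmap (K.d 0 (0 + 1)) 0 ((h0equiv (K.X 0)).symm b) = 0 := by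
      rw [h0equiv_symm_naturality]
      change (h0equiv _).symm (dG K 0 b) = 0
      rw [hb, map_zero]
    obtain ⟨z, hz⟩ := exists_cycle_of_d_eq_zero K 0 _ hb'
    refine ⟨z, ?_⟩
    apply Subtype.ext
    change h0equiv _ (hmap (K.iCycles 0) 0 z) = b
    rw [hz, LinearEquiv.apply_symm_apply]

/-! ### dimension shifting -/

variable {K} (𝒮 : SClass (Coh.Γtop X))

lemma hδ_Sa_bijective (hK : TermsAcyclic K) (n p : ℕ) :
    Function.Bijective (hδ (Sa K n) (Sa_shortExact K n) (p + 1)) := by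
  constructor
  · rw [injective_iff_map_eq_zero]
    intro y hy
    obtain ⟨x, rfl⟩ := hexact₃ (Sa K n) (Sa_shortExact K n) (p + 1) y hy
    have : x = 0 := @Subsingleton.elim _ (hK n p) _ _
    rw [this, map_zero]
  · intro x
    exact hexact₁ (Sa K n) (Sa_shortExact K n) (p + 1) x (@Subsingleton.elim _ (hK n (p + 1)) _ _)

lemma hδ_Sa_surjective_zero (hK : TermsAcyclic K) (n : ℕ) :
    Function.Surjective (hδ (Sa K n) (Sa_shortExact K n) 0) := fun x =>
  hexact₁ (Sa K n) (Sa_shortExact K n) 0 x (@Subsingleton.elim _ (hK n 0) _ _)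

/-- `H^p(B^{n+1}) ≃ H^{p+1}(Z^n)` for `p ≥ 1`. -/
lemma shiftB (hK : TermsAcyclic K) (n p : ℕ) :
    𝒮.P (HHm (kernel (K.homologyπ (n + 1))) (p + 1)) ↔ 𝒮.P (HHm (K.cycles n) (p + 2)) :=
  𝒮.iff_of_equiv (LinearEquiv.ofBijective (hδ (Sa K n) (Sa_shortExact K n) (p + 1))
    (hδ_Sa_bijective hK n p))

lemma stepZ (n p : ℕ) (hB : 𝒮.P (HHm (kernel (K.homologyπ n)) p)) (hH : 𝒮.P (HHm (K.homology n) p)) :
    𝒮.P (HHm (K.cycles n) p) :=
  𝒮.mid (hmap (Sb K n).f p) (hmap (Sb K n).g p)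
    (fun b hb => hexact₂ (Sb K n) (Sb_shortExact K n) p b hb) hB hH

lemma stepB (n p : ℕ) (hH : 𝒮.P (HHm (K.homology n) p)) (hZ : 𝒮.P (HHm (K.cycles n) (p + 1))) :
    𝒮.P (HHm (kernel (K.homologyπ n)) (p + 1)) :=
  𝒮.mid (hδ (Sb K n) (Sb_shortExact K n) p) (hmap (Sb K n).f (p + 1))
    (fun b hb => hexact₁ (Sb K n) (Sb_shortExact K n) p b hb) hH hZ

lemma isZero_B0 : IsZero (kernel (K.homologyπ 0)) := isZero_kernel_of_mono _

/-- ascending induction: higher cohomology of cycles and boundaries from that of the cohomology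
sheaves. -/
lemma asc (hK : TermsAcyclic K) (hH : ∀ q p : ℕ, 𝒮.P (HHm (K.homology q) (p + 1))) :
    ∀ q p : ℕ, 𝒮.P (HHm (kernel (K.homologyπ q)) (p + 1)) ∧ 𝒮.P (HHm (K.cycles q) (p + 1)) := by
  intro q
  induction q with
  | zero =>
    intro p
    have hB : 𝒮.P (HHm (kernel (K.homologyπ 0)) (p + 1)) :=
      @SClass.zero _ _ 𝒮 _ _ _ (subsingleton_HHm_of_isZero isZero_B0 (p + 1))
    exact ⟨hB, stepZ 𝒮 0 (p + 1) hB (hH 0 p)⟩
  | succ q ih =>
    intro p
    have hB : 𝒮.P (HHm (kernel (K.homologyπ (q + 1))) (p + 1)) :=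
      (shiftB 𝒮 hK q p).2 (ih (p + 1)).2
    exact ⟨hB, stepZ 𝒮 (q + 1) (p + 1) hB (hH (q + 1) p)⟩

/-! ### from the sections complex to `H^1` of cycles -/

/-- `H^1(Z^n)` is a subquotient of `H^{n+1}` of the complex of global sections. -/
lemma P_H1_cycles_of_PQ (hK : TermsAcyclic K) (n : ℕ) (h : 𝒮.P (Qs K n)) :
    𝒮.P (HHm (K.cycles n) 1) := by
  refine 𝒮.of_subquotient
    ((qmap K n).comp (hmap (kernel.ι (K.homologyπ (n + 1))) 0))
    (hδ (Sa K n) (Sa_shortExact K n) 0) (hδ_Sa_surjective_zero hK n) ?_ h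
  intro b hb
  rw [LinearMap.comp_apply, qmap_eq_zero_iff] at hb
  obtain ⟨c, hc⟩ := hb
  have h1 : hmap (kernel.ι (K.homologyπ (n + 1))) 0 (hmap (toB K n) 0 c) =
      hmap (kernel.ι (K.homologyπ (n + 1))) 0 b := by
    rw [← hmap_comp, toB_ι]; exact hc
  have h2 : hmap (toB K n) 0 c = b := hmap_injective_zero _ h1
  rw [← h2]
  exact hδ_hmap_g (Sa K n) (Sa_shortExact K n) 0 c

/-- if `H^1(B^{n+1}) = 0` then `H^0(ℋ^{n+1})` is a quotient of `H^{n+1}` of the sections complex. -/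
lemma P_H0_homology_of_PQ (n : ℕ) (hB1 : Subsingleton (HHm (kernel (K.homologyπ (n + 1))) 1))
    (h : 𝒮.P (Qs K n)) : 𝒮.P (HHm (K.homology (n + 1)) 0) := by
  refine 𝒮.of_subquotient (qmap K n) (hmap (K.homologyπ (n + 1)) 0) ?_ ?_ h
  · intro x
    exact hexact₃ (Sb K (n + 1)) (Sb_shortExact K (n + 1)) 0 x (@Subsingleton.elim _ hB1 _ _)
  · intro z hz
    rw [qmap_eq_zero_iff] at hz
    obtain ⟨c, rfl⟩ := hz
    rw [← hmap_comp, K.toCycles_comp_homologyπ, hmap_zero]

lemma P_H0_homology_zero_of_PQ (hB1 : Subsingleton (HHm (kernel (K.homologyπ 0)) 1))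
    (h : 𝒮.P (Q0 K)) : 𝒮.P (HHm (K.homology 0) 0) := by
  have h1 : 𝒮.P (HHm (K.cycles 0) 0) :=
    𝒮.of_equiv (LinearEquiv.ofBijective (q0map K) (q0map_bijective K)).symm h
  refine 𝒮.of_surjective (hmap (K.homologyπ 0) 0) ?_ h1
  intro x
  exact hexact₃ (Sb K 0) (Sb_shortExact K 0) 0 x (@Subsingleton.elim _ hB1 _ _)

/-! ### from `H^1` of cycles and `H^0` of cohomology sheaves to the sections complex -/

lemma PQ_succ_of (n : ℕ) (hZ : 𝒮.P (HHm (K.cycles n) 1))
    (hH : 𝒮.P (HHm (K.homology (n + 1)) 0)) : 𝒮.P (Qs K n) := by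
  -- the submodule `N` of boundaries and the quotient `S ⧸ N`
  let N : Submodule (Coh.Γtop X) (HHm (K.cycles (n + 1)) 0) :=
    LinearMap.range (hmap (K.toCycles n (n + 1)) 0)
  -- `f : H^0(B^{n+1}) → S ⧸ N`
  let f : HHm (kernel (K.homologyπ (n + 1))) 0 →ₗ[Coh.Γtop X] (HHm (K.cycles (n + 1)) 0 ⧸ N) :=
    N.mkQ.comp (hmap (kernel.ι (K.homologyπ (n + 1))) 0)
  have hT : 𝒮.P (LinearMap.range f) := by
    refine 𝒮.of_subquotient (hδ (Sa K n) (Sa_shortExact K n) 0) f.rangeRestrict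
      f.surjective_rangeRestrict ?_ hZ
    intro b hb
    obtain ⟨c, rfl⟩ := hexact₃ (Sa K n) (Sa_shortExact K n) 0 b hb
    apply Subtype.ext
    change N.mkQ (hmap (kernel.ι (K.homologyπ (n + 1))) 0 (hmap (toB K n) 0 c)) = 0
    rw [← hmap_comp, toB_ι, Submodule.mkQ_apply, Submodule.Quotient.mk_eq_zero]
    exact ⟨c, rfl⟩
  have hle : N ≤ LinearMap.ker (hmap (K.homologyπ (n + 1)) 0) := by
    rintro _ ⟨c, rfl⟩
    rw [LinearMap.mem_ker, ← hmap_comp, K.toCycles_comp_homologyπ, hmap_zero]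
  have hSN : 𝒮.P (HHm (K.cycles (n + 1)) 0 ⧸ N) := by
    refine 𝒮.mid (LinearMap.range f).subtype (N.liftQ (hmap (K.homologyπ (n + 1)) 0) hle) ?_ hT hH
    intro b hb
    obtain ⟨z, rfl⟩ := N.mkQ_surjective b
    have hz : hmap (K.homologyπ (n + 1)) 0 z = 0 := hb
    obtain ⟨y, rfl⟩ := hexact₂ (Sb K (n + 1)) (Sb_shortExact K (n + 1)) 0 z hz
    exact ⟨⟨f y, ⟨y, rfl⟩⟩, rfl⟩
  refine 𝒮.of_subquotient N.mkQ (qmap K n) (qmap_surjective K n) ?_ hSN
  intro z hz
  rw [Submodule.mkQ_apply, Submodule.Quotient.mk_eq_zero] at hz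
  exact (qmap_eq_zero_iff K n z).2 hz

/-! ### the three comparison theorems -/

/-- (⇐) If all `H^p(X, ℋ^q(K))` lie in `𝒮`, so does the cohomology of the sections complex. -/
theorem PQ_of_homology (hK : TermsAcyclic K) (hH : ∀ q p : ℕ, 𝒮.P (HHm (K.homology q) p))
    (n : ℕ) : PQ K 𝒮 n := by
  have hasc := asc 𝒮 hK (fun q p => hH q (p + 1))
  cases n with
  | zero =>
    change 𝒮.P (Q0 K)
    have hB0 : Subsingleton (HHm (kernel (K.homologyπ 0)) 0) :=
      subsingleton_HHm_of_isZero isZero_B0 0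
    have h1 : 𝒮.P (HHm (K.cycles 0) 0) :=
      stepZ 𝒮 0 0 (@SClass.zero _ _ 𝒮 _ _ _ hB0) (hH 0 0)
    exact 𝒮.of_equiv (LinearEquiv.ofBijective (q0map K) (q0map_bijective K)) h1
  | succ n =>
    exact PQ_succ_of 𝒮 n (hasc n 0).2 (hH (n + 1) 0)

/-- (⇒) If the cohomology of the sections complex and all `H^p(X, ℋ^q(K))`, `q ≥ 1`, lie in `𝒮`,
and `ℋ^q(K) = 0` for `q > N`, then all `H^p(X, ℋ^0(K))` lie in `𝒮`. -/
theorem homology_zero_of_PQ (hK : TermsAcyclic K) (N : ℕ)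
    (hN : ∀ q, N < q → IsZero (K.homology q))
    (hH : ∀ q p : ℕ, 𝒮.P (HHm (K.homology (q + 1)) p))
    (hQ : ∀ n, PQ K 𝒮 n) (p : ℕ) : 𝒮.P (HHm (K.homology 0) p) := by
  -- step 1
  have h1 : ∀ q, 𝒮.P (HHm (K.cycles q) 1) := fun q => P_H1_cycles_of_PQ 𝒮 hK q (hQ (q + 1))
  -- step 2
  have h2 : ∀ p q : ℕ, N ≤ q → 𝒮.P (HHm (K.cycles q) (p + 1)) := by
    intro p
    induction p with
    | zero => exact fun q _ => h1 q
    | succ p ih =>
      intro q hq
      have hz : 𝒮.P (HHm (K.homology (q + 1)) p) :=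
        @SClass.zero _ _ 𝒮 _ _ _ (subsingleton_HHm_of_isZero (hN (q + 1) (by omega)) p)
      have hB : 𝒮.P (HHm (kernel (K.homologyπ (q + 1))) (p + 1)) :=
        stepB 𝒮 (q + 1) p hz (ih (q + 1) (by omega))
      exact (shiftB 𝒮 hK q p).1 hB
  -- step 3
  have h3 : ∀ k q : ℕ, N ≤ q + k → ∀ p, 𝒮.P (HHm (K.cycles q) (p + 1)) := by
    intro k
    induction k with
    | zero => exact fun q hq p => h2 p q (by omega)
    | succ k ih =>
      intro q hq p
      cases p with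
      | zero => exact h1 q
      | succ p =>
        have hZ := ih (q + 1) (by omega)
        have hB : 𝒮.P (HHm (kernel (K.homologyπ (q + 1))) (p + 1)) :=
          stepB 𝒮 (q + 1) p (hH q p) (hZ p)
        exact (shiftB 𝒮 hK q p).1 hB
  have hB0 : ∀ p, Subsingleton (HHm (kernel (K.homologyπ 0)) p) := fun p =>
    subsingleton_HHm_of_isZero isZero_B0 p
  cases p with
  | zero => exact P_H0_homology_zero_of_PQ 𝒮 (hB0 1) (hQ 0)
  | succ p =>
    refine 𝒮.of_surjective (hmap (K.homologyπ 0) (p + 1)) ?_ (h3 N 0 (by omega) p)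
    intro x
    exact hexact₃ (Sb K 0) (Sb_shortExact K 0) (p + 1) x (@Subsingleton.elim _ (hB0 (p + 2)) _ _)

/-- If the higher cohomology of all `ℋ^q(K)` vanishes, `H^0(X, ℋ^n(K))` is a quotient of the
`n`-th cohomology of the sections complex. -/
theorem H0_homology_of_PQ (hK : TermsAcyclic K)
    (hH : ∀ q p : ℕ, Subsingleton (HHm (K.homology q) (p + 1))) (n : ℕ) (hQ : PQ K 𝒮 n) :
    𝒮.P (HHm (K.homology n) 0) := by
  have hasc := asc (zeroClass (Coh.Γtop X)) hK hH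
  cases n with
  | zero => exact P_H0_homology_zero_of_PQ 𝒮 (hasc 0 0).1 hQ
  | succ n => exact P_H0_homology_of_PQ 𝒮 n (hasc (n + 1) 0).1 hQ

end Groth.Agent.Lib.Helper23.T2
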