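import Groth.Agent.Lib.Helper23.T2C

/-!
# T2D: transfer of the cohomology of sections complexes along semilinear isomorphisms
-/
set_option autoImplicit false
universe u
open CategoryTheory CategoryTheory.Limits Opposite TopologicalSpace AlgebraicGeometry

noncomputable section

namespace Groth.Agent.Lib.Helper23.T2

section Alg

variable {R₁ R₂ : Type u} [Ring R₁] [Ring R₂]

/-- compatibility of two Serre classes along a ring homomorphism. -/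
def SClass.Compat (φ : R₁ →+* R₂) (𝒮₁ : SClass R₁) (𝒮₂ : SClass R₂) : Prop :=
  ∀ (M N : Type u) [AddCommGroup M] [Module R₁ M] [AddCommGroup N] [Module R₂ N]
    (f : M →ₛₗ[φ] N), Function.Bijective f → (𝒮₁.P M ↔ 𝒮₂.P N)

lemma finClass_compat {A : Type u} [CommRing A] [IsNoetherianRing A] (ρ : A →+* R₁)
    (φ : R₁ →+* R₂) : SClass.Compat φ (finClass ρ) (finClass (φ.comp ρ)) := by
  intro M N _ _ _ _ f hf
  letI : Module A M := Module.compHom M ρ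
  letI : Module A N := Module.compHom N (φ.comp ρ)
  let e : M ≃ₗ[A] N := LinearEquiv.ofBijective
    { toFun := f, map_add' := f.map_add, map_smul' := fun a x => by
        change f (ρ a • x) = (φ (ρ a)) • f x
        exact f.map_smulₛₗ _ _ } hf
  exact ⟨fun h => by haveI : Module.Finite A M := h; exact Module.Finite.equiv e,
         fun h => by haveI : Module.Finite A N := h; exact Module.Finite.equiv e.symm⟩

lemma finClass_compat' {A : Type u} [CommRing A] [IsNoetherianRing A] (ρ₁ : A →+* R₁)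
    (ρ₂ : A →+* R₂) (φ : R₁ →+* R₂) (h : φ.comp ρ₁ = ρ₂) :
    SClass.Compat φ (finClass ρ₁) (finClass ρ₂) := by
  subst h
  exact finClass_compat ρ₁ φ

lemma zeroClass_compat (φ : R₁ →+* R₂) : SClass.Compat φ (zeroClass R₁) (zeroClass R₂) := by
  intro M N _ _ _ _ f hf
  exact (Equiv.ofBijective f hf).subsingleton_congr

variable {M₀ M₁ M₂ : Type u} [AddCommGroup M₀] [Module R₁ M₀] [AddCommGroup M₁] [Module R₁ M₁]
  [AddCommGroup M₂] [Module R₁ M₂]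
  {N₀ N₁ N₂ : Type u} [AddCommGroup N₀] [Module R₂ N₀] [AddCommGroup N₁] [Module R₂ N₁]
  [AddCommGroup N₂] [Module R₂ N₂]

/-- the middle cohomology of `M₀ → M₁ → M₂`. -/
abbrev Hmid (d₀ : M₀ →ₗ[R₁] M₁) (d₁ : M₁ →ₗ[R₁] M₂) (hd : ∀ x, d₁ (d₀ x) = 0) : Type u :=
  (LinearMap.ker d₁) ⧸ (LinearMap.range (d₀.codRestrict (LinearMap.ker d₁) hd))

variable {φ : R₁ →+* R₂}

/-- the induced map on kernels. -/
def kerMapₛ (d₁ : M₁ →ₗ[R₁] M₂) (d₁' : N₁ →ₗ[R₂] N₂) (e₁ : M₁ →ₛₗ[φ] N₁) (e₂ : M₂ →ₛₗ[φ] N₂)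
    (c₁ : ∀ x, e₂ (d₁ x) = d₁' (e₁ x)) : LinearMap.ker d₁ →ₛₗ[φ] LinearMap.ker d₁' :=
  (e₁.comp (LinearMap.ker d₁).subtype).codRestrict (LinearMap.ker d₁') (fun z => by
    rw [LinearMap.mem_ker]
    change d₁' (e₁ z.1) = 0
    rw [← c₁, LinearMap.mem_ker.1 z.2, map_zero])

lemma kerMapₛ_coe (d₁ : M₁ →ₗ[R₁] M₂) (d₁' : N₁ →ₗ[R₂] N₂) (e₁ : M₁ →ₛₗ[φ] N₁)
    (e₂ : M₂ →ₛₗ[φ] N₂) (c₁ : ∀ x, e₂ (d₁ x) = d₁' (e₁ x)) (z : LinearMap.ker d₁) :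
    (kerMapₛ d₁ d₁' e₁ e₂ c₁ z : N₁) = e₁ z.1 := rfl

lemma kerMapₛ_bijective (d₁ : M₁ →ₗ[R₁] M₂) (d₁' : N₁ →ₗ[R₂] N₂) (e₁ : M₁ →ₛₗ[φ] N₁)
    (e₂ : M₂ →ₛₗ[φ] N₂) (c₁ : ∀ x, e₂ (d₁ x) = d₁' (e₁ x))
    (h₁ : Function.Bijective e₁) (h₂ : Function.Injective e₂) :
    Function.Bijective (kerMapₛ d₁ d₁' e₁ e₂ c₁) := by
  constructor
  · intro z z' h
    apply Subtype.ext
    apply h₁.1
    exact congrArg Subtype.val h
  · intro z'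
    obtain ⟨z, hz⟩ := h₁.2 z'.1
    have hk : z ∈ LinearMap.ker d₁ := by
      rw [LinearMap.mem_ker]
      apply h₂
      rw [c₁, hz, map_zero]
      exact LinearMap.mem_ker.1 z'.2
    exact ⟨⟨z, hk⟩, Subtype.ext hz⟩

/-- the induced map on middle cohomology. -/
def midMap (d₀ : M₀ →ₗ[R₁] M₁) (d₁ : M₁ →ₗ[R₁] M₂) (hd : ∀ x, d₁ (d₀ x) = 0)
    (d₀' : N₀ →ₗ[R₂] N₁) (d₁' : N₁ →ₗ[R₂] N₂) (hd' : ∀ x, d₁' (d₀' x) = 0)
    (e₀ : M₀ →ₛₗ[φ] N₀) (e₁ : M₁ →ₛₗ[φ] N₁) (e₂ : M₂ →ₛₗ[φ] N₂)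
    (c₀ : ∀ x, e₁ (d₀ x) = d₀' (e₀ x)) (c₁ : ∀ x, e₂ (d₁ x) = d₁' (e₁ x)) :
    Hmid d₀ d₁ hd →ₛₗ[φ] Hmid d₀' d₁' hd' :=
  Submodule.mapQ _ _ (kerMapₛ d₁ d₁' e₁ e₂ c₁) (by
    rintro _ ⟨x, rfl⟩
    rw [Submodule.mem_comap]
    refine ⟨e₀ x, ?_⟩
    apply Subtype.ext
    change d₀' (e₀ x) = e₁ (d₀ x)
    exact (c₀ x).symm)

lemma midMap_bijective (d₀ : M₀ →ₗ[R₁] M₁) (d₁ : M₁ →ₗ[R₁] M₂) (hd : ∀ x, d₁ (d₀ x) = 0)
    (d₀' : N₀ →ₗ[R₂] N₁) (d₁' : N₁ →ₗ[R₂] N₂) (hd' : ∀ x, d₁' (d₀' x) = 0)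
    (e₀ : M₀ →ₛₗ[φ] N₀) (e₁ : M₁ →ₛₗ[φ] N₁) (e₂ : M₂ →ₛₗ[φ] N₂)
    (c₀ : ∀ x, e₁ (d₀ x) = d₀' (e₀ x)) (c₁ : ∀ x, e₂ (d₁ x) = d₁' (e₁ x))
    (h₀ : Function.Surjective e₀) (h₁ : Function.Bijective e₁) (h₂ : Function.Injective e₂) :
    Function.Bijective (midMap d₀ d₁ hd d₀' d₁' hd' e₀ e₁ e₂ c₀ c₁) := by
  constructor
  · rw [injective_iff_map_eq_zero]
    intro a
    obtain ⟨z, rfl⟩ := Submodule.Quotient.mk_surjective _ a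
    intro h
    change Submodule.Quotient.mk (kerMapₛ d₁ d₁' e₁ e₂ c₁ z) = 0 at h
    rw [Submodule.Quotient.mk_eq_zero] at h
    obtain ⟨y', hy'⟩ := h
    obtain ⟨y, rfl⟩ := h₀ y'
    rw [Submodule.Quotient.mk_eq_zero]
    refine ⟨y, ?_⟩
    apply Subtype.ext
    apply h₁.1
    have := congrArg Subtype.val hy'
    change d₀' (e₀ y) = e₁ z.1 at this
    change e₁ (d₀ y) = e₁ z.1
    rw [c₀, this]
  · intro a
    obtain ⟨z', rfl⟩ := Submodule.Quotient.mk_surjective _ a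
    obtain ⟨z, hz⟩ := (kerMapₛ_bijective d₁ d₁' e₁ e₂ c₁ h₁ h₂).2 z'
    exact ⟨Submodule.Quotient.mk z, by
      change Submodule.Quotient.mk (kerMapₛ d₁ d₁' e₁ e₂ c₁ z) = _
      rw [hz]⟩

end Alg

/-! ### Transfer for sections complexes -/

variable {X₁ X₂ : Scheme.{u}}

/-- a semilinear isomorphism between the complexes of global sections of two complexes of modules
on two schemes. -/
structure SecIso (K₁ : CochainComplex X₁.Modules ℕ) (K₂ : CochainComplex X₂.Modules ℕ)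
    (φ : Coh.Γtop X₁ →+* Coh.Γtop X₂) where
  e : ∀ n, Gm (K₁.X n) →ₛₗ[φ] Gm (K₂.X n)
  bij : ∀ n, Function.Bijective (e n)
  comm : ∀ n x, e (n + 1) (dG K₁ n x) = dG K₂ n (e n x)

theorem PQ_transfer {K₁ : CochainComplex X₁.Modules ℕ} {K₂ : CochainComplex X₂.Modules ℕ}
    {φ : Coh.Γtop X₁ →+* Coh.Γtop X₂} (s : SecIso K₁ K₂ φ)
    {𝒮₁ : SClass (Coh.Γtop X₁)} {𝒮₂ : SClass (Coh.Γtop X₂)} (h : SClass.Compat φ 𝒮₁ 𝒮₂) (n : ℕ) :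
    PQ K₁ 𝒮₁ n ↔ PQ K₂ 𝒮₂ n := by
  cases n with
  | zero =>
    exact h _ _ (kerMapₛ (dG K₁ 0) (dG K₂ 0) (s.e 0) (s.e 1) (s.comm 0))
      (kerMapₛ_bijective _ _ _ _ _ (s.bij 0) (s.bij 1).1)
  | succ n =>
    exact h _ _ (midMap (dG K₁ n) (dG K₁ (n + 1)) (dG_comp K₁ n) (dG K₂ n) (dG K₂ (n + 1))
      (dG_comp K₂ n) (s.e n) (s.e (n + 1)) (s.e (n + 1 + 1)) (s.comm n) (s.comm (n + 1)))
      (midMap_bijective _ _ _ _ _ _ _ _ _ _ _ (s.bij n).2 (s.bij (n + 1)) (s.bij (n + 1 + 1)).1)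

end Groth.Agent.Lib.Helper23.T2
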