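import Groth.Agent.Lib.Helper23.T2E
import Groth.Agent.Lib.Helper2.RpushCompare
import Groth.Agent.Lib.Helper13.QCohRpush
import Groth.Agent.S0007
import Groth.Agent.S0028

/-!
# T2F: cohomology and affine pushforward; sections of higher direct images over affine opens
-/
set_option autoImplicit false
universe u
open CategoryTheory CategoryTheory.Limits Opposite TopologicalSpace AlgebraicGeometry

noncomputable section

namespace Groth.Agent.Lib.Helper23.T2

open Groth.Agent.Lib.Helper13.RelMVMod Groth.Agent.Lib.Helper3.QCProps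

variable {X Y : Scheme.{u}} (f : X ⟶ Y)

/-- the homology of `f_* I^•` computes the higher direct images. -/
def pushHomologyIso [HasInjectiveResolutions X.Modules] {G : X.Modules}
    (I : InjectiveResolution G) (q : ℕ) :
    (((Coh.push f).mapHomologicalComplex _).obj I.cocomplex).homology q ≅
      (Coh.Rpush f q).obj G :=
  (I.isoRightDerivedObj (Coh.push f) q).symm

instance hasInjRes (X : Scheme.{u}) : HasInjectiveResolutions X.Modules := by
  haveI : EnoughInjectives X.Modules :=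
    Groth.Agent.Lib.Helper13.ModGrothendieck.enoughInjectives X.ringCatSheaf
  infer_instance

/-- for an affine morphism and a quasi-coherent module, `H^n(Y, f_* G)` and `H^n(X, G)` lie in
corresponding Serre classes simultaneously. -/
theorem affine_transfer [IsAffineHom f] (G : X.Modules) [G.IsQuasicoherent]
    {𝒮Y : SClass (Coh.Γtop Y)} {𝒮X : SClass (Coh.Γtop X)}
    (h : SClass.Compat (pushRing f) 𝒮Y 𝒮X) (n : ℕ) :
    𝒮Y.P (HHm ((Coh.push f).obj G) n) ↔ 𝒮X.P (HHm G n) := by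
  let I : InjectiveResolution G := injectiveResolution G
  let K := ((Coh.push f).mapHomologicalComplex (ComplexShape.up ℕ)).obj I.cocomplex
  have hK : TermsAcyclic K :=
    termsAcyclic_of_isFlq _ (fun n => isFlq_push f (res_isFlq I n))
  have hresK : ∀ j, IsZero (K.homology (j + 1)) := fun j =>
    IsZero.of_iso ((Groth.Agent.Lib.Helper2.RpushCompare.isZero_Rpush_iff f G (j + 1)).2
      (Groth.Agent.S0028.result f G (j + 1) (by omega))) (pushHomologyIso f I (j + 1))
  have e0 : K.homology 0 ≅ (Coh.push f).obj G :=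
    pushHomologyIso f I 0 ≪≫ (Coh.push f).rightDerivedZeroIsoSelf.app G
  have s1 : 𝒮Y.P (HHm ((Coh.push f).obj G) n) ↔ 𝒮Y.P (HHm (K.homology 0) n) :=
    (𝒮Y.iff_of_equiv (hmapEquiv e0 n)).symm
  have s2 : 𝒮Y.P (HHm (K.homology 0) n) ↔ PQ K 𝒮Y n :=
    ⟨PQ_of_resolution 𝒮Y hK hresK n, homology_of_PQ_resolution 𝒮Y hK hresK n⟩
  have s3 : PQ K 𝒮Y n ↔ PQ I.cocomplex 𝒮X n := PQ_transfer (secIsoPush f I.cocomplex) h n
  have s4 : PQ I.cocomplex 𝒮X n ↔ 𝒮X.P (HHm (I.cocomplex.homology 0) n) :=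
    ⟨homology_of_PQ_resolution 𝒮X (res_termsAcyclic I) (res_isZero_homology I) n,
      PQ_of_resolution 𝒮X (res_termsAcyclic I) (res_isZero_homology I) n⟩
  have s5 : 𝒮X.P (HHm (I.cocomplex.homology 0) n) ↔ 𝒮X.P (HHm G n) :=
    𝒮X.iff_of_equiv (hmapEquiv (resHomologyZeroIso I) n)
  exact s1.trans (s2.trans (s3.trans (s4.trans s5)))

/-- **Sections of higher direct images over an affine open.** -/
theorem LOC [QuasiCompact f] [QuasiSeparated f] (G : X.Modules) [G.IsQuasicoherent]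
    (W : Y.Opens) (hW : IsAffineOpen W)
    {𝒮₁ : SClass (Coh.Γtop (W : Scheme.{u}))}
    {𝒮₂ : SClass (Coh.Γtop ((f ⁻¹ᵁ W : X.Opens) : Scheme.{u}))}
    (h𝒮 : SClass.Compat (pushRing (f ∣_ W)) 𝒮₁ 𝒮₂) (q : ℕ)
    (h : 𝒮₂.P (HHm ((Scheme.Modules.restrictFunctor (f ⁻¹ᵁ W).ι).obj G) q)) :
    𝒮₁.P (Gm ((Scheme.Modules.restrictFunctor W.ι).obj ((Coh.Rpush f q).obj G))) := by
  let I : InjectiveResolution G := injectiveResolution G
  let K := ((Coh.push f).mapHomologicalComplex (ComplexShape.up ℕ)).obj I.cocomplex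
  let KW := ((Scheme.Modules.restrictFunctor W.ι).mapHomologicalComplex (ComplexShape.up ℕ)).obj K
  let K₂ := ((Scheme.Modules.restrictFunctor (f ⁻¹ᵁ W).ι).mapHomologicalComplex
    (ComplexShape.up ℕ)).obj I.cocomplex
  have hKW : TermsAcyclic KW :=
    termsAcyclic_of_isFlq _ (fun n => isFlq_restrict W (isFlq_push f (res_isFlq I n)))
  have hK₂ : TermsAcyclic K₂ :=
    termsAcyclic_of_isFlq _ (fun n => isFlq_restrict _ (res_isFlq I n))
  have eW : ∀ j, KW.homology j ≅
      (Scheme.Modules.restrictFunctor W.ι).obj ((Coh.Rpush f j).obj G) := fun j =>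
    mapHomologyIsoOfExact (Scheme.Modules.restrictFunctor W.ι) K j ≪≫
      (Scheme.Modules.restrictFunctor W.ι).mapIso (pushHomologyIso f I j)
  have e₂ : ∀ j, K₂.homology j ≅
      (Scheme.Modules.restrictFunctor (f ⁻¹ᵁ W).ι).obj (I.cocomplex.homology j) := fun j =>
    mapHomologyIsoOfExact _ _ j
  have hres₂ : ∀ j, IsZero (K₂.homology (j + 1)) := fun j =>
    IsZero.of_iso ((Scheme.Modules.restrictFunctor (f ⁻¹ᵁ W).ι).map_isZero
      (res_isZero_homology I j)) (e₂ (j + 1))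
  have e₂0 : K₂.homology 0 ≅ (Scheme.Modules.restrictFunctor (f ⁻¹ᵁ W).ι).obj G :=
    e₂ 0 ≪≫ (Scheme.Modules.restrictFunctor (f ⁻¹ᵁ W).ι).mapIso (resHomologyZeroIso I)
  have hQ₂ : PQ K₂ 𝒮₂ q :=
    PQ_of_resolution 𝒮₂ hK₂ hres₂ q (𝒮₂.of_equiv (hmapEquiv e₂0 q).symm h)
  have hQW : PQ KW 𝒮₁ q := (PQ_transfer (secIsoRes f W I.cocomplex) h𝒮 q).2 hQ₂
  haveI : IsAffine (W : Scheme.{u}) := hW
  have hH : ∀ j p, Subsingleton (HHm (KW.homology j) (p + 1)) := fun j p => by
    haveI : ((Coh.Rpush f j).obj G).IsQuasicoherent :=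
      Groth.Agent.Lib.Helper13.QCohRpush.isQuasicoherent_Rpush f G j
    haveI : ((Scheme.Modules.restrictFunctor W.ι).obj ((Coh.Rpush f j).obj G)).IsQuasicoherent :=
      Scheme.Modules.isQuasicoherent_restrictFunctor W.ι _
    haveI : Subsingleton (HHm ((Scheme.Modules.restrictFunctor W.ι).obj
        ((Coh.Rpush f j).obj G)) (p + 1)) :=
      Groth.Agent.S0007.result (W : Scheme.{u}) _ (p + 1) (by omega)
    exact (hmapEquiv (eW j) (p + 1)).toEquiv.subsingleton
  have h0 := H0_homology_of_PQ 𝒮₁ hKW hH q hQW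
  exact 𝒮₁.of_equiv ((hmapEquiv (eW q) 0).trans (h0equiv _)) h0

end Groth.Agent.Lib.Helper23.T2
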