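import Groth.Agent.Lib.Helper23.T2F
import Groth.Agent.Lib.Helper3.PIso
import Groth.Agent.Lib.Helper12.ConsPairProper
import Groth.Agent.S0019
import Groth.Agent.S0038

/-!
# T2G: the projective case; sections over affine opens
-/
set_option autoImplicit false
universe u
open CategoryTheory CategoryTheory.Limits Opposite TopologicalSpace AlgebraicGeometry

noncomputable section

namespace Groth.Agent.Lib.Helper23.T2

/-- **Projective case**: coherent cohomology of a closed subscheme of `P^n_B` is finite over `B`. -/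
theorem proj_finite (B : Type u) [CommRing B] [IsNoetherianRing B] (n : ℕ) {T : Scheme.{u}}
    (s : T ⟶ Spec (CommRingCat.of B)) [IsProper s]
    (j : T ⟶ CohB1.ProjSpaceOver n (Spec (CommRingCat.of B))) [IsImmersion j]
    (hj : j ≫ CohB1.ProjSpaceOver.toBase n _ = s) (G : T.Modules) (hG : Coh.IsCoh G) (p : ℕ) :
    (finClass (Coh.toGlobal s)).P (HHm G p) := by
  have hP := IsPullback.of_hasPullback (CohB1.ProjSpace.toSpec n (ULift.{u} ℤ))
    (specULiftZIsTerminal.from (Spec (CommRingCat.of B)))
  haveI hiso := Groth.Agent.Lib.Helper3.PIso.isIso_lift n (R := B) _ _ hP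
  let c : CohB1.ProjSpace n B ⟶ CohB1.ProjSpaceOver n (Spec (CommRingCat.of B)) :=
    hP.lift (Groth.Agent.Lib.Helper3.PEmb2.gmap n B) (CohB1.ProjSpace.toSpec n B)
      (specULiftZIsTerminal.hom_ext _ _)
  haveI : IsIso c := hiso
  have hc : c ≫ CohB1.ProjSpaceOver.toBase n _ = CohB1.ProjSpace.toSpec n B :=
    hP.lift_snd _ _ _
  let ι : T ⟶ CohB1.ProjSpace n B := j ≫ inv c
  have hι : ι ≫ CohB1.ProjSpace.toSpec n B = s := by
    rw [← hc, ← hj]
    simp [ι]
  haveI : IsProper (j ≫ CohB1.ProjSpaceOver.toBase n (Spec (CommRingCat.of B))) := by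
    rw [hj]; infer_instance
  haveI : IsProper j := IsProper.of_comp j (CohB1.ProjSpaceOver.toBase n _)
  haveI : IsClosedImmersion j :=
    IsClosedImmersion.of_isPreimmersion j j.isClosedMap.isClosed_range
  haveI : IsClosedImmersion ι := inferInstance
  haveI : G.IsQuasicoherent := hG.1
  have hcompat : SClass.Compat (pushRing ι) (finClass (Coh.toGlobal (CohB1.ProjSpace.toSpec n B)))
      (finClass (Coh.toGlobal s)) :=
    finClass_compat' _ _ _ (by rw [toGlobal_comp, hι])
  rw [← affine_transfer ι G hcompat p]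
  haveI : IsLocallyNoetherian (Spec (CommRingCat.of B)) := inferInstance
  haveI : IsLocallyNoetherian (CohB1.ProjSpace n B) :=
    LocallyOfFiniteType.isLocallyNoetherian (CohB1.ProjSpace.toSpec n B)
  have hcoh : Coh.IsCoh ((Coh.push ι).obj G) := Groth.Agent.S0019.result ι G hG
  exact (finClass_HHm_iff B _ p).2 (Groth.Agent.S0038.result n B _ hcoh p)

end Groth.Agent.Lib.Helper23.T2
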