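import Groth.Agent.Lib.Helper23.T2G

/-!
# T2H: coherence of higher direct images from local finiteness; local projective embeddings
-/
set_option autoImplicit false
universe u
open CategoryTheory CategoryTheory.Limits Opposite TopologicalSpace AlgebraicGeometry

noncomputable section

namespace Groth.Agent.Lib.Helper23.T2

variable {X Y : Scheme.{u}} (f : X ⟶ Y)

/-- `Γ(Y, W) → Γ(↑W, ⊤)`. -/
def topRing (W : Y.Opens) : Γ(Y, W) →+* Coh.Γtop (W : Scheme.{u}) := W.topIso.inv.hom

lemma topRing_apply (W : Y.Opens) (b : Γ(Y, W)) :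
    topRing W b = (Y.presheaf.map (eqToHom W.ι_image_top).op).hom b := by
  rfl

/-- the structure of `Γ(Y, W)`-module on `Γ(↑W, ⊤; N|_W)` agrees with that of `Γ(W, N)`. -/
lemma finite_sections_of_compHom (N : Y.Modules) (W : Y.Opens)
    (h : @Module.Finite Γ(Y, W) (Gm ((Scheme.Modules.restrictFunctor W.ι).obj N)) _ _
      (Module.compHom _ (topRing W))) :
    Module.Finite Γ(Y, W) Γ(N, W) := by
  let _ : Module Γ(Y, W) (Gm ((Scheme.Modules.restrictFunctor W.ι).obj N)) :=
    Module.compHom _ (topRing W)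
  have hW : W.ι ''ᵁ ⊤ = W := W.ι_image_top
  let e : Gm ((Scheme.Modules.restrictFunctor W.ι).obj N) →ₗ[Γ(Y, W)] Γ(N, W) :=
    { toFun := fun x => N.val.map (eqToHom hW.symm).op x
      map_add' := fun x y => map_add _ x y
      map_smul' := fun b x => by
        have h1 := restrict_smul W N ⊤ (topRing W b) x
        have h2 := N.val.map_smul (eqToHom hW.symm).op (topRing W b) x
        change N.val.map (eqToHom hW.symm).op (topRing W b • x) =
          b • (show Γ(N, W) from N.val.map (eqToHom hW.symm).op x)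
        refine (congrArg (N.val.map (eqToHom hW.symm).op) h1).trans ?_
        refine h2.trans ?_
        congr 1
        rw [topRing_apply]
        change (Y.presheaf.map (eqToHom hW).op ≫ Y.presheaf.map (eqToHom hW.symm).op).hom b = b
        rw [← Functor.map_comp, ← op_comp, eqToHom_trans, eqToHom_refl, op_id, Y.presheaf.map_id]
        rfl }
  have he : Function.Surjective e := by
    intro y
    refine ⟨N.val.map (eqToHom hW).op y, ?_⟩
    change (N.val.presheaf.map (eqToHom hW).op ≫ N.val.presheaf.map (eqToHom hW.symm).op) y = y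
    rw [← Functor.map_comp, ← op_comp, eqToHom_trans, eqToHom_refl, op_id, N.val.presheaf.map_id]
    rfl
  exact Module.Finite.of_surjective e he

/-- **Coherence of higher direct images from local finiteness.** -/
theorem isCoh_Rpush_of_local [QuasiCompact f] [QuasiSeparated f] [IsLocallyNoetherian Y]
    (G : X.Modules) [G.IsQuasicoherent] (q : ℕ)
    (h : ∀ (W : Y.Opens), IsAffineOpen W →
      @Module.Finite Γ(Y, W) (HHm ((Scheme.Modules.restrictFunctor (f ⁻¹ᵁ W).ι).obj G) q) _ _
        (Module.compHom _ ((pushRing (f ∣_ W)).comp (topRing W)))) :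
    Coh.IsCoh ((Coh.Rpush f q).obj G) := by
  haveI : ((Coh.Rpush f q).obj G).IsQuasicoherent :=
    Groth.Agent.Lib.Helper13.QCohRpush.isQuasicoherent_Rpush f G q
  refine ⟨inferInstance,
    (Groth.Agent.Lib.Helper3.QCProps.isFiniteType_iff_finite_sections _).2 fun W hW => ?_⟩
  haveI : IsNoetherianRing Γ(Y, W) := IsLocallyNoetherian.component_noetherian ⟨W, hW⟩
  apply finite_sections_of_compHom
  exact LOC f G W hW (finClass_compat (topRing W) (pushRing (f ∣_ W))) q (h W hW)

/-- vanishing of sections of higher direct images over an affine open. -/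
theorem sections_Rpush_subsingleton [QuasiCompact f] [QuasiSeparated f]
    (G : X.Modules) [G.IsQuasicoherent] (W : Y.Opens) (hW : IsAffineOpen W) (q : ℕ)
    (h : Subsingleton (HHm ((Scheme.Modules.restrictFunctor (f ⁻¹ᵁ W).ι).obj G) q)) :
    Subsingleton Γ((Coh.Rpush f q).obj G, W) := by
  have h1 : Subsingleton (Gm ((Scheme.Modules.restrictFunctor W.ι).obj ((Coh.Rpush f q).obj G))) :=
    LOC f G W hW (zeroClass_compat (pushRing (f ∣_ W))) q h
  have key : ∀ V : Y.Opens, V = W → Subsingleton (((Coh.Rpush f q).obj G).val.obj (op V)) →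
      Subsingleton Γ((Coh.Rpush f q).obj G, W) := by
    rintro V rfl h
    exact h
  exact key _ W.ι_image_top h1

lemma toGlobal_isoSpec (W : Y.Opens) (hW : IsAffineOpen W) :
    Coh.toGlobal (A := Γ(Y, W)) hW.isoSpec.hom = topRing W := by
  ext b
  unfold Coh.toGlobal
  rw [IsAffineOpen.isoSpec_hom_appTop]
  change ((Scheme.ΓSpecIso Γ(Y, W)).inv ≫ (Scheme.ΓSpecIso Γ(Y, W)).hom ≫ W.topIso.inv).hom b = _
  rw [Iso.inv_hom_id_assoc]
  rfl

/-- **Local projective embeddings**: if `Y'` is embedded in `P^n_A` compatibly with a proper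
`π : Y' ⟶ Y`, the cohomology of a coherent module on `π⁻¹ W`, `W` affine open, is finite over
`Γ(Y, W)`. -/
theorem local_proj_finite {A : Type u} [CommRing A] {Y' : Scheme.{u}}
    (π : Y' ⟶ Y) [IsProper π] (sY : Y ⟶ Spec (CommRingCat.of A)) (n : ℕ)
    (j : Y' ⟶ CohB1.ProjSpaceOver n (Spec (CommRingCat.of A))) [IsImmersion j]
    (hj : j ≫ CohB1.ProjSpaceOver.toBase n _ = π ≫ sY) [IsLocallyNoetherian Y]
    (G' : Y'.Modules) (hG' : Coh.IsCoh G') (W : Y.Opens) (hW : IsAffineOpen W) (p : ℕ) :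
    @Module.Finite Γ(Y, W) (HHm ((Scheme.Modules.restrictFunctor (π ⁻¹ᵁ W).ι).obj G') p) _ _
        (Module.compHom _ ((pushRing (π ∣_ W)).comp (topRing W))) := by
  haveI : IsNoetherianRing Γ(Y, W) := IsLocallyNoetherian.component_noetherian ⟨W, hW⟩
  let T : Scheme.{u} := (π ⁻¹ᵁ W : Y'.Opens)
  let sT : T ⟶ Spec (CommRingCat.of Γ(Y, W)) := (π ∣_ W) ≫ hW.isoSpec.hom
  haveI : IsProper sT := inferInstance
  let jW : T ⟶ CohB1.ProjSpaceOver n (Spec (CommRingCat.of Γ(Y, W))) :=
    pullback.lift ((π ⁻¹ᵁ W).ι ≫ j ≫ pullback.fst _ _) sT (specULiftZIsTerminal.hom_ext _ _)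
  have hjW : jW ≫ CohB1.ProjSpaceOver.toBase n _ = sT := pullback.lift_snd _ _ _
  let b : Spec (CommRingCat.of Γ(Y, W)) ⟶ Spec (CommRingCat.of A) := hW.fromSpec ≫ sY
  let m : CohB1.ProjSpaceOver n (Spec (CommRingCat.of Γ(Y, W))) ⟶
      CohB1.ProjSpaceOver n (Spec (CommRingCat.of A)) :=
    pullback.lift (pullback.fst _ _) (pullback.snd _ _ ≫ b) (specULiftZIsTerminal.hom_ext _ _)
  have hm1 : m ≫ pullback.fst _ _ = pullback.fst _ _ := pullback.lift_fst _ _ _
  have hm2 : m ≫ pullback.snd _ _ = pullback.snd _ _ ≫ b := pullback.lift_snd _ _ _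
  have hj1 : jW ≫ pullback.fst _ _ = (π ⁻¹ᵁ W).ι ≫ j ≫ pullback.fst _ _ := pullback.lift_fst _ _ _
  have hj2 : jW ≫ pullback.snd _ _ = sT := hjW
  have h1 : hW.isoSpec.hom ≫ hW.fromSpec = W.ι := hW.isoSpec_hom_fromSpec
  have h3 : j ≫ pullback.snd _ _ = π ≫ sY := hj
  have hm : jW ≫ m = (π ⁻¹ᵁ W).ι ≫ j := by
    apply pullback.hom_ext
    · refine (Category.assoc jW m _).trans ?_
      refine (congrArg (fun t => jW ≫ t) hm1).trans ?_
      refine hj1.trans ?_
      exact (Category.assoc _ _ _).symm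
    · refine (Category.assoc jW m _).trans ?_
      refine (congrArg (fun t => jW ≫ t) hm2).trans ?_
      refine (Category.assoc jW _ b).symm.trans ?_
      refine (congrArg (fun t => t ≫ b) hj2).trans ?_
      refine Eq.trans ?_ (Category.assoc _ _ _).symm
      refine Eq.trans ?_ (congrArg (fun t => (π ⁻¹ᵁ W).ι ≫ t) h3.symm)
      change (π ∣_ W ≫ hW.isoSpec.hom) ≫ hW.fromSpec ≫ sY = _
      rw [Category.assoc, reassoc_of% h1, ← morphismRestrict_ι_assoc]
  haveI : IsImmersion (jW ≫ m) := by rw [hm]; infer_instance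
  haveI : IsImmersion jW := IsImmersion.of_comp jW m
  have hcoh : Coh.IsCoh ((Scheme.Modules.restrictFunctor (π ⁻¹ᵁ W).ι).obj G') := by
    haveI := hG'.1
    haveI := hG'.2
    exact ⟨Scheme.Modules.isQuasicoherent_restrictFunctor _ _,
      Groth.Agent.Lib.Helper3.QCProps.isFiniteType_restrict _ _⟩
  have key := proj_finite Γ(Y, W) n sT jW hjW _ hcoh p
  have hρ : Coh.toGlobal sT = (pushRing (π ∣_ W)).comp (topRing W) := by
    rw [← toGlobal_isoSpec W hW, toGlobal_comp]
  rw [hρ] at key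
  exact key

end Groth.Agent.Lib.Helper23.T2
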