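import Groth.Agent.Lib.Helper23.T2H
import Groth.Agent.Lib.Helper17.UnitBC2
import Groth.Agent.Lib.Helper3.QCExact

/-!
# T2I: supports; the unit of pullback–pushforward over the locus where the morphism is an isomorphism
-/
set_option autoImplicit false
universe u
open CategoryTheory CategoryTheory.Limits Opposite TopologicalSpace AlgebraicGeometry
open scoped TensorProduct

noncomputable section

namespace Groth.Agent.Lib.Helper23.T2

open Groth.Agent.Lib.Helper17.UnitBC Groth.Agent.Lib.Helper3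

variable {X Y Y' : Scheme.{u}} (f : X ⟶ Y)

lemma support_subset_compl_of_locally_zero (M : Y.Modules) (U : Y.Opens)
    (h : ∀ (W : Y.Opens) (s : Γ(M, W)) (x : Y), x ∈ W → x ∈ U →
      ∃ (V : Y.Opens) (hV : V ≤ W), x ∈ V ∧ M.presheaf.map (homOfLE hV).op s = 0) :
    CohB1.support M ⊆ (U : Set Y)ᶜ := by
  intro x hx hxU
  apply hx
  have key : ∀ a : M.presheaf.stalk x, a = 0 := by
    intro a
    obtain ⟨W, hxW, s, rfl⟩ := TopCat.Presheaf.exists_germ_eq M.presheaf a
    obtain ⟨V, hV, hxV, hs⟩ := h W s x hxW hxU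
    rw [← TopCat.Presheaf.germ_res_apply M.presheaf (homOfLE hV) x hxV s, hs, map_zero]
  exact ⟨fun a b => by rw [key a, key b]⟩

lemma exists_affine_le (x : Y) (W : Y.Opens) (hx : x ∈ W) :
    ∃ V : Y.Opens, IsAffineOpen V ∧ x ∈ V ∧ V ≤ W := by
  obtain ⟨V, hV, hxV, hVW⟩ := (Opens.isBasis_iff_nbhd.1 Y.isBasis_affineOpens) hx
  exact ⟨V, hV, hxV, hVW⟩

/-- if the sections over all affine opens inside `U` vanish, the support avoids `U`. -/
lemma support_subset_compl_of_sections (M : Y.Modules) (U : Y.Opens)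
    (h : ∀ V : Y.Opens, IsAffineOpen V → V ≤ U → Subsingleton Γ(M, V)) :
    CohB1.support M ⊆ (U : Set Y)ᶜ := by
  apply support_subset_compl_of_locally_zero
  intro W s x hxW hxU
  obtain ⟨V, hV, hxV, hVW⟩ := exists_affine_le x (W ⊓ U) ⟨hxW, hxU⟩
  haveI := h V hV (hVW.trans inf_le_right)
  exact ⟨V, hVW.trans inf_le_left, hxV, Subsingleton.elim _ _⟩

/-- the cokernel of a map which is surjective on sections over affine opens inside `U` has support
outside `U`. -/
lemma support_cokernel_subset_compl {E C : Y.Modules} (φ : E ⟶ C) [Epi φ] (U : Y.Opens)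
    (h : ∀ V : Y.Opens, IsAffineOpen V → V ≤ U → ∀ t : Γ(E, V), φ.app V t = 0) :
    CohB1.support C ⊆ (U : Set Y)ᶜ := by
  apply support_subset_compl_of_locally_zero
  intro W s x hxW hxU
  obtain ⟨W', hW', hxW', t, ht⟩ := Groth.Agent.Lib.Helper3.QCExact.exists_local_lift φ W s x hxW
  obtain ⟨V, hV, hxV, hVW⟩ := exists_affine_le x (W' ⊓ U) ⟨hxW', hxU⟩
  refine ⟨V, (hVW.trans inf_le_left).trans hW', hxV, ?_⟩
  have h1 := h V hV (hVW.trans inf_le_right) (E.presheaf.map (homOfLE (hVW.trans inf_le_left)).op t)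
  have h2 : φ.app V (E.presheaf.map (homOfLE (hVW.trans inf_le_left)).op t) =
      C.presheaf.map (homOfLE (hVW.trans inf_le_left)).op (φ.app W' t) :=
    Groth.Agent.Lib.Helper3.QCExact.app_res' φ (hVW.trans inf_le_left) t
  rw [h2, ht] at h1
  rw [← h1]
  change _ = (C.presheaf.map (homOfLE hW').op ≫ C.presheaf.map (homOfLE (hVW.trans inf_le_left)).op) s
  rw [← Functor.map_comp]
  rfl

lemma bijective_of_isBaseChange {R S M N : Type*} [CommRing R] [CommRing S] [Algebra R S]
    [AddCommGroup M] [Module R M] [AddCommGroup N] [Module R N] [Module S N] [IsScalarTower R S N]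
    (hφ : Function.Bijective (algebraMap R S)) (lin : M →ₗ[R] N) (h : IsBaseChange S lin) :
    Function.Bijective lin := by
  let e : R ≃ₗ[R] S := LinearEquiv.ofBijective (Algebra.linearMap R S) hφ
  let ψ : M ≃ₗ[R] S ⊗[R] M :=
    (TensorProduct.lid R M).symm ≪≫ₗ TensorProduct.congr e (LinearEquiv.refl R M)
  have hψ : ∀ m, ψ m = (1 : S) ⊗ₜ[R] m := by
    intro m
    have h1 : (LinearEquiv.ofBijective (Algebra.linearMap R S) hφ) 1 = 1 :=
      map_one (algebraMap R S)
    simp only [ψ, e, LinearEquiv.trans_apply, TensorProduct.lid_symm_apply, TensorProduct.congr_tmul,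
      LinearEquiv.refl_apply]
    rw [h1]
  have hl : ∀ m, lin m = h.equiv (ψ m) := by
    intro m
    rw [hψ, IsBaseChange.equiv_tmul, one_smul]
  have : (lin : M → N) = h.equiv ∘ ψ := funext hl
  rw [this]
  exact h.equiv.bijective.comp ψ.bijective

lemma bijective_of_isBCHom {R S : Type*} [CommRing R] [CommRing S] {φ : R →+* S}
    (hφ : Function.Bijective φ) {M N : Type*} [AddCommGroup M] [Module R M] [AddCommGroup N]
    [Module S N] {β : M → N} (h : IsBCHom φ β) : Function.Bijective β := by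
  letI := φ.toAlgebra
  letI : Module R N := Module.compHom N φ
  haveI : IsScalarTower R S N := IsScalarTower.of_algebraMap_smul fun _ _ => rfl
  obtain ⟨lin, hlin, hbc⟩ := h
  have := bijective_of_isBaseChange (R := R) (S := S) hφ lin hbc
  have e : (lin : M → N) = β := funext hlin
  rwa [e] at this

lemma isIso_morphismRestrict_of_le {U W : Y.Opens} (h : W ≤ U) [IsIso (f ∣_ U)] :
    IsIso (f ∣_ W) := by
  have e1 := morphismRestrictRestrict f U (U.ι ⁻¹ᵁ W)
  have hW : U.ι ''ᵁ (U.ι ⁻¹ᵁ W) = W := by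
    rw [Scheme.Hom.image_preimage_eq_opensRange_inf, Scheme.Opens.opensRange_ι]
    exact inf_eq_right.2 h
  have e2 := morphismRestrictEq f hW
  have h1 : IsIso (f ∣_ U ∣_ (U.ι ⁻¹ᵁ W)) := inferInstance
  exact ((MorphismProperty.isomorphisms Scheme).arrow_mk_iso_iff (e1 ≪≫ e2)).1 h1

lemma isAffineOpen_preimage_of_isIso {W : Y.Opens} (hW : IsAffineOpen W) [IsIso (f ∣_ W)] :
    IsAffineOpen (f ⁻¹ᵁ W) := by
  haveI : IsAffine (W : Scheme.{u}) := hW
  exact IsAffine.of_isIso (f ∣_ W)

lemma isIso_appLE_of_isIso (W : Y.Opens) [IsIso (f ∣_ W)] :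
    IsIso (f.appLE W (f ⁻¹ᵁ W) le_rfl) := by
  have h0 : (f.resLE W (f ⁻¹ᵁ W) le_rfl).appTop =
      W.topIso.hom ≫ f.appLE W (f ⁻¹ᵁ W) le_rfl ≫ (f ⁻¹ᵁ W).topIso.inv :=
    Scheme.Hom.resLE_app_top f le_rfl
  have h1 : (f ∣_ W).appTop = W.topIso.hom ≫ f.appLE W (f ⁻¹ᵁ W) le_rfl ≫ (f ⁻¹ᵁ W).topIso.inv := by
    rw [← h0, Scheme.Hom.resLE_eq_morphismRestrict]
  have h2 : f.appLE W (f ⁻¹ᵁ W) le_rfl = W.topIso.inv ≫ (f ∣_ W).appTop ≫ (f ⁻¹ᵁ W).topIso.hom := by
    rw [h1]
    simp only [Category.assoc, Iso.inv_hom_id, Category.comp_id, Iso.inv_hom_id_assoc]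
  have h3 : IsIso ((f ∣_ W).appTop) := (inferInstance : IsIso ((f ∣_ W).app ⊤))
  rw [h2]
  infer_instance

lemma unit_app_bijective (π : Y' ⟶ Y) (G : Y.Modules) [G.IsQuasicoherent] (W : Y.Opens)
    (hW : IsAffineOpen W) [IsIso (π ∣_ W)] :
    Function.Bijective (((Scheme.Modules.pullbackPushforwardAdjunction π).unit.app G).app W) := by
  have hU' := isAffineOpen_preimage_of_isIso π hW
  have hbc := isBCHom_unitSec π G hW hU' le_rfl
  haveI := isIso_appLE_of_isIso π W
  have hφ : Function.Bijective (π.appLE W (π ⁻¹ᵁ W) le_rfl).hom :=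
    ConcreteCategory.bijective_of_isIso (π.appLE W (π ⁻¹ᵁ W) le_rfl)
  have h1 := bijective_of_isBCHom hφ hbc
  have h2 : unitSec π G W (π ⁻¹ᵁ W) le_rfl =
      fun σ => ((Scheme.Modules.pullbackPushforwardAdjunction π).unit.app G).app W σ := by
    funext σ
    unfold unitSec
    rw [QCSec.res_self]
    rfl
  rw [h2] at h1
  exact h1

/-- the kernel of the unit `G ⟶ π_* π^* G` is supported outside the locus where `π` is an
isomorphism. -/
theorem support_kernel_unit (π : Y' ⟶ Y) (G : Y.Modules) [G.IsQuasicoherent] (U : Y.Opens)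
    [IsIso (π ∣_ U)] :
    CohB1.support (kernel ((Scheme.Modules.pullbackPushforwardAdjunction π).unit.app G)) ⊆
      (U : Set Y)ᶜ := by
  apply support_subset_compl_of_sections
  intro V hV hVU
  haveI := isIso_morphismRestrict_of_le π hVU
  have hb := unit_app_bijective π G V hV
  refine ⟨fun s t => ?_⟩
  apply QCExact.injective_sections
    (kernel.ι ((Scheme.Modules.pullbackPushforwardAdjunction π).unit.app G)) V
  apply hb.1
  have key : ∀ s : Γ(kernel ((Scheme.Modules.pullbackPushforwardAdjunction π).unit.app G), V),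
      ((Scheme.Modules.pullbackPushforwardAdjunction π).unit.app G).app V
        ((kernel.ι ((Scheme.Modules.pullbackPushforwardAdjunction π).unit.app G)).app V s) = 0 := by
    intro s
    have h0 := kernel.condition ((Scheme.Modules.pullbackPushforwardAdjunction π).unit.app G)
    have := congrArg (fun φ => Scheme.Modules.Hom.app φ V s) h0
    exact this
  rw [key s, key t]

/-- the cokernel of the unit `G ⟶ π_* π^* G` is supported outside the locus where `π` is an
isomorphism. -/
theorem support_cokernel_unit (π : Y' ⟶ Y) (G : Y.Modules) [G.IsQuasicoherent] (U : Y.Opens)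
    [IsIso (π ∣_ U)] :
    CohB1.support (cokernel ((Scheme.Modules.pullbackPushforwardAdjunction π).unit.app G)) ⊆
      (U : Set Y)ᶜ := by
  apply support_cokernel_subset_compl
    (cokernel.π ((Scheme.Modules.pullbackPushforwardAdjunction π).unit.app G)) U
  intro V hV hVU t
  haveI := isIso_morphismRestrict_of_le π hVU
  obtain ⟨g, rfl⟩ := (unit_app_bijective π G V hV).2 t
  have h0 := cokernel.condition ((Scheme.Modules.pullbackPushforwardAdjunction π).unit.app G)
  exact congrArg (fun φ => Scheme.Modules.Hom.app φ V g) h0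

/-- higher direct images are supported outside the locus where the morphism is an isomorphism. -/
theorem support_Rpush_succ (π : Y' ⟶ Y) [QuasiCompact π] [QuasiSeparated π] (G' : Y'.Modules)
    [G'.IsQuasicoherent] (U : Y.Opens) [IsIso (π ∣_ U)] (q : ℕ) :
    CohB1.support ((Coh.Rpush π (q + 1)).obj G') ⊆ (U : Set Y)ᶜ := by
  apply support_subset_compl_of_sections
  intro V hV hVU
  haveI := isIso_morphismRestrict_of_le π hVU
  apply sections_Rpush_subsingleton π G' V hV (q + 1)
  haveI : IsAffine ((π ⁻¹ᵁ V : Y'.Opens) : Scheme.{u}) := isAffineOpen_preimage_of_isIso π hV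
  haveI : ((Scheme.Modules.restrictFunctor (π ⁻¹ᵁ V).ι).obj G').IsQuasicoherent :=
    Scheme.Modules.isQuasicoherent_restrictFunctor _ _
  exact Groth.Agent.S0007.result _ _ (q + 1) (by omega)

end Groth.Agent.Lib.Helper23.T2
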