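import Mathlib

/-! Finite-potent traces (Tate).  Part 1: trace data and well-definedness. -/

namespace Groth.Agent.Lib.Helper23.Tate

open Module LinearMap

variable {k : Type*} [Field k] {V : Type*} [AddCommGroup V] [Module k V]

/-- trace of `θ` on an invariant subspace -/
noncomputable def trOn (θ : End k V) (W : Submodule k V) (h : ∀ w ∈ W, θ w ∈ W) : k :=
  LinearMap.trace k W (θ.restrict h)

theorem trOn_congr (θ : End k V) {W W' : Submodule k V} (e : W = W') (h : ∀ w ∈ W, θ w ∈ W) :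
    trOn θ W h = trOn θ W' (e ▸ h) := by
  subst e; rfl

/-- one step: `θ W₂ ⊆ W₁ ⊆ W₂`. -/
theorem trOn_eq_of_map_le {θ : End k V} {W₁ W₂ : Submodule k V} [FiniteDimensional k W₂]
    (h₁ : ∀ w ∈ W₁, θ w ∈ W₁) (h₂ : ∀ w ∈ W₂, θ w ∈ W₂) (hle : W₁ ≤ W₂)
    (hmap : ∀ w ∈ W₂, θ w ∈ W₁) : trOn θ W₁ h₁ = trOn θ W₂ h₂ := by
  unfold trOn
  set f : W₂ →ₗ[k] W₂ := θ.restrict h₂ with hf
  set p : Submodule k W₂ := W₁.submoduleOf W₂ with hp
  have hfp : ∀ x, f x ∈ p := by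
    intro x
    show (W₂.subtype (f x)) ∈ W₁
    exact hmap x.1 x.2
  have key := LinearMap.trace_restrict_eq_of_forall_mem p f hfp
  rw [← key]
  let e : p ≃ₗ[k] W₁ := Submodule.submoduleOfEquivOfLe hle
  rw [← LinearMap.trace_conj' (f.restrict (fun x _ => hfp x)) e]
  congr 1

theorem pow_mem_of_inv {θ : End k V} {W : Submodule k V} (h : ∀ w ∈ W, θ w ∈ W) (n : ℕ) :
    ∀ w ∈ W, (θ ^ n) w ∈ W := by
  induction n with
  | zero => intro w hw; simpa using hw
  | succ n ih =>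
    intro w hw
    rw [pow_succ', Module.End.mul_apply]
    exact h _ (ih w hw)

/-- general step: `θ^n W₂ ⊆ W₁ ⊆ W₂`. -/
theorem trOn_eq_of_pow_map_le {θ : End k V} (n : ℕ) : ∀ {W₁ W₂ : Submodule k V}
    [FiniteDimensional k W₂]
    (h₁ : ∀ w ∈ W₁, θ w ∈ W₁) (h₂ : ∀ w ∈ W₂, θ w ∈ W₂) (_ : W₁ ≤ W₂)
    (_ : ∀ w ∈ W₂, (θ ^ n) w ∈ W₁), trOn θ W₁ h₁ = trOn θ W₂ h₂ := by
  induction n with
  | zero =>
    intro W₁ W₂ _ h₁ h₂ hle hmap
    have e : W₁ = W₂ := le_antisymm hle (fun w hw => by simpa using hmap w hw)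
    exact trOn_congr θ e h₁
  | succ n ih =>
    intro W₁ W₂ _ h₁ h₂ hle hmap
    set W' : Submodule k V := W₁ ⊔ W₂.map θ with hW'
    have hW'le : W' ≤ W₂ := by
      refine sup_le hle ?_
      rintro _ ⟨w, hw, rfl⟩
      exact h₂ w hw
    have hmapW' : ∀ w ∈ W₂, θ w ∈ W' := fun w hw =>
      Submodule.mem_sup_right (Submodule.mem_map_of_mem hw)
    have h' : ∀ w ∈ W', θ w ∈ W' := fun w hw => hmapW' w (hW'le hw)
    haveI : FiniteDimensional k W' := Submodule.finiteDimensional_of_le hW'le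
    have hpow : ∀ w ∈ W', (θ ^ n) w ∈ W₁ := by
      intro w hw
      rw [hW', Submodule.mem_sup] at hw
      obtain ⟨a, ha, b, hb, rfl⟩ := hw
      rw [map_add]
      refine W₁.add_mem (pow_mem_of_inv h₁ n a ha) ?_
      obtain ⟨c, hc, rfl⟩ := hb
      have := hmap c hc
      rwa [pow_succ, Module.End.mul_apply] at this
    rw [ih h₁ h' le_sup_left hpow]
    exact trOn_eq_of_map_le h' h₂ hW'le hmapW'

/-- `(W, n)` is a trace datum for `θ`. -/
structure IsDatum (θ : End k V) (W : Submodule k V) (n : ℕ) : Prop where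
  fin : FiniteDimensional k W
  inv : ∀ w ∈ W, θ w ∈ W
  pow : ∀ v, (θ ^ n) v ∈ W

/-- finite-potent -/
def IsFP (θ : End k V) : Prop := ∃ W n, IsDatum θ W n

open Classical in
/-- the finite-potent trace -/
noncomputable def ftr (θ : End k V) : k :=
  if h : IsFP θ then trOn θ h.choose h.choose_spec.choose_spec.inv else 0

theorem IsDatum.trOn_eq {θ : End k V} {W W' : Submodule k V} {n n' : ℕ}
    (h : IsDatum θ W n) (h' : IsDatum θ W' n') : trOn θ W h.inv = trOn θ W' h'.inv := by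
  haveI := h.fin
  haveI := h'.fin
  have hinv : ∀ w ∈ W ⊔ W', θ w ∈ W ⊔ W' := by
    intro w hw
    rw [Submodule.mem_sup] at hw
    obtain ⟨a, ha, b, hb, rfl⟩ := hw
    rw [map_add]
    exact Submodule.add_mem_sup (h.inv a ha) (h'.inv b hb)
  have e1 : trOn θ W h.inv = trOn θ (W ⊔ W') hinv :=
    trOn_eq_of_pow_map_le n h.inv hinv le_sup_left (fun w _ => h.pow w)
  have e2 : trOn θ W' h'.inv = trOn θ (W ⊔ W') hinv :=
    trOn_eq_of_pow_map_le n' h'.inv hinv le_sup_right (fun w _ => h'.pow w)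
  rw [e1, e2]

theorem IsDatum.ftr_eq {θ : End k V} {W : Submodule k V} {n : ℕ} (h : IsDatum θ W n) :
    ftr θ = trOn θ W h.inv := by
  have hfp : IsFP θ := ⟨W, n, h⟩
  unfold ftr
  rw [dif_pos hfp]
  exact IsDatum.trOn_eq hfp.choose_spec.choose_spec h

theorem ftr_of_not_isFP {θ : End k V} (h : ¬ IsFP θ) : ftr θ = 0 := by
  unfold ftr; rw [dif_neg h]

theorem IsDatum.mono {θ : End k V} {W : Submodule k V} {n m : ℕ} (h : IsDatum θ W n)
    (hnm : n ≤ m) : IsDatum θ W m := by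
  refine ⟨h.fin, h.inv, fun v => ?_⟩
  obtain ⟨d, rfl⟩ := Nat.exists_eq_add_of_le hnm
  rw [pow_add, Module.End.mul_apply]
  exact h.pow _

/-- nilpotent ⇒ trace zero -/
theorem ftr_eq_zero_of_pow_eq_zero {θ : End k V} {n : ℕ} (h : θ ^ n = 0) : ftr θ = 0 := by
  have hd : IsDatum θ ⊥ n := by
    refine ⟨inferInstance, fun w hw => ?_, fun v => ?_⟩
    · rw [Submodule.mem_bot] at hw ⊢; rw [hw, map_zero]
    · rw [h]; simp
  rw [hd.ftr_eq]
  unfold trOn
  have : (θ.restrict hd.inv) = 0 := by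
    ext x
  rw [this, map_zero]

end Groth.Agent.Lib.Helper23.Tate
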