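import Groth.Agent.Lib.Helper23.Tate9

/-! Tate residues on Laurent series: `res (f dg) = Tr (coeff₋₁ (f g'))`. -/

namespace Groth.Agent.Lib.Helper23.Tate

open Module LinearMap LaurentSeries HahnSeries WithZero
open Groth.Agent.Lib.Helper27.LR

universe u w

variable {k : Type u} [Field k] {F : Type w} [Field F] [Algebra k F] [FiniteDimensional k F]

theorem resL_Tinv (h : F⸨X⸩) :
    resL k h (single (-1) (1 : F)) =
      - resL k (h * single (-1) (1 : F) * single (-1) (1 : F)) (single 1 (1 : F)) := by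
  have e1 : (single 1 (1 : F) : F⸨X⸩) * single (-1) (1 : F) = 1 := by
    rw [HahnSeries.single_mul_single]; simp
  have h0 := resL_one_right (k := k) (h * single (-1) (1 : F))
  rw [← e1, resL_mul_right] at h0
  have e2 : h * single (-1) (1 : F) * single 1 (1 : F) = h := by
    rw [mul_assoc, mul_comm (single (-1) (1 : F)), e1, mul_one]
  rw [e2] at h0
  exact eq_neg_of_add_eq_zero_left h0

theorem single_one_pow (n : ℕ) : (single 1 (1 : F) : F⸨X⸩) ^ n = single (n : ℤ) (1 : F) := by
  rw [HahnSeries.single_pow]; simp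

theorem single_neg_one_pow (n : ℕ) :
    (single (-1) (1 : F) : F⸨X⸩) ^ n = single (-(n : ℤ)) (1 : F) := by
  rw [HahnSeries.single_pow]; simp

theorem resL_single (f : F⸨X⸩) (j : ℤ) (c : F) :
    resL k f (single j c) = Algebra.trace k F (f.coeff (-j) * (j • c)) := by
  have hsplit : (single j c : F⸨X⸩) = HahnSeries.C c * single j (1 : F) := by
    rw [HahnSeries.C_apply, HahnSeries.single_mul_single]; simp
  rw [hsplit, resL_mul_right, resL_C_right, add_zero]
  have hfc : ∀ m : ℤ, f * HahnSeries.C c * single m (1 : F) = f * single m c := by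
    intro m
    rw [mul_assoc, HahnSeries.C_apply, HahnSeries.single_mul_single]
    simp
  obtain ⟨n, rfl | rfl⟩ := j.eq_nat_or_neg
  · cases n with
    | zero =>
      have : (single ((0 : ℕ) : ℤ) (1 : F) : F⸨X⸩) = 1 := rfl
      rw [this, resL_one_right]
      simp
    | succ n =>
      rw [← single_one_pow (n + 1), resL_pow_succ, single_one_pow, hfc, resL_T,
        HahnSeries.coeff_mul_single]
      have e : (-1 : ℤ) - (n : ℤ) = -((n + 1 : ℕ) : ℤ) := by push_cast; ring
      rw [e, ← nsmul_eq_mul, ← map_nsmul]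
      congr 1
      rw [natCast_zsmul, mul_smul_comm]
  · cases n with
    | zero =>
      have : (single (-((0 : ℕ) : ℤ)) (1 : F) : F⸨X⸩) = 1 := by simp
      rw [this, resL_one_right]
      simp
    | succ n =>
      rw [← single_neg_one_pow (n + 1), resL_pow_succ, resL_Tinv, single_neg_one_pow]
      have e1 : f * HahnSeries.C c * single (-(n : ℤ)) (1 : F) * single (-1) (1 : F) *
          single (-1) (1 : F) = f * HahnSeries.single (-(n : ℤ) - 2) c := by
        rw [hfc, mul_assoc, mul_assoc, HahnSeries.single_mul_single,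
          HahnSeries.single_mul_single]
        congr 2
        ring
      rw [e1, resL_T, HahnSeries.coeff_mul_single]
      have e : (-1 : ℤ) - (-(n : ℤ) - 2) = - -((n + 1 : ℕ) : ℤ) := by push_cast; ring
      rw [e, mul_neg, ← nsmul_eq_mul, ← map_nsmul, ← map_neg]
      congr 1
      rw [neg_smul, natCast_zsmul, mul_neg, mul_smul_comm]

/-- the tail does not contribute (abstract side) -/
theorem resL_tail {f t : F⸨X⸩} {N : ℕ} (hf : f ∈ OLm k (-(N : ℤ))) (ht : t ∈ OLm k ((N : ℤ) + 1)) :
    resL k f t = 0 := by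
  set T : F⸨X⸩ := single 1 (1 : F) with hT
  set Ti : F⸨X⸩ := single (-1) (1 : F) with hTi
  have e1 : T ^ (N + 1) * Ti ^ (N + 1) = 1 := by
    rw [← mul_pow, hT, hTi, HahnSeries.single_mul_single]; simp
  set h₁ := Ti ^ (N + 1) * t with hh₁
  have ht' : t = T ^ (N + 1) * h₁ := by rw [hh₁, ← mul_assoc, e1, one_mul]
  have hTi_mem : Ti ^ (N + 1) ∈ OLm k (-((N : ℤ) + 1)) := by
    rw [hTi, single_neg_one_pow]
    have := single_mem_OLm (k := k) (-((N + 1 : ℕ) : ℤ)) (1 : F)
    convert this using 2
    push_cast; ring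
  have hT_mem : ∀ m : ℕ, T ^ m ∈ OLm k (m : ℤ) := fun m => by
    rw [hT, single_one_pow]; exact single_mem_OLm _ _
  have hh₁_mem : h₁ ∈ OLm k 0 := by
    have := mul_mem_OLm hTi_mem ht
    rwa [neg_add_cancel] at this
  rw [ht', resL_mul_right]
  have z1 : resL k (f * T ^ (N + 1)) h₁ = 0 := by
    refine resL_eq_zero_of_mem ?_ hh₁_mem
    have := mul_mem_OLm hf (hT_mem (N + 1))
    refine OLm_anti ?_ this
    push_cast; omega
  have z2 : resL k (f * h₁) (T ^ (N + 1)) = 0 := by
    rw [resL_pow_succ, hT, resL_T]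
    have hmem : f * h₁ * single 1 (1 : F) ^ N ∈ OLm k 0 := by
      have := mul_mem_OLm (mul_mem_OLm hf hh₁_mem) (hT_mem N)
      refine OLm_anti ?_ this
      omega
    rw [hmem (-1) (by norm_num), map_zero, mul_zero]
  rw [z1, z2, add_zero]

theorem D_single (j : ℤ) (c : F) :
    LocRes.D F (single j c : F⸨X⸩) = single (j - 1) (j • c) := by
  ext n
  rw [coeff_D, HahnSeries.coeff_single, HahnSeries.coeff_single]
  by_cases h : n = j - 1
  · rw [if_pos h, if_pos (by omega)]
    have : n + 1 = j := by omega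
    rw [this]
  · rw [if_neg h, if_neg (by omega), smul_zero]

/-- the concrete residue pairing -/
noncomputable def rhsL (k : Type u) [Field k] {F : Type w} [Field F] [Algebra k F] (f g : F⸨X⸩) : k :=
  Algebra.trace k F ((f * LocRes.D F g).coeff (-1))

theorem rhsL_add_right (f g g' : F⸨X⸩) : rhsL k f (g + g') = rhsL k f g + rhsL k f g' := by
  unfold rhsL
  rw [map_add, mul_add, HahnSeries.coeff_add, map_add]

theorem rhsL_sum_right (f : F⸨X⸩) {ι : Type*} (s : Finset ι) (g : ι → F⸨X⸩) :
    rhsL k f (∑ i ∈ s, g i) = ∑ i ∈ s, rhsL k f (g i) := by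
  classical
  induction s using Finset.induction_on with
  | empty => simp [rhsL]
  | insert i s hi ih => rw [Finset.sum_insert hi, Finset.sum_insert hi, rhsL_add_right, ih]

theorem rhsL_single (f : F⸨X⸩) (j : ℤ) (c : F) :
    rhsL k f (single j c) = Algebra.trace k F (f.coeff (-j) * (j • c)) := by
  unfold rhsL
  rw [D_single, HahnSeries.coeff_mul_single]
  congr 3
  ring

theorem rhsL_tail {f t : F⸨X⸩} {N : ℕ} (hf : f ∈ OLm k (-(N : ℤ))) (ht : t ∈ OLm k ((N : ℤ) + 1)) :
    rhsL k f t = 0 := by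
  unfold rhsL
  have h1 : LocRes.D F t ∈ OLm k (N : ℤ) := by
    rw [mem_OLm_iff_val] at ht ⊢
    have := val_D_le ht
    rwa [add_sub_cancel_right] at this
  have h2 := mul_mem_OLm hf h1
  rw [neg_add_cancel] at h2
  rw [h2 (-1) (by norm_num), map_zero]

/-- **Local computation**: Tate's abstract residue on `F⸨X⸩` is the trace of the coefficient of
`X⁻¹` in `f g'`. -/
theorem resL_eq (f g : F⸨X⸩) : resL k f g = rhsL k f g := by
  obtain ⟨N, hN⟩ := exists_mem_OLm (k := k) f
  obtain ⟨M, hM⟩ := exists_mem_OLm (k := k) g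
  set S := Finset.Ico (-(M : ℤ)) ((N : ℤ) + 1) with hS
  set g₀ : F⸨X⸩ := ∑ j ∈ S, single j (g.coeff j) with hg₀
  have hcoeff : ∀ n : ℤ, g₀.coeff n = if n ∈ S then g.coeff n else 0 := by
    intro n
    rw [hg₀, HahnSeries.coeff_sum]
    simp only [HahnSeries.coeff_single]
    by_cases hn : n ∈ S
    · rw [if_pos hn, Finset.sum_eq_single_of_mem n hn]
      · rw [if_pos rfl]
      · intro b _ hb
        rw [if_neg (Ne.symm hb)]
    · rw [if_neg hn]
      refine Finset.sum_eq_zero (fun b hb => ?_)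
      rw [if_neg]
      rintro rfl
      exact hn hb
  have htail : g - g₀ ∈ OLm k ((N : ℤ) + 1) := by
    intro n hn
    rw [HahnSeries.coeff_sub, hcoeff]
    by_cases hnS : n ∈ S
    · rw [if_pos hnS, sub_self]
    · rw [if_neg hnS, sub_zero]
      apply hM
      rw [hS, Finset.mem_Ico] at hnS
      omega
  have e : g = g₀ + (g - g₀) := by abel
  rw [e, resL_add_right, rhsL_add_right, resL_tail hN htail, rhsL_tail hN htail, hg₀,
    resL_sum_right, rhsL_sum_right]
  congr 1
  refine Finset.sum_congr rfl (fun j _ => ?_)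
  rw [resL_single, rhsL_single]

end Groth.Agent.Lib.Helper23.Tate
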