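import Groth.Agent.Lib.Helper23.Tate10
import Groth.Agent.Lib.Helper27.FunFldCore

/-! Tate residues on the repartition space of a function field. -/

namespace Groth.Agent.Lib.Helper23.Tate

open Module LinearMap FunFld
open Groth.Agent.Lib.Helper27.FF

universe u v

variable {k : Type u} {K : Type v} [Field k] [Field K] [Algebra k K]

/-- the valuation ring of a place as a `k`-subspace -/
def OP (P : Place k K) : Submodule k K where
  carrier := {x | P.1 x ≤ 1}
  add_mem' {x y} hx hy := (P.1.map_add x y).trans (max_le hx hy)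
  zero_mem' := by simp
  smul_mem' c x hx := by
    show P.1 (c • x) ≤ 1
    rw [Algebra.smul_def, map_mul]; exact (mul_le_mul' (P.2.1 c) hx).trans_eq (one_mul _)

theorem mem_OP {P : Place k K} {x : K} : x ∈ OP P ↔ P.1 x ≤ 1 := Iff.rfl

/-- multiplication on `K` -/
noncomputable def lmulK (u : K) : End k K := LinearMap.mulLeft k u

@[simp] theorem lmulK_apply (u x : K) : lmulK (k := k) u x = u * x := rfl

theorem lmulK_commute (u v : K) : Commute (lmulK (k := k) u) (lmulK v) := by
  apply LinearMap.ext
  intro x
  simp only [Module.End.mul_apply, lmulK_apply]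
  ring

theorem lmulK_stable {P : Place k K} {u : K} (hu : P.1 u ≤ 1) :
    ∀ a ∈ OP P, lmulK (k := k) u a ∈ OP P := by
  intro a ha
  show P.1 (u * a) ≤ 1
  rw [map_mul]
  exact (mul_le_mul' hu ha).trans_eq (one_mul _)

/-- the abstract local residue at a place -/
noncomputable def resP (P : Place k K) (u v : K) : k :=
  res (OP P) (lmulK (k := k) u) (lmulK (k := k) v)

theorem resP_eq_zero {P : Place k K} {u v : K} (hu : P.1 u ≤ 1) (hv : P.1 v ≤ 1) :
    resP P u v = 0 :=
  res_eq_zero_of_stable (lmulK_stable hu) (lmulK_stable hv) (lmulK_commute u v)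

variable (C : Core k K)

/-- multiplication on the repartition space -/
noncomputable def mulA (u : K) : End k (adele k K) where
  toFun a := ⟨u • a.1, C.smul_mem_adele u a.2⟩
  map_add' a b := by
    apply Subtype.ext
    show u • ((a : Place k K → K) + b) = u • (a : Place k K → K) + u • (b : Place k K → K)
    rw [smul_add]
  map_smul' c a := by
    apply Subtype.ext
    show u • (c • (a : Place k K → K)) = c • (u • (a : Place k K → K))
    rw [smul_comm]

theorem mulA_apply (u : K) (a : adele k K) (P : Place k K) :
    (mulA C u a : Place k K → K) P = u * (a : Place k K → K) P := rfl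

theorem mulA_commute (u v : K) : Commute (mulA C u) (mulA C v) := by
  apply LinearMap.ext
  intro a
  apply Subtype.ext
  funext P
  simp only [Module.End.mul_apply, mulA_apply]
  ring

/-- integral repartitions -/
def A0 : Submodule k (adele k K) := Submodule.comap (adele k K).subtype (AD 0)

theorem mem_A0 {a : adele k K} : a ∈ A0 (k := k) (K := K) ↔ ∀ P : Place k K, P.1 ((a : Place k K → K) P) ≤ 1 := by
  show (a : Place k K → K) ∈ AD 0 ↔ _
  rw [mem_AD_iff]
  simp

/-- the diagonal embedding into the repartition space -/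
noncomputable def diagA : K →ₗ[k] adele k K :=
  (diag k K).codRestrict (adele k K) (fun y => C.diag_mem_adele y)

theorem diagA_apply (y : K) (P : Place k K) : (diagA C y : Place k K → K) P = y := rfl

open Classical in
/-- the repartition supported at one place -/
noncomputable def singleA (Q : Place k K) : K →ₗ[k] adele k K :=
  (LinearMap.single k (fun _ : Place k K => K) Q).codRestrict (adele k K) (fun y => by
    rw [mem_adele_iff]
    refine (Set.finite_singleton Q).subset ?_
    intro P hP
    rw [Set.mem_ofPred_eq] at hP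
    by_contra hne
    apply hP
    have : (LinearMap.single k (fun _ : Place k K => K) Q y) P = 0 := by
      simp only [LinearMap.coe_single]
      rw [Pi.single_apply, if_neg (fun e => hne (Set.mem_singleton_iff.mpr e))]
    rw [this, map_zero]
    exact zero_le_one)

open Classical in
theorem singleA_apply (Q : Place k K) (y : K) (P : Place k K) :
    (singleA Q y : Place k K → K) P = if P = Q then y else 0 := by
  show (LinearMap.single k (fun _ : Place k K => K) Q y) P = _
  simp only [LinearMap.coe_single]
  rw [Pi.single_apply]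

/-- evaluation at a place -/
noncomputable def evA (Q : Place k K) : adele k K →ₗ[k] K :=
  (LinearMap.proj Q) ∘ₗ (adele k K).subtype

theorem evA_apply (Q : Place k K) (a : adele k K) : evA Q a = (a : Place k K → K) Q := rfl

theorem evA_singleA (Q : Place k K) (y : K) : evA Q (singleA Q y) = y := by
  rw [evA_apply, singleA_apply, if_pos rfl]

/-- `u A(0) ≺ A(0)`. -/
theorem NS_mulA (u : K) : NS (A0 (k := k) (K := K)) (mulA C u) := by
  obtain ⟨E, hE0, hE⟩ := Core.exists_AD_of_adele (C.diag_mem_adele u) 0
  obtain ⟨_, hfd, _⟩ := C.finrank_AD 0 E hE0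
  obtain ⟨Q, hQ⟩ := Submodule.exists_isCompl (Submodule.comap (AD E).subtype (AD (0 : Divisor k K)))
  have e : (↥(AD E) ⧸ Submodule.comap (AD E).subtype (AD (0 : Divisor k K))) ≃ₗ[k] Q :=
    Submodule.quotientEquivOfIsCompl _ _ hQ
  haveI : FiniteDimensional k Q := LinearEquiv.finiteDimensional e
  set F₀ : Submodule k (Place k K → K) := Q.map (AD E).subtype with hF₀
  have hF₀le : F₀ ≤ adele k K := by
    rintro _ ⟨q, _, rfl⟩
    exact AD_le_adele E q.2
  have hsup : AD E ≤ AD 0 ⊔ F₀ := by
    intro m hm
    have : (⟨m, hm⟩ : AD E) ∈ Submodule.comap (AD E).subtype (AD (0 : Divisor k K)) ⊔ Q := by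
      rw [hQ.sup_eq_top]; trivial
    rw [Submodule.mem_sup] at this
    obtain ⟨a, ha, b, hb, e'⟩ := this
    have : m = (a : Place k K → K) + (b : Place k K → K) := by
      have := congrArg Subtype.val e'
      simpa using this.symm
    rw [this]
    exact Submodule.add_mem_sup ha (Submodule.mem_map_of_mem hb)
  refine ⟨Submodule.comap (adele k K).subtype F₀, ?_, ?_⟩
  · let f : Submodule.comap (adele k K).subtype F₀ →ₗ[k] F₀ :=
      (adele k K).subtype.restrict (fun x hx => hx)
    have hf : Function.Injective f := by
      intro x y hxy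
      have := congrArg Subtype.val hxy
      exact Subtype.ext (Subtype.ext this)
    exact FiniteDimensional.of_injective f hf
  · rintro _ ⟨a, ha, rfl⟩
    have h1 : (mulA C u a : Place k K → K) ∈ AD E := by
      have := smul_mem_AD (E := 0) (F := E) (x := u) (fun P => hE P) ha
      rwa [zero_add] at this
    have h2 := hsup h1
    rw [Submodule.mem_sup] at h2
    obtain ⟨b, hb, f, hf, e'⟩ := h2
    have hbA : b ∈ adele k K := AD_le_adele 0 hb
    have hfA : f ∈ adele k K := hF₀le hf
    have : mulA C u a = (⟨b, hbA⟩ : adele k K) + ⟨f, hfA⟩ := Subtype.ext e'.symm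
    rw [this]
    exact Submodule.add_mem_sup (show (⟨b, hbA⟩ : adele k K) ∈ A0 from hb)
      (show (⟨f, hfA⟩ : adele k K) ∈ Submodule.comap (adele k K).subtype F₀ from hf)

include C in
/-- `u O_Q ≺ O_Q`. -/
theorem NS_lmulK (Q : Place k K) (u : K) : NS (OP Q) (lmulK (k := k) u) := by
  obtain ⟨F, hF, hle⟩ := NS_mulA C u
  refine ⟨F.map (evA Q), inferInstance, ?_⟩
  rintro _ ⟨x, hx, rfl⟩
  have h1 : singleA Q x ∈ A0 (k := k) (K := K) := by
    rw [mem_A0]
    intro P
    rw [singleA_apply]
    split_ifs
    · subst_vars; exact hx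
    · rw [map_zero]; exact zero_le_one
  have h2 := hle (Submodule.mem_map_of_mem h1)
  rw [Submodule.mem_sup] at h2
  obtain ⟨a, ha, f, hf, e⟩ := h2
  have h3 : lmulK (k := k) u x = evA Q a + evA Q f := by
    rw [← map_add, e, evA_apply, mulA_apply, singleA_apply, if_pos rfl]
    rfl
  rw [h3]
  refine Submodule.add_mem_sup ?_ (Submodule.mem_map_of_mem hf)
  exact (mem_A0.mp ha) Q

end Groth.Agent.Lib.Helper23.Tate
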