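import Groth.Agent.Lib.Helper23.Tate11

/-! Tate residues: local-global decomposition on the repartition space and the residue theorem
(abstract form). -/

namespace Groth.Agent.Lib.Helper23.Tate

open Module LinearMap FunFld
open Groth.Agent.Lib.Helper27.FF

universe u v

variable {k : Type u} {K : Type v} [Field k] [Field K] [Algebra k K]

/-- a chosen projection onto the valuation ring of each place -/
noncomputable def πP (P : Place k K) : End k K := (exists_isProj (OP P)).choose

theorem isProj_πP (P : Place k K) : IsProj (OP P) (πP P) := (exists_isProj (OP P)).choose_spec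

/-- the componentwise projection onto integral repartitions -/
noncomputable def PiA : End k (adele k K) where
  toFun a := ⟨fun P => πP P ((a : Place k K → K) P), AD_le_adele 0 (fun P => by
    have := (isProj_πP P).map_mem ((a : Place k K → K) P)
    rw [mem_OP] at this
    simpa using this)⟩
  map_add' a b := by
    apply Subtype.ext
    funext P
    show πP P (((a : Place k K → K) + (b : Place k K → K)) P) = _
    rw [Pi.add_apply, map_add]; rfl
  map_smul' c a := by
    apply Subtype.ext
    funext P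
    show πP P ((c • (a : Place k K → K)) P) = _
    rw [Pi.smul_apply, map_smul]; rfl

theorem PiA_apply (a : adele k K) (P : Place k K) :
    (PiA a : Place k K → K) P = πP P ((a : Place k K → K) P) := rfl

theorem isProj_PiA : IsProj (A0 (k := k) (K := K)) PiA := by
  constructor
  · intro a
    rw [mem_A0]
    intro P
    exact (isProj_πP P).map_mem _
  · intro a ha
    apply Subtype.ext
    funext P
    rw [PiA_apply]
    exact (isProj_πP P).map_id _ (mem_A0.mp ha P)

theorem ext_evA {a b : adele k K} (h : ∀ P, evA P a = evA P b) : a = b :=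
  Subtype.ext (funext h)

variable (C : Core k K)

/-- local theta operator -/
noncomputable def θP (u v : K) (P : Place k K) : End k K :=
  theta (πP P) (lmulK (k := k) u) (lmulK (k := k) v)

/-- global theta operator -/
noncomputable def ΘA (u v : K) : End k (adele k K) := theta PiA (mulA C u) (mulA C v)

theorem ev_ΘA (u v : K) (P : Place k K) (a : adele k K) :
    evA P (ΘA C u v a) = θP u v P (evA P a) := rfl

/-- the local theta operator transported to the repartition space -/
noncomputable def ΘQ (u v : K) (Q : Place k K) : End k (adele k K) :=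
  singleA Q ∘ₗ (θP u v Q ∘ₗ evA Q)

open Classical in
theorem ev_ΘQ (u v : K) (P Q : Place k K) (a : adele k K) :
    evA P (ΘQ u v Q a) = if P = Q then θP u v Q (evA Q a) else 0 := by
  show (singleA Q (θP u v Q (evA Q a)) : Place k K → K) P = _
  rw [singleA_apply]

open Classical in
theorem ev_sum_ΘQ (u v : K) (S : Finset (Place k K)) (P : Place k K) (a : adele k K) :
    evA P ((∑ Q ∈ S, ΘQ u v Q) a) = if P ∈ S then θP u v P (evA P a) else 0 := by
  rw [LinearMap.sum_apply, map_sum]
  simp only [ev_ΘQ]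
  by_cases hP : P ∈ S
  · rw [if_pos hP, Finset.sum_eq_single_of_mem P hP]
    · rw [if_pos rfl]
    · intro b _ hb
      rw [if_neg (Ne.symm hb)]
  · rw [if_neg hP]
    refine Finset.sum_eq_zero (fun b hb => ?_)
    rw [if_neg]
    rintro rfl
    exact hP hb

include C in
theorem isFP_θP (u v : K) (Q : Place k K) : IsFP (θP (k := k) u v Q) :=
  (theta_E0 (isProj_πP Q) (NS_lmulK C Q u) (NS_lmulK C Q v) (lmulK_commute u v)).isFP

include C in
theorem ftr_ΘQ (u v : K) (Q : Place k K) :
    IsFP (ΘQ (k := k) u v Q) ∧ ftr (ΘQ (k := k) u v Q) = ftr (θP (k := k) u v Q) := by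
  have e : (θP (k := k) u v Q ∘ₗ evA Q) ∘ₗ singleA Q = θP (k := k) u v Q := by
    ext y
    simp only [LinearMap.comp_apply, evA_singleA]
  have h := ftr_comp_comm (θP (k := k) u v Q ∘ₗ evA Q) (singleA Q)
    (by rw [e]; exact isFP_θP C u v Q)
  rw [e] at h
  exact h

include C in
/-- local-global decomposition. -/
theorem res_A0_eq_sum (u v : K) (S : Finset (Place k K))
    (hS : ∀ P ∉ S, P.1 u ≤ 1 ∧ P.1 v ≤ 1) :
    res (A0 (k := k) (K := K)) (mulA C u) (mulA C v) = ∑ Q ∈ S, resP Q u v := by
  classical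
  rw [res_eq isProj_PiA (NS_mulA C u) (NS_mulA C v) (mulA_commute C u v)]
  have hres : ∀ Q, resP Q u v = ftr (θP (k := k) u v Q) := fun Q =>
    res_eq (isProj_πP Q) (NS_lmulK C Q u) (NS_lmulK C Q v) (lmulK_commute u v)
  set Sg : End k (adele k K) := ∑ Q ∈ S, ΘQ u v Q with hSg
  set ΘS : End k (adele k K) := ΘA C u v - Sg with hΘS
  have ev_ΘS : ∀ P a, evA P (ΘS a) = if P ∈ S then 0 else θP u v P (evA P a) := by
    intro P a
    rw [hΘS, LinearMap.sub_apply, map_sub, ev_ΘA, hSg, ev_sum_ΘQ]
    split_ifs <;> simp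
  have hsq : ∀ P ∉ S, ∀ x, θP (k := k) u v P (θP (k := k) u v P x) = 0 := by
    intro P hP x
    have := theta_sq_eq_zero (isProj_πP P) (lmulK_stable (k := k) (hS P hP).1)
      (lmulK_stable (k := k) (hS P hP).2) (lmulK_commute u v)
    have h2 := congrArg (fun (T : End k K) => T x) this
    simp only [Module.End.mul_apply, LinearMap.zero_apply] at h2
    exact h2
  have hΘS_sq : ΘS * ΘS = 0 := by
    apply LinearMap.ext
    intro a
    apply ext_evA
    intro P
    rw [Module.End.mul_apply, ev_ΘS, LinearMap.zero_apply, map_zero]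
    split_ifs with hP
    · rfl
    · rw [ev_ΘS, if_neg hP]
      exact hsq P hP _
  have h1 : Sg * ΘS = 0 := by
    apply LinearMap.ext
    intro a
    apply ext_evA
    intro P
    rw [Module.End.mul_apply, hSg, ev_sum_ΘQ, LinearMap.zero_apply, map_zero]
    split_ifs with hP
    · rw [ev_ΘS, if_pos hP, map_zero]
    · rfl
  have h2 : ΘS * Sg = 0 := by
    apply LinearMap.ext
    intro a
    apply ext_evA
    intro P
    rw [Module.End.mul_apply, ev_ΘS, LinearMap.zero_apply, map_zero]
    split_ifs with hP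
    · rfl
    · rw [hSg, ev_sum_ΘQ, if_neg hP, map_zero]
  have horth : ∀ Q ∈ S, ∀ Q' ∈ S, Q ≠ Q' → ΘQ (k := k) u v Q * ΘQ (k := k) u v Q' = 0 := by
    intro Q _ Q' _ hne
    apply LinearMap.ext
    intro a
    apply ext_evA
    intro P
    rw [Module.End.mul_apply, ev_ΘQ, LinearMap.zero_apply, map_zero]
    split_ifs with hP
    · rw [ev_ΘQ, if_neg hne, map_zero]
    · rfl
  have hsum := ftr_sum_of_orth S (fun Q => ΘQ (k := k) u v Q) horth (fun Q _ => (ftr_ΘQ C u v Q).1)
  have hadd := ftr_add_of_orth h1 h2 hsum.1 (isFP_of_sq_zero hΘS_sq)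
  have e : theta PiA (mulA C u) (mulA C v) = Sg + ΘS := by
    rw [hΘS]; show ΘA C u v = _; abel
  rw [e, hadd.2, hsum.2, ftr_of_sq_zero hΘS_sq, add_zero]
  refine Finset.sum_congr rfl (fun Q _ => ?_)
  rw [(ftr_ΘQ C u v Q).2, hres]

include C in
/-- the residue theorem in abstract form -/
theorem res_A0_eq_zero (u v : K) :
    res (A0 (k := k) (K := K)) (mulA C u) (mulA C v) = 0 := by
  set B : Submodule k (adele k K) := LinearMap.range (diagA C) with hB
  have hstable : ∀ w : K, ∀ b ∈ B, mulA C w b ∈ B := by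
    rintro w _ ⟨y, rfl⟩
    refine ⟨w * y, ?_⟩
    apply ext_evA
    intro P
    rfl
  have hI : FiniteDimensional k ↥(A0 (k := k) (K := K) ⊓ B) := by
    haveI := C.finDimL (0 : Divisor k K)
    have : A0 (k := k) (K := K) ⊓ B ≤ (L (0 : Divisor k K)).map (diagA C) := by
      rintro _ ⟨ha, ⟨y, rfl⟩⟩
      refine ⟨y, ?_, rfl⟩
      intro P
      have := mem_A0.mp ha P
      rw [diagA_apply] at this
      simpa using this
    exact Submodule.finiteDimensional_of_le this
  obtain ⟨hfd, _⟩ := C.finrank_adele_quotient (0 : Divisor k K)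
  obtain ⟨C', hC'fin, hC'⟩ := exists_fin_sup_eq_top hfd
  have hle : ADK (0 : Divisor k K) ≤ A0 (k := k) (K := K) ⊔ B := by
    intro a ha
    have ha' : (a : Place k K → K) ∈ AD 0 ⊔ LinearMap.range (diag k K) := ha
    rw [Submodule.mem_sup] at ha'
    obtain ⟨x, hx, _, ⟨y, rfl⟩, e⟩ := ha'
    have hxA : x ∈ adele k K := AD_le_adele 0 hx
    have : a = (⟨x, hxA⟩ : adele k K) + diagA C y := Subtype.ext e.symm
    rw [this]
    exact Submodule.add_mem_sup (show (⟨x, hxA⟩ : adele k K) ∈ A0 from hx) ⟨y, rfl⟩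
  have htop : A0 (k := k) (K := K) ⊔ B ⊔ C' = ⊤ := by
    rw [eq_top_iff, ← hC']
    exact sup_le_sup_right hle C'
  exact res_eq_zero_of_global (NS_mulA C u) (NS_mulA C v) (mulA_commute C u v)
    (hstable u) (hstable v) hI C' hC'fin htop

include C in
/-- **Residue theorem** (abstract local residues). -/
theorem sum_resP_eq_zero (u v : K) (S : Finset (Place k K))
    (hS : ∀ P ∉ S, P.1 u ≤ 1 ∧ P.1 v ≤ 1) : ∑ Q ∈ S, resP Q u v = 0 := by
  rw [← res_A0_eq_sum C u v S hS, res_A0_eq_zero]

end Groth.Agent.Lib.Helper23.Tate
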