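import Groth.Agent.Lib.Helper23.Tate12
import Groth.Prelude.Def_LocRes

/-! Tate residues: comparison with residues read through a Laurent expansion; the residue theorem. -/

namespace Groth.Agent.Lib.Helper23.Tate

open Module LinearMap FunFld LaurentSeries HahnSeries WithZero
open Groth.Agent.Lib.Helper27.FF
open Groth.Agent.Lib.Helper27.LR

universe u v w

variable {k : Type u} {K : Type v} [Field k] [Field K] [Algebra k K]
  {F : Type w} [Field F] [Algebra k F]

/-- an expansion as a `k`-linear map (coefficientwise action on Laurent series). -/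
noncomputable def φlin (φ : K →ₐ[k] F⸨X⸩) : K →ₗ[k] F⸨X⸩ where
  toFun := φ
  map_add' := map_add φ
  map_smul' c x := by
    show φ (c • x) = c • φ x
    rw [Algebra.smul_def, map_mul, LocRes.map_algebraMap, HahnSeries.C_mul_eq_smul,
      algebraMap_smul]

@[simp] theorem φlin_apply (φ : K →ₐ[k] F⸨X⸩) (x : K) : φlin φ x = φ x := rfl

theorem coeff_mul_of_mem_OLm {p q : ℤ} {a b : F⸨X⸩} (ha : a ∈ OLm k p) (hb : b ∈ OLm k q) :
    (a * b).coeff (p + q) = a.coeff p * b.coeff q := by
  set r₁ := a - single p (a.coeff p) with hr₁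
  set r₂ := b - single q (b.coeff q) with hr₂
  have h1 : r₁ ∈ OLm k (p + 1) := by
    intro n hn
    rw [hr₁, HahnSeries.coeff_sub, HahnSeries.coeff_single]
    by_cases h : n = p
    · rw [if_pos h, h, sub_self]
    · rw [if_neg h, sub_zero]
      exact ha n (by omega)
  have h2 : r₂ ∈ OLm k (q + 1) := by
    intro n hn
    rw [hr₂, HahnSeries.coeff_sub, HahnSeries.coeff_single]
    by_cases h : n = q
    · rw [if_pos h, h, sub_self]
    · rw [if_neg h, sub_zero]
      exact hb n (by omega)
  have ea : a = single p (a.coeff p) + r₁ := by rw [hr₁]; abel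
  have eb : b = single q (b.coeff q) + r₂ := by rw [hr₂]; abel
  have e : a * b = single (p + q) (a.coeff p * b.coeff q) +
      (single p (a.coeff p) * r₂ + r₁ * b) := by
    conv_lhs => rw [ea]
    rw [add_mul]
    conv_lhs => rw [eb]
    rw [mul_add, HahnSeries.single_mul_single]
    rw [← eb]
    abel
  have hrest : single p (a.coeff p) * r₂ + r₁ * b ∈ OLm k (p + q + 1) := by
    refine Submodule.add_mem _ ?_ ?_
    · have := mul_mem_OLm (single_mem_OLm (k := k) p (a.coeff p)) h2
      rwa [← add_assoc] at this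
    · have := mul_mem_OLm h1 hb
      rwa [add_right_comm] at this
  rw [e, HahnSeries.coeff_add, HahnSeries.coeff_single, if_pos rfl, hrest (p + q) (by omega),
    add_zero]

variable [FiniteDimensional k F]

theorem comap_φlin (P : Place k K) (φ : K →ₐ[k] F⸨X⸩) (hφ : LocRes.IsExpansionAt P.1 φ) :
    OP P = (OLm k 0).comap (φlin φ) := by
  ext x
  rw [Submodule.mem_comap, mem_OP, φlin_apply, mem_OLm_iff_val, neg_zero, exp_zero, hφ.1]

theorem sup_range_φlin (P : Place k K) (φ : K →ₐ[k] F⸨X⸩) (hφ : LocRes.IsExpansionAt P.1 φ) :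
    OLm k 0 ⊔ LinearMap.range (φlin φ) = ⊤ := by
  obtain ⟨hval, hsurj, t, ht⟩ := hφ
  have key : ∀ m : ℕ, ∀ h ∈ OLm k (F := F) (-(m : ℤ)), h ∈ OLm k 0 ⊔ LinearMap.range (φlin φ) := by
    intro m
    induction m with
    | zero =>
      intro h hh
      exact Submodule.mem_sup_left (by simpa using hh)
    | succ m ih =>
      intro h hh
      have ht0 : t ≠ 0 := by
        rintro rfl
        rw [map_zero] at ht
        exact (WithZero.exp_ne_zero).symm ht
      set s : K := (t ^ (m + 1))⁻¹ with hs
      have hsval : Valued.v (φ s) = exp (-(-((m : ℤ) + 1))) := by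
        rw [hval, hs, map_inv₀, map_pow, ht, ← WithZero.exp_nsmul, ← WithZero.exp_neg]
        congr 1
        simp
      obtain ⟨hs1, hs2⟩ := val_eq_exp_iff.mp hsval
      set b := (φ s).coeff (-((m : ℤ) + 1)) with hb
      obtain ⟨x₀, hx₀, hx₀c⟩ := hsurj (h.coeff (-((m : ℤ) + 1)) / b)
      have hx₀mem : φ x₀ ∈ OLm k 0 := by
        rw [mem_OLm_iff_val, neg_zero, exp_zero, hval]; exact hx₀
      have hy : (φ (x₀ * s)).coeff (-((m : ℤ) + 1)) = h.coeff (-((m : ℤ) + 1)) := by
        rw [map_mul]
        have := coeff_mul_of_mem_OLm (k := k) hx₀mem (show φ s ∈ OLm k (-((m : ℤ) + 1)) from hs1)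
        rw [zero_add] at this
        rw [this, hx₀c, div_mul_cancel₀ _ hs2]
      have hymem : φ (x₀ * s) ∈ OLm k (-((m : ℤ) + 1)) := by
        rw [map_mul]
        have := mul_mem_OLm (k := k) hx₀mem (show φ s ∈ OLm k (-((m : ℤ) + 1)) from hs1)
        rwa [zero_add] at this
      have hdiff : h - φ (x₀ * s) ∈ OLm k (-(m : ℤ)) := by
        intro n hn
        rw [HahnSeries.coeff_sub]
        by_cases hn' : n = -((m : ℤ) + 1)
        · rw [hn', hy, sub_self]
        · have hh' : h ∈ OLm k (-((m : ℤ) + 1)) := by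
            have : (-((m + 1 : ℕ) : ℤ)) = -((m : ℤ) + 1) := by push_cast; ring
            rwa [this] at hh
          rw [hh' n (by omega), hymem n (by omega), sub_zero]
      have e : h = (h - φ (x₀ * s)) + φlin φ (x₀ * s) := by rw [φlin_apply]; abel
      rw [e]
      exact Submodule.add_mem _ (ih _ hdiff) (Submodule.mem_sup_right ⟨_, rfl⟩)
  rw [eq_top_iff]
  intro h _
  obtain ⟨m, hm⟩ := exists_mem_OLm (k := k) h
  exact key m h hm

/-- the abstract residue agrees with the residue read through any expansion. -/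
theorem resP_eq_locRes (C : Core k K) (P : Place k K) (φ : K →ₐ[k] F⸨X⸩)
    (hφ : LocRes.IsExpansionAt P.1 φ) (u v : K) : resP P u v = LocRes.locRes φ u v := by
  have hinj : Function.Injective (φlin φ) := φ.toRingHom.injective
  have h1 := res_eq_of_embedding (φlin φ) hinj (comap_φlin P φ hφ) (sup_range_φlin P φ hφ)
    (f := lmulK (k := k) u) (g := lmulK (k := k) v) (f' := mulL (φ u)) (g' := mulL (φ v))
    (fun x => by simp) (fun x => by simp) (NS_lmulK C P u) (NS_lmulK C P v)
    (NS_mulL _) (NS_mulL _) (mulL_commute _ _)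
  unfold resP
  rw [h1]
  exact resL_eq (k := k) (φ u) (φ v)

end Groth.Agent.Lib.Helper23.Tate
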