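import Groth.Agent.Lib.Helper23.Tate1

/-! Finite-potent traces (Tate).  Part 2: linearity, commutation, transport. -/

namespace Groth.Agent.Lib.Helper23.Tate

open Module LinearMap

variable {k : Type*} [Field k] {V : Type*} [AddCommGroup V] [Module k V]
  {V' : Type*} [AddCommGroup V'] [Module k V']

theorem trOn_add {x y : End k V} {W : Submodule k V} (hx : ∀ w ∈ W, x w ∈ W)
    (hy : ∀ w ∈ W, y w ∈ W) (hxy : ∀ w ∈ W, (x + y) w ∈ W) :
    trOn (x + y) W hxy = trOn x W hx + trOn y W hy := by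
  unfold trOn
  rw [← map_add]
  congr 1

theorem ftr_add_of_datum {x y : End k V} {W : Submodule k V} {n : ℕ}
    (hx : IsDatum x W n) (hy : IsDatum y W n) (hxy : ∀ v, ((x + y) ^ n) v ∈ W) :
    ftr (x + y) = ftr x + ftr y := by
  have hd : IsDatum (x + y) W n := ⟨hx.fin, fun w hw => by
    rw [LinearMap.add_apply]; exact W.add_mem (hx.inv w hw) (hy.inv w hw), hxy⟩
  rw [hd.ftr_eq, hx.ftr_eq, hy.ftr_eq]
  exact trOn_add hx.inv hy.inv hd.inv

theorem IsDatum.smul {x : End k V} {W : Submodule k V} {n : ℕ} (h : IsDatum x W n) (c : k) :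
    IsDatum (c • x) W n := by
  refine ⟨h.fin, fun w hw => ?_, fun v => ?_⟩
  · rw [LinearMap.smul_apply]; exact W.smul_mem c (h.inv w hw)
  · rw [smul_pow, LinearMap.smul_apply]; exact W.smul_mem _ (h.pow v)

theorem ftr_zero : ftr (0 : End k V) = 0 :=
  ftr_eq_zero_of_pow_eq_zero (n := 1) (by simp)

theorem ftr_smul (c : k) (x : End k V) : ftr (c • x) = c * ftr x := by
  by_cases hc : c = 0
  · subst hc; rw [zero_smul, zero_mul, ftr_zero]
  by_cases hfp : IsFP x
  · obtain ⟨W, n, h⟩ := hfp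
    rw [(h.smul c).ftr_eq, h.ftr_eq]
    unfold trOn
    rw [← smul_eq_mul, ← map_smul]
    congr 1
  · have hfp' : ¬ IsFP (c • x) := by
      rintro ⟨W, n, h⟩
      apply hfp
      have := h.smul c⁻¹
      rw [smul_smul, inv_mul_cancel₀ hc, one_smul] at this
      exact ⟨W, n, this⟩
    rw [ftr_of_not_isFP hfp, ftr_of_not_isFP hfp', mul_zero]

theorem ftr_neg (x : End k V) : ftr (-x) = - ftr x := by
  have := ftr_smul (-1 : k) x
  rwa [neg_one_smul, neg_one_mul] at this

theorem IsFP.neg {x : End k V} (h : IsFP x) : IsFP (-x) := by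
  obtain ⟨W, n, h⟩ := h
  have := h.smul (-1)
  rw [neg_one_smul] at this
  exact ⟨W, n, this⟩

theorem comp_pow_succ_apply (φ : V' →ₗ[k] V) (ψ : V →ₗ[k] V') (n : ℕ) (v' : V') :
    ((ψ ∘ₗ φ : End k V') ^ (n + 1)) v' = ψ (((φ ∘ₗ ψ : End k V) ^ n) (φ v')) := by
  induction n generalizing v' with
  | zero => simp
  | succ n ih =>
    rw [pow_succ, Module.End.mul_apply, ih, pow_succ, Module.End.mul_apply]
    rfl

/-- Tate's (T5). -/
theorem ftr_comp_comm (φ : V' →ₗ[k] V) (ψ : V →ₗ[k] V') (h : IsFP (φ ∘ₗ ψ : End k V)) :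
    IsFP (ψ ∘ₗ φ : End k V') ∧ ftr (ψ ∘ₗ φ : End k V') = ftr (φ ∘ₗ ψ : End k V) := by
  obtain ⟨W, n, h⟩ := h
  haveI := h.fin
  have hd : IsDatum (ψ ∘ₗ φ : End k V') (W.map ψ) (n + 1) := by
    refine ⟨inferInstance, ?_, fun v' => ?_⟩
    · rintro _ ⟨w, hw, rfl⟩
      exact ⟨(φ ∘ₗ ψ) w, h.inv w hw, rfl⟩
    · rw [comp_pow_succ_apply]
      exact Submodule.mem_map_of_mem (h.pow _)
  refine ⟨⟨_, _, hd⟩, ?_⟩
  rw [hd.ftr_eq, h.ftr_eq]
  unfold trOn
  have hφ : ∀ w' ∈ W.map ψ, φ w' ∈ W := by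
    rintro _ ⟨w, hw, rfl⟩
    exact h.inv w hw
  have hψ : ∀ w ∈ W, ψ w ∈ W.map ψ := fun w hw => Submodule.mem_map_of_mem hw
  let a : W →ₗ[k] (W.map ψ) := ψ.restrict hψ
  let b : (W.map ψ) →ₗ[k] W := φ.restrict hφ
  have e1 : (ψ ∘ₗ φ : End k V').restrict hd.inv = a ∘ₗ b := by
    ext x; rfl
  have e2 : (φ ∘ₗ ψ : End k V).restrict h.inv = b ∘ₗ a := by
    ext x; rfl
  rw [e1, e2, LinearMap.trace_comp_comm']

/-- transport along an intertwining injection whose image absorbs a power of `θ'`. -/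
theorem ftr_eq_of_intertwine (j : V →ₗ[k] V') (hj : Function.Injective j) (θ : End k V)
    (θ' : End k V') (hcomm : ∀ v, θ' (j v) = j (θ v)) (m : ℕ)
    (hrange : ∀ v', ∃ v, (θ' ^ m) v' = j v) : ftr θ' = ftr θ := by
  have hpow : ∀ (n : ℕ) v, (θ' ^ n) (j v) = j ((θ ^ n) v) := by
    intro n
    induction n with
    | zero => intro v; simp
    | succ n ih => intro v; rw [pow_succ, Module.End.mul_apply, hcomm, ih, pow_succ,
        Module.End.mul_apply]
  by_cases hfp : IsFP θ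
  · obtain ⟨W, n, h⟩ := hfp
    haveI := h.fin
    have hd : IsDatum θ' (W.map j) (n + m) := by
      refine ⟨inferInstance, ?_, fun v' => ?_⟩
      · rintro _ ⟨w, hw, rfl⟩
        rw [hcomm]
        exact Submodule.mem_map_of_mem (h.inv w hw)
      · rw [pow_add, Module.End.mul_apply]
        obtain ⟨v, hv⟩ := hrange v'
        rw [hv, hpow]
        exact Submodule.mem_map_of_mem (h.pow v)
    rw [hd.ftr_eq, h.ftr_eq]
    unfold trOn
    let e : W ≃ₗ[k] W.map j := Submodule.equivMapOfInjective j hj W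
    rw [← LinearMap.trace_conj' (θ.restrict h.inv) e]
    congr 1
    ext x
    obtain ⟨_, ⟨w, hw, rfl⟩⟩ := x
    have hsymm : e.symm ⟨j w, ⟨w, hw, rfl⟩⟩ = ⟨w, hw⟩ := by
      apply e.injective
      rw [LinearEquiv.apply_symm_apply]
      rfl
    rw [LinearEquiv.conj_apply]
    simp only [LinearMap.coe_comp, LinearEquiv.coe_coe, Function.comp_apply]
    rw [hsymm]
    show θ' (j w) = j (θ w)
    exact hcomm w
  · have hfp' : ¬ IsFP θ' := by
      rintro ⟨W', n', h'⟩
      apply hfp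
      haveI := h'.fin
      refine ⟨W'.comap j, n', ?_, ?_, ?_⟩
      · let f : W'.comap j →ₗ[k] W' := j.restrict (fun x hx => hx)
        have hf : Function.Injective f := by
          intro x y hxy
          have := congrArg Subtype.val hxy
          exact Subtype.ext (hj this)
        exact FiniteDimensional.of_injective f hf
      · intro w hw
        rw [Submodule.mem_comap] at hw ⊢
        rw [← hcomm]
        exact h'.inv _ hw
      · intro v
        rw [Submodule.mem_comap, ← hpow]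
        exact h'.pow _
    rw [ftr_of_not_isFP hfp, ftr_of_not_isFP hfp']

end Groth.Agent.Lib.Helper23.Tate
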