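import Groth.Agent.Lib.Helper23.Tate2

/-! Finite-potent traces (Tate).  Part 3: orthogonal sums; the class `E0 A`. -/

namespace Groth.Agent.Lib.Helper23.Tate

open Module LinearMap

variable {k : Type*} [Field k] {V : Type*} [AddCommGroup V] [Module k V]

theorem add_pow_of_orth {x y : End k V} (hxy : x * y = 0) (hyx : y * x = 0) (n : ℕ) :
    (x + y) ^ (n + 1) = x ^ (n + 1) + y ^ (n + 1) := by
  induction n with
  | zero => simp
  | succ n ih =>
    rw [pow_succ, ih, add_mul, mul_add, mul_add]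
    have h1 : x ^ (n + 1) * y = 0 := by rw [pow_succ, mul_assoc, hxy, mul_zero]
    have h2 : y ^ (n + 1) * x = 0 := by rw [pow_succ, mul_assoc, hyx, mul_zero]
    rw [h1, h2, add_zero, zero_add, ← pow_succ, ← pow_succ]

/-- refine a datum so that `W = x W₀`. -/
theorem IsDatum.map_self {x : End k V} {W : Submodule k V} {n : ℕ} (h : IsDatum x W n) :
    IsDatum x (W.map x) (n + 1) := by
  haveI := h.fin
  refine ⟨inferInstance, ?_, fun v => ?_⟩
  · rintro _ ⟨w, hw, rfl⟩
    exact ⟨x w, h.inv w hw, rfl⟩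
  · rw [pow_succ', Module.End.mul_apply]
    exact Submodule.mem_map_of_mem (h.pow v)

theorem ftr_add_of_orth {x y : End k V} (hxy : x * y = 0) (hyx : y * x = 0)
    (hx : IsFP x) (hy : IsFP y) : IsFP (x + y) ∧ ftr (x + y) = ftr x + ftr y := by
  obtain ⟨Wx, n, hx⟩ := hx
  obtain ⟨Wy, m, hy⟩ := hy
  have hx' := hx.map_self
  have hy' := hy.map_self
  haveI := hx'.fin
  haveI := hy'.fin
  set W := Wx.map x ⊔ Wy.map y with hW
  have hyWx : ∀ w ∈ Wx.map x, y w = 0 := by
    rintro _ ⟨w, _, rfl⟩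
    rw [← Module.End.mul_apply, hyx]; rfl
  have hxWy : ∀ w ∈ Wy.map y, x w = 0 := by
    rintro _ ⟨w, _, rfl⟩
    rw [← Module.End.mul_apply, hxy]; rfl
  set N := max n m + 1 with hN
  have dx : IsDatum x W (N + 1) := by
    refine ⟨inferInstance, ?_, fun v => ?_⟩
    · intro w hw
      rw [hW, Submodule.mem_sup] at hw
      obtain ⟨a, ha, b, hb, rfl⟩ := hw
      rw [map_add, hxWy b hb, add_zero]
      exact Submodule.mem_sup_left (hx'.inv a ha)
    · exact Submodule.mem_sup_left ((hx'.mono (by omega)).pow v)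
  have dy : IsDatum y W (N + 1) := by
    refine ⟨inferInstance, ?_, fun v => ?_⟩
    · intro w hw
      rw [hW, Submodule.mem_sup] at hw
      obtain ⟨a, ha, b, hb, rfl⟩ := hw
      rw [map_add, hyWx a ha, zero_add]
      exact Submodule.mem_sup_right (hy'.inv b hb)
    · exact Submodule.mem_sup_right ((hy'.mono (by omega)).pow v)
  have hpow : ∀ v, ((x + y) ^ (N + 1)) v ∈ W := by
    intro v
    rw [add_pow_of_orth hxy hyx, LinearMap.add_apply]
    exact W.add_mem (dx.pow v) (dy.pow v)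
  refine ⟨⟨W, N + 1, ⟨inferInstance, fun w hw => ?_, hpow⟩⟩, ftr_add_of_datum dx dy hpow⟩
  rw [LinearMap.add_apply]
  exact W.add_mem (dx.inv w hw) (dy.inv w hw)

/-! ### The class `E0 A` -/

/-- `x V ≺ A`: the image of `x` is contained in `A` up to a finite-dimensional subspace. -/
def E1 (A : Submodule k V) (x : End k V) : Prop :=
  ∃ F : Submodule k V, FiniteDimensional k F ∧ LinearMap.range x ≤ A ⊔ F

/-- `x A ≺ 0`. -/
def E2 (A : Submodule k V) (x : End k V) : Prop := FiniteDimensional k (A.map x)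

/-- `E0 = E1 ∩ E2` -/
def E0 (A : Submodule k V) (x : End k V) : Prop := E1 A x ∧ E2 A x

/-- `f A ≺ A` -/
def NS (A : Submodule k V) (f : End k V) : Prop :=
  ∃ F : Submodule k V, FiniteDimensional k F ∧ A.map f ≤ A ⊔ F

theorem E1.add {A : Submodule k V} {x y : End k V} (hx : E1 A x) (hy : E1 A y) : E1 A (x + y) := by
  obtain ⟨F, hF, hxF⟩ := hx
  obtain ⟨G, hG, hyG⟩ := hy
  refine ⟨F ⊔ G, inferInstance, ?_⟩
  rintro _ ⟨v, rfl⟩
  rw [LinearMap.add_apply]
  have h1 : x v ∈ A ⊔ (F ⊔ G) := (sup_le_sup_left le_sup_left A) (hxF ⟨v, rfl⟩)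
  have h2 : y v ∈ A ⊔ (F ⊔ G) := (sup_le_sup_left le_sup_right A) (hyG ⟨v, rfl⟩)
  exact Submodule.add_mem _ h1 h2

theorem E2.add {A : Submodule k V} {x y : End k V} (hx : E2 A x) (hy : E2 A y) : E2 A (x + y) := by
  unfold E2 at *
  have : A.map (x + y) ≤ A.map x ⊔ A.map y := by
    rintro _ ⟨a, ha, rfl⟩
    rw [LinearMap.add_apply]
    exact Submodule.add_mem_sup (Submodule.mem_map_of_mem ha) (Submodule.mem_map_of_mem ha)
  exact Submodule.finiteDimensional_of_le this

theorem E0.add {A : Submodule k V} {x y : End k V} (hx : E0 A x) (hy : E0 A y) : E0 A (x + y) :=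
  ⟨hx.1.add hy.1, hx.2.add hy.2⟩

theorem E0.smul {A : Submodule k V} {x : End k V} (hx : E0 A x) (c : k) : E0 A (c • x) := by
  obtain ⟨⟨F, hF, hxF⟩, h2⟩ := hx
  refine ⟨⟨F, hF, ?_⟩, ?_⟩
  · rintro _ ⟨v, rfl⟩
    rw [LinearMap.smul_apply]
    exact Submodule.smul_mem _ c (hxF ⟨v, rfl⟩)
  · unfold E2 at *
    have : A.map (c • x) ≤ A.map x := by
      rintro _ ⟨a, ha, rfl⟩
      rw [LinearMap.smul_apply]
      exact Submodule.smul_mem _ c (Submodule.mem_map_of_mem ha)
    exact Submodule.finiteDimensional_of_le this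

theorem E0.neg {A : Submodule k V} {x : End k V} (hx : E0 A x) : E0 A (-x) := by
  have := hx.smul (-1)
  rwa [neg_one_smul] at this

theorem E0.sub {A : Submodule k V} {x y : End k V} (hx : E0 A x) (hy : E0 A y) : E0 A (x - y) := by
  rw [sub_eq_add_neg]; exact hx.add hy.neg

/-- product of two elements of `E0 A` has finite rank. -/
theorem E0.finiteDimensional_range_mul {A : Submodule k V} {x y : End k V} (hx : E0 A x)
    (hy : E0 A y) : FiniteDimensional k (LinearMap.range (x * y)) := by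
  obtain ⟨F, hF, hyF⟩ := hy.1
  haveI : FiniteDimensional k (A.map x) := hx.2
  have : LinearMap.range (x * y) ≤ A.map x ⊔ F.map x := by
    rintro _ ⟨v, rfl⟩
    rw [Module.End.mul_apply]
    have := hyF ⟨v, rfl⟩
    rw [Submodule.mem_sup] at this
    obtain ⟨a, ha, f, hf, e⟩ := this
    rw [← e, map_add]
    exact Submodule.add_mem_sup (Submodule.mem_map_of_mem ha) (Submodule.mem_map_of_mem hf)
  exact Submodule.finiteDimensional_of_le this

/-- (T4) for `E0 A`. -/
theorem ftr_add_of_E0 {A : Submodule k V} {x y : End k V} (hx : E0 A x) (hy : E0 A y) :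
    ftr (x + y) = ftr x + ftr y := by
  haveI := hx.finiteDimensional_range_mul hx
  haveI := hx.finiteDimensional_range_mul hy
  haveI := hy.finiteDimensional_range_mul hx
  haveI := hy.finiteDimensional_range_mul hy
  set W := LinearMap.range (x * x) ⊔ LinearMap.range (x * y) ⊔
    (LinearMap.range (y * x) ⊔ LinearMap.range (y * y)) with hW
  have hxx : ∀ v, x (x v) ∈ W := fun v =>
    Submodule.mem_sup_left (Submodule.mem_sup_left ⟨v, rfl⟩)
  have hxy : ∀ v, x (y v) ∈ W := fun v =>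
    Submodule.mem_sup_left (Submodule.mem_sup_right ⟨v, rfl⟩)
  have hyx : ∀ v, y (x v) ∈ W := fun v =>
    Submodule.mem_sup_right (Submodule.mem_sup_left ⟨v, rfl⟩)
  have hyy : ∀ v, y (y v) ∈ W := fun v =>
    Submodule.mem_sup_right (Submodule.mem_sup_right ⟨v, rfl⟩)
  have hrep : ∀ w ∈ W, ∃ a b, w = x a + y b := by
    intro w hw
    rw [hW, Submodule.mem_sup] at hw
    obtain ⟨p, hp, q, hq, rfl⟩ := hw
    rw [Submodule.mem_sup] at hp hq
    obtain ⟨p1, ⟨a1, rfl⟩, p2, ⟨a2, rfl⟩, rfl⟩ := hp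
    obtain ⟨q1, ⟨b1, rfl⟩, q2, ⟨b2, rfl⟩, rfl⟩ := hq
    refine ⟨x a1 + y a2, x b1 + y b2, ?_⟩
    simp only [Module.End.mul_apply, map_add]
  have dx : IsDatum x W 2 := by
    refine ⟨inferInstance, fun w hw => ?_, fun v => ?_⟩
    · obtain ⟨a, b, rfl⟩ := hrep w hw
      rw [map_add]; exact W.add_mem (hxx a) (hxy b)
    · rw [pow_two, Module.End.mul_apply]; exact hxx v
  have dy : IsDatum y W 2 := by
    refine ⟨inferInstance, fun w hw => ?_, fun v => ?_⟩
    · obtain ⟨a, b, rfl⟩ := hrep w hw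
      rw [map_add]; exact W.add_mem (hyx a) (hyy b)
    · rw [pow_two, Module.End.mul_apply]; exact hyy v
  refine ftr_add_of_datum dx dy (fun v => ?_)
  rw [pow_two, Module.End.mul_apply, LinearMap.add_apply, LinearMap.add_apply, map_add, map_add]
  exact W.add_mem (W.add_mem (hxx v) (hxy v)) (W.add_mem (hyx v) (hyy v))

theorem E0.isFP {A : Submodule k V} {x : End k V} (hx : E0 A x) : IsFP x := by
  haveI := hx.finiteDimensional_range_mul hx
  refine ⟨LinearMap.range (x * x), 2, inferInstance, ?_, fun v => ?_⟩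
  · rintro _ ⟨v, rfl⟩
    exact ⟨x v, by simp [Module.End.mul_apply]⟩
  · rw [pow_two]; exact ⟨v, rfl⟩

theorem ftr_sub_of_E0 {A : Submodule k V} {x y : End k V} (hx : E0 A x) (hy : E0 A y) :
    ftr (x - y) = ftr x - ftr y := by
  rw [sub_eq_add_neg, ftr_add_of_E0 hx hy.neg, ftr_neg, sub_eq_add_neg]

/-- `E0` is a two-sided ideal for near-stabilizers. -/
theorem E0.mul_right {A : Submodule k V} {x g : End k V} (hx : E0 A x) (hg : NS A g) :
    E0 A (x * g) := by
  obtain ⟨⟨F, hF, hxF⟩, h2⟩ := hx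
  obtain ⟨G, hG, hgG⟩ := hg
  refine ⟨⟨F, hF, ?_⟩, ?_⟩
  · rintro _ ⟨v, rfl⟩
    exact hxF ⟨g v, rfl⟩
  · unfold E2 at *
    have : A.map (x * g) ≤ A.map x ⊔ G.map x := by
      rintro _ ⟨a, ha, rfl⟩
      rw [Module.End.mul_apply]
      have := hgG (Submodule.mem_map_of_mem ha)
      rw [Submodule.mem_sup] at this
      obtain ⟨a', ha', f, hf, e⟩ := this
      rw [← e, map_add]
      exact Submodule.add_mem_sup (Submodule.mem_map_of_mem ha') (Submodule.mem_map_of_mem hf)
    exact Submodule.finiteDimensional_of_le this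

theorem E0.mul_left {A : Submodule k V} {x g : End k V} (hx : E0 A x) (hg : NS A g) :
    E0 A (g * x) := by
  obtain ⟨⟨F, hF, hxF⟩, h2⟩ := hx
  obtain ⟨G, hG, hgG⟩ := hg
  refine ⟨⟨G ⊔ F.map g, inferInstance, ?_⟩, ?_⟩
  · rintro _ ⟨v, rfl⟩
    rw [Module.End.mul_apply]
    have := hxF ⟨v, rfl⟩
    rw [Submodule.mem_sup] at this
    obtain ⟨a, ha, f, hf, e⟩ := this
    rw [← e, map_add]
    have h1 := hgG (Submodule.mem_map_of_mem ha)
    have h1' : g a ∈ A ⊔ (G ⊔ F.map g) := (sup_le_sup_left le_sup_left A) h1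
    have h2' : g f ∈ A ⊔ (G ⊔ F.map g) :=
      Submodule.mem_sup_right (Submodule.mem_sup_right (Submodule.mem_map_of_mem hf))
    exact Submodule.add_mem _ h1' h2'
  · unfold E2 at *
    have : A.map (g * x) ≤ (A.map x).map g := by
      rintro _ ⟨a, ha, rfl⟩
      exact ⟨x a, Submodule.mem_map_of_mem ha, rfl⟩
    exact Submodule.finiteDimensional_of_le this

/-- trace of a commutator with an element of `E0` vanishes. -/
theorem ftr_comm_of_E0 {A : Submodule k V} {x g : End k V} (hx : E0 A x) (hg : NS A g) :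
    ftr (x * g - g * x) = 0 := by
  rw [ftr_sub_of_E0 (hx.mul_right hg) (hx.mul_left hg)]
  have := ftr_comp_comm (x : V →ₗ[k] V) (g : V →ₗ[k] V) (hx.mul_right hg).isFP
  rw [sub_eq_zero]
  exact this.2.symm

end Groth.Agent.Lib.Helper23.Tate
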