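import Groth.Agent.Lib.Helper23.Tate3

/-! Tate's abstract residue `res A f g`. -/

namespace Groth.Agent.Lib.Helper23.Tate

open Module LinearMap

variable {k : Type*} [Field k] {V : Type*} [AddCommGroup V] [Module k V]

/-- `θ(π; f, g) = π f g − g π f` -/
def theta (π f g : End k V) : End k V := π * f * g - g * π * f

theorem theta_apply (π f g : End k V) (v : V) : theta π f g v = π (f (g v)) - g (π (f v)) := rfl

theorem exists_isProj (A : Submodule k V) : ∃ π : End k V, IsProj A π := by
  obtain ⟨B, hB⟩ := Submodule.exists_isCompl A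
  refine ⟨A.projection B hB, ⟨fun x => Submodule.projection_apply_mem hB x, fun x hx => ?_⟩⟩
  exact Submodule.projection_apply_left hB ⟨x, hx⟩

theorem one_sub_proj_mem {A H : Submodule k V} {π : End k V} (hπ : IsProj A π) {v : V}
    (hv : v ∈ A ⊔ H) : v - π v ∈ H.map (1 - π) := by
  rw [Submodule.mem_sup] at hv
  obtain ⟨a, ha, h, hh, rfl⟩ := hv
  refine ⟨h, hh, ?_⟩
  rw [LinearMap.sub_apply, Module.End.one_apply, map_add, hπ.map_id a ha]
  abel

theorem theta_E0 {A : Submodule k V} {π f g : End k V} (hπ : IsProj A π) (hf : NS A f)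
    (hg : NS A g) (hc : Commute f g) : E0 A (theta π f g) := by
  obtain ⟨F, hF, hfF⟩ := hf
  obtain ⟨G, hG, hgG⟩ := hg
  refine ⟨⟨G, hG, ?_⟩, ?_⟩
  · rintro _ ⟨v, rfl⟩
    rw [theta_apply]
    refine Submodule.sub_mem _ (Submodule.mem_sup_left (hπ.map_mem _)) ?_
    exact hgG (Submodule.mem_map_of_mem (hπ.map_mem _))
  · unfold E2
    have key : A.map (theta π f g) ≤ (F ⊔ G.map f).map (1 - π) ⊔ (F.map (1 - π)).map g := by
      rintro _ ⟨a, ha, rfl⟩
      have h1 : f a ∈ A ⊔ F := hfF (Submodule.mem_map_of_mem ha)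
      have h2 : f (g a) ∈ A ⊔ (F ⊔ G.map f) := by
        have := hgG (Submodule.mem_map_of_mem ha)
        rw [Submodule.mem_sup] at this
        obtain ⟨a', ha', γ, hγ, e⟩ := this
        rw [← e, map_add]
        have t1 : f a' ∈ A ⊔ (F ⊔ G.map f) :=
          (sup_le_sup_left le_sup_left A) (hfF (Submodule.mem_map_of_mem ha'))
        have t2 : f γ ∈ A ⊔ (F ⊔ G.map f) :=
          Submodule.mem_sup_right (Submodule.mem_sup_right (Submodule.mem_map_of_mem hγ))
        exact Submodule.add_mem _ t1 t2
      have e1 := one_sub_proj_mem hπ h1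
      have e2 := one_sub_proj_mem hπ h2
      have hfg : f (g a) = g (f a) := by
        have := congrArg (fun (T : End k V) => T a) hc.eq
        simpa [Module.End.mul_apply] using this
      have : theta π f g a = - (f (g a) - π (f (g a))) + g (f a - π (f a)) := by
        rw [theta_apply, map_sub, hfg]; abel
      rw [this]
      refine Submodule.add_mem_sup (Submodule.neg_mem _ e2) (Submodule.mem_map_of_mem e1)
    exact Submodule.finiteDimensional_of_le key

open Classical in
/-- Tate's residue of `f dg` with respect to the subspace `A`. -/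
noncomputable def res (A : Submodule k V) (f g : End k V) : k :=
  ftr (theta (exists_isProj A).choose f g)

/-- independence of the projection -/
theorem ftr_theta_eq {A : Submodule k V} {π π' f g : End k V} (hπ : IsProj A π)
    (hπ' : IsProj A π') (hf : NS A f) (hg : NS A g) (hc : Commute f g) :
    ftr (theta π f g) = ftr (theta π' f g) := by
  set x : End k V := (π - π') * f with hx
  have hxE0 : E0 A x := by
    obtain ⟨F, hF, hfF⟩ := hf
    refine ⟨⟨⊥, inferInstance, ?_⟩, ?_⟩
    · rintro _ ⟨v, rfl⟩
      rw [hx, Module.End.mul_apply, LinearMap.sub_apply]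
      exact Submodule.mem_sup_left (A.sub_mem (hπ.map_mem _) (hπ'.map_mem _))
    · unfold E2
      have : A.map x ≤ F.map (π - π') := by
        rintro _ ⟨a, ha, rfl⟩
        have := hfF (Submodule.mem_map_of_mem ha)
        rw [Submodule.mem_sup] at this
        obtain ⟨a', ha', γ, hγ, e⟩ := this
        refine ⟨γ, hγ, ?_⟩
        rw [hx, Module.End.mul_apply, ← e, map_add, LinearMap.sub_apply (x := a'),
          hπ.map_id a' ha', hπ'.map_id a' ha', sub_self, zero_add]
      exact Submodule.finiteDimensional_of_le this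
  have e : theta π f g = theta π' f g + (x * g - g * x) := by
    rw [hx]; unfold theta
    simp only [sub_mul, mul_sub, mul_assoc]
    abel
  rw [e, ftr_add_of_E0 (theta_E0 hπ' hf hg hc) ((hxE0.mul_right hg).sub (hxE0.mul_left hg)),
    ftr_comm_of_E0 hxE0 hg, add_zero]

theorem res_eq {A : Submodule k V} {π f g : End k V} (hπ : IsProj A π) (hf : NS A f)
    (hg : NS A g) (hc : Commute f g) : res A f g = ftr (theta π f g) :=
  ftr_theta_eq (exists_isProj A).choose_spec hπ hf hg hc

/-- (R2) if `f` and `g` stabilize `A`, the residue vanishes. -/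
theorem res_eq_zero_of_stable {A : Submodule k V} {f g : End k V} (hf : ∀ a ∈ A, f a ∈ A)
    (hg : ∀ a ∈ A, g a ∈ A) (hc : Commute f g) : res A f g = 0 := by
  obtain ⟨π, hπ⟩ := exists_isProj A
  have hfN : NS A f := ⟨⊥, inferInstance, by
    rintro _ ⟨a, ha, rfl⟩; exact Submodule.mem_sup_left (hf a ha)⟩
  have hgN : NS A g := ⟨⊥, inferInstance, by
    rintro _ ⟨a, ha, rfl⟩; exact Submodule.mem_sup_left (hg a ha)⟩
  rw [res_eq hπ hfN hgN hc]
  apply ftr_eq_zero_of_pow_eq_zero (n := 2)
  have hfg : ∀ a, f (g a) = g (f a) := fun a => by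
    have := congrArg (fun (T : End k V) => T a) hc.eq
    simpa [Module.End.mul_apply] using this
  have h1 : ∀ v, theta π f g v ∈ A := fun v => by
    rw [theta_apply]
    exact A.sub_mem (hπ.map_mem _) (hg _ (hπ.map_mem _))
  have h2 : ∀ a ∈ A, theta π f g a = 0 := fun a ha => by
    rw [theta_apply, hπ.map_id _ (hf _ (hg _ ha)), hπ.map_id _ (hf _ ha), hfg, sub_self]
  ext v
  rw [pow_two, Module.End.mul_apply, h2 _ (h1 v)]
  rfl

end Groth.Agent.Lib.Helper23.Tate
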