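import Groth.Agent.Lib.Helper23.Tate4

/-! Tate's abstract residue: bilinearity, Leibniz rule, change of space, global vanishing. -/

namespace Groth.Agent.Lib.Helper23.Tate

open Module LinearMap

variable {k : Type*} [Field k] {V : Type*} [AddCommGroup V] [Module k V]
  {V' : Type*} [AddCommGroup V'] [Module k V']

theorem NS.add {A : Submodule k V} {f g : End k V} (hf : NS A f) (hg : NS A g) : NS A (f + g) := by
  obtain ⟨F, hF, hfF⟩ := hf
  obtain ⟨G, hG, hgG⟩ := hg
  refine ⟨F ⊔ G, inferInstance, ?_⟩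
  rintro _ ⟨a, ha, rfl⟩
  rw [LinearMap.add_apply]
  have h1 : f a ∈ A ⊔ (F ⊔ G) := (sup_le_sup_left le_sup_left A) (hfF (Submodule.mem_map_of_mem ha))
  have h2 : g a ∈ A ⊔ (F ⊔ G) := (sup_le_sup_left le_sup_right A) (hgG (Submodule.mem_map_of_mem ha))
  exact Submodule.add_mem _ h1 h2

theorem NS.smul {A : Submodule k V} {f : End k V} (hf : NS A f) (c : k) : NS A (c • f) := by
  obtain ⟨F, hF, hfF⟩ := hf
  refine ⟨F, hF, ?_⟩
  rintro _ ⟨a, ha, rfl⟩
  rw [LinearMap.smul_apply]
  exact Submodule.smul_mem _ c (hfF (Submodule.mem_map_of_mem ha))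

theorem NS.mul {A : Submodule k V} {f g : End k V} (hf : NS A f) (hg : NS A g) : NS A (f * g) := by
  obtain ⟨F, hF, hfF⟩ := hf
  obtain ⟨G, hG, hgG⟩ := hg
  refine ⟨F ⊔ G.map f, inferInstance, ?_⟩
  rintro _ ⟨a, ha, rfl⟩
  rw [Module.End.mul_apply]
  have := hgG (Submodule.mem_map_of_mem ha)
  rw [Submodule.mem_sup] at this
  obtain ⟨a', ha', γ, hγ, e⟩ := this
  rw [← e, map_add]
  have t1 : f a' ∈ A ⊔ (F ⊔ G.map f) :=
    (sup_le_sup_left le_sup_left A) (hfF (Submodule.mem_map_of_mem ha'))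
  have t2 : f γ ∈ A ⊔ (F ⊔ G.map f) :=
    Submodule.mem_sup_right (Submodule.mem_sup_right (Submodule.mem_map_of_mem hγ))
  exact Submodule.add_mem _ t1 t2

theorem NS.of_stable {A : Submodule k V} {f : End k V} (hf : ∀ a ∈ A, f a ∈ A) : NS A f :=
  ⟨⊥, inferInstance, by rintro _ ⟨a, ha, rfl⟩; exact Submodule.mem_sup_left (hf a ha)⟩

theorem res_add_left {A : Submodule k V} {f f' g : End k V} (hf : NS A f) (hf' : NS A f')
    (hg : NS A g) (hc : Commute f g) (hc' : Commute f' g) :
    res A (f + f') g = res A f g + res A f' g := by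
  obtain ⟨π, hπ⟩ := exists_isProj A
  rw [res_eq hπ (hf.add hf') hg (hc.add_left hc'), res_eq hπ hf hg hc, res_eq hπ hf' hg hc',
    ← ftr_add_of_E0 (theta_E0 hπ hf hg hc) (theta_E0 hπ hf' hg hc')]
  congr 1
  unfold theta
  simp only [mul_add, add_mul]
  abel

theorem res_add_right {A : Submodule k V} {f g g' : End k V} (hf : NS A f) (hg : NS A g)
    (hg' : NS A g') (hc : Commute f g) (hc' : Commute f g') :
    res A f (g + g') = res A f g + res A f g' := by
  obtain ⟨π, hπ⟩ := exists_isProj A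
  rw [res_eq hπ hf (hg.add hg') (hc.add_right hc'), res_eq hπ hf hg hc, res_eq hπ hf hg' hc',
    ← ftr_add_of_E0 (theta_E0 hπ hf hg hc) (theta_E0 hπ hf hg' hc')]
  congr 1
  unfold theta
  simp only [mul_add, add_mul]
  abel

theorem res_smul_left {A : Submodule k V} {f g : End k V} (c : k) (hf : NS A f)
    (hg : NS A g) (hc : Commute f g) :
    res A (c • f) g = c * res A f g := by
  obtain ⟨π, hπ⟩ := exists_isProj A
  rw [res_eq hπ (hf.smul c) hg (hc.smul_left c), res_eq hπ hf hg hc, ← ftr_smul]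
  congr 1
  unfold theta
  simp only [mul_smul_comm, smul_mul_assoc, smul_sub]

theorem res_smul_right {A : Submodule k V} {f g : End k V} (c : k) (hf : NS A f)
    (hg : NS A g) (hc : Commute f g) :
    res A f (c • g) = c * res A f g := by
  obtain ⟨π, hπ⟩ := exists_isProj A
  rw [res_eq hπ hf (hg.smul c) (hc.smul_right c), res_eq hπ hf hg hc, ← ftr_smul]
  congr 1
  unfold theta
  simp only [mul_smul_comm, smul_mul_assoc, smul_sub]

/-- Leibniz rule. -/
theorem res_mul_right {A : Submodule k V} {f g h : End k V} (hf : NS A f) (hg : NS A g)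
    (hh : NS A h) (hfg : Commute f g) (hfh : Commute f h) (hgh : Commute g h) :
    res A f (g * h) = res A (f * g) h + res A (f * h) g := by
  obtain ⟨π, hπ⟩ := exists_isProj A
  have c1 : Commute f (g * h) := hfg.mul_right hfh
  have c2 : Commute (f * g) h := hfh.mul_left hgh
  have c3 : Commute (f * h) g := hfg.mul_left hgh.symm
  rw [res_eq hπ hf (hg.mul hh) c1, res_eq hπ (hf.mul hg) hh c2, res_eq hπ (hf.mul hh) hg c3]
  set x := theta π f g with hx
  have hxE : E0 A x := theta_E0 hπ hf hg hfg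
  have e : theta π (f * g) h + theta π (f * h) g = theta π f (g * h) + (x * h - h * x) := by
    rw [hx]; unfold theta
    have e1 : g * h = h * g := hgh.eq
    have e2 : ∀ y : End k V, g * (h * y) = h * (g * y) := fun y => by
      rw [← mul_assoc, e1, mul_assoc]
    simp only [sub_mul, mul_sub, mul_assoc]
    rw [e1, e2]
    abel
  rw [← ftr_add_of_E0 (theta_E0 hπ (hf.mul hg) hh c2) (theta_E0 hπ (hf.mul hh) hg c3), e,
    ftr_add_of_E0 (theta_E0 hπ hf (hg.mul hh) c1) ((hxE.mul_right hh).sub (hxE.mul_left hh)),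
    ftr_comm_of_E0 hxE hh, add_zero]

theorem theta_sq_eq_zero {B : Submodule k V} {π f g : End k V} (hπ : IsProj B π)
    (hf : ∀ a ∈ B, f a ∈ B) (hg : ∀ a ∈ B, g a ∈ B) (hc : Commute f g) :
    theta π f g * theta π f g = 0 := by
  have hfg : ∀ a, f (g a) = g (f a) := fun a => by
    have := congrArg (fun (T : End k V) => T a) hc.eq
    simpa [Module.End.mul_apply] using this
  have h1 : ∀ v, theta π f g v ∈ B := fun v => by
    rw [theta_apply]
    exact B.sub_mem (hπ.map_mem _) (hg _ (hπ.map_mem _))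
  have h2 : ∀ a ∈ B, theta π f g a = 0 := fun a ha => by
    rw [theta_apply, hπ.map_id _ (hf _ (hg _ ha)), hπ.map_id _ (hf _ ha), hfg, sub_self]
  ext v
  rw [Module.End.mul_apply, h2 _ (h1 v)]
  rfl

/-- square-zero plus finite rank. -/
theorem ftr_add_of_sq_zero_of_finite {ν ρ : End k V} (hν : ν * ν = 0)
    (hρ : FiniteDimensional k (LinearMap.range ρ)) : ftr (ν + ρ) = ftr ρ := by
  set W := LinearMap.range ρ ⊔ (LinearMap.range ρ).map ν with hW
  have hρW : ∀ v, ρ v ∈ W := fun v => Submodule.mem_sup_left ⟨v, rfl⟩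
  have hνW : ∀ w ∈ W, ν w ∈ W := by
    intro w hw
    rw [hW, Submodule.mem_sup] at hw
    obtain ⟨a, ha, b, ⟨c, hc, rfl⟩, rfl⟩ := hw
    rw [map_add, ← Module.End.mul_apply ν ν, hν, LinearMap.zero_apply, add_zero]
    exact Submodule.mem_sup_right (Submodule.mem_map_of_mem ha)
  have dρ : IsDatum ρ W 2 :=
    ⟨inferInstance, fun w _ => hρW w, fun v => by rw [pow_two, Module.End.mul_apply]; exact hρW _⟩
  have dν : IsDatum ν W 2 :=
    ⟨inferInstance, hνW, fun v => by rw [pow_two, hν]; exact W.zero_mem⟩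
  have hsum : ∀ v, ((ν + ρ) ^ 2) v ∈ W := by
    intro v
    rw [pow_two, Module.End.mul_apply, LinearMap.add_apply, LinearMap.add_apply, map_add, map_add,
      ← Module.End.mul_apply ν ν, hν, LinearMap.zero_apply, zero_add]
    exact W.add_mem (hνW _ (hρW v)) (W.add_mem (hρW _) (hρW _))
  rw [ftr_add_of_datum dν dρ hsum, ftr_eq_zero_of_pow_eq_zero (n := 2) (by rw [pow_two, hν]),
    zero_add]

/-- trace of a "commutator" with a finite rank operator. -/
theorem ftr_theta_of_finite {ρ₀ f g : End k V} (hρ : FiniteDimensional k (LinearMap.range ρ₀)) :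
    ftr (theta ρ₀ f g) = 0 := by
  have hx : E0 (⊥ : Submodule k V) (ρ₀ * f) := by
    refine ⟨⟨LinearMap.range ρ₀, hρ, ?_⟩, ?_⟩
    · rintro _ ⟨v, rfl⟩
      exact Submodule.mem_sup_right ⟨f v, rfl⟩
    · unfold E2
      rw [Submodule.map_bot]
      infer_instance
  have hg : NS (⊥ : Submodule k V) g := ⟨⊥, inferInstance, by rw [Submodule.map_bot]; exact bot_le⟩
  have := ftr_comm_of_E0 hx hg
  unfold theta
  rwa [mul_assoc] at this ⊢

/-- The residue is unchanged under enlarging the ambient space (Tate's (R1)). -/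
theorem res_eq_of_embedding (j : V →ₗ[k] V') (hj : Function.Injective j) {A : Submodule k V}
    {A' : Submodule k V'} (hA : A = A'.comap j) (hsum : A' ⊔ LinearMap.range j = ⊤)
    {f g : End k V} {f' g' : End k V'} (hfj : ∀ v, f' (j v) = j (f v))
    (hgj : ∀ v, g' (j v) = j (g v)) (hf : NS A f) (hg : NS A g) (hf' : NS A' f') (hg' : NS A' g')
    (hc' : Commute f' g') : res A f g = res A' f' g' := by
  have hfg' : ∀ a, f' (g' a) = g' (f' a) := fun a => by
    have := congrArg (fun (T : End k V') => T a) hc'.eq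
    simpa [Module.End.mul_apply] using this
  have hc : Commute f g := by
    apply LinearMap.ext
    intro v
    apply hj
    simp only [Module.End.mul_apply]
    rw [← hfj, ← hgj, ← hgj, ← hfj, hfg']
  obtain ⟨D, hD⟩ := Submodule.exists_isCompl A
  have hD' : IsCompl A' (D.map j) := by
    constructor
    · rw [Submodule.disjoint_def]
      rintro x hxA ⟨d, hd, rfl⟩
      have hdA : d ∈ A := by rw [hA]; exact hxA
      have : d ∈ A ⊓ D := ⟨hdA, hd⟩
      rw [hD.inf_eq_bot, Submodule.mem_bot] at this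
      rw [this, map_zero]
    · rw [codisjoint_iff, eq_top_iff]
      intro v' _
      have hv' : v' ∈ A' ⊔ LinearMap.range j := by rw [hsum]; trivial
      rw [Submodule.mem_sup] at hv'
      obtain ⟨a', ha', _, ⟨v, rfl⟩, rfl⟩ := hv'
      have hv : v ∈ A ⊔ D := by rw [hD.sup_eq_top]; trivial
      rw [Submodule.mem_sup] at hv
      obtain ⟨a, ha, d, hd, rfl⟩ := hv
      rw [map_add, ← add_assoc]
      refine Submodule.add_mem_sup (A'.add_mem ha' ?_) (Submodule.mem_map_of_mem hd)
      rw [hA] at ha; exact ha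
  set π := A.projection D hD with hπdef
  set π' := A'.projection (D.map j) hD' with hπ'def
  have hπ : IsProj A π := ⟨fun x => Submodule.projection_apply_mem hD x,
    fun x hx => Submodule.projection_apply_left hD ⟨x, hx⟩⟩
  have hπ' : IsProj A' π' := ⟨fun x => Submodule.projection_apply_mem hD' x,
    fun x hx => Submodule.projection_apply_left hD' ⟨x, hx⟩⟩
  have hπj : ∀ v, π' (j v) = j (π v) := by
    intro v
    have h1 : v - π v ∈ D := Submodule.sub_projection_mem hD v
    have h2 : j (π v) ∈ A' := by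
      have : π v ∈ A := hπ.map_mem v
      rw [hA] at this; exact this
    have h3 : π' (j (v - π v)) = 0 := by
      rw [hπ'def, Submodule.projection_apply_eq_zero_iff]
      exact Submodule.mem_map_of_mem h1
    have : j v = j (π v) + j (v - π v) := by rw [← map_add]; congr 1; abel
    rw [this, map_add, h3, add_zero, hπ'.map_id _ h2]
  have hcomm : ∀ v, theta π' f' g' (j v) = j (theta π f g v) := by
    intro v
    rw [theta_apply, theta_apply, hgj, hfj, hπj, hfj, hπj, hgj, map_sub]
  have hker : ∀ v', v' - π' v' ∈ D.map j := fun v' => Submodule.sub_projection_mem hD' v'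
  have hrange : ∀ v', ∃ v, ((theta π' f' g') ^ 1) v' = j v := by
    intro v'
    rw [pow_one]
    obtain ⟨d1, _, hd1⟩ := hker (f' (g' v'))
    obtain ⟨d2, _, hd2⟩ := hker (f' v')
    refine ⟨- d1 + g d2, ?_⟩
    rw [theta_apply, map_add, map_neg, ← hgj, hd1, hd2, map_sub, hfg']
    abel
  rw [res_eq hπ hf hg hc, res_eq hπ' hf' hg' hc']
  exact (ftr_eq_of_intertwine j hj _ _ hcomm 1 hrange).symm

end Groth.Agent.Lib.Helper23.Tate
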