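import Groth.Agent.Lib.Helper23.Tate5

/-! Tate's abstract residue: the global vanishing theorem. -/

namespace Groth.Agent.Lib.Helper23.Tate

open Module LinearMap

variable {k : Type*} [Field k] {V : Type*} [AddCommGroup V] [Module k V]

/-- Abstract residue theorem: if `B` is stable under `f` and `g`, `A ∩ B` is finite-dimensional and
`A + B` has finite codimension, then `res A f g = 0`. -/
theorem res_eq_zero_of_global {A B : Submodule k V} {f g : End k V} (hf : NS A f) (hg : NS A g)
    (hc : Commute f g) (hfB : ∀ b ∈ B, f b ∈ B) (hgB : ∀ b ∈ B, g b ∈ B)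
    (hI : FiniteDimensional k ↥(A ⊓ B)) (C : Submodule k V) (hCfin : FiniteDimensional k C)
    (hC : A ⊔ B ⊔ C = ⊤) : res A f g = 0 := by
  obtain ⟨B', hdisj, hsup⟩ :=
    IsModularLattice.exists_disjoint_and_sup_eq (inf_le_right : A ⊓ B ≤ B)
  have hB'B : B' ≤ B := hsup ▸ le_sup_right
  have hIB : A ⊓ B ≤ B := inf_le_right
  have hAB' : Disjoint B' A := by
    rw [Submodule.disjoint_def]
    intro x hxB' hxA
    have : x ∈ (A ⊓ B) ⊓ B' := ⟨⟨hxA, hB'B hxB'⟩, hxB'⟩
    rwa [hdisj.eq_bot, Submodule.mem_bot] at this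
  obtain ⟨D, hB'D, hDA⟩ := hAB'.exists_isCompl
  obtain ⟨C', hdisjC, hsupC⟩ := IsModularLattice.exists_disjoint_and_sup_eq hB'D
  have hC'D : C' ≤ D := hsupC ▸ le_sup_right
  have hAD : IsCompl A D := hDA.symm
  have h5 : IsCompl C' (A ⊔ B') := by
    constructor
    · rw [Submodule.disjoint_def]
      intro x hxC hx
      rw [Submodule.mem_sup] at hx
      obtain ⟨a, ha, b', hb', rfl⟩ := hx
      have haD : a ∈ D := by
        have : a = (a + b') - b' := by abel
        rw [this]
        exact D.sub_mem (hC'D hxC) (hB'D hb')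
      have ha0 : a = 0 := by
        have : a ∈ A ⊓ D := ⟨ha, haD⟩
        rwa [hAD.inf_eq_bot, Submodule.mem_bot] at this
      rw [ha0, zero_add] at hxC ⊢
      have : b' ∈ B' ⊓ C' := ⟨hb', hxC⟩
      rwa [hdisjC.eq_bot, Submodule.mem_bot] at this
    · rw [codisjoint_iff, sup_comm C', sup_assoc, hsupC, hAD.sup_eq_top]
  set πA := A.projection D hAD with hπA
  set pC := C'.projection (A ⊔ B') h5 with hpC
  obtain ⟨q, hq⟩ := exists_isProj (A ⊓ B)
  have hπAproj : IsProj A πA := ⟨fun x => Submodule.projection_apply_mem hAD x,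
    fun x hx => Submodule.projection_apply_left hAD ⟨x, hx⟩⟩
  have hπA_D : ∀ d ∈ D, πA d = 0 := fun d hd => by
    rw [hπA, Submodule.projection_apply_eq_zero_iff]; exact hd
  have hpC_C : ∀ c ∈ C', pC c = c := fun c hc' => Submodule.projection_apply_left h5 ⟨c, hc'⟩
  have hpC_0 : ∀ x ∈ A ⊔ B', pC x = 0 := fun x hx => by
    rw [hpC, Submodule.projection_apply_eq_zero_iff]; exact hx
  have hpC_mem : ∀ x, pC x ∈ C' := fun x => Submodule.projection_apply_mem h5 x
  set πB : End k V := 1 - πA - pC + q * πA with hπB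
  have hBle : B ≤ A ⊔ B' := by
    rw [← hsup]
    exact sup_le (le_sup_of_le_left inf_le_left) le_sup_right
  have hπBproj : IsProj B πB := by
    constructor
    · intro v
      have h1 : v - πA v ∈ D := Submodule.sub_projection_mem hAD v
      rw [← hsupC, Submodule.mem_sup] at h1
      obtain ⟨b', hb', c', hc', e⟩ := h1
      have h2 : pC v = c' := by
        have : v = πA v + (b' + c') := by rw [e]; abel
        rw [this, map_add, map_add, hpC_0 _ (Submodule.mem_sup_left (hπAproj.map_mem v)),
          hpC_0 _ (Submodule.mem_sup_right hb'), hpC_C _ hc', zero_add, zero_add]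
      have h3 : πB v = b' + q (πA v) := by
        rw [hπB]
        simp only [LinearMap.add_apply, LinearMap.sub_apply, Module.End.one_apply,
          Module.End.mul_apply]
        rw [h2]
        have : v - πA v - c' = b' := by rw [← e]; abel
        rw [this]
      rw [h3]
      exact B.add_mem (hB'B hb') (hIB (hq.map_mem _))
    · intro b hb
      have hb' : b ∈ (A ⊓ B) ⊔ B' := by rw [hsup]; exact hb
      rw [Submodule.mem_sup] at hb'
      obtain ⟨i, hi, b', hb', rfl⟩ := hb'
      have h1 : πA (i + b') = i := by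
        rw [map_add, hπAproj.map_id i hi.1, hπA_D b' (hB'D hb'), add_zero]
      have h2 : pC (i + b') = 0 := hpC_0 _ (hBle hb)
      rw [hπB]
      simp only [LinearMap.add_apply, LinearMap.sub_apply, Module.End.one_apply,
        Module.End.mul_apply]
      rw [h1, h2, hq.map_id i hi]
      abel
  -- `C'` is finite-dimensional
  haveI : FiniteDimensional k C' := by
    have : C' ≤ C.map pC := by
      intro c' hc'
      have : c' ∈ A ⊔ B ⊔ C := by rw [hC]; trivial
      rw [Submodule.mem_sup] at this
      obtain ⟨ab, hab, c, hcC, e⟩ := this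
      have hab' : ab ∈ A ⊔ B' := (sup_le le_sup_left hBle) hab
      refine ⟨c, hcC, ?_⟩
      have := congrArg pC e
      rw [map_add, hpC_0 _ hab', zero_add, hpC_C _ hc'] at this
      exact this
    exact Submodule.finiteDimensional_of_le this
  set ρ₀ : End k V := - pC + q * πA with hρ₀
  have hρfin : FiniteDimensional k (LinearMap.range ρ₀) := by
    have : LinearMap.range ρ₀ ≤ C' ⊔ (A ⊓ B) := by
      rintro _ ⟨v, rfl⟩
      rw [hρ₀, LinearMap.add_apply, LinearMap.neg_apply, Module.End.mul_apply]
      exact Submodule.add_mem_sup (C'.neg_mem (hpC_mem v)) (hq.map_mem _)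
    exact Submodule.finiteDimensional_of_le this
  have e11 : πA = 1 - πB + ρ₀ := by rw [hπB, hρ₀]; abel
  have e12 : theta πA f g = - theta πB f g + theta ρ₀ f g := by
    have hfg : f * g = g * f := hc.eq
    unfold theta
    rw [e11]
    simp only [sub_mul, add_mul, mul_sub, mul_add, one_mul, mul_one]
    rw [hfg]
    abel
  rw [res_eq hπAproj hf hg hc, e12]
  have hν : (- theta πB f g) * (- theta πB f g) = 0 := by
    rw [neg_mul_neg]; exact theta_sq_eq_zero hπBproj hfB hgB hc
  have hρ : FiniteDimensional k (LinearMap.range (theta ρ₀ f g)) := by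
    have : LinearMap.range (theta ρ₀ f g) ≤ LinearMap.range ρ₀ ⊔ (LinearMap.range ρ₀).map g := by
      rintro _ ⟨v, rfl⟩
      rw [theta_apply]
      exact Submodule.sub_mem _ (Submodule.mem_sup_left ⟨_, rfl⟩)
        (Submodule.mem_sup_right (Submodule.mem_map_of_mem ⟨_, rfl⟩))
    exact Submodule.finiteDimensional_of_le this
  rw [ftr_add_of_sq_zero_of_finite hν hρ, ftr_theta_of_finite hρfin]

end Groth.Agent.Lib.Helper23.Tate
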