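import Groth.Agent.Lib.Helper23.Tate6

/-! Tate residues: finite orthogonal sums, power rule, auxiliary linear algebra. -/

namespace Groth.Agent.Lib.Helper23.Tate

open Module LinearMap

variable {k : Type*} [Field k] {V : Type*} [AddCommGroup V] [Module k V]

theorem isFP_of_sq_zero {x : End k V} (h : x * x = 0) : IsFP x := by
  refine ⟨⊥, 2, inferInstance, fun w hw => ?_, fun v => ?_⟩
  · rw [Submodule.mem_bot] at hw ⊢; rw [hw, map_zero]
  · rw [pow_two, h]; simp

theorem ftr_of_sq_zero {x : End k V} (h : x * x = 0) : ftr x = 0 :=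
  ftr_eq_zero_of_pow_eq_zero (n := 2) (by rw [pow_two, h])

theorem ftr_sum_of_orth {ι : Type*} [DecidableEq ι] (S : Finset ι) (x : ι → End k V)
    (horth : ∀ i ∈ S, ∀ j ∈ S, i ≠ j → x i * x j = 0) (hfp : ∀ i ∈ S, IsFP (x i)) :
    IsFP (∑ i ∈ S, x i) ∧ ftr (∑ i ∈ S, x i) = ∑ i ∈ S, ftr (x i) := by
  induction S using Finset.induction_on with
  | empty =>
    simp only [Finset.sum_empty]
    exact ⟨isFP_of_sq_zero (by simp), ftr_zero⟩
  | insert a S ha ih =>
    have ih' := ih (fun i hi j hj hij => horth i (Finset.mem_insert_of_mem hi) j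
      (Finset.mem_insert_of_mem hj) hij) (fun i hi => hfp i (Finset.mem_insert_of_mem hi))
    rw [Finset.sum_insert ha, Finset.sum_insert ha]
    have h1 : x a * ∑ i ∈ S, x i = 0 := by
      rw [Finset.mul_sum]
      refine Finset.sum_eq_zero (fun i hi => ?_)
      exact horth a (Finset.mem_insert_self a S) i (Finset.mem_insert_of_mem hi)
        (fun e => ha (e ▸ hi))
    have h2 : (∑ i ∈ S, x i) * x a = 0 := by
      rw [Finset.sum_mul]
      refine Finset.sum_eq_zero (fun i hi => ?_)
      exact horth i (Finset.mem_insert_of_mem hi) a (Finset.mem_insert_self a S)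
        (fun e => ha (e ▸ hi))
    have := ftr_add_of_orth h1 h2 (hfp a (Finset.mem_insert_self a S)) ih'.1
    exact ⟨this.1, by rw [this.2, ih'.2]⟩

/-- power rule: `res f d(t^(n+1)) = (n+1) res (f t^n) dt`. -/
theorem res_pow_succ {A : Submodule k V} {f t : End k V} (hf : NS A f) (ht : NS A t)
    (hc : Commute f t) (n : ℕ) :
    res A f (t ^ (n + 1)) = ((n + 1 : ℕ) : k) * res A (f * t ^ n) t := by
  have hpowNS : ∀ m : ℕ, NS A (t ^ m) := by
    intro m
    induction m with
    | zero => rw [pow_zero]; exact NS.of_stable (fun a ha => ha)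
    | succ m ih => rw [pow_succ]; exact ih.mul ht
  induction n generalizing f with
  | zero =>
    simp
  | succ n ih =>
    rw [pow_succ t (n + 1), res_mul_right hf (hpowNS (n + 1)) ht (hc.pow_right _) hc
      (Commute.pow_left (Commute.refl t) _)]
    have hft : NS A (f * t) := hf.mul ht
    have hcft : Commute (f * t) t := hc.mul_left (Commute.refl t)
    rw [ih hft hcft]
    have e : f * t * t ^ n = f * t ^ (n + 1) := by rw [mul_assoc, ← pow_succ']
    rw [e]
    push_cast
    ring

/-- If `M / (N ∩ M)` is finite-dimensional then `M ≤ N ⊔ F` for a finite-dimensional `F`. -/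
theorem exists_fin_sup_of_quotient {N M : Submodule k V}
    (h : FiniteDimensional k (↥M ⧸ Submodule.comap M.subtype N)) :
    ∃ F : Submodule k V, FiniteDimensional k F ∧ M ≤ N ⊔ F := by
  obtain ⟨Q, hQ⟩ := Submodule.exists_isCompl (Submodule.comap M.subtype N)
  have e : (↥M ⧸ Submodule.comap M.subtype N) ≃ₗ[k] Q := Submodule.quotientEquivOfIsCompl _ _ hQ
  haveI : FiniteDimensional k Q := LinearEquiv.finiteDimensional e
  refine ⟨Q.map M.subtype, inferInstance, ?_⟩
  intro m hm
  have : (⟨m, hm⟩ : M) ∈ Submodule.comap M.subtype N ⊔ Q := by rw [hQ.sup_eq_top]; trivial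
  rw [Submodule.mem_sup] at this
  obtain ⟨a, ha, b, hb, e'⟩ := this
  have : m = (a : V) + (b : V) := by
    have := congrArg Subtype.val e'
    simpa using this.symm
  rw [this]
  exact Submodule.add_mem_sup ha (Submodule.mem_map_of_mem hb)

/-- If `V / N` is finite-dimensional then `N ⊔ C = ⊤` for a finite-dimensional `C`. -/
theorem exists_fin_sup_eq_top {N : Submodule k V} (h : FiniteDimensional k (V ⧸ N)) :
    ∃ C : Submodule k V, FiniteDimensional k C ∧ N ⊔ C = ⊤ := by
  obtain ⟨Q, hQ⟩ := Submodule.exists_isCompl N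
  have e : (V ⧸ N) ≃ₗ[k] Q := Submodule.quotientEquivOfIsCompl _ _ hQ
  exact ⟨Q, LinearEquiv.finiteDimensional e, hQ.sup_eq_top⟩

end Groth.Agent.Lib.Helper23.Tate
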