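import Groth.Agent.Lib.Helper23.Tate7
import Groth.Agent.Lib.Helper27.LR1

/-! Tate residues on Laurent series: setup. -/

namespace Groth.Agent.Lib.Helper23.Tate

open Module LinearMap LaurentSeries HahnSeries WithZero
open Groth.Agent.Lib.Helper27.LR

universe u w

variable {k : Type u} [Field k] {F : Type w} [Field F] [Algebra k F]

/-- multiplication by `h` as a `k`-linear endomorphism of `F⸨X⸩` (coefficientwise `k`-action). -/
noncomputable def mulL (h : F⸨X⸩) : End k F⸨X⸩ where
  toFun v := h * v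
  map_add' a b := mul_add h a b
  map_smul' c v := by
    show h * (c • v) = c • (h * v)
    rw [← algebraMap_smul F c v, ← algebraMap_smul F c (h * v), ← HahnSeries.C_mul_eq_smul,
      ← HahnSeries.C_mul_eq_smul]
    ring

@[simp] theorem mulL_apply (h v : F⸨X⸩) : mulL (k := k) h v = h * v := rfl

theorem mulL_mul (a b : F⸨X⸩) : mulL (k := k) (a * b) = mulL a * mulL b := by
  ext v; simp [Module.End.mul_apply, mul_assoc]

theorem mulL_add (a b : F⸨X⸩) : mulL (k := k) (a + b) = mulL a + mulL b := by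
  ext v; simp [add_mul]

theorem mulL_one : mulL (k := k) (1 : F⸨X⸩) = 1 := by
  ext v; simp

theorem mulL_zero : mulL (k := k) (0 : F⸨X⸩) = 0 := by
  ext v; simp

theorem mulL_sum {ι : Type*} (s : Finset ι) (a : ι → F⸨X⸩) :
    mulL (k := k) (∑ i ∈ s, a i) = ∑ i ∈ s, mulL (a i) := by
  classical
  induction s using Finset.induction_on with
  | empty => simp [mulL_zero]
  | insert i s hi ih => rw [Finset.sum_insert hi, Finset.sum_insert hi, mulL_add, ih]

theorem mulL_pow (a : F⸨X⸩) (n : ℕ) : mulL (k := k) (a ^ n) = mulL a ^ n := by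
  induction n with
  | zero => simp [mulL_one]
  | succ n ih => rw [pow_succ, pow_succ, mulL_mul, ih]

theorem mulL_commute (a b : F⸨X⸩) : Commute (mulL (k := k) a) (mulL b) := by
  show mulL a * mulL b = mulL b * mulL a
  rw [← mulL_mul, ← mulL_mul, mul_comm]

/-- series with all coefficients below `m` vanishing -/
def OLm (k : Type u) [Field k] {F : Type w} [Field F] [Algebra k F] (m : ℤ) : Submodule k F⸨X⸩ where
  carrier := {h | ∀ n : ℤ, n < m → h.coeff n = 0}
  add_mem' {a b} ha hb n hn := by rw [HahnSeries.coeff_add, ha n hn, hb n hn, add_zero]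
  zero_mem' n _ := rfl
  smul_mem' c a ha n hn := by rw [HahnSeries.coeff_smul, ha n hn, smul_zero]

theorem mem_OLm {m : ℤ} {h : F⸨X⸩} : h ∈ OLm k m ↔ ∀ n : ℤ, n < m → h.coeff n = 0 := Iff.rfl

theorem mem_OLm_iff_val {m : ℤ} {h : F⸨X⸩} : h ∈ OLm k m ↔ Valued.v h ≤ exp (-m) :=
  val_le_exp_iff.symm

theorem mul_mem_OLm {p q : ℤ} {a b : F⸨X⸩} (ha : a ∈ OLm k p) (hb : b ∈ OLm k q) :
    a * b ∈ OLm k (p + q) := by
  rw [mem_OLm_iff_val] at *
  rw [map_mul, neg_add, exp_add]
  exact mul_le_mul' ha hb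

theorem OLm_anti {p q : ℤ} (h : p ≤ q) : OLm k q (F := F) ≤ OLm k p := fun _ ha n hn =>
  ha n (lt_of_lt_of_le hn h)

theorem exists_mem_OLm (h : F⸨X⸩) : ∃ m : ℕ, h ∈ OLm k (-(m : ℤ)) := by
  refine ⟨(-h.order).toNat, fun n hn => ?_⟩
  apply HahnSeries.coeff_eq_zero_of_lt_order
  omega

theorem single_mem_OLm (j : ℤ) (c : F) : HahnSeries.single j c ∈ OLm k j := by
  intro n hn
  rw [HahnSeries.coeff_single, if_neg (by omega)]

/-- power-series part projection -/
noncomputable def π₀ : End k F⸨X⸩ := 1 - HahnSeries.truncLTLinearMap k (0 : ℤ)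

theorem coeff_π₀ (h : F⸨X⸩) (n : ℤ) :
    (π₀ (k := k) h).coeff n = if n < 0 then 0 else h.coeff n := by
  unfold π₀
  rw [LinearMap.sub_apply, Module.End.one_apply, HahnSeries.coeff_sub]
  show h.coeff n - (HahnSeries.truncLT 0 h).coeff n = _
  rw [HahnSeries.coeff_truncLT]
  split_ifs <;> simp

theorem isProj_π₀ : IsProj (OLm k 0) (π₀ (k := k) (F := F)) := by
  constructor
  · intro h n hn
    rw [coeff_π₀, if_pos hn]
  · intro h hh
    ext n
    rw [coeff_π₀]
    split_ifs with hn
    · exact (hh n hn).symm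
    · rfl

/-- polar parts of pole order at most `m`. -/
def PolarL (k : Type u) [Field k] {F : Type w} [Field F] [Algebra k F] (m : ℕ) :
    Submodule k F⸨X⸩ where
  carrier := {h | ∀ n : ℤ, (n < -(m : ℤ) ∨ 0 ≤ n) → h.coeff n = 0}
  add_mem' {a b} ha hb n hn := by rw [HahnSeries.coeff_add, ha n hn, hb n hn, add_zero]
  zero_mem' n _ := rfl
  smul_mem' c a ha n hn := by rw [HahnSeries.coeff_smul, ha n hn, smul_zero]

theorem finiteDimensional_PolarL [FiniteDimensional k F] (m : ℕ) :
    FiniteDimensional k (PolarL k (F := F) m) := by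
  let f : PolarL k (F := F) m →ₗ[k] (Fin m → F) :=
    { toFun := fun h i => (h : F⸨X⸩).coeff (-(i : ℤ) - 1)
      map_add' := fun a b => by ext i; simp
      map_smul' := fun c a => by ext i; simp }
  have hf : Function.Injective f := by
    intro a b hab
    apply Subtype.ext
    ext n
    by_cases hn : n < -(m : ℤ) ∨ 0 ≤ n
    · rw [a.2 n hn, b.2 n hn]
    · push_neg at hn
      have := congrFun hab ⟨(-n - 1).toNat, by omega⟩
      simp only [f, LinearMap.coe_mk, AddHom.coe_mk] at this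
      have e : -(((-n - 1).toNat : ℕ) : ℤ) - 1 = n := by omega
      rwa [e] at this
  exact FiniteDimensional.of_injective f hf

theorem OLm_neg_le [FiniteDimensional k F] (m : ℕ) :
    OLm k (-(m : ℤ)) ≤ OLm k 0 ⊔ PolarL k (F := F) m := by
  intro h hh
  have e : h = π₀ (k := k) h + (h - π₀ (k := k) h) := by abel
  rw [e]
  refine Submodule.add_mem_sup (isProj_π₀.map_mem h) ?_
  intro n hn
  rw [HahnSeries.coeff_sub, coeff_π₀]
  rcases hn with hn | hn
  · rw [if_pos (by omega), hh n hn, sub_zero]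
  · rw [if_neg (by omega), sub_self]

theorem NS_mulL [FiniteDimensional k F] (h : F⸨X⸩) : NS (OLm k 0) (mulL (k := k) h) := by
  obtain ⟨m, hm⟩ := exists_mem_OLm (k := k) h
  refine ⟨PolarL k m, finiteDimensional_PolarL m, ?_⟩
  rintro _ ⟨a, ha, rfl⟩
  apply OLm_neg_le m
  have := mul_mem_OLm hm ha
  rwa [add_zero] at this

theorem mulL_stable {h : F⸨X⸩} (hh : h ∈ OLm k 0) : ∀ a ∈ OLm k 0, mulL (k := k) h a ∈ OLm k 0 := by
  intro a ha
  have := mul_mem_OLm hh ha
  rwa [add_zero] at this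

end Groth.Agent.Lib.Helper23.Tate
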