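import Groth.Agent.Lib.Helper23.Tate8

/-! Tate residues on Laurent series: the local computation. -/

namespace Groth.Agent.Lib.Helper23.Tate

open Module LinearMap LaurentSeries HahnSeries WithZero
open Groth.Agent.Lib.Helper27.LR

universe u w

section abstract

variable {k : Type*} [Field k] {V : Type*} [AddCommGroup V] [Module k V]

theorem res_one_right {A : Submodule k V} {f : End k V} (hf : NS A f) : res A f 1 = 0 := by
  obtain ⟨π, hπ⟩ := exists_isProj A
  rw [res_eq hπ hf (NS.of_stable (fun a ha => ha)) (Commute.one_right f)]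
  have : theta π f 1 = 0 := by unfold theta; simp
  rw [this, ftr_zero]

theorem res_zero_right {A : Submodule k V} {f : End k V} (hf : NS A f) : res A f 0 = 0 := by
  obtain ⟨π, hπ⟩ := exists_isProj A
  rw [res_eq hπ hf (NS.of_stable (fun a _ => by simp)) (Commute.zero_right f)]
  have : theta π f 0 = 0 := by unfold theta; simp
  rw [this, ftr_zero]

theorem res_sum_right {A : Submodule k V} {f : End k V} (hf : NS A f) {ι : Type*}
    (s : Finset ι) (g : ι → End k V) (hg : ∀ i ∈ s, NS A (g i)) (hc : ∀ i ∈ s, Commute f (g i)) :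
    res A f (∑ i ∈ s, g i) = ∑ i ∈ s, res A f (g i) := by
  classical
  induction s using Finset.induction_on with
  | empty => simp [res_zero_right hf]
  | insert i s hi ih =>
    rw [Finset.sum_insert hi, Finset.sum_insert hi]
    have hgs : NS A (∑ j ∈ s, g j) := by
      clear ih hi
      induction s using Finset.induction_on with
      | empty => simp only [Finset.sum_empty]; exact NS.of_stable (fun a _ => by simp)
      | insert j s hj ih2 =>
        rw [Finset.sum_insert hj]
        exact (hg j (by simp)).add (ih2 (fun l hl => hg l (by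
          rcases Finset.mem_insert.mp hl with h | h
          · exact Finset.mem_insert.mpr (Or.inl h)
          · exact Finset.mem_insert.mpr (Or.inr (Finset.mem_insert_of_mem h))))
          (fun l hl => hc l (by
          rcases Finset.mem_insert.mp hl with h | h
          · exact Finset.mem_insert.mpr (Or.inl h)
          · exact Finset.mem_insert.mpr (Or.inr (Finset.mem_insert_of_mem h)))))
    have hcs : Commute f (∑ j ∈ s, g j) :=
      Commute.sum_right _ _ _ (fun j hj => hc j (Finset.mem_insert_of_mem hj))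
    rw [res_add_right hf (hg i (Finset.mem_insert_self i s)) hgs
      (hc i (Finset.mem_insert_self i s)) hcs,
      ih (fun j hj => hg j (Finset.mem_insert_of_mem hj))
        (fun j hj => hc j (Finset.mem_insert_of_mem hj))]

theorem ftr_eq_trace [FiniteDimensional k V] (x : End k V) : ftr x = LinearMap.trace k V x := by
  have hd : IsDatum x ⊤ 0 := ⟨inferInstance, fun _ _ => trivial, fun _ => trivial⟩
  rw [hd.ftr_eq]
  unfold trOn
  let e : (⊤ : Submodule k V) ≃ₗ[k] V := Submodule.topEquiv
  rw [← LinearMap.trace_conj' (x.restrict hd.inv) e]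
  congr 1

theorem isFP_of_finiteDimensional [FiniteDimensional k V] (x : End k V) : IsFP x :=
  ⟨⊤, 0, inferInstance, fun _ _ => trivial, fun _ => trivial⟩

end abstract

variable {k : Type u} [Field k] {F : Type w} [Field F] [Algebra k F] [FiniteDimensional k F]

/-- local Tate residue on Laurent series -/
noncomputable def resL (k : Type u) [Field k] {F : Type w} [Field F] [Algebra k F] (f g : F⸨X⸩) : k :=
  res (OLm k 0) (mulL (k := k) f) (mulL (k := k) g)

theorem resL_eq_zero_of_mem {f g : F⸨X⸩} (hf : f ∈ OLm k 0) (hg : g ∈ OLm k 0) :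
    resL k f g = 0 :=
  res_eq_zero_of_stable (mulL_stable hf) (mulL_stable hg) (mulL_commute f g)

theorem resL_add_right (f g g' : F⸨X⸩) : resL k f (g + g') = resL k f g + resL k f g' := by
  unfold resL
  rw [mulL_add]
  exact res_add_right (NS_mulL f) (NS_mulL g) (NS_mulL g') (mulL_commute f g) (mulL_commute f g')

theorem resL_mul_right (f g h : F⸨X⸩) :
    resL k f (g * h) = resL k (f * g) h + resL k (f * h) g := by
  unfold resL
  rw [mulL_mul, mulL_mul, mulL_mul]
  exact res_mul_right (NS_mulL f) (NS_mulL g) (NS_mulL h) (mulL_commute f g) (mulL_commute f h)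
    (mulL_commute g h)

theorem resL_one_right (f : F⸨X⸩) : resL k f 1 = 0 := by
  unfold resL
  rw [mulL_one]
  exact res_one_right (NS_mulL f)

theorem resL_pow_succ (f t : F⸨X⸩) (n : ℕ) :
    resL k f (t ^ (n + 1)) = ((n + 1 : ℕ) : k) * resL k (f * t ^ n) t := by
  unfold resL
  rw [mulL_pow, mulL_mul, mulL_pow]
  exact res_pow_succ (NS_mulL f) (NS_mulL t) (mulL_commute f t) n

theorem resL_sum_right (f : F⸨X⸩) {ι : Type*} (s : Finset ι) (g : ι → F⸨X⸩) :
    resL k f (∑ i ∈ s, g i) = ∑ i ∈ s, resL k f (g i) := by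
  unfold resL
  rw [mulL_sum]
  exact res_sum_right (NS_mulL f) s _ (fun i _ => NS_mulL (g i)) (fun i _ => mulL_commute f (g i))

theorem π₀_C_mul (b : F) (v : F⸨X⸩) :
    π₀ (k := k) (HahnSeries.C b * v) = HahnSeries.C b * π₀ (k := k) v := by
  ext n
  rw [coeff_π₀, HahnSeries.C_mul_eq_smul, HahnSeries.C_mul_eq_smul, HahnSeries.coeff_smul,
    HahnSeries.coeff_smul, coeff_π₀]
  split_ifs <;> simp

/-- `res (f d b) = 0` for a constant `b`. -/
theorem resL_C_right (f : F⸨X⸩) (b : F) : resL k f (HahnSeries.C b) = 0 := by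
  unfold resL
  rw [res_eq (isProj_π₀ (k := k)) (NS_mulL f) (NS_mulL _) (mulL_commute _ _)]
  have : theta (π₀ (k := k)) (mulL f) (mulL (HahnSeries.C b)) = 0 := by
    ext v
    rw [theta_apply]
    simp only [mulL_apply]
    rw [← π₀_C_mul, ← mul_assoc, ← mul_assoc, mul_comm f, sub_self]
    rfl
  rw [this, ftr_zero]

/-- the constants as a `k`-linear map. -/
noncomputable def Clin (k : Type u) [Field k] (F : Type w) [Field F] [Algebra k F] :
    F →ₗ[k] F⸨X⸩ where
  toFun c := HahnSeries.C c
  map_add' a b := map_add _ a b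
  map_smul' c a := by
    show HahnSeries.C (c • a) = c • HahnSeries.C a
    ext n
    rw [HahnSeries.coeff_smul]
    simp only [HahnSeries.C_apply, HahnSeries.coeff_single]
    split_ifs <;> simp

/-- coefficient of `X⁻¹` in `h v` as a linear map in `v` -/
noncomputable def cfm (k : Type u) [Field k] {F : Type w} [Field F] [Algebra k F] (h : F⸨X⸩) :
    F⸨X⸩ →ₗ[k] F where
  toFun v := (h * v).coeff (-1)
  map_add' a b := by rw [mul_add, HahnSeries.coeff_add]
  map_smul' c a := by
    show (h * (c • a)).coeff (-1) = c • (h * a).coeff (-1)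
    have := (mulL (k := k) h).map_smul c a
    simp only [mulL_apply] at this
    rw [this, HahnSeries.coeff_smul]

theorem theta_T (h : F⸨X⸩) :
    theta (π₀ (k := k)) (mulL h) (mulL (HahnSeries.single 1 (1 : F))) = Clin k F ∘ₗ cfm k h := by
  ext v n
  rw [theta_apply]
  simp only [mulL_apply, LinearMap.comp_apply]
  show (π₀ (k := k) (h * (single 1 1 * v)) - single 1 1 * π₀ (k := k) (h * v)).coeff n =
    (HahnSeries.C ((h * v).coeff (-1))).coeff n
  have e : h * (single 1 (1 : F) * v) = single 1 1 * (h * v) := by ring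
  rw [HahnSeries.coeff_sub, e, coeff_π₀, HahnSeries.coeff_single_mul, HahnSeries.coeff_single_mul,
    coeff_π₀, HahnSeries.C_apply, HahnSeries.coeff_single, one_mul, one_mul]
  by_cases h0 : n = 0
  · subst h0
    simp
  · rw [if_neg h0]
    by_cases h1 : n < 0
    · rw [if_pos h1, if_pos (by omega), sub_self]
    · rw [if_neg h1, if_neg (by omega), sub_self]

/-- `res (h dX) = Tr (h₋₁)`. -/
theorem resL_T (h : F⸨X⸩) :
    resL k h (HahnSeries.single 1 (1 : F)) = Algebra.trace k F (h.coeff (-1)) := by
  unfold resL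
  rw [res_eq (isProj_π₀ (k := k)) (NS_mulL h) (NS_mulL _) (mulL_commute _ _), theta_T]
  have hfp : IsFP (cfm k h ∘ₗ Clin k F : End k F) := isFP_of_finiteDimensional _
  rw [(ftr_comp_comm (cfm k h) (Clin k F) hfp).2, ftr_eq_trace, Algebra.trace_apply]
  congr 1
  ext c
  show (h * HahnSeries.C c).coeff (-1) = h.coeff (-1) * c
  rw [HahnSeries.C_apply, HahnSeries.coeff_mul_single, sub_zero]

end Groth.Agent.Lib.Helper23.Tate
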