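import Groth.Agent.Lib.Helper23.Tate13

/-! Local facts for the Weil differential attached to `u dv` by residues. -/

namespace Groth.Agent.Lib.Helper23.Tate

open Module LinearMap FunFld LaurentSeries HahnSeries WithZero
open Groth.Agent.Lib.Helper27.FF
open Groth.Agent.Lib.Helper27.LR

universe u v w

variable {k : Type u} {K : Type v} [Field k] [Field K] [Algebra k K]
  {F : Type w} [Field F] [Algebra k F]

theorem locRes_mul_eq (φ : K →ₐ[k] F⸨X⸩) (a u v : K) :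
    LocRes.locRes φ (a * u) v =
      Algebra.trace k F ((φ a * (φ u * LocRes.D F (φ v))).coeff (-1)) := by
  unfold LocRes.locRes LocRes.resExp
  rw [LocRes.res_apply, map_mul, mul_assoc]

/-- `a ↦ Res (a u dv)` as a linear functional. -/
noncomputable def rlin (φ : K →ₐ[k] F⸨X⸩) (u v : K) : K →ₗ[k] k where
  toFun a := LocRes.locRes φ (a * u) v
  map_add' a b := by
    rw [locRes_mul_eq, locRes_mul_eq, locRes_mul_eq, map_add, add_mul, HahnSeries.coeff_add, map_add]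
  map_smul' c a := by
    rw [locRes_mul_eq, locRes_mul_eq, RingHom.id_apply]
    have : φ (c • a) = c • φ a := (φlin φ).map_smul c a
    have h2 : ∀ W : F⸨X⸩, (c • φ a) * W = c • (φ a * W) := fun W => by
      rw [mul_comm, ← mulL_apply (k := k), map_smul, mulL_apply, mul_comm]
    rw [this, h2, HahnSeries.coeff_smul, map_smul]

@[simp] theorem rlin_apply (φ : K →ₐ[k] F⸨X⸩) (u v a : K) :
    rlin φ u v a = LocRes.locRes φ (a * u) v := rfl

theorem exists_coeff_eq (P : Place k K) (φ : K →ₐ[k] F⸨X⸩) (hφ : LocRes.IsExpansionAt P.1 φ)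
    (m : ℤ) (b : F) : ∃ a : K, φ a ∈ OLm k m ∧ (φ a).coeff m = b := by
  obtain ⟨hval, hsurj, t, ht⟩ := hφ
  set s : K := t ^ m with hs
  have hsval : Valued.v (φ s) = exp (-m) := by
    rw [hval, hs, map_zpow₀, ht, ← WithZero.exp_zsmul]
    congr 1
    simp
  obtain ⟨hs1, hs2⟩ := val_eq_exp_iff.mp hsval
  obtain ⟨x₀, hx₀, hx₀c⟩ := hsurj (b / (φ s).coeff m)
  have hx₀mem : φ x₀ ∈ OLm k 0 := by
    rw [mem_OLm_iff_val, neg_zero, exp_zero, hval]; exact hx₀
  refine ⟨x₀ * s, ?_, ?_⟩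
  · rw [map_mul]
    have := mul_mem_OLm (k := k) hx₀mem (show φ s ∈ OLm k m from hs1)
    rwa [zero_add] at this
  · rw [map_mul]
    have := coeff_mul_of_mem_OLm (k := k) hx₀mem (show φ s ∈ OLm k m from hs1)
    rw [zero_add] at this
    rw [this, hx₀c, div_mul_cancel₀ _ hs2]

theorem vDiff_ne_zero_of (φ : K →ₐ[k] F⸨X⸩) {u v : K} (hu : u ≠ 0)
    (hne : ∃ y : K, LocRes.locRes φ y v ≠ 0) : LocRes.vDiff φ u v ≠ 0 := by
  unfold LocRes.vDiff
  rw [Ne, map_eq_zero, mul_eq_zero, not_or]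
  refine ⟨fun h => hu ((map_eq_zero_iff φ φ.toRingHom.injective).mp h), fun h => ?_⟩
  obtain ⟨y, hy⟩ := hne
  apply hy
  unfold LocRes.locRes LocRes.resExp
  rw [h, mul_zero, map_zero, map_zero]

theorem val_w_eq (φ : K →ₐ[k] F⸨X⸩) {u v : K} (h0 : LocRes.vDiff φ u v ≠ 0) :
    Valued.v (φ u * LocRes.D F (φ v)) = exp (-(LocRes.ordDiff φ u v)) := by
  unfold LocRes.ordDiff
  rw [neg_neg, WithZero.exp_log h0]
  rfl

/-- vanishing of the local functional on elements of order `≥ -ord (u dv)`. -/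
theorem rlin_eq_zero_of_val_le (P : Place k K) (φ : K →ₐ[k] F⸨X⸩)
    (hφ : LocRes.IsExpansionAt P.1 φ) {u v : K} (h0 : LocRes.vDiff φ u v ≠ 0) {a : K}
    (ha : P.1 a ≤ exp (LocRes.ordDiff φ u v)) : rlin φ u v a = 0 := by
  rw [rlin_apply, locRes_mul_eq]
  have h1 : Valued.v (φ a * (φ u * LocRes.D F (φ v))) ≤ 1 := by
    rw [map_mul, val_w_eq φ h0, hφ.1]
    calc P.1 a * exp (-(LocRes.ordDiff φ u v))
        ≤ exp (LocRes.ordDiff φ u v) * exp (-(LocRes.ordDiff φ u v)) := mul_le_mul' ha le_rfl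
      _ = 1 := by rw [← WithZero.exp_add, add_neg_cancel, WithZero.exp_zero]
  have := res_eq_zero_of_val_le_one h1
  rw [LocRes.res_apply] at this
  rw [this, map_zero]

variable [FiniteDimensional k F]

/-- nonvanishing of the local functional one step further. -/
theorem exists_rlin_ne_zero (P : Place k K) (φ : K →ₐ[k] F⸨X⸩)
    (hφ : LocRes.IsExpansionAt P.1 φ) {u v : K} (hu : u ≠ 0)
    (hne : ∃ y : K, LocRes.locRes φ y v ≠ 0) :
    ∃ a : K, P.1 a ≤ exp (LocRes.ordDiff φ u v + 1) ∧ rlin φ u v a ≠ 0 := by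
  have h0 := vDiff_ne_zero_of φ hu hne
  set c := LocRes.ordDiff φ u v with hc
  set wS : F⸨X⸩ := φ u * LocRes.D F (φ v) with hw
  obtain ⟨hw1, hw2⟩ := val_eq_exp_iff.mp (val_w_eq φ h0)
  obtain ⟨y, hy⟩ := hne
  set b₀ : F := (φ y * LocRes.D F (φ v)).coeff (-1) with hb₀
  have hb₀tr : Algebra.trace k F b₀ ≠ 0 := by
    unfold LocRes.locRes LocRes.resExp at hy
    rw [LocRes.res_apply] at hy
    exact hy
  obtain ⟨a, ha1, ha2⟩ := exists_coeff_eq (k := k) P φ hφ (-(c + 1)) (b₀ / wS.coeff c)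
  refine ⟨a, ?_, ?_⟩
  · rw [← hφ.1, ← neg_neg (c + 1)]
    exact mem_OLm_iff_val.mp ha1
  · rw [rlin_apply, locRes_mul_eq]
    have := coeff_mul_of_mem_OLm (k := k) ha1 (show wS ∈ OLm k c from hw1)
    have e : -(c + 1) + c = -1 := by ring
    rw [e] at this
    rw [this, ha2, div_mul_cancel₀ _ hw2]
    exact hb₀tr

end Groth.Agent.Lib.Helper23.Tate
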