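import Groth.Agent.Lib.Helper23.TateW1

/-! The Weil differential attached to `u dv` by residues, and its divisor. -/

namespace Groth.Agent.Lib.Helper23.Tate

open Module LinearMap FunFld LaurentSeries HahnSeries WithZero
open Groth.Agent.Lib.Helper27.FF
open Groth.Agent.Lib.Helper27.LR

universe u v w

variable {k : Type u} {K : Type v} [Field k] [Field K] [Algebra k K]

theorem val_le_one_of_ord_eq_zero (x : K) (P : Place k K) (h0 : P.ord x = 0) : P.1 x ≤ 1 := by
  by_cases hx : x = 0
  · rw [hx, map_zero]; exact zero_le_one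
  · rw [val_eq_exp_neg_ord P hx, h0, neg_zero, WithZero.exp_zero]

variable (C : Core k K) (F : Place k K → Type w) [∀ P, Field (F P)] [∀ P, Algebra k (F P)]
  [∀ P, FiniteDimensional k (F P)]
  (φ : ∀ P, K →ₐ[k] LaurentSeries (F P)) (hφ : ∀ P, LocRes.IsExpansionAt P.1 (φ P))

include C hφ in
/-- The residue theorem (library form). -/
theorem finsum_locRes_eq_zero (u v : K) :
    (Function.support fun P => LocRes.locRes (φ P) u v).Finite ∧
      ∑ᶠ P, LocRes.locRes (φ P) u v = 0 := by
  classical
  have hloc : ∀ P, LocRes.locRes (φ P) u v = resP P u v := fun P =>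
    (resP_eq_locRes C P (φ P) (hφ P) u v).symm
  have hfu := C.finite_support u
  have hfv := C.finite_support v
  set S : Finset (Place k K) := hfu.toFinset ∪ hfv.toFinset with hS
  have hout : ∀ P ∉ S, P.1 u ≤ 1 ∧ P.1 v ≤ 1 := by
    intro P hP
    rw [hS, Finset.mem_union, not_or] at hP
    constructor
    · apply val_le_one_of_ord_eq_zero
      by_contra h
      exact hP.1 (hfu.mem_toFinset.mpr h)
    · apply val_le_one_of_ord_eq_zero
      by_contra h
      exact hP.2 (hfv.mem_toFinset.mpr h)
  have hsupp : (Function.support fun P => LocRes.locRes (φ P) u v) ⊆ ↑S := by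
    intro P hP
    by_contra hPS
    apply hP
    show LocRes.locRes (φ P) u v = 0
    rw [hloc]
    exact resP_eq_zero (hout P hPS).1 (hout P hPS).2
  refine ⟨S.finite_toSet.subset hsupp, ?_⟩
  rw [finsum_eq_sum_of_support_subset _ hsupp]
  simp only [hloc]
  exact sum_resP_eq_zero C u v S hout

include C hφ in
theorem finite_support_rlin (u v : K) (a : adele k K) :
    (Function.support fun P => rlin (φ P) u v ((a : Place k K → K) P)).Finite := by
  have ha := mem_adele_iff.mp a.2
  have hfu := C.finite_support u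
  have hfv := C.finite_support v
  refine ((ha.union hfu).union hfv).subset ?_
  intro P hP
  by_contra hcon
  apply hP
  simp only [Set.mem_union, not_or] at hcon
  obtain ⟨⟨h1, h2⟩, h3⟩ := hcon
  have h1' : P.1 ((a : Place k K → K) P) ≤ 1 := by
    by_contra h; exact h1 h
  have h2' : P.1 u ≤ 1 := by
    apply val_le_one_of_ord_eq_zero
    by_contra h; exact h2 h
  have h3' : P.1 v ≤ 1 := by
    apply val_le_one_of_ord_eq_zero
    by_contra h; exact h3 h
  show rlin (φ P) u v ((a : Place k K → K) P) = 0
  rw [rlin_apply, ← resP_eq_locRes C P (φ P) (hφ P)]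
  refine resP_eq_zero ?_ h3'
  rw [map_mul]
  exact (mul_le_mul' h1' h2').trans_eq (one_mul _)

/-- the functional `a ↦ ∑_P Res_P (a_P u dv)` -/
noncomputable def omegaRes (u v : K) : Module.Dual k (adele k K) where
  toFun a := ∑ᶠ P, rlin (φ P) u v ((a : Place k K → K) P)
  map_add' a b := by
    have := finsum_add_distrib (finite_support_rlin C F φ hφ u v a) (finite_support_rlin C F φ hφ u v b)
    rw [← this]
    refine finsum_congr (fun P => ?_)
    show rlin (φ P) u v (((a : Place k K → K) + (b : Place k K → K)) P) = _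
    rw [Pi.add_apply, map_add]
  map_smul' c a := by
    rw [RingHom.id_apply, smul_finsum' c (finite_support_rlin C F φ hφ u v a)]
    refine finsum_congr (fun P => ?_)
    show rlin (φ P) u v ((c • (a : Place k K → K)) P) = _
    rw [Pi.smul_apply, map_smul]

theorem omegaRes_apply (u v : K) (a : adele k K) :
    omegaRes C F φ hφ u v a = ∑ᶠ P, LocRes.locRes (φ P) ((a : Place k K → K) P * u) v := rfl

theorem omegaRes_diag (u v x : K) : omegaRes C F φ hφ u v (diagA C x) = 0 := by
  rw [omegaRes_apply]
  exact (finsum_locRes_eq_zero C F φ hφ (x * u) v).2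

theorem omegaRes_single (u v : K) (P : Place k K) (a : K) :
    omegaRes C F φ hφ u v (singleA P a) = rlin (φ P) u v a := by
  classical
  show ∑ᶠ Q, rlin (φ Q) u v ((singleA P a : Place k K → K) Q) = _
  rw [finsum_eq_single _ P]
  · rw [singleA_apply, if_pos rfl]
  · intro Q hQ
    rw [singleA_apply, if_neg hQ, map_zero]

/-- vanishing on repartitions bounded by the orders of `u dv`. -/
theorem omegaRes_eq_zero_of_le (u v : K) (h0 : ∀ P, LocRes.vDiff (φ P) u v ≠ 0) (a : adele k K)
    (ha : ∀ P : Place k K, P.1 ((a : Place k K → K) P) ≤ exp (LocRes.ordDiff (φ P) u v)) :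
    omegaRes C F φ hφ u v a = 0 := by
  show ∑ᶠ P, rlin (φ P) u v ((a : Place k K → K) P) = 0
  rw [finsum_eq_zero_of_forall_eq_zero]
  intro P
  exact rlin_eq_zero_of_val_le P (φ P) (hφ P) (h0 P) (ha P)

end Groth.Agent.Lib.Helper23.Tate
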