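import Groth.Agent.Lib.Helper23.TateW2

/-! The Weil differential attached to `u dv` by residues: it is a nonzero Weil differential with
divisor `(u dv)`. -/

namespace Groth.Agent.Lib.Helper23.Tate

open Module LinearMap FunFld LaurentSeries HahnSeries WithZero
open Groth.Agent.Lib.Helper27.FF
open Groth.Agent.Lib.Helper27.LR

universe u v w

variable {k : Type u} {K : Type v} [Field k] [Field K] [Algebra k K]

variable (C : Core k K) (F : Place k K → Type w) [∀ P, Field (F P)] [∀ P, Algebra k (F P)]
  [∀ P, FiniteDimensional k (F P)]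
  (φ : ∀ P, K →ₐ[k] LaurentSeries (F P)) (hφ : ∀ P, LocRes.IsExpansionAt P.1 (φ P))

include C in
theorem weil_of_residues (u v : K) (hu : u ≠ 0)
    (hne : ∀ P, ∃ y : K, LocRes.locRes (φ P) y v ≠ 0) :
    IsWeil (omegaRes C F φ hφ u v) ∧ omegaRes C F φ hφ u v ≠ 0 ∧
      (Function.support fun P => LocRes.ordDiff (φ P) u v).Finite ∧
      ∀ Cd : Divisor k K, (∀ P, Cd P = LocRes.ordDiff (φ P) u v) →
        IsDivOf (omegaRes C F φ hφ u v) Cd := by
  classical
  set ω := omegaRes C F φ hφ u v with hω
  set c : Place k K → ℤ := fun P => LocRes.ordDiff (φ P) u v with hc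
  have h0 : ∀ P, LocRes.vDiff (φ P) u v ≠ 0 := fun P => vDiff_ne_zero_of (φ P) hu (hne P)
  -- a lower bound divisor
  have hfu := C.finite_support u
  have hfv := C.finite_support v
  set S : Finset (Place k K) := hfu.toFinset ∪ hfv.toFinset with hS
  have hout : ∀ P ∉ S, P.1 u ≤ 1 ∧ P.1 v ≤ 1 := by
    intro P hP
    rw [hS, Finset.mem_union, not_or] at hP
    constructor
    · apply val_le_one_of_ord_eq_zero
      by_contra h
      exact hP.1 (hfu.mem_toFinset.mpr h)
    · apply val_le_one_of_ord_eq_zero
      by_contra h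
      exact hP.2 (hfv.mem_toFinset.mpr h)
  have hc_nonneg : ∀ P ∉ S, 0 ≤ c P := by
    intro P hP
    have h1 : Valued.v (φ P u * LocRes.D (F P) (φ P v)) ≤ 1 := by
      rw [map_mul]
      have e1 : Valued.v (φ P u) ≤ 1 := by rw [(hφ P).1]; exact (hout P hP).1
      have e2 : Valued.v (LocRes.D (F P) (φ P v)) ≤ 1 :=
        val_D_le_one (by rw [(hφ P).1]; exact (hout P hP).2)
      exact (mul_le_mul' e1 e2).trans_eq (one_mul _)
    rw [val_w_eq (φ P) (h0 P), ← WithZero.exp_zero, WithZero.exp_le_exp] at h1
    show 0 ≤ LocRes.ordDiff (φ P) u v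
    omega
  set D₀ : Divisor k K := Finsupp.onFinset S (fun P => if P ∈ S then min (c P) 0 else 0)
    (fun P hP => by by_contra h; rw [if_neg h] at hP; exact hP rfl) with hD₀
  have hD₀le : ∀ P, D₀ P ≤ c P := by
    intro P
    rw [hD₀, Finsupp.onFinset_apply]
    split_ifs with hP
    · exact min_le_left _ _
    · exact hc_nonneg P hP
  -- vanishing on `A(E)` for `E ≤ c`
  have hvan : ∀ (E : Divisor k K), (∀ P, E P ≤ c P) → ω ∈ WD E := by
    intro E hE
    rw [mem_WD_iff]
    intro a ha
    rw [Submodule.mem_sup] at ha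
    obtain ⟨b, hb, _, ⟨x, rfl⟩, e⟩ := ha
    have hbA : b ∈ adele k K := AD_le_adele E hb
    have : a = (⟨b, hbA⟩ : adele k K) + diagA C x := Subtype.ext e.symm
    rw [this, map_add, hω, omegaRes_diag, add_zero]
    apply omegaRes_eq_zero_of_le C F φ hφ u v h0
    intro P
    exact (hb P).trans (WithZero.exp_le_exp.mpr (hE P))
  have hweil : IsWeil ω := ⟨D₀, hvan D₀ hD₀le⟩
  -- nonvanishing
  have hnv : ∀ P, ∃ a : K, P.1 a ≤ exp (c P + 1) ∧ ω (singleA P a) ≠ 0 := by
    intro P
    obtain ⟨a, ha1, ha2⟩ := exists_rlin_ne_zero (k := k) P (φ P) (hφ P) hu (hne P)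
    refine ⟨a, ha1, ?_⟩
    rw [hω, omegaRes_single]
    exact ha2
  have hne0 : ω ≠ 0 := by
    obtain ⟨P⟩ := C.exists_place
    obtain ⟨a, _, ha⟩ := hnv P
    intro h
    apply ha
    rw [h]; rfl
  obtain ⟨W, hW⟩ := C.exists_isDivOf hweil hne0
  have hWmem : ω ∈ WD W := (hW W).mpr le_rfl
  have hWc : ∀ P, W P = c P := by
    intro P
    apply le_antisymm
    · by_contra hlt
      rw [not_le] at hlt
      obtain ⟨a, ha1, ha2⟩ := hnv P
      apply ha2
      rw [mem_WD_iff] at hWmem
      apply hWmem
      refine Submodule.mem_sup_left ?_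
      intro Q
      rw [singleA_apply]
      split_ifs with hQ
      · subst hQ
        exact ha1.trans (WithZero.exp_le_exp.mpr (by omega))
      · rw [map_zero]; exact zero_le' 
    · by_contra hlt
      rw [not_le] at hlt
      have hE : ω ∈ WD (W + Finsupp.single P 1) := by
        rw [mem_WD_iff]
        intro a ha
        rw [Submodule.mem_sup] at ha
        obtain ⟨b, hb, _, ⟨x, rfl⟩, e⟩ := ha
        have hbA : b ∈ adele k K := AD_le_adele _ hb
        have e1 : a = (⟨b, hbA⟩ : adele k K) + diagA C x := Subtype.ext e.symm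
        rw [e1, map_add, hω, omegaRes_diag, add_zero, ← hω]
        -- split off the component at `P`
        set b' : Place k K → K := Function.update b P 0 with hb'
        have hb'W : b' ∈ AD W := by
          intro Q
          by_cases hQ : Q = P
          · subst hQ
            rw [hb', Function.update_self, map_zero]; exact zero_le' 
          · rw [hb', Function.update_of_ne hQ]
            have := hb Q
            rwa [Finsupp.add_apply, Finsupp.single_apply, if_neg (Ne.symm hQ), add_zero] at this
        have hb'A : b' ∈ adele k K := AD_le_adele _ hb'W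
        have e2 : (⟨b, hbA⟩ : adele k K) = ⟨b', hb'A⟩ + singleA P (b P) := by
          apply Subtype.ext
          funext Q
          show b Q = b' Q + (singleA P (b P) : Place k K → K) Q
          rw [singleA_apply]
          by_cases hQ : Q = P
          · subst hQ
            rw [if_pos rfl, hb', Function.update_self, zero_add]
          · rw [if_neg hQ, hb', Function.update_of_ne hQ, add_zero]
        rw [e2, map_add]
        have z1 : ω ⟨b', hb'A⟩ = 0 := by
          rw [mem_WD_iff] at hWmem
          exact hWmem _ (Submodule.mem_sup_left hb'W)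
        have z2 : ω (singleA P (b P)) = 0 := by
          rw [hω, omegaRes_single]
          apply rlin_eq_zero_of_val_le P (φ P) (hφ P) (h0 P)
          have := hb P
          rw [Finsupp.add_apply, Finsupp.single_apply, if_pos rfl] at this
          exact this.trans (WithZero.exp_le_exp.mpr (by show W P + 1 ≤ c P; omega))
        rw [z1, z2, add_zero]
      have := (hW _).mp hE P
      rw [Finsupp.add_apply, Finsupp.single_apply, if_pos rfl] at this
      omega
  refine ⟨hweil, hne0, ?_, ?_⟩
  · refine W.support.finite_toSet.subset ?_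
    intro P hP
    rw [Finset.mem_coe, Finsupp.mem_support_iff, hWc]
    exact hP
  · intro Cd hCd
    have : Cd = W := by
      ext P
      rw [hCd, hWc]
    rw [this]
    exact hW

end Groth.Agent.Lib.Helper23.Tate
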