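import Groth.Agent.Lib.Helper23.TateW3
import Groth.Agent.S12590

/-! The divisor of a differential `u dv` (read through expansions) is canonical. -/

namespace Groth.Agent.Lib.Helper23.Tate

open Module LinearMap FunFld LaurentSeries HahnSeries WithZero
open Groth.Agent.Lib.Helper27.FF
open Groth.Agent.Lib.Helper27.LR

universe u v w

variable {k : Type u} {K : Type v} [Field k] [Field K] [Algebra k K]

/-- The divisor `(u dv)` read through a family of expansions is a genuine divisor and is canonical. -/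
theorem exists_canonical_of_expansions (hK : IsFunctionField k K) (hg : IsGeometric k K)
    (F : Place k K → Type w) [∀ P, Field (F P)] [∀ P, Algebra k (F P)]
    [∀ P, FiniteDimensional k (F P)]
    (φ : ∀ P, K →ₐ[k] LaurentSeries (F P)) (hφ : ∀ P, LocRes.IsExpansionAt P.1 (φ P))
    (u v : K) (hu : u ≠ 0) (hv : KaehlerDifferential.D k K v ≠ 0) :
    ∃ W : Divisor k K, (∀ P, W P = LocRes.ordDiff (φ P) u v) ∧ IsCanonical k K W ∧
      (∀ P, LocRes.vDiff (φ P) u v ≠ 0) := by
  have C := core_of hK
  have hne : ∀ P, ∃ y : K, LocRes.locRes (φ P) y v ≠ 0 := fun P =>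
    Groth.Agent.S12590.result k K hK hg P (F P) (φ P) (hφ P) v hv
  obtain ⟨_, h2, h3, h4⟩ := weil_of_residues C F φ hφ u v hu hne
  set W : Divisor k K := Finsupp.ofSupportFinite _ h3 with hW
  have hWP : ∀ P, W P = LocRes.ordDiff (φ P) u v := fun P => rfl
  exact ⟨W, hWP, ⟨_, h2, h4 W hWP⟩, fun P => vDiff_ne_zero_of (φ P) hu (hne P)⟩

end Groth.Agent.Lib.Helper23.Tate
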