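import Mathlib
import Groth.Prelude.Def_CohB1
import Groth.Agent.Lib.Helper12.JacSupport

/-!
# Helper library (helper23): a closed point of the support at which the stalk has the dimension
of the support.
-/

set_option autoImplicit false
universe u
open AlgebraicGeometry CategoryTheory

namespace Groth.Agent.Lib.Helper23.TopSupp

open Groth.Agent.Lib.Helper12 Groth.Agent.Lib.Helper12.JacLocalDim

variable {X : Scheme.{u}}

/-- In a quasi-compact scheme, a closed subset `Y` of finite dimension `a` contains a closed
point `x` such that the generizations of `x` in `Y` form a space of dimension `a`. -/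
theorem exists_closed_generizations_dim [CompactSpace X] (Y : Set X) (hY : IsClosed Y) (a : ℕ)
    (hdim : topologicalKrullDim ↥Y = a) :
    ∃ x : X, IsClosed ({x} : Set X) ∧ x ∈ Y ∧
      topologicalKrullDim ↥{t : X | t ∈ Y ∧ t ⤳ x} = a := by
  rw [ClosedDim.topologicalKrullDim_eq_krullDim_of_isLocallyClosed _ hY.isLocallyClosed] at hdim
  obtain ⟨l, hl⟩ := (Order.le_krullDim_iff (α := ↥Y) (n := a)).mp (le_of_eq hdim.symm)
  -- the head of the series is a closed point
  obtain ⟨x0, hx0, hx0c⟩ := (isClosed_closure (s := ({l.head.1} : Set X))).exists_closed_singleton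
    ⟨l.head.1, subset_closure rfl⟩
  have hsp : l.head.1 ⤳ x0 := specializes_iff_mem_closure.mpr hx0
  have hx0Y : x0 ∈ Y := hsp.mem_closed hY l.head.2
  have hhead : l.head.1 = x0 := by
    by_contra hne
    have hlt : (⟨x0, hx0Y⟩ : ↥Y) < l.head := by
      refine lt_of_le_not_ge (show x0 ≤ l.head.1 from hsp) ?_
      intro hle
      have h1 : x0 ⤳ l.head.1 := hle
      have h2 : l.head.1 ∈ closure ({x0} : Set X) := specializes_iff_mem_closure.mp h1
      rw [hx0c.closure_eq] at h2
      exact hne h2
    have h3 := Order.LTSeries.length_le_krullDim (l.cons ⟨x0, hx0Y⟩ hlt)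
    rw [hdim] at h3
    have h4 : (l.cons ⟨x0, hx0Y⟩ hlt).length = a + 1 := by
      simp [hl]
    rw [h4] at h3
    have : ((a + 1 : ℕ) : WithBot ℕ∞) ≤ (a : WithBot ℕ∞) := h3
    have h5 : (a + 1 : ℕ) ≤ a := by exact_mod_cast this
    omega
  refine ⟨x0, hx0c, hx0Y, ?_⟩
  haveI := quasiSober_generizations Y hY x0
  rw [topologicalKrullDim_eq_krullDim_of_quasiSober {t : X | t ∈ Y ∧ t ⤳ x0}]
  apply le_antisymm
  · rw [← hdim]
    exact Order.krullDim_le_of_strictMono
      (fun w : ↥{t : X | t ∈ Y ∧ t ⤳ x0} => (⟨w.1, w.2.1⟩ : ↥Y)) (fun _ _ h => h)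
  · let l' : LTSeries ↥{t : X | t ∈ Y ∧ t ⤳ x0} :=
      { length := l.length
        toFun := fun i => ⟨(l i).1, (l i).2, by
          have h1 : l.head ≤ l i := l.head_le i
          have h2 : (l i).1 ⤳ l.head.1 := h1
          rw [hhead] at h2
          exact h2⟩
        step := fun i => l.step i }
    have := Order.LTSeries.length_le_krullDim l'
    rw [show l'.length = a from hl] at this
    exact this

/-- A quasi-coherent module of finite type on a quasi-compact scheme whose support has finite
dimension `a` has a closed point in its support at which the stalk has dimension `a`. -/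
theorem exists_closed_supportDim [CompactSpace X] (F : X.Modules) [F.IsQuasicoherent]
    (hcl : IsClosed (CohB1.support F)) (a : ℕ)
    (hdim : topologicalKrullDim ↥(CohB1.support F) = a) :
    ∃ x : X, IsClosed ({x} : Set X) ∧ x ∈ CohB1.support F ∧
      Module.supportDim (X.presheaf.stalk x) (F.presheaf.stalk x) = a := by
  obtain ⟨x, hx, hxY, h⟩ := exists_closed_generizations_dim (CohB1.support F) hcl a hdim
  exact ⟨x, hx, hxY, (supportDim_stalk_eq F hcl x).trans h⟩

end Groth.Agent.Lib.Helper23.TopSupp
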