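import Mathlib

/-!
# Stupid quotient truncation of cochain complexes indexed by `ℤ`

`tr n K` keeps the degrees `≤ n` of `K` and puts `0` elsewhere; it is a quotient of `K`.
-/

set_option autoImplicit false
universe v u
open CategoryTheory CategoryTheory.Limits ZeroObject

noncomputable section

namespace Groth.Agent.Lib.Helper23.TotQis

variable {V : Type u} [Category.{v} V] [HasZeroMorphisms V] [HasZeroObject V]

/-- The terms of the truncation. -/
def trX (n : ℤ) (K : CochainComplex V ℤ) (i : ℤ) : V := if i ≤ n then K.X i else 0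

/-- In degrees `≤ n` the truncation agrees with `K`. -/
def trXIso (n : ℤ) (K : CochainComplex V ℤ) {i : ℤ} (h : i ≤ n) : trX n K i ≅ K.X i :=
  eqToIso (if_pos h)

lemma isZero_trX (n : ℤ) (K : CochainComplex V ℤ) {i : ℤ} (h : ¬ i ≤ n) : IsZero (trX n K i) := by
  unfold trX
  rw [if_neg h]
  exact isZero_zero V

/-- The differential of the truncation. -/
def trD (n : ℤ) (K : CochainComplex V ℤ) (i j : ℤ) : trX n K i ⟶ trX n K j :=
  if h : i ≤ n ∧ j ≤ n then (trXIso n K h.1).hom ≫ K.d i j ≫ (trXIso n K h.2).inv else 0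

lemma trD_eq (n : ℤ) (K : CochainComplex V ℤ) {i j : ℤ} (hi : i ≤ n) (hj : j ≤ n) :
    trD n K i j = (trXIso n K hi).hom ≫ K.d i j ≫ (trXIso n K hj).inv :=
  dif_pos ⟨hi, hj⟩

lemma trD_eq_zero (n : ℤ) (K : CochainComplex V ℤ) {i j : ℤ} (h : ¬ j ≤ n) :
    trD n K i j = 0 :=
  dif_neg (fun h' => h h'.2)

/-- The stupid truncation `σ_{≤ n} K`, as a quotient of `K`. -/
def tr (n : ℤ) (K : CochainComplex V ℤ) : CochainComplex V ℤ where
  X := trX n K
  d := trD n K
  shape i j hij := by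
    by_cases h : i ≤ n ∧ j ≤ n
    · rw [trD_eq n K h.1 h.2, K.shape i j hij, zero_comp, comp_zero]
    · exact dif_neg h
  d_comp_d' i j k _ _ := by
    by_cases hk : k ≤ n
    · by_cases hj : j ≤ n
      · by_cases hi : i ≤ n
        · rw [trD_eq n K hi hj, trD_eq n K hj hk]
          simp
        · exact (isZero_trX n K hi).eq_of_src _ _
      · rw [show trD n K i j = 0 from trD_eq_zero n K hj, zero_comp]
    · rw [show trD n K j k = 0 from trD_eq_zero n K hk, comp_zero]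

lemma tr_d_eq (n : ℤ) (K : CochainComplex V ℤ) {i j : ℤ} (hi : i ≤ n) (hj : j ≤ n) :
    (tr n K).d i j = (trXIso n K hi).hom ≫ K.d i j ≫ (trXIso n K hj).inv :=
  trD_eq n K hi hj

lemma tr_d_eq_zero (n : ℤ) (K : CochainComplex V ℤ) {i j : ℤ} (h : ¬ j ≤ n) :
    (tr n K).d i j = 0 :=
  trD_eq_zero n K h

/-- `(tr n K).X i ≅ K.X i` for `i ≤ n`. -/
def trIso (n : ℤ) (K : CochainComplex V ℤ) {i : ℤ} (h : i ≤ n) : (tr n K).X i ≅ K.X i :=
  trXIso n K h

lemma isZero_tr_X (n : ℤ) (K : CochainComplex V ℤ) {i : ℤ} (h : ¬ i ≤ n) :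
    IsZero ((tr n K).X i) :=
  isZero_trX n K h

lemma tr_d_eq' (n : ℤ) (K : CochainComplex V ℤ) {i j : ℤ} (hi : i ≤ n) (hj : j ≤ n) :
    (tr n K).d i j = (trIso n K hi).hom ≫ K.d i j ≫ (trIso n K hj).inv :=
  trD_eq n K hi hj

/-- The quotient map `K ⟶ tr n K`. -/
def trπ (n : ℤ) (K : CochainComplex V ℤ) : K ⟶ tr n K where
  f i := if h : i ≤ n then (trIso n K h).inv else 0
  comm' i j _ := by
    by_cases hj : j ≤ n
    · by_cases hi : i ≤ n
      · rw [dif_pos hi, dif_pos hj, tr_d_eq' n K hi hj]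
        simp
      · exfalso
        rename_i hij
        have : i + 1 = j := hij
        omega
    · rw [dif_neg hj, comp_zero, tr_d_eq_zero n K hj, comp_zero]

lemma trπ_f_eq (n : ℤ) (K : CochainComplex V ℤ) {i : ℤ} (h : i ≤ n) :
    (trπ n K).f i = (trIso n K h).inv :=
  dif_pos h

/-- The transition map `tr n K ⟶ tr m K` for `m ≤ n`. -/
def trp {m n : ℤ} (hmn : m ≤ n) (K : CochainComplex V ℤ) : tr n K ⟶ tr m K where
  f i := if h : i ≤ m then (trIso n K (h.trans hmn)).hom ≫ (trIso m K h).inv else 0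
  comm' i j hij := by
    have hij' : i + 1 = j := hij
    by_cases hj : j ≤ m
    · have hi : i ≤ m := by omega
      rw [dif_pos hi, dif_pos hj, tr_d_eq' m K hi hj, tr_d_eq' n K (hi.trans hmn) (hj.trans hmn)]
      simp
    · rw [dif_neg hj, comp_zero, tr_d_eq_zero m K hj, comp_zero]

lemma trp_f_eq {m n : ℤ} (hmn : m ≤ n) (K : CochainComplex V ℤ) {i : ℤ} (h : i ≤ m) :
    (trp hmn K).f i = (trIso n K (h.trans hmn)).hom ≫ (trIso m K h).inv :=
  dif_pos h

lemma trp_f_eq_zero {m n : ℤ} (hmn : m ≤ n) (K : CochainComplex V ℤ) {i : ℤ} (h : ¬ i ≤ m) :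
    (trp hmn K).f i = 0 :=
  dif_neg h

/-- Functoriality of the truncation. -/
def trMap (n : ℤ) {K L : CochainComplex V ℤ} (φ : K ⟶ L) : tr n K ⟶ tr n L where
  f i := if h : i ≤ n then (trIso n K h).hom ≫ φ.f i ≫ (trIso n L h).inv else 0
  comm' i j hij := by
    have hij' : i + 1 = j := hij
    by_cases hj : j ≤ n
    · have hi : i ≤ n := by omega
      rw [dif_pos hi, dif_pos hj, tr_d_eq' n K hi hj, tr_d_eq' n L hi hj]
      simp
    · rw [dif_neg hj, comp_zero, tr_d_eq_zero n L hj, comp_zero]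

lemma trMap_f_eq (n : ℤ) {K L : CochainComplex V ℤ} (φ : K ⟶ L) {i : ℤ} (h : i ≤ n) :
    (trMap n φ).f i = (trIso n K h).hom ≫ φ.f i ≫ (trIso n L h).inv :=
  dif_pos h

@[reassoc]
lemma trπ_trMap (n : ℤ) {K L : CochainComplex V ℤ} (φ : K ⟶ L) :
    trπ n K ≫ trMap n φ = φ ≫ trπ n L := by
  ext i
  by_cases h : i ≤ n
  · simp [trπ_f_eq n _ h, trMap_f_eq n φ h]
  · exact (isZero_tr_X n L h).eq_of_tgt _ _

@[reassoc]
lemma trp_trMap {m n : ℤ} (hmn : m ≤ n) {K L : CochainComplex V ℤ} (φ : K ⟶ L) :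
    trp hmn K ≫ trMap m φ = trMap n φ ≫ trp hmn L := by
  ext i
  by_cases h : i ≤ m
  · simp [trp_f_eq hmn _ h, trMap_f_eq m φ h, trMap_f_eq n φ (h.trans hmn)]
  · exact (isZero_tr_X m L h).eq_of_tgt _ _

end Groth.Agent.Lib.Helper23.TotQis
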