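import Groth.Agent.Lib.Helper23.TotQisA

/-!
# Existence of total complexes for uniformly bounded below double complexes
-/

set_option autoImplicit false
universe v u
open CategoryTheory CategoryTheory.Limits ZeroObject

noncomputable section

namespace Groth.Agent.Lib.Helper23.TotQis

lemma hasCoproduct_of_finite_support {C : Type u} [Category.{v} C] [HasZeroMorphisms C]
    [HasFiniteCoproducts C] {ι : Type*} (f : ι → C) (s : Finset ι)
    (hs : ∀ i, i ∉ s → IsZero (f i)) : HasCoproduct f := by
  classical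
  let g : s → C := fun i => f i.1
  let c : Cofan f := Cofan.mk (∐ g) (fun i => if h : i ∈ s then Sigma.ι g ⟨i, h⟩ else 0)
  have hc : IsColimit c := mkCofanColimit c (fun t => Sigma.desc (fun i : s => t.inj i.1))
    (fun t j => by
      by_cases h : j ∈ s
      · have : c.inj j = Sigma.ι g ⟨j, h⟩ := dif_pos h
        rw [this, Sigma.ι_desc]
      · exact (hs j h).eq_of_src _ _)
    (fun t m hm => by
      change (∐ g ⟶ t.pt) at m
      refine Sigma.hom_ext (f := g) _ _ ?_
      intro i
      rw [Sigma.ι_desc, ← hm i.1]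
      have : c.inj i.1 = Sigma.ι g ⟨i.1, i.2⟩ := dif_pos i.2
      rw [this])
  exact ⟨⟨⟨c, hc⟩⟩⟩

variable {A : Type u} [Category.{v} A] [Abelian A]

/-- The vanishing condition: terms vanish for outer index `< b` or inner index `< a`. -/
def IsBdd (M : HomologicalComplex₂ A (ComplexShape.up ℤ) (ComplexShape.up ℤ)) (b a : ℤ) : Prop :=
  ∀ i j : ℤ, i < b ∨ j < a → IsZero ((M.X i).X j)

lemma hasTotal_of_isBdd (M : HomologicalComplex₂ A (ComplexShape.up ℤ) (ComplexShape.up ℤ))
    {b a : ℤ} (hM : IsBdd M b a) : M.HasTotal (ComplexShape.up ℤ) := by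
  intro m
  classical
  let ι := ↑(ComplexShape.π (ComplexShape.up ℤ) (ComplexShape.up ℤ) (ComplexShape.up ℤ) ⁻¹' {m})
  let e : ℤ → Option ι := fun i =>
    if h : ComplexShape.π (ComplexShape.up ℤ) (ComplexShape.up ℤ) (ComplexShape.up ℤ) (i, m - i) = m
    then some ⟨(i, m - i), h⟩ else none
  let s : Finset ι := (Finset.Icc b (m - a)).image e |>.eraseNone
  refine hasCoproduct_of_finite_support _ s ?_
  rintro ⟨⟨i, j⟩, hij⟩ hs
  have hij' : i + j = m := hij
  apply hM
  by_contra hcon
  rw [not_or, not_lt, not_lt] at hcon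
  apply hs
  rw [Finset.mem_eraseNone, Finset.mem_image]
  refine ⟨i, Finset.mem_Icc.mpr ⟨hcon.1, by omega⟩, ?_⟩
  have hj : j = m - i := by omega
  subst hj
  exact dif_pos hij

end Groth.Agent.Lib.Helper23.TotQis
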