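import Groth.Agent.Lib.Helper23.TotQisB

/-!
# Truncation of double complexes in the outer direction and comparison of total complexes
-/

set_option autoImplicit false
universe v u
open CategoryTheory CategoryTheory.Limits ZeroObject

noncomputable section

namespace Groth.Agent.Lib.Helper23.TotQis

variable {A : Type u} [Category.{v} A] [Abelian A]

/-- Double complexes with integer bidegrees. -/
abbrev DC (A : Type u) [Category.{v} A] [Abelian A] :=
  HomologicalComplex₂ A (ComplexShape.up ℤ) (ComplexShape.up ℤ)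

/-- The outer truncation of a double complex. -/
abbrev trDC (n : ℤ) (M : DC A) : DC A := tr n M

/-- The terms of the outer truncation in outer degrees `≤ n`. -/
def trXXIso (n : ℤ) (M : DC A) {i : ℤ} (h : i ≤ n) (j : ℤ) :
    ((tr n M).X i).X j ≅ (M.X i).X j :=
  (HomologicalComplex.eval A (ComplexShape.up ℤ) j).mapIso (trIso n M h)

lemma trXXIso_hom (n : ℤ) (M : DC A) {i : ℤ} (h : i ≤ n) (j : ℤ) :
    (trXXIso n M h j).hom = (trIso n M h).hom.f j := rfl

lemma trXXIso_inv (n : ℤ) (M : DC A) {i : ℤ} (h : i ≤ n) (j : ℤ) :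
    (trXXIso n M h j).inv = (trIso n M h).inv.f j := rfl

lemma isZero_tr_XX (n : ℤ) (M : DC A) {i : ℤ} (h : ¬ i ≤ n) (j : ℤ) :
    IsZero (((tr n M).X i).X j) :=
  (HomologicalComplex.eval A (ComplexShape.up ℤ) j).map_isZero (isZero_tr_X n M h)

lemma isBdd_tr {M : DC A} {b a : ℤ} (hM : IsBdd M b a) (n : ℤ) : IsBdd (tr n M) b a := by
  intro i j hij
  by_cases h : i ≤ n
  · exact (hM i j hij).of_iso (trXXIso n M h j)
  · exact isZero_tr_XX n M h j

lemma trπ_f_f (n : ℤ) (M : DC A) {i : ℤ} (h : i ≤ n) (j : ℤ) :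
    ((trπ n M).f i).f j = (trXXIso n M h j).inv := by
  rw [trπ_f_eq n M h]
  rfl

lemma trp_f_f {m n : ℤ} (hmn : m ≤ n) (M : DC A) {i : ℤ} (h : i ≤ m) (j : ℤ) :
    ((trp hmn M).f i).f j = (trXXIso n M (h.trans hmn) j).hom ≫ (trXXIso m M h j).inv := by
  rw [trp_f_eq hmn M h]
  rfl

lemma trp_f_f_eq_zero {m n : ℤ} (hmn : m ≤ n) (M : DC A) {i : ℤ} (h : ¬ i ≤ m) (j : ℤ) :
    ((trp hmn M).f i).f j = 0 := by
  rw [trp_f_eq_zero hmn M h]
  rfl

lemma trMap_f_f (n : ℤ) {M M' : DC A} (ψ : M ⟶ M') {i : ℤ} (h : i ≤ n) (j : ℤ) :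
    ((trMap n ψ).f i).f j =
      (trXXIso n M h j).hom ≫ (ψ.f i).f j ≫ (trXXIso n M' h j).inv := by
  rw [trMap_f_eq n ψ h]
  rfl

section

variable (M : DC A) (n : ℤ) [M.HasTotal (ComplexShape.up ℤ)]
  [(trDC n M).HasTotal (ComplexShape.up ℤ)]

/-- The candidate inverse of `Tot M ⟶ Tot (tr n M)` in low degrees. -/
def totInv (m : ℤ) :
    ((trDC n M).total (ComplexShape.up ℤ)).X m ⟶ (M.total (ComplexShape.up ℤ)).X m :=
  (trDC n M).totalDesc (fun i j hij =>
    if h : i ≤ n then (trXXIso n M h j).hom ≫ M.ιTotal (ComplexShape.up ℤ) i j m hij else 0)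

lemma isIso_total_map_trπ_f {b a : ℤ} (hM : IsBdd M b a) (m : ℤ) (hm : m ≤ n + a) :
    IsIso ((HomologicalComplex₂.total.map (K := M) (L := trDC n M) (trπ n M) (ComplexShape.up ℤ)).f m) := by
  refine ⟨totInv M n m, ?_, ?_⟩
  · apply HomologicalComplex₂.total.hom_ext
    intro i j hij
    have hij' : i + j = m := hij
    rw [HomologicalComplex₂.ιTotal_map_assoc, Category.comp_id]
    by_cases h : i ≤ n
    · rw [totInv, HomologicalComplex₂.ι_totalDesc, dif_pos h, trπ_f_f n M h,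
        Iso.inv_hom_id_assoc]
    · exact (hM i j (Or.inr (by omega))).eq_of_src _ _
  · apply HomologicalComplex₂.total.hom_ext
    intro i j hij
    rw [Category.comp_id, totInv, HomologicalComplex₂.ι_totalDesc_assoc]
    by_cases h : i ≤ n
    · rw [dif_pos h, Category.assoc, HomologicalComplex₂.ιTotal_map, trπ_f_f n M h,
        Iso.hom_inv_id_assoc]
    · exact (isZero_tr_XX n M h j).eq_of_src _ _

end

/-- A morphism of cochain complexes which is an isomorphism in degrees `m - 1`, `m`, `m + 1`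
is a quasi-isomorphism in degree `m`. -/
lemma quasiIsoAt_of_isIso_f {K L : CochainComplex A ℤ} (f : K ⟶ L) (m : ℤ)
    (h₁ : IsIso (f.f (m - 1))) (h₂ : IsIso (f.f m)) (h₃ : IsIso (f.f (m + 1))) :
    QuasiIsoAt f m := by
  rw [quasiIsoAt_iff' f (m - 1) m (m + 1) (by simp) (by simp)]
  haveI : Epi ((HomologicalComplex.shortComplexFunctor' A (ComplexShape.up ℤ) (m - 1) m
    (m + 1)).map f).τ₁ := by change Epi (f.f (m - 1)); infer_instance
  haveI : IsIso ((HomologicalComplex.shortComplexFunctor' A (ComplexShape.up ℤ) (m - 1) m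
    (m + 1)).map f).τ₂ := by change IsIso (f.f m); infer_instance
  haveI : Mono ((HomologicalComplex.shortComplexFunctor' A (ComplexShape.up ℤ) (m - 1) m
    (m + 1)).map f).τ₃ := by change Mono (f.f (m + 1)); infer_instance
  exact ShortComplex.quasiIso_of_epi_of_isIso_of_mono _

lemma quasiIsoAt_total_map_trπ (M : DC A) (n : ℤ) [M.HasTotal (ComplexShape.up ℤ)]
    [(trDC n M).HasTotal (ComplexShape.up ℤ)] {b a : ℤ} (hM : IsBdd M b a) (m : ℤ)
    (hm : m + 1 ≤ n + a) :
    QuasiIsoAt (HomologicalComplex₂.total.map (K := M) (L := trDC n M) (trπ n M) (ComplexShape.up ℤ)) m :=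
  quasiIsoAt_of_isIso_f _ m (isIso_total_map_trπ_f M n hM _ (by omega))
    (isIso_total_map_trπ_f M n hM _ (by omega)) (isIso_total_map_trπ_f M n hM _ hm)

end Groth.Agent.Lib.Helper23.TotQis
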