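import Groth.Agent.Lib.Helper23.TotQisC

/-!
# The short exact sequence `sh n (M.X n) → Tot (tr n M) → Tot (tr (n-1) M)`
-/

set_option autoImplicit false
universe v u
open CategoryTheory CategoryTheory.Limits ZeroObject

noncomputable section

namespace Groth.Agent.Lib.Helper23.TotQis

variable {A : Type u} [Category.{v} A] [Abelian A]

/-- The complex `C` shifted by `-n` (so that `C.X 0` sits in degree `n`), with the sign
`(-1)^n` on the differential. -/
@[reducible] def sh (n : ℤ) (C : CochainComplex A ℤ) : CochainComplex A ℤ where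
  X m := C.X (m + -n)
  d m m' := n.negOnePow • C.d (m + -n) (m' + -n)
  shape m m' h := by
    rw [C.shape, smul_zero]
    intro h'
    apply h
    have : m + -n + 1 = m' + -n := h'
    change m + 1 = m'
    omega
  d_comp_d' m m' m'' _ _ := by
    simp

/-- Functoriality of `sh`. -/
@[reducible] def shMap (n : ℤ) {C C' : CochainComplex A ℤ} (φ : C ⟶ C') : sh n C ⟶ sh n C' where
  f m := φ.f (m + -n)
  comm' m m' _ := by
    simp

set_option backward.isDefEq.respectTransparency.types false in
/-- `sh n C` is the shift of `C` by `-n`. -/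
def shIso (n : ℤ) (C : CochainComplex A ℤ) :
    sh n C ≅ (CategoryTheory.shiftFunctor (CochainComplex A ℤ) (-n)).obj C :=
  HomologicalComplex.Hom.isoOfComponents (fun m => Iso.refl _) (by
    intro i j _
    simp only [Iso.refl_hom, CochainComplex.shiftFunctor_obj_d', Int.negOnePow_neg]
    erw [Category.comp_id, Category.id_comp])

set_option backward.isDefEq.respectTransparency.types false in
lemma shMap_shIso (n : ℤ) {C C' : CochainComplex A ℤ} (φ : C ⟶ C') :
    shMap n φ ≫ (shIso n C').hom =
      (shIso n C).hom ≫ (CategoryTheory.shiftFunctor (CochainComplex A ℤ) (-n)).map φ := by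
  ext m
  simp [shIso]

lemma quasiIso_shMap (n : ℤ) {C C' : CochainComplex A ℤ} (φ : C ⟶ C') [QuasiIso φ] :
    QuasiIso (shMap n φ) := by
  have h : QuasiIso ((CategoryTheory.shiftFunctor (CochainComplex A ℤ) (-n)).map φ) := by
    rw [CochainComplex.quasiIso_shift_iff]
    infer_instance
  have e : Arrow.mk ((CategoryTheory.shiftFunctor (CochainComplex A ℤ) (-n)).map φ) ≅
      Arrow.mk (shMap n φ) :=
    (Arrow.isoMk (shIso n C) (shIso n C') (shMap_shIso n φ).symm).symm
  exact quasiIso_of_arrow_mk_iso _ _ e

end Groth.Agent.Lib.Helper23.TotQis
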