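import Groth.Agent.Lib.Helper23.TotQisD

/-!
# The short exact sequence `sh n (M.X n) → Tot (tr n M) → Tot (tr (n-1) M)`: maps
-/

set_option autoImplicit false
universe v u
open CategoryTheory CategoryTheory.Limits ZeroObject

noncomputable section

namespace Groth.Agent.Lib.Helper23.TotQis

variable {A : Type u} [Category.{v} A] [Abelian A]

lemma tr_X_d (M : DC A) (n : ℤ) {i : ℤ} (h : i ≤ n) (j j' : ℤ) :
    ((trDC n M).X i).d j j' =
      (trXXIso n M h j).hom ≫ (M.X i).d j j' ≫ (trXXIso n M h j').inv := by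
  have := (trIso n M h).hom.comm j j'
  rw [trXXIso_hom, trXXIso_inv, reassoc_of% this]
  rw [← HomologicalComplex.comp_f, Iso.hom_inv_id, HomologicalComplex.id_f]
  exact (Category.comp_id _).symm

section

variable (M : DC A) (n : ℤ) [(trDC n M).HasTotal (ComplexShape.up ℤ)]

/-- The components of the inclusion of the top row. -/
def sInclF (m : ℤ) :
    (sh n (M.X n)).X m ⟶ ((trDC n M).total (ComplexShape.up ℤ)).X m :=
  (trXXIso n M le_rfl (m + -n)).inv ≫
    (trDC n M).ιTotal (ComplexShape.up ℤ) n (m + -n) m (by simp)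

/-- The inclusion of the top row `sh n (M.X n)` into `Tot (tr n M)`. -/
def sIncl : sh n (M.X n) ⟶ (trDC n M).total (ComplexShape.up ℤ) where
  f m := sInclF M n m
  comm' m m' hmm' := by
    have hm : m + 1 = m' := hmm'
    subst hm
    unfold sInclF
    rw [Category.assoc, HomologicalComplex₂.total_d, Preadditive.comp_add,
      HomologicalComplex₂.ι_D₁, HomologicalComplex₂.ι_D₂]
    have h1 : (trDC n M).d₁ (ComplexShape.up ℤ) n (m + -n) (m + 1) = 0 := by
      rw [HomologicalComplex₂.d₁_eq' (trDC n M) (ComplexShape.up ℤ)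
        (show (ComplexShape.up ℤ).Rel n (n + 1) from rfl)]
      have : (trDC n M).d n (n + 1) = 0 := tr_d_eq_zero n M (by omega)
      rw [this]
      simp
    rw [h1, zero_add]
    rw [HomologicalComplex₂.d₂_eq (trDC n M) (ComplexShape.up ℤ) n
      (show (ComplexShape.up ℤ).Rel (m + -n) (m + 1 + -n) by simp; omega) (m + 1) (by simp)]
    rw [tr_X_d M n le_rfl]
    simp only [Linear.comp_units_smul, Linear.units_smul_comp, Category.assoc,
      Iso.inv_hom_id_assoc]
    congr 1

end

end Groth.Agent.Lib.Helper23.TotQis
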