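import Groth.Agent.Lib.Helper23.TotQisE

/-!
# The short exact sequence `sh n (M.X n) → Tot (tr n M) → Tot (tr (n-1) M)`: exactness
-/

set_option autoImplicit false
universe v u
open CategoryTheory CategoryTheory.Limits ZeroObject

noncomputable section

namespace Groth.Agent.Lib.Helper23.TotQis

variable {A : Type u} [Category.{v} A] [Abelian A]

section

variable (M : DC A) (n : ℤ) [(trDC n M).HasTotal (ComplexShape.up ℤ)]
  [(trDC (n - 1) M).HasTotal (ComplexShape.up ℤ)]

/-- The projection `Tot (tr n M) ⟶ Tot (tr (n-1) M)`. -/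
def totP : (trDC n M).total (ComplexShape.up ℤ) ⟶ (trDC (n - 1) M).total (ComplexShape.up ℤ) :=
  HomologicalComplex₂.total.map (K := trDC n M) (L := trDC (n - 1) M)
    (trp (by omega : n - 1 ≤ n) M) (ComplexShape.up ℤ)

lemma sIncl_totP : sIncl M n ≫ totP M n = 0 := by
  ext m
  change sInclF M n m ≫ (totP M n).f m = 0
  unfold sInclF totP
  rw [Category.assoc, HomologicalComplex₂.ιTotal_map, trp_f_f_eq_zero _ M (by omega), zero_comp,
    comp_zero]

/-- The short complex `sh n (M.X n) → Tot (tr n M) → Tot (tr (n-1) M)`. -/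
def sesSC : ShortComplex (CochainComplex A ℤ) :=
  ShortComplex.mk (sIncl M n) (totP M n) (sIncl_totP M n)

/-- The retraction in degree `m`. -/
def sesR (m : ℤ) : ((trDC n M).total (ComplexShape.up ℤ)).X m ⟶ (sh n (M.X n)).X m :=
  (trDC n M).totalDesc (fun i j hij =>
    if hi : i = n then
      ((trDC n M).XXIsoOfEq _ _ _ hi (show j = m + -n by
        have : i + j = m := hij
        omega)).hom ≫ (trXXIso n M le_rfl (m + -n)).hom
    else 0)

/-- The section in degree `m`. -/
def sesS (m : ℤ) : ((trDC (n - 1) M).total (ComplexShape.up ℤ)).X m ⟶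
    ((trDC n M).total (ComplexShape.up ℤ)).X m :=
  (trDC (n - 1) M).totalDesc (fun i j hij =>
    if hi : i ≤ n - 1 then
      (trXXIso (n - 1) M hi j).hom ≫ (trXXIso n M (by omega : i ≤ n) j).inv ≫
        (trDC n M).ιTotal (ComplexShape.up ℤ) i j m hij
    else 0)

/-- The degreewise splitting. -/
def sesSplitting (m : ℤ) :
    ((sesSC M n).map (HomologicalComplex.eval A (ComplexShape.up ℤ) m)).Splitting where
  r := sesR M n m
  s := sesS M n m
  f_r := by
    change sInclF M n m ≫ sesR M n m = 𝟙 _
    unfold sInclF sesR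
    rw [Category.assoc, HomologicalComplex₂.ι_totalDesc, dif_pos rfl,
      HomologicalComplex₂.XXIsoOfEq_rfl, Iso.refl_hom, Category.id_comp, Iso.inv_hom_id]
  s_g := by
    change sesS M n m ≫ (totP M n).f m = 𝟙 _
    apply HomologicalComplex₂.total.hom_ext
    intro i j hij
    unfold sesS totP
    rw [HomologicalComplex₂.ι_totalDesc_assoc, Category.comp_id]
    by_cases hi : i ≤ n - 1
    · rw [dif_pos hi, Category.assoc, Category.assoc, HomologicalComplex₂.ιTotal_map,
        trp_f_f _ M hi, Category.assoc, Iso.inv_hom_id_assoc, Iso.hom_inv_id_assoc]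
    · exact (isZero_tr_XX (n - 1) M hi j).eq_of_src _ _
  id := by
    change sesR M n m ≫ sInclF M n m + (totP M n).f m ≫ sesS M n m = 𝟙 _
    apply HomologicalComplex₂.total.hom_ext
    intro i j hij
    have hij' : i + j = m := hij
    rw [Preadditive.comp_add, Category.comp_id]
    unfold sesR totP
    rw [HomologicalComplex₂.ι_totalDesc_assoc, HomologicalComplex₂.ιTotal_map_assoc]
    by_cases hi : i = n
    · subst hi
      have hj : j = m + -i := by omega
      subst hj
      rw [dif_pos rfl, trp_f_f_eq_zero _ M (by omega), zero_comp, add_zero]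
      unfold sInclF
      rw [HomologicalComplex₂.XXIsoOfEq_rfl, Iso.refl_hom, Category.id_comp,
        Iso.hom_inv_id_assoc]
    · rw [dif_neg hi, zero_comp, zero_add]
      by_cases hi' : i ≤ n - 1
      · unfold sesS
        rw [HomologicalComplex₂.ι_totalDesc, dif_pos hi', trp_f_f _ M hi', Category.assoc,
          Iso.inv_hom_id_assoc, Iso.hom_inv_id_assoc]
      · exact (isZero_tr_XX n M (by omega) j).eq_of_src _ _

lemma sesSC_shortExact : (sesSC M n).ShortExact :=
  HomologicalComplex.shortExact_of_degreewise_shortExact _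
    (fun m => (sesSplitting M n m).shortExact)

end

end Groth.Agent.Lib.Helper23.TotQis
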