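import Groth.Agent.Lib.Helper23.TotQisF

/-!
# Five lemma for the middle term; naturality of the short exact sequence
-/

set_option autoImplicit false
universe v u
open CategoryTheory CategoryTheory.Limits ZeroObject

noncomputable section

namespace Groth.Agent.Lib.Helper23.TotQis

variable {A : Type u} [Category.{v} A] [Abelian A]

section five

open HomologicalComplex HomologicalComplex.HomologySequence ComposableArrows Abelian

variable {S₁ S₂ : ShortComplex (CochainComplex A ℤ)} (φ : S₁ ⟶ S₂)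
  (hS₁ : S₁.ShortExact) (hS₂ : S₂.ShortExact)

include hS₁ hS₂

lemma mono_homologyMap_τ₂ (j : ℤ)
    (h₁ : Epi (homologyMap φ.τ₃ (j - 1)))
    (h₂ : Mono (homologyMap φ.τ₁ j))
    (h₃ : Mono (homologyMap φ.τ₃ j)) :
    Mono (homologyMap φ.τ₂ j) := by
  have hij : (ComplexShape.up ℤ).Rel (j - 1) j := by simp
  apply mono_of_epi_of_mono_of_mono
    ((δ₀Functor ⋙ δ₀Functor).map (mapComposableArrows₅ φ hS₁ hS₂ (j - 1) j hij))
  · exact (composableArrows₅_exact hS₁ (j - 1) j hij).δ₀.δ₀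
  · exact (composableArrows₅_exact hS₂ (j - 1) j hij).δ₀.δ₀
  · exact h₁
  · exact h₂
  · exact h₃

lemma epi_homologyMap_τ₂ (i : ℤ)
    (h₁ : Epi (homologyMap φ.τ₁ i))
    (h₂ : Epi (homologyMap φ.τ₃ i))
    (h₃ : Mono (homologyMap φ.τ₁ (i + 1))) :
    Epi (homologyMap φ.τ₂ i) := by
  have hij : (ComplexShape.up ℤ).Rel i (i + 1) := by simp
  apply epi_of_epi_of_epi_of_mono
    ((δlastFunctor ⋙ δlastFunctor).map (mapComposableArrows₅ φ hS₁ hS₂ i (i + 1) hij))
  · exact (composableArrows₅_exact hS₁ i (i + 1) hij).δlast.δlast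
  · exact (composableArrows₅_exact hS₂ i (i + 1) hij).δlast.δlast
  · exact h₁
  · exact h₂
  · exact h₃

lemma quasiIso_τ₂ (h₁ : QuasiIso φ.τ₁) (h₃ : QuasiIso φ.τ₃) : QuasiIso φ.τ₂ := by
  rw [quasiIso_iff]
  intro i
  rw [quasiIsoAt_iff_isIso_homologyMap]
  have := mono_homologyMap_τ₂ φ hS₁ hS₂ i inferInstance inferInstance inferInstance
  have := epi_homologyMap_τ₂ φ hS₁ hS₂ i inferInstance inferInstance inferInstance
  apply isIso_of_mono_of_epi

end five

end Groth.Agent.Lib.Helper23.TotQis
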