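import Groth.Agent.Lib.Helper23.TotQisG

/-!
# Induction: the total complex preserves degreewise quasi-isomorphisms (outer form)
-/

set_option autoImplicit false
universe v u
open CategoryTheory CategoryTheory.Limits ZeroObject

noncomputable section

namespace Groth.Agent.Lib.Helper23.TotQis

variable {A : Type u} [Category.{v} A] [Abelian A]

section

variable {M M' : DC A} (ψ : M ⟶ M') (n : ℤ)

/-- The map induced on total complexes of truncations. -/
def totTrMap [(trDC n M).HasTotal (ComplexShape.up ℤ)] [(trDC n M').HasTotal (ComplexShape.up ℤ)] :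
    (trDC n M).total (ComplexShape.up ℤ) ⟶ (trDC n M').total (ComplexShape.up ℤ) :=
  HomologicalComplex₂.total.map (K := trDC n M) (L := trDC n M') (trMap n ψ) (ComplexShape.up ℤ)

variable [(trDC n M).HasTotal (ComplexShape.up ℤ)] [(trDC n M').HasTotal (ComplexShape.up ℤ)]

lemma sIncl_naturality :
    shMap n (ψ.f n) ≫ sIncl M' n = sIncl M n ≫ totTrMap ψ n := by
  ext m
  change (ψ.f n).f (m + -n) ≫ sInclF M' n m = sInclF M n m ≫ (totTrMap ψ n).f m
  unfold sInclF totTrMap
  rw [Category.assoc, HomologicalComplex₂.ιTotal_map, trMap_f_f n ψ le_rfl]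
  simp

variable [(trDC (n - 1) M).HasTotal (ComplexShape.up ℤ)]
  [(trDC (n - 1) M').HasTotal (ComplexShape.up ℤ)]

lemma totP_naturality :
    totTrMap ψ n ≫ totP M' n = totP M n ≫ totTrMap ψ (n - 1) := by
  unfold totTrMap totP
  rw [← HomologicalComplex₂.total.map_comp, ← HomologicalComplex₂.total.map_comp, trp_trMap]

/-- The morphism of short exact sequences induced by `ψ`. -/
def sesMap : sesSC M n ⟶ sesSC M' n where
  τ₁ := shMap n (ψ.f n)
  τ₂ := totTrMap ψ n
  τ₃ := totTrMap ψ (n - 1)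
  comm₁₂ := sIncl_naturality ψ n
  comm₂₃ := totP_naturality ψ n

end

lemma isZero_total_X (K : DC A) [K.HasTotal (ComplexShape.up ℤ)]
    (hK : ∀ i j, IsZero ((K.X i).X j)) (m : ℤ) :
    IsZero ((K.total (ComplexShape.up ℤ)).X m) := by
  rw [IsZero.iff_id_eq_zero]
  apply HomologicalComplex₂.total.hom_ext
  intro i j hij
  exact (hK i j).eq_of_src _ _

lemma quasiIso_of_isZero_X {K L : CochainComplex A ℤ} (f : K ⟶ L)
    (hK : ∀ m, IsZero (K.X m)) (hL : ∀ m, IsZero (L.X m)) : QuasiIso f := by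
  rw [quasiIso_iff]
  intro m
  rw [quasiIsoAt_iff_exactAt f m (HomologicalComplex.ExactAt.of_isZero (hK m))]
  exact HomologicalComplex.ExactAt.of_isZero (hL m)

lemma isZero_tr_XX_of_lt {M : DC A} {b a : ℤ} (hM : IsBdd M b a) {n : ℤ} (hn : n < b)
    (i j : ℤ) : IsZero (((trDC n M).X i).X j) := by
  by_cases h : i ≤ n
  · exact (hM i j (Or.inl (by omega))).of_iso (trXXIso n M h j)
  · exact isZero_tr_XX n M h j

theorem quasiIso_totTrMap {M M' : DC A} (ψ : M ⟶ M') {b a : ℤ} (hM : IsBdd M b a)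
    (hM' : IsBdd M' b a) (hψ : ∀ i, QuasiIso (ψ.f i)) (k : ℕ) :
    ∀ (n : ℤ) [(trDC n M).HasTotal (ComplexShape.up ℤ)]
      [(trDC n M').HasTotal (ComplexShape.up ℤ)], n = b - 1 + k → QuasiIso (totTrMap ψ n) := by
  induction k with
  | zero =>
    intro n _ _ hn
    apply quasiIso_of_isZero_X
    · exact isZero_total_X _ (isZero_tr_XX_of_lt hM (by omega))
    · exact isZero_total_X _ (isZero_tr_XX_of_lt hM' (by omega))
  | succ k ih =>
    intro n _ _ hn
    haveI := hasTotal_of_isBdd _ (isBdd_tr hM (n - 1))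
    haveI := hasTotal_of_isBdd _ (isBdd_tr hM' (n - 1))
    have h3 : QuasiIso (totTrMap ψ (n - 1)) := ih (n - 1) (by push_cast at hn; omega)
    haveI := hψ n
    have h1 : QuasiIso (shMap n (ψ.f n)) := quasiIso_shMap n (ψ.f n)
    exact quasiIso_τ₂ (sesMap ψ n) (sesSC_shortExact M n) (sesSC_shortExact M' n) h1 h3

theorem quasiIso_total_map_of_degreewise {M M' : DC A} (ψ : M ⟶ M') {b a : ℤ}
    (hM : IsBdd M b a) (hM' : IsBdd M' b a) [M.HasTotal (ComplexShape.up ℤ)]
    [M'.HasTotal (ComplexShape.up ℤ)] (hψ : ∀ i, QuasiIso (ψ.f i)) :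
    QuasiIso (HomologicalComplex₂.total.map ψ (ComplexShape.up ℤ)) := by
  rw [quasiIso_iff]
  intro m
  obtain ⟨k, hk⟩ : ∃ k : ℕ, m + 1 ≤ (b - 1 + k) + a := by
    refine ⟨(m + 2 - a - b).toNat, ?_⟩
    have := Int.self_le_toNat (m + 2 - a - b)
    omega
  set n : ℤ := b - 1 + k with hn
  haveI := hasTotal_of_isBdd _ (isBdd_tr hM n)
  haveI := hasTotal_of_isBdd _ (isBdd_tr hM' n)
  have hq : QuasiIso (totTrMap ψ n) := quasiIso_totTrMap ψ hM hM' hψ k n hn
  have h1 := quasiIsoAt_total_map_trπ M n hM m hk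
  have h2 := quasiIsoAt_total_map_trπ M' n hM' m hk
  have sq : HomologicalComplex₂.total.map ψ (ComplexShape.up ℤ) ≫
      HomologicalComplex₂.total.map (K := M') (L := trDC n M') (trπ n M') (ComplexShape.up ℤ) =
      HomologicalComplex₂.total.map (K := M) (L := trDC n M) (trπ n M) (ComplexShape.up ℤ) ≫
        totTrMap ψ n := by
    unfold totTrMap
    rw [← HomologicalComplex₂.total.map_comp, ← HomologicalComplex₂.total.map_comp, trπ_trMap]
  have h3 : QuasiIsoAt (HomologicalComplex₂.total.map ψ (ComplexShape.up ℤ) ≫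
      HomologicalComplex₂.total.map (K := M') (L := trDC n M') (trπ n M')
        (ComplexShape.up ℤ)) m := by
    rw [sq]
    infer_instance
  exact quasiIsoAt_of_comp_right _
    (HomologicalComplex₂.total.map (K := M') (L := trDC n M') (trπ n M') (ComplexShape.up ℤ)) m

end Groth.Agent.Lib.Helper23.TotQis
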