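import Groth.Agent.Lib.Helper23.TotQisH

/-!
# The total complex preserves quasi-isomorphisms (uniformly bounded below double complexes)
-/

set_option autoImplicit false
universe v u
open CategoryTheory CategoryTheory.Limits ZeroObject

noncomputable section

namespace Groth.Agent.Lib.Helper23.TotQis

variable {A : Type u} [Category.{v} A] [Abelian A]

/-- The rows of a quasi-isomorphism of complexes of complexes are quasi-isomorphisms. -/
lemma quasiIso_flip_f {K L : DC A} (φ : K ⟶ L) [QuasiIso φ] (i : ℤ) :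
    QuasiIso (((HomologicalComplex₂.flipFunctor A (ComplexShape.up ℤ) (ComplexShape.up ℤ)).map
      φ).f i) := by
  have h : QuasiIso (((HomologicalComplex.eval A (ComplexShape.up ℤ) i).mapHomologicalComplex
      (ComplexShape.up ℤ)).map φ) := inferInstance
  exact h

set_option backward.isDefEq.respectTransparency.types false in
lemma total_map_flip_naturality {K L : DC A} (φ : K ⟶ L) [K.HasTotal (ComplexShape.up ℤ)]
    [L.HasTotal (ComplexShape.up ℤ)] :
    HomologicalComplex₂.total.map (K := K.flip) (L := L.flip)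
      ((HomologicalComplex₂.flipFunctor A (ComplexShape.up ℤ) (ComplexShape.up ℤ)).map φ)
      (ComplexShape.up ℤ) ≫ (L.totalFlipIso (ComplexShape.up ℤ)).hom =
    (K.totalFlipIso (ComplexShape.up ℤ)).hom ≫
      HomologicalComplex₂.total.map φ (ComplexShape.up ℤ) := by
  ext m
  rw [HomologicalComplex.comp_f, HomologicalComplex.comp_f,
    HomologicalComplex₂.ιTotal_map_assoc, HomologicalComplex₂.ιTotal_totalFlipIso_f_hom,
    HomologicalComplex₂.ιTotal_totalFlipIso_f_hom_assoc]
  rename_i i j hij
  change (φ.f j).f i ≫ (ComplexShape.σ (ComplexShape.up ℤ) (ComplexShape.up ℤ)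
      (ComplexShape.up ℤ) j i • L.ιTotal (ComplexShape.up ℤ) j i m _) =
    (ComplexShape.σ (ComplexShape.up ℤ) (ComplexShape.up ℤ)
      (ComplexShape.up ℤ) j i • K.ιTotal (ComplexShape.up ℤ) j i m _) ≫ _
  rw [Linear.comp_units_smul, Linear.units_smul_comp, HomologicalComplex₂.ιTotal_map]

theorem quasiIso_total_map {K L : DC A} (φ : K ⟶ L) (a b : ℤ)
    (hK : ∀ p q : ℤ, p < a ∨ q < b → IsZero ((K.X p).X q))
    (hL : ∀ p q : ℤ, p < a ∨ q < b → IsZero ((L.X p).X q))
    [K.HasTotal (ComplexShape.up ℤ)] [L.HasTotal (ComplexShape.up ℤ)] [QuasiIso φ] :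
    QuasiIso (HomologicalComplex₂.total.map φ (ComplexShape.up ℤ)) := by
  have hK' : IsBdd K.flip b a := fun i j hij => hK j i hij.symm
  have hL' : IsBdd L.flip b a := fun i j hij => hL j i hij.symm
  have h := quasiIso_total_map_of_degreewise (M := K.flip) (M' := L.flip)
    ((HomologicalComplex₂.flipFunctor A (ComplexShape.up ℤ) (ComplexShape.up ℤ)).map φ) hK' hL'
    (fun i => quasiIso_flip_f φ i)
  have e : Arrow.mk (HomologicalComplex₂.total.map (K := K.flip) (L := L.flip)
      ((HomologicalComplex₂.flipFunctor A (ComplexShape.up ℤ) (ComplexShape.up ℤ)).map φ)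
      (ComplexShape.up ℤ)) ≅ Arrow.mk (HomologicalComplex₂.total.map φ (ComplexShape.up ℤ)) :=
    Arrow.isoMk (K.totalFlipIso (ComplexShape.up ℤ)) (L.totalFlipIso (ComplexShape.up ℤ))
      (total_map_flip_naturality φ).symm
  exact quasiIso_of_arrow_mk_iso _ _ e

end Groth.Agent.Lib.Helper23.TotQis
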