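import Mathlib

/-!
# Composite of valuation rings (helper23)

For a valuation ring `V'` and a valuation subring `A` of its residue field, the preimage of `A`
in `V'` is a valuation ring.
-/

set_option autoImplicit false
universe u

namespace Groth.Agent.Lib.Helper23.ValComp

open IsLocalRing

variable (V' : Type u) [CommRing V'] [IsDomain V'] [ValuationRing V']
variable (A : ValuationSubring (ResidueField V'))

/-- The composite valuation ring, as a subring of `V'`. -/
noncomputable def compSubring : Subring V' := A.toSubring.comap (residue V')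

variable {V'} {A}

theorem mem_compSubring {x : V'} : x ∈ compSubring V' A ↔ residue V' x ∈ A := Iff.rfl

/-- If the residue of `c` is not in `A`, `c` has an inverse in the composite. -/
theorem exists_inv_of_residue_not_mem {c : V'} (hc : residue V' c ∉ A) :
    ∃ d : V', d ∈ compSubring V' A ∧ c * d = 1 := by
  have hne : residue V' c ≠ 0 := by
    intro h
    rw [h] at hc
    exact hc (zero_mem A)
  have hu : IsUnit c := by
    by_contra hnu
    exact hne ((residue_eq_zero_iff c).mpr ((mem_maximalIdeal c).mpr hnu))
  obtain ⟨u, rfl⟩ := hu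
  refine ⟨((u⁻¹ : V'ˣ) : V'), ?_, by simp⟩
  rw [mem_compSubring]
  have h1 : residue V' ((u⁻¹ : V'ˣ) : V') = (residue V' (u : V'))⁻¹ := by
    have h2 : residue V' (u : V') * residue V' ((u⁻¹ : V'ˣ) : V') = 1 := by
      rw [← map_mul]; simp
    exact (eq_inv_of_mul_eq_one_right h2)
  rw [h1]
  rcases A.mem_or_inv_mem (residue V' (u : V')) with h | h
  · exact absurd h hc
  · exact h

instance : IsDomain (compSubring V' A) := inferInstance

instance : ValuationRing (compSubring V' A) := by
  rw [ValuationRing.iff_dvd_total]
  refine ⟨fun a b => ?_⟩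
  obtain ⟨c, hc | hc⟩ := ValuationRing.cond (a : V') (b : V')
  · by_cases hcA : residue V' c ∈ A
    · left
      exact ⟨⟨c, hcA⟩, Subtype.ext hc.symm⟩
    · right
      obtain ⟨d, hd, hcd⟩ := exists_inv_of_residue_not_mem hcA
      refine ⟨⟨d, hd⟩, Subtype.ext ?_⟩
      change (a : V') = b * d
      rw [← hc, mul_assoc, hcd, mul_one]
  · by_cases hcA : residue V' c ∈ A
    · right
      exact ⟨⟨c, hcA⟩, Subtype.ext hc.symm⟩
    · left
      obtain ⟨d, hd, hcd⟩ := exists_inv_of_residue_not_mem hcA
      refine ⟨⟨d, hd⟩, Subtype.ext ?_⟩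
      change (b : V') = a * d
      rw [← hc, mul_assoc, hcd, mul_one]

variable (V') (A)

/-- The inclusion of the composite into `V'`. -/
noncomputable def incl : compSubring V' A →+* V' := (compSubring V' A).subtype

/-- The projection of the composite onto `A`. -/
noncomputable def proj : compSubring V' A →+* A :=
  ((residue V').comp (compSubring V' A).subtype).codRestrict A.toSubring (fun x => x.2)

theorem residue_incl (x : compSubring V' A) :
    residue V' (incl V' A x) = algebraMap A (ResidueField V') (proj V' A x) := rfl

theorem residue_comp_incl :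
    (residue V').comp (incl V' A) = (algebraMap A (ResidueField V')).comp (proj V' A) := rfl

instance : IsLocalHom (proj V' A) := by
  constructor
  intro a ha
  obtain ⟨b, hb⟩ := ha.exists_right_inv
  have hne : residue V' (a : V') ≠ 0 := by
    intro h
    have h2 : (proj V' A a : ResidueField V') = 0 := h
    have h3 : ((proj V' A a * b : A) : ResidueField V') = 1 := by rw [hb]; rfl
    rw [MulMemClass.coe_mul, h2, zero_mul] at h3
    exact zero_ne_one h3
  have hu : IsUnit (a : V') := by
    by_contra hnu
    exact hne ((residue_eq_zero_iff _).mpr ((mem_maximalIdeal _).mpr hnu))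
  obtain ⟨u, hu⟩ := hu
  have h1 : residue V' ((u⁻¹ : V'ˣ) : V') = (b : ResidueField V') := by
    have h2 : residue V' (u : V') * residue V' ((u⁻¹ : V'ˣ) : V') = 1 := by
      rw [← map_mul]; simp
    have h3 : residue V' (u : V') * (b : ResidueField V') = 1 := by
      rw [hu]
      have h4 : ((proj V' A a * b : A) : ResidueField V') = 1 := by rw [hb]; rfl
      exact h4
    have hune : residue V' (u : V') ≠ 0 := by rw [hu]; exact hne
    exact mul_left_cancel₀ hune (h2.trans h3.symm)
  have hmem : ((u⁻¹ : V'ˣ) : V') ∈ compSubring V' A := by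
    rw [mem_compSubring, h1]
    exact b.2
  refine IsUnit.of_mul_eq_one (⟨((u⁻¹ : V'ˣ) : V'), hmem⟩ : compSubring V' A) (Subtype.ext ?_)
  change (a : V') * ((u⁻¹ : V'ˣ) : V') = 1
  rw [← hu]; simp

end Groth.Agent.Lib.Helper23.ValComp
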