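import Mathlib
import Groth.Agent.Lib.Helper23.ValComp

/-!
# Extending a field-valued point along a specialization (helper23)
-/

set_option autoImplicit false
universe u

open CategoryTheory CategoryTheory.Limits AlgebraicGeometry IsLocalRing

namespace Groth.Agent.Lib.Helper23.ValChainA

set_option backward.isDefEq.respectTransparency.types false in
/-- A field-valued point `s` whose image specializes to `y` extends to a valuation subring of the
field with closed point mapping to `y`. -/
theorem exists_valuationSubring_extend {Y : Scheme.{u}} (L : Type u) [Field L]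
    (s : Spec (CommRingCat.of L) ⟶ Y) (y : Y) (h : s (closedPoint L) ⤳ y) :
    ∃ (A : ValuationSubring L) (g : Spec (CommRingCat.of A) ⟶ Y),
      Spec.map (CommRingCat.ofHom (algebraMap A L)) ≫ g = s ∧ g (closedPoint A) = y := by
  let φ : Y.presheaf.stalk y ⟶ CommRingCat.of L :=
    Y.presheaf.stalkSpecializes h ≫ Scheme.stalkClosedPointTo s
  obtain ⟨A, hA, hA_local⟩ := exists_factor_valuationRing φ.hom
  let ψ : Y.presheaf.stalk y ⟶ .of A := CommRingCat.ofHom (φ.hom.codRestrict _ hA)
  refine ⟨A, Spec.map ψ ≫ Y.fromSpecStalk y, ?_, ?_⟩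
  · have e1 : Spec.map (Scheme.stalkClosedPointTo s) ≫ Y.fromSpecStalk _ = s :=
      Scheme.Spec_stalkClosedPointTo_fromSpecStalk s
    conv_rhs => rw [← e1, ← Scheme.SpecMap_stalkSpecializes_fromSpecStalk h]
    simp_rw [← Spec.map_comp_assoc]
    rfl
  · simp only [Scheme.Hom.comp_base, TopCat.coe_comp, Function.comp_apply]
    have : Spec.map ψ (closedPoint A) = closedPoint (Y.presheaf.stalk y) :=
      comap_closedPoint (S := A) (φ.hom.codRestrict A.toSubring hA)
    erw [this]
    exact Y.fromSpecStalk_closedPoint

end Groth.Agent.Lib.Helper23.ValChainA
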