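import Mathlib
import Groth.Agent.Lib.Helper23.ValComp

/-!
# Gluing morphisms from a composite valuation ring (helper23)
-/

set_option autoImplicit false
universe u

open CategoryTheory CategoryTheory.Limits AlgebraicGeometry IsLocalRing

namespace Groth.Agent.Lib.Helper23.ValChainB

open Groth.Agent.Lib.Helper23.ValComp

theorem exists_glue {Y : Scheme.{u}} {V' : Type u} [CommRing V'] [IsDomain V'] [ValuationRing V']
    (A : ValuationSubring (ResidueField V'))
    (g' : Spec (CommRingCat.of V') ⟶ Y) (gA : Spec (CommRingCat.of A) ⟶ Y)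
    (hc : Spec.map (CommRingCat.ofHom (residue V')) ≫ g' =
      Spec.map (CommRingCat.ofHom (algebraMap A (ResidueField V'))) ≫ gA) :
    ∃ g : Spec (CommRingCat.of (compSubring V' A)) ⟶ Y,
      Spec.map (CommRingCat.ofHom (incl V' A)) ≫ g = g' ∧
      Spec.map (CommRingCat.ofHom (proj V' A)) ≫ g = gA := by
  obtain ⟨U, hU, hyU, -⟩ :=
    exists_isAffineOpen_mem_and_subset (x := gA (closedPoint A)) (U := ⊤) trivial
  have hA_mem : ∀ a : Spec (CommRingCat.of A), gA a ∈ U := fun a =>
    ((specializes_closedPoint (R := A) a).map gA.continuous).mem_open U.isOpen hyU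
  have hrA : Set.range gA ⊆ Set.range hU.fromSpec := by
    rw [hU.range_fromSpec]
    rintro _ ⟨a, rfl⟩
    exact hA_mem a
  have hr' : Set.range g' ⊆ Set.range hU.fromSpec := by
    rw [hU.range_fromSpec]
    rintro _ ⟨v, rfl⟩
    have h1 : g' (closedPoint V') ∈ U := by
      have h2 : (Spec.map (CommRingCat.ofHom (residue V'))) (closedPoint (ResidueField V')) =
          closedPoint V' := comap_closedPoint (residue V')
      have h3 : (Spec.map (CommRingCat.ofHom (residue V')) ≫ g') (closedPoint (ResidueField V')) =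
          g' (closedPoint V') := by
        rw [Scheme.Hom.comp_apply, h2]
      rw [← h3, hc, Scheme.Hom.comp_apply]
      exact hA_mem _
    exact ((specializes_closedPoint (R := V') v).map g'.continuous).mem_open U.isOpen h1
  let lA := IsOpenImmersion.lift hU.fromSpec gA hrA
  let l' := IsOpenImmersion.lift hU.fromSpec g' hr'
  have hlA : lA ≫ hU.fromSpec = gA := IsOpenImmersion.lift_fac _ _ _
  have hl' : l' ≫ hU.fromSpec = g' := IsOpenImmersion.lift_fac _ _ _
  let a : Γ(Y, U) ⟶ CommRingCat.of A := Spec.preimage lA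
  let a' : Γ(Y, U) ⟶ CommRingCat.of V' := Spec.preimage l'
  have ha : Spec.map a = lA := Spec.map_preimage _
  have ha' : Spec.map a' = l' := Spec.map_preimage _
  have hcomp : a' ≫ CommRingCat.ofHom (residue V') =
      a ≫ CommRingCat.ofHom (algebraMap A (ResidueField V')) := by
    apply Spec.map_injective
    rw [Spec.map_comp, Spec.map_comp, ha, ha']
    rw [← cancel_mono hU.fromSpec, Category.assoc, Category.assoc, hl', hlA, hc]
  have hres : ∀ r : Γ(Y, U), residue V' (a'.hom r) = ((a.hom r : A) : ResidueField V') := by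
    intro r
    have := congrArg (fun k => k.hom r) hcomp
    exact this
  have hmem : ∀ r, a'.hom r ∈ compSubring V' A := by
    intro r
    rw [mem_compSubring, hres r]
    exact (a.hom r).2
  let abar : Γ(Y, U) ⟶ CommRingCat.of (compSubring V' A) :=
    CommRingCat.ofHom (a'.hom.codRestrict _ hmem)
  refine ⟨Spec.map abar ≫ hU.fromSpec, ?_, ?_⟩
  · rw [← Spec.map_comp_assoc, ← hl', ← ha']
    congr 1
  · rw [← Spec.map_comp_assoc, ← hlA, ← ha]
    congr 2
    ext r
    exact hres r

end Groth.Agent.Lib.Helper23.ValChainB
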