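import Mathlib
import Groth.Agent.Lib.Helper23.ValComp
import Groth.Agent.Lib.Helper23.ValChainA
import Groth.Agent.Lib.Helper23.ValChainB

/-!
# Every finite chain of specializations comes from a valuation ring (helper23)
-/

set_option autoImplicit false
universe u

open CategoryTheory CategoryTheory.Limits AlgebraicGeometry IsLocalRing

namespace Groth.Agent.Lib.Helper23.ValChainC

open Groth.Agent.Lib.Helper23.ValComp Groth.Agent.Lib.Helper23.ValChainA
  Groth.Agent.Lib.Helper23.ValChainB

/-- The statement that a chain of points is the image of a chain in the spectrum of a valuation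
ring, ending at the closed point. -/
def ChainFrom {Y : Scheme.{u}} (n : ℕ) (y : Fin (n + 1) → Y) : Prop :=
  ∃ (V : Type u) (_ : CommRing V) (_ : IsDomain V) (_ : ValuationRing V)
    (g : Spec (CommRingCat.of V) ⟶ Y) (q : Fin (n + 1) → Spec (CommRingCat.of V)),
    (∀ i j : Fin (n + 1), i ≤ j → q i ⤳ q j) ∧ (∀ i, g (q i) = y i) ∧
    q (Fin.last n) = closedPoint V

theorem chainFrom_zero {Y : Scheme.{u}} (y : Fin 1 → Y) : ChainFrom 0 y := by
  refine ⟨Y.residueField (y 0), inferInstance, inferInstance, inferInstance,
    Y.fromSpecResidueField (y 0), fun _ => closedPoint (Y.residueField (y 0)), ?_, ?_, rfl⟩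
  · intro i j _
    exact specializes_rfl
  · intro i
    have hi : i = 0 := Fin.ext (by have := i.2; simp only [Fin.val_zero]; omega)
    subst hi
    exact Y.fromSpecResidueField_apply (y 0) _

theorem chainFrom_succ {Y : Scheme.{u}} (n : ℕ) (y : Fin (n + 2) → Y)
    (hy : ∀ i j : Fin (n + 2), i ≤ j → y i ⤳ y j)
    (h : ChainFrom n (fun i => y i.castSucc)) : ChainFrom (n + 1) y := by
  obtain ⟨V', _, _, _, g', q', hq', hg', hlast⟩ := h
  -- the residue field point
  let s : Spec (CommRingCat.of (ResidueField V')) ⟶ Y :=
    Spec.map (CommRingCat.ofHom (residue V')) ≫ g'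
  have h2 : (Spec.map (CommRingCat.ofHom (residue V'))) (closedPoint (ResidueField V')) =
      closedPoint V' := comap_closedPoint (residue V')
  have hs : s (closedPoint (ResidueField V')) = y (Fin.last n).castSucc := by
    rw [Scheme.Hom.comp_apply, h2, ← hlast, hg']
  have hspec : s (closedPoint (ResidueField V')) ⤳ y (Fin.last (n + 1)) := by
    rw [hs]
    exact hy _ _ (Fin.le_last _)
  obtain ⟨A, gA, hgA, hgAcl⟩ := exists_valuationSubring_extend (ResidueField V') s _ hspec
  obtain ⟨g, hg1, hg2⟩ := exists_glue A g' gA hgA.symm
  have hprojcl : (Spec.map (CommRingCat.ofHom (proj V' A))) (closedPoint A) =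
      closedPoint (compSubring V' A) := comap_closedPoint (proj V' A)
  let q : Fin (n + 2) → Spec (CommRingCat.of (compSubring V' A)) :=
    Fin.lastCases (closedPoint (compSubring V' A))
      (fun i => (Spec.map (CommRingCat.ofHom (incl V' A))) (q' i))
  have hqlast : q (Fin.last (n + 1)) = closedPoint (compSubring V' A) := Fin.lastCases_last
  have hqcast : ∀ i : Fin (n + 1),
      q i.castSucc = (Spec.map (CommRingCat.ofHom (incl V' A))) (q' i) :=
    fun i => Fin.lastCases_castSucc i
  refine ⟨compSubring V' A, inferInstance, inferInstance, inferInstance, g, q, ?_, ?_, hqlast⟩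
  · intro i j hij
    induction j using Fin.lastCases with
    | last =>
      rw [hqlast]
      exact specializes_closedPoint (R := compSubring V' A) _
    | cast j =>
      induction i using Fin.lastCases with
      | last =>
        exfalso
        have := Fin.castSucc_lt_last j
        exact absurd hij (not_le.mpr this)
      | cast i =>
        rw [hqcast, hqcast]
        exact (hq' i j (Fin.castSucc_le_castSucc_iff.mp hij)).map
          (Spec.map (CommRingCat.ofHom (incl V' A))).continuous
  · intro i
    induction i using Fin.lastCases with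
    | last =>
      rw [hqlast, ← hprojcl, ← Scheme.Hom.comp_apply, hg2, hgAcl]
    | cast i =>
      rw [hqcast, ← Scheme.Hom.comp_apply, hg1, hg' i]

theorem chainFrom {Y : Scheme.{u}} : ∀ (n : ℕ) (y : Fin (n + 1) → Y)
    (_ : ∀ i j : Fin (n + 1), i ≤ j → y i ⤳ y j), ChainFrom n y := by
  intro n
  induction n with
  | zero => intro y _; exact chainFrom_zero y
  | succ n ih =>
    intro y hy
    exact chainFrom_succ n y hy (ih (fun i => y i.castSucc)
      (fun i j hij => hy _ _ (Fin.castSucc_le_castSucc_iff.mpr hij)))

end Groth.Agent.Lib.Helper23.ValChainC
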