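import Mathlib
import Groth.Prelude.Def_W4c2submetdescSubtr
import Groth.Agent.Lib.Helper23.ValChainC
import Groth.Agent.S14765

/-!
# Lifting finite chains along universally S-subtrusive morphisms (helper23)
-/

set_option autoImplicit false
universe u

open CategoryTheory CategoryTheory.Limits AlgebraicGeometry IsLocalRing

namespace Groth.Agent.Lib.Helper23.ValChainD

open Groth.Agent.Lib.Helper23.ValChainC

theorem exists_chain_lift_of_generalizing {α β : Type*} [TopologicalSpace α] [TopologicalSpace β]
    (p : α → β) (hp : GeneralizingMap p) :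
    ∀ (n : ℕ) (q : Fin (n + 1) → β) (_ : ∀ i j : Fin (n + 1), i ≤ j → q i ⤳ q j) (z : α)
      (_ : p z = q (Fin.last n)),
      ∃ x : Fin (n + 1) → α, (∀ i j : Fin (n + 1), i ≤ j → x i ⤳ x j) ∧ (∀ i, p (x i) = q i) ∧
        x (Fin.last n) = z := by
  intro n
  induction n with
  | zero =>
    intro q _ z hz
    refine ⟨fun _ => z, fun _ _ _ => specializes_rfl, fun i => ?_, rfl⟩
    have hi : i = Fin.last 0 := Fin.ext (by have := i.2; simp only [Fin.val_last]; omega)
    rw [hi, hz]
  | succ n ih =>
    intro q hq z hz
    have h1 : q (Fin.last n).castSucc ⤳ p z := by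
      rw [hz]
      exact hq _ _ (Fin.le_last _)
    obtain ⟨z', hz'z, hz'⟩ := hp h1
    obtain ⟨x', hx'1, hx'2, hx'3⟩ := ih (fun i => q i.castSucc)
      (fun i j hij => hq _ _ (Fin.castSucc_le_castSucc_iff.mpr hij)) z' hz'
    let x : Fin (n + 2) → α := Fin.lastCases z x'
    have hxlast : x (Fin.last (n + 1)) = z := Fin.lastCases_last
    have hxcast : ∀ i : Fin (n + 1), x i.castSucc = x' i := fun i => Fin.lastCases_castSucc i
    refine ⟨x, ?_, ?_, hxlast⟩
    · intro i j hij
      induction j using Fin.lastCases with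
      | last =>
        rw [hxlast]
        induction i using Fin.lastCases with
        | last => rw [hxlast]
        | cast i =>
          rw [hxcast]
          have := hx'1 i (Fin.last n) (Fin.le_last _)
          rw [hx'3] at this
          exact this.trans hz'z
      | cast j =>
        induction i using Fin.lastCases with
        | last =>
          exfalso
          have := Fin.castSucc_lt_last j
          exact absurd hij (not_le.mpr this)
        | cast i =>
          rw [hxcast, hxcast]
          exact hx'1 i j (Fin.castSucc_le_castSucc_iff.mp hij)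
    · intro i
      induction i using Fin.lastCases with
      | last => rw [hxlast, hz]
      | cast i => rw [hxcast]; exact hx'2 i

theorem exists_chain_lift {X Y : Scheme.{u}} (f : X ⟶ Y)
    (hf : Subtr.UnivSSubtrusive f) (n : ℕ) (y : Fin (n + 1) → Y)
    (hy : ∀ i j : Fin (n + 1), i ≤ j → y i ⤳ y j) :
    ∃ x : Fin (n + 1) → X, (∀ i j : Fin (n + 1), i ≤ j → x i ⤳ x j) ∧ ∀ i, f (x i) = y i := by
  obtain ⟨V, _, _, _, g, q, hq, hgq, hqlast⟩ := chainFrom n y hy
  haveI : (Subtr.UnivSSubtrusive.{u}).IsStableUnderBaseChange := by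
    unfold Subtr.UnivSSubtrusive
    infer_instance
  have hfV : Subtr.UnivSSubtrusive (pullback.snd f g) :=
    MorphismProperty.of_isPullback (P := Subtr.UnivSSubtrusive)
      (IsPullback.of_hasPullback f g) hf
  obtain ⟨Z, i, _, hflat, hsurj⟩ :=
    ((Groth.Agent.S14765.result V (pullback.snd f g)).out 0 5).mp hfV
  obtain ⟨z, hz⟩ := hsurj.surj (q (Fin.last n))
  obtain ⟨w, hw1, hw2, -⟩ := exists_chain_lift_of_generalizing (i ≫ pullback.snd f g)
    (Flat.generalizingMap (i ≫ pullback.snd f g)) n q hq z hz
  refine ⟨fun k => (i ≫ pullback.fst f g) (w k), ?_, ?_⟩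
  · intro a b hab
    exact (hw1 a b hab).map (i ≫ pullback.fst f g).continuous
  · intro k
    rw [← Scheme.Hom.comp_apply, Category.assoc, pullback.condition, ← Category.assoc,
      Scheme.Hom.comp_apply, hw2 k, hgq k]

end Groth.Agent.Lib.Helper23.ValChainD
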