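import Mathlib
import Groth.Prelude.Def_W4c2invhilbsl2

/-!
# Helpers for weighted-homogeneous pieces of `k[X₀..X₄]` and `k[X₀,X₁,X₂]` (W4c2invhilbsl2)
-/

namespace Groth.Agent.Lib.Helper23.W5
open MvPolynomial W4c2invhilbsl2

universe u

/-- Induction principle for weighted homogeneous polynomials: reduce to monomials. -/
theorem hom_induction {σ M : Type*} [AddCommMonoid M] {k : Type u} [CommSemiring k]
    (w : σ → M) (ν : M) (Q : MvPolynomial σ k → Prop)
    (h0 : Q 0) (hadd : ∀ a b, Q a → Q b → Q (a + b))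
    (hmono : ∀ d c, Finsupp.weight w d = ν → Q (monomial d c))
    (f : MvPolynomial σ k) (hf : f ∈ weightedHomogeneousSubmodule k w ν) : Q f := by
  classical
  have hf' : f.IsWeightedHomogeneous w ν := (mem_weightedHomogeneousSubmodule _ _ _ _).mp hf
  rw [← support_sum_monomial_coeff f]
  exact Finset.sum_induction _ Q hadd h0 (fun d hd => hmono d _ (hf' (mem_support_iff.mp hd)))

/-- Dividing a monomial by a smaller monomial. -/
theorem aux_div {σ M : Type*} [AddCommGroup M] {k : Type u} [CommSemiring k] (w : σ → M)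
    (s d : σ →₀ ℕ) (c : k) (hle : ∀ j, s j ≤ d j) :
    Finsupp.weight w (d - s) = Finsupp.weight w d - Finsupp.weight w s ∧
      monomial d c = monomial (d - s) c * monomial s 1 := by
  have hsum : (d - s) + s = d := by
    ext j
    have := hle j
    simp only [Finsupp.coe_add, Finsupp.coe_tsub, Pi.add_apply, Pi.sub_apply]
    omega
  constructor
  · have h := map_add (Finsupp.weight w) (d - s) s
    rw [hsum] at h
    rw [h, add_sub_cancel_right]
  · rw [monomial_mul, hsum, mul_one]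

theorem monomial_mem_zero {σ M : Type*} [AddCommMonoid M] {k : Type u} [CommSemiring k] (w : σ → M)
    (d : σ →₀ ℕ) (c : k) (h : Finsupp.weight w d = 0) :
    monomial d c ∈ weightedHomogeneousSubmodule k w 0 := by
  rw [mem_weightedHomogeneousSubmodule]
  exact isWeightedHomogeneous_monomial _ _ _ h

theorem aux_weight3 (p q m : ℕ) (d : Fin 3 →₀ ℕ) :
    Finsupp.weight (wt3 p q m) d
      = ((d 0 : ℤ) - p * d 1 + q * d 2, ((d 2 : ZMod m) - d 1)) := by
  rw [Finsupp.weight_eq_sum, Fin.sum_univ_three]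
  simp only [wt3]
  ext
  · simp
    ring
  · simp
    ring

theorem aux_weight5 (p q m : ℕ) (d : Fin 5 →₀ ℕ) :
    Finsupp.weight (wt5 p q m) d
      = ((d 0 : ℤ) - p * (d 1 + d 2) + q * (d 3 + d 4),
          ((d 3 : ZMod m) + d 4 - (d 1 + d 2))) := by
  rw [Finsupp.weight_eq_sum, Fin.sum_univ_five]
  simp only [wt5]
  ext
  · simp
    ring
  · simp
    ring

theorem wt5_zero (p q m : ℕ) : wt5 p q m 0 = ((1 : ℤ), (0 : ZMod m)) := rfl
theorem wt5_one (p q m : ℕ) : wt5 p q m 1 = (-(p : ℤ), (-1 : ZMod m)) := rfl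
theorem wt5_two (p q m : ℕ) : wt5 p q m 2 = (-(p : ℤ), (-1 : ZMod m)) := rfl
theorem wt5_three (p q m : ℕ) : wt5 p q m 3 = ((q : ℤ), (1 : ZMod m)) := rfl
theorem wt5_four (p q m : ℕ) : wt5 p q m 4 = ((q : ℤ), (1 : ZMod m)) := rfl

theorem monomial_eq5 {k : Type u} [CommSemiring k] (d : Fin 5 →₀ ℕ) (c : k) :
    monomial d c = C c * (X 0 ^ d 0 * X 1 ^ d 1 * X 2 ^ d 2 * X 3 ^ d 3 * X 4 ^ d 4) := by
  rw [monomial_eq, Finsupp.prod_fintype _ _ (fun i => pow_zero _), Fin.prod_univ_five]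

theorem monomial_eq3 {k : Type u} [CommSemiring k] (d : Fin 3 →₀ ℕ) (c : k) :
    monomial d c = C c * (X 0 ^ d 0 * X 1 ^ d 1 * X 2 ^ d 2) := by
  rw [monomial_eq, Finsupp.prod_fintype _ _ (fun i => pow_zero _), Fin.prod_univ_three]

end Groth.Agent.Lib.Helper23.W5
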