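import Mathlib
import Groth.Agent.Lib.Helper27.HD29
import Groth.Agent.Lib.Helper27.FFExt6
import Groth.Agent.Lib.Helper23.TateW4

/-! Weierstrass divisor: nonnegativity and degree (S12603). -/

set_option autoImplicit false

namespace Groth.Agent.Lib.Helper23.WD

open FunFld PowerSeries IntermediateField
open Groth.Agent.Lib.Helper27 Groth.Agent.Lib.Helper27.HD

universe u v
variable {k : Type u} {K : Type v} [Field k] [Field K] [Algebra k K]

/-- Laplace expansion bound: if the columns `1, …, n` are `P`-integral and column `0` is bounded by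
`c`, then so is the determinant. -/
theorem val_det_le_of_col (P : Place k K) {n : ℕ} (M : Matrix (Fin (n + 1)) (Fin (n + 1)) K)
    (c : WithZero (Multiplicative ℤ)) (h0 : ∀ r, P.1 (M r 0) ≤ c)
    (h1 : ∀ r (l : Fin n), P.1 (M r l.succ) ≤ 1) : P.1 M.det ≤ c := by
  rw [Matrix.det_succ_column_zero]
  apply Valuation.map_sum_le
  intro i _
  rw [map_mul, map_mul, map_pow, Valuation.map_neg, map_one, one_pow, one_mul]
  have h2 : P.1 (M.submatrix i.succAbove Fin.succ).det ≤ 1 :=
    (evalP_det P _ (fun r s => h1 _ s)).1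
  calc P.1 (M i 0) * P.1 (M.submatrix i.succAbove Fin.succ).det ≤ c * 1 :=
        mul_le_mul' (h0 i) h2
    _ = c := mul_one c

section AC

variable [IsAlgClosed k] (hK : IsFunctionField k K)

include hK in
/-- The divisor of `ds` read through expansions has degree `2g - 2`. -/
theorem isCanonical_divDiff {s : K} {H : K →ₐ[k] PowerSeries K} (hH : LocRes.IsHasseFamily s H)
    (Φ : Place k K → (K →ₐ[k] LaurentSeries k))
    (hΦ : ∀ P : Place k K, LocRes.IsExpansionAt P.1 (Φ P)) :
    IsCanonical k K (divDiff Φ 1 s) := by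
  have hstr := transcendental_var hK hH
  haveI := Groth.Agent.Lib.Helper23.FF.finiteDimensional_adjoin hK hstr
  haveI := isSeparable_var hK hH
  obtain ⟨W, hW, hcan, -⟩ := Groth.Agent.Lib.Helper23.Tate.exists_canonical_of_expansions hK
    isGeometric_of_isAlgClosed (fun _ => k) Φ hΦ 1 s one_ne_zero (kaehler_D_ne_zero hH)
  have : divDiff Φ 1 s = W := by
    ext P
    rw [divDiff_apply hK Φ hΦ hstr, hW]
  rw [this]; exact hcan

include hK in
theorem deg_divDiff {s : K} {H : K →ₐ[k] PowerSeries K} (hH : LocRes.IsHasseFamily s H)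
    (Φ : Place k K → (K →ₐ[k] LaurentSeries k))
    (hΦ : ∀ P : Place k K, LocRes.IsExpansionAt P.1 (Φ P)) :
    (divDiff Φ 1 s).deg = 2 * (genus k K : ℤ) - 2 :=
  (FF.core_of hK).deg_canonical (isCanonical_divDiff hK hH Φ hΦ)

end AC

end Groth.Agent.Lib.Helper23.WD
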