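import Mathlib
import Groth.Agent.Lib.Helper23.WD1

/-! Weierstrass divisor: nonnegativity (S12603). -/

set_option autoImplicit false

namespace Groth.Agent.Lib.Helper23.WD

open FunFld PowerSeries IntermediateField
open Groth.Agent.Lib.Helper27 Groth.Agent.Lib.Helper27.HD

universe u v
variable {k : Type u} {K : Type v} [Field k] [Field K] [Algebra k K]

section AC

variable [IsAlgClosed k] (hK : IsFunctionField k K)

include hK in
/-- Normalization at a place: a local parameter `t` with its Hasse family, and the tuple scaled to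
be integral with a unit entry; the Weierstrass divisor is unchanged. -/
theorem exists_normalization {n : ℕ} (φ : Fin (n + 1) → K) (hφ : LinearIndependent k φ)
    (τ : K →ₐ[k] K) (P : Place k K)
    (s : K) (H : K →ₐ[k] PowerSeries K) (hH : LocRes.IsHasseFamily s H)
    (J : Fin n → ℕ) (hJ : IsOrders K (hcol τ H φ) J)
    (Φ : Place k K → (K →ₐ[k] LaurentSeries k))
    (hΦ : ∀ P : Place k K, LocRes.IsExpansionAt P.1 (Φ P)) :
    ∃ (t : K) (Ht : K →ₐ[k] PowerSeries K) (y : K) (i0 : Fin (n + 1)),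
      P.1 t = WithZero.exp (-1) ∧ LocRes.IsHasseFamily t Ht ∧ y ≠ 0 ∧
      (∀ i, P.1 (y * φ i) ≤ 1) ∧ y * φ i0 = 1 ∧
      LinearIndependent k (fun i => y * φ i) ∧
      IsOrders K (hcol τ Ht (fun i => y * φ i)) J ∧
      wDiv τ Ht Φ t (fun i => y * φ i) J = wDiv τ H Φ s φ J := by
  classical
  obtain ⟨t, ht, ht0, htlt⟩ := Groth.Agent.Lib.Helper23.FF.exists_uniformizer P
  have hDKt : KaehlerDifferential.D k K t ≠ 0 := by
    apply LR.D_ne_zero_of_map (Φ P)
    have h1 : Valued.v (Φ P t) = WithZero.exp (-(1 : ℤ)) := by rw [(hΦ P).1]; exact ht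
    have h2 := LR.val_D_eq h1 (by simp)
    intro h3
    rw [h3, map_zero] at h2
    exact WithZero.exp_ne_zero h2.symm
  have hDt : LocRes.hasseD H 1 t ≠ 0 := by
    intro h3
    apply hDKt
    rw [kaehler_D_eq_smul hK hH t, h3, zero_smul]
  obtain ⟨Ht, hHt⟩ := exists_hasseFamily hH t hDt
  obtain ⟨i0, -, hi0⟩ := Finset.exists_mem_eq_inf' Finset.univ_nonempty (fun i => P.ord (φ i))
  have hφ0 : ∀ i, φ i ≠ 0 := fun i => hφ.ne_zero i
  set y : K := (φ i0)⁻¹ with hy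
  have hy0 : y ≠ 0 := inv_ne_zero (hφ0 i0)
  have hφ'i0 : y * φ i0 = 1 := inv_mul_cancel₀ (hφ0 i0)
  have hnorm : ∀ i, P.1 (y * φ i) ≤ 1 := by
    intro i
    have h1 : P.ord (φ i0) ≤ P.ord (φ i) := by
      rw [← hi0]; exact Finset.inf'_le _ (Finset.mem_univ i)
    show P.1 ((φ i0)⁻¹ * φ i) ≤ 1
    rw [map_mul, map_inv₀, FF.val_eq_exp_neg_ord P (hφ0 i0), FF.val_eq_exp_neg_ord P (hφ0 i),
      ← WithZero.exp_neg, ← WithZero.exp_add, ← WithZero.exp_zero, WithZero.exp_le_exp]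
    omega
  have hφ'li : LinearIndependent k (fun i => y * φ i) :=
    hφ.map' (LinearMap.mulLeft k y) (LinearMap.ker_eq_bot.mpr (mul_right_injective₀ hy0))
  have hinv := wDiv_invariant hK φ hφ τ s H hH t Ht hHt J hJ (1 : Matrix _ _ k)
    (by rw [Matrix.det_one]; exact one_ne_zero) y hy0 (fun i => y * φ i)
    (by
      intro i
      show y * φ i = y * ∑ j, (1 : Matrix (Fin (n + 1)) (Fin (n + 1)) k) i j • φ j
      congr 1
      simp [Matrix.one_apply]) Φ hΦ
  have hJ' : IsOrders K (hcol τ Ht (fun i => y * φ i)) J :=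
    (isOrders_scale_iff τ hHt φ y hy0 J).mpr ((isOrders_iff_change φ τ hK hH hHt J).mpr hJ)
  exact ⟨t, Ht, y, i0, ht, hHt, hy0, hnorm, hφ'i0, hφ'li, hJ', hinv⟩

include hK in
theorem wDiv_apply_nonneg {n : ℕ} (φ : Fin (n + 1) → K) (hφ : LinearIndependent k φ)
    (τ : K →ₐ[k] K) (P : Place k K)
    (s : K) (H : K →ₐ[k] PowerSeries K) (hH : LocRes.IsHasseFamily s H)
    (J : Fin n → ℕ) (hJ : IsOrders K (hcol τ H φ) J)
    (Φ : Place k K → (K →ₐ[k] LaurentSeries k))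
    (hΦ : ∀ P : Place k K, LocRes.IsExpansionAt P.1 (Φ P)) :
    0 ≤ wDiv τ H Φ s φ J P := by
  classical
  obtain ⟨t, Ht, y, i0, ht, hHt, hy0, hnorm, hi0, hli, hJ', hinv⟩ :=
    exists_normalization hK φ hφ τ P s H hH J hJ Φ hΦ
  rw [← hinv]
  set φ' : Fin (n + 1) → K := fun i => y * φ i with hφ'
  have hdet0 : (wrMat τ Ht φ' J).det ≠ 0 := det_wrMat_ne_zero_of_isOrders φ' hli τ hJ'
  have hτφ0 : ∀ i, τ (φ' i) ≠ 0 := fun i =>
    (map_ne_zero_iff τ τ.toRingHom.injective).mpr (hli.ne_zero i)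
  unfold wDiv
  rw [Finsupp.add_apply, Finsupp.add_apply, Finsupp.add_apply, Finsupp.smul_apply,
    Finsupp.smul_apply, divDiff_apply_eq_zero Φ P (hΦ P) ht,
    mapDiv_apply_eq_zero P φ' hnorm ⟨i0, by rw [hφ']; simp only; rw [hi0, map_one]⟩,
    FF.div_apply' hK, FF.mapDiv_apply' hK]
  set m : ℤ := Finset.univ.inf' Finset.univ_nonempty (fun i => P.ord ((τ ∘ φ') i)) with hm
  have hbound : P.1 (wrMat τ Ht φ' J).det ≤ WithZero.exp (-m) := by
    apply val_det_le_of_col P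
    · intro r
      show P.1 (τ (φ' r)) ≤ _
      rw [FF.val_eq_exp_neg_ord P (hτφ0 r), WithZero.exp_le_exp, neg_le_neg_iff]
      exact Finset.inf'_le _ (Finset.mem_univ r)
    · intro r l
      exact val_hasseD_le_one' hK P ht hHt (hnorm r) (J l)
  rw [FF.val_eq_exp_neg_ord P hdet0, WithZero.exp_le_exp] at hbound
  simp only [smul_eq_mul, mul_zero, add_zero]
  omega

include hK in
/-- S12603. -/
theorem wDiv_nonneg_and_deg {n : ℕ} (φ : Fin (n + 1) → K) (hφ : LinearIndependent k φ)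
    (τ : K →ₐ[k] K) (s : K) (H : K →ₐ[k] PowerSeries K) (hH : LocRes.IsHasseFamily s H)
    (J : Fin n → ℕ) (hJ : IsOrders K (hcol τ H φ) J)
    (Φ : Place k K → (K →ₐ[k] LaurentSeries k))
    (hΦ : ∀ P : Place k K, LocRes.IsExpansionAt P.1 (Φ P)) :
    0 ≤ wDiv τ H Φ s φ J ∧
    (wDiv τ H Φ s φ J).deg =
      ((Module.finrank τ.fieldRange K : ℤ) + n) * (mapDiv k φ).deg +
        (2 * (genus k K : ℤ) - 2) * ∑ l, (J l : ℤ) := by
  refine ⟨?_, ?_⟩
  · intro P
    exact wDiv_apply_nonneg hK φ hφ τ P s H hH J hJ Φ hΦ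
  · unfold wDiv
    rw [Groth.Agent.Lib.Helper23.FF.deg_add, Groth.Agent.Lib.Helper23.FF.deg_add,
      Groth.Agent.Lib.Helper23.FF.deg_add, Groth.Agent.Lib.Helper23.FF.deg_zsmul,
      Groth.Agent.Lib.Helper23.FF.deg_zsmul, Groth.Agent.Lib.Helper23.FF.deg_div hK,
      FF.deg_mapDiv_comp_algHom hK τ φ, deg_divDiff hK hH Φ hΦ]
    ring

end AC

end Groth.Agent.Lib.Helper23.WD
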