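import Mathlib
import Groth.Agent.Lib.Helper23.WD2
import Groth.Agent.Lib.Helper23.FFAut
import Groth.Agent.Lib.Helper27.HD30
import Groth.Agent.S12606
import Groth.Agent.S12615

/-! Weierstrass divisor: counting strong fixed points (S12604). -/

set_option autoImplicit false

namespace Groth.Agent.Lib.Helper23.WD

open FunFld PowerSeries IntermediateField
open Groth.Agent.Lib.Helper27 Groth.Agent.Lib.Helper27.HD

universe u v
variable {k : Type u} {K : Type v} [Field k] [Field K] [Algebra k K]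

theorem isFixedPt_of_strong {τ : K →ₐ[k] K} {P : Place k K} (hP : IsStrongFixedPt τ P) :
    IsFixedPt τ P := by
  intro z hz
  refine lt_of_le_of_lt (hP z hz) ?_
  rw [← WithZero.exp_zero, WithZero.exp_lt_exp]
  norm_num

section AC

variable [IsAlgClosed k] (hK : IsFunctionField k K)

/-- A family of expansions at all places. -/
theorem exists_expansions (hK : IsFunctionField k K) :
    ∃ Φ : Place k K → (K →ₐ[k] LaurentSeries k),
      ∀ P : Place k K, LocRes.IsExpansionAt P.1 (Φ P) := by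
  have h : ∀ P : Place k K, ∃ t : K, P.1 t = WithZero.exp (-1) := fun P => by
    obtain ⟨t, ht, -, -⟩ := Groth.Agent.Lib.Helper23.FF.exists_uniformizer P
    exact ⟨t, ht⟩
  choose t ht using h
  exact ⟨fun P => HD.exp hK P (ht P), fun P => isExpansionAt_exp hK P (ht P)⟩

include hK in
/-- At a strong fixed point the Weierstrass divisor has coefficient at least `n`. -/
theorem wDiv_apply_ge_of_strong {n : ℕ} (φ : Fin (n + 1) → K) (hφ : LinearIndependent k φ)
    (τ : K →ₐ[k] K) (hτφ : ¬ ∃ y : K, ∀ i, τ (φ i) = y * φ i)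
    (P : Place k K) (hP : IsStrongFixedPt τ P)
    (s : K) (H : K →ₐ[k] PowerSeries K) (hH : LocRes.IsHasseFamily s H)
    (J : Fin n → ℕ) (hJ : IsOrders K (hcol τ H φ) J)
    (Φ : Place k K → (K →ₐ[k] LaurentSeries k))
    (hΦ : ∀ P : Place k K, LocRes.IsExpansionAt P.1 (Φ P)) :
    (n : ℤ) ≤ wDiv τ H Φ s φ J P := by
  classical
  rcases Nat.eq_zero_or_pos n with hn0 | hn
  · subst hn0
    exfalso
    apply hτφ
    refine ⟨τ (φ 0) / φ 0, fun i => ?_⟩
    have : i = 0 := Fin.ext (by have := i.2; omega)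
    subst this
    rw [div_mul_cancel₀ _ (hφ.ne_zero 0)]
  obtain ⟨t, Ht, y, i0, ht, hHt, hy0, hnorm, hi0, hli, hJ', hinv⟩ :=
    exists_normalization hK φ hφ τ P s H hH J hJ Φ hΦ
  rw [← hinv]
  set φ' : Fin (n + 1) → K := fun i => y * φ i with hφ'
  have heff : (1 : K) ∈ Submodule.span k (Set.range φ') := by
    rw [← hi0]; exact Submodule.subset_span ⟨i0, rfl⟩
  have hτφ' : ¬ ∃ y' : K, ∀ i, τ (φ' i) = y' * φ' i := by
    rintro ⟨y', hy'⟩
    apply hτφ
    have hτy : τ y ≠ 0 := (map_ne_zero_iff τ τ.toRingHom.injective).mpr hy0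
    refine ⟨y' * y / τ y, fun i => ?_⟩
    have := hy' i
    simp only [hφ', map_mul] at this
    field_simp
    rw [mul_comm] at this
    rw [this]; ring
  obtain ⟨J', hJ''⟩ := exists_isOrdersAt hK P ht hHt φ' hli hnorm heff
  have h1 := (Groth.Agent.S12615.result k K hK τ P (isFixedPt_of_strong hP) φ' hli heff hnorm t ht
    Ht hHt J hJ' J' hJ'' Φ hΦ).1
  have h2 := Groth.Agent.S12606.result k K hK τ P hP hn φ' hli heff hnorm hτφ' t ht Ht hHt J hJ'
    J' hJ''
  have h3 : 1 ≤ J' ⟨0, hn⟩ := one_le_orders hK P ht hHt φ' hnorm hJ'' ⟨0, hn⟩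
  refine le_trans ?_ h1
  have h4 : ∀ l : Fin n, (1 : ℤ) ≤ (J' l : ℤ) - J l := by
    intro l
    have := h2 l
    omega
  calc (n : ℤ) = ∑ _l : Fin n, (1 : ℤ) := by simp
    _ ≤ ∑ l, ((J' l : ℤ) - J l) := Finset.sum_le_sum fun l _ => h4 l

include hK in
/-- S12604. -/
theorem strongFixedPt_count {n : ℕ} (φ : Fin (n + 1) → K) (hφ : LinearIndependent k φ)
    (τ : K →ₐ[k] K) (hτφ : ¬ ∃ y : K, ∀ i, τ (φ i) = y * φ i)
    (s : K) (H : K →ₐ[k] PowerSeries K) (hH : LocRes.IsHasseFamily s H)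
    (J : Fin n → ℕ) (hJ : IsOrders K (hcol τ H φ) J) :
    {P : Place k K | IsStrongFixedPt τ P}.Finite ∧
    (n : ℤ) * (Set.ncard {P : Place k K | IsStrongFixedPt τ P} : ℤ) ≤
      ((n : ℤ) + Module.finrank τ.fieldRange K) * (mapDiv k φ).deg +
        (2 * (genus k K : ℤ) - 2) * ∑ l, (J l : ℤ) := by
  classical
  obtain ⟨Φ, hΦ⟩ := exists_expansions hK
  obtain ⟨hnn, hdeg⟩ := wDiv_nonneg_and_deg hK φ hφ τ s H hH J hJ Φ hΦ
  set W := wDiv τ H Φ s φ J with hW
  have hn : 0 < n := by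
    rcases Nat.eq_zero_or_pos n with hn0 | hn
    · subst hn0
      exfalso
      apply hτφ
      refine ⟨τ (φ 0) / φ 0, fun i => ?_⟩
      have : i = 0 := Fin.ext (by have := i.2; omega)
      subst this
      rw [div_mul_cancel₀ _ (hφ.ne_zero 0)]
    · exact hn
  have hge : ∀ P, IsStrongFixedPt τ P → (n : ℤ) ≤ W P := fun P hP =>
    wDiv_apply_ge_of_strong hK φ hφ τ hτφ P hP s H hH J hJ Φ hΦ
  have hsub : {P : Place k K | IsStrongFixedPt τ P} ⊆ (W.support : Set (Place k K)) := by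
    intro P hP
    rw [Finset.mem_coe, Finsupp.mem_support_iff]
    have := hge P hP
    have hn' : (0 : ℤ) < n := by exact_mod_cast hn
    omega
  have hfin : {P : Place k K | IsStrongFixedPt τ P}.Finite := W.support.finite_toSet.subset hsub
  refine ⟨hfin, ?_⟩
  have h1 := Groth.Agent.Lib.Helper23.FF.sum_le_deg_of_nonneg hnn hfin.toFinset
  have h2 : ∑ Q ∈ hfin.toFinset, (n : ℤ) ≤ ∑ Q ∈ hfin.toFinset, W Q * (Q.deg : ℤ) := by
    apply Finset.sum_le_sum
    intro Q hQ
    rw [Groth.Agent.Lib.Helper23.FF.deg_eq_one hK Q, Nat.cast_one, mul_one]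
    exact hge Q ((Set.Finite.mem_toFinset hfin).mp hQ)
  rw [Finset.sum_const, nsmul_eq_mul, ← Set.ncard_eq_toFinset_card _ hfin] at h2
  have h3 := h2.trans h1
  rw [hdeg] at h3
  rw [mul_comm (n : ℤ)]
  have : ((n : ℤ) + Module.finrank τ.fieldRange K) = ((Module.finrank τ.fieldRange K : ℤ) + n) := by
    ring
  rw [this]
  exact h3

end AC

end Groth.Agent.Lib.Helper23.WD
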