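import Mathlib
import Groth.Agent.Lib.Helper23.WD3
import Groth.Agent.Lib.Helper23.FFGap
import Groth.Agent.Lib.Helper23.FFLin1
import Groth.Agent.Lib.Helper27.HD32

/-! Combinatorics of orders and pole numbers for the Stöhr–Voloch bound (S11053). -/

set_option autoImplicit false

namespace Groth.Agent.Lib.Helper23.WD

open FunFld PowerSeries IntermediateField
open Groth.Agent.Lib.Helper27 Groth.Agent.Lib.Helper27.HD

universe u v
variable {k : Type u} {K : Type v} [Field k] [Field K] [Algebra k K]

/-! ### combinatorics -/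

theorem sum_range_ite_lt (m c : ℕ) : ∀ n, m ≤ n →
    ∑ i ∈ Finset.range n, (if i < m then 0 else c) = (n - m) * c := by
  intro n hn
  induction n, hn using Nat.le_induction with
  | base =>
    rw [Nat.sub_self, zero_mul]
    apply Finset.sum_eq_zero
    intro i hi
    rw [if_pos (Finset.mem_range.mp hi)]
  | succ n hmn ih =>
    rw [Finset.sum_range_succ, ih, if_neg (by omega), Nat.succ_sub hmn, Nat.succ_mul]

theorem sum_range_succ_mul_two (n : ℕ) : 2 * ∑ i ∈ Finset.range n, (i + 1) = n * (n + 1) := by
  induction n with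
  | zero => simp
  | succ n ih =>
    rw [Finset.sum_range_succ, mul_add, ih]; ring

/-- A strictly increasing sequence with values in `[1, N]` satisfies `J l ≤ N - (n - 1 - l)`. -/
theorem strictMono_le_top {n : ℕ} (J : Fin n → ℕ) (hJ : StrictMono J) (N : ℕ)
    (htop : ∀ l, J l ≤ N) (l : Fin n) : J l + (n - 1 - l) ≤ N := by
  have key : ∀ (d : ℕ) (a : Fin n), (a : ℕ) + d + 1 = n → J a + d ≤ N := by
    intro d
    induction d with
    | zero =>
      intro a _
      exact htop a
    | succ d ih =>
      intro a ha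
      have hlt : (a : ℕ) + 1 < n := by omega
      have h1 := ih ⟨a + 1, hlt⟩ (by simp only; omega)
      have h2 : J a < J ⟨a + 1, hlt⟩ := hJ (by rw [Fin.lt_def]; simp)
      omega
  have hl := l.2
  have := key (n - 1 - l) l (by omega)
  exact this

/-- A strictly increasing positive sequence is at least `l + 1`. -/
theorem strictMono_succ_le {n : ℕ} (J : Fin n → ℕ) (hJ : StrictMono J) (h1 : ∀ l, 1 ≤ J l)
    (l : Fin n) : (l : ℕ) + 1 ≤ J l := by
  have key : ∀ (d : ℕ) (a : Fin n), (a : ℕ) = d → d + 1 ≤ J a := by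
    intro d
    induction d with
    | zero =>
      intro a _
      exact h1 a
    | succ d ih =>
      intro a ha
      have hlt : d < n := by have := a.2; omega
      have h2 := ih ⟨d, hlt⟩ rfl
      have h3 : J ⟨d, hlt⟩ < J a := hJ (by rw [Fin.lt_def]; simp only; omega)
      omega
  exact key l l rfl

/-- If a strictly increasing positive sequence takes all the values `1, …, m`, then it starts
with `1, …, m`. -/
theorem strictMono_eq_of_mem {n : ℕ} (J : Fin n → ℕ) (hJ : StrictMono J) (h1 : ∀ l, 1 ≤ J l)
    (m : ℕ) (hmem : ∀ j, 1 ≤ j → j ≤ m → j ∈ Set.range J) (l : Fin n) (hl : (l : ℕ) + 1 ≤ m) :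
    J l = l + 1 := by
  have key : ∀ (a : ℕ) (l : Fin n), (l : ℕ) = a → a + 1 ≤ m → J l = a + 1 := by
    intro a
    induction a using Nat.strong_induction_on with
    | _ a ih =>
      intro l hla ham
      obtain ⟨l', hl'⟩ := hmem (a + 1) (by omega) ham
      have h2 := strictMono_succ_le J hJ h1 l
      rcases lt_trichotomy l' l with h | h | h
      · exfalso
        have hlt : (l' : ℕ) < a := by rw [← hla]; exact h
        have := ih l' hlt l' rfl (by omega)
        omega
      · rw [← h]; exact hl'
      · exfalso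
        have := hJ h
        omega
  exact key l l rfl hl

/-- The sum bound for orders at a place of a complete linear system of large degree. -/
theorem sum_orders_le {n g : ℕ} (hg : g < n) (J : Fin n → ℕ) (hJ : StrictMono J)
    (h1 : ∀ l, 1 ≤ J l) (htop : ∀ l, J l ≤ n + g)
    (hmem : ∀ j, 1 ≤ j → j ≤ n - g → j ∈ Set.range J) :
    2 * ∑ l, J l ≤ n * (n + 1) + 2 * (g * g) := by
  have hb : ∀ l : Fin n, J l ≤ ((l : ℕ) + 1) + (if (l : ℕ) < n - g then 0 else g) := by
    intro l
    split_ifs with h
    · rw [strictMono_eq_of_mem J hJ h1 (n - g) hmem l (by omega)]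
    · have := strictMono_le_top J hJ (n + g) htop l
      have := l.2
      omega
  have h2 : ∑ l, J l ≤ ∑ l : Fin n, (((l : ℕ) + 1) + (if (l : ℕ) < n - g then 0 else g)) :=
    Finset.sum_le_sum fun l _ => hb l
  rw [Fin.sum_univ_eq_sum_range (fun i => (i + 1) + (if i < n - g then 0 else g)) n,
    Finset.sum_add_distrib, sum_range_ite_lt (n - g) g n (by omega)] at h2
  have h3 := sum_range_succ_mul_two n
  have h4 : n - (n - g) = g := by omega
  rw [h4] at h2
  omega

/-- A strictly increasing sequence is at least the index. -/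
theorem two_mul_sum_ge {n : ℕ} (J : Fin n → ℕ) (hJ : StrictMono J) :
    n * (n - 1) ≤ 2 * ∑ l, J l := by
  have hb : ∀ l : Fin n, (l : ℕ) ≤ J l := fun l => strictMono_nat_le J hJ l
  have h2 : ∑ l : Fin n, (l : ℕ) ≤ ∑ l, J l := Finset.sum_le_sum fun l _ => hb l
  rw [Fin.sum_univ_eq_sum_range (fun i => i) n] at h2
  have h3 := Finset.sum_range_id_mul_two n
  omega

end Groth.Agent.Lib.Helper23.WD
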