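import Mathlib
import Groth.Agent.Lib.Helper23.WD4
import Groth.Agent.Lib.Helper23.HasseEx

/-! The Stöhr–Voloch bound for strong fixed points (S11053): function field part. -/

set_option autoImplicit false

namespace Groth.Agent.Lib.Helper23.WD

open FunFld PowerSeries IntermediateField
open Groth.Agent.Lib.Helper27 Groth.Agent.Lib.Helper27.HD
open Groth.Agent.Lib.Helper23.FF

universe u v
variable {k : Type u} {K : Type v} [Field k] [Field K] [Algebra k K]

section AC

variable [IsAlgClosed k] (hK : IsFunctionField k K)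

include hK in
/-- Every integer `m ≥ 2g` is a pole number at every place. -/
theorem exists_pole (P : Place k K) (m : ℕ) (hm : 2 * genus k K ≤ m) :
    ∃ f : K, f ∈ L (Finsupp.single P (m : ℤ) : Divisor k K) ∧ P.1 f = WithZero.exp (m : ℤ) := by
  classical
  have C := Groth.Agent.Lib.Helper27.FF.core_of hK
  have h1 : IsPoleNumber P (m : ℤ) := by
    rw [isPoleNumber_iff]
    intro heq
    have e1 := C.ell_eq_of_deg_ge (D := (Finsupp.single P (m : ℤ) : Divisor k K))
      (by rw [deg_single' hK]; omega)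
    have e2 := C.ell_eq_of_deg_ge (D := (Finsupp.single P ((m : ℤ) - 1) : Divisor k K))
      (by rw [deg_single' hK]; omega)
    have e3 : ell (Finsupp.single P (m : ℤ) : Divisor k K) =
        ell (Finsupp.single P ((m : ℤ) - 1) : Divisor k K) := by
      unfold ell; rw [heq]
    rw [deg_single' hK] at e1 e2
    omega
  obtain ⟨f, hf0, hf, hord⟩ := h1
  refine ⟨f, hf, ?_⟩
  rw [Groth.Agent.Lib.Helper27.FF.val_eq_exp_neg_ord P hf0, hord, neg_neg]

include hK in
/-- Local data at a strong fixed point: normalization and the order inequalities. -/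
theorem exists_orders_at_strong {n : ℕ} (hn : 0 < n) (φ : Fin (n + 1) → K)
    (hφ : LinearIndependent k φ)
    (τ : K →ₐ[k] K) (hτφ : ¬ ∃ y : K, ∀ i, τ (φ i) = y * φ i)
    (P : Place k K) (hP : IsStrongFixedPt τ P)
    (s : K) (H : K →ₐ[k] PowerSeries K) (hH : LocRes.IsHasseFamily s H)
    (J : Fin n → ℕ) (hJ : IsOrders K (hcol τ H φ) J) :
    ∃ (t : K) (Ht : K →ₐ[k] PowerSeries K) (y : K) (J' : Fin n → ℕ),
      P.1 t = WithZero.exp (-1) ∧ LocRes.IsHasseFamily t Ht ∧ y ≠ 0 ∧
      (∀ i, P.1 (y * φ i) ≤ 1) ∧ (∃ i0, y * φ i0 = 1) ∧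
      LinearIndependent k (fun i => y * φ i) ∧
      IsOrders (IsLocalRing.ResidueField P.O) (hcolAt P Ht (fun i => y * φ i)) J' ∧
      ∀ l, J l + J' ⟨0, hn⟩ ≤ J' l := by
  classical
  obtain ⟨Φ, hΦ⟩ := exists_expansions hK
  obtain ⟨t, Ht, y, i0, ht, hHt, hy0, hnorm, hi0, hli, hJ', hinv⟩ :=
    exists_normalization hK φ hφ τ P s H hH J hJ Φ hΦ
  set φ' : Fin (n + 1) → K := fun i => y * φ i with hφ'
  have heff : (1 : K) ∈ Submodule.span k (Set.range φ') := by
    rw [← hi0]; exact Submodule.subset_span ⟨i0, rfl⟩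
  have hτφ' : ¬ ∃ y' : K, ∀ i, τ (φ' i) = y' * φ' i := by
    rintro ⟨y', hy'⟩
    apply hτφ
    have hτy : τ y ≠ 0 := (map_ne_zero_iff τ τ.toRingHom.injective).mpr hy0
    refine ⟨y' * y / τ y, fun i => ?_⟩
    have := hy' i
    simp only [hφ', map_mul] at this
    field_simp
    rw [mul_comm] at this
    rw [this]; ring
  obtain ⟨J', hJ''⟩ := exists_isOrdersAt hK P ht hHt φ' hli hnorm heff
  have h2 := Groth.Agent.S12606.result k K hK τ P hP hn φ' hli heff hnorm hτφ' t ht Ht hHt J hJ'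
    J' hJ''
  exact ⟨t, Ht, y, J', ht, hHt, hy0, hnorm, ⟨i0, hi0⟩, hli, hJ'', h2⟩

end AC

end Groth.Agent.Lib.Helper23.WD
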