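import Mathlib
import Groth.Agent.Lib.Helper23.WD5

/-! The Stöhr–Voloch bound for strong fixed points (S11053): the order sum bound. -/

set_option autoImplicit false

namespace Groth.Agent.Lib.Helper23.WD

open FunFld PowerSeries IntermediateField
open Groth.Agent.Lib.Helper27 Groth.Agent.Lib.Helper27.HD
open Groth.Agent.Lib.Helper23.FF

universe u v
variable {k : Type u} {K : Type v} [Field k] [Field K] [Algebra k K]

theorem val_mul_le_one_of_mem_span {ι : Type*} (P : Place k K) (φ : ι → K) (y : K)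
    (hnorm : ∀ i, P.1 (y * φ i) ≤ 1) {f : K} (hf : f ∈ Submodule.span k (Set.range φ)) :
    P.1 (y * f) ≤ 1 := by
  induction hf using Submodule.span_induction with
  | mem x hx =>
    obtain ⟨i, rfl⟩ := hx
    exact hnorm i
  | zero => simp
  | add x z _ _ hx hz =>
    rw [mul_add]
    exact (P.1.map_add _ _).trans (max_le hx hz)
  | smul c x _ hx =>
    rw [Algebra.smul_def, ← mul_assoc, mul_comm y, mul_assoc, map_mul]
    calc P.1 (algebraMap k K c) * P.1 (y * x) ≤ 1 * 1 := mul_le_mul' (P.2.1 c) hx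
      _ = 1 := one_mul 1

theorem mul_mem_span_of_mem_span {ι : Type*} (φ : ι → K) (y : K) {f : K}
    (hf : f ∈ Submodule.span k (Set.range φ)) :
    y * f ∈ Submodule.span k (Set.range fun i => y * φ i) := by
  induction hf using Submodule.span_induction with
  | mem x hx =>
    obtain ⟨i, rfl⟩ := hx
    exact Submodule.subset_span ⟨i, rfl⟩
  | zero => rw [mul_zero]; exact Submodule.zero_mem _
  | add x z _ _ hx hz => rw [mul_add]; exact Submodule.add_mem _ hx hz
  | smul c x _ hx =>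
    rw [mul_smul_comm]
    exact Submodule.smul_mem _ _ hx

section AC

variable [IsAlgClosed k] (hK : IsFunctionField k K)

include hK in
/-- The degree of the map defined by a spanning tuple of `L(D)` is at most `deg D`. -/
theorem deg_mapDiv_le {n : ℕ} (φ : Fin (n + 1) → K) (hφ0 : ∀ i, φ i ≠ 0) (D : Divisor k K)
    (hmem : ∀ i, φ i ∈ L D) : (mapDiv k φ).deg ≤ D.deg := by
  have hle : 0 ≤ D - mapDiv k φ := by
    intro Q
    rw [Finsupp.sub_apply, Groth.Agent.Lib.Helper27.FF.mapDiv_apply' hK]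
    simp only [Finsupp.coe_zero, Pi.zero_apply]
    have h1 : -D Q ≤ Finset.univ.inf' Finset.univ_nonempty (fun i => Q.ord (φ i)) := by
      apply Finset.le_inf'
      intro i _
      have h2 := hmem i Q
      rw [Groth.Agent.Lib.Helper27.FF.val_eq_exp_neg_ord Q (hφ0 i), WithZero.exp_le_exp] at h2
      omega
    omega
  have h2 := Groth.Agent.Lib.Helper23.FF.deg_nonneg hle
  rw [Groth.Agent.Lib.Helper23.FF.deg_sub] at h2
  omega

include hK in
/-- The bound `2 Σ jₗ ≤ n(n-1) + 2g²` for the `τ`-orders of a basis of `L((n+g)P₀)`, `P₀` a strong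
fixed point. -/
theorem two_mul_sum_tau_orders_le {n : ℕ} (hn : genus k K < n) (τ : K →ₐ[k] K)
    (P₀ : Place k K) (hP₀ : IsStrongFixedPt τ P₀)
    (φ : Fin (n + 1) → K) (hφ : LinearIndependent k φ)
    (hspan : Submodule.span k (Set.range φ) =
      L (Finsupp.single P₀ ((n + genus k K : ℕ) : ℤ) : Divisor k K))
    (hτφ : ¬ ∃ y : K, ∀ i, τ (φ i) = y * φ i)
    (s : K) (H : K →ₐ[k] PowerSeries K) (hH : LocRes.IsHasseFamily s H)
    (J : Fin n → ℕ) (hJ : IsOrders K (hcol τ H φ) J) :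
    2 * ∑ l, (J l : ℤ) ≤ (n : ℤ) * ((n : ℤ) - 1) + 2 * ((genus k K : ℤ) * genus k K) := by
  classical
  set g := genus k K with hg
  have hn0 : 0 < n := by omega
  obtain ⟨t, Ht, y, J', ht, hHt, hy0, hnorm, ⟨i0, hi0⟩, hli, hJ', h2⟩ :=
    exists_orders_at_strong hK hn0 φ hφ τ hτφ P₀ hP₀ s H hH J hJ
  set φ' : Fin (n + 1) → K := fun i => y * φ i with hφ'
  set D : Divisor k K := Finsupp.single P₀ ((n + g : ℕ) : ℤ) with hD
  have hDP : D P₀ = ((n + g : ℕ) : ℤ) := Finsupp.single_eq_same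
  have heff : (1 : K) ∈ Submodule.span k (Set.range φ') := by
    rw [← hi0]; exact Submodule.subset_span ⟨i0, rfl⟩
  have hφ0 : ∀ i, φ i ≠ 0 := fun i => hφ.ne_zero i
  have hφmem : ∀ i, φ i ∈ L D := fun i => by
    rw [← hspan]; exact Submodule.subset_span ⟨i, rfl⟩
  -- the valuation of `y`
  have hvaly : P₀.1 y = WithZero.exp (-((n + g : ℕ) : ℤ)) := by
    obtain ⟨f₁, hf₁, hf₁v⟩ := exists_pole hK P₀ (n + g) (by omega)
    have hf₁s : f₁ ∈ Submodule.span k (Set.range φ) := by rw [hspan]; exact hf₁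
    have h3 := val_mul_le_one_of_mem_span P₀ φ y hnorm hf₁s
    rw [map_mul, hf₁v, Groth.Agent.Lib.Helper27.FF.val_eq_exp_neg_ord P₀ hy0, ← WithZero.exp_add,
      ← WithZero.exp_zero, WithZero.exp_le_exp] at h3
    have h4 := hφmem i0 P₀
    rw [hDP, Groth.Agent.Lib.Helper27.FF.val_eq_exp_neg_ord P₀ (hφ0 i0), WithZero.exp_le_exp] at h4
    have h5 : P₀.ord y + P₀.ord (φ i0) = 0 := by
      rw [← Groth.Agent.Lib.Helper27.FF.ord_mul P₀ hy0 (hφ0 i0), hi0,
        Groth.Agent.Lib.Helper27.FF.ord_one]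
    rw [Groth.Agent.Lib.Helper27.FF.val_eq_exp_neg_ord P₀ hy0, WithZero.exp_inj]
    omega
  -- small values are orders at `P₀`
  have hmem : ∀ j, 1 ≤ j → j ≤ n - g → j ∈ Set.range J' := by
    intro j hj1 hj2
    obtain ⟨f, hf, hfv⟩ := exists_pole hK P₀ (n + g - j) (by omega)
    have hfD : f ∈ L D := by
      refine L_mono ?_ hf
      intro Q
      rw [hD, Finsupp.single_apply, Finsupp.single_apply]
      split_ifs
      · push_cast; omega
      · exact le_rfl
    have hfs : f ∈ Submodule.span k (Set.range φ) := by rw [hspan]; exact hfD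
    have h3 : y * f ∈ Submodule.span k (Set.range φ') := mul_mem_span_of_mem_span φ y hfs
    have h4 : P₀.1 (y * f) = WithZero.exp (-(j : ℤ)) := by
      rw [map_mul, hvaly, hfv, ← WithZero.exp_add]
      congr 1
      push_cast
      omega
    rcases (mem_orders_iff hK P₀ ht hHt φ' heff hnorm hJ' j).mpr ⟨_, h3, h4⟩ with h0 | hr
    · omega
    · exact hr
  -- orders are at most `n + g`
  have hdeg' : (mapDiv k φ').deg = (mapDiv k φ).deg := by
    rw [hφ', mapDiv_scale hK φ hφ0 hy0, Groth.Agent.Lib.Helper23.FF.deg_sub,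
      Groth.Agent.Lib.Helper23.FF.deg_div hK, sub_zero]
  have hdegφ : (mapDiv k φ).deg ≤ ((n + g : ℕ) : ℤ) := by
    have := deg_mapDiv_le hK φ hφ0 D hφmem
    rwa [hD, deg_single' hK] at this
  have htop : ∀ l, J' l ≤ n + g := by
    intro l
    have := orders_at_le_deg hK P₀ ht hHt φ' hli hnorm heff hJ' l
    rw [hdeg'] at this
    have := this.trans hdegφ
    exact_mod_cast this
  have h1le : ∀ l, 1 ≤ J' l := one_le_orders hK P₀ ht hHt φ' hnorm hJ'
  have hsum := sum_orders_le hn J' hJ'.1 h1le htop hmem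
  have hJ'0 : J' ⟨0, hn0⟩ = 1 := by
    have := strictMono_eq_of_mem J' hJ'.1 h1le (n - g) hmem ⟨0, hn0⟩ (by simp only; omega)
    simpa using this
  have hle : ∀ l, J l + 1 ≤ J' l := by
    intro l
    have := h2 l
    rw [hJ'0] at this
    exact this
  have hsum2 : ∑ l, (J l + 1) ≤ ∑ l, J' l := Finset.sum_le_sum fun l _ => hle l
  rw [Finset.sum_add_distrib, Finset.sum_const, Finset.card_univ, Fintype.card_fin, smul_eq_mul,
    mul_one] at hsum2
  have hcast : (∑ l, (J l : ℤ)) = ((∑ l, J l : ℕ) : ℤ) := by push_cast; rfl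
  rw [hcast]
  have h5 : 2 * (∑ l, J l) + 2 * n ≤ n * (n + 1) + 2 * (g * g) := by omega
  have h6 : (2 * ((∑ l, J l : ℕ) : ℤ)) + 2 * n ≤ (n : ℤ) * ((n : ℤ) + 1) + 2 * ((g : ℤ) * g) := by
    exact_mod_cast h5
  linarith

end AC

end Groth.Agent.Lib.Helper23.WD
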