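import Mathlib
import Groth.Agent.Lib.Helper23.WD6

/-! The Stöhr–Voloch bound for strong fixed points (S11053). -/

set_option autoImplicit false

namespace Groth.Agent.Lib.Helper23.WD

open FunFld PowerSeries IntermediateField
open Groth.Agent.Lib.Helper27 Groth.Agent.Lib.Helper27.HD
open Groth.Agent.Lib.Helper23.FF

universe u v
variable {k : Type u} {K : Type v} [Field k] [Field K] [Algebra k K]

section AC

variable [IsAlgClosed k] (hK : IsFunctionField k K)

include hK in
/-- The integer form of the bound. -/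
theorem strong_bound_int (τ : K →ₐ[k] K) (n : ℕ) (hn : genus k K < n)
    (P₀ : Place k K) (hP₀ : IsStrongFixedPt τ P₀) :
    {P : Place k K | IsStrongFixedPt τ P}.Finite ∧
    (n : ℤ) * (Set.ncard {P : Place k K | IsStrongFixedPt τ P} : ℤ) ≤
      n + n * (Module.finrank τ.fieldRange K : ℤ) + (n : ℤ) ^ 2 * genus k K +
        (Module.finrank τ.fieldRange K : ℤ) * genus k K +
        2 * (genus k K : ℤ) ^ 2 * ((genus k K : ℤ) - 1) := by
  classical
  set g := genus k K with hg
  set d := Module.finrank τ.fieldRange K with hd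
  have C := Groth.Agent.Lib.Helper27.FF.core_of hK
  set D : Divisor k K := Finsupp.single P₀ ((n + g : ℕ) : ℤ) with hD
  have hDP : D P₀ = ((n + g : ℕ) : ℤ) := Finsupp.single_eq_same
  -- a basis of `L(D)`
  have hell : ell D = n + 1 := by
    have := C.ell_eq_of_deg_ge (D := D) (by rw [hD, deg_single' hK]; push_cast; omega)
    rw [hD, deg_single' hK] at this
    have h2 : ((ell D : ℕ) : ℤ) = ((n + 1 : ℕ) : ℤ) := by
      rw [hD]; push_cast at this ⊢; omega
    exact_mod_cast h2
  haveI : FiniteDimensional k (L D) := Groth.Agent.Lib.Helper27.FF.finiteDimensional_L hK D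
  let b := Module.finBasisOfFinrankEq k (L D) hell
  set φ : Fin (n + 1) → K := fun i => ((b i : L D) : K) with hφdef
  have hφ : LinearIndependent k φ :=
    b.linearIndependent.map' (L D).subtype (Submodule.ker_subtype _)
  have hspan : Submodule.span k (Set.range φ) = L D := by
    have h1 : Set.range φ = (L D).subtype '' Set.range b := by
      rw [← Set.range_comp]
      rfl
    rw [h1, Submodule.span_image, b.span_eq, Submodule.map_subtype_top]
  have hφ0 : ∀ i, φ i ≠ 0 := fun i => hφ.ne_zero i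
  have hφmem : ∀ i, φ i ∈ L D := fun i => (b i).2
  -- `τ(φ)` is not proportional to `φ`
  have hτφ : ¬ ∃ y : K, ∀ i, τ (φ i) = y * φ i := by
    rintro ⟨y, hy⟩
    have h1mem : (1 : K) ∈ L D := by
      intro Q
      rw [map_one, ← WithZero.exp_zero, WithZero.exp_le_exp, hD, Finsupp.single_apply]
      split_ifs
      · exact Int.natCast_nonneg _
      · exact le_rfl
    have hfix0 : ∀ f ∈ Submodule.span k (Set.range φ), τ f = y * f := by
      intro f hf
      induction hf using Submodule.span_induction with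
      | mem x hx =>
        obtain ⟨i, rfl⟩ := hx
        exact hy i
      | zero => simp
      | add x z _ _ hx hz => rw [map_add, hx, hz, mul_add]
      | smul c x _ hx => rw [map_smul, hx, mul_smul_comm]
    have hy1 : y = 1 := by
      have := hfix0 1 (by rw [hspan]; exact h1mem)
      rw [map_one, mul_one] at this
      exact this.symm
    have hfix : ∀ f ∈ L D, τ f = f := by
      intro f hf
      have := hfix0 f (by rw [hspan]; exact hf)
      rwa [hy1, one_mul] at this
    obtain ⟨f₁, hf₁, hf₁v⟩ := exists_pole hK P₀ (n + g) (by omega)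
    obtain ⟨f₂, hf₂, hf₂v⟩ := exists_pole hK P₀ (n + g - 1) (by omega)
    have hf₂D : f₂ ∈ L D := by
      refine L_mono ?_ hf₂
      intro Q
      rw [hD, Finsupp.single_apply, Finsupp.single_apply]
      split_ifs
      · push_cast; omega
      · exact le_rfl
    have hu : P₀.1 (f₂ / f₁) = WithZero.exp (-1) := by
      rw [map_div₀, hf₁v, hf₂v, ← WithZero.exp_sub]
      congr 1
      push_cast
      omega
    have hτu : τ (f₂ / f₁) = f₂ / f₁ := by
      rw [map_div₀, hfix f₁ hf₁, hfix f₂ hf₂D]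
    have h3 := hP₀ (f₂ / f₁) (by
      rw [hu, ← WithZero.exp_zero, WithZero.exp_lt_exp]; norm_num)
    rw [hτu, hu, WithZero.exp_le_exp] at h3
    norm_num at h3
  -- a Hasse family and the orders
  obtain ⟨s, H, hH⟩ := exists_hasse hK
  obtain ⟨J, hJ⟩ := exists_isOrders φ hφ τ hK hH
  obtain ⟨hfin, hcount⟩ := strongFixedPt_count hK φ hφ τ hτφ s H hH J hJ
  refine ⟨hfin, ?_⟩
  set N := Set.ncard {P : Place k K | IsStrongFixedPt τ P} with hN
  have hdegφ : (mapDiv k φ).deg ≤ ((n + g : ℕ) : ℤ) := by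
    have := deg_mapDiv_le hK φ hφ0 D hφmem
    rwa [hD, deg_single' hK] at this
  have hup := two_mul_sum_tau_orders_le hK hn τ P₀ hP₀ φ hφ hspan hτφ s H hH J hJ
  have hlow : (n : ℤ) * ((n : ℤ) - 1) ≤ 2 * ∑ l, (J l : ℤ) := by
    have h1 := two_mul_sum_ge J hJ.1
    have hcast : (∑ l, (J l : ℤ)) = ((∑ l, J l : ℕ) : ℤ) := by push_cast; rfl
    rw [hcast]
    rcases Nat.eq_zero_or_pos n with h0 | hpos
    · subst h0; simp
    · have h2 : ((n * (n - 1) : ℕ) : ℤ) ≤ ((2 * ∑ l, J l : ℕ) : ℤ) := by exact_mod_cast h1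
      rw [Nat.cast_mul, Nat.cast_sub hpos] at h2
      push_cast at h2 ⊢
      exact h2
  rw [← hg] at hup
  have hd0 : (0 : ℤ) ≤ (d : ℤ) := Int.natCast_nonneg d
  have hn0 : (0 : ℤ) ≤ (n : ℤ) := Int.natCast_nonneg n
  have hg0 : (0 : ℤ) ≤ (g : ℤ) := Int.natCast_nonneg g
  push_cast at hdegφ
  have hA : ((n : ℤ) + d) * (mapDiv k φ).deg ≤ ((n : ℤ) + d) * ((n : ℤ) + g) :=
    mul_le_mul_of_nonneg_left hdegφ (by omega)
  set SJ := ∑ l, (J l : ℤ) with hSJ
  have hB : (2 * (g : ℤ) - 2) * SJ ≤ ((g : ℤ) - 1) * ((n : ℤ) * ((n : ℤ) - 1) + 2 * ((g : ℤ) * g)) := by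
    rcases Nat.eq_zero_or_pos g with h0 | hpos
    · rw [h0]
      push_cast
      nlinarith
    · have hg1 : (0 : ℤ) ≤ (g : ℤ) - 1 := by
        have : (1 : ℤ) ≤ (g : ℤ) := by exact_mod_cast hpos
        omega
      nlinarith
  nlinarith

end AC

end Groth.Agent.Lib.Helper23.WD
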