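import Mathlib
import Groth.Prelude.Def_WeilCoh
import Groth.Prelude.Def_Cyc
import Groth.Agent.Lib.Helper23.WeilCohDim2
import Groth.Agent.Lib.Helper23.WeilCohZero

/-!
# Weil cohomology: the cycle class map is compatible with push-forward (helper23)
-/

universe u v w

open AlgebraicGeometry CategoryTheory

namespace Groth.Agent.Lib.Helper23.WeilCohCycPush

open Groth.Agent.Lib.Helper23.WeilCohDim Groth.Agent.Lib.Helper23.WeilCohZero

variable {k : Type u} [Field k] [IsAlgClosed k] {K : Type v} [Field K]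

/-- With the dimension functions induced from the base field, the push-forward weight is the
residue degree. -/
theorem mapCoeff_eq {X Y : WeilCoh.Var k} (f : X ⟶ Y)
    (δX : ↥X.obj.left → ℤ) (hδX : Cyc.DeltaCompat X.obj.hom δX (fun _ => 0))
    (δY : ↥Y.obj.left → ℤ) (hδY : Cyc.DeltaCompat Y.obj.hom δY (fun _ => 0)) (x : ↥X.obj.left) :
    AlgebraicCycle.mapCoeff (WeilCoh.sm f) δX δY x = (WeilCoh.sm f).residueDegree x := by
  unfold AlgebraicCycle.mapCoeff
  by_cases hc : δX x = δY ((WeilCoh.sm f).base x)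
  · rw [if_pos hc]
  · rw [if_neg hc]
    by_contra hne
    have hne' : (WeilCoh.sm f).residueDegree x ≠ 0 := fun h => hne h.symm
    have hw : WeilCoh.sm f ≫ Y.obj.hom = X.obj.hom := Over.w f.hom
    rw [← hw] at hδX
    obtain ⟨n, hn, hn'⟩ := hδX x
    obtain ⟨m, hm, hm'⟩ := hδY (WeilCoh.sm f x)
    have h := trdeg_comp_eq_of_residueDegree_ne_zero (WeilCoh.sm f) Y.obj.hom x hne'
    have hnm : (n : Cardinal.{u}) = (m : Cardinal.{u}) := hn.symm.trans (h.trans hm)
    have hnm' : n = m := by exact_mod_cast hnm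
    apply hc
    change δX x = δY (WeilCoh.sm f x)
    rw [hn', hm', hnm']

variable (T : WeilCoh.TheoryOn.{u, v, w} k (WeilCoh.IsVar k) K)

theorem tr_clCyc_map_mul {X Y : WeilCoh.Var k} (f : X ⟶ Y) [QuasiCompact (WeilCoh.sm f)]
    (δX : ↥X.obj.left → ℤ) (hδX : Cyc.DeltaCompat X.obj.hom δX (fun _ => 0))
    (δY : ↥Y.obj.left → ℤ) (hδY : Cyc.DeltaCompat Y.obj.hom δY (fun _ => 0))
    (α : AlgebraicCycle X.obj.left ℤ) (b : T.H Y) :
    T.tr Y (T.clCyc Y (AlgebraicCycle.map (WeilCoh.sm f) δX δY α) * b) =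
      T.tr X (T.clCyc X α * T.pull f b) := by
  classical
  haveI := var_compactSpace X
  haveI := var_compactSpace Y
  haveI := var_quasiCompact X
  haveI := var_quasiCompact Y
  set S : Finset ↥X.obj.left := (support_finite α).toFinset with hS
  have hmemS : ∀ x, x ∈ S ↔ α x ≠ 0 := fun x => by simp [hS]
  set g : ↥X.obj.left → ℤ := fun x => α x * ((WeilCoh.sm f).residueDegree x : ℤ) with hg
  -- the coefficients of the push-forward
  have hβ : ∀ y, AlgebraicCycle.map (WeilCoh.sm f) δX δY α y =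
      ∑ x ∈ S with WeilCoh.sm f x = y, g x := by
    intro y
    unfold AlgebraicCycle.map
    rw [Function.locallyFinsupp.map_apply]
    have h1 : ∀ x, α x * ((AlgebraicCycle.mapCoeff (WeilCoh.sm f) δX δY x : ℕ) : ℤ) = g x :=
      fun x => by rw [mapCoeff_eq f δX hδX δY hδY x]
    simp only [h1]
    apply finsum_mem_eq_sum_of_inter_support_eq
    ext x
    simp only [Set.mem_inter_iff, Set.mem_preimage, Set.mem_singleton_iff, Function.mem_support,
      Finset.coe_filter, Set.mem_setOf_eq, hmemS]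
    constructor
    · rintro ⟨h1, h2⟩
      refine ⟨⟨?_, h1⟩, h2⟩
      intro h0; apply h2; simp [hg, h0]
    · rintro ⟨⟨-, h1⟩, h2⟩
      exact ⟨h1, h2⟩
  have hsupp : Function.support (fun y : ↥Y.obj.left =>
      ((AlgebraicCycle.map (WeilCoh.sm f) δX δY α y : ℤ) : K) • T.cl Y y) ⊆
      ↑(S.image (WeilCoh.sm f)) := by
    intro y hy
    simp only [Function.mem_support] at hy
    simp only [Finset.coe_image, Set.mem_image, Finset.mem_coe]
    by_contra hcon
    apply hy
    rw [hβ y, Finset.sum_eq_zero, Int.cast_zero, zero_smul]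
    intro x hx
    exfalso
    exact hcon ⟨x, (Finset.mem_filter.mp hx).1, (Finset.mem_filter.mp hx).2⟩
  have hL : T.clCyc Y (AlgebraicCycle.map (WeilCoh.sm f) δX δY α) =
      ∑ y ∈ S.image (WeilCoh.sm f),
        ((AlgebraicCycle.map (WeilCoh.sm f) δX δY α y : ℤ) : K) • T.cl Y y := by
    unfold WeilCoh.TheoryOn.clCyc
    exact finsum_eq_sum_of_support_subset _ hsupp
  rw [hL, clCyc_eq_sum T X α, Finset.sum_mul, Finset.sum_mul, map_sum, map_sum]
  have hR : ∀ x ∈ S, T.tr X (((α x : ℤ) : K) • T.cl X x * T.pull f b) =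
      ((g x : ℤ) : K) * T.tr Y (T.cl Y (WeilCoh.sm f x) * b) := by
    intro x _
    rw [smul_mul_assoc, map_smul, tr_cl_mul_pull T f x b, smul_eq_mul, ← mul_assoc]
    congr 1
    simp only [hg]
    push_cast
    rfl
  rw [Finset.sum_congr rfl hR]
  rw [← Finset.sum_fiberwise_of_maps_to (g := fun x => WeilCoh.sm f x)
    (t := S.image (WeilCoh.sm f)) (fun x hx => Finset.mem_image_of_mem _ hx)]
  refine Finset.sum_congr rfl fun y _ => ?_
  rw [smul_mul_assoc, map_smul, smul_eq_mul, hβ y, Int.cast_sum, Finset.sum_mul]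
  refine Finset.sum_congr rfl fun x hx => ?_
  rw [(Finset.mem_filter.mp hx).2]

end Groth.Agent.Lib.Helper23.WeilCohCycPush
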