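import Mathlib
import Groth.Prelude.Def_WeilCoh
import Groth.Agent.Lib.Helper23.WeilCohCorr2
import Groth.Agent.Lib.Helper23.WeilCohPt

/-!
# Weil cohomology: the swap on `X × X` and numerically trivial correspondences (helper23)
-/

universe u v w

open AlgebraicGeometry CategoryTheory

namespace Groth.Agent.Lib.Helper23.WeilCohSwap

open Groth.Agent.Lib.Helper23.WeilCohBasic Groth.Agent.Lib.Helper23.WeilCohGraph
  Groth.Agent.Lib.Helper23.WeilCohPt Groth.Agent.Lib.Helper23.WeilCohCorr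

theorem pdim_eq_of_isIso {X Y : Scheme.{u}} (f : X ⟶ Y) [IsIso f] (x : X) :
    WeilCoh.pdim X x = WeilCoh.pdim Y (f x) := by
  unfold WeilCoh.pdim
  have himg : f.homeomorph '' closure ({x} : Set X) = closure ({f x} : Set Y) := by
    rw [f.homeomorph.image_closure, Set.image_singleton, Scheme.Hom.homeomorph_apply]
  have h := natDim_eq_of_homeomorph (f.homeomorph.image (closure ({x} : Set X)))
  rw [himg] at h
  exact h

theorem dim_eq_of_isIso {X Y : Scheme.{u}} (f : X ⟶ Y) [IsIso f] :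
    WeilCoh.dim X = WeilCoh.dim Y :=
  natDim_eq_of_homeomorph f.homeomorph

section

variable {k : Type u} [Field k] {K : Type v} [Field K]

/-- Morphisms into a product are determined by their two components. -/
theorem hom_ext_of_isProd {X Y Q Z : WeilCoh.Var k} (p : Q ⟶ X) (q : Q ⟶ Y)
    (hQ : WeilCoh.IsProd p q) (f g : Z ⟶ Q) (h1 : f ≫ p = g ≫ p) (h2 : f ≫ q = g ≫ q) :
    f = g := by
  apply ObjectProperty.hom_ext
  apply Over.OverMorphism.ext
  exact hQ.hom_ext (congrArg (fun f => WeilCoh.sm f) h1) (congrArg (fun f => WeilCoh.sm f) h2)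

variable (T : WeilCoh.TheoryOn.{u, v, w} k (WeilCoh.IsVar k) K)

/-- The pull back of the class of a closed irreducible subset along an isomorphism is a multiple
of such a class. -/
theorem pull_cl_mem_span_of_iso {Q Q' : WeilCoh.Var k} (σ : Q ⟶ Q') (τ : Q' ⟶ Q)
    (h1 : σ ≫ τ = 𝟙 Q) (h2 : τ ≫ σ = 𝟙 Q') (ξ : ↥Q'.obj.left) :
    T.pull σ (T.cl Q' ξ) ∈ Submodule.span K (Set.range (T.cl Q)) := by
  have hst : WeilCoh.sm σ ≫ WeilCoh.sm τ = 𝟙 _ := congrArg (fun f => WeilCoh.sm f) h1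
  have hts : WeilCoh.sm τ ≫ WeilCoh.sm σ = 𝟙 _ := congrArg (fun f => WeilCoh.sm f) h2
  haveI : IsIso (WeilCoh.sm σ) := ⟨WeilCoh.sm τ, hst, hts⟩
  have hcomp : ∀ w : ↥Q.obj.left,
      WeilCoh.IsCompPt ((WeilCoh.sm σ) ⁻¹' closure ({ξ} : Set ↥Q'.obj.left)) w →
        WeilCoh.sm σ w = ξ := by
    intro w hw
    have he : ∀ y, WeilCoh.sm σ ((WeilCoh.sm σ).homeomorph.symm y) = y := fun y => by
      rw [← Scheme.Hom.homeomorph_apply]; exact (WeilCoh.sm σ).homeomorph.apply_symm_apply y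
    have hmem : (WeilCoh.sm σ).homeomorph.symm ξ ∈
        (WeilCoh.sm σ) ⁻¹' closure ({ξ} : Set ↥Q'.obj.left) := by
      rw [Set.mem_preimage, he]; exact subset_closure rfl
    have hsp : (WeilCoh.sm σ).homeomorph.symm ξ ⤳ w := by
      have h1 : ξ ⤳ WeilCoh.sm σ w := specializes_iff_mem_closure.mpr hw.1
      have h2 := h1.map (WeilCoh.sm σ).homeomorph.symm.continuous
      rw [← Scheme.Hom.homeomorph_apply, (WeilCoh.sm σ).homeomorph.symm_apply_apply] at h2
      exact h2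
    have h3 := hw.2 _ hmem hsp
    rw [← h3, he]
  rw [T.cl_pull σ ξ ?_ ?_]
  · exact finsum_induction _ (Submodule.zero_mem _) (fun _ _ => Submodule.add_mem _)
      (fun w => Submodule.smul_mem _ _ (Submodule.subset_span ⟨w.1, rfl⟩))
  · intro w hw
    have e1 := pdim_eq_of_isIso (WeilCoh.sm σ) w
    rw [hcomp w hw] at e1
    have e2 := dim_eq_of_isIso (WeilCoh.sm σ)
    rw [e1, e2]; ring
  · left
    refine ⟨⊤, fun _ _ => trivial, ?_⟩
    infer_instance

theorem pull_mem_span_of_iso {Q Q' : WeilCoh.Var k} (σ : Q ⟶ Q') (τ : Q' ⟶ Q)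
    (h1 : σ ≫ τ = 𝟙 Q) (h2 : τ ≫ σ = 𝟙 Q') (v : T.H Q')
    (hv : v ∈ Submodule.span K (Set.range (T.cl Q'))) :
    T.pull σ v ∈ Submodule.span K (Set.range (T.cl Q)) := by
  have hle : Submodule.span K (Set.range (T.cl Q')) ≤
      (Submodule.span K (Set.range (T.cl Q))).comap (T.pull σ).toLinearMap := by
    rw [Submodule.span_le]
    rintro _ ⟨ξ, rfl⟩
    exact pull_cl_mem_span_of_iso T σ τ h1 h2 ξ
  exact hle hv

end

section

variable {k : Type u} [Field k] {P : ObjectProperty (Over (Spec (CommRingCat.of k)))}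
variable {K : Type v} [Field K] (T : WeilCoh.TheoryOn.{u, v, w} k P K)

/-- Transport of the index in the action of a correspondence. -/
theorem corr_ofEq {X Y Q : P.FullSubcategory} (p : Q ⟶ X) (q : Q ⟶ Y) (m : ℤ) (φ : T.gr Q m)
    (i i' : ℤ) (h : i' = i) (hh : T.gr X i' = T.gr X i) (y : T.gr X i') :
    (corr T p q m φ i (LinearEquiv.ofEq _ _ hh y) : T.H Y) = (corr T p q m φ i' y : T.H Y) := by
  subst h
  rfl

end

section

variable {k : Type u} [Field k] {K : Type v} [Field K]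
variable (T : WeilCoh.TheoryOn.{u, v, w} k (WeilCoh.IsVar k) K)

/-- If the action of `u` composed with the action of every algebraic class is nilpotent, then `u`
is numerically trivial against algebraic classes. -/
theorem tr_mul_eq_zero (X P : WeilCoh.Var k) (p q : P ⟶ X) (hP : WeilCoh.IsProd p q)
    (σ : P ⟶ P) (hσp : σ ≫ p = q) (hσq : σ ≫ q = p)
    (hdim : ∀ j : ℤ, j + 2 * (WeilCoh.dim X.obj.left : ℤ) + 2 * (WeilCoh.dim X.obj.left : ℤ) -
      2 * (WeilCoh.dim P.obj.left : ℤ) = j)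
    (u v : ↥(T.gr P (2 * (WeilCoh.dim X.obj.left : ℤ))))
    (hv : (v : T.H P) ∈ Submodule.span K (Set.range (T.cl P)))
    (hnil : ∀ w : ↥(T.gr P (2 * (WeilCoh.dim X.obj.left : ℤ))),
      (w : T.H P) ∈ Submodule.span K (Set.range (T.cl P)) →
      ∀ j : Fin (2 * WeilCoh.dim X.obj.left + 1),
        IsNilpotent
          ((((LinearEquiv.ofEq _ _ (congrArg (T.gr X) (hdim ((j : ℕ) : ℤ)))).toLinearMap ∘ₗ
              corr T p q (2 * (WeilCoh.dim X.obj.left : ℤ)) w ((j : ℕ) : ℤ)) :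
                Module.End K (T.gr X ((j : ℕ) : ℤ))) *
            ((LinearEquiv.ofEq _ _ (congrArg (T.gr X) (hdim ((j : ℕ) : ℤ)))).toLinearMap ∘ₗ
              corr T p q (2 * (WeilCoh.dim X.obj.left : ℤ)) u ((j : ℕ) : ℤ)))) :
    T.tr P ((u : T.H P) * (v : T.H P)) = 0 := by
  have hσσ : σ ≫ σ = 𝟙 P := hom_ext_of_isProd p q hP _ _
    (by rw [Category.assoc, hσp, hσq, Category.id_comp])
    (by rw [Category.assoc, hσq, hσp, Category.id_comp])
  have hv'mem : T.pull σ (v : T.H P) ∈ T.gr P (2 * (WeilCoh.dim X.obj.left : ℤ)) :=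
    T.pull_mem σ _ _ v.2
  have hv'span : T.pull σ (v : T.H P) ∈ Submodule.span K (Set.range (T.cl P)) :=
    pull_mem_span_of_iso T σ σ hσσ hσσ _ hv
  have hvv : T.pull σ (T.pull σ (v : T.H P)) = (v : T.H P) := by
    rw [← AlgHom.comp_apply, ← T.pull_comp, hσσ, T.pull_id]; rfl
  have hdeg : ∀ i : ℤ, (i + 2 * (WeilCoh.dim X.obj.left : ℤ) + 2 * (WeilCoh.dim X.obj.left : ℤ) -
      2 * (WeilCoh.dim P.obj.left : ℤ)) + 2 * (WeilCoh.dim X.obj.left : ℤ) +
        2 * (WeilCoh.dim X.obj.left : ℤ) - 2 * (WeilCoh.dim P.obj.left : ℤ) = i := by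
    intro i
    have h0 := hdim 0
    omega
  have key := tr_mul_pull_swap T p q hP p q hP σ hσp hσq (2 * (WeilCoh.dim X.obj.left : ℤ))
    (2 * (WeilCoh.dim X.obj.left : ℤ)) hdeg u ⟨T.pull σ (v : T.H P), hv'mem⟩
  change T.tr P ((u : T.H P) * T.pull σ (T.pull σ (v : T.H P))) = _ at key
  rw [hvv] at key
  rw [key]
  apply Finset.sum_eq_zero
  intro i hi
  have hi' : i < 2 * WeilCoh.dim X.obj.left + 1 := Finset.mem_range.mp hi
  have hn := hnil ⟨T.pull σ (v : T.H P), hv'mem⟩ hv'span ⟨i, hi'⟩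
  have htr := (LinearMap.isNilpotent_trace_of_isNilpotent hn).eq_zero
  have heq : ((LinearEquiv.ofEq _ _ (congrArg (T.gr X) (hdeg (i : ℤ)))).toLinearMap ∘ₗ
      (corr T p q (2 * (WeilCoh.dim X.obj.left : ℤ)) ⟨T.pull σ (v : T.H P), hv'mem⟩
        ((i : ℤ) + 2 * (WeilCoh.dim X.obj.left : ℤ) + 2 * (WeilCoh.dim X.obj.left : ℤ) -
          2 * (WeilCoh.dim P.obj.left : ℤ))) ∘ₗ
      (corr T p q (2 * (WeilCoh.dim X.obj.left : ℤ)) u (i : ℤ))) =
      ((((LinearEquiv.ofEq _ _ (congrArg (T.gr X) (hdim (i : ℤ)))).toLinearMap ∘ₗ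
          corr T p q (2 * (WeilCoh.dim X.obj.left : ℤ)) ⟨T.pull σ (v : T.H P), hv'mem⟩ (i : ℤ)) :
            Module.End K (T.gr X (i : ℤ))) *
        ((LinearEquiv.ofEq _ _ (congrArg (T.gr X) (hdim (i : ℤ)))).toLinearMap ∘ₗ
          corr T p q (2 * (WeilCoh.dim X.obj.left : ℤ)) u (i : ℤ))) := by
    refine LinearMap.ext fun x => Subtype.ext ?_
    simp only [Module.End.mul_apply, LinearMap.comp_apply, LinearEquiv.coe_coe,
      LinearEquiv.coe_ofEq_apply]
    exact (corr_ofEq T p q _ _ _ _ (hdim (i : ℤ)) _ _).symm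
  rw [heq]
  exact mul_eq_zero_of_right _ htr

end

end Groth.Agent.Lib.Helper23.WeilCohSwap
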