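import Mathlib
import Groth.Agent.Lib.Helper23.WD6
import Groth.Agent.Lib.Helper27.HD32
import Groth.Agent.Lib.Helper27.HD22
import Groth.Agent.S11044
import Groth.Agent.S12615

/-! Weierstrass points of the canonical map: classical orders and the degree of the Weierstrass
divisor (towards S12618, S11048). -/

set_option autoImplicit false

namespace Groth.Agent.Lib.Helper23.Wp

open FunFld PowerSeries IntermediateField
open Groth.Agent.Lib.Helper27 Groth.Agent.Lib.Helper27.HD
open Groth.Agent.Lib.Helper23.FF Groth.Agent.Lib.Helper23.WD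

universe u v
variable {k : Type u} {K : Type v} [Field k] [Field K] [Algebra k K]

section AC

variable [IsAlgClosed k] (hK : IsFunctionField k K)

include hK in
/-- A spanning tuple of a base point free `L(D)` has divisor `D`. -/
theorem mapDiv_eq_of_bpf {n : ℕ} (φ : Fin (n + 1) → K) (hφ0 : ∀ i, φ i ≠ 0) (D : Divisor k K)
    (hspan : Submodule.span k (Set.range φ) = L D)
    (hbpf : ∀ P : Place k K, ell (D - Finsupp.single P 1) < ell D) : mapDiv k φ = D := by
  classical
  have hmem : ∀ i, φ i ∈ L D := fun i => by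
    rw [← hspan]; exact Submodule.subset_span ⟨i, rfl⟩
  ext P
  rw [Groth.Agent.Lib.Helper27.FF.mapDiv_apply' hK]
  set m := Finset.univ.inf' Finset.univ_nonempty (fun i => P.ord (φ i)) with hm
  have h1 : -D P ≤ m := by
    apply Finset.le_inf'
    intro i _
    have h2 := hmem i P
    rw [Groth.Agent.Lib.Helper27.FF.val_eq_exp_neg_ord P (hφ0 i), WithZero.exp_le_exp] at h2
    omega
  by_contra hne
  have hlt : -D P + 1 ≤ m := by omega
  have hsub : L D ≤ L (D - Finsupp.single P 1) := by
    rw [← hspan, Submodule.span_le]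
    rintro _ ⟨i, rfl⟩
    intro Q
    by_cases hQ : Q = P
    · subst hQ
      rw [Groth.Agent.Lib.Helper27.FF.val_eq_exp_neg_ord Q (hφ0 i), WithZero.exp_le_exp,
        Finsupp.sub_apply, Finsupp.single_eq_same]
      have : m ≤ Q.ord (φ i) := Finset.inf'_le _ (Finset.mem_univ i)
      omega
    · have h2 := hmem i Q
      rw [Finsupp.sub_apply, Finsupp.single_eq_of_ne hQ, sub_zero]
      exact h2
  haveI := Groth.Agent.Lib.Helper27.FF.finiteDimensional_L hK (D - Finsupp.single P 1)
  have := Submodule.finrank_mono hsub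
  have h3 := hbpf P
  unfold ell at h3
  omega

include hK in
/-- The genus is the number of entries of a basis of `L(C)`, `C` canonical. -/
theorem genus_eq_of_canonical_basis (C : Divisor k K) (hC : IsCanonical k K C) {n : ℕ}
    (φ : Fin (n + 1) → K) (hφ : LinearIndependent k φ)
    (hspan : Submodule.span k (Set.range φ) = L C) : genus k K = n + 1 := by
  have h1 := (Groth.Agent.Lib.Helper27.FF.core_of hK).ell_canonical hC
  unfold ell at h1
  rw [← hspan, finrank_span_eq_card hφ, Fintype.card_fin] at h1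
  exact h1.symm

include hK in
theorem mapDiv_canonical (C : Divisor k K) (hC : IsCanonical k K C) {n : ℕ}
    (φ : Fin (n + 1) → K) (hφ : LinearIndependent k φ)
    (hspan : Submodule.span k (Set.range φ) = L C) : mapDiv k φ = C := by
  have hg := genus_eq_of_canonical_basis hK C hC φ hφ hspan
  apply mapDiv_eq_of_bpf hK φ (fun i => hφ.ne_zero i) C hspan
  intro P
  exact Groth.Agent.S11044.result k K hK (by omega) C (Or.inr hC) P

include hK in
/-- In characteristic `0` or `> 2g - 2` the orders of the canonical map are classical. -/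
theorem canonical_orders (C : Divisor k K) (hC : IsCanonical k K C) {n : ℕ}
    (φ : Fin (n + 1) → K) (hφ : LinearIndependent k φ)
    (hspan : Submodule.span k (Set.range φ) = L C)
    (hchar : ringChar k = 0 ∨ 2 * genus k K - 2 < ringChar k)
    (s : K) (H : K →ₐ[k] PowerSeries K) (hH : LocRes.IsHasseFamily s H)
    (J : Fin n → ℕ) (hJ : IsOrders K (hcol (AlgHom.id k K) H φ) J) :
    J = fun l : Fin n => (l : ℕ) + 1 := by
  classical
  haveI : Infinite k := IsAlgClosed.instInfinite
  have hg := genus_eq_of_canonical_basis hK C hC φ hφ hspan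
  have hdeg : (mapDiv k φ).deg = 2 * (genus k K : ℤ) - 2 := by
    rw [mapDiv_canonical hK C hC φ hφ hspan]
    exact (Groth.Agent.Lib.Helper27.FF.core_of hK).deg_canonical hC
  have hchar' : ringChar k = 0 ∨ (mapDiv k φ).deg < ringChar k := by
    rcases hchar with h | h
    · exact Or.inl h
    · right
      rw [hdeg]
      have : ((2 * genus k K - 2 : ℕ) : ℤ) < (ringChar k : ℤ) := by exact_mod_cast h
      rw [hg] at this ⊢
      push_cast at this ⊢
      omega
  obtain ⟨P⟩ : Nonempty (Place k K) := (infinite_places hK).nonempty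
  have hle := orders_le_of_place hK φ hφ hchar' (AlgHom.id k K) hH P (isFixedPt_id P)
    (fun l : Fin n => (l : ℕ) + 1) (fun a b hab => Nat.succ_lt_succ (Fin.lt_def.mp hab))
    (Or.inl fun l => Nat.succ_pos _)
    (fun J' hJ' hJ1 hc => det_binomMat_succ_ne_zero k J' hJ'.injective hJ1 hc) hJ
  have hge := strictMono_nat_succ_le J hJ.1 (orders_id_pos H hH φ J hJ)
  exact funext fun l => le_antisymm (hle l) (hge l)

include hK in
/-- The degree of the Weierstrass divisor of the canonical map is `(g-1)g(g+1)`. -/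
theorem deg_wDiv_canonical (C : Divisor k K) (hC : IsCanonical k K C) {n : ℕ}
    (φ : Fin (n + 1) → K) (hφ : LinearIndependent k φ)
    (hspan : Submodule.span k (Set.range φ) = L C)
    (s : K) (H : K →ₐ[k] PowerSeries K) (hH : LocRes.IsHasseFamily s H)
    (hJ : IsOrders K (hcol (AlgHom.id k K) H φ) (fun l : Fin n => (l : ℕ) + 1))
    (Φ : Place k K → (K →ₐ[k] LaurentSeries k))
    (hΦ : ∀ P : Place k K, LocRes.IsExpansionAt P.1 (Φ P)) :
    0 ≤ wDiv (AlgHom.id k K) H Φ s φ (fun l : Fin n => (l : ℕ) + 1) ∧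
    (wDiv (AlgHom.id k K) H Φ s φ (fun l : Fin n => (l : ℕ) + 1)).deg =
      (n : ℤ) * (n + 1) * (n + 2) := by
  have hg := genus_eq_of_canonical_basis hK C hC φ hφ hspan
  obtain ⟨h1, h2⟩ := wDiv_nonneg_and_deg hK φ hφ (AlgHom.id k K) s H hH _ hJ Φ hΦ
  refine ⟨h1, ?_⟩
  rw [h2, mapDiv_canonical hK C hC φ hφ hspan,
    (Groth.Agent.Lib.Helper27.FF.core_of hK).deg_canonical hC, hg]
  have hfr : Module.finrank (AlgHom.id k K).fieldRange K = 1 := by
    have : (AlgHom.id k K).fieldRange = ⊤ := by
      rw [AlgHom.fieldRange_eq_top]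
      exact Function.surjective_id
    rw [this]
    exact IntermediateField.finrank_top
  rw [hfr]
  have hsum : 2 * ∑ l : Fin n, (((l : ℕ) + 1 : ℕ) : ℤ) = (n : ℤ) * (n + 1) := by
    have h3 := sum_range_succ_mul_two n
    rw [← Fin.sum_univ_eq_sum_range (fun i => i + 1) n] at h3
    have h4 : ((2 * ∑ l : Fin n, ((l : ℕ) + 1) : ℕ) : ℤ) = ((n * (n + 1) : ℕ) : ℤ) := by
      rw [h3]
    push_cast at h4 ⊢
    exact h4
  push_cast at hsum ⊢
  nlinarith

end AC

end Groth.Agent.Lib.Helper23.Wp
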