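import Mathlib
import Groth.Agent.Lib.Helper23.Wp1
import Groth.Agent.Lib.Helper23.FFGap

/-! Weierstrass points of the canonical map: the local weight through the gap sequence. -/

set_option autoImplicit false

namespace Groth.Agent.Lib.Helper23.Wp

open FunFld PowerSeries IntermediateField
open Groth.Agent.Lib.Helper27 Groth.Agent.Lib.Helper27.HD
open Groth.Agent.Lib.Helper23.FF Groth.Agent.Lib.Helper23.WD

universe u v
variable {k : Type u} {K : Type v} [Field k] [Field K] [Algebra k K]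

section AC

variable [IsAlgClosed k] (hK : IsFunctionField k K)

include hK in
/-- The coefficient of the Weierstrass divisor of the canonical map at `P` is the weight of the gap
sequence at `P`. -/
theorem exists_local_orders (C : Divisor k K) (hC : IsCanonical k K C) {n : ℕ}
    (φ : Fin (n + 1) → K) (hφ : LinearIndependent k φ)
    (hspan : Submodule.span k (Set.range φ) = L C)
    (hchar : ringChar k = 0 ∨ 2 * genus k K - 2 < ringChar k)
    (s : K) (H : K →ₐ[k] PowerSeries K) (hH : LocRes.IsHasseFamily s H)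
    (hJ : IsOrders K (hcol (AlgHom.id k K) H φ) (fun l : Fin n => (l : ℕ) + 1))
    (Φ : Place k K → (K →ₐ[k] LaurentSeries k))
    (hΦ : ∀ P : Place k K, LocRes.IsExpansionAt P.1 (Φ P)) (P : Place k K) :
    ∃ J' : Fin n → ℕ, StrictMono J' ∧ (∀ l, 1 ≤ J' l) ∧
      (∀ j : ℕ, 1 ≤ j → (j ∈ Set.range J' ↔ ¬ IsPoleNumber P ((j : ℤ) + 1))) ∧
      wDiv (AlgHom.id k K) H Φ s φ (fun l : Fin n => (l : ℕ) + 1) P =
        ∑ l, ((J' l : ℤ) - ((l : ℕ) + 1)) := by
  classical
  have hg := genus_eq_of_canonical_basis hK C hC φ hφ hspan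
  obtain ⟨t, Ht, y, i0, ht, hHt, hy0, hnorm, hi0, hli, hJt, hinv⟩ :=
    exists_normalization hK φ hφ (AlgHom.id k K) P s H hH _ hJ Φ hΦ
  set φ' : Fin (n + 1) → K := fun i => y * φ i with hφ'
  have heff : (1 : K) ∈ Submodule.span k (Set.range φ') := by
    rw [← hi0]; exact Submodule.subset_span ⟨i0, rfl⟩
  obtain ⟨J', hJ'⟩ := exists_isOrdersAt hK P ht hHt φ' hli hnorm heff
  have h1le : ∀ l, 1 ≤ J' l := one_le_orders hK P ht hHt φ' hnorm hJ'
  have hφ0 : ∀ i, φ i ≠ 0 := fun i => hφ.ne_zero i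
  -- the bound on the orders at `P`
  have hdeg' : (mapDiv k φ').deg = (mapDiv k φ).deg := by
    rw [hφ', mapDiv_scale hK φ hφ0 hy0, Groth.Agent.Lib.Helper23.FF.deg_sub,
      Groth.Agent.Lib.Helper23.FF.deg_div hK, sub_zero]
  have hdegφ : (mapDiv k φ).deg = 2 * (genus k K : ℤ) - 2 := by
    rw [mapDiv_canonical hK C hC φ hφ hspan]
    exact (Groth.Agent.Lib.Helper27.FF.core_of hK).deg_canonical hC
  have htop : ∀ l, (J' l : ℤ) ≤ 2 * (genus k K : ℤ) - 2 := by
    intro l
    have := orders_at_le_deg hK P ht hHt φ' hli hnorm heff hJ' l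
    rwa [hdeg', hdegφ] at this
  have hc : ringChar k = 0 ∨ ∀ r, J' r < ringChar k := by
    rcases hchar with h | h
    · exact Or.inl h
    · right
      intro r
      have h2 := htop r
      have h3 : ((2 * genus k K - 2 : ℕ) : ℤ) < (ringChar k : ℤ) := by exact_mod_cast h
      rw [hg] at h2 h3
      push_cast at h2 h3
      have : (J' r : ℤ) < (ringChar k : ℤ) := by omega
      exact_mod_cast this
  have hdet := det_binomMat_succ_ne_zero k J' hJ'.1.injective h1le hc
  obtain ⟨-, h2⟩ := Groth.Agent.S12615.result k K hK (AlgHom.id k K) P (isFixedPt_id P) φ' hli heff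
    hnorm t ht Ht hHt _ hJt J' hJ' Φ hΦ
  have h3 := (h2 (Or.inl rfl)).mpr hdet
  refine ⟨J', hJ'.1, h1le, ?_, ?_⟩
  · intro j hj
    rw [hJ'.2 j]
    have heff' : (1 : K) ∈ Submodule.span k (Set.range (y • φ)) := heff
    have h4 := canonical_isJump_iff hK C hC φ hφ hspan P y hy0 heff' hnorm t ht Ht hHt j hj
    have h5 : hcolAt P Ht (y • φ) = hcolAt P Ht φ' := rfl
    rw [h5] at h4
    rw [h4, isPoleNumber_iff, not_not]
    have e : (j : ℤ) + 1 - 1 = (j : ℤ) := by ring
    rw [e]
  · rw [← hinv, h3]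
    apply Finset.sum_congr rfl
    intro l _
    push_cast
    ring

end AC

end Groth.Agent.Lib.Helper23.Wp
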