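import Mathlib
import Groth.Agent.Lib.Helper23.Wp2

/-! Weierstrass points of the canonical map: the weight bound `w(P) ≤ g(g-1)/2`. -/

set_option autoImplicit false

namespace Groth.Agent.Lib.Helper23.Wp

open FunFld
open Groth.Agent.Lib.Helper23.FF Groth.Agent.Lib.Helper23.WD

universe u v
variable {k : Type u} {K : Type v} [Field k] [Field K] [Algebra k K]

/-- If there are at least `l + 2` gaps up to `2l + 3`, then the `l`-th order is at most `2l + 2`. -/
theorem order_le_of_gaps (H : ℕ → Prop) [DecidablePred H] (h0 : H 0) {n : ℕ} (J' : Fin n → ℕ)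
    (hJ' : StrictMono J') (hJ : ∀ j : ℕ, 1 ≤ j → (j ∈ Set.range J' ↔ ¬ H (j + 1))) (l : Fin n)
    (hgap : (l : ℕ) + 2 ≤ (gapsLE H (2 * ((l : ℕ) + 2) - 1)).card) : J' l ≤ 2 * (l : ℕ) + 2 := by
  classical
  by_contra hlt
  rw [not_le] at hlt
  set T := gapsLE H (2 * ((l : ℕ) + 2) - 1) with hT
  have hsub : T.erase 1 ⊆
      (Finset.univ.filter (fun r : Fin n => r < l)).image (fun r => J' r + 1) := by
    intro m hm
    rw [Finset.mem_erase, hT, mem_gapsLE] at hm
    obtain ⟨hm1, hm2, hm3⟩ := hm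
    have hm0 : m ≠ 0 := by
      rintro rfl
      exact hm3 h0
    have hj : 1 ≤ m - 1 := by omega
    have hm' : m - 1 + 1 = m := by omega
    obtain ⟨r, hr⟩ := (hJ (m - 1) hj).mpr (by rw [hm']; exact hm3)
    rw [Finset.mem_image]
    refine ⟨r, ?_, by rw [hr, hm']⟩
    rw [Finset.mem_filter]
    refine ⟨Finset.mem_univ _, ?_⟩
    by_contra hge
    rw [not_lt] at hge
    have := hJ'.monotone hge
    omega
  have h1 := Finset.card_le_card hsub
  have h2 := Finset.pred_card_le_card_erase (s := T) (a := 1)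
  have h3 : ((Finset.univ.filter (fun r : Fin n => r < l)).image (fun r => J' r + 1)).card ≤
      (Finset.univ.filter (fun r : Fin n => r < l)).card := Finset.card_image_le
  have h4 : (Finset.univ.filter (fun r : Fin n => r < l)).card ≤ (Finset.range (l : ℕ)).card := by
    apply Finset.card_le_card_of_injOn (fun r : Fin n => (r : ℕ))
    · intro r hr
      rw [Finset.coe_filter, Set.mem_ofPred_eq] at hr
      rw [Finset.coe_range, Set.mem_Iio]
      exact Fin.lt_def.mp hr.2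
    · intro a _ b _ hab
      exact Fin.ext hab
  rw [Finset.card_range] at h4
  omega

section AC

variable [IsAlgClosed k] (hK : IsFunctionField k K)

include hK in
/-- The weight bound at a place, and the equality case. -/
theorem weight_bound {n : ℕ} (hn : 0 < n) (hg : genus k K = n + 1) (P : Place k K)
    (J' : Fin n → ℕ) (hmono : StrictMono J')
    (hJ : ∀ j : ℕ, 1 ≤ j → (j ∈ Set.range J' ↔ ¬ IsPoleNumber P ((j : ℤ) + 1))) :
    2 * ∑ l, ((J' l : ℤ) - ((l : ℕ) + 1)) ≤ (n : ℤ) * (n + 1) ∧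
    (2 * ∑ l, ((J' l : ℤ) - ((l : ℕ) + 1)) = (n : ℤ) * (n + 1) → IsPoleNumber P 2) := by
  classical
  have hle : ∀ l : Fin n, J' l ≤ 2 * (l : ℕ) + 2 := by
    intro l
    apply order_le_of_gaps (fun m : ℕ => IsPoleNumber P (m : ℤ))
      (by simpa using isPoleNumber_zero P) J' hmono
    · intro j hj
      rw [hJ j hj]
      simp only [Nat.cast_add, Nat.cast_one]
    · have hl := l.2
      exact le_card_gaps_two_mul_sub_one hK P (deg_eq_one hK P) (l := (l : ℕ) + 2) (by omega)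
        (by omega)
  have hsum : 2 * ∑ l : Fin n, (((l : ℕ) : ℤ) + 1) = (n : ℤ) * (n + 1) := by
    have h3 := sum_range_succ_mul_two n
    rw [← Fin.sum_univ_eq_sum_range (fun i => i + 1) n] at h3
    have h4 : ((2 * ∑ l : Fin n, ((l : ℕ) + 1) : ℕ) : ℤ) = ((n * (n + 1) : ℕ) : ℤ) := by
      rw [h3]
    push_cast at h4
    exact h4
  have hterm : ∀ l : Fin n, (J' l : ℤ) - (((l : ℕ) : ℤ) + 1) ≤ ((l : ℕ) : ℤ) + 1 := by
    intro l
    have := hle l
    have : (J' l : ℤ) ≤ 2 * ((l : ℕ) : ℤ) + 2 := by exact_mod_cast this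
    omega
  have hsumle : ∑ l : Fin n, ((J' l : ℤ) - (((l : ℕ) : ℤ) + 1)) ≤ ∑ l : Fin n, (((l : ℕ) : ℤ) + 1) :=
    Finset.sum_le_sum fun l _ => hterm l
  refine ⟨by omega, ?_⟩
  intro heq
  have heq' : ∑ l : Fin n, ((J' l : ℤ) - (((l : ℕ) : ℤ) + 1)) = ∑ l : Fin n, (((l : ℕ) : ℤ) + 1) := by
    omega
  have hall := (Finset.sum_eq_sum_iff_of_le (fun l _ => hterm l)).mp heq'
  have h0 : J' ⟨0, hn⟩ = 2 := by
    have := hall ⟨0, hn⟩ (Finset.mem_univ _)
    simp only [Nat.cast_zero] at this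
    omega
  have hnot : (1 : ℕ) ∉ Set.range J' := by
    rintro ⟨r, hr⟩
    have : J' ⟨0, hn⟩ ≤ J' r := hmono.monotone (by rw [Fin.le_def]; simp)
    omega
  have := (hJ 1 le_rfl).not.mp hnot
  rw [not_not] at this
  have e : ((1 : ℕ) : ℤ) + 1 = 2 := by norm_num
  rwa [e] at this

end AC

end Groth.Agent.Lib.Helper23.Wp
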