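import Mathlib
import Groth.Agent.Lib.Helper23.Wp3

/-! Weierstrass points of the canonical map: there are at least `2g + 2` of them. -/

set_option autoImplicit false

namespace Groth.Agent.Lib.Helper23.Wp

open FunFld PowerSeries IntermediateField
open Groth.Agent.Lib.Helper27 Groth.Agent.Lib.Helper27.HD
open Groth.Agent.Lib.Helper23.FF Groth.Agent.Lib.Helper23.WD

universe u v
variable {k : Type u} {K : Type v} [Field k] [Field K] [Algebra k K]

section AC

variable [IsAlgClosed k] (hK : IsFunctionField k K)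

include hK in
theorem weierstrass_count (C : Divisor k K) (hC : IsCanonical k K C) {n : ℕ} (hn : 0 < n)
    (φ : Fin (n + 1) → K) (hφ : LinearIndependent k φ)
    (hspan : Submodule.span k (Set.range φ) = L C)
    (hchar : ringChar k = 0 ∨ 2 * genus k K - 2 < ringChar k)
    (s : K) (H : K →ₐ[k] PowerSeries K) (hH : LocRes.IsHasseFamily s H)
    (hJ : IsOrders K (hcol (AlgHom.id k K) H φ) (fun l : Fin n => (l : ℕ) + 1))
    (Φ : Place k K → (K →ₐ[k] LaurentSeries k))
    (hΦ : ∀ P : Place k K, LocRes.IsExpansionAt P.1 (Φ P)) :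
    2 * n + 4 ≤ (wDiv (AlgHom.id k K) H Φ s φ (fun l : Fin n => (l : ℕ) + 1)).support.card ∧
    ((wDiv (AlgHom.id k K) H Φ s φ (fun l : Fin n => (l : ℕ) + 1)).support.card = 2 * n + 4 →
      ∀ P ∈ (wDiv (AlgHom.id k K) H Φ s φ (fun l : Fin n => (l : ℕ) + 1)).support,
        IsPoleNumber P 2) := by
  classical
  have hg := genus_eq_of_canonical_basis hK C hC φ hφ hspan
  obtain ⟨hnn, hdeg⟩ := deg_wDiv_canonical hK C hC φ hφ hspan s H hH hJ Φ hΦ
  set W := wDiv (AlgHom.id k K) H Φ s φ (fun l : Fin n => (l : ℕ) + 1) with hW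
  have hwb : ∀ P : Place k K, 2 * W P ≤ (n : ℤ) * (n + 1) ∧
      (2 * W P = (n : ℤ) * (n + 1) → IsPoleNumber P 2) := by
    intro P
    obtain ⟨J', hmono, -, hJ', hWP⟩ :=
      exists_local_orders hK C hC φ hφ hspan hchar s H hH hJ Φ hΦ P
    rw [hWP]
    exact weight_bound hK hn hg P J' hmono hJ'
  have hdeg' : W.deg = ∑ P ∈ W.support, W P := by
    unfold Divisor.deg Finsupp.sum
    apply Finset.sum_congr rfl
    intro P _
    show W P * (P.deg : ℤ) = W P
    rw [deg_eq_one hK P, Nat.cast_one, mul_one]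
  set M : ℤ := (n : ℤ) * (n + 1) with hM
  have hMpos : 0 < M := by
    have : (0 : ℤ) < n := by exact_mod_cast hn
    positivity
  have hsum : ∑ P ∈ W.support, (M - 2 * W P) = (W.support.card : ℤ) * M - 2 * W.deg := by
    rw [Finset.sum_sub_distrib, Finset.sum_const, ← Finset.mul_sum, ← hdeg', nsmul_eq_mul]
  have hnonneg : ∀ P ∈ W.support, 0 ≤ M - 2 * W P := fun P _ => by
    have := (hwb P).1
    omega
  have hsum0 : 0 ≤ ∑ P ∈ W.support, (M - 2 * W P) := Finset.sum_nonneg hnonneg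
  rw [hsum, hdeg] at hsum0
  have hkey : (2 * (n : ℤ) + 4) * M ≤ (W.support.card : ℤ) * M := by
    rw [hM] at hsum0 ⊢
    nlinarith
  have hcard : (2 * (n : ℤ) + 4) ≤ (W.support.card : ℤ) := le_of_mul_le_mul_right hkey hMpos
  refine ⟨by exact_mod_cast hcard, ?_⟩
  intro heq P hP
  have hzero : ∑ P ∈ W.support, (M - 2 * W P) = 0 := by
    rw [hsum, hdeg, heq, hM]
    push_cast
    ring
  have := (Finset.sum_eq_zero_iff_of_nonneg hnonneg).mp hzero P hP
  exact (hwb P).2 (by omega)

end AC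

end Groth.Agent.Lib.Helper23.Wp
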