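import Mathlib
import Groth.Agent.Lib.Helper23.Wp4
import Groth.Agent.Lib.Helper23.FFAut
import Groth.Agent.Lib.Helper27.FFExt3
import Groth.Agent.S11046

/-! Weierstrass points of the canonical map: the hyperelliptic case. -/

set_option autoImplicit false

namespace Groth.Agent.Lib.Helper23.Wp

open FunFld IntermediateField
open Groth.Agent.Lib.Helper27 Groth.Agent.Lib.Helper27.FF
open Groth.Agent.Lib.Helper23.FF

universe u v
variable {k : Type u} {K : Type v} [Field k] [Field K] [Algebra k K]

theorem isPoleNumber_two_mul {P : Place k K} (h2 : IsPoleNumber P 2) (i : ℕ) :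
    IsPoleNumber P ((2 * i : ℕ) : ℤ) := by
  induction i with
  | zero => simpa using isPoleNumber_zero P
  | succ i ih =>
    have := ih.add h2
    have e : ((2 * i : ℕ) : ℤ) + 2 = ((2 * (i + 1) : ℕ) : ℤ) := by push_cast; ring
    rwa [e] at this

theorem algebraMap_mem_L_single_two (P₀ : Place k K) (c : k) :
    algebraMap k K c ∈ L (Finsupp.single P₀ (2 : ℤ) : Divisor k K) := by
  classical
  intro Q
  refine (Q.2.1 c).trans ?_
  rw [← WithZero.exp_zero, WithZero.exp_le_exp, Finsupp.single_apply]
  split_ifs <;> norm_num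

section AC

variable [IsAlgClosed k] (hK : IsFunctionField k K)

include hK in
theorem isCanonical_single_of_two {P : Place k K} (h2 : IsPoleNumber P 2) (hg : 1 ≤ genus k K) :
    IsCanonical k K (Finsupp.single P (2 * (genus k K : ℤ) - 2)) := by
  classical
  have C := core_of hK
  have hP := deg_eq_one hK P
  obtain ⟨m, hm⟩ : ∃ m : ℕ, m + 2 = 2 * genus k K := ⟨2 * genus k K - 2, by omega⟩
  have hmz : 2 * (genus k K : ℤ) - 2 = (m : ℤ) := by omega
  rw [hmz, C.isCanonical_iff]
  constructor
  · apply le_antisymm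
    · have := Groth.Agent.S11046.result k K hK P m (by omega)
      omega
    · rw [ell_single_nat hK P hP m]
      have hsub : (Finset.range (genus k K)).image (fun i => 2 * i) ⊆
          (Finset.range (m + 1)).filter (fun j : ℕ => IsPoleNumber P (j : ℤ)) := by
        intro j hj
        rw [Finset.mem_image] at hj
        obtain ⟨i, hi, rfl⟩ := hj
        rw [Finset.mem_range] at hi
        rw [Finset.mem_filter, Finset.mem_range]
        exact ⟨by omega, isPoleNumber_two_mul h2 i⟩
      calc genus k K = (Finset.range (genus k K)).card := (Finset.card_range _).symm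
        _ = ((Finset.range (genus k K)).image (fun i => 2 * i)).card :=
            (Finset.card_image_of_injective _
              (fun a b (h : 2 * a = 2 * b) => by omega)).symm
        _ ≤ _ := Finset.card_le_card hsub
  · rw [Helper27.FF.deg_single, hP]
    push_cast
    omega

include hK in
theorem val_le_exp_neg_two_of_hyperelliptic (hg : 2 ≤ genus k K) {P₀ P : Place k K}
    (hne : P ≠ P₀) (h0 : IsPoleNumber P₀ 2) (h2 : IsPoleNumber P 2) {z : K}
    (hz : z ∈ L (Finsupp.single P₀ (2 : ℤ) : Divisor k K)) (hzP : P.1 z < 1) :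
    P.1 z ≤ WithZero.exp (-2 : ℤ) := by
  classical
  have C := core_of hK
  have hP := deg_eq_one hK P
  set W₀ : Divisor k K := Finsupp.single P₀ (2 * (genus k K : ℤ) - 2) with hW₀
  have hW : IsCanonical k K W₀ := isCanonical_single_of_two hK h0 (by omega)
  have rr1 := C.riemann_roch hW (Finsupp.single P (1 : ℤ))
  have rr2 := C.riemann_roch hW (Finsupp.single P (2 : ℤ))
  rw [Helper27.FF.deg_single, hP] at rr1 rr2
  have hs := ell_single_succ hK P hP 2
  rw [if_pos h2] at hs
  have e21 : (2 : ℤ) - 1 = 1 := by norm_num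
  rw [e21] at hs
  have hell : ell (W₀ - Finsupp.single P (2 : ℤ)) = ell (W₀ - Finsupp.single P (1 : ℤ)) := by
    have hs' : (ell (Finsupp.single P (2 : ℤ) : Divisor k K) : ℤ) =
        (ell (Finsupp.single P (1 : ℤ) : Divisor k K) : ℤ) + 1 := by exact_mod_cast hs
    push_cast at rr1 rr2
    omega
  have hle : L (W₀ - Finsupp.single P (2 : ℤ)) ≤ L (W₀ - Finsupp.single P (1 : ℤ)) := by
    apply Helper27.FF.L_mono
    intro Q
    simp only [Finsupp.sub_apply, Finsupp.single_apply]
    split_ifs <;> omega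
  have := finiteDimensional_L hK (W₀ - Finsupp.single P (1 : ℤ))
  have heq : L (W₀ - Finsupp.single P (2 : ℤ)) = L (W₀ - Finsupp.single P (1 : ℤ)) :=
    Submodule.eq_of_le_of_finrank_eq hle hell
  have hmem : z ∈ L (W₀ - Finsupp.single P (1 : ℤ)) := by
    intro Q
    have hzQ := hz Q
    rw [Finsupp.sub_apply, hW₀, Finsupp.single_apply, Finsupp.single_apply]
    rw [Finsupp.single_apply] at hzQ
    by_cases hQ0 : P₀ = Q
    · rw [if_pos hQ0] at hzQ ⊢
      have hPQ : ¬ P = Q := by rw [← hQ0]; exact hne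
      rw [if_neg hPQ, sub_zero]
      refine hzQ.trans ?_
      rw [WithZero.exp_le_exp]
      have : (2 : ℤ) ≤ genus k K := by exact_mod_cast hg
      omega
    · rw [if_neg hQ0] at hzQ ⊢
      by_cases hPQ : P = Q
      · rw [if_pos hPQ]
        subst hPQ
        have := le_exp_neg_one_of_lt_one hzP
        simpa using this
      · rw [if_neg hPQ, sub_zero]
        exact hzQ
  rw [← heq] at hmem
  have := hmem P
  rw [Finsupp.sub_apply, hW₀, Finsupp.single_apply, Finsupp.single_apply, if_neg (Ne.symm hne),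
    if_pos rfl] at this
  simpa using this

include hK in
theorem eq_zero_of_double_zeros {P₀ P₁ P₂ : Place k K} (h10 : P₁ ≠ P₀) (h20 : P₂ ≠ P₀)
    (h12 : P₁ ≠ P₂) {z : K} (hz : z ∈ L (Finsupp.single P₀ (2 : ℤ) : Divisor k K))
    (h1 : P₁.1 z ≤ WithZero.exp (-2 : ℤ)) (h2 : P₂.1 z ≤ WithZero.exp (-2 : ℤ)) : z = 0 := by
  classical
  have C := core_of hK
  set D : Divisor k K :=
    Finsupp.single P₀ (2 : ℤ) - Finsupp.single P₁ (2 : ℤ) - Finsupp.single P₂ (2 : ℤ) with hD
  have hdeg : D.deg < 0 := by
    rw [hD, Helper27.FF.deg_sub, Helper27.FF.deg_sub, Helper27.FF.deg_single, Helper27.FF.deg_single, Helper27.FF.deg_single, deg_eq_one hK, deg_eq_one hK,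
      deg_eq_one hK]
    norm_num
  have hmem : z ∈ L D := by
    intro Q
    rw [hD, Finsupp.sub_apply, Finsupp.sub_apply, Finsupp.single_apply, Finsupp.single_apply,
      Finsupp.single_apply]
    have hzQ := hz Q
    rw [Finsupp.single_apply] at hzQ
    by_cases hQ0 : P₀ = Q
    · subst hQ0
      rw [if_pos rfl] at hzQ
      rw [if_pos rfl, if_neg h10, if_neg h20]
      simpa using hzQ
    · rw [if_neg hQ0] at hzQ ⊢
      by_cases hQ1 : P₁ = Q
      · subst hQ1
        rw [if_pos rfl, if_neg h12.symm]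
        simpa using h1
      · rw [if_neg hQ1]
        by_cases hQ2 : P₂ = Q
        · subst hQ2
          rw [if_pos rfl]
          simpa using h2
        · rw [if_neg hQ2]
          simpa using hzQ
  rw [C.L_neg D hdeg] at hmem
  exact (Submodule.mem_bot k).mp hmem

include hK in
theorem hyperelliptic_fixed_iff (hg : 2 ≤ genus k K) (S : Finset (Place k K)) (hS : 3 ≤ S.card)
    (hS2 : ∀ P ∈ S, IsPoleNumber P 2) :
    ∃ x : K, Module.finrank k⟮x⟯ K = 2 ∧
      ∀ σ : K ≃ₐ[k] K, (∀ P ∈ S, IsFixedPt (σ : K →ₐ[k] K) P) ↔ σ x = x := by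
  classical
  obtain ⟨P₀, hP₀⟩ : S.Nonempty := Finset.card_pos.mp (by omega)
  obtain ⟨x, hx0, hxL, hxord⟩ := hS2 P₀ hP₀
  have hother : ∀ Q : Place k K, Q ≠ P₀ → Q.1 x ≤ 1 := by
    intro Q hQ
    have := hxL Q
    rwa [Finsupp.single_apply, if_neg (Ne.symm hQ), WithZero.exp_zero] at this
  have hP₀x : P₀.1 x = WithZero.exp (2 : ℤ) := by
    rw [Helper27.FF.val_eq_exp_neg_ord P₀ hx0, hxord, neg_neg]
  have hP₀gt : ¬ P₀.1 x ≤ 1 := by
    rw [hP₀x, ← WithZero.exp_zero, WithZero.exp_le_exp]
    norm_num
  have hxnc : ∀ c : k, x - algebraMap k K c ≠ 0 := by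
    intro c h
    apply hP₀gt
    rw [sub_eq_zero.mp h]
    exact P₀.2.1 c
  have hsubL : ∀ c : k, x - algebraMap k K c ∈ L (Finsupp.single P₀ (2 : ℤ) : Divisor k K) :=
    fun c => Submodule.sub_mem _ hxL (algebraMap_mem_L_single_two P₀ c)
  have hc : ∀ P ∈ S, P ≠ P₀ →
      ∃ c : k, P.1 (x - algebraMap k K c) ≤ WithZero.exp (-2 : ℤ) := by
    intro P hP hne
    obtain ⟨c, hc⟩ := exists_const_val_sub_lt_one P (deg_eq_one hK P) (hother P hne)
    exact ⟨c, val_le_exp_neg_two_of_hyperelliptic hK hg hne (hS2 P₀ hP₀) (hS2 P hP) (hsubL c) hc⟩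
  refine ⟨x, ?_, ?_⟩
  · have := finrank_adjoin_of_only_pole hK (P := P₀) (y := x) (m := 2) (by norm_num)
      (by rw [hxord]; norm_num) (fun Q hQ => (val_le_one_iff Q hx0).mp (hother Q hQ))
    rw [this, deg_eq_one hK]
  · intro σ
    constructor
    · intro hfix
      have hcomap : ∀ P ∈ S, Place.comapEquiv σ P = P := fun P hP =>
        comapEquiv_eq_of_fixed σ P (fun z hz => hfix P hP z hz)
      have hsymm0 : Place.comapEquiv σ.symm P₀ = P₀ := by
        have := Place.comapEquiv_symm_comapEquiv σ P₀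
        rwa [hcomap P₀ hP₀] at this
      have hσx : σ x ∈ L (Finsupp.single P₀ (2 : ℤ) : Divisor k K) := by
        have := map_mem_L_single σ P₀ 2 hxL
        rwa [hsymm0] at this
      have huL : σ x - x ∈ L (Finsupp.single P₀ (2 : ℤ) : Divisor k K) :=
        Submodule.sub_mem _ hσx hxL
      have hu : ∀ P ∈ S, P ≠ P₀ → P.1 (σ x - x) ≤ WithZero.exp (-2 : ℤ) := by
        intro P hP hne
        obtain ⟨c, hcP⟩ := hc P hP hne
        have h1 : σ x - x = σ (x - algebraMap k K c) - (x - algebraMap k K c) := by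
          rw [map_sub, σ.commutes]; ring
        have h2 : P.1 (σ (x - algebraMap k K c)) ≤ WithZero.exp (-2 : ℤ) := by
          rw [← Place.comapEquiv_apply, hcomap P hP]
          exact hcP
        rw [h1]
        exact (Valuation.map_sub _ _ _).trans (max_le h2 hcP)
      have hcard : 1 < (S.erase P₀).card := by
        rw [Finset.card_erase_of_mem hP₀]
        omega
      obtain ⟨P₁, hP₁, P₂, hP₂, h12⟩ := Finset.one_lt_card.mp hcard
      rw [Finset.mem_erase] at hP₁ hP₂
      have := eq_zero_of_double_zeros hK hP₁.1 hP₂.1 h12 huL (hu P₁ hP₁.2 hP₁.1)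
        (hu P₂ hP₂.2 hP₂.1)
      exact sub_eq_zero.mp this
    · intro hσx P hP
      have hval : ∀ c : k, (Place.comapEquiv σ P).1 (x - algebraMap k K c) =
          P.1 (x - algebraMap k K c) := by
        intro c
        rw [Place.comapEquiv_apply, map_sub, σ.commutes, hσx]
      have hvalx : (Place.comapEquiv σ P).1 x = P.1 x := by
        rw [Place.comapEquiv_apply, hσx]
      have hPP : Place.comapEquiv σ P = P := by
        by_cases hPP₀ : P = P₀
        · subst hPP₀
          by_contra hne
          apply hP₀gt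
          rw [← hvalx]
          exact hother _ hne
        · have hP'0 : Place.comapEquiv σ P ≠ P₀ := by
            intro h
            apply hP₀gt
            rw [← h, hvalx]
            exact hother P hPP₀
          obtain ⟨c, hcP⟩ := hc P hP hPP₀
          by_contra hne
          apply hxnc c
          exact eq_zero_of_double_zeros hK hPP₀ hP'0 (Ne.symm hne) (hsubL c) hcP
            (by rw [hval c]; exact hcP)
      intro z hz
      show P.1 (σ z) < 1
      rw [← Place.comapEquiv_apply, hPP]
      exact hz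

end AC

end Groth.Agent.Lib.Helper23.Wp
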