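import Mathlib
import Groth.Agent.Lib.Helper23.Wp5
import Groth.Agent.Lib.Helper23.WD7
import Groth.Agent.S12618

/-! Finiteness of the automorphism group in genus `> 1` (classical case), via Weierstrass points. -/

set_option autoImplicit false

namespace Groth.Agent.Lib.Helper23.Wp

open FunFld PowerSeries IntermediateField
open Groth.Agent.Lib.Helper27 Groth.Agent.Lib.Helper27.HD
open Groth.Agent.Lib.Helper23.FF Groth.Agent.Lib.Helper23.WD

universe u v
variable {k : Type u} {K : Type v} [Field k] [Field K] [Algebra k K]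

theorem comapEquiv_mul (σ τ : K ≃ₐ[k] K) (P : Place k K) :
    Place.comapEquiv (σ * τ) P = Place.comapEquiv τ (Place.comapEquiv σ P) := by
  apply Subtype.ext
  ext z
  rw [Place.comapEquiv_apply, Place.comapEquiv_apply, Place.comapEquiv_apply, AlgEquiv.mul_apply]

theorem IsPoleNumber.comapEquiv_symm (σ : K ≃ₐ[k] K) {P : Place k K} {m : ℤ}
    (h : IsPoleNumber P m) : IsPoleNumber (Place.comapEquiv σ.symm P) m := by
  obtain ⟨f, hf0, hf, hord⟩ := h
  refine ⟨σ f, ?_, map_mem_L_single σ P m hf, ?_⟩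
  · rw [Ne, EmbeddingLike.map_eq_zero_iff]
    exact hf0
  · rw [← hord]
    unfold Place.ord
    rw [Place.comapEquiv_apply, σ.symm_apply_apply]

theorem isPoleNumber_comapEquiv_iff (σ : K ≃ₐ[k] K) (P : Place k K) (m : ℤ) :
    IsPoleNumber (Place.comapEquiv σ P) m ↔ IsPoleNumber P m := by
  constructor
  · intro h
    have := IsPoleNumber.comapEquiv_symm σ h
    rwa [Place.comapEquiv_symm_comapEquiv] at this
  · intro h
    have := IsPoleNumber.comapEquiv_symm σ.symm h
    rwa [AlgEquiv.symm_symm] at this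

section AC

variable [IsAlgClosed k] (hK : IsFunctionField k K)

include hK in
/-- The Weierstrass divisor of the canonical map is invariant under automorphisms. -/
theorem wDiv_comapEquiv (C : Divisor k K) (hC : IsCanonical k K C) {n : ℕ}
    (φ : Fin (n + 1) → K) (hφ : LinearIndependent k φ)
    (hspan : Submodule.span k (Set.range φ) = L C)
    (hchar : ringChar k = 0 ∨ 2 * genus k K - 2 < ringChar k)
    (s : K) (H : K →ₐ[k] PowerSeries K) (hH : LocRes.IsHasseFamily s H)
    (hJ : IsOrders K (hcol (AlgHom.id k K) H φ) (fun l : Fin n => (l : ℕ) + 1))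
    (Φ : Place k K → (K →ₐ[k] LaurentSeries k))
    (hΦ : ∀ P : Place k K, LocRes.IsExpansionAt P.1 (Φ P)) (σ : K ≃ₐ[k] K) (P : Place k K) :
    wDiv (AlgHom.id k K) H Φ s φ (fun l : Fin n => (l : ℕ) + 1) (Place.comapEquiv σ P) =
      wDiv (AlgHom.id k K) H Φ s φ (fun l : Fin n => (l : ℕ) + 1) P := by
  obtain ⟨J₁, hm₁, h1₁, hr₁, hW₁⟩ :=
    exists_local_orders hK C hC φ hφ hspan hchar s H hH hJ Φ hΦ P
  obtain ⟨J₂, hm₂, h1₂, hr₂, hW₂⟩ :=
    exists_local_orders hK C hC φ hφ hspan hchar s H hH hJ Φ hΦ (Place.comapEquiv σ P)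
  have hrange : Set.range J₂ = Set.range J₁ := by
    ext j
    rcases Nat.eq_zero_or_pos j with rfl | hj
    · constructor
      · rintro ⟨l, hl⟩
        have := h1₂ l
        omega
      · rintro ⟨l, hl⟩
        have := h1₁ l
        omega
    · rw [hr₁ j hj, hr₂ j hj, isPoleNumber_comapEquiv_iff]
  have hJJ : J₂ = J₁ := (hm₂.range_inj hm₁).mp hrange
  rw [hW₁, hW₂, hJJ]

include hK in
theorem exists_weierstrass_data (hg : 1 < genus k K) :
    ∃ (n : ℕ) (C : Divisor k K) (φ : Fin (n + 1) → K) (s : K) (H : K →ₐ[k] PowerSeries K)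
      (J : Fin n → ℕ) (Φ : Place k K → (K →ₐ[k] LaurentSeries k)),
      IsCanonical k K C ∧ LinearIndependent k φ ∧ Submodule.span k (Set.range φ) = L C ∧
      LocRes.IsHasseFamily s H ∧ IsOrders K (hcol (AlgHom.id k K) H φ) J ∧
      ∀ P : Place k K, LocRes.IsExpansionAt P.1 (Φ P) := by
  classical
  have C := Groth.Agent.Lib.Helper27.FF.core_of hK
  obtain ⟨W, hW⟩ := C.exists_isCanonical
  obtain ⟨n, hn⟩ : ∃ n : ℕ, genus k K = n + 1 := ⟨genus k K - 1, by omega⟩
  have hell : ell W = n + 1 := by rw [C.ell_canonical hW, hn]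
  haveI : FiniteDimensional k (L W) := Groth.Agent.Lib.Helper27.FF.finiteDimensional_L hK W
  let b := Module.finBasisOfFinrankEq k (L W) hell
  set φ : Fin (n + 1) → K := fun i => ((b i : L W) : K) with hφdef
  have hφ : LinearIndependent k φ :=
    b.linearIndependent.map' (L W).subtype (Submodule.ker_subtype _)
  have hspan : Submodule.span k (Set.range φ) = L W := by
    have h1 : Set.range φ = (L W).subtype '' Set.range b := by
      rw [← Set.range_comp]
      rfl
    rw [h1, Submodule.span_image, b.span_eq, Submodule.map_subtype_top]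
  obtain ⟨s, H, hH⟩ := exists_hasse hK
  obtain ⟨J, hJ⟩ := exists_isOrders φ hφ (AlgHom.id k K) hK hH
  obtain ⟨Φ, hΦ⟩ := exists_expansions hK
  exact ⟨n, W, φ, s, H, J, Φ, hW, hφ, hspan, hH, hJ, hΦ⟩

theorem mem_fixingSubgroup_adjoin_simple {x : K} (ρ : K ≃ₐ[k] K) (hρ : ρ x = x) :
    ρ ∈ IntermediateField.fixingSubgroup k⟮x⟯ := by
  rw [IntermediateField.mem_fixingSubgroup_iff]
  intro y hy
  obtain ⟨r, q, rfl⟩ := (IntermediateField.mem_adjoin_simple_iff k y).mp hy
  rw [map_div₀, ← Polynomial.aeval_algHom_apply, ← Polynomial.aeval_algHom_apply, hρ]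

include hK in
/-- Finiteness of the automorphism group (S11048). -/
theorem finite_algEquiv (hg : 1 < genus k K)
    (hchar : ringChar k = 0 ∨ 2 * genus k K - 2 < ringChar k) : Finite (K ≃ₐ[k] K) := by
  classical
  obtain ⟨n, C, φ, s, H, J, Φ, hC, hφ, hspan, hH, hJ, hΦ⟩ := exists_weierstrass_data hK hg
  have hJeq := canonical_orders hK C hC φ hφ hspan hchar s H hH J hJ
  subst hJeq
  have hdich := Groth.Agent.S12618.result k K hK hg hchar C hC φ hφ hspan s H hH _ hJ Φ hΦ
  set W := wDiv (AlgHom.id k K) H Φ s φ (fun l : Fin n => (l : ℕ) + 1) with hW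
  have hinv : ∀ (σ : K ≃ₐ[k] K) (P : Place k K), W (Place.comapEquiv σ P) = W P :=
    wDiv_comapEquiv hK C hC φ hφ hspan hchar s H hH hJ Φ hΦ
  -- the kernel of the action on the Weierstrass points is finite
  have hfixed : ∀ ρ : K ≃ₐ[k] K, (∀ P ∈ W.support, Place.comapEquiv ρ P = P) →
      ∀ P : Place k K, W P ≠ 0 → IsFixedPt (ρ : K →ₐ[k] K) P := by
    intro ρ hρ P hP z hz
    show P.1 (ρ z) < 1
    rw [← Place.comapEquiv_apply, hρ P (Finsupp.mem_support_iff.mpr hP)]
    exact hz
  have hker : {ρ : K ≃ₐ[k] K | ∀ P ∈ W.support, Place.comapEquiv ρ P = P}.Finite := by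
    rcases hdich with ⟨-, h⟩ | ⟨-, x, hx, h⟩
    · apply (Set.finite_singleton (AlgEquiv.refl : K ≃ₐ[k] K)).subset
      intro ρ hρ
      exact h ρ (hfixed ρ hρ)
    · haveI : FiniteDimensional k⟮x⟯ K := Module.finite_of_finrank_pos (by rw [hx]; norm_num)
      haveI : Finite (IntermediateField.fixingSubgroup k⟮x⟯) :=
        Finite.of_equiv _ (IntermediateField.fixingSubgroupEquiv k⟮x⟯).symm.toEquiv
      have hfin : ((IntermediateField.fixingSubgroup k⟮x⟯ : Subgroup (K ≃ₐ[k] K)) :
          Set (K ≃ₐ[k] K)).Finite := Set.toFinite _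
      apply hfin.subset
      intro ρ hρ
      exact mem_fixingSubgroup_adjoin_simple ρ ((h ρ).mp (hfixed ρ hρ))
  -- the action on the Weierstrass points
  let f : (K ≃ₐ[k] K) → (W.support → W.support) := fun σ P =>
    ⟨Place.comapEquiv σ P.1, by
      rw [Finsupp.mem_support_iff, hinv]
      exact Finsupp.mem_support_iff.mp P.2⟩
  have hfin : (Set.univ : Set (K ≃ₐ[k] K)).Finite := by
    apply Set.Finite.of_finite_fibers f (Set.finite_univ.subset (Set.subset_univ _))
    rintro y ⟨τ, -, rfl⟩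
    apply (hker.image (fun ρ => ρ * τ)).subset
    rintro σ ⟨-, hσ⟩
    have hσ' : f σ = f τ := hσ
    refine ⟨σ * τ.symm, ?_, ?_⟩
    · intro P hP
      have h1 : Place.comapEquiv σ P = Place.comapEquiv τ P := by
        have := congrFun hσ' ⟨P, hP⟩
        exact congrArg Subtype.val this
      rw [comapEquiv_mul, h1, Place.comapEquiv_symm_comapEquiv]
    · ext z
      simp [AlgEquiv.mul_apply]
  exact Set.finite_univ_iff.mp hfin

end AC

end Groth.Agent.Lib.Helper23.Wp
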