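import Mathlib
import Groth.Prelude
import Groth.Agent.Lib.Helper23.XTwA
import Groth.Agent.Lib.Helper23.HilbPV

/-!
# `ℓ`-stable sheaves on a closed subscheme of projective space are simple (helper23)
-/

set_option autoImplicit false
set_option linter.unusedSectionVars false
set_option linter.style.haveILetI false
universe u
open CategoryTheory CategoryTheory.Limits AlgebraicGeometry Polynomial

noncomputable section

namespace Groth.Agent.Lib.Helper23.XTw

open Groth.Agent.Lib.Helper17 Groth.Agent.Lib.Helper17.DevBasic Groth.Agent.Lib.Helper23.HilbP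
  Groth.Agent.Lib.Helper3 Groth.Agent.Lib.Helper3.InvMonoidal Groth.Agent.Lib.Helper3.TwistMul
  Groth.Agent.Lib.Helper7 Groth.Agent.Lib.Helper23.Simp

/-- the vector of truncated ratios. -/
def vec (d ℓ : ℕ) (Q : ℚ[X]) : Fin ℓ → ℚ := fun j =>
  (Q.coeff (d - 1 - (j : ℕ)) * (Nat.factorial (d - 1 - (j : ℕ)) : ℚ)) /
    (Q.coeff d * (Nat.factorial d : ℚ))

/-- two pieces of a sum cannot both be lexicographically smaller than the sum. -/
lemma not_both_lex_lt (d ℓ : ℕ) (Q1 Q2 P : ℚ[X]) (hsum : Q1 + Q2 = P) (h1 : 0 < Q1.coeff d)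
    (h2 : 0 < Q2.coeff d) (hl1 : toLex (vec d ℓ Q1) < toLex (vec d ℓ P))
    (hl2 : toLex (vec d ℓ Q2) < toLex (vec d ℓ P)) : False := by
  obtain ⟨i1, he1, hi1⟩ := hl1
  obtain ⟨i2, he2, hi2⟩ := hl2
  have hfd : (0 : ℚ) < (Nat.factorial d : ℚ) := by exact_mod_cast Nat.factorial_pos d
  have hc : P.coeff d = Q1.coeff d + Q2.coeff d := by rw [← hsum, coeff_add]
  have hcp : 0 < P.coeff d := by rw [hc]; linarith
  -- convexity at every index
  have conv : ∀ i : Fin ℓ, P.coeff d * vec d ℓ P i =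
      Q1.coeff d * vec d ℓ Q1 i + Q2.coeff d * vec d ℓ Q2 i := by
    intro i
    unfold vec
    rw [← hsum, coeff_add, coeff_add]
    field_simp
  -- the minimum index
  have key : ∀ i : Fin ℓ, vec d ℓ Q1 i ≤ vec d ℓ P i → vec d ℓ Q2 i ≤ vec d ℓ P i →
      (vec d ℓ Q1 i < vec d ℓ P i ∨ vec d ℓ Q2 i < vec d ℓ P i) → False := by
    intro i ha hb hab
    have e := conv i
    rw [hc] at e
    rcases hab with hlt | hlt
    · nlinarith [mul_lt_mul_of_pos_left hlt h1, mul_le_mul_of_nonneg_left hb h2.le]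
    · nlinarith [mul_lt_mul_of_pos_left hlt h2, mul_le_mul_of_nonneg_left ha h1.le]
  rcases lt_trichotomy i1 i2 with h | h | h
  · exact key i1 hi1.le (le_of_eq (he2 i1 h)) (Or.inl hi1)
  · subst h
    exact key i1 hi1.le hi2.le (Or.inl hi1)
  · exact key i2 (le_of_eq (he1 i2 h)) hi2.le (Or.inr hi2)

variable (k : Type u) [Field k] {X : Scheme.{u}} [X.Over (Spec (CommRingCat.of k))]
  [IsProper (X ↘ Spec (CommRingCat.of k))] {N : ℕ} (ι : X ⟶ CohB1.ProjSpace N k)
  [IsClosedImmersion ι]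

theorem isIso_of_lStable (d ℓ : ℕ) (E : X.Modules) (hE : Coh.IsCoh E) (P : ℚ[X])
    (hP : ZHilbX k ι E P) (hpure : ShStab.IsPure X E d)
    (hst : ∀ (F : X.Modules) (j : F ⟶ E), Mono j → Coh.IsCoh F → ∀ Q : ℚ[X],
      ZHilbX k ι F Q → 0 < Q.coeff d → Q.coeff d < P.coeff d →
        toLex (vec d ℓ Q) < toLex (vec d ℓ P))
    (ψ : E ⟶ E) (hψ : ψ ≠ 0) : IsIso ψ := by
  classical
  haveI := isNoetherian_of_isProper k X
  have hL : CohB1.IsAmple (OX ι 1) := isAmple_OX_one ι
  have hpE : ShStab.IsHilbPoly k X (OX ι 1) E P := isHilbPoly_of_zHilbX ι hP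
  have hfd : (0 : ℚ) < (Nat.factorial d : ℚ) := by exact_mod_cast Nat.factorial_pos d
  have coeff_pos : ∀ {F : X.Modules} (j : F ⟶ E) [Mono j], Coh.IsCoh F → ¬ IsZero F →
      ∀ {Q : ℚ[X]}, ShStab.IsHilbPoly k X (OX ι 1) F Q → 0 < Q.coeff d := by
    intro F j _ hF hF0 Q hQ
    have := alpha_pos_of_pure k hL hpure j hF hF0 hQ
    unfold StabCat.alpha at this
    by_contra hneg
    have h0 : Q.coeff d ≤ 0 := not_lt.1 hneg
    nlinarith [mul_nonneg hfd.le (neg_nonneg.2 h0)]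
  have hIcoh : Coh.IsCoh (Abelian.image ψ) :=
    isCoh_kernel (cokernel.π ψ) hE (isCoh_cokernel ψ hE.1 hE).1
  have hfac : Abelian.factorThruImage ψ ≫ Abelian.image.ι ψ = ψ := Abelian.image.fac ψ
  have hI0 : ¬ IsZero (Abelian.image ψ) := fun hz =>
    hψ (by rw [← hfac, hz.eq_of_tgt (Abelian.factorThruImage ψ) 0, Limits.zero_comp])
  obtain ⟨pI, hpI⟩ := exists_isHilbPoly k X hL _ hIcoh
  have hKcoh : Coh.IsCoh (kernel (Abelian.factorThruImage ψ)) :=
    isCoh_kernel _ hE hIcoh.1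
  have hpK := isHilbPoly_X₁ k hL.1 _ (DevKey.shortExact_of_epi (Abelian.factorThruImage ψ))
    hKcoh hE hIcoh hpE hpI
  have cI : 0 < pI.coeff d := coeff_pos (Abelian.image.ι ψ) hIcoh hI0 hpI
  haveI : Mono ψ := by
    by_contra hmono
    have hK0 : ¬ IsZero (kernel (Abelian.factorThruImage ψ)) := by
      intro hz
      haveI : Mono (Abelian.factorThruImage ψ) :=
        Preadditive.mono_of_kernel_zero (hz.eq_of_src _ _)
      apply hmono
      rw [← hfac]
      exact mono_comp _ _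
    have cK : 0 < (P - pI).coeff d :=
      coeff_pos (kernel.ι (Abelian.factorThruImage ψ)) hKcoh hK0 hpK
    have cK' : (P - pI).coeff d < P.coeff d := by
      rw [coeff_sub]; linarith
    have cI' : pI.coeff d < P.coeff d := by
      rw [coeff_sub] at cK; linarith
    have l1 := hst _ (kernel.ι (Abelian.factorThruImage ψ)) inferInstance hKcoh _
      (zHilbX_of_isHilbPoly ι hKcoh hpK) cK cK'
    have l2 := hst _ (Abelian.image.ι ψ) inferInstance hIcoh _
      (zHilbX_of_isHilbPoly ι hIcoh hpI) cI cI'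
    exact not_both_lex_lt d ℓ (P - pI) pI P (by ring) cK cI l1 l2
  have hC : Coh.IsCoh (cokernel ψ) := isCoh_cokernel ψ hE.1 hE
  have hpC := isHilbPoly_X₃ k hL.1 _ (DevKey.shortExact_of_mono ψ) hE hE hC hpE hpE
  have hCz : IsZero (cokernel ψ) := by
    by_contra h0
    have := leadingCoeff_pos k hL _ hC h0 hpC
    simp at this
  haveI : Epi ψ := Preadditive.epi_of_cokernel_zero (hCz.eq_of_tgt _ _)
  exact isIso_of_mono_of_epi ψ

end Groth.Agent.Lib.Helper23.XTw
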