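import Mathlib

/-!
# The formal functional equation of a zeta function from Poincaré duality (helper23)

Pure algebra: given polynomials `χ i` (`i ≤ 2n`) of degrees `B i`, scalars `d i`, with
`d i • reverse (χ (2n-i)) = (-1)^(B i) χ i (c t)` and `d (2n-i) d i = c ^ B i`, the alternating
product of the reverses satisfies the functional equation.
-/

open Polynomial

namespace Groth.Agent.Lib.Helper23.ZetaFE

section Sums

theorem sum_range_even_odd {M : Type*} [AddCommMonoid M] (f : ℕ → M) (n : ℕ) :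
    ∑ i ∈ Finset.range (2 * n + 1), f i =
      ∑ j ∈ Finset.range (n + 1), f (2 * j) + ∑ j ∈ Finset.range n, f (2 * j + 1) := by
  induction n with
  | zero => simp
  | succ n ih =>
    rw [show 2 * (n + 1) + 1 = (2 * n + 1) + 1 + 1 by ring, Finset.sum_range_succ,
      Finset.sum_range_succ, ih, Finset.sum_range_succ (fun j => f (2 * j)) (n + 1),
      Finset.sum_range_succ (fun j => f (2 * j + 1)) n]
    rw [show 2 * n + 1 + 1 = 2 * (n + 1) by ring]
    abel

theorem sum_palindrome_even (f : ℕ → ℤ) (r : ℕ) (h : ∀ j < 2 * r, f (2 * r - 1 - j) = f j) :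
    ∑ j ∈ Finset.range (2 * r), f j = 2 * ∑ j ∈ Finset.range r, f j := by
  rw [two_mul r, Finset.sum_range_add]
  have h1 : ∑ x ∈ Finset.range r, f (r + x) = ∑ x ∈ Finset.range r, f (r - 1 - x) := by
    apply Finset.sum_congr rfl
    intro x hx
    rw [Finset.mem_range] at hx
    rw [← h (r + x) (by omega)]
    congr 1
    omega
  rw [h1, Finset.sum_range_reflect]
  ring

theorem sum_palindrome_odd (f : ℕ → ℤ) (r : ℕ) (h : ∀ j < 2 * r + 1, f (2 * r - j) = f j) :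
    ∑ j ∈ Finset.range (2 * r + 1), f j = 2 * ∑ j ∈ Finset.range r, f j + f r := by
  rw [show 2 * r + 1 = r + (1 + r) by ring, Finset.sum_range_add, Finset.sum_range_add]
  have h1 : ∑ x ∈ Finset.range r, f (r + (1 + x)) = ∑ x ∈ Finset.range r, f (r - 1 - x) := by
    apply Finset.sum_congr rfl
    intro x hx
    rw [Finset.mem_range] at hx
    rw [← h (r + (1 + x)) (by omega)]
    congr 1
    omega
  rw [h1, Finset.sum_range_reflect]
  simp
  ring

theorem E_eq (n : ℕ) (B : ℕ → ℕ) :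
    ∑ i ∈ Finset.range (2 * n + 1), (-1 : ℤ) ^ i * (B i : ℤ) =
      ((∑ j ∈ Finset.range (n + 1), B (2 * j) : ℕ) : ℤ) -
        ((∑ j ∈ Finset.range n, B (2 * j + 1) : ℕ) : ℤ) := by
  rw [sum_range_even_odd, Nat.cast_sum, Nat.cast_sum, sub_eq_add_neg, ← Finset.sum_neg_distrib]
  congr 1
  · apply Finset.sum_congr rfl
    intro j _
    rw [(even_two_mul j).neg_one_pow, one_mul]
  · apply Finset.sum_congr rfl
    intro j _
    rw [(odd_two_mul_add_one j).neg_one_pow, neg_one_mul]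

theorem even_mul_E (n : ℕ) (B : ℕ → ℕ) (hB : ∀ i j, i + j = 2 * n → B j = B i)
    (hodd : Odd n → Even (B n)) :
    Even ((n : ℤ) * ∑ i ∈ Finset.range (2 * n + 1), (-1 : ℤ) ^ i * (B i : ℤ)) := by
  rcases Nat.even_or_odd n with he | ho
  · exact Even.mul_right ((Int.even_coe_nat n).mpr he) _
  · apply Even.mul_left
    have hBn := hodd ho
    obtain ⟨r, hr⟩ := ho
    subst hr
    rw [E_eq, Nat.cast_sum, Nat.cast_sum]
    apply Even.sub
    · rw [show 2 * r + 1 + 1 = 2 * (r + 1) by ring,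
        sum_palindrome_even (fun j => (B (2 * j) : ℤ)) (r + 1)]
      · exact even_two_mul _
      · intro j hj
        have := hB (2 * j) (2 * (2 * (r + 1) - 1 - j)) (by omega)
        simp only [this]
    · rw [sum_palindrome_odd (fun j => (B (2 * j + 1) : ℤ)) r]
      · apply Even.add (even_two_mul _)
        exact (Int.even_coe_nat _).mpr hBn
      · intro j hj
        have := hB (2 * j + 1) (2 * (2 * r - j) + 1) (by omega)
        simp only [this]

end Sums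

section Main

variable {K : Type*} [Field K]

theorem aeval_reverse (c : K) (hc : c ≠ 0) (χ : K[X]) :
    aeval ((RatFunc.X : RatFunc K)⁻¹ * RatFunc.C c⁻¹) χ.reverse *
        (RatFunc.C c * RatFunc.X) ^ χ.natDegree =
      algebraMap K[X] (RatFunc K) (χ.comp (C c * X)) := by
  have hx : (RatFunc.C c * RatFunc.X : RatFunc K) ≠ 0 :=
    mul_ne_zero ((_root_.map_ne_zero _).mpr hc) RatFunc.X_ne_zero
  letI : Invertible (RatFunc.C c * RatFunc.X : RatFunc K) := invertibleOfNonzero hx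
  have h := Polynomial.eval₂_reverse_mul_pow (algebraMap K (RatFunc K))
    (RatFunc.C c * RatFunc.X) χ
  rw [invOf_eq_inv, mul_inv, ← map_inv₀, mul_comm (RatFunc.C c⁻¹)] at h
  rw [Polynomial.aeval_def, h, Polynomial.comp_eq_aeval, ← Polynomial.aeval_algebraMap_apply,
    map_mul, RatFunc.algebraMap_C, RatFunc.algebraMap_X, Polynomial.aeval_def]

theorem prod_identity (c : K) (hc : c ≠ 0) (s : Finset ℕ) (ψ ψ' : ℕ → K[X]) (b : ℕ → ℕ)
    (m : ℕ → K) (hdeg : ∀ j ∈ s, (ψ j).natDegree = b j)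
    (H : ∀ j ∈ s, (ψ j).comp (C c * X) = C (m j) * (ψ' j).reverse) :
    aeval ((RatFunc.X : RatFunc K)⁻¹ * RatFunc.C c⁻¹) (∏ j ∈ s, (ψ j).reverse) *
        (RatFunc.C (c ^ (∑ j ∈ s, b j)) * RatFunc.X ^ (∑ j ∈ s, b j)) =
      RatFunc.C (∏ j ∈ s, m j) *
        algebraMap K[X] (RatFunc K) (∏ j ∈ s, (ψ' j).reverse) := by
  have hterm : ∀ j ∈ s, aeval ((RatFunc.X : RatFunc K)⁻¹ * RatFunc.C c⁻¹) (ψ j).reverse *
      (RatFunc.C c * RatFunc.X) ^ b j =
      RatFunc.C (m j) * algebraMap K[X] (RatFunc K) (ψ' j).reverse := by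
    intro j hj
    rw [← hdeg j hj, aeval_reverse c hc, H j hj, map_mul, RatFunc.algebraMap_C]
  calc _ = ∏ j ∈ s, (aeval ((RatFunc.X : RatFunc K)⁻¹ * RatFunc.C c⁻¹) (ψ j).reverse *
        (RatFunc.C c * RatFunc.X) ^ b j) := by
        rw [Finset.prod_mul_distrib, Finset.prod_pow_eq_pow_sum, map_prod, mul_pow, map_pow]
    _ = ∏ j ∈ s, (RatFunc.C (m j) * algebraMap K[X] (RatFunc K) (ψ' j).reverse) :=
        Finset.prod_congr rfl hterm
    _ = _ := by rw [Finset.prod_mul_distrib, map_prod, map_prod]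

theorem prod_sq (n' : ℕ) (m : ℕ → K) (b : ℕ → ℕ) (c : K)
    (h : ∀ j < n', m j * m (n' - 1 - j) = c ^ b j) :
    (∏ j ∈ Finset.range n', m j) ^ 2 = c ^ (∑ j ∈ Finset.range n', b j) := by
  have hr := Finset.prod_range_reflect m n'
  calc (∏ j ∈ Finset.range n', m j) ^ 2
      = (∏ j ∈ Finset.range n', m j) * (∏ j ∈ Finset.range n', m (n' - 1 - j)) := by
        rw [hr, sq]
    _ = ∏ j ∈ Finset.range n', (m j * m (n' - 1 - j)) := (Finset.prod_mul_distrib).symm
    _ = ∏ j ∈ Finset.range n', c ^ b j :=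
        Finset.prod_congr rfl (fun j hj => h j (Finset.mem_range.mp hj))
    _ = _ := Finset.prod_pow_eq_pow_sum _ _ _

theorem functional_equation (n : ℕ) (q : K) (hq : q ≠ 0) (B : ℕ → ℕ) (χ : ℕ → K[X]) (d : ℕ → K)
    (hdeg : ∀ i, (χ i).natDegree = B i)
    (hB : ∀ i j, i + j = 2 * n → B j = B i)
    (hodd : Odd n → Even (B n))
    (H1 : ∀ i j, i + j = 2 * n →
      C (d i) * (χ j).reverse = (-1) ^ B i * (χ i).comp (C (q ^ n) * X))
    (H2 : ∀ i j, i + j = 2 * n → d j * d i = (q ^ n) ^ B i) :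
    ∃ ε : K, (ε = 1 ∨ ε = -1) ∧
      aeval ((RatFunc.X : RatFunc K)⁻¹ * RatFunc.C (q ^ n)⁻¹)
          (∏ i ∈ Finset.range n, (χ (2 * i + 1)).reverse) /
        aeval ((RatFunc.X : RatFunc K)⁻¹ * RatFunc.C (q ^ n)⁻¹)
          (∏ i ∈ Finset.range (n + 1), (χ (2 * i)).reverse) =
      RatFunc.C ε * RatFunc.C q ^ ((n : ℤ) *
          (∑ i ∈ Finset.range (2 * n + 1), (-1 : ℤ) ^ i * (B i : ℤ)) / 2) *
        (RatFunc.X : RatFunc K) ^ (∑ i ∈ Finset.range (2 * n + 1), (-1 : ℤ) ^ i * (B i : ℤ)) *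
        (algebraMap K[X] (RatFunc K) (∏ i ∈ Finset.range n, (χ (2 * i + 1)).reverse) /
          algebraMap K[X] (RatFunc K) (∏ i ∈ Finset.range (n + 1), (χ (2 * i)).reverse)) := by
  have hc : q ^ n ≠ 0 := pow_ne_zero _ hq
  have ht : (RatFunc.X : RatFunc K) ≠ 0 := RatFunc.X_ne_zero
  have hcomp : ∀ i j, i + j = 2 * n →
      (χ i).comp (C (q ^ n) * X) = C ((-1) ^ B i * d i) * (χ j).reverse := by
    intro i j hij
    have h := H1 i j hij
    calc (χ i).comp (C (q ^ n) * X)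
        = (-1) ^ B i * ((-1) ^ B i * (χ i).comp (C (q ^ n) * X)) := by
          rw [← mul_assoc, ← mul_pow, neg_one_mul, neg_neg, one_pow, one_mul]
      _ = (-1) ^ B i * (C (d i) * (χ j).reverse) := by rw [← h]
      _ = _ := by rw [map_mul, map_pow, map_neg, map_one, mul_assoc]
  -- the odd part
  have hEo : aeval ((RatFunc.X : RatFunc K)⁻¹ * RatFunc.C (q ^ n)⁻¹)
        (∏ j ∈ Finset.range n, (χ (2 * j + 1)).reverse) *
      (RatFunc.C ((q ^ n) ^ (∑ j ∈ Finset.range n, B (2 * j + 1))) *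
        RatFunc.X ^ (∑ j ∈ Finset.range n, B (2 * j + 1))) =
      RatFunc.C (∏ j ∈ Finset.range n, ((-1) ^ B (2 * j + 1) * d (2 * j + 1))) *
        algebraMap K[X] (RatFunc K) (∏ j ∈ Finset.range n, (χ (2 * j + 1)).reverse) := by
    have h := prod_identity (q ^ n) hc (Finset.range n) (fun j => χ (2 * j + 1))
      (fun j => χ (2 * (n - 1 - j) + 1)) (fun j => B (2 * j + 1))
      (fun j => (-1) ^ B (2 * j + 1) * d (2 * j + 1)) (fun j _ => hdeg _)
      (fun j hj => hcomp _ _ (by have := Finset.mem_range.mp hj; omega))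
    have hr : ∏ j ∈ Finset.range n, (χ (2 * (n - 1 - j) + 1)).reverse =
        ∏ j ∈ Finset.range n, (χ (2 * j + 1)).reverse :=
      Finset.prod_range_reflect (fun j => (χ (2 * j + 1)).reverse) n
    rw [hr] at h
    exact h
  have hEe : aeval ((RatFunc.X : RatFunc K)⁻¹ * RatFunc.C (q ^ n)⁻¹)
        (∏ j ∈ Finset.range (n + 1), (χ (2 * j)).reverse) *
      (RatFunc.C ((q ^ n) ^ (∑ j ∈ Finset.range (n + 1), B (2 * j))) *
        RatFunc.X ^ (∑ j ∈ Finset.range (n + 1), B (2 * j))) =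
      RatFunc.C (∏ j ∈ Finset.range (n + 1), ((-1) ^ B (2 * j) * d (2 * j))) *
        algebraMap K[X] (RatFunc K) (∏ j ∈ Finset.range (n + 1), (χ (2 * j)).reverse) := by
    have h := prod_identity (q ^ n) hc (Finset.range (n + 1)) (fun j => χ (2 * j))
      (fun j => χ (2 * (n + 1 - 1 - j))) (fun j => B (2 * j))
      (fun j => (-1) ^ B (2 * j) * d (2 * j)) (fun j _ => hdeg _)
      (fun j hj => hcomp _ _ (by have := Finset.mem_range.mp hj; omega))
    have hr : ∏ j ∈ Finset.range (n + 1), (χ (2 * (n + 1 - 1 - j))).reverse =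
        ∏ j ∈ Finset.range (n + 1), (χ (2 * j)).reverse :=
      Finset.prod_range_reflect (fun j => (χ (2 * j)).reverse) (n + 1)
    rw [hr] at h
    exact h
  -- squares of the constants
  have hmo : (∏ j ∈ Finset.range n, ((-1) ^ B (2 * j + 1) * d (2 * j + 1))) ^ 2 =
      (q ^ n) ^ (∑ j ∈ Finset.range n, B (2 * j + 1)) := by
    apply prod_sq n (fun j => (-1) ^ B (2 * j + 1) * d (2 * j + 1)) (fun j => B (2 * j + 1))
    intro j hj
    have h1 := hB (2 * j + 1) (2 * (n - 1 - j) + 1) (by omega)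
    have h2 := H2 (2 * j + 1) (2 * (n - 1 - j) + 1) (by omega)
    show (-1) ^ B (2 * j + 1) * d (2 * j + 1) *
      ((-1) ^ B (2 * (n - 1 - j) + 1) * d (2 * (n - 1 - j) + 1)) = (q ^ n) ^ B (2 * j + 1)
    rw [h1, ← h2]
    have h3 : ((-1 : K) ^ B (2 * j + 1)) * ((-1 : K) ^ B (2 * j + 1)) = 1 := by
      rw [← mul_pow, neg_one_mul, neg_neg, one_pow]
    linear_combination (d (2 * j + 1) * d (2 * (n - 1 - j) + 1)) * h3
  have hme : (∏ j ∈ Finset.range (n + 1), ((-1) ^ B (2 * j) * d (2 * j))) ^ 2 =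
      (q ^ n) ^ (∑ j ∈ Finset.range (n + 1), B (2 * j)) := by
    apply prod_sq (n + 1) (fun j => (-1) ^ B (2 * j) * d (2 * j)) (fun j => B (2 * j))
    intro j hj
    have h1 := hB (2 * j) (2 * (n + 1 - 1 - j)) (by omega)
    have h2 := H2 (2 * j) (2 * (n + 1 - 1 - j)) (by omega)
    show (-1) ^ B (2 * j) * d (2 * j) *
      ((-1) ^ B (2 * (n + 1 - 1 - j)) * d (2 * (n + 1 - 1 - j))) = (q ^ n) ^ B (2 * j)
    rw [h1, ← h2]
    have h3 : ((-1 : K) ^ B (2 * j)) * ((-1 : K) ^ B (2 * j)) = 1 := by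
      rw [← mul_pow, neg_one_mul, neg_neg, one_pow]
    linear_combination (d (2 * j) * d (2 * (n + 1 - 1 - j))) * h3
  -- abbreviations
  generalize hSo : ∑ j ∈ Finset.range n, B (2 * j + 1) = So at hEo hmo
  generalize hSe : ∑ j ∈ Finset.range (n + 1), B (2 * j) = Se at hEe hme
  generalize hMO : ∏ j ∈ Finset.range n, ((-1 : K) ^ B (2 * j + 1) * d (2 * j + 1)) = MO
    at hEo hmo
  generalize hME : ∏ j ∈ Finset.range (n + 1), ((-1 : K) ^ B (2 * j) * d (2 * j)) = ME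
    at hEe hme
  have hE : ∑ i ∈ Finset.range (2 * n + 1), (-1 : ℤ) ^ i * (B i : ℤ) = (Se : ℤ) - (So : ℤ) := by
    rw [E_eq, hSo, hSe]
  obtain ⟨m, hm⟩ := even_mul_E n B hB hodd
  rw [hE] at hm ⊢
  have hdiv : (n : ℤ) * ((Se : ℤ) - (So : ℤ)) / 2 = m := by
    rw [hm, ← two_mul, Int.mul_ediv_cancel_left _ two_ne_zero]
  rw [hdiv]
  generalize aeval ((RatFunc.X : RatFunc K)⁻¹ * RatFunc.C (q ^ n)⁻¹)
    (∏ j ∈ Finset.range n, (χ (2 * j + 1)).reverse) = Lo at hEo ⊢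
  generalize aeval ((RatFunc.X : RatFunc K)⁻¹ * RatFunc.C (q ^ n)⁻¹)
    (∏ j ∈ Finset.range (n + 1), (χ (2 * j)).reverse) = Le at hEe ⊢
  generalize algebraMap K[X] (RatFunc K) (∏ j ∈ Finset.range n, (χ (2 * j + 1)).reverse) = Po
    at hEo ⊢
  generalize algebraMap K[X] (RatFunc K) (∏ j ∈ Finset.range (n + 1), (χ (2 * j)).reverse) = Pe
    at hEe ⊢
  have hCc : (RatFunc.C (q ^ n) : RatFunc K) ≠ 0 := (_root_.map_ne_zero _).mpr hc
  have hne : ∀ S : ℕ, (RatFunc.C ((q ^ n) ^ S) * RatFunc.X ^ S : RatFunc K) ≠ 0 := fun S =>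
    mul_ne_zero ((_root_.map_ne_zero _).mpr (pow_ne_zero _ hc)) (pow_ne_zero _ ht)
  have hLo : Lo = RatFunc.C MO * Po / (RatFunc.C ((q ^ n) ^ So) * RatFunc.X ^ So) :=
    eq_div_of_mul_eq (hne So) hEo
  have hLe : Le = RatFunc.C ME * Pe / (RatFunc.C ((q ^ n) ^ Se) * RatFunc.X ^ Se) :=
    eq_div_of_mul_eq (hne Se) hEe
  have hME0 : ME ≠ 0 := by
    intro h0
    rw [h0] at hme
    exact pow_ne_zero Se hc (by rw [← hme]; ring)
  have key : Lo / Le = RatFunc.C (MO / ME * (q ^ n) ^ Se / (q ^ n) ^ So) *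
      (RatFunc.X : RatFunc K) ^ ((Se : ℤ) - (So : ℤ)) * (Po / Pe) := by
    rw [hLo, hLe, zpow_sub₀ ht, zpow_natCast, zpow_natCast]
    simp only [map_div₀, map_mul, map_pow]
    simp only [div_eq_mul_inv, mul_inv, inv_inv]
    ring
  have hδ : (MO / ME * (q ^ n) ^ Se / (q ^ n) ^ So) ^ 2 = (q ^ m) ^ 2 := by
    have h1 : ((q ^ m) ^ 2 : K) = (q ^ n) ^ Se / (q ^ n) ^ So := by
      rw [← zpow_natCast (q ^ m) 2, ← zpow_mul, ← zpow_natCast q n, ← zpow_natCast (q ^ (n : ℤ)) Se,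
        ← zpow_natCast (q ^ (n : ℤ)) So, ← zpow_mul, ← zpow_mul, ← zpow_sub₀ hq]
      congr 1
      push_cast
      linarith
    rw [h1, div_pow, mul_pow, div_pow, hmo, hme]
    have ha : ((q ^ n) ^ So : K) ≠ 0 := pow_ne_zero _ hc
    have hb : ((q ^ n) ^ Se : K) ≠ 0 := pow_ne_zero _ hc
    field_simp
  rcases sq_eq_sq_iff_eq_or_eq_neg.mp hδ with h | h
  · refine ⟨1, Or.inl rfl, ?_⟩
    rw [key, h, map_one, one_mul, map_zpow₀]
  · refine ⟨-1, Or.inr rfl, ?_⟩
    rw [key, h, map_neg, map_neg, map_one, map_zpow₀]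
    ring

end Main

end Groth.Agent.Lib.Helper23.ZetaFE
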