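import Mathlib
import Groth.Prelude.Def_WeilCoh
import Groth.Prelude.Def_W4c1zetahwZeta
import Groth.Agent.Lib.Helper23.LogDet
import Groth.Agent.Lib.Helper23.LefCount
import Groth.Agent.Lib.Helper23.ZetaFE

/-!
# The zeta function as an alternating product of characteristic polynomials (helper23)

`Z(X,t) · ∏ P_{2i}(t) = ∏ P_{2i+1}(t)` and the rationality of `Z(X,t)` over `ℚ`.
-/

set_option autoImplicit false

universe u v w

open CategoryTheory AlgebraicGeometry

namespace Groth.Agent.Lib.Helper23.ZetaProd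

section PS

/-- A solution of `c' = c g` with zero constant term vanishes (characteristic zero). -/
theorem eq_zero_of_derivative_eq_mul {K : Type*} [Field K] [CharZero K] (c g : PowerSeries K)
    (h : PowerSeries.derivative K c = c * g) (h0 : PowerSeries.constantCoeff c = 0) : c = 0 := by
  ext n
  rw [map_zero]
  induction n using Nat.strong_induction_on with
  | _ n ih =>
    cases n with
    | zero =>
      rw [PowerSeries.coeff_zero_eq_constantCoeff_apply]
      exact h0
    | succ n =>
      have h1 := congrArg (PowerSeries.coeff n) h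
      have h2 : PowerSeries.coeff n (c * g) = 0 := by
        rw [PowerSeries.coeff_mul]
        refine Finset.sum_eq_zero fun p hp => ?_
        rw [ih p.1 (by have := (Finset.HasAntidiagonal.mem_antidiagonal.mp hp); omega), zero_mul]
      rw [PowerSeries.coeff_derivative, h2] at h1
      rcases mul_eq_zero.mp h1 with h3 | h3
      · exact h3
      · exact absurd h3 (Nat.cast_add_one_ne_zero n)

/-- The logarithmic derivative of a product. -/
theorem derivative_prod_range {K : Type*} [CommRing K] (P g : ℕ → PowerSeries K)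
    (h : ∀ i, PowerSeries.derivative K (P i) = P i * g i) (n : ℕ) :
    PowerSeries.derivative K (∏ i ∈ Finset.range n, P i) =
      (∏ i ∈ Finset.range n, P i) * ∑ i ∈ Finset.range n, g i := by
  induction n with
  | zero =>
    rw [Finset.range_zero, Finset.prod_empty, Finset.sum_empty, mul_zero]
    exact PowerSeries.derivative_one
  | succ n ih =>
    rw [Finset.prod_range_succ, Finset.sum_range_succ, Derivation.leibniz, ih, h n, smul_eq_mul,
      smul_eq_mul]
    ring

theorem derivative_map {R S : Type*} [CommSemiring R] [CommSemiring S] (σ : R →+* S)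
    (φ : PowerSeries R) :
    PowerSeries.derivative S (PowerSeries.map σ φ) =
      PowerSeries.map σ (PowerSeries.derivative R φ) := by
  ext m
  rw [PowerSeries.coeff_derivative, PowerSeries.coeff_map, PowerSeries.coeff_map,
    PowerSeries.coeff_derivative, map_mul, map_add, map_natCast, map_one]

/-- A power series over `ℚ` that becomes a quotient of polynomials over a field of characteristic
zero is already a quotient of polynomials over `ℚ`. -/
theorem descent {K : Type*} [Field K] [CharZero K] (Z : PowerSeries ℚ) (E O : Polynomial K)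
    (hE : E ≠ 0)
    (h : PowerSeries.map (algebraMap ℚ K) Z * (E : PowerSeries K) = (O : PowerSeries K)) :
    ∃ P Q : Polynomial ℚ, Q ≠ 0 ∧ Z * (Q : PowerSeries ℚ) = (P : PowerSeries ℚ) := by
  classical
  obtain ⟨j0, hj0⟩ : ∃ j, E.coeff j ≠ 0 := by
    by_contra hcon
    push Not at hcon
    exact hE (Polynomial.ext fun j => by rw [hcon j, Polynomial.coeff_zero])
  obtain ⟨lam, hlam⟩ := Module.Projective.exists_dual_ne_zero ℚ hj0
  let low : Polynomial K → Polynomial ℚ := fun A =>
    ∑ j ∈ Finset.range (A.natDegree + 1), Polynomial.monomial j (lam (A.coeff j))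
  have hlow : ∀ (A : Polynomial K) (i : ℕ), (low A).coeff i = lam (A.coeff i) := by
    intro A i
    simp only [low, Polynomial.finsetSum_coeff, Polynomial.coeff_monomial, Finset.sum_ite_eq',
      Finset.mem_range]
    split_ifs with hi
    · rfl
    · rw [Polynomial.coeff_eq_zero_of_natDegree_lt (by omega), map_zero]
  refine ⟨low O, low E, ?_, ?_⟩
  · intro h0
    apply hlam
    rw [← hlow, h0, Polynomial.coeff_zero]
  · ext n
    rw [Polynomial.coeff_coe, hlow, ← Polynomial.coeff_coe, ← h, PowerSeries.coeff_mul,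
      PowerSeries.coeff_mul, map_sum]
    refine Finset.sum_congr rfl fun p _ => ?_
    rw [Polynomial.coeff_coe, Polynomial.coeff_coe, hlow, PowerSeries.coeff_map,
      ← Algebra.smul_def, map_smul, smul_eq_mul]

end PS

section Zeta

variable {k₀ : Type u} [Field k₀] {X : Scheme.{u}} (f : X ⟶ Spec (CommRingCat.of k₀))

theorem constantCoeff_logZeta : PowerSeries.constantCoeff (Zeta.logZeta f) = 0 := by
  rw [← PowerSeries.coeff_zero_eq_constantCoeff_apply, Zeta.logZeta, PowerSeries.coeff_mk,
    Nat.cast_zero, div_zero]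

theorem hasSubst_logZeta : PowerSeries.HasSubst (Zeta.logZeta f) :=
  PowerSeries.HasSubst.of_constantCoeff_zero' (constantCoeff_logZeta f)

theorem constantCoeff_zetaFun : PowerSeries.constantCoeff (Zeta.zetaFun f) = 1 := by
  have h0 : MvPowerSeries.constantCoeff (Zeta.logZeta f) = 0 := constantCoeff_logZeta f
  change MvPowerSeries.constantCoeff (PowerSeries.subst (Zeta.logZeta f) (PowerSeries.exp ℚ)) = 1
  rw [PowerSeries.constantCoeff_subst (hasSubst_logZeta f), finsum_eq_single _ 0]
  · rw [pow_zero, map_one, PowerSeries.coeff_zero_eq_constantCoeff_apply,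
      PowerSeries.constantCoeff_exp, smul_eq_mul, mul_one]
  · intro d hd
    rw [map_pow, h0, zero_pow hd, smul_zero]

theorem derivative_zetaFun :
    PowerSeries.derivative ℚ (Zeta.zetaFun f) =
      Zeta.zetaFun f * PowerSeries.mk (fun m => (Zeta.nPts f (m + 1) : ℚ)) := by
  rw [Zeta.zetaFun, PowerSeries.derivative_subst (hasSubst_logZeta f), PowerSeries.derivative_exp]
  congr 1
  ext m
  rw [PowerSeries.coeff_derivative, Zeta.logZeta, PowerSeries.coeff_mk, PowerSeries.coeff_mk,
    Nat.cast_add_one, div_mul_cancel₀ _ (Nat.cast_add_one_ne_zero m)]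

variable (K : Type v) [Field K] [CharZero K]

theorem derivative_map_zetaFun :
    PowerSeries.derivative K (PowerSeries.map (algebraMap ℚ K) (Zeta.zetaFun f)) =
      PowerSeries.map (algebraMap ℚ K) (Zeta.zetaFun f) *
        PowerSeries.mk (fun m => (Zeta.nPts f (m + 1) : K)) := by
  rw [derivative_map, derivative_zetaFun, map_mul]
  congr 1
  ext m
  rw [PowerSeries.coeff_map, PowerSeries.coeff_mk, PowerSeries.coeff_mk, map_natCast]

theorem constantCoeff_map_zetaFun :
    PowerSeries.constantCoeff (PowerSeries.map (algebraMap ℚ K) (Zeta.zetaFun f)) = 1 := by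
  rw [← PowerSeries.coeff_zero_eq_constantCoeff_apply, PowerSeries.coeff_map,
    PowerSeries.coeff_zero_eq_constantCoeff_apply, constantCoeff_zetaFun, map_one]

end Zeta

section Main

variable (k₀ : Type u) [Field k₀] [Finite k₀] (k : Type u) [Field k] [IsAlgClosed k] [Algebra k₀ k]
variable {K : Type v} [Field K] [CharZero K]
  (T : WeilCoh.TheoryOn.{u, v, w} k (WeilCoh.IsVar k) K)

/-- `P_i(t) = det (1 - t F^* | H^i)` as a power series. -/
noncomputable def Pser {k : Type u} [Field k] [IsAlgClosed k] {K : Type v} [Field K] [CharZero K]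
    (T : WeilCoh.TheoryOn.{u, v, w} k (WeilCoh.IsVar k) K) {Xb : WeilCoh.Var k} (F : Xb ⟶ Xb)
    (i : ℕ) : PowerSeries K :=
  ((LinearMap.charpoly (T.pullDeg F ((i : ℕ) : ℤ))).reverse : PowerSeries K)

/-- `∑ₘ tr ((F^*)^(m+1) | H^i) t^m`. -/
noncomputable def Sser {k : Type u} [Field k] [IsAlgClosed k] {K : Type v} [Field K] [CharZero K]
    (T : WeilCoh.TheoryOn.{u, v, w} k (WeilCoh.IsVar k) K) {Xb : WeilCoh.Var k} (F : Xb ⟶ Xb)
    (i : ℕ) : PowerSeries K :=
  PowerSeries.mk (fun m => LinearMap.trace K ↥(T.gr Xb ((i : ℕ) : ℤ))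
    ((T.pullDeg F ((i : ℕ) : ℤ)) ^ (m + 1)))

variable {X : Scheme.{u}} (f : X ⟶ Spec (CommRingCat.of k₀)) [LocallyOfFiniteType f]
  (FX : X ⟶ X) (hFb : FX.base = 𝟙 _) (hle : ∀ U : X.Opens, U ≤ FX ⁻¹ᵁ U)
  (hFapp : ∀ (U : X.Opens) (s : Γ(X, U)), (FX.appLE U U (hle U)).hom s = s ^ Nat.card k₀)
  (Xb : WeilCoh.Var k) (π : Xb.obj.left ⟶ X)
  (hπ : IsPullback π Xb.obj.hom f (Spec.map (CommRingCat.ofHom (algebraMap k₀ k))))
  (F : Xb ⟶ Xb) (hF : WeilCoh.sm F ≫ π = π ≫ FX)
  (Pb : WeilCoh.Var k) (p q : Pb ⟶ Xb) (hP : WeilCoh.IsProd p q)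

include hFb hle hFapp hπ hF hP in
/-- `Z(X,t) · P_0 P_2 ⋯ P_{2n} = P_1 P_3 ⋯ P_{2n-1}`. -/
theorem zeta_mul_prod :
    PowerSeries.map (algebraMap ℚ K) (Zeta.zetaFun f) *
        (∏ i ∈ Finset.range (WeilCoh.dim Xb.obj.left + 1),
          ((LinearMap.charpoly (T.pullDeg F ((2 * i : ℕ) : ℤ))).reverse : PowerSeries K)) =
      ∏ i ∈ Finset.range (WeilCoh.dim Xb.obj.left),
        ((LinearMap.charpoly (T.pullDeg F ((2 * i + 1 : ℕ) : ℤ))).reverse : PowerSeries K) := by
  classical
  change PowerSeries.map (algebraMap ℚ K) (Zeta.zetaFun f) *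
      (∏ i ∈ Finset.range (WeilCoh.dim Xb.obj.left + 1), Pser T F (2 * i)) =
    ∏ i ∈ Finset.range (WeilCoh.dim Xb.obj.left), Pser T F (2 * i + 1)
  have hPd : ∀ i, PowerSeries.derivative K (Pser T F i) = Pser T F i * (-(Sser T F i)) := by
    intro i
    rw [mul_neg]
    exact LogDet.derivative_charpoly_reverse _
  have hP0 : ∀ i, PowerSeries.constantCoeff (Pser T F i) = 1 := by
    intro i
    rw [Pser, Polynomial.constantCoeff_coe, Polynomial.coeff_zero_reverse]
    exact LinearMap.charpoly_monic _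
  have hE : PowerSeries.derivative K
      (∏ i ∈ Finset.range (WeilCoh.dim Xb.obj.left + 1), Pser T F (2 * i)) =
      (∏ i ∈ Finset.range (WeilCoh.dim Xb.obj.left + 1), Pser T F (2 * i)) *
        ∑ i ∈ Finset.range (WeilCoh.dim Xb.obj.left + 1), -(Sser T F (2 * i)) :=
    derivative_prod_range (fun i => Pser T F (2 * i)) (fun i => -(Sser T F (2 * i)))
      (fun i => hPd (2 * i)) (WeilCoh.dim Xb.obj.left + 1)
  have hO : PowerSeries.derivative K
      (∏ i ∈ Finset.range (WeilCoh.dim Xb.obj.left), Pser T F (2 * i + 1)) =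
      (∏ i ∈ Finset.range (WeilCoh.dim Xb.obj.left), Pser T F (2 * i + 1)) *
        ∑ i ∈ Finset.range (WeilCoh.dim Xb.obj.left), -(Sser T F (2 * i + 1)) :=
    derivative_prod_range (fun i => Pser T F (2 * i + 1)) (fun i => -(Sser T F (2 * i + 1)))
      (fun i => hPd (2 * i + 1)) (WeilCoh.dim Xb.obj.left)
  have hL : PowerSeries.mk (fun m => (Zeta.nPts f (m + 1) : K)) =
      ∑ i ∈ Finset.range (WeilCoh.dim Xb.obj.left + 1), Sser T F (2 * i) -
        ∑ i ∈ Finset.range (WeilCoh.dim Xb.obj.left), Sser T F (2 * i + 1) := by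
    ext m
    rw [PowerSeries.coeff_mk,
      ← LefCount.lefschetz_count k₀ k T f FX hFb hle hFapp Xb π hπ F hF Pb p q hP (m + 1)
        (Nat.succ_ne_zero m),
      ZetaFE.sum_range_even_odd, map_sub, map_sum, map_sum, sub_eq_add_neg,
      ← Finset.sum_neg_distrib]
    congr 1
    · refine Finset.sum_congr rfl fun j _ => ?_
      rw [Sser, PowerSeries.coeff_mk, pow_mul (-1 : K) 2 j, neg_one_sq, one_pow, one_mul]
    · refine Finset.sum_congr rfl fun j _ => ?_
      rw [Sser, PowerSeries.coeff_mk, pow_succ (-1 : K) (2 * j), pow_mul (-1 : K) 2 j, neg_one_sq,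
        one_pow, one_mul, neg_one_mul]
  have hZd := derivative_map_zetaFun f K
  have hc : PowerSeries.derivative K
      (PowerSeries.map (algebraMap ℚ K) (Zeta.zetaFun f) *
        (∏ i ∈ Finset.range (WeilCoh.dim Xb.obj.left + 1), Pser T F (2 * i)) -
        ∏ i ∈ Finset.range (WeilCoh.dim Xb.obj.left), Pser T F (2 * i + 1)) =
      (PowerSeries.map (algebraMap ℚ K) (Zeta.zetaFun f) *
        (∏ i ∈ Finset.range (WeilCoh.dim Xb.obj.left + 1), Pser T F (2 * i)) -
        ∏ i ∈ Finset.range (WeilCoh.dim Xb.obj.left), Pser T F (2 * i + 1)) *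
      (-(∑ i ∈ Finset.range (WeilCoh.dim Xb.obj.left), Sser T F (2 * i + 1))) := by
    rw [map_sub, Derivation.leibniz, hE, hO, hZd, hL, smul_eq_mul, smul_eq_mul,
      Finset.sum_neg_distrib, Finset.sum_neg_distrib]
    ring
  have h0 : PowerSeries.constantCoeff
      (PowerSeries.map (algebraMap ℚ K) (Zeta.zetaFun f) *
        (∏ i ∈ Finset.range (WeilCoh.dim Xb.obj.left + 1), Pser T F (2 * i)) -
        ∏ i ∈ Finset.range (WeilCoh.dim Xb.obj.left), Pser T F (2 * i + 1)) = 0 := by
    rw [map_sub, map_mul, map_prod, map_prod, constantCoeff_map_zetaFun]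
    simp only [hP0, Finset.prod_const_one, mul_one, sub_self]
  exact sub_eq_zero.mp (eq_zero_of_derivative_eq_mul _ _ hc h0)

include T hFb hle hFapp hπ hF hP in
/-- `Z(X,t)` is a rational function over `ℚ`. -/
theorem zeta_rational :
    ∃ P Q : Polynomial ℚ, Q ≠ 0 ∧
      Zeta.zetaFun f * (Q : PowerSeries ℚ) = (P : PowerSeries ℚ) := by
  classical
  have h := zeta_mul_prod k₀ k T f FX hFb hle hFapp Xb π hπ F hF Pb p q hP
  have e1 : ∀ (s : Finset ℕ) (g : ℕ → Polynomial K),
      ((∏ i ∈ s, g i : Polynomial K) : PowerSeries K) = ∏ i ∈ s, (g i : PowerSeries K) :=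
    fun s g => map_prod Polynomial.coeToPowerSeries.ringHom g s
  refine descent (Zeta.zetaFun f)
    (∏ i ∈ Finset.range (WeilCoh.dim Xb.obj.left + 1),
      (LinearMap.charpoly (T.pullDeg F ((2 * i : ℕ) : ℤ))).reverse)
    (∏ i ∈ Finset.range (WeilCoh.dim Xb.obj.left),
      (LinearMap.charpoly (T.pullDeg F ((2 * i + 1 : ℕ) : ℤ))).reverse) ?_ ?_
  · rw [Finset.prod_ne_zero_iff]
    intro i _
    rw [Ne, Polynomial.reverse_eq_zero]
    exact (LinearMap.charpoly_monic _).ne_zero
  · rw [e1, e1]
    exact h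

end Main

end Groth.Agent.Lib.Helper23.ZetaProd
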